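import Cfsg.Statements.S3937
import Mathlib
import Cfsg.Agent.Lib.Grp.Baer
-- import your own Cfsg.Agent.* helpers here

set_option autoImplicit false
open Cfsg

namespace Cfsg.Agent.S3937

open scoped Pointwise commutatorElement
open Cfsg.Agent.Grp

universe w

/-- Iterated commutators with `g`. -/
def engelStep {G : Type w} [Group G] (g : G) (a : G) : G := a * g * a⁻¹ * g⁻¹

theorem foldl_replicate {G : Type w} [Group G] (g x : G) (n : ℕ) :
    (List.replicate n g).foldl (fun a b => a * b * a⁻¹ * b⁻¹) x = (engelStep g)^[n] x := by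
  induction n generalizing x with
  | zero => rfl
  | succ n ih => rw [List.replicate_succ, List.foldl_cons, ih, Function.iterate_succ_apply]; rfl

theorem engel_of_fitting {G : Type w} [Group G] [Finite G] {g : G}
    (hg : g ∈ Cfsg.fittingSubgroup G) (x : G) : ∃ n : ℕ, (engelStep g)^[n] x = 1 := by
  set F := Cfsg.fittingSubgroup G
  have hFn : F.Normal := fittingSubgroup_isNormal (G := G)
  haveI : Group.IsNilpotent F := fittingSubgroup_isNilpotent (G := G)
  have h1 : engelStep g x ∈ F := mul_mem (hFn.conj_mem g hg x) (inv_mem hg)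
  have h2 : ∀ (i : ℕ), ∃ y : F, y ∈ (⊤ : Subgroup F).lowerCentralSeries i ∧
      (y : G) = (engelStep g)^[i + 1] x := by
    intro i
    induction i with
    | zero => exact ⟨⟨_, h1⟩, by simp, rfl⟩
    | succ i ih =>
      obtain ⟨y, hy, he⟩ := ih
      refine ⟨⁅y, ⟨g, hg⟩⁆, ?_, ?_⟩
      · rw [Subgroup.lowerCentralSeries_succ]
        exact Subgroup.commutator_mem_commutator hy (Subgroup.mem_top _)
      · rw [Function.iterate_succ_apply' _ (i + 1), ← he]
        simp [engelStep, commutatorElement_def]
  obtain ⟨c, hc⟩ := (Subgroup.nilpotent_iff_lowerCentralSeries (G := F)).1 inferInstance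
  obtain ⟨y, hy, he⟩ := h2 c
  rw [hc, Subgroup.mem_bot] at hy
  exact ⟨c + 1, by rw [← he, hy]; rfl⟩

theorem fitting_of_engel : ∀ (n : ℕ) {G : Type w} [Group G] [Finite G], Nat.card G = n →
    ∀ g : G, (∀ x : G, ∃ k : ℕ, (engelStep g)^[k] x = 1) → g ∈ Cfsg.fittingSubgroup G := by
  intro n
  induction n using Nat.strong_induction_on with
  | _ n ih =>
  intro G _ _ hn g h
  by_contra hg
  set A := Subgroup.zpowers g with hA
  have hAnil : Group.IsNilpotent A := by
    letI : CommGroup A := IsCyclic.commGroup
    infer_instance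
  have hnot : ¬ A ≤ Cfsg.fittingSubgroup G := fun hle => hg (hle (Subgroup.mem_zpowers g))
  have hyp : ∀ H : Subgroup G, H ≠ ⊤ → A ≤ H → A ≤ fittingIn H := by
    intro H hH hAH
    have hgH : g ∈ H := hAH (Subgroup.mem_zpowers g)
    have key := ih (Nat.card H) (hn ▸ card_lt_of_ne_top hH) rfl (⟨g, hgH⟩ : H) (fun x => by
      obtain ⟨k, hk⟩ := h x
      refine ⟨k, Subtype.ext ?_⟩
      have hsemi : Function.Semiconj (Subtype.val : H → G) (engelStep (⟨g, hgH⟩ : H))
          (engelStep g) := fun a => rfl
      rw [OneMemClass.coe_one, ← hk]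
      exact hsemi.iterate_right k x)
    exact Subgroup.zpowers_le.2 ⟨_, key, rfl⟩
  have hne : A ≠ ⊤ := fun e => hnot (by
    rw [e]
    exact le_fittingSubgroup inferInstance (e ▸ hAnil))
  obtain ⟨M, hM, hAM⟩ := (eq_top_or_exists_le_coatom A).resolve_left hne
  have huniq : ∀ K : Subgroup G, IsCoatom K → A ≤ K → K = M := fun K hK hAK =>
    (fitting_zipper _ A rfl hAnil hnot hyp M K hM hK hAM hAK).symm
  by_cases hMn : M.Normal
  · have hnc : Subgroup.normalClosure (A : Set G) ≤ M := Subgroup.normalClosure_le_normal hAM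
    exact hnot ((hyp _ (fun e => hM.1 (top_unique (e ▸ hnc))) Subgroup.le_normalClosure).trans
      (fittingIn_le_of_isSubnormal Subgroup.normalClosure_normal.isSubnormal))
  · have hself : Subgroup.normalizer (M : Set G) = M := by
      rcases hM.le_iff.1 (Subgroup.le_normalizer (H := M)) with h' | h'
      · exact absurd (Subgroup.normalizer_eq_top_iff.1 h') hMn
      · exact h'
    have step : ∀ x : G, engelStep g x ∈ M → x ∈ M := by
      intro x hx
      have hxgx : x * g * x⁻¹ ∈ M := by
        have := mul_mem hx (hAM (Subgroup.mem_zpowers g))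
        simpa [engelStep] using this
      have hAK : A ≤ MulAut.conj x⁻¹ • M := by
        rw [hA, Subgroup.zpowers_le, mem_smul_conj, inv_inv]
        exact hxgx
      have hco : IsCoatom (MulAut.conj x⁻¹ • M) := by
        rw [← map_conj_eq_smul]
        exact (OrderIso.isCoatom_iff (MulEquiv.mapSubgroup (MulAut.conj x⁻¹)) M).2 hM
      have hfix := mem_normalizer_iff_smul.2 (huniq _ hco hAK)
      rw [hself, inv_mem_iff] at hfix
      exact hfix
    refine hM.1 (eq_top_iff.2 fun x _ => ?_)
    obtain ⟨k, hk⟩ := h x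
    have : ∀ (k : ℕ) (x : G), (engelStep g)^[k] x ∈ M → x ∈ M := by
      intro k
      induction k with
      | zero => intro x hx; exact hx
      | succ k ihk => intro x hx; exact step x (ihk _ hx)
    exact this k x (hk ▸ one_mem M)

/-- Baer's characterization of the Fitting subgroup: in a finite group G, an element g lies in the Fitting subgroup if and only if g is a left Engel element, that is, for every x there is n with [x, g, g, …, g] = 1 (n entries g, [a, b] = aba⁻¹b⁻¹). -/
theorem result {G : Type*} [Group G] [Finite G] (g : G) :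
    g ∈ Cfsg.fittingSubgroup G ↔ ∀ x : G, ∃ n : ℕ, (List.replicate n g).foldl (fun a b => a * b * a⁻¹ * b⁻¹) x = 1 := by
  simp only [foldl_replicate]
  exact ⟨fun hg x => engel_of_fitting hg x, fun h => fitting_of_engel _ rfl g h⟩

end Cfsg.Agent.S3937
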