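import Cfsg.Statements.S3939
import Mathlib
-- import your own Cfsg.Agent.* helpers here

set_option autoImplicit false
open Cfsg

namespace Cfsg.Agent.S3939

open scoped commutatorElement

universe w

theorem nilpotent_pair {G : Type w} [Group G] (g x : G) (N : ℕ)
    (hg : g ∈ Subgroup.upperCentralSeries G N) :
    Group.IsNilpotent ↥(Subgroup.closure ({x, g} : Set G)) := by
  set H := Subgroup.closure ({x, g} : Set G) with hH
  have key : ∀ (i : ℕ) (z : H), (z : G) ∈ Subgroup.upperCentralSeries G i →
      z ∈ Subgroup.upperCentralSeries H i := by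
    intro i
    induction i with
    | zero =>
      intro z hz
      rw [Subgroup.upperCentralSeries_zero, Subgroup.mem_bot] at hz ⊢
      exact Subtype.ext hz
    | succ i ih =>
      intro z hz
      rw [Subgroup.mem_upperCentralSeries_succ_iff] at hz ⊢
      intro y
      exact ih _ (by simpa [commutatorElement_def] using hz y)
  have hgH : g ∈ H := Subgroup.subset_closure (by simp)
  have hxH : x ∈ H := Subgroup.subset_closure (by simp)
  have hgN := key N ⟨g, hgH⟩ hg
  have hgen : ∀ s : Set H, (⟨x, hxH⟩ : H) ∈ s → (⟨g, hgH⟩ : H) ∈ s → Subgroup.closure s = ⊤ := by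
    intro s h1 h2
    rw [eq_top_iff, ← Subgroup.map_le_map_iff_of_injective H.subtype_injective,
      MonoidHom.map_closure, ← MonoidHom.range_eq_map, Subgroup.range_subtype]
    refine le_trans hH.le ((Subgroup.closure_le _).2 ?_)
    rintro y (rfl | rfl)
    · exact Subgroup.subset_closure ⟨_, h1, rfl⟩
    · exact Subgroup.subset_closure ⟨_, h2, rfl⟩
  rw [Group.isNilpotent_iff]
  refine ⟨N + 1, ?_⟩
  set Z := Subgroup.upperCentralSeries H N with hZ
  set f := QuotientGroup.mk' Z with hf
  have hx : (⟨x, hxH⟩ : H) ∈ Subgroup.upperCentralSeries H (N + 1) := by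
    rw [Subgroup.mem_upperCentralSeries_succ_iff]
    intro y
    have hy : y ∈ (Subgroup.centralizer ({f ⟨x, hxH⟩} : Set (H ⧸ Z))).comap f := by
      have : (⊤ : Subgroup H) ≤ (Subgroup.centralizer ({f ⟨x, hxH⟩} : Set (H ⧸ Z))).comap f := by
        rw [← hgen {⟨x, hxH⟩, ⟨g, hgH⟩} (by simp) (by simp), Subgroup.closure_le]
        rintro z (rfl | rfl)
        · exact Subgroup.mem_centralizer_singleton_iff.2 rfl
        · refine Subgroup.mem_centralizer_singleton_iff.2 ?_
          rw [show f ⟨g, hgH⟩ = 1 from (QuotientGroup.eq_one_iff _).2 hgN, one_mul, mul_one]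
      exact this (Subgroup.mem_top y)
    rw [Subgroup.mem_comap, Subgroup.mem_centralizer_singleton_iff] at hy
    rw [← QuotientGroup.eq_one_iff (N := Z)]
    show f (⁅(⟨x, hxH⟩ : H), y⁆) = 1
    rw [map_commutatorElement, commutatorElement_eq_one_iff_commute]
    exact hy.symm
  rw [eq_top_iff, ← hgen _ hx (Subgroup.upperCentralSeries_mono H (Nat.le_succ N) hgN),
    Subgroup.closure_le]

theorem other_prime_dvd_index {G : Type w} [Group G] [Finite G] {p q : ℕ} (hp : p.Prime)
    (hq : q.Prime) (hqP : q ≠ p) (K : Subgroup G) (hK : ∀ y : G, (orderOf y).Coprime p → y ∈ K)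
    (hqd : q ∣ K.index) : False := by
  haveI := Fact.mk hq
  obtain ⟨Q⟩ : Nonempty (Sylow q G) := inferInstance
  have hQK : (Q : Subgroup G) ≤ K := fun y hy => by
    refine hK y ?_
    obtain ⟨j, hj⟩ := IsPGroup.iff_orderOf.1 Q.isPGroup' ⟨y, hy⟩
    rw [← Subgroup.orderOf_mk y hy, hj]
    exact ((Nat.coprime_primes hq hp).2 hqP).pow_left j
  exact Q.not_dvd_index (hqd.trans (Subgroup.index_dvd_of_le hQK))

theorem primary_part_mem {G : Type w} [Group G] [Finite G] {p : ℕ} [hp : Fact p.Prime] (u : G)
    (hu : ∃ k, orderOf u = p ^ k)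
    (hc : ∀ y : G, (orderOf y).Coprime p → u * y = y * u) :
    ∃ i, u ∈ Subgroup.upperCentralSeries G i := by
  obtain ⟨P, hP⟩ : ∃ P : Sylow p G, u ∈ (P : Subgroup G) := by
    obtain ⟨k, hk⟩ := hu
    have : IsPGroup p (Subgroup.zpowers u) := IsPGroup.of_card (by rw [Nat.card_zpowers, hk])
    obtain ⟨P, hP⟩ := this.exists_le_sylow
    exact ⟨P, hP (Subgroup.mem_zpowers u)⟩
  set D := Subgroup.closure {y : G | (orderOf y).Coprime p} with hD
  have hDn : D.Normal := by
    refine ⟨fun x hx g => ?_⟩
    induction hx using Subgroup.closure_induction with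
    | mem z hz =>
      refine Subgroup.subset_closure ?_
      show (orderOf (g * z * g⁻¹)).Coprime p
      rw [show g * z * g⁻¹ = MulAut.conj g z from rfl, MulEquiv.orderOf_eq]
      exact hz
    | one => simp
    | mul a b _ _ iha ihb =>
      have := mul_mem iha ihb
      convert this using 1
      group
    | inv a _ ih =>
      have := inv_mem ih
      convert this using 1
      group
  haveI := hDn
  set f := QuotientGroup.mk' D with hf
  have hDP : ∀ g : G, ∃ a ∈ D, ∃ b ∈ (P : Subgroup G), g = a * b := by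
    have htop : D ⊔ (P : Subgroup G) = ⊤ := by
      rw [← Subgroup.index_eq_one]
      by_contra hne
      obtain ⟨q, hq, hqd⟩ := Nat.exists_prime_and_dvd hne
      have hqP : q ≠ p := fun e => by
        rw [e] at hqd
        exact P.not_dvd_index (hqd.trans (Subgroup.index_dvd_of_le le_sup_right))
      exact other_prime_dvd_index hp.out hq hqP (D ⊔ (P : Subgroup G))
        (fun y hy => Subgroup.mem_sup_left (Subgroup.subset_closure hy)) hqd
    intro g
    obtain ⟨a, ha, b, hb, h⟩ := Subgroup.mem_sup_of_normal_left.1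
      (htop ▸ Subgroup.mem_top g : g ∈ D ⊔ (P : Subgroup G))
    exact ⟨a, ha, b, hb, h.symm⟩
  set K := (P : Subgroup G) ⊓ Subgroup.centralizer (D : Set G) with hK
  haveI : Group.IsNilpotent (P : Subgroup G) := P.isPGroup'.isNilpotent
  have key : ∀ (i : ℕ) (z : (P : Subgroup G)), z ∈ Subgroup.upperCentralSeries (P : Subgroup G) i →
      (z : G) ∈ K → (z : G) ∈ Subgroup.upperCentralSeries G i := by
    intro i
    induction i with
    | zero =>
      intro z hz _
      rw [Subgroup.upperCentralSeries_zero, Subgroup.mem_bot] at hz ⊢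
      simp [hz]
    | succ i ih =>
      intro z hz hzK
      rw [Subgroup.mem_upperCentralSeries_succ_iff] at hz ⊢
      intro g
      obtain ⟨a, ha, b, hb, rfl⟩ := hDP g
      have hza : a * (z : G) = z * a := Subgroup.mem_centralizer_iff.1 hzK.2 a ha
      have hbz : b * (z : G)⁻¹ * b⁻¹ ∈ Subgroup.centralizer (D : Set G) := by
        rw [Subgroup.mem_centralizer_iff]
        intro d hd
        have hd' : b⁻¹ * d * b ∈ D := by simpa using hDn.conj_mem d hd b⁻¹
        have h := Subgroup.mem_centralizer_iff.1 (inv_mem hzK.2) _ hd'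
        calc d * (b * (z : G)⁻¹ * b⁻¹) = b * ((b⁻¹ * d * b) * (z : G)⁻¹) * b⁻¹ := by group
          _ = b * ((z : G)⁻¹ * (b⁻¹ * d * b)) * b⁻¹ := by rw [h]
          _ = b * (z : G)⁻¹ * b⁻¹ * d := by group
      have hcK : ⁅(z : G), b⁆ ∈ K := by
        refine ⟨?_, ?_⟩
        · exact (show _ ∈ (P : Subgroup G) from mul_mem (mul_mem (mul_mem z.2 hb) (inv_mem z.2)) (inv_mem hb))
        · show ⁅(z : G), b⁆ ∈ Subgroup.centralizer (D : Set G)
          rw [show ⁅(z : G), b⁆ = (z : G) * (b * (z : G)⁻¹ * b⁻¹) by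
            rw [commutatorElement_def]; group]
          exact mul_mem hzK.2 hbz
      have hi := ih ⁅z, ⟨b, hb⟩⁆ (hz ⟨b, hb⟩) (by simpa [commutatorElement_def] using hcK)
      have hac : a * ⁅(z : G), b⁆ = ⁅(z : G), b⁆ * a := Subgroup.mem_centralizer_iff.1 hcK.2 a ha
      have e : ⁅(z : G), a * b⁆ = ⁅(z : G), b⁆ := by
        rw [commutatorElement_def, commutatorElement_def] at *
        calc (z : G) * (a * b) * (z : G)⁻¹ * (a * b)⁻¹
            = ((z : G) * a) * (b * (z : G)⁻¹ * b⁻¹) * a⁻¹ := by group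
          _ = a * ((z : G) * b * (z : G)⁻¹ * b⁻¹) * a⁻¹ := by rw [← hza]; group
          _ = (z : G) * b * (z : G)⁻¹ * b⁻¹ := by rw [hac]; group
      have e' : ⁅(z : G), a * b⁆ = ((⁅z, (⟨b, hb⟩ : (P : Subgroup G))⁆ : (P : Subgroup G)) : G) := by
        rw [e]; simp [commutatorElement_def]
      rw [e']
      exact hi
  obtain ⟨c, hcn⟩ := Group.IsNilpotent.nilpotent (P : Subgroup G)
  refine ⟨c, key c ⟨u, hP⟩ (hcn ▸ Subgroup.mem_top _) ⟨hP, ?_⟩⟩
  show u ∈ Subgroup.centralizer (D : Set G)
  have : D ≤ Subgroup.centralizer ({u} : Set G) := by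
    rw [hD, Subgroup.closure_le]
    intro y hy
    exact Subgroup.mem_centralizer_singleton_iff.2 (hc y hy).symm
  rw [Subgroup.mem_centralizer_iff]
  exact fun d hd => Subgroup.mem_centralizer_singleton_iff.1 (this hd)

theorem commute_of_coprime_of_nilpotent {H : Type w} [Group H] [Finite H] [Group.IsNilpotent H]
    (a b : H) (h : (orderOf a).Coprime (orderOf b)) : Commute a b := by
  classical
  obtain ⟨e⟩ := (Group.isNilpotent_of_finite_tfae.out 0 4).1 (inferInstance : Group.IsNilpotent H)
  apply e.symm.injective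
  rw [map_mul, map_mul]
  funext p P
  have hd : ∀ z : H, orderOf (e.symm z p P) ∣ orderOf z := fun z => by
    have h1 : orderOf (e.symm z) = orderOf z := e.symm.orderOf_eq z
    rw [← h1]
    refine orderOf_dvd_of_pow_eq_one ?_
    rw [← Pi.pow_apply, ← Pi.pow_apply, pow_orderOf_eq_one, Pi.one_apply, Pi.one_apply]
  haveI := Fact.mk (Nat.prime_of_mem_primeFactors p.2)
  obtain ⟨i, hi⟩ := IsPGroup.iff_orderOf.1 P.isPGroup' (e.symm a p P)
  obtain ⟨j, hj⟩ := IsPGroup.iff_orderOf.1 P.isPGroup' (e.symm b p P)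
  rcases Nat.eq_zero_or_pos i with rfl | hi0
  · rw [pow_zero, orderOf_eq_one_iff] at hi
    simp [hi]
  rcases Nat.eq_zero_or_pos j with rfl | hj0
  · rw [pow_zero, orderOf_eq_one_iff] at hj
    simp [hj]
  exfalso
  have := (h.coprime_dvd_left (hd a)).coprime_dvd_right (hd b)
  rw [hi, hj, Nat.coprime_pow_left_iff hi0, Nat.coprime_pow_right_iff hj0, Nat.coprime_self] at this
  exact (Nat.prime_of_mem_primeFactors p.2).ne_one this

/-- In a finite group G the set of elements g such that the subgroup generated by g and x is nilpotent for every x ∈ G is exactly the hypercenter of G (the last term of the upper central series). -/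
theorem result {G : Type*} [Group G] [Finite G] (g : G) :
    (∀ x : G, Group.IsNilpotent ↥(Subgroup.closure ({x, g} : Set G))) ↔ g ∈ ⨆ n : ℕ, Subgroup.upperCentralSeries G n := by
  have hmono : Monotone fun n : ℕ => Subgroup.upperCentralSeries G n :=
    Subgroup.upperCentralSeries_mono G
  constructor
  · intro h
    set Z : Subgroup G := ⨆ n : ℕ, Subgroup.upperCentralSeries G n with hZ
    set m := orderOf g with hm
    have hm0 : m ≠ 0 := (orderOf_pos g).ne'
    have hpart : ∀ p : ℕ, p.Prime → p ∣ m → g ^ (m / p ^ (m.factorization p)) ∈ Z := by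
      intro p hp hpm
      haveI := Fact.mk hp
      set u := g ^ (m / p ^ (m.factorization p)) with hu
      have hou : orderOf u = p ^ (m.factorization p) := by
        rw [hu, orderOf_pow_orderOf_div hm0 (Nat.ordProj_dvd m p)]
      obtain ⟨i, hi⟩ := primary_part_mem u ⟨_, hou⟩ fun y hy => by
        haveI := h y
        set H := Subgroup.closure ({y, g} : Set G)
        have hgH : g ∈ H := Subgroup.subset_closure (by simp)
        have hyH : y ∈ H := Subgroup.subset_closure (by simp)
        have hc := commute_of_coprime_of_nilpotent (⟨u, pow_mem hgH _⟩ : H) ⟨y, hyH⟩ (by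
          rw [Subgroup.orderOf_mk, Subgroup.orderOf_mk, hou]
          exact (hy.pow_right _).symm)
        exact congrArg Subtype.val hc.eq
      exact le_iSup (fun n : ℕ => Subgroup.upperCentralSeries G n) i hi
    haveI : Z.Normal := by
      refine ⟨fun x hx y => ?_⟩
      rw [hZ, Subgroup.mem_iSup_of_directed hmono.directed_le] at hx ⊢
      obtain ⟨i, hi⟩ := hx
      exact ⟨i, Subgroup.Normal.conj_mem inferInstance x hi y⟩
    rw [← QuotientGroup.eq_one_iff (N := Z), ← orderOf_eq_one_iff]
    by_contra hne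
    obtain ⟨q, hq, hqd⟩ := Nat.exists_prime_and_dvd hne
    have hdm : orderOf (QuotientGroup.mk g : G ⧸ Z) ∣ m :=
      orderOf_map_dvd (QuotientGroup.mk' Z) g
    have hqm : q ∣ m := hqd.trans hdm
    have h1 : (QuotientGroup.mk g : G ⧸ Z) ^ (m / q ^ (m.factorization q)) = 1 := by
      rw [← QuotientGroup.mk_pow, QuotientGroup.eq_one_iff]
      exact hpart q hq hqm
    exact Nat.not_dvd_ordCompl hq hm0 (hqd.trans (orderOf_dvd_of_pow_eq_one h1))
  · intro hg x
    rw [Subgroup.mem_iSup_of_directed hmono.directed_le] at hg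
    obtain ⟨N, hN⟩ := hg
    exact nilpotent_pair g x N hN

end Cfsg.Agent.S3939
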