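import Cfsg.Statements.S3941
import Mathlib

set_option autoImplicit false
open Cfsg

namespace Cfsg.Agent.S3941

/-- Let n ≥ 5 and p an odd prime with p ≤ n, and suppose that every proper subgroup of the alternating group of degree n whose order is divisible by p has a normal Sylow p-subgroup. Then n = p. -/
theorem result (n p : ℕ) (hn : 5 ≤ n) [Fact p.Prime] (hp : p ≠ 2) (hpn : p ≤ n)
    (h : ∀ H : Subgroup ↥(alternatingGroup (Fin n)), H ≠ ⊤ → p ∣ Nat.card ↥H → Cfsg.IsPClosed p ↥H) : n = p := by
  by_contra hne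
  have hp3 : 3 ≤ p := by
    have := (Fact.out : p.Prime).two_le
    omega
  have hlt : p < n := lt_of_le_of_ne hpn (Ne.symm hne)
  obtain ⟨m, rfl⟩ : ∃ m, n = m + 1 := ⟨n - 1, by omega⟩
  let ι : Fin m ↪ Fin (m + 1) := Fin.castSuccEmb
  set φ : Equiv.Perm (Fin m) →* Equiv.Perm (Fin (m + 1)) := Equiv.Perm.viaEmbeddingHom ι with hφ
  have hinj : Function.Injective φ := Equiv.Perm.viaEmbeddingHom_injective ι
  have hφA : ∀ σ ∈ alternatingGroup (Fin m), φ σ ∈ alternatingGroup (Fin (m + 1)) := fun σ hσ => by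
    rw [Equiv.Perm.mem_alternatingGroup] at hσ ⊢
    rw [hφ, Equiv.Perm.viaEmbeddingHom_apply, Equiv.Perm.viaEmbedding, ← hσ]
    convert Equiv.Perm.sign_extendDomain σ _
  let ψ : alternatingGroup (Fin m) →* alternatingGroup (Fin (m + 1)) :=
    (φ.comp (alternatingGroup (Fin m)).subtype).codRestrict _ (fun σ => hφA σ σ.2)
  have hψ : Function.Injective ψ := fun a b e => Subtype.ext (hinj (congrArg Subtype.val e))
  have hnt : Nontrivial (Fin m) := Fin.nontrivial_iff_two_le.mpr (by omega)
  have hcardA : ∀ j : ℕ, 2 ≤ j → 2 * Nat.card (alternatingGroup (Fin j)) = j.factorial := by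
    intro j hj
    haveI : Nontrivial (Fin j) := Fin.nontrivial_iff_two_le.mpr hj
    rw [two_mul_nat_card_alternatingGroup, Nat.card_perm, Nat.card_fin]
  have htop : ψ.range ≠ ⊤ := by
    intro e
    have h1 : Nat.card ψ.range = Nat.card (alternatingGroup (Fin m)) := (Nat.card_congr (MonoidHom.ofInjective hψ).toEquiv).symm
    rw [e, Subgroup.card_top] at h1
    have h2 := hcardA m (by omega)
    have h3 := hcardA (m + 1) (by omega)
    rw [h1] at h3
    rw [h3, Nat.factorial_succ] at h2
    have := Nat.factorial_pos m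
    nlinarith
  have hpd : p ∣ Nat.card (alternatingGroup (Fin m)) := by
    have h2 := hcardA m (by omega)
    have h4 : p ∣ 2 * Nat.card (alternatingGroup (Fin m)) := h2 ▸ (Fact.out : p.Prime).dvd_factorial.mpr (by omega)
    rcases (Fact.out : p.Prime).dvd_mul.mp h4 with h5 | h5
    · have := Nat.le_of_dvd (by norm_num) h5; omega
    · exact h5
  have hcl := h ψ.range htop (by rwa [← Nat.card_congr (MonoidHom.ofInjective hψ).toEquiv])
  have hclA : ∀ P : Sylow p (alternatingGroup (Fin m)), (P : Subgroup (alternatingGroup (Fin m))).Normal := by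
    intro P
    let e := MonoidHom.ofInjective hψ
    haveI := hcl (P.mapSurjective (f := e.toMonoidHom) e.surjective)
    have h2 : ((P : Subgroup (alternatingGroup (Fin m))).map e.toMonoidHom).Normal := this
    have := h2.comap e.toMonoidHom
    rwa [Subgroup.comap_map_eq_self_of_injective (f := e.toMonoidHom) e.injective] at this
  obtain ⟨P⟩ : Nonempty (Sylow p (alternatingGroup (Fin m))) := Sylow.nonempty
  have hPne : (P : Subgroup (alternatingGroup (Fin m))) ≠ ⊥ := P.ne_bot_of_dvd_card hpd
  rcases Nat.lt_or_ge m 5 with hm | hm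
  · obtain rfl : m = 4 := by omega
    obtain rfl : p = 3 := by
      have h5 := (Fact.out : p.Prime)
      interval_cases p
      · rfl
      · exact absurd h5 (by norm_num)
    haveI := Sylow.unique_of_normal P (hclA P)
    let a : alternatingGroup (Fin 4) := ⟨Equiv.swap 0 1 * Equiv.swap 1 2, by rw [Equiv.Perm.mem_alternatingGroup, map_mul, Equiv.Perm.sign_swap (by decide), Equiv.Perm.sign_swap (by decide)]; rfl⟩
    let b : alternatingGroup (Fin 4) := ⟨Equiv.swap 0 1 * Equiv.swap 1 3, by rw [Equiv.Perm.mem_alternatingGroup, map_mul, Equiv.Perm.sign_swap (by decide), Equiv.Perm.sign_swap (by decide)]; rfl⟩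
    have hmem : ∀ g : alternatingGroup (Fin 4), g ^ 3 = 1 → g ∈ (P : Subgroup (alternatingGroup (Fin 4))) := fun g hg => by
      obtain ⟨Q, hQ⟩ := (show IsPGroup 3 (Subgroup.zpowers g) from fun w => ⟨1, by
        obtain ⟨k, hk⟩ := Subgroup.mem_zpowers_iff.mp w.2
        apply Subtype.ext
        rw [pow_one, Subgroup.coe_pow, ← hk, ← zpow_natCast, ← zpow_mul, mul_comm, zpow_mul, zpow_natCast, hg, one_zpow, Subgroup.coe_one]⟩).exists_le_sylow
      rw [Subsingleton.elim Q P] at hQ
      exact hQ (Subgroup.mem_zpowers g)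
    obtain ⟨k, hk⟩ := P.isPGroup' ⟨a * b, mul_mem (hmem a (by decide)) (hmem b (by decide))⟩
    have hab : (a * b) ^ 2 = 1 := by decide
    have h6 : orderOf (a * b) ∣ 3 ^ k := orderOf_dvd_of_pow_eq_one (congrArg Subtype.val hk)
    have h7 : orderOf (a * b) = 1 := Nat.eq_one_of_dvd_coprimes (Nat.Coprime.pow_left k (by norm_num))
      h6 (orderOf_dvd_of_pow_eq_one hab)
    exact absurd (orderOf_eq_one_iff.mp h7) (by decide)
  · haveI := alternatingGroup.isSimpleGroup (α := Fin m) (by simpa using hm)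
    rcases IsSimpleGroup.eq_bot_or_eq_top_of_normal _ (hclA P) with e | e
    · exact hPne e
    · have hP : IsPGroup p (alternatingGroup (Fin m)) := fun g => by
        obtain ⟨k, hk⟩ := P.isPGroup' ⟨g, e ▸ Subgroup.mem_top g⟩
        exact ⟨k, congrArg Subtype.val hk⟩
      obtain ⟨j, hj⟩ := IsPGroup.iff_card.mp hP
      have h2 := hcardA m (by omega)
      have h8 : 2 ∣ Nat.card (alternatingGroup (Fin m)) := by
        have h9 : 4 ∣ 2 * Nat.card (alternatingGroup (Fin m)) := h2 ▸ (Nat.dvd_factorial (by norm_num) (by omega))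
        omega
      rw [hj] at h8
      have := (Nat.prime_dvd_prime_iff_eq Nat.prime_two Fact.out).mp (Nat.prime_two.dvd_of_dvd_pow h8)
      omega

end Cfsg.Agent.S3941
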