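import Cfsg.Statements.S3949
import Mathlib

set_option autoImplicit false
open Cfsg

namespace Cfsg.Agent.S3949

/-- Let G be a finite group and α an automorphism of G of order 2 such that the elements g·α(g)⁻¹ generate G. Let j be a positive integer such that 2^j divides the order of no element inverted by α. Then the set of values of the j-th iterate of the map c ↦ c·α(c)⁻¹ is exactly the set of elements of odd order inverted by α. -/
theorem result {G : Type*} [Group G] [Finite G] (α : MulAut G) (hα : orderOf α = 2) (hG : Subgroup.closure (Set.range (fun c : G => c * (α c)⁻¹)) = ⊤)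
    (j : ℕ) (hj : ∀ g : G, α g = g⁻¹ → ¬ 2 ^ j ∣ orderOf g) :
    Set.range ((fun c : G => c * (α c)⁻¹)^[j]) = {g : G | Odd (orderOf g) ∧ α g = g⁻¹} := by
  set f : G → G := fun c => c * (α c)⁻¹ with hf
  have hαα : ∀ c, α (α c) = c := fun c => by
    have h : α * α = 1 := by rw [← sq, ← hα, pow_orderOf_eq_one]
    exact DFunLike.congr_fun h c
  have hinv : ∀ c, α (f c) = (f c)⁻¹ := fun c => by
    simp only [hf, map_mul, map_inv, hαα, mul_inv_rev, inv_inv]
  have hit : ∀ g, α g = g⁻¹ → ∀ i, f^[i] g = g ^ 2 ^ i := by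
    intro g hg i
    induction i with
    | zero => simp
    | succ i ih =>
      rw [Function.iterate_succ_apply', ih]
      show g ^ 2 ^ i * (α (g ^ 2 ^ i))⁻¹ = _
      rw [map_pow, hg, inv_pow, inv_inv, ← pow_add, pow_succ]
      ring_nf
  obtain ⟨i, rfl⟩ : ∃ i, j = i + 1 := Nat.exists_eq_succ_of_ne_zero fun e => hj 1 (by simp) (by simp [e])
  ext g
  constructor
  · rintro ⟨c, rfl⟩
    rw [Function.iterate_succ_apply, hit _ (hinv c)]
    obtain ⟨a, d, hd, hod⟩ : ∃ a d : ℕ, ¬ 2 ∣ d ∧ orderOf (f c) = 2 ^ a * d :=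
      Nat.exists_eq_pow_mul_and_not_dvd (orderOf_pos _).ne' 2 (by norm_num)
    have hai : a ≤ i := by
      by_contra h
      exact hj (f c) (hinv c) (hod ▸ (pow_dvd_pow 2 (by omega : i + 1 ≤ a)).trans (dvd_mul_right _ _))
    refine ⟨?_, by rw [map_pow, hinv, inv_pow]⟩
    have : orderOf (f c ^ 2 ^ i) ∣ d := orderOf_dvd_of_pow_eq_one (by
      rw [← pow_mul]; exact orderOf_dvd_iff_pow_eq_one.mp (hod ▸ mul_dvd_mul_right (pow_dvd_pow 2 hai) d))
    exact Odd.of_dvd_nat (Nat.odd_iff.mpr (by omega)) this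
  · rintro ⟨hodd, hg⟩
    obtain ⟨m, hm⟩ := exists_pow_eq_self_of_coprime (x := g) (n := 2 ^ (i + 1)) (Nat.Coprime.pow_left _ (Nat.coprime_two_left.mpr hodd))
    refine ⟨g ^ m, ?_⟩
    show f^[i + 1] (g ^ m) = g
    rw [hit _ (by rw [map_pow, hg, inv_pow]), ← pow_mul, mul_comm, pow_mul, hm]

end Cfsg.Agent.S3949
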