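import Cfsg.Statements.S3979
import Mathlib

set_option autoImplicit false
open Cfsg
open scoped commutatorElement

namespace Cfsg.Agent.S3979

/-- A finite cyclic group has trivial Schur multiplier: every finite stem extension of it is an isomorphism, said through `HasCyclicSchurMultiplier G 1`. -/
theorem result {G : Type*} [Group G] [Finite G] [IsCyclic G] : Cfsg.HasCyclicSchurMultiplier G 1 := by
  have hbot : ∀ (Γ : Type _) [Group Γ] [Finite Γ] (σ : Γ →* G), σ.ker ≤ Subgroup.center Γ → σ.ker ≤ commutator Γ → σ.ker = ⊥ := by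
    intro Γ _ _ σ h2 h3
    rw [eq_bot_iff]
    refine h3.trans ?_
    rw [commutator_def, Subgroup.commutator_le]
    intro a _ b _
    rw [Subgroup.mem_bot, commutatorElement_eq_one_iff_mul_comm]
    exact σ.isMulCommutative_of_isCyclic_of_ker_le_center h2 |>.is_comm.comm a b
  refine ⟨⟨G, inferInstance, inferInstance, MonoidHom.id G, ⟨Function.surjective_id, ?_, ?_⟩, ⟨?_⟩⟩, fun Γ _ _ σ h => ?_⟩
  · rw [MonoidHom.ker_id]; exact bot_le
  · rw [MonoidHom.ker_id]; exact bot_le
  · haveI : Unique (MonoidHom.id G).ker := by rw [MonoidHom.ker_id]; infer_instance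
    haveI : Unique (Multiplicative (ZMod 1)) := ⟨⟨1⟩, fun a => Subsingleton.elim _ _⟩
    exact MulEquiv.ofUnique
  · refine ⟨1, fun k => ⟨1, ?_⟩⟩
    have := hbot Γ σ h.2.1 h.2.2
    apply Subtype.ext
    have hk : (k : Γ) = 1 := Subgroup.mem_bot.mp (this.le k.2)
    simp [hk]

end Cfsg.Agent.S3979
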