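import Cfsg.Statements.S3950
import Mathlib
import Cfsg.Agent.Lib.Grp.SchurM.Bilinear
import Cfsg.Agent.Lib.Grp.SchurM.Projective
import Cfsg.Agent.S3979

set_option autoImplicit false
open Cfsg
open scoped commutatorElement

namespace Cfsg.Agent.S3950

/-- A finite abelian group has trivial Schur multiplier if and only if it is cyclic. -/
theorem result {G : Type*} [CommGroup G] [Finite G] : Cfsg.HasCyclicSchurMultiplier G 1 ↔ IsCyclic G := by
  constructor
  · intro h
    classical
    obtain ⟨ι, _, n, hn, ⟨e⟩⟩ := CommGroup.equiv_prod_multiplicative_zmod_of_finite G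
    by_cases hco : Pairwise fun i j => (n i).Coprime (n j)
    · have e' : Multiplicative (ZMod (∏ i, n i)) ≃* G :=
        ((ZMod.prodEquivPi n hco).toAddEquiv.toMultiplicative).trans ((MulEquiv.piMultiplicative fun i => ZMod (n i)).trans e.symm)
      exact isCyclic_of_surjective e' e'.surjective
    · exfalso
      simp only [Pairwise, not_forall] at hco
      obtain ⟨i, j, hij, hco⟩ := hco
      obtain ⟨p, hp, hpi, hpj⟩ := Nat.Prime.not_coprime_iff_dvd.mp hco
      have := Fact.mk hp
      let χi : G →* Multiplicative (ZMod p) := ((ZMod.castHom hpi (ZMod p)).toAddMonoidHom.toMultiplicative).comp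
        ((Pi.evalMonoidHom _ i).comp e.toMonoidHom)
      let χj : G →* Multiplicative (ZMod p) := ((ZMod.castHom hpj (ZMod p)).toAddMonoidHom.toMultiplicative).comp
        ((Pi.evalMonoidHom _ j).comp e.toMonoidHom)
      let b : G →* G →* Multiplicative (ZMod p) :=
        { toFun := fun g =>
            { toFun := fun h => Multiplicative.ofAdd (Multiplicative.toAdd (χi g) * Multiplicative.toAdd (χj h))
              map_one' := by simp
              map_mul' := fun x y => by simp [mul_add] }
          map_one' := by ext; simp
          map_mul' := fun x y => by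
            ext z
            simp only [MonoidHom.coe_mk, OneHom.coe_mk, MonoidHom.mul_apply, map_mul, toAdd_mul, add_mul, ofAdd_add] }
      refine Agent.Grp.SchurM.not_trivial_of_bilinear b (g := e.symm (Pi.mulSingle i (Multiplicative.ofAdd 1)))
        (h := e.symm (Pi.mulSingle j (Multiplicative.ofAdd 1))) ?_ h
      simp [b, χi, χj, Pi.mulSingle_eq_of_ne hij, map_one, ZMod.cast_one hpi, ZMod.cast_one hpj]
  · intro h
    exact Agent.S3979.result

end Cfsg.Agent.S3950
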