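import Cfsg.Statements.S3951
import Mathlib
import Cfsg.Agent.Lib.Grp.SchurM.Bilinear
import Cfsg.Agent.Lib.Grp.SchurM.Projective

set_option autoImplicit false
open Cfsg
open scoped commutatorElement

namespace Cfsg.Agent.S3951

/-- For positive integers `m` and `n` with `n` dividing `m`, the Schur multiplier of the abelian group `ZMod m × ZMod n` (written multiplicatively) is cyclic of order `n`. In particular the elementary abelian group of order `p ^ 2` has multiplier of order `p`. -/
theorem result (m n : ℕ) [NeZero m] [NeZero n] (hnm : n ∣ m) : Cfsg.HasCyclicSchurMultiplier (Multiplicative (ZMod m × ZMod n)) n := by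
  let f := Agent.Grp.SchurM.std (Multiplicative (ZMod m × ZMod n))
  have hf := Agent.Grp.SchurM.std_surjective (Multiplicative (ZMod m × ZMod n))
  let b : (Multiplicative (ZMod m × ZMod n)) →* (Multiplicative (ZMod m × ZMod n)) →* Multiplicative (ZMod n) :=
    { toFun := fun x =>
        { toFun := fun y => Multiplicative.ofAdd (ZMod.castHom hnm (ZMod n) (Multiplicative.toAdd x).1 * (Multiplicative.toAdd y).2)
          map_one' := by simp
          map_mul' := fun u v => by rw [toAdd_mul, Prod.snd_add, mul_add, ofAdd_add] }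
      map_one' := by ext; simp
      map_mul' := fun u v => by
        refine MonoidHom.ext fun z => ?_
        simp only [MonoidHom.coe_mk, OneHom.coe_mk, MonoidHom.mul_apply, toAdd_mul, Prod.fst_add, map_add, add_mul, ofAdd_add] }
  let x : (Multiplicative (ZMod m × ZMod n)) := Multiplicative.ofAdd (1, 0)
  let y : (Multiplicative (ZMod m × ZMod n)) := Multiplicative.ofAdd (0, 1)
  obtain ⟨β, hβ⟩ := Agent.Grp.SchurM.exists_lift f (MonoidHom.id (Multiplicative (ZMod m × ZMod n))) (Agent.Grp.SchurM.BExt.proj b)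
    Agent.Grp.SchurM.BExt.proj_surjective Agent.Grp.SchurM.BExt.ker_le_center
  rw [MonoidHom.id_comp] at hβ
  have hmap := Agent.Grp.SchurM.map_mult f hf (Agent.Grp.SchurM.BExt.proj b) Agent.Grp.SchurM.BExt.ker_le_center β hβ
  have := Agent.Grp.SchurM.finite_mult f
  let φ : Agent.Grp.SchurM.mult f →* Multiplicative (ZMod n) :=
    { toFun := fun k => (β k).c
      map_one' := by
        show (β ((1 : Agent.Grp.SchurM.mult f) : Agent.Grp.SchurM.UE f)).c = 1
        rw [OneMemClass.coe_one, map_one]; rfl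
      map_mul' := fun k l => by
        have hk : (β k).g = 1 := by
          have h1 : β k ∈ (Agent.Grp.SchurM.BExt.proj b).ker ⊓ commutator _ := hmap ▸ Subgroup.mem_map_of_mem β k.2
          exact h1.1
        rw [Subgroup.coe_mul, map_mul]
        show (β k).c * (β l).c * b (β k).g (β l).g = _
        rw [hk, map_one, MonoidHom.one_apply, mul_one] }
  have hsurj : Function.Surjective φ := by
    intro u
    have h1 := Agent.Grp.SchurM.BExt.mk_mem (b := b) (x ^ (Multiplicative.toAdd u).val) y
    rw [← hmap] at h1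
    obtain ⟨k, hk, hke⟩ := h1
    refine ⟨⟨k, hk⟩, ?_⟩
    show (β k).c = u
    rw [hke]
    show b (x ^ (Multiplicative.toAdd u).val) y * (b y (x ^ (Multiplicative.toAdd u).val))⁻¹ = u
    rw [map_pow, map_pow, MonoidHom.pow_apply]
    simp [b, x, y, ← ofAdd_nsmul, ZMod.cast_one hnm]
  have hle : Nat.card (Agent.Grp.SchurM.mult f) ≤ n := by
    obtain ⟨a₁, ha₁⟩ := Agent.Grp.SchurM.rho_surjective f hf x
    obtain ⟨a₂, ha₂⟩ := Agent.Grp.SchurM.rho_surjective f hf y
    have hcen : ⁅a₁, a₂⁆ ∈ Subgroup.center (Agent.Grp.SchurM.UE f) := by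
      refine Agent.Grp.SchurM.rel_le_center f ?_
      show Agent.Grp.SchurM.rho f _ = 1
      rw [map_commutatorElement, commutatorElement_eq_one_iff_mul_comm, mul_comm]
    have hgen : Subgroup.closure ({Agent.Grp.SchurM.rho f a₁, Agent.Grp.SchurM.rho f a₂} : Set (Multiplicative (ZMod m × ZMod n))) = ⊤ := by
      rw [ha₁, ha₂, eq_top_iff]
      intro q _
      have : q = x ^ (Multiplicative.toAdd q).1.val * y ^ (Multiplicative.toAdd q).2.val := by
        apply Multiplicative.toAdd.injective
        ext <;> simp [x, y, toAdd_pow]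
      rw [this]
      exact mul_mem (pow_mem (Subgroup.subset_closure (by simp)) _) (pow_mem (Subgroup.subset_closure (by simp)) _)
    have hz : ∀ g : Agent.Grp.SchurM.UE f, g * ⁅a₁, a₂⁆ * g⁻¹ ∈ Subgroup.zpowers ⁅a₁, a₂⁆ := fun g => by
      rw [Subgroup.mem_center_iff.mp hcen g, mul_inv_cancel_right]; exact Subgroup.mem_zpowers _
    have hle := Agent.Grp.SchurM.commutator_le_zpowers (Agent.Grp.SchurM.rel_le_center f) hgen (hz a₁) (hz a₂)
      (by simpa using hz a₁⁻¹) (by simpa using hz a₂⁻¹)
    have hord : ⁅a₁, a₂⁆ ^ n = 1 := by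
      rw [← Agent.Grp.SchurM.commutator_pow_right hcen, commutatorElement_eq_one_iff_mul_comm]
      refine Subgroup.mem_center_iff.mp (Agent.Grp.SchurM.rel_le_center f ?_) a₁
      show Agent.Grp.SchurM.rho f _ = 1
      rw [map_pow, ha₂]
      apply Multiplicative.toAdd.injective
      ext <;> simp [y, toAdd_pow]
    have hm : Agent.Grp.SchurM.mult f ≤ Subgroup.zpowers ⁅a₁, a₂⁆ := inf_le_right.trans hle
    have hfo : IsOfFinOrder ⁅a₁, a₂⁆ := isOfFinOrder_iff_pow_eq_one.mpr ⟨n, Nat.pos_of_ne_zero (NeZero.ne n), hord⟩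
    have : Finite (Subgroup.zpowers ⁅a₁, a₂⁆) := hfo.finite_zpowers
    refine (Nat.card_le_card_of_injective _ (Subgroup.inclusion_injective hm)).trans ?_
    rw [Nat.card_zpowers]
    exact Nat.le_of_dvd (Nat.pos_of_ne_zero (NeZero.ne n)) (orderOf_dvd_of_pow_eq_one hord)
  have hbij : Function.Bijective φ := (Nat.bijective_iff_surjective_and_card φ).mpr ⟨hsurj, le_antisymm
    (hle.trans (by simp)) (Nat.card_le_card_of_surjective φ hsurj)⟩
  exact Agent.Grp.SchurM.hasSchurMultiplier_of_equiv f hf (MulEquiv.ofBijective φ hbij).symm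

end Cfsg.Agent.S3951
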