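import Cfsg.Statements.S3952
import Mathlib
import Cfsg.Agent.Lib.Char.Kernel
import Cfsg.Agent.Lib.Char.Complete
import Cfsg.Agent.Lib.Spor.Multiplier

set_option autoImplicit false
open Cfsg

namespace Cfsg.Agent.S3952

/-- If `A` is the Schur multiplier of the finite group `Q`, then the square of the exponent of `A` divides the order of `Q`. -/
theorem result {Q : Type*} [Group Q] [Finite Q] {A : Type*} [CommGroup A] (hA : Cfsg.HasSchurMultiplier Q A) : Monoid.exponent A ^ 2 ∣ Nat.card Q := by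
  classical
  obtain ⟨⟨Γ, _, _, σ, hσ, ⟨e⟩⟩, -⟩ := hA
  have hfinA : Finite A := Finite.of_equiv _ e.toEquiv
  have hQ : Nat.card Q = σ.ker.index := by
    rw [Subgroup.index_ker, MonoidHom.range_eq_top.mpr hσ.1, Subgroup.card_top]
  obtain ⟨a, ha⟩ := Monoid.exists_orderOf_eq_exponent (Monoid.ExponentExists.of_finite (G := A))
  have hexp : 0 < Monoid.exponent A := ha ▸ orderOf_pos a
  refine (Nat.dvd_iff_prime_pow_dvd_dvd _ _).mpr fun p k hp hk => ?_
  have := Fact.mk hp
  set m := (Monoid.exponent A).factorization p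
  have hk2 : k ≤ 2 * m := by
    have h1 := (hp.pow_dvd_iff_le_factorization (pow_pos hexp 2).ne').mp hk
    simpa [Nat.factorization_pow] using h1
  refine (pow_dvd_pow p hk2).trans ?_
  rcases Nat.eq_zero_or_pos m with hm | hm
  · rw [hm]; simp
  -- an element of order p^m in the kernel
  set c := a ^ (Monoid.exponent A / p ^ m)
  have hc : orderOf c = p ^ m := by
    have hd : p ^ m ∣ Monoid.exponent A := Nat.ordProj_dvd _ p
    rw [orderOf_pow_of_dvd (Nat.div_pos (Nat.le_of_dvd hexp hd) (pow_pos hp.pos m)).ne' (by rw [ha]; exact Nat.div_dvd_of_dvd hd), ha,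
      Nat.div_div_self hd hexp.ne']
  set z : Γ := ((e.symm c : σ.ker) : Γ)
  have hzK : z ∈ σ.ker := (e.symm c).2
  have hzo : orderOf z = p ^ m := by
    rw [Subgroup.orderOf_coe, MulEquiv.orderOf_eq, hc]
  have hzp : IsPGroup p (Subgroup.zpowers z) := IsPGroup.of_card (n := m) (by rw [Nat.card_zpowers, hzo])
  obtain ⟨S, hS⟩ := hzp.exists_le_sylow
  have hzS : z ∈ (S : Subgroup Γ) := hS (Subgroup.mem_zpowers z)
  have hzd : z ∈ ⁅(S : Subgroup Γ), (S : Subgroup Γ)⁆ := Agent.Spor.Mult.mem_derived_of_coprime _ (hσ.2.1 hzK) (hσ.2.2 hzK)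
    (by rw [hzo]; exact (hp.coprime_iff_not_dvd.mpr S.not_dvd_index).pow_left m)
  -- work in the Sylow subgroup
  set zS : (S : Subgroup Γ) := ⟨z, hzS⟩
  have hzc : zS ∈ Subgroup.center (S : Subgroup Γ) :=
    Subgroup.mem_center_iff.mpr fun g => Subtype.ext (Subgroup.mem_center_iff.mp (hσ.2.1 hzK) g)
  have hzcm : zS ∈ commutator (S : Subgroup Γ) := by
    rw [← Subgroup.map_subtype_commutator] at hzd
    obtain ⟨w, hw, hwe⟩ := hzd
    rwa [show zS = w from Subtype.ext hwe.symm]
  have hzo' : orderOf zS = p ^ m := by rw [← hzo]; exact (Subgroup.orderOf_coe zS).symm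
  set y := zS ^ p ^ (m - 1)
  have hy : y ≠ 1 := by
    intro h
    have h1 := orderOf_dvd_of_pow_eq_one h
    rw [hzo'] at h1
    have := (Nat.pow_dvd_pow_iff_le_right hp.one_lt).mp h1
    omega
  have := Fintype.ofFinite (S : Subgroup Γ)
  obtain ⟨χ, hχ⟩ : ∃ χ : IrrCharacter (S : Subgroup Γ), (χ : ↥(S : Subgroup Γ) → ℂ) y ≠ (χ : ↥(S : Subgroup Γ) → ℂ) 1 := by
    by_contra hall
    push Not at hall
    exact hy (isConj_one_left.mp ((Agent.Char.isConj_iff_irr y 1).mpr hall))
  obtain ⟨n, ρ, hρ, hρχ⟩ := χ.2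
  obtain ⟨cz, hcz⟩ := Agent.Char.schur_scalar ρ (ρ zS) (fun g => by
    show ρ zS * ρ g = ρ g * ρ zS
    rw [← map_mul, ← map_mul, Subgroup.mem_center_iff.mp hzc g])
  have hpow : ∀ i : ℕ, ρ (zS ^ i) = cz ^ i • (1 : Module.End ℂ (Fin n → ℂ)) := fun i => by
    rw [map_pow, hcz, ← Module.End.one_eq_id, smul_pow, one_pow]
  have hone : (χ : ↥(S : Subgroup Γ) → ℂ) 1 = n := by
    rw [← hρχ, Representation.char_one, Module.finrank_fin_fun]
  have hcy : cz ^ p ^ (m - 1) ≠ 1 := fun h => hχ (by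
    rw [hone, ← hρχ, Representation.character, hpow, h, one_smul, LinearMap.trace_one, Module.finrank_fin_fun])
  have hcm : cz ^ p ^ m = 1 := by
    have h1 := hpow (p ^ m)
    rw [← hzo', pow_orderOf_eq_one, map_one, hzo'] at h1
    have h2 := congrArg (fun T : Module.End ℂ (Fin n → ℂ) => LinearMap.trace ℂ _ T) h1
    simp only [map_smul, LinearMap.trace_one, Module.finrank_fin_fun, smul_eq_mul] at h2
    have hn0 : (n : ℂ) ≠ 0 := by
      intro h0
      apply hχ
      rw [← hρχ, Representation.character, Representation.character, map_one, LinearMap.trace_one,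
        Module.finrank_fin_fun, h0, hpow, map_smul, LinearMap.trace_one, Module.finrank_fin_fun, h0, smul_zero]
    exact ((mul_eq_right₀ hn0).mp h2.symm)
  have hdet : cz ^ n = 1 := by
    let D : (S : Subgroup Γ) →* ℂˣ := ((LinearMap.det : (Module.End ℂ (Fin n → ℂ)) →* ℂ).comp ρ).toHomUnits
    have hle : commutator (S : Subgroup Γ) ≤ D.ker := Abelianization.commutator_subset_ker D
    have h1 : (D zS : ℂ) = 1 := by rw [MonoidHom.mem_ker.mp (hle hzcm), Units.val_one]
    have h2 : (D zS : ℂ) = LinearMap.det (ρ zS) := rfl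
    rw [h2, hcz, LinearMap.det_smul, LinearMap.det_id, mul_one, Module.finrank_fin_fun] at h1
    exact h1
  have hord : orderOf cz = p ^ m := by
    have hm1 : m = (m - 1) + 1 := by omega
    rw [hm1]
    exact orderOf_eq_prime_pow hcy (by rw [← hm1]; exact hcm)
  have hpn : p ^ m ∣ n := hord ▸ orderOf_dvd_of_pow_eq_one hdet
  have hn0 : 0 < n := by
    rcases Nat.eq_zero_or_pos n with h | h
    · exfalso
      apply hχ
      rw [← hρχ, Representation.character, Representation.character]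
      subst h
      rw [Subsingleton.elim (ρ y) (ρ 1)]
    · exact h
  -- the square of the degree is bounded by the index of the centre
  have hsq : n ^ 2 * Nat.card (Subgroup.center (S : Subgroup Γ)) ≤ Nat.card (S : Subgroup Γ) := by
    have h1 := Agent.Char.classInner_self_irr χ.2
    rw [Agent.Char.classInner_self] at h1
    have h2 : ((Nat.card (S : Subgroup Γ) : ℝ))⁻¹ * ∑ g : (S : Subgroup Γ), ‖(χ : ↥(S : Subgroup Γ) → ℂ) g‖ ^ 2 = 1 := by
      exact_mod_cast h1
    rw [inv_mul_eq_one₀ (by exact_mod_cast (Nat.card_pos (α := (S : Subgroup Γ))).ne')] at h2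
    have h3 : ∀ g ∈ Subgroup.center (S : Subgroup Γ), ‖(χ : ↥(S : Subgroup Γ) → ℂ) g‖ = n := by
      intro g hg
      obtain ⟨d, hd, hdg⟩ := Agent.Char.IsIrr.scalar_of_center χ.2 hg
      have := hdg 1
      rw [mul_one, hone] at this
      rw [this, norm_mul, hd, one_mul, Complex.norm_natCast]
    have h4 : (Finset.univ.filter (fun g => g ∈ Subgroup.center (S : Subgroup Γ))).sum
        (fun g => ‖(χ : ↥(S : Subgroup Γ) → ℂ) g‖ ^ 2) ≤ ∑ g : (S : Subgroup Γ), ‖(χ : ↥(S : Subgroup Γ) → ℂ) g‖ ^ 2 :=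
      Finset.sum_le_univ_sum_of_nonneg fun g => sq_nonneg _
    rw [Finset.sum_congr rfl (fun g hg => by rw [h3 g (Finset.mem_filter.mp hg).2]), Finset.sum_const, ← h2, nsmul_eq_mul] at h4
    have h5 : (Finset.univ.filter (fun g => g ∈ Subgroup.center (S : Subgroup Γ))).card =
        Nat.card (Subgroup.center (S : Subgroup Γ)) := by
      rw [Nat.card_eq_fintype_card, Fintype.card_subtype]
    rw [h5] at h4
    rw [mul_comm]
    exact_mod_cast h4
  obtain ⟨j, hj⟩ : ∃ j, (Subgroup.center (S : Subgroup Γ)).index = p ^ j := S.isPGroup'.index _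
  have hle : n ^ 2 ≤ p ^ j := by
    rw [← hj]
    refine le_of_mul_le_mul_right ?_ (Nat.card_pos (α := Subgroup.center (S : Subgroup Γ)))
    rw [Subgroup.index_mul_card]
    exact hsq
  have h2m : 2 * m ≤ j := by
    rw [← Nat.pow_le_pow_iff_right hp.one_lt, mul_comm, pow_mul]
    exact (Nat.pow_le_pow_left (Nat.le_of_dvd hn0 hpn) 2).trans hle
  refine (pow_dvd_pow p h2m).trans ?_
  rw [← hj, hQ]
  refine (Subgroup.index_dvd_of_le (H := σ.ker.subgroupOf (S : Subgroup Γ)) fun g hg =>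
    Subgroup.mem_center_iff.mpr fun w => Subtype.ext (Subgroup.mem_center_iff.mp (hσ.2.1 hg) w)).trans ?_
  exact Subgroup.relIndex_dvd_index_of_normal σ.ker _

end Cfsg.Agent.S3952
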