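import Cfsg.Statements.S3953
import Mathlib
import Cfsg.Agent.Lib.Grp.SchurM.Restrict

set_option autoImplicit false
open Cfsg

namespace Cfsg.Agent.S3953

/-- Let `P` be a Sylow `p`-subgroup of the finite group `G`, let `A` be the Schur multiplier of `G` and `B` that of `P`. Then the `p`-primary component of `A` is isomorphic to a direct factor of `B`: there are subgroups `C` and `D` of `B` meeting trivially and generating `B`, with `C` isomorphic to the `p`-primary component of `A`. -/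
theorem result {G : Type*} [Group G] [Finite G] (p : ℕ) [Fact p.Prime] (P : Sylow p G) {A B : Type*} [CommGroup A] [CommGroup B] (hA : Cfsg.HasSchurMultiplier G A) (hB : Cfsg.HasSchurMultiplier P B) : ∃ C D : Subgroup B, C ⊓ D = ⊥ ∧ C ⊔ D = ⊤ ∧ Nonempty (CommGroup.primaryComponent A p ≃* C) := by
  obtain ⟨eA⟩ := Agent.Grp.SchurM.equiv_mult _ (Agent.Grp.SchurM.std_surjective G) hA
  obtain ⟨eB⟩ := Agent.Grp.SchurM.equiv_mult _ (Agent.Grp.SchurM.std_surjective (P : Subgroup G)) hB
  obtain ⟨res, cor, h⟩ := Agent.Grp.SchurM.exists_res_cor (P : Subgroup G)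
  have := Agent.Grp.SchurM.finite_mult (Agent.Grp.SchurM.std G)
  have : Finite A := Finite.of_equiv _ eA.symm.toEquiv
  set m := (P : Subgroup G).index
  let r : A →* B := eB.symm.toMonoidHom.comp (res.comp eA.toMonoidHom)
  let c : B →* A := eA.symm.toMonoidHom.comp (cor.comp eB.toMonoidHom)
  have hcr : ∀ a, c (r a) = a ^ m := fun a => by
    show eA.symm (cor (eB (eB.symm (res (eA a))))) = _
    rw [MulEquiv.apply_symm_apply, h, map_pow, MulEquiv.symm_apply_apply]
  have hp : p.Prime := Fact.out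
  set n := Nat.card A
  have hn : n ≠ 0 := Nat.card_pos.ne'
  set k := n.factorization p
  set q := ordCompl[p] n
  have hqk : p ^ k * q = n := Nat.ordProj_mul_ordCompl_eq_self n p
  have hpq : (p ^ k).Coprime q := (Nat.coprime_ordCompl hp hn).pow_left k
  set S := CommGroup.primaryComponent A p
  have hS : ∀ a ∈ S, a ^ p ^ k = 1 := fun a ha => by
    obtain ⟨j, hj⟩ := ha
    rw [← orderOf_dvd_iff_pow_eq_one]
    obtain ⟨i, -, hi⟩ := (Nat.dvd_prime_pow hp).mp (orderOf_dvd_of_pow_eq_one hj)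
    rw [hi]
    exact pow_dvd_pow p ((hp.pow_dvd_iff_le_factorization hn).mp (hi ▸ orderOf_dvd_natCard a))
  let η : B →* A := (powMonoidHom q : A →* A).comp c
  have hηS : ∀ b, η b ∈ S := fun b => ⟨k, by
    show (c b ^ q) ^ p ^ k = 1
    rw [← pow_mul, mul_comm, hqk, pow_card_eq_one']⟩
  have hcop : (p ^ k).Coprime (m * q) :=
    Nat.Coprime.mul_right ((hp.coprime_iff_not_dvd.mpr P.not_dvd_index).pow_left k) hpq
  have hinj : ∀ a ∈ S, a ^ (m * q) = 1 → a = 1 := fun a ha h1 => by
    rw [← orderOf_eq_one_iff]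
    exact Nat.eq_one_of_dvd_coprimes hcop (orderOf_dvd_of_pow_eq_one (hS a ha)) (orderOf_dvd_of_pow_eq_one h1)
  have hηr : ∀ a, η (r a) = a ^ (m * q) := fun a => by
    show c (r a) ^ q = _
    rw [hcr, ← pow_mul]
  have hrinj : Function.Injective (r.comp S.subtype) := by
    rw [injective_iff_map_eq_one]
    intro a ha
    refine Subtype.ext (hinj a a.2 ?_)
    rw [← hηr, show r (a : A) = 1 from ha, map_one]
  refine ⟨(r.comp S.subtype).range, η.ker, ?_, ?_, ⟨MonoidHom.ofInjective hrinj⟩⟩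
  · rw [eq_bot_iff]
    rintro _ ⟨⟨a, rfl⟩, hb⟩
    have h1 : (a : A) ^ (m * q) = 1 := by rw [← hηr]; exact hb
    rw [Subgroup.mem_bot, MonoidHom.comp_apply]
    show r (a : A) = 1
    rw [hinj a a.2 h1, map_one]
  · rw [eq_top_iff]
    intro b _
    obtain ⟨t, ht'⟩ := exists_pow_eq_self_of_coprime (x := η b) (hcop.symm.coprime_dvd_right (orderOf_dvd_of_pow_eq_one (hS _ (hηS b))))
    set a : A := η b ^ t
    have ha : a ^ (m * q) = η b := by
      rw [← pow_mul, mul_comm, pow_mul]
      exact ht'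
    have h1 : r a ∈ (r.comp S.subtype).range := ⟨⟨a, S.pow_mem (hηS b) t⟩, rfl⟩
    have h2 : (r a)⁻¹ * b ∈ η.ker := by rw [MonoidHom.mem_ker, map_mul, map_inv, hηr, ha, inv_mul_cancel]
    have h3 := Subgroup.mul_mem_sup h1 h2
    rwa [mul_inv_cancel_left] at h3

end Cfsg.Agent.S3953
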