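import Cfsg.Statements.S3954
import Mathlib
import Cfsg.Agent.Lib.Grp.SchurM.Restrict

set_option autoImplicit false
open Cfsg

namespace Cfsg.Agent.S3954

/-- Let `U` be a subgroup of index `m` in the finite group `G`, let `A` be the Schur multiplier of `G` and `B` that of `U`. Then the subgroup of `m`-th powers of `A` is isomorphic to a subgroup of `B`. -/
theorem result {G : Type*} [Group G] [Finite G] (U : Subgroup G) {A B : Type*} [CommGroup A] [CommGroup B] (hA : Cfsg.HasSchurMultiplier G A) (hB : Cfsg.HasSchurMultiplier U B) : ∃ C : Subgroup B, Nonempty ((powMonoidHom U.index : A →* A).range ≃* C) := by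
  have hfU := Agent.Grp.SchurM.std_surjective U
  obtain ⟨eA⟩ := Agent.Grp.SchurM.equiv_mult _ (Agent.Grp.SchurM.std_surjective G) hA
  obtain ⟨eB⟩ := Agent.Grp.SchurM.equiv_mult _ hfU hB
  obtain ⟨res, cor, h⟩ := Agent.Grp.SchurM.exists_res_cor U
  have := Agent.Grp.SchurM.finite_mult (Agent.Grp.SchurM.std U)
  have : Finite B := Finite.of_equiv _ eB.symm.toEquiv
  let c : B →* A := eA.symm.toMonoidHom.comp (cor.comp eB.toMonoidHom)
  set S : Subgroup B := (eB.symm.toMonoidHom.comp (res.comp eA.toMonoidHom)).range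
  have hc : ∀ a : A, c (eB.symm (res (eA a))) = a ^ U.index := fun a => by
    show eA.symm (cor (eB (eB.symm (res (eA a))))) = _
    rw [MulEquiv.apply_symm_apply, h, map_pow, MulEquiv.symm_apply_apply]
  let π : S →* (powMonoidHom U.index : A →* A).range :=
    (c.comp S.subtype).codRestrict _ fun s => by
      obtain ⟨a, ha⟩ := s.2
      exact ⟨a, by rw [powMonoidHom_apply, ← hc]; exact congrArg c ha⟩
  have hπ : Function.Surjective π := by
    rintro ⟨_, a, rfl⟩
    exact ⟨⟨_, a, rfl⟩, Subtype.ext (hc a)⟩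
  obtain ⟨j, hj⟩ := Agent.Grp.SchurM.exists_injective_of_surjective π hπ
  exact ⟨(S.subtype.comp j).range, ⟨MonoidHom.ofInjective (S.subtype_injective.comp hj)⟩⟩

end Cfsg.Agent.S3954
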