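import Cfsg.Statements.S3957
import Mathlib
import Cfsg.Agent.Lib.Grp.SchurM.Projective

set_option autoImplicit false
universe u v
open Cfsg

namespace Cfsg.Agent.S3957

/-- Let `Q` be a finite group with Schur multiplier `A` and let `τ : Δ →* Q` be a finite stem extension, `Δ` in the universe of `Q`. Then there is a finite stem extension `σ : Γ →* Q` with kernel isomorphic to `A` (a Schur covering group) and a surjective homomorphism `β : Γ →* Δ` with `τ ∘ β = σ`. -/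
theorem result {Q : Type u} [Group Q] [Finite Q] {A : Type v} [CommGroup A] (hA : Cfsg.HasSchurMultiplier Q A) {Δ : Type u} [Group Δ] [Finite Δ] (τ : Δ →* Q) (hτ : Cfsg.IsStemExtension τ) : ∃ (Γ : Type u) (_ : Group Γ) (_ : Finite Γ) (σ : Γ →* Q), Cfsg.IsStemExtension σ ∧ Nonempty (σ.ker ≃* A) ∧ ∃ β : Γ →* Δ, Function.Surjective β ∧ τ.comp β = σ := by
  have hs := Agent.Grp.SchurM.std_surjective Q
  let f := Agent.Grp.SchurM.std Q
  obtain ⟨β, hβ⟩ := Agent.Grp.SchurM.exists_lift f (MonoidHom.id Q) τ hτ.1 hτ.2.1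
  rw [MonoidHom.id_comp] at hβ
  have hK : β.ker ≤ Agent.Grp.SchurM.rel f := fun x hx => by
    show Agent.Grp.SchurM.rho f x = 1
    rw [← hβ, MonoidHom.comp_apply, MonoidHom.mem_ker.mp hx, map_one]
  have hsup : β.ker ⊔ Agent.Grp.SchurM.mult f = Agent.Grp.SchurM.rel f := by
    refine le_antisymm (sup_le hK (Agent.Grp.SchurM.mult_le_rel f)) fun r hr => ?_
    have h1 : β r ∈ (Agent.Grp.SchurM.mult f).map β := by
      rw [Agent.Grp.SchurM.map_mult f hs τ hτ.2.1 β hβ, inf_eq_left.mpr hτ.2.2]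
      show τ (β r) = 1
      rw [← MonoidHom.comp_apply, hβ]; exact hr
    obtain ⟨m, hm, hme⟩ := h1
    have h2 : r * m⁻¹ ∈ β.ker := by rw [MonoidHom.mem_ker, map_mul, map_inv, hme, mul_inv_cancel]
    have h3 := Subgroup.mul_mem_sup h2 hm
    rwa [inv_mul_cancel_right] at h3
  obtain ⟨N, hNK, hinf, hNsup⟩ := Agent.Grp.SchurM.exists_complement f β.ker hK hsup
  have := Agent.Grp.SchurM.normal_of_le_rel f N (hNK.trans hK)
  obtain ⟨hfin, hstem, ⟨e⟩⟩ := Agent.Grp.SchurM.cover f N (hNK.trans hK) hinf hNsup hs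
  obtain ⟨eA⟩ := Agent.Grp.SchurM.equiv_mult f hs hA
  refine ⟨_, inferInstance, hfin, _, hstem, ⟨e.trans eA.symm⟩, QuotientGroup.lift N β hNK, fun d => ?_, ?_⟩
  · obtain ⟨x, rfl⟩ := Agent.Grp.SchurM.lift_surjective f hs τ hτ β hβ d
    exact ⟨QuotientGroup.mk' N x, rfl⟩
  · refine QuotientGroup.monoidHom_ext _ ?_
    rw [MonoidHom.comp_assoc, QuotientGroup.lift_comp_mk', hβ]
    rfl

end Cfsg.Agent.S3957
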