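import Cfsg.Statements.S3958
import Mathlib
import Cfsg.Agent.Lib.Grp.SchurM.Projective

set_option autoImplicit false
universe u v
open Cfsg

namespace Cfsg.Agent.S3958

/-- Let `σ : Γ →* Q` be a finite stem extension of the finite group `Q` with `Γ` of trivial Schur multiplier. Then `σ` is a Schur covering group of `Q`: for every finite stem extension `τ : Δ →* Q` with `Δ` in the same universe as `Q`, the kernel of `τ` is a homomorphic image of the kernel of `σ`. -/
theorem result {Q : Type u} [Group Q] [Finite Q] {Γ : Type v} [Group Γ] [Finite Γ] (σ : Γ →* Q) (hσ : Cfsg.IsStemExtension σ) (hΓ : Cfsg.HasCyclicSchurMultiplier Γ 1) (Δ : Type u) [Group Δ] [Finite Δ] (τ : Δ →* Q) (hτ : Cfsg.IsStemExtension τ) : ∃ π : σ.ker →* τ.ker, Function.Surjective π := by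
  obtain ⟨β₁, h₁⟩ := Agent.Grp.SchurM.exists_lift (Agent.Grp.SchurM.std Q) (MonoidHom.id Q) σ hσ.1 hσ.2.1
  obtain ⟨β₂, h₂⟩ := Agent.Grp.SchurM.exists_lift (Agent.Grp.SchurM.std Q) (MonoidHom.id Q) τ hτ.1 hτ.2.1
  rw [MonoidHom.id_comp] at h₁ h₂
  refine Agent.Grp.SchurM.exists_factor σ τ hσ hτ β₁ β₂ h₁ h₂ fun m hm hm1 => ?_
  set W := (β₁.prod β₂).range
  set w : W →* Γ := (MonoidHom.fst Γ Δ).comp W.subtype
  have hws : Function.Surjective w := fun g => by
    obtain ⟨x, rfl⟩ := Agent.Grp.SchurM.lift_surjective _ (Agent.Grp.SchurM.std_surjective Q) σ hσ β₁ h₁ g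
    exact ⟨(β₁.prod β₂).rangeRestrict x, rfl⟩
  have hwc : w.ker ≤ Subgroup.center W := by
    rintro ⟨⟨g, d⟩, x, hx⟩ hk
    have hg : g = 1 := hk
    have e1 : β₁ x = g := congrArg Prod.fst hx
    have e2 : β₂ x = d := congrArg Prod.snd hx
    have hd : d ∈ τ.ker := by
      show τ d = 1
      rw [← e2, ← MonoidHom.comp_apply, h₂, ← h₁, MonoidHom.comp_apply, e1, hg, map_one]
    refine Subgroup.mem_center_iff.mpr fun v => Subtype.ext (Prod.ext ?_ ?_)
    · show (v : Γ × Δ).1 * g = g * (v : Γ × Δ).1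
      rw [hg, mul_one, one_mul]
    · exact Subgroup.mem_center_iff.mp (hτ.2.1 hd) _
  have h := Agent.Grp.SchurM.inf_commutator_eq_bot hΓ w hws hwc
  have hmem : (β₁.prod β₂).rangeRestrict m ∈ w.ker ⊓ commutator W := by
    refine ⟨hm1, ?_⟩
    have h2 := Subgroup.mem_map_of_mem (β₁.prod β₂).rangeRestrict hm.2
    rw [commutator_def, Subgroup.map_commutator] at h2
    exact Subgroup.commutator_mono le_top le_top h2
  rw [h, Subgroup.mem_bot] at hmem
  exact congrArg (fun v : W => (v : Γ × Δ).2) hmem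

end Cfsg.Agent.S3958
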