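import Cfsg.Statements.S3960
import Mathlib
import Cfsg.Agent.Lib.Grp.SchurM.Bilinear
import Cfsg.Agent.Lib.Grp.SchurM.Projective

set_option autoImplicit false
universe u
open Cfsg
open scoped commutatorElement

namespace Cfsg.Agent.S3960

/-- A finite perfect group `Q` has a universal central extension: a finite perfect group `G` in the universe of `Q` and a surjective homomorphism `π : G →* Q` with central kernel such that for every group `X` in that universe and every surjective homomorphism `ξ : X →* Q` with central kernel there is exactly one homomorphism `η : G →* X` with `ξ ∘ η = π`. -/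
theorem result {Q : Type u} [Group Q] [Finite Q] (hQ : Group.IsPerfect Q) : ∃ (G : Type u) (_ : Group G) (_ : Finite G) (π : G →* Q), Group.IsPerfect G ∧ Function.Surjective π ∧ π.ker ≤ Subgroup.center G ∧ ∀ (X : Type u) [Group X] (ξ : X →* Q), Function.Surjective ξ → ξ.ker ≤ Subgroup.center X → ∃! η : G →* X, ξ.comp η = π := by
  let f := Agent.Grp.SchurM.std Q
  have hf := Agent.Grp.SchurM.std_surjective Q
  set E := Agent.Grp.SchurM.UE f
  have hQ' := (Group.isPerfect_def).mp hQ
  have hsur : ∀ q : Q, ∃ x ∈ commutator E, Agent.Grp.SchurM.rho f x = q := by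
    intro q
    have h1 : q ∈ (commutator E).map (Agent.Grp.SchurM.rho f) := by
      rw [commutator_def, Subgroup.map_commutator, Subgroup.map_top_of_surjective _ (Agent.Grp.SchurM.rho_surjective f hf),
        ← commutator_def, hQ']
      trivial
    exact h1
  have hfin := Agent.Grp.SchurM.finite_commutator (Agent.Grp.SchurM.rho f) (Agent.Grp.SchurM.rel_le_center f)
  let π : commutator E →* Q := (Agent.Grp.SchurM.rho f).comp (Subgroup.subtype _)
  have hperf : commutator (commutator E) = ⊤ := by
    have h := Agent.Grp.SchurM.commutator_eq_map (Subgroup.subtype (commutator E)) (Agent.Grp.SchurM.rho f).ker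
      (Agent.Grp.SchurM.rel_le_center f) (by
        rw [eq_top_iff]
        intro e _
        obtain ⟨x, hx, hxe⟩ := hsur (Agent.Grp.SchurM.rho f e)
        have h1 : x⁻¹ * e ∈ (Agent.Grp.SchurM.rho f).ker := by rw [MonoidHom.mem_ker, map_mul, map_inv, hxe, inv_mul_cancel]
        have h0 : x ∈ (Subgroup.subtype (commutator E)).range := ⟨⟨x, hx⟩, rfl⟩
        have h2 := Subgroup.mul_mem_sup h0 h1
        rwa [mul_inv_cancel_left] at h2)
    apply Subgroup.map_injective (Subgroup.subtype_injective (commutator E))
    rw [← h, ← MonoidHom.range_eq_map, Subgroup.range_subtype]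
  have hkc : π.ker ≤ Subgroup.center (commutator E) := fun k hk => Subgroup.mem_center_iff.mpr fun g =>
    Subtype.ext (Subgroup.mem_center_iff.mp (Agent.Grp.SchurM.rel_le_center f hk) g)
  refine ⟨commutator E, inferInstance, hfin, π, (Group.isPerfect_def).mpr hperf,
    fun q => (hsur q).elim fun x hx => ⟨⟨x, hx.1⟩, hx.2⟩, hkc, fun X _ ξ hξ hξc => ?_⟩
  obtain ⟨β, hβ⟩ := Agent.Grp.SchurM.exists_lift f (MonoidHom.id Q) ξ hξ hξc
  rw [MonoidHom.id_comp] at hβ
  have heq : ξ.comp (β.comp (Subgroup.subtype (commutator E))) = π := by rw [← MonoidHom.comp_assoc, hβ]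
  refine ⟨_, heq, fun η hη => MonoidHom.ext fun g => ?_⟩
  refine Agent.Grp.SchurM.eq_on_commutator η _ (fun x => hξc ?_) (by rw [hperf]; trivial)
  rw [MonoidHom.mem_ker, map_mul, map_inv, ← MonoidHom.comp_apply ξ η, hη, ← MonoidHom.comp_apply ξ, heq, inv_mul_cancel]

end Cfsg.Agent.S3960
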