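import Cfsg.Statements.S3961
import Mathlib
import Cfsg.Agent.Lib.Grp.SchurM.Bilinear
import Cfsg.Agent.Lib.Grp.SchurM.Projective

set_option autoImplicit false
universe u v
open Cfsg
open scoped commutatorElement

namespace Cfsg.Agent.S3961

/-- Let `π : G →* Q` be a surjective homomorphism with central kernel from a finite perfect group `G` (a perfect cover of `Q`). Then `π` is universal, in the sense that every surjective homomorphism `ξ : X →* Q` with central kernel from a group `X` in the universe of `G` admits a homomorphism `η : G →* X` with `ξ ∘ η = π`, if and only if `G` has trivial Schur multiplier. -/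
theorem result {G : Type u} {Q : Type v} [Group G] [Group Q] [Finite G] (hG : Group.IsPerfect G) (π : G →* Q) (hπ : Function.Surjective π) (hker : π.ker ≤ Subgroup.center G) : (∀ (X : Type u) [Group X] (ξ : X →* Q), Function.Surjective ξ → ξ.ker ≤ Subgroup.center X → ∃ η : G →* X, ξ.comp η = π) ↔ Cfsg.HasCyclicSchurMultiplier G 1 := by
  constructor
  · intro huniv
    refine Agent.Grp.SchurM.hasCyclic_one_of_forall fun Δ _ _ τ hτ => ?_
    have hG' := (Group.isPerfect_def).mp hG
    have hΔ : commutator Δ = ⊤ := by
      rw [eq_top_iff]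
      intro d _
      have h1 : τ d ∈ (commutator Δ).map τ := by
        rw [commutator_def, Subgroup.map_commutator, Subgroup.map_top_of_surjective τ hτ.1, ← commutator_def, hG']
        trivial
      obtain ⟨c, hc, hce⟩ := h1
      have h2 : c⁻¹ * d ∈ commutator Δ := hτ.2.2 (by rw [MonoidHom.mem_ker, map_mul, map_inv, hce, inv_mul_cancel])
      simpa using mul_mem hc h2
    have hcen : (π.comp τ).ker ≤ Subgroup.center Δ := by
      intro k hk
      have hin : ∀ x : Δ, ⁅k, x⁆ ∈ Subgroup.center Δ := fun x => hτ.2.1 (by
        rw [MonoidHom.mem_ker, map_commutatorElement, commutatorElement_eq_one_iff_mul_comm]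
        exact (Subgroup.mem_center_iff.mp (hker hk) (τ x)).symm)
      let φ : Δ →* Subgroup.center Δ :=
        { toFun := fun x => ⟨⁅k, x⁆, hin x⟩
          map_one' := Subtype.ext (by simp [commutatorElement_def])
          map_mul' := fun x y => Subtype.ext (by
            show ⁅k, x * y⁆ = ⁅k, x⁆ * ⁅k, y⁆
            rw [commutatorElement_mul_right_eq_mul_conj, mul_assoc ⁅k, x⁆ x,
              Subgroup.mem_center_iff.mp (hin y) x]
            group) }
      refine Subgroup.mem_center_iff.mpr fun x => ?_
      have h0 : commutator Δ ≤ φ.ker := by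
        rw [commutator_def, Subgroup.commutator_le]
        intro a _ b _
        rw [MonoidHom.mem_ker, map_commutatorElement, commutatorElement_eq_one_iff_mul_comm]
        exact Subtype.ext (Subgroup.mem_center_iff.mp (φ b).2 (φ a))
      have h1 : φ x = 1 := h0 (show x ∈ commutator Δ by rw [hΔ]; trivial)
      exact (commutatorElement_eq_one_iff_mul_comm.mp (congrArg Subtype.val h1)).symm
    obtain ⟨η, hη⟩ := huniv Δ (π.comp τ) (hπ.comp hτ.1) hcen
    have hid : τ.comp η = MonoidHom.id G := by
      refine MonoidHom.ext fun g => ?_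
      refine Agent.Grp.SchurM.eq_on_commutator (τ.comp η) (MonoidHom.id G) (fun x => hker ?_) (by rw [hG']; trivial)
      rw [MonoidHom.mem_ker, map_mul, map_inv, MonoidHom.id_apply, ← MonoidHom.comp_apply π, ← MonoidHom.comp_assoc,
        hη, inv_mul_cancel]
    have hsurj : Function.Surjective η := by
      rw [← MonoidHom.range_eq_top, eq_top_iff, ← hΔ]
      rw [Agent.Grp.SchurM.commutator_eq_map η τ.ker hτ.2.1 ?_]
      · exact Subgroup.map_le_range _ _
      · rw [eq_top_iff]
        intro d _
        have h1 : (η (τ d))⁻¹ * d ∈ τ.ker := by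
          rw [MonoidHom.mem_ker, map_mul, map_inv, ← MonoidHom.comp_apply, hid, MonoidHom.id_apply, inv_mul_cancel]
        have h2 := Subgroup.mul_mem_sup (S := η.range) ⟨τ d, rfl⟩ h1
        rwa [mul_inv_cancel_left] at h2
    rw [eq_bot_iff]
    intro k hk
    obtain ⟨g, rfl⟩ := hsurj k
    have h1 : τ.comp η g = g := DFunLike.congr_fun hid g
    rw [MonoidHom.comp_apply, MonoidHom.mem_ker.mp hk] at h1
    rw [← h1, map_one]
    exact one_mem _
  · intro h X _ ξ hξ hξc
    let f := Agent.Grp.SchurM.std G
    have hf := Agent.Grp.SchurM.std_surjective G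
    have hM := (Agent.Grp.SchurM.hasCyclic_one_iff f hf).mp h
    obtain ⟨β, hβ⟩ := Agent.Grp.SchurM.exists_lift f π ξ hξ hξc
    let w : commutator (Agent.Grp.SchurM.UE f) →* G := (Agent.Grp.SchurM.rho f).comp (Subgroup.subtype _)
    have hw : Function.Bijective w := by
      constructor
      · rw [injective_iff_map_eq_one]
        intro x hx
        have h1 : (x : Agent.Grp.SchurM.UE f) ∈ Agent.Grp.SchurM.mult f := ⟨hx, x.2⟩
        rw [hM, Subgroup.mem_bot] at h1
        exact Subtype.ext h1
      · intro g
        have h1 : g ∈ (commutator (Agent.Grp.SchurM.UE f)).map (Agent.Grp.SchurM.rho f) := by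
          rw [commutator_def, Subgroup.map_commutator, Subgroup.map_top_of_surjective _ (Agent.Grp.SchurM.rho_surjective f hf),
            ← commutator_def, (Group.isPerfect_def).mp hG]
          trivial
        obtain ⟨x, hx, rfl⟩ := h1
        exact ⟨⟨x, hx⟩, rfl⟩
    let e := MulEquiv.ofBijective w hw
    refine ⟨(β.comp (Subgroup.subtype _)).comp e.symm.toMonoidHom, MonoidHom.ext fun g => ?_⟩
    show ξ (β (e.symm g : Agent.Grp.SchurM.UE f)) = π g
    rw [← MonoidHom.comp_apply, hβ, MonoidHom.comp_apply]
    exact congrArg π (e.apply_symm_apply g)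

end Cfsg.Agent.S3961
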