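import Cfsg.Statements.S3962
import Mathlib
-- import your own Cfsg.Agent.* helpers here

set_option autoImplicit false
open Cfsg

namespace Cfsg.Agent.S3962

open scoped commutatorElement

/-- Let `G` be a perfect group and `π : G →* Q` a surjective homomorphism whose kernel is central. Then `π` maps the centre of `G` onto the centre of `Q`. Taking `π` to be the map to `G ⧸ Z(G)` shows that the central quotient of a perfect group has trivial centre. -/
theorem result {G Q : Type*} [Group G] [Group Q] (hG : Group.IsPerfect G) (π : G →* Q) (hπ : Function.Surjective π) (hker : π.ker ≤ Subgroup.center G) : (Subgroup.center G).map π = Subgroup.center Q := by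
  refine le_antisymm ?_ fun z hz => ?_
  · rintro z ⟨x, hx, rfl⟩
    rw [Subgroup.mem_center_iff]
    intro q
    obtain ⟨y, rfl⟩ := hπ q
    rw [← map_mul, ← map_mul, Subgroup.mem_center_iff.mp hx y]
  · obtain ⟨x, rfl⟩ := hπ z
    refine ⟨x, ?_, rfl⟩
    set Z := (Subgroup.center Q).comap π
    have h1 : ⁅Z, (⊤ : Subgroup G)⁆ ≤ Subgroup.center G := by
      refine le_trans ?_ hker
      rw [Subgroup.commutator_le]
      intro a ha b _
      rw [MonoidHom.mem_ker, map_commutatorElement, commutatorElement_eq_one_iff_mul_comm]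
      exact (Subgroup.mem_center_iff.mp ha (π b)).symm
    have h2 : ⁅⁅Z, (⊤ : Subgroup G)⁆, (⊤ : Subgroup G)⁆ = ⊥ := by
      refine Subgroup.commutator_eq_bot_iff_le_centralizer.mpr fun a ha => ?_
      exact Subgroup.mem_centralizer_iff.mpr fun b _ => Subgroup.mem_center_iff.mp (h1 ha) b
    have h3 : ⁅⁅(⊤ : Subgroup G), Z⁆, (⊤ : Subgroup G)⁆ = ⊥ := by rw [Subgroup.commutator_comm ⊤ Z]; exact h2
    have h4 := Subgroup.commutator_commutator_eq_bot_of_rotate (H₁ := (⊤ : Subgroup G)) (H₂ := ⊤) (H₃ := Z) h3 h2
    have htop : ⁅(⊤ : Subgroup G), (⊤ : Subgroup G)⁆ = ⊤ := hG.commutator_eq_top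
    rw [htop] at h4
    rw [Subgroup.commutator_comm] at h4
    have h5 := Subgroup.commutator_eq_bot_iff_le_centralizer.mp h4
    exact Subgroup.mem_center_iff.mpr fun g => Subgroup.mem_centralizer_iff.mp (h5 hz) g trivial

end Cfsg.Agent.S3962
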