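import Cfsg.Statements.S3964
import Mathlib
import Cfsg.Agent.Lib.Grp.SchurM.Bilinear
import Cfsg.Agent.Lib.Grp.SchurM.Projective

set_option autoImplicit false
open Cfsg
open scoped commutatorElement

namespace Cfsg.Agent.S3964

/-- For odd `n` the dihedral group of order `2 n` has trivial Schur multiplier. -/
theorem result (n : ℕ) (hn : Odd n) : Cfsg.HasCyclicSchurMultiplier (DihedralGroup n) 1 := by
  have : NeZero n := ⟨fun h => by rw [h] at hn; exact Nat.not_odd_zero hn⟩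
  refine Agent.Grp.SchurM.hasCyclic_one_of_forall fun Γ _ _ σ hσ => ?_
  obtain ⟨a, ha⟩ := hσ.1 (DihedralGroup.r 1)
  obtain ⟨b, hb⟩ := hσ.1 (DihedralGroup.sr 0)
  have hgen : Subgroup.closure ({σ b, σ a} : Set (DihedralGroup n)) = ⊤ := by
    rw [ha, hb, eq_top_iff]
    intro q _
    have h1 : ∀ i : ZMod n, DihedralGroup.r i ∈ Subgroup.closure ({DihedralGroup.sr 0, DihedralGroup.r 1} : Set (DihedralGroup n)) := by
      intro i
      rw [← ZMod.natCast_zmod_val i, ← DihedralGroup.r_one_pow]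
      exact pow_mem (Subgroup.subset_closure (by simp)) _
    rcases q with i | i
    · exact h1 i
    · rw [show DihedralGroup.sr i = DihedralGroup.sr 0 * DihedralGroup.r i by simp]
      exact mul_mem (Subgroup.subset_closure (by simp)) (h1 i)
  have hconj : σ b * σ a * (σ b)⁻¹ = (σ a)⁻¹ := by
    rw [ha, hb, mul_inv_eq_iff_eq_mul, eq_inv_mul_iff_mul_eq]
    simp
  have hnq : σ a ^ n = 1 := by rw [ha, DihedralGroup.r_one_pow_n]
  have hn' : Commute (a ^ n) b := (Subgroup.mem_center_iff.mp (hσ.2.1 (show a ^ n ∈ σ.ker by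
    rw [MonoidHom.mem_ker, map_pow, hnq])) b).symm
  obtain ⟨h1, h2, h3⟩ := Agent.Grp.SchurM.dihedral_type hσ.2.1 hgen hconj (hnq ▸ Commute.one_left _) hn'
  rw [eq_bot_iff]
  intro k hk
  obtain ⟨j, rfl⟩ := h1 k (hσ.2.2 hk)
  have h4 : (DihedralGroup.r 1 : DihedralGroup n) ^ (-2 * j) = 1 := by
    rw [zpow_mul, ← ha, ← h3, ← map_zpow]; exact hk
  rw [← orderOf_dvd_iff_zpow_eq_one, DihedralGroup.orderOf_r_one, neg_mul, dvd_neg] at h4
  have hc : IsCoprime (n : ℤ) 2 := by
    rw [Int.isCoprime_iff_nat_coprime]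
    simpa using hn.coprime_two_right
  obtain ⟨t, rfl⟩ := hc.dvd_of_dvd_mul_left h4
  rw [Subgroup.mem_bot, zpow_mul, zpow_natCast, h2, one_zpow]

end Cfsg.Agent.S3964
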