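import Cfsg.Statements.S3966
import Mathlib

set_option autoImplicit false
open Cfsg
open scoped commutatorElement

namespace Cfsg.Agent.S3966

/-- For even `n ≥ 2` the dicyclic group of order `4 n` is a stem extension of the dihedral group of order `2 n` with kernel of order `2`: there is a surjective homomorphism `QuaternionGroup n →* DihedralGroup n` whose kernel is central, lies in the commutator subgroup and has two elements. Together with the order of the multiplier this exhibits the dicyclic group as a Schur covering group of the dihedral group. -/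
theorem result (n : ℕ) [NeZero n] (hn : Even n) : ∃ σ : QuaternionGroup n →* DihedralGroup n, Cfsg.IsStemExtension σ ∧ Nat.card σ.ker = 2 := by
  have hdvd : n ∣ 2 * n := dvd_mul_left n 2
  set φ := ZMod.castHom hdvd (ZMod n) with hφ
  let σ : QuaternionGroup n →* DihedralGroup n := MonoidHom.mk'
    (fun x => match x with | QuaternionGroup.a i => DihedralGroup.r (φ i) | QuaternionGroup.xa i => DihedralGroup.sr (φ i))
    (fun x y => by rcases x with i | i <;> rcases y with j | j <;> simp [map_add, map_sub])
  have hker : ∀ x, x ∈ σ.ker ↔ x = 1 ∨ x = QuaternionGroup.a (n : ZMod (2 * n)) := by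
    intro x
    rcases x with i | i
    · show DihedralGroup.r (φ i) = DihedralGroup.r 0 ↔ QuaternionGroup.a i = QuaternionGroup.a 0 ∨ _
      rw [DihedralGroup.r.injEq, QuaternionGroup.a.injEq, QuaternionGroup.a.injEq]
      constructor
      · intro h
        have h1 : n ∣ i.val := by
          rw [← ZMod.natCast_eq_zero_iff, ← map_natCast φ, ZMod.natCast_zmod_val]; exact h
        obtain ⟨c, hc⟩ := h1
        have := i.val_lt
        rw [hc] at this
        have hc2 : c < 2 := by nlinarith [Nat.pos_of_ne_zero (NeZero.ne n)]
        rw [← ZMod.natCast_zmod_val i, hc]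
        rcases c with _ | _ | c
        · left; simp
        · right; simp
        · omega
      · rintro (rfl | rfl) <;> simp [φ]
    · show DihedralGroup.sr (φ i) = DihedralGroup.r 0 ↔ QuaternionGroup.xa i = QuaternionGroup.a 0 ∨ _
      exact iff_of_false (fun h => by cases h) (fun h => by rcases h with h | h <;> cases h)
  have hna : ((n : ℕ) : ZMod (2 * n)) + n = 0 := by
    rw [← Nat.cast_add, show n + n = 2 * n by ring, ZMod.natCast_self]
  refine ⟨σ, ⟨?_, ?_, ?_⟩, ?_⟩
  · rintro (i | i) <;> obtain ⟨j, rfl⟩ := ZMod.castHom_surjective hdvd i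
    · exact ⟨QuaternionGroup.a j, rfl⟩
    · exact ⟨QuaternionGroup.xa j, rfl⟩
  · intro x hx
    rcases (hker x).mp hx with rfl | rfl
    · exact one_mem _
    · rw [Subgroup.mem_center_iff]
      rintro (i | i)
      · simp [add_comm]
      · simp only [QuaternionGroup.xa_mul_a, QuaternionGroup.a_mul_xa, QuaternionGroup.xa.injEq]
        linear_combination hna
  · intro x hx
    rcases (hker x).mp hx with rfl | rfl
    · exact one_mem _
    · obtain ⟨m, rfl⟩ := hn
      have h2 : QuaternionGroup.a (2 : ZMod (2 * (m + m))) ∈ commutator (QuaternionGroup (m + m)) := by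
        have h := Subgroup.commutator_mem_commutator (Subgroup.mem_top (QuaternionGroup.a (1 : ZMod (2 * (m + m)))))
          (Subgroup.mem_top (QuaternionGroup.xa (0 : ZMod (2 * (m + m)))))
        rw [← commutator_def] at h
        convert h using 1
        rw [commutatorElement_def, eq_mul_inv_iff_mul_eq, eq_mul_inv_iff_mul_eq]
        simp only [QuaternionGroup.a_mul_a, QuaternionGroup.a_mul_xa, QuaternionGroup.xa_mul_a, QuaternionGroup.xa.injEq]
        ring
      have := (commutator (QuaternionGroup (m + m))).pow_mem h2 m
      convert this using 1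
      have : ∀ k : ℕ, QuaternionGroup.a (2 : ZMod (2 * (m + m))) ^ k = QuaternionGroup.a (2 * (k : ZMod (2 * (m + m)))) := by
        intro k
        induction k with
        | zero => simp
        | succ k ih => rw [pow_succ, ih, QuaternionGroup.a_mul_a]; congr 1; push_cast; ring
      rw [this]
      congr 1
      push_cast
      ring
  · rw [Nat.card_congr (Equiv.subtypeEquivRight hker)]
    have hne : (1 : QuaternionGroup n) ≠ QuaternionGroup.a (n : ZMod (2 * n)) := by
      rw [QuaternionGroup.one_def, Ne, QuaternionGroup.a.injEq, eq_comm, ZMod.natCast_eq_zero_iff]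
      intro h
      have := Nat.le_of_dvd (Nat.pos_of_ne_zero (NeZero.ne n)) h
      have := NeZero.ne n
      omega
    rw [show {x : QuaternionGroup n // x = 1 ∨ x = QuaternionGroup.a (n : ZMod (2 * n))} = ↥({1, QuaternionGroup.a (n : ZMod (2 * n))} : Set (QuaternionGroup n)) from rfl,
      Nat.card_coe_set_eq, Set.ncard_pair hne]

end Cfsg.Agent.S3966
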