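import Cfsg.Statements.S3965
import Mathlib
import Cfsg.Agent.Lib.Grp.SchurM.Bilinear
import Cfsg.Agent.Lib.Grp.SchurM.Projective
import Cfsg.Agent.S3966

set_option autoImplicit false
open Cfsg
open scoped commutatorElement

namespace Cfsg.Agent.S3965

/-- For even `n ≥ 2` the dihedral group of order `2 n` has Schur multiplier cyclic of order `2`. -/
theorem result (n : ℕ) [NeZero n] (hn : Even n) : Cfsg.HasCyclicSchurMultiplier (DihedralGroup n) 2 := by
  let f := Agent.Grp.SchurM.std (DihedralGroup n)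
  have hf := Agent.Grp.SchurM.std_surjective (DihedralGroup n)
  have := Agent.Grp.SchurM.finite_mult f
  obtain ⟨σ, hσ, hσc⟩ := Agent.S3966.result n hn
  obtain ⟨π, hπ⟩ := Agent.Grp.SchurM.exists_surjective f hf σ hσ
  have hge : 2 ≤ Nat.card (Agent.Grp.SchurM.mult f) := hσc ▸ Nat.card_le_card_of_surjective π hπ
  have hle : Nat.card (Agent.Grp.SchurM.mult f) ≤ 2 := by
    obtain ⟨a, ha⟩ := Agent.Grp.SchurM.rho_surjective f hf (DihedralGroup.r 1)
    obtain ⟨b, hb⟩ := Agent.Grp.SchurM.rho_surjective f hf (DihedralGroup.sr 0)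
    have hgen : Subgroup.closure ({Agent.Grp.SchurM.rho f b, Agent.Grp.SchurM.rho f a} : Set (DihedralGroup n)) = ⊤ := by
      rw [ha, hb, eq_top_iff]
      intro q _
      have h1 : ∀ i : ZMod n, DihedralGroup.r i ∈ Subgroup.closure ({DihedralGroup.sr 0, DihedralGroup.r 1} : Set (DihedralGroup n)) := by
        intro i
        rw [← ZMod.natCast_zmod_val i, ← DihedralGroup.r_one_pow]
        exact pow_mem (Subgroup.subset_closure (by simp)) _
      rcases q with i | i
      · exact h1 i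
      · rw [show DihedralGroup.sr i = DihedralGroup.sr 0 * DihedralGroup.r i by simp]
        exact mul_mem (Subgroup.subset_closure (by simp)) (h1 i)
    have hconj : Agent.Grp.SchurM.rho f b * Agent.Grp.SchurM.rho f a * (Agent.Grp.SchurM.rho f b)⁻¹ =
        (Agent.Grp.SchurM.rho f a)⁻¹ := by
      rw [ha, hb, mul_inv_eq_iff_eq_mul, eq_inv_mul_iff_mul_eq]
      simp
    have hnq : Agent.Grp.SchurM.rho f a ^ n = 1 := by rw [ha, DihedralGroup.r_one_pow_n]
    have hn' : Commute (a ^ n) b := (Subgroup.mem_center_iff.mp (Agent.Grp.SchurM.rel_le_center f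
      (show a ^ n ∈ (Agent.Grp.SchurM.rho f).ker by rw [MonoidHom.mem_ker, map_pow, hnq])) b).symm
    obtain ⟨h1, h2, h3⟩ := Agent.Grp.SchurM.dihedral_type (Agent.Grp.SchurM.rel_le_center f) hgen hconj
      (hnq ▸ Commute.one_left _) hn'
    obtain ⟨t, ht⟩ := hn
    have hm : Agent.Grp.SchurM.mult f ≤ Subgroup.zpowers (⁅b, a⁆ ^ t) := by
      rintro k ⟨hk1, hk2⟩
      obtain ⟨j, rfl⟩ := h1 k hk2
      have h4 : (DihedralGroup.r 1 : DihedralGroup n) ^ (-2 * j) = 1 := by
        rw [zpow_mul, ← ha, ← h3, ← map_zpow]; exact hk1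
      rw [← orderOf_dvd_iff_zpow_eq_one, DihedralGroup.orderOf_r_one, neg_mul, dvd_neg, ht] at h4
      have h5 : (t : ℤ) ∣ j := by
        obtain ⟨s, hs⟩ := h4
        push_cast at hs
        exact ⟨s, by linarith⟩
      obtain ⟨s, rfl⟩ := h5
      exact ⟨s, by simp [zpow_mul, zpow_natCast]⟩
    have hord : (⁅b, a⁆ ^ t) ^ 2 = 1 := by rw [← pow_mul, mul_two, ← ht, h2]
    have hfo : IsOfFinOrder (⁅b, a⁆ ^ t) := isOfFinOrder_iff_pow_eq_one.mpr ⟨2, two_pos, hord⟩
    have : Finite (Subgroup.zpowers (⁅b, a⁆ ^ t)) := hfo.finite_zpowers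
    refine (Nat.card_le_card_of_injective _ (Subgroup.inclusion_injective hm)).trans ?_
    rw [Nat.card_zpowers]
    exact Nat.le_of_dvd two_pos (orderOf_dvd_of_pow_eq_one hord)
  have : Fact (Nat.Prime 2) := ⟨Nat.prime_two⟩
  exact Agent.Grp.SchurM.hasSchurMultiplier_of_equiv f hf
    (mulEquivOfPrimeCardEq (p := 2) (by simp) (le_antisymm hle hge))

end Cfsg.Agent.S3965
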