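import Cfsg.Statements.S3967
import Mathlib
import Cfsg.Agent.Lib.Grp.SchurM.Basic
import Cfsg.Agent.Lib.Grp.SchurM.Projective

set_option autoImplicit false
open Cfsg

namespace Cfsg.Agent.S3967

/-- Let `m, n ≥ 1`, `r ≥ 1` with `r ^ n ≡ 1 (mod m)`, and `l` a natural number; put `d = gcd(m, r - 1)`, `t = m l / d` and `h = d · gcd(m, 1 + r + ⋯ + r^(n-1)) / m`. The group presented by generators `a, b` and relations `a ^ m = 1`, `b ^ n = a ^ t`, `b a b⁻¹ = a ^ r` (a metacyclic group of order `m n`) has Schur multiplier cyclic of order `gcd(l, h)`. -/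
theorem result (m n r l : ℕ) (hm : 0 < m) (hn : 0 < n) (hr : 0 < r) (hrn : r ^ n ≡ 1 [MOD m]) : Cfsg.HasCyclicSchurMultiplier (PresentedGroup ({FreeGroup.of true ^ m, (FreeGroup.of false) ^ n * (FreeGroup.of true ^ (m * l / Nat.gcd m (r - 1)))⁻¹, FreeGroup.of false * FreeGroup.of true * (FreeGroup.of false)⁻¹ * (FreeGroup.of true ^ r)⁻¹} : Set (FreeGroup Bool))) (Nat.gcd l (Nat.gcd m (r - 1) * Nat.gcd m (∑ i ∈ Finset.range n, r ^ i) / m)) := by
  classical
  set d := Nat.gcd m (r - 1) with hd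
  set S := ∑ i ∈ Finset.range n, r ^ i with hS
  set t := m * l / d with ht
  set h := d * Nat.gcd m S / m with hh
  set g := Nat.gcd l h with hg
  have hd0 : 0 < d := Nat.gcd_pos_of_pos_left _ hm
  obtain ⟨v, hv⟩ : d ∣ m := Nat.gcd_dvd_left _ _
  obtain ⟨u, hu⟩ : d ∣ r - 1 := Nat.gcd_dvd_right _ _
  have hv0 : 0 < v := Nat.pos_of_ne_zero fun h0 => by rw [h0, mul_zero] at hv; omega
  have huv : Nat.Coprime v u := by
    have h1 := Nat.coprime_div_gcd_div_gcd (m := m) (n := r - 1) hd0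
    rw [← hd, hv, hu, Nat.mul_div_cancel_left _ hd0, Nat.mul_div_cancel_left _ hd0] at h1
    exact h1
  have ht' : t = v * l := by rw [ht, hv, mul_assoc, Nat.mul_div_cancel_left _ hd0]
  have hr1 : r = d * u + 1 := by omega
  have hgeom : r ^ n = d * u * S + 1 := by
    have h1 := geom_sum_mul_add (d * u) n
    rw [← hr1, ← hS] at h1
    linarith
  obtain ⟨k, hk⟩ : v ∣ S := by
    have h2 : m ∣ d * u * S := by
      have := hrn
      rw [hgeom, Nat.ModEq.comm, Nat.modEq_iff_dvd' (Nat.le_add_left 1 _), Nat.add_sub_cancel] at this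
      exact this
    rw [hv, mul_assoc] at h2
    exact huv.dvd_of_dvd_mul_left (Nat.dvd_of_mul_dvd_mul_left hd0 h2)
  have hhk : h = Nat.gcd d k := by
    rw [hh, hv, hk, show Nat.gcd (d * v) (v * k) = v * Nat.gcd d k by rw [mul_comm d v, Nat.gcd_mul_left],
      ← mul_assoc, Nat.mul_div_cancel_left _ (Nat.mul_pos hd0 hv0)]
  have hg0 : 0 < g := Nat.gcd_pos_of_pos_right _ (hhk ▸ Nat.gcd_pos_of_pos_left _ hd0)
  set rels : Set (FreeGroup Bool) := {FreeGroup.of true ^ m, (FreeGroup.of false) ^ n * (FreeGroup.of true ^ t)⁻¹,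
    FreeGroup.of false * FreeGroup.of true * (FreeGroup.of false)⁻¹ * (FreeGroup.of true ^ r)⁻¹} with hrels
  let P := PresentedGroup rels
  let f : FreeGroup Bool →* P := PresentedGroup.mk rels
  have hf : Function.Surjective f := PresentedGroup.mk_surjective _
  let a : Agent.Grp.SchurM.UE f := QuotientGroup.mk' _ (FreeGroup.of true)
  let b : Agent.Grp.SchurM.UE f := QuotientGroup.mk' _ (FreeGroup.of false)
  let mk := QuotientGroup.mk' (Agent.Grp.SchurM.relComm f)
  obtain ⟨u1, hu1e⟩ : ∃ x, x = a ^ m := ⟨_, rfl⟩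
  obtain ⟨u2, hu2e⟩ : ∃ x, x = b ^ n * (a ^ t)⁻¹ := ⟨_, rfl⟩
  obtain ⟨u3, hu3e⟩ : ∃ x, x = b * a * b⁻¹ * (a ^ r)⁻¹ := ⟨_, rfl⟩
  have hu1 : u1 ∈ Agent.Grp.SchurM.rel f := by
    rw [hu1e]
    show f (FreeGroup.of true ^ m) = 1
    exact PresentedGroup.one_of_mem (by simp [hrels])
  have hu2 : u2 ∈ Agent.Grp.SchurM.rel f := by
    rw [hu2e]
    show f ((FreeGroup.of false) ^ n * (FreeGroup.of true ^ t)⁻¹) = 1
    exact PresentedGroup.one_of_mem (by simp [hrels])
  have hu3 : u3 ∈ Agent.Grp.SchurM.rel f := by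
    rw [hu3e]
    show f (FreeGroup.of false * FreeGroup.of true * (FreeGroup.of false)⁻¹ * (FreeGroup.of true ^ r)⁻¹) = 1
    exact PresentedGroup.one_of_mem (by simp [hrels])
  have hc : ∀ x ∈ Agent.Grp.SchurM.rel f, ∀ y, y * x = x * y := fun x hx y =>
    Subgroup.mem_center_iff.mp (Agent.Grp.SchurM.rel_le_center f hx) y
  set z := u1 ^ u * u3 ^ v with hz
  have hconj : ∀ i : ℕ, b * a ^ i * b⁻¹ = u3 ^ i * a ^ (r * i) := fun i => by
    rw [← conj_pow, show b * a * b⁻¹ = u3 * a ^ r by rw [hu3e]; group,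
      Commute.mul_pow (hc u3 hu3 (a ^ r)).symm, ← pow_mul]
  have h13 : ∀ i j : ℕ, a ^ i * u3 ^ j = u3 ^ j * a ^ i := fun i j => hc _ (pow_mem hu3 j) _
  have hzd : z ^ d = 1 := by
    have h1 := hconj m
    rw [show b * a ^ m * b⁻¹ = a ^ m from by rw [← hu1e, hc u1 hu1 b, mul_inv_cancel_right], mul_comm r m, pow_mul,
      hr1, pow_succ, ← mul_assoc] at h1
    have h2 : u3 ^ m * u1 ^ (d * u) = 1 := by
      simpa [← hu1e] using h1.symm
    rw [hz, Commute.mul_pow (hc _ (pow_mem hu3 v) _), ← pow_mul, ← pow_mul, mul_comm u d, mul_comm v d, ← hv,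
      ← hc _ (pow_mem hu1 _) (u3 ^ m)]
    exact h2
  have hzl : z ^ l = 1 := by
    have hbt : b * a ^ t * b⁻¹ = a ^ t := by
      have h1 : a ^ t = u2⁻¹ * b ^ n := by simp only [hu2e]; group
      rw [h1, ← mul_assoc, hc _ (inv_mem hu2) b, mul_assoc u2⁻¹ b, ← pow_succ', pow_succ, mul_assoc, mul_assoc, mul_inv_cancel, mul_one]
    have h1 := hconj t
    rw [hbt, mul_comm r t, hr1, mul_add, mul_one, pow_add, ← mul_assoc] at h1
    have h2 : u3 ^ t * a ^ (t * (d * u)) = 1 := by simpa using h1.symm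
    have h3 : a ^ (t * (d * u)) = u1 ^ (u * l) := by
      simp only [hu1e]
      rw [← pow_mul, ht', hv]
      congr 1; ring
    rw [hz, Commute.mul_pow (hc _ (pow_mem hu3 v) _), ← pow_mul, ← pow_mul, ← ht', ← hc _ (pow_mem hu1 _) (u3 ^ t), ← h3]
    exact h2
  have hzk : z ^ k = 1 := by
    have h1 : ∀ i, b ^ i * a * (b ^ i)⁻¹ = u3 ^ (∑ j ∈ Finset.range i, r ^ j) * a ^ (r ^ i) := by
      intro i
      induction i with
      | zero => simp
      | succ i ih =>
        rw [pow_succ', show b * b ^ i * a * (b * b ^ i)⁻¹ = b * (b ^ i * a * (b ^ i)⁻¹) * b⁻¹ by group, ih,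
          ← mul_assoc, hc _ (pow_mem hu3 _) b, mul_assoc, mul_assoc, ← mul_assoc b, hconj, ← mul_assoc, ← pow_add,
          Finset.sum_range_succ, pow_succ' r]
    have h2 := h1 n
    have hbn : b ^ n * a * (b ^ n)⁻¹ = a := by
      have h3 : b ^ n = u2 * a ^ t := by simp only [hu2e]; group
      rw [h3, mul_assoc u2, ← pow_succ, pow_succ', ← mul_assoc, ← hc _ hu2 a]
      group
    rw [hbn, hgeom, pow_succ, ← hS, ← mul_assoc] at h2
    have h4 : u3 ^ S * a ^ (d * u * S) = 1 := by simpa using h2.symm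
    have h5 : a ^ (d * u * S) = u1 ^ (u * k) := by
      simp only [hu1e]
      rw [← pow_mul, hk, hv]
      congr 1; ring
    rw [hz, Commute.mul_pow (hc _ (pow_mem hu3 v) _), ← pow_mul, ← pow_mul, ← hk, ← hc _ (pow_mem hu1 _) (u3 ^ S), ← h5]
    exact h4
  have hzg : z ^ g = 1 := by
    rw [← orderOf_dvd_iff_pow_eq_one, hg, hhk]
    exact Nat.dvd_gcd (orderOf_dvd_of_pow_eq_one hzl) (Nat.dvd_gcd (orderOf_dvd_of_pow_eq_one hzd) (orderOf_dvd_of_pow_eq_one hzk))
  -- the multiplier is generated by z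
  let T := Agent.Grp.SchurM.deg f
  have hTa : T a = Multiplicative.ofAdd (Finsupp.single true 1) := by simp [T, a, Agent.Grp.SchurM.deg]
  have hTb : T b = Multiplicative.ofAdd (Finsupp.single false 1) := by simp [T, b, Agent.Grp.SchurM.deg]
  have hzM : z ∈ Agent.Grp.SchurM.mult f := by
    refine (Agent.Grp.SchurM.mem_mult_iff f z).mpr ⟨mul_mem (pow_mem hu1 u) (pow_mem hu3 v), ?_⟩
    show T z = 1
    simp only [hz, hu1e, hu3e, map_mul, map_pow, map_inv, hTa, hTb]
    apply Multiplicative.toAdd.injective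
    simp only [toAdd_mul, toAdd_pow, toAdd_inv, toAdd_ofAdd, toAdd_one]
    ext i
    cases i <;> simp [hr1, hv] <;> ring
  set R := Subgroup.closure ({u1, u2, u3} : Set (Agent.Grp.SchurM.UE f)) with hR
  have hRc : R ≤ Agent.Grp.SchurM.rel f := by
    rw [hR, Subgroup.closure_le]
    rintro x (rfl | rfl | rfl) <;> assumption
  have hrelR : Agent.Grp.SchurM.rel f ≤ R := by
    intro e he
    obtain ⟨x, rfl⟩ := QuotientGroup.mk'_surjective (Agent.Grp.SchurM.relComm f) e
    have hn : (R.comap mk).Normal := (Agent.Grp.SchurM.normal_of_central (hRc.trans (Agent.Grp.SchurM.rel_le_center f))).comap mk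
    have hx : x ∈ Subgroup.normalClosure rels := (QuotientGroup.eq_one_iff x).mp he
    refine Subgroup.normalClosure_le_normal (N := R.comap mk) ?_ hx
    rintro y (rfl | rfl | rfl)
    · exact Subgroup.subset_closure (by simp [hu1e, a, mk])
    · exact Subgroup.subset_closure (by simp [hu2e, a, b, mk])
    · exact Subgroup.subset_closure (by simp [hu3e, a, b, mk])
  have hgen : ∀ e ∈ R, ∃ i j o : ℤ, e = u1 ^ i * u2 ^ j * u3 ^ o := by
    intro e he
    induction he using Subgroup.closure_induction with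
    | mem y hy =>
      rcases hy with rfl | rfl | rfl
      · exact ⟨1, 0, 0, by simp⟩
      · exact ⟨0, 1, 0, by simp⟩
      · exact ⟨0, 0, 1, by simp⟩
    | one => exact ⟨0, 0, 0, by simp⟩
    | mul x y _ _ hx hy =>
      obtain ⟨i, j, o, rfl⟩ := hx
      obtain ⟨i', j', o', rfl⟩ := hy
      refine ⟨i + i', j + j', o + o', ?_⟩
      have e1 := hc _ (zpow_mem hu1 i') (u2 ^ j * u3 ^ o)
      have e2 := hc _ (zpow_mem hu2 j') (u3 ^ o)
      rw [zpow_add, zpow_add, zpow_add]
      calc u1 ^ i * u2 ^ j * u3 ^ o * (u1 ^ i' * u2 ^ j' * u3 ^ o')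
          = u1 ^ i * ((u2 ^ j * u3 ^ o) * u1 ^ i') * u2 ^ j' * u3 ^ o' := by group
        _ = u1 ^ i * (u1 ^ i' * (u2 ^ j * u3 ^ o)) * u2 ^ j' * u3 ^ o' := by rw [e1]
        _ = u1 ^ i * u1 ^ i' * u2 ^ j * (u3 ^ o * u2 ^ j') * u3 ^ o' := by group
        _ = u1 ^ i * u1 ^ i' * u2 ^ j * (u2 ^ j' * u3 ^ o) * u3 ^ o' := by rw [e2]
        _ = _ := by group
    | inv x _ hx =>
      obtain ⟨i, j, o, rfl⟩ := hx
      refine ⟨-i, -j, -o, ?_⟩
      have e1 := hc _ (zpow_mem hu1 (-i)) (u3 ^ (-o) * u2 ^ (-j))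
      have e2 := hc _ (zpow_mem hu2 (-j)) (u3 ^ (-o))
      rw [mul_inv_rev, mul_inv_rev, ← zpow_neg, ← zpow_neg, ← zpow_neg, ← mul_assoc, e1, e2, mul_assoc]
  have hMle : Agent.Grp.SchurM.mult f ≤ Subgroup.zpowers z := by
    intro e he
    obtain ⟨i, j, o, rfl⟩ := hgen e (hrelR he.1)
    have h1 : Multiplicative.toAdd (T (u1 ^ i * u2 ^ j * u3 ^ o)) = 0 :=
      congrArg Multiplicative.toAdd ((Agent.Grp.SchurM.mem_mult_iff f _).mp he).2
    simp only [hu1e, hu2e, hu3e, map_mul, map_zpow, map_pow, map_inv, hTa, hTb, toAdd_mul, toAdd_zpow, toAdd_pow, toAdd_inv, toAdd_ofAdd] at h1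
    have hf1 := DFunLike.congr_fun h1 false
    have ht1 := DFunLike.congr_fun h1 true
    simp at hf1 ht1
    have hj : j = 0 := hf1.resolve_right (Nat.pos_iff_ne_zero.mp hn)
    subst hj
    have h2 : i * v = o * u := by
      have : (d : ℤ) ≠ 0 := by exact_mod_cast hd0.ne'
      refine mul_left_cancel₀ this ?_
      have e1 : (m : ℤ) = d * v := by exact_mod_cast hv
      have e2 : (r : ℤ) = d * u + 1 := by exact_mod_cast hr1
      rw [e1, e2] at ht1
      linear_combination ht1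
    obtain ⟨c, hc'⟩ : (v : ℤ) ∣ o := by
      refine IsCoprime.dvd_of_dvd_mul_right (z := (u : ℤ)) ?_ ⟨i, by linear_combination -h2⟩
      rw [Int.isCoprime_iff_nat_coprime]; simpa using huv
    subst hc'
    have hi : i = c * u := mul_right_cancel₀ (show (v : ℤ) ≠ 0 by exact_mod_cast hv0.ne') (by linear_combination h2)
    subst hi
    refine ⟨c, ?_⟩
    show z ^ c = _
    rw [hz, Commute.mul_zpow (hc _ (pow_mem hu3 v) _), ← zpow_natCast, ← zpow_natCast, ← zpow_mul, ← zpow_mul, zpow_zero,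
      mul_one, mul_comm c (u : ℤ)]
  -- the witnessing extension
  let T₀ := g.primeFactors.filter (fun p => ¬ p ∣ u)
  set s := ∏ p ∈ T₀, p with hs
  set e := u + s * v with he
  have hecop : Nat.Coprime e g := by
    refine Nat.coprime_of_dvd fun p hp hpe hpg => ?_
    by_cases hpu : p ∣ u
    · have h1 : p ∣ s * v := (Nat.dvd_add_right hpu).mp hpe
      rcases hp.dvd_mul.mp h1 with h2 | h2
      · obtain ⟨q, hq, hpq⟩ := (Prime.dvd_finsetProd_iff (Nat.prime_iff.mp hp) _).mp h2
        rw [Finset.mem_filter, Nat.mem_primeFactors] at hq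
        exact hq.2 ((Nat.prime_dvd_prime_iff_eq hp hq.1.1).mp hpq ▸ hpu)
      · exact hp.one_lt.ne' (Nat.dvd_one.mp (huv ▸ Nat.dvd_gcd h2 hpu))
    · have h1 : p ∣ s := Finset.dvd_prod_of_mem _ (Finset.mem_filter.mpr ⟨Nat.mem_primeFactors.mpr ⟨hp, hpg, hg0.ne'⟩, hpu⟩)
      exact hpu ((Nat.dvd_add_left (h1.trans (dvd_mul_right s v))).mp hpe)
  set N := m * g with hN
  have : NeZero N := ⟨(Nat.mul_pos hm hg0).ne'⟩
  set r' := r + m * s with hr'
  have hr'1 : r' = d * e + 1 := by rw [hr', he, hr1, hv]; ring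
  have hgd : g ∣ d := (Nat.gcd_dvd_right l h).trans (hhk ▸ Nat.gcd_dvd_left d k)
  have hgk : g ∣ k := (Nat.gcd_dvd_right l h).trans (hhk ▸ Nat.gcd_dvd_right d k)
  have hr'n : ((r' : ZMod N)) ^ n = 1 := by
    set S' := ∑ i ∈ Finset.range n, r' ^ i with hS'
    have h1 := geom_sum_mul_add (d * e) n
    rw [← hr'1, ← hS'] at h1
    have h2 : S' ≡ S [MOD v * g] := by
      refine Nat.ModEq.of_dvd (show v * g ∣ m from ?_) ?_
      · rw [hv, mul_comm d v]; exact mul_dvd_mul_left v hgd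
      · rw [Nat.ModEq, hS', hS, Finset.sum_nat_mod, Finset.sum_nat_mod (f := fun i => r ^ i)]
        congr 1
        refine Finset.sum_congr rfl fun i _ => ?_
        exact Nat.ModEq.pow i (Nat.add_mul_mod_self_left r m s)
    have h3 : v * g ∣ S' := by
      refine (Nat.ModEq.dvd_iff h2 dvd_rfl).mpr ?_
      rw [hk]; exact mul_dvd_mul_left v hgk
    obtain ⟨w, hw⟩ := h3
    have h4 : r' ^ n = N * (e * w) + 1 := by rw [← h1, hw, hN, hv]; ring
    rw [← Nat.cast_pow, h4]
    simp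
  have hrt : ((r' : ZMod N)) * (t : ZMod N) = t := by
    have h1 : r' * t = N * (e * (l / g)) + t := by
      obtain ⟨l', hl'⟩ := Nat.gcd_dvd_left l h
      rw [← hg] at hl'
      rw [hr'1, ht', hN, hv, hl', Nat.mul_div_cancel_left _ hg0]; ring
    rw [← Nat.cast_mul, h1]
    simp
  let ru : (ZMod N)ˣ := Units.mkOfMulEqOne (r' : ZMod N) ((r' : ZMod N) ^ (n - 1))
    (by rw [← pow_succ', Nat.sub_add_cancel hn, hr'n])
  let α : MulAut (Multiplicative (ZMod N)) := AddEquiv.toMultiplicative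
    { toFun := fun x => (ru : ZMod N) * x, invFun := fun x => (↑ru⁻¹ : ZMod N) * x
      left_inv := fun x => by simp
      right_inv := fun x => by simp
      map_add' := fun x y => mul_add _ x y }
  let φ : Multiplicative ℤ →* MulAut (Multiplicative (ZMod N)) := zpowersHom _ α
  let W := SemidirectProduct (Multiplicative (ZMod N)) (Multiplicative ℤ) φ
  let A : W := SemidirectProduct.inl (Multiplicative.ofAdd 1)
  let B : W := SemidirectProduct.inr (Multiplicative.ofAdd 1)
  have hA : ∀ i : ℕ, A ^ i = SemidirectProduct.inl (Multiplicative.ofAdd (i : ZMod N)) := fun i => by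
    rw [← map_pow, ← ofAdd_nsmul, nsmul_one]
  have hφ1 : φ (Multiplicative.ofAdd 1) = α := by simp [φ]
  have hBA : B * A * B⁻¹ = A ^ r' := by
    rw [hA]; show SemidirectProduct.inr _ * SemidirectProduct.inl _ * (SemidirectProduct.inr _)⁻¹ = _; rw [← map_inv, ← SemidirectProduct.inl_aut, hφ1]
    congr 1
    show Multiplicative.ofAdd ((r' : ZMod N) * 1) = _
    rw [mul_one]
  have hBn : ∀ i : Multiplicative (ZMod N), B ^ n * SemidirectProduct.inl i * (B ^ n)⁻¹ = SemidirectProduct.inl i := by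
    intro i
    rw [← map_pow, ← map_inv, ← SemidirectProduct.inl_aut, map_pow, hφ1]
    congr 1
    have hαp : ∀ j : ℕ, ∀ x, (α ^ j) x = Multiplicative.ofAdd ((r' : ZMod N) ^ j * Multiplicative.toAdd x) := by
      intro j
      induction j with
      | zero => intro x; simp
      | succ j ih =>
        intro x
        rw [pow_succ', MulAut.mul_apply, ih]
        show Multiplicative.ofAdd ((r' : ZMod N) * _) = _
        rw [toAdd_ofAdd, ← mul_assoc, ← pow_succ']
    rw [hαp, hr'n, one_mul, ofAdd_toAdd]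
  let c : W := B ^ n * (A ^ t)⁻¹
  have hAc : Commute A c := by
    have h1 : Commute A (B ^ n) := by
      have := hBn (Multiplicative.ofAdd 1)
      exact (mul_inv_eq_iff_eq_mul.mp this).symm
    exact h1.mul_right ((Commute.refl A).pow_right t).inv_right
  have hBAt : B * A ^ t * B⁻¹ = A ^ t := by
    rw [← conj_pow, hBA, ← pow_mul, hA, hA, Nat.cast_mul, hrt]
  have hBc : Commute B c :=
    ((Commute.refl B).pow_right n).mul_right (show Commute B (A ^ t) from mul_inv_eq_iff_eq_mul.mp hBAt).inv_right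
  have hgenW : ∀ x : W, ∃ (i : ℕ) (j : ℤ), x = A ^ i * B ^ j := by
    intro x
    refine ⟨(Multiplicative.toAdd x.left).val, Multiplicative.toAdd x.right, ?_⟩
    rw [hA, ← map_zpow, ← ofAdd_zsmul, smul_eq_mul, mul_one, ZMod.natCast_zmod_val, ofAdd_toAdd, ofAdd_toAdd]
    exact (SemidirectProduct.inl_left_mul_inr_right x).symm
  have hcc : c ∈ Subgroup.center W := Subgroup.mem_center_iff.mpr fun x => by
    obtain ⟨i, j, rfl⟩ := hgenW x
    exact ((hAc.pow_left i).mul_left (hBc.zpow_left j)).eq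
  let C := Subgroup.zpowers c
  have : C.Normal := Agent.Grp.SchurM.normal_of_central (Subgroup.zpowers_le.mpr hcc)
  let q := QuotientGroup.mk' C
  let w := q (A ^ m)
  have key : ∀ i : ℕ, q (A ^ i) = 1 ↔ N ∣ i := by
    intro i
    rw [QuotientGroup.mk'_apply, QuotientGroup.eq_one_iff, ← ZMod.natCast_eq_zero_iff]
    constructor
    · rintro ⟨j, hj⟩
      have h1 : c ^ j = A ^ i := hj
      have h2 := congrArg (fun x : W => Multiplicative.toAdd (SemidirectProduct.rightHom x)) h1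
      simp only [map_zpow, map_mul, map_inv, map_pow, c, A, B, SemidirectProduct.rightHom_inr, SemidirectProduct.rightHom_inl, toAdd_zpow, toAdd_mul, toAdd_inv, toAdd_pow, toAdd_one, toAdd_ofAdd, one_pow, inv_one, mul_one, smul_eq_mul, smul_zero, neg_zero, add_zero, nsmul_eq_mul, mul_eq_zero, Nat.cast_eq_zero, hn.ne', or_false] at h2
      subst h2
      rw [zpow_zero, hA] at h1
      exact ofAdd_eq_one.mp ((map_eq_one_iff _ SemidirectProduct.inl_injective).mp h1.symm)
    · intro h0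
      rw [hA, h0, ofAdd_zero, map_one]
      exact one_mem _
  have hwo : orderOf w = g := by
    refine Nat.dvd_antisymm (orderOf_dvd_of_pow_eq_one ?_) ?_
    · rw [← map_pow, ← pow_mul, key]
    · refine Nat.dvd_of_mul_dvd_mul_left hm ?_
      rw [← hN, ← key, pow_mul, map_pow]
      exact pow_orderOf_eq_one w
  have hwc : ∀ i : ℕ, q (A ^ (m * i)) ∈ Subgroup.center (W ⧸ C) := by
    intro i
    rw [Subgroup.mem_center_iff]
    intro y
    obtain ⟨x, rfl⟩ := QuotientGroup.mk'_surjective C y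
    obtain ⟨i', j', rfl⟩ := hgenW x
    rw [← map_mul, ← map_mul]
    congr 1
    have h1 : Commute B (A ^ (m * i)) := by
      refine mul_inv_eq_iff_eq_mul.mp ?_
      rw [← conj_pow, hBA, ← pow_mul, hA, hA]
      congr 2
      obtain ⟨d', hd'⟩ := hgd
      rw [show r' * (m * i) = N * (d' * e * i) + m * i by rw [hr'1, hN, hd']; ring]
      simp
    exact (((Commute.refl A).pow_pow i' (m * i)).mul_left (h1.zpow_left j')).eq
  let ψ : FreeGroup Bool →* W ⧸ C := FreeGroup.lift fun x => if x then q A else q B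
  have hψt : ψ (FreeGroup.of true) = q A := by simp [ψ]
  have hψf : ψ (FreeGroup.of false) = q B := by simp [ψ]
  have hψ1 : ψ (FreeGroup.of true ^ m) = q (A ^ (m * 1)) := by rw [map_pow, hψt, mul_one, map_pow]
  have hψ2 : ψ ((FreeGroup.of false) ^ n * (FreeGroup.of true ^ t)⁻¹) = 1 := by
    rw [map_mul, map_inv, map_pow, map_pow, hψt, hψf, ← map_pow q, ← map_pow q, ← map_inv q, ← map_mul q, QuotientGroup.mk'_apply,
      QuotientGroup.eq_one_iff]
    exact Subgroup.mem_zpowers c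
  have hψ3 : ψ (FreeGroup.of false * FreeGroup.of true * (FreeGroup.of false)⁻¹ * (FreeGroup.of true ^ r)⁻¹) =
      q (A ^ (m * s)) := by
    simp only [map_mul, map_inv, map_pow, hψt, hψf]
    rw [← map_inv q, ← map_mul q, ← map_mul q, ← map_pow q, ← map_inv q, ← map_mul q, hBA, hr', add_comm r, pow_add,
      mul_inv_cancel_right, map_pow q]
  have hψc : Agent.Grp.SchurM.relComm f ≤ ψ.ker := by
    have h1 : Subgroup.normalClosure rels ≤ (Subgroup.center (W ⧸ C)).comap ψ := by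
      refine Subgroup.normalClosure_le_normal ?_
      rintro y (rfl | rfl | rfl) <;> show ψ _ ∈ Subgroup.center _
      · rw [hψ1]; exact hwc 1
      · rw [hψ2]; exact one_mem _
      · rw [hψ3]; exact hwc s
    rw [Subgroup.commutator_le]
    intro x _ y hy
    rw [MonoidHom.mem_ker, map_commutatorElement, commutatorElement_eq_one_iff_mul_comm]
    exact Subgroup.mem_center_iff.mp (h1 ((QuotientGroup.eq_one_iff y).mp hy)) (ψ x)
  let β : Agent.Grp.SchurM.UE f →* W ⧸ C := QuotientGroup.lift _ ψ hψc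
  have hβz : β z = w ^ e := by
    rw [hz, hu1e, hu3e]
    have e1 : β (a ^ m) = ψ (FreeGroup.of true ^ m) := rfl
    have e3 : β (b * a * b⁻¹ * (a ^ r)⁻¹) =
        ψ (FreeGroup.of false * FreeGroup.of true * (FreeGroup.of false)⁻¹ * (FreeGroup.of true ^ r)⁻¹) := rfl
    rw [map_mul, map_pow β (a ^ m) u, map_pow β _ v, e1, e3, hψ1, hψ3, mul_one, pow_mul, map_pow q (A ^ m) s,
      ← pow_mul, ← pow_add, he]
  have hzo : orderOf z = g := by
    refine Nat.dvd_antisymm (orderOf_dvd_of_pow_eq_one hzg) ?_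
    have h1 := orderOf_map_dvd β z
    rwa [hβz, Nat.Coprime.orderOf_pow (hwo ▸ hecop.symm), hwo] at h1
  have hM : Agent.Grp.SchurM.mult f = Subgroup.zpowers z := le_antisymm hMle (Subgroup.zpowers_le.mpr hzM)
  have hcyc : IsCyclic (Agent.Grp.SchurM.mult f) := by rw [hM]; infer_instance
  have hcard : Nat.card (Multiplicative (ZMod g)) = Nat.card (Agent.Grp.SchurM.mult f) := by
    rw [hM, Nat.card_zpowers, hzo]
    exact Nat.card_zmod g
  have : Finite P := by
    set a₀ : P := f (FreeGroup.of true)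
    set b₀ : P := f (FreeGroup.of false)
    have e1 : a₀ ^ m = 1 := by rw [← map_pow]; exact PresentedGroup.one_of_mem (by simp [hrels])
    have e2 : b₀ ^ n = a₀ ^ t := by
      refine mul_inv_eq_one.mp ?_
      rw [← map_pow, ← map_pow, ← map_inv, ← map_mul]
      exact PresentedGroup.one_of_mem (by simp [hrels])
    have e3 : b₀ * a₀ * b₀⁻¹ = a₀ ^ r := by
      refine mul_inv_eq_one.mp ?_
      rw [← map_inv, ← map_mul, ← map_mul, ← map_pow, ← map_inv, ← map_mul]
      exact PresentedGroup.one_of_mem (by simp [hrels])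
    have ha₀ : IsOfFinOrder a₀ := isOfFinOrder_iff_pow_eq_one.mpr ⟨m, hm, e1⟩
    have hb₀ : IsOfFinOrder b₀ := isOfFinOrder_iff_pow_eq_one.mpr ⟨n * m, Nat.mul_pos hn hm, by
      rw [pow_mul, e2, ← pow_mul, mul_comm t, pow_mul, e1, one_pow]⟩
    have hgenP : Subgroup.closure ({a₀, b₀} : Set P) = ⊤ := by
      rw [eq_top_iff, ← PresentedGroup.closure_range_of rels, Subgroup.closure_le]
      rintro _ ⟨x, rfl⟩
      cases x
      · exact Subgroup.subset_closure (Or.inr rfl)
      · exact Subgroup.subset_closure (Or.inl rfl)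
    have hAn : (Subgroup.zpowers a₀).Normal := by
      refine ⟨fun y hy x => ?_⟩
      have h1 : x ∈ Submonoid.closure ({a₀, b₀} : Set P) := by
        rw [← Subgroup.closure_toSubmonoid_of_isOfFinOrder (by rintro x (rfl | rfl) <;> assumption)]
        rw [Subgroup.mem_toSubmonoid, hgenP]; exact Subgroup.mem_top x
      induction h1 using Submonoid.closure_induction generalizing y with
      | one => simpa using hy
      | mem x hx =>
        obtain ⟨i, rfl⟩ := hy
        rcases hx with rfl | rfl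
        · exact ⟨i, by group⟩
        · show b₀ * a₀ ^ i * b₀⁻¹ ∈ _
          rw [← conj_zpow, e3]
          exact zpow_mem (Subgroup.npow_mem_zpowers _ r) i
      | mul x x' _ _ hx hx' =>
        rw [show x * x' * y * (x * x')⁻¹ = x * (x' * y * x'⁻¹) * x⁻¹ by group]
        exact hx _ (hx' y hy)
    have hfa : Finite (Subgroup.zpowers a₀) := ha₀.finite_zpowers
    have hfb : Finite (Subgroup.zpowers b₀) := hb₀.finite_zpowers
    refine Finite.of_surjective (fun x : Subgroup.zpowers a₀ × Subgroup.zpowers b₀ => (x.1 : P) * x.2) fun x => ?_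
    have h1 : x ∈ Subgroup.zpowers a₀ ⊔ Subgroup.zpowers b₀ := by
      have h2 : Subgroup.closure ({a₀, b₀} : Set P) ≤ Subgroup.zpowers a₀ ⊔ Subgroup.zpowers b₀ := by
        rw [Subgroup.closure_le]
        rintro _ (rfl | rfl)
        · exact Subgroup.mem_sup_left (Subgroup.mem_zpowers _)
        · exact Subgroup.mem_sup_right (Subgroup.mem_zpowers _)
      exact h2 (hgenP ▸ Subgroup.mem_top x)
    obtain ⟨y, hy, y', hy', rfl⟩ := Subgroup.mem_sup_of_normal_left.mp h1
    exact ⟨(⟨y, hy⟩, ⟨y', hy'⟩), rfl⟩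
  exact Agent.Grp.SchurM.hasSchurMultiplier_of_equiv f hf (mulEquivOfCyclicCardEq hcard)

end Cfsg.Agent.S3967
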