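import Cfsg.Statements.S3968
import Mathlib
import Cfsg.Agent.Lib.Char.Average
import Cfsg.Agent.Lib.Char.Kernel
import Cfsg.Agent.Lib.Char.Integral
import Cfsg.Agent.Lib.Char.Constituent
import Cfsg.Agent.Lib.Grp.Frattini
-- import your own Cfsg.Agent.* helpers here

set_option autoImplicit false
open Cfsg

namespace Cfsg.Agent.S3968

/-- Let `p` be a prime and `G` a finite group with a faithful irreducible complex character of degree `p` (so `G` is an irreducible linear group in `p` variables). If `p ^ 2` divides the order of `G`, then the centre of `G` is nontrivial. -/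
theorem result {G : Type*} [Group G] [Finite G] (p : ℕ) (hp : p.Prime) (χ : Cfsg.IrrCharacter G) (hdeg : χ.1 1 = p) (hfaith : ∀ g : G, χ.1 g = χ.1 1 → g = 1) (hdiv : p ^ 2 ∣ Nat.card G) : Subgroup.center G ≠ ⊥ := by
  classical
  cases nonempty_fintype G
  haveI : Fact p.Prime := ⟨hp⟩
  intro hZ
  obtain ⟨n, ρ, hρ, hρχ⟩ := χ.2
  have hfin : (Module.finrank ℂ (Fin n → ℂ) : ℂ) = (p : ℂ) := by rw [← Representation.char_one ρ, hρχ]; exact hdeg
  have hfin' : Module.finrank ℂ (Fin n → ℂ) = p := by exact_mod_cast hfin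
  -- elements acting by scalars are central
  have hscal : ∀ z : G, ‖χ.1 z‖ = (p : ℝ) → z = 1 := by
    intro z hz
    have h1 : ‖ρ.character z‖ = (Module.finrank ℂ (Fin n → ℂ) : ℝ) := by rw [hρχ, hfin', hz]
    obtain ⟨c, hc⟩ := (Cfsg.Agent.Char.norm_character_eq_iff ρ z).1 h1
    have hcen : z ∈ Subgroup.center G := Subgroup.mem_center_iff.2 fun g => by
      have hcomm : ρ z * ρ g = ρ g * ρ z := by rw [hc]; ext x; simp
      have hk : z * g * z⁻¹ * g⁻¹ = 1 := hfaith _ (by
        rw [← hρχ, Representation.char_one, Cfsg.Agent.Char.character_eq_finrank_iff, ← Module.End.one_eq_id]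
        calc ρ (z * g * z⁻¹ * g⁻¹) = ρ z * ρ g * ρ (z⁻¹ * g⁻¹) := by
              rw [← map_mul, ← map_mul]; congr 1; group
          _ = 1 := by rw [hcomm, ← map_mul, ← map_mul, show g * z * (z⁻¹ * g⁻¹) = 1 by group, map_one])
      rw [mul_inv_eq_one, mul_inv_eq_iff_eq_mul] at hk
      exact hk.symm
    exact Subgroup.mem_bot.1 (hZ ▸ hcen)
  let P : Sylow p G := default
  haveI := P.isPGroup'.isNilpotent
  have hPcard : p ^ 2 ∣ Nat.card P := P.pow_dvd_card_of_pow_dvd_card hdiv
  have hres : IsCharacter (P : Subgroup G) (fun x : (P : Subgroup G) => χ.1 x) :=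
    Cfsg.Agent.Char.IsChar.comp (P : Subgroup G).subtype (Cfsg.Agent.Char.IsIrr.isCharacter χ.2)
  by_cases hab : IsMulCommutative P
  · have hvan : ∀ x : (P : Subgroup G), x ≠ 1 → χ.1 (x : G) = 0 := by
      intro x hx
      by_contra h0
      refine hx (Subtype.ext (hscal x ?_))
      haveI := hρ
      have hidx : ¬ p ∣ (Subgroup.centralizer ({(x : G)} : Set G)).index := fun hd =>
        P.not_dvd_index (hd.trans (Subgroup.index_dvd_of_le fun y hy => Subgroup.mem_centralizer_singleton_iff.2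
          (congrArg Subtype.val (mul_comm' (⟨y, hy⟩ : (P : Subgroup G)) x))))
      rcases Cfsg.Agent.Char.character_eq_zero_or_norm_eq ρ (x : G)
        (by rw [hfin']; exact hp.coprime_iff_not_dvd.2 hidx) with h | h
      · exact absurd (hρχ ▸ h) h0
      · rw [← hρχ, h, hfin']
    obtain ⟨a, ha, -⟩ := Cfsg.Agent.Char.IsChar.exists_decomp_inner hres
    have h1 := ha ⟨fun _ => 1, Cfsg.Agent.Char.isIrr_one⟩
    simp only [classInner, map_one, mul_one] at h1
    rw [Finset.sum_eq_single (1 : (P : Subgroup G)) (fun x _ hx => hvan x hx) (fun h => absurd (Finset.mem_univ _) h),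
      OneMemClass.coe_one, hdeg, inv_mul_eq_iff_eq_mul₀ (Nat.cast_ne_zero.2 Nat.card_pos.ne')] at h1
    have h2 : p = Nat.card P * a ⟨fun _ => 1, Cfsg.Agent.Char.isIrr_one⟩ := by exact_mod_cast h1
    have h3 := hPcard.trans ((dvd_mul_right _ _).trans (dvd_of_eq h2.symm))
    have h4 := Nat.le_of_dvd hp.pos h3
    have := hp.two_le
    nlinarith
  · have hne : commutator P ≠ ⊥ := fun h => hab ⟨⟨fun a b => commutatorElement_eq_one_iff_mul_comm.1
      (Subgroup.mem_bot.1 (h ▸ Subgroup.commutator_mem_commutator (Subgroup.mem_top a) (Subgroup.mem_top b)))⟩⟩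
    obtain ⟨z, ⟨hzc, hzZ⟩, hz1⟩ := (Subgroup.bot_or_exists_ne_one _).resolve_left
      (Cfsg.Agent.Grp.inf_center_ne_bot (commutator P) hne)
    obtain ⟨a, ha, hdec⟩ := Cfsg.Agent.Char.IsChar.exists_decomp_inner hres
    obtain ⟨φ, hφa, hφz⟩ : ∃ φ : IrrCharacter P, a φ ≠ 0 ∧ (φ : P → ℂ) z ≠ (φ : P → ℂ) 1 := by
      by_contra hno
      push Not at hno
      refine hz1 (Subtype.ext (hfaith _ ?_))
      have e1 := congrFun hdec z
      have e2 := congrFun hdec 1
      simp only [Finset.sum_apply, Pi.smul_apply, smul_eq_mul, OneMemClass.coe_one] at e1 e2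
      rw [e1, e2]
      refine Finset.sum_congr rfl fun φ _ => ?_
      by_cases h : a φ = 0
      · simp [h]
      · rw [hno φ h]
    obtain ⟨d, hd0, hd⟩ := Cfsg.Agent.Char.IsIrr.one_eq_pos φ.2
    have hd1 : d ≠ 1 := fun e => hφz (by
      obtain ⟨l, hl⟩ := Cfsg.Agent.Char.linearHom_of_isCharacter (Cfsg.Agent.Char.IsIrr.isCharacter φ.2)
        (by rw [hd, e, Nat.cast_one])
      have hk : commutator P ≤ l.ker := Abelianization.commutator_subset_ker l
      rw [hl]
      simp [MonoidHom.mem_ker.1 (hk hzc)])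
    have hdp : p ≤ d := by
      obtain ⟨k, hk⟩ := IsPGroup.iff_card.1 P.isPGroup'
      obtain ⟨i, -, hi⟩ := (Nat.dvd_prime_pow hp).1 (hk ▸ Cfsg.Agent.Char.IsIrr.degree_dvd_card φ.2 hd)
      rcases Nat.eq_zero_or_pos i with rfl | h0
      · exact absurd (by simpa using hi) hd1
      · rw [hi]; exact Nat.le_self_pow h0.ne' p
    have hdp' : d ≤ p := by
      choose e he0 he using fun ψ : IrrCharacter P => Cfsg.Agent.Char.IsIrr.one_eq_pos ψ.2
      have e2 := congrFun hdec 1
      simp only [Finset.sum_apply, Pi.smul_apply, smul_eq_mul, OneMemClass.coe_one, hdeg, he] at e2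
      have e3 : p = ∑ ψ : IrrCharacter P, a ψ * e ψ := by exact_mod_cast e2
      have e4 : a φ * e φ ≤ p := by
        rw [e3]; exact Finset.single_le_sum (f := fun ψ : IrrCharacter P => a ψ * e ψ) (fun _ _ => Nat.zero_le _) (Finset.mem_univ φ)
      have e5 : e φ = d := by
        have := (he φ).symm.trans hd
        exact_mod_cast this
      rw [← e5]
      exact (Nat.le_mul_of_pos_left _ (Nat.pos_of_ne_zero hφa)).trans e4
    have heq := Cfsg.Agent.Char.eq_of_constituent_degree hres φ.2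
      (by rw [ha φ]; exact_mod_cast hφa)
      (by rw [OneMemClass.coe_one, hdeg, hd, le_antisymm hdp' hdp])
    obtain ⟨c, hc, hcz⟩ := Cfsg.Agent.Char.IsIrr.scalar_of_center φ.2 hzZ
    refine hz1 (Subtype.ext (hscal _ ?_))
    have e1 := congrFun heq z
    have e2 := congrFun heq 1
    simp only [OneMemClass.coe_one] at e1 e2
    rw [e1, ← mul_one z, hcz, norm_mul, hc, one_mul, ← e2, hdeg, Complex.norm_natCast]

end Cfsg.Agent.S3968
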