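import Cfsg.Statements.S3969
import Mathlib
import Cfsg.Agent.S0014
import Cfsg.Agent.S0029
-- import your own Cfsg.Agent.* helpers here

set_option autoImplicit false
open Cfsg

namespace Cfsg.Agent.S3969

universe w

theorem centralizes_sylow_of_coprime {G : Type w} [Group G] [Finite G] {p : ℕ} [hp : Fact p.Prime]
    (P : Subgroup G) (hP : IsPGroup p P)
    (hcop : (Nat.card G).Coprime (∏ i ∈ Finset.Icc 1 (Group.rank P), (p ^ i - 1)))
    (g : G) (hg : g ∈ Subgroup.normalizer (P : Set G)) (hgp : (orderOf g).Coprime p) :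
    g ∈ Subgroup.centralizer (P : Set G) := by
  classical
  let F := frattini P
  obtain ⟨n, hn⟩ := IsPGroup.iff_card.1 (hP.to_quotient F)
  have hrank : n ≤ Group.rank P := by
    obtain ⟨S, hS1, hS2⟩ := Group.rank_spec P
    rw [← hS1]
    exact (Cfsg.Agent.S0014.result p n hP hn).2 S hS2
  let N := Subgroup.normalizer (P : Set G)
  let φ : N → ((P ⧸ F) ≃* (P ⧸ F)) := fun a => QuotientGroup.congr F F
    (Subgroup.normalizerMonoidHom P a) (Subgroup.characteristic_iff_map_eq.1 inferInstance _)
  let ψ : N →* Equiv.Perm (P ⧸ F) :=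
    MonoidHom.mk' (fun a => (φ a).toEquiv) (fun a b => by
        ext q
        obtain ⟨q, rfl⟩ := QuotientGroup.mk_surjective q
        show (QuotientGroup.mk (Subgroup.normalizerMonoidHom P (a * b) q) : P ⧸ F) =
          QuotientGroup.mk (Subgroup.normalizerMonoidHom P a (Subgroup.normalizerMonoidHom P b q))
        rw [map_mul]
        rfl)
  have hψ : ψ ⟨g, hg⟩ = 1 := by
    by_contra hne
    set o := orderOf (ψ ⟨g, hg⟩) with ho
    obtain ⟨r, hr, hrd⟩ := Nat.exists_prime_and_dvd (n := o) (by simpa [ho] using hne)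
    haveI := Fact.mk hr
    set a : N := ⟨g, hg⟩ ^ (o / r) with ha
    have hao : orderOf (ψ a) = r := by
      rw [ha, map_pow, ho, orderOf_pow_orderOf_div (orderOf_pos _).ne' (ho ▸ hrd)]
    have hrG : r ∣ Nat.card G :=
      (hrd.trans ((orderOf_map_dvd ψ _).trans (dvd_of_eq (Subgroup.orderOf_mk g hg)))).trans
        (orderOf_dvd_natCard g)
    have hrp : r ≠ p := fun e => by
      subst e
      exact hr.ne_one (Nat.eq_one_of_dvd_coprimes hgp
        (hrd.trans ((orderOf_map_dvd ψ _).trans (dvd_of_eq (Subgroup.orderOf_mk g hg)))) dvd_rfl)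
    -- fixed points form a subgroup
    let C : Subgroup (P ⧸ F) :=
      { carrier := {q | φ a q = q}
        one_mem' := map_one (φ a)
        mul_mem' := fun {x y} hx hy => by
          show φ a (x * y) = x * y
          rw [map_mul]
          exact congrArg₂ (· * ·) hx hy
        inv_mem' := fun {x} hx => by
          show φ a x⁻¹ = x⁻¹
          rw [map_inv]
          exact congrArg _ hx }
    obtain ⟨c, hcn, hc⟩ := (Nat.dvd_prime_pow hp.out).1 (hn ▸ C.card_subgroup_dvd_card)
    have hmod : Nat.card (P ⧸ F) ≡ Nat.card C [MOD r] := by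
      letI : MulAction (Subgroup.zpowers (ψ a)) (P ⧸ F) := inferInstance
      have hz : IsPGroup r (Subgroup.zpowers (ψ a)) :=
        IsPGroup.of_card (n := 1) (by rw [Nat.card_zpowers, hao, pow_one])
      have h := hz.card_modEq_card_fixedPoints (P ⧸ F)
      have e : Nat.card (MulAction.fixedPoints (Subgroup.zpowers (ψ a)) (P ⧸ F)) = Nat.card C := by
        refine Nat.card_congr (Equiv.subtypeEquivRight fun q => ?_)
        constructor
        · intro hq; exact hq ⟨ψ a, Subgroup.mem_zpowers _⟩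
        · rintro hq ⟨s, hs⟩
          obtain ⟨i, rfl⟩ := Subgroup.mem_zpowers_iff.1 hs
          have hst : ψ a ∈ MulAction.stabilizer (Equiv.Perm (P ⧸ F)) q := hq
          exact (zpow_mem hst i : ψ a ^ i ∈ MulAction.stabilizer (Equiv.Perm (P ⧸ F)) q)
      rwa [e] at h
    rw [hn, hc] at hmod
    rcases hcn.lt_or_eq with hlt | heq
    · have hd := (Nat.modEq_iff_dvd' (Nat.pow_le_pow_right hp.out.pos hcn)).1 hmod.symm
      rw [show p ^ n - p ^ c = p ^ c * (p ^ (n - c) - 1) by
        rw [Nat.mul_sub, ← pow_add, mul_one, Nat.add_sub_cancel' hcn]] at hd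
      rcases hr.dvd_mul.1 hd with h | h
      · exact hrp ((Nat.prime_dvd_prime_iff_eq hr hp.out).1 (hr.dvd_of_dvd_pow h))
      · have hmem : n - c ∈ Finset.Icc 1 (Group.rank P) := Finset.mem_Icc.2 ⟨by omega, by omega⟩
        exact hr.ne_one (Nat.eq_one_of_dvd_coprimes hcop hrG
          (h.trans (Finset.dvd_prod_of_mem (fun i => p ^ i - 1) hmem)))
    · have hCtop : C = ⊤ := Subgroup.eq_top_of_card_eq C (by rw [hc, heq, hn])
      have : ψ a = 1 := Equiv.ext fun q => (hCtop ▸ Subgroup.mem_top q : q ∈ C)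
      rw [this, orderOf_one] at hao
      exact hr.ne_one hao.symm
  obtain ⟨k, hk⟩ := IsPGroup.iff_card.1 hP
  refine Cfsg.Agent.S0029.result (Subgroup.zpowers g) P (Subgroup.zpowers_le.2 hg) ?_ ?_
    (Subgroup.mem_zpowers g)
  · rw [Nat.card_zpowers]
    exact (hgp.pow_right k).coprime_dvd_right (hk ▸ F.card_subgroup_dvd_card)
  · intro a ha x hx
    obtain ⟨i, rfl⟩ := Subgroup.mem_zpowers_iff.1 ha
    have h1 : ψ (⟨g, hg⟩ ^ i) = 1 := by rw [map_zpow, hψ, one_zpow]
    have h2 := congrArg (fun e : Equiv.Perm (P ⧸ F) => e (QuotientGroup.mk (⟨x, hx⟩ : P))) h1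
    have h3 : (QuotientGroup.mk (Subgroup.normalizerMonoidHom P (⟨g, hg⟩ ^ i) ⟨x, hx⟩) : P ⧸ F) =
        QuotientGroup.mk (⟨x, hx⟩ : P) := h2
    rw [QuotientGroup.eq] at h3
    refine ⟨((Subgroup.normalizerMonoidHom P (⟨g, hg⟩ ^ i) ⟨x, hx⟩) * (⟨x, hx⟩ : P)⁻¹), ?_, ?_⟩
    · have h4 := inv_mem h3
      rw [mul_inv_rev, inv_inv] at h4
      exact Subgroup.Normal.mem_comm inferInstance h4
    · rfl

/-- Let `P` be an abelian Sylow `p`-subgroup of the finite group `G`, generated by `d` elements (`d` its minimal number of generators). If the order of `G` is coprime to `(p - 1)(p ^ 2 - 1) ⋯ (p ^ d - 1)`, then `G` has a normal `p`-complement. (The classical statement needs only the largest number of cyclic factors of `P` of equal order in place of `d`; the form here follows from it.) -/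
theorem result {G : Type*} [Group G] [Finite G] (p : ℕ) [Fact p.Prime] (P : Sylow p G) (hab : IsMulCommutative (P : Subgroup G)) (hcop : Nat.Coprime (Nat.card G) (∏ i ∈ Finset.Icc 1 (Group.rank (P : Subgroup G)), (p ^ i - 1))) : Cfsg.HasNormalPComplement p G := by
  have hp : p.Prime := Fact.out
  have hle : Subgroup.normalizer ((P : Subgroup G) : Set G) ≤
      Subgroup.centralizer ((P : Subgroup G) : Set G) := by
    intro g hg
    set o := orderOf g with ho
    obtain ⟨e, m, hm, hom⟩ := Nat.exists_eq_pow_mul_and_not_dvd (orderOf_pos g).ne' p hp.ne_one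
    have hm0 : m ≠ 0 := fun h => hm (by simp [h])
    have hcp : (p ^ e).Coprime m := ((hp.coprime_iff_not_dvd).2 hm).pow_left e
    have hu : g ^ m ∈ (P : Subgroup G) := by
      have hN : g ^ m ∈ Subgroup.normalizer ((P : Subgroup G) : Set G) := pow_mem hg m
      set P' := P.subtype (Subgroup.le_normalizer (H := (P : Subgroup G))) with hP'
      haveI : P'.toSubgroup.Normal := by
        rw [hP', Sylow.coe_subtype]
        exact Subgroup.normal_in_normalizer
      obtain ⟨R, hR⟩ := (IsPGroup.of_card (p := p) (n := e)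
        (G := Subgroup.zpowers (⟨g ^ m, hN⟩ : Subgroup.normalizer ((P : Subgroup G) : Set G)))
        (by rw [Nat.card_zpowers, Subgroup.orderOf_mk, orderOf_pow' _ hm0, hom,
          Nat.gcd_eq_right (dvd_mul_left m _), Nat.mul_div_cancel _ (Nat.pos_of_ne_zero hm0)])).exists_le_sylow
      obtain ⟨x, hx⟩ := MulAction.exists_smul_eq (Subgroup.normalizer ((P : Subgroup G) : Set G)) P' R
      rw [Sylow.smul_eq_of_normal] at hx
      have := hR (Subgroup.mem_zpowers _)
      rw [← hx, hP', Sylow.coe_subtype] at this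
      exact this
    have hv : g ^ (p ^ e) ∈ Subgroup.centralizer ((P : Subgroup G) : Set G) := by
      refine centralizes_sylow_of_coprime (P : Subgroup G) P.isPGroup' hcop _ (pow_mem hg _) ?_
      rw [orderOf_pow' _ (pow_ne_zero _ hp.ne_zero), hom, Nat.gcd_eq_right (dvd_mul_right _ m),
        Nat.mul_div_cancel_left _ (pow_pos hp.pos e)]
      exact ((hp.coprime_iff_not_dvd).2 hm).symm
    have hu' : g ^ m ∈ Subgroup.centralizer ((P : Subgroup G) : Set G) :=
      Subgroup.mem_centralizer_iff.2 fun y hy =>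
        congrArg Subtype.val (hab.is_comm.comm (⟨y, hy⟩ : (P : Subgroup G)) ⟨_, hu⟩)
    have hgz : Nat.gcd (p ^ e) m = 1 := hcp
    have : g = (g ^ (p ^ e)) ^ (Nat.gcdA (p ^ e) m) * (g ^ m) ^ (Nat.gcdB (p ^ e) m) := by
      rw [← zpow_natCast, ← zpow_natCast g m, ← zpow_mul, ← zpow_mul, ← zpow_add, ← Nat.gcd_eq_gcd_ab,
        hgz, Nat.cast_one, zpow_one]
    rw [this]
    exact mul_mem (zpow_mem hv _) (zpow_mem hu' _)
  exact ⟨P, _, inferInstance, MonoidHom.ker_transferSylow_isComplement' P hle⟩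

end Cfsg.Agent.S3969
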