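import Cfsg.Statements.S3971
import Mathlib
import Cfsg.Agent.S0029
import Cfsg.Agent.Lib.Grp.Frattini
import Cfsg.Agent.Lib.Grp.Basic
import Cfsg.Agent.Lib.Transfer.Frobenius
-- import your own Cfsg.Agent.* helpers here

set_option autoImplicit false
open Cfsg

namespace Cfsg.Agent.S3971

open scoped commutatorElement

universe w

theorem centralizes_of_two_step {G : Type w} [Group G] [Finite G] (Q : Subgroup G)
    (hQ : IsPGroup 2 Q) (x : G) (d : G) (hd : d ∈ Q)
    (hgen : ∀ q ∈ Q, q ∈ Subgroup.zpowers x ∨ d⁻¹ * q ∈ Subgroup.zpowers x)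
    (g : G) (hg : g ∈ Subgroup.normalizer (Q : Set G)) (hco : (orderOf g).Coprime 6) :
    g ∈ Subgroup.centralizer (Q : Set G) := by
  classical
  haveI := Fact.mk Nat.prime_two
  -- the trace of `⟨x⟩` on `Q` is cyclic
  obtain ⟨⟨⟨c, hcQ⟩, hc⟩, hcgen⟩ := (isCyclic_of_injective
    (Subgroup.inclusion (inf_le_right : Q ⊓ Subgroup.zpowers x ≤ Subgroup.zpowers x))
    (Subgroup.inclusion_injective _) : IsCyclic (Q ⊓ Subgroup.zpowers x : Subgroup G)).exists_generator
      |> fun ⟨c, hc⟩ => (⟨⟨⟨c.1, c.2.1⟩, c.2.2⟩, fun q hq hx => by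
        obtain ⟨i, hi⟩ := hc ⟨q, hq, hx⟩
        exact ⟨i, congrArg Subtype.val hi⟩⟩ :
        ∃ c : {c : Q // (c : G) ∈ Subgroup.zpowers x}, ∀ q ∈ Q, q ∈ Subgroup.zpowers x →
          ∃ i : ℤ, ((c.1 : G)) ^ i = q)
  let F := frattini Q
  let f : Bool × Bool → Q ⧸ F := fun w =>
    QuotientGroup.mk ((if w.1 then (⟨d, hd⟩ : Q) else 1) * (if w.2 then (⟨c, hcQ⟩ : Q) else 1))
  have hf : Function.Surjective f := by
    intro q
    obtain ⟨⟨q, hq⟩, rfl⟩ := QuotientGroup.mk_surjective q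
    have par : ∀ i : ℤ, ∃ b : Bool, (QuotientGroup.mk ((⟨c, hcQ⟩ : Q) ^ i) : Q ⧸ F) =
        QuotientGroup.mk (if b then (⟨c, hcQ⟩ : Q) else 1) := by
      intro i
      have hsq : (QuotientGroup.mk (⟨c, hcQ⟩ : Q) : Q ⧸ F) ^ (2 : ℤ) = 1 := by
        rw [show (2 : ℤ) = ((2 : ℕ) : ℤ) from rfl, zpow_natCast, ← QuotientGroup.mk_pow,
          QuotientGroup.eq_one_iff]
        exact Cfsg.Agent.Grp.pGroup_pow_mem_frattini hQ _
      rcases Int.even_or_odd i with ⟨j, rfl⟩ | ⟨j, rfl⟩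
      · refine ⟨false, ?_⟩
        rw [QuotientGroup.mk_zpow, ← two_mul, zpow_mul, hsq, one_zpow]
        simp
      · refine ⟨true, ?_⟩
        rw [QuotientGroup.mk_zpow, zpow_add, zpow_mul, hsq, one_zpow, one_mul, zpow_one]
        simp
    rcases hgen q hq with h | h
    · obtain ⟨i, hi⟩ := hcgen q hq h
      obtain ⟨b, hb⟩ := par i
      refine ⟨(false, b), ?_⟩
      have : ((⟨c, hcQ⟩ : Q) ^ i) = ⟨q, hq⟩ := Subtype.ext (by simpa using hi)
      rw [this] at hb
      rw [hb]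
      simp [f]
    · obtain ⟨i, hi⟩ := hcgen _ (mul_mem (inv_mem hd) hq) h
      obtain ⟨b, hb⟩ := par i
      refine ⟨(true, b), ?_⟩
      have : (⟨d, hd⟩ : Q) * ((⟨c, hcQ⟩ : Q) ^ i) = ⟨q, hq⟩ := Subtype.ext (by
        simp only [Subgroup.coe_mul, SubgroupClass.coe_zpow]
        rw [hi, mul_inv_cancel_left])
      show (QuotientGroup.mk ((⟨d, hd⟩ : Q) * (if b then (⟨c, hcQ⟩ : Q) else 1)) : Q ⧸ F) = _
      rw [QuotientGroup.mk_mul, ← hb, ← QuotientGroup.mk_mul, this]
  have hcard : Nat.card (Q ⧸ F) ≤ 4 := (Nat.card_le_card_of_surjective f hf).trans_eq (by simp)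
  -- the induced permutation of the Frattini quotient
  let ψ : Subgroup.normalizer (Q : Set G) →* Equiv.Perm (Q ⧸ F) :=
    MonoidHom.mk' (fun a => (QuotientGroup.congr F F (Subgroup.normalizerMonoidHom Q a)
      (Subgroup.characteristic_iff_map_eq.1 inferInstance _)).toEquiv) (fun a b => by
        ext q
        obtain ⟨q, rfl⟩ := QuotientGroup.mk_surjective q
        rw [map_mul]
        rfl)
  have hψ : ψ ⟨g, hg⟩ = 1 := by
    rw [← orderOf_eq_one_iff]
    have h1 : orderOf (ψ ⟨g, hg⟩) ∣ orderOf g :=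
      (orderOf_map_dvd ψ _).trans (dvd_of_eq (Subgroup.orderOf_mk g hg))
    have h2 : orderOf (ψ ⟨g, hg⟩) ∣ Nat.factorial 4 := by
      refine (orderOf_dvd_natCard _).trans ?_
      rw [Nat.card_perm]
      exact Nat.factorial_dvd_factorial hcard
    have h24 : (orderOf g).Coprime (Nat.factorial 4) := by
      rw [show Nat.factorial 4 = 6 * 2 * 2 from rfl]
      have h2' : (orderOf g).Coprime 2 := hco.coprime_dvd_right (by norm_num)
      exact (hco.mul_right h2').mul_right h2'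
    exact Nat.eq_one_of_dvd_coprimes h24 h1 h2
  have hQp : ∃ k, Nat.card Q = 2 ^ k := IsPGroup.iff_card.1 hQ
  refine Cfsg.Agent.S0029.result (Subgroup.zpowers g) Q (Subgroup.zpowers_le.2 hg) ?_ ?_
    (Subgroup.mem_zpowers g)
  · obtain ⟨k, hk⟩ := hQp
    rw [Nat.card_zpowers]
    exact (hco.coprime_dvd_right (by norm_num : 2 ∣ 6)).pow_right k |>.coprime_dvd_right
      (hk ▸ (frattini Q).card_subgroup_dvd_card)
  · intro a ha k hk
    obtain ⟨i, rfl⟩ := Subgroup.mem_zpowers_iff.1 ha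
    have h1 : ψ (⟨g, hg⟩ ^ i) = 1 := by rw [map_zpow, hψ, one_zpow]
    have h2 := congrArg (fun e : Equiv.Perm (Q ⧸ F) => e (QuotientGroup.mk (⟨k, hk⟩ : Q))) h1
    have h3 : (QuotientGroup.mk (Subgroup.normalizerMonoidHom Q (⟨g, hg⟩ ^ i) ⟨k, hk⟩) : Q ⧸ F) =
        QuotientGroup.mk (⟨k, hk⟩ : Q) := h2
    rw [QuotientGroup.eq] at h3
    refine ⟨((Subgroup.normalizerMonoidHom Q (⟨g, hg⟩ ^ i) ⟨k, hk⟩) * (⟨k, hk⟩ : Q)⁻¹), ?_, ?_⟩
    · have h4 := inv_mem h3
      rw [mul_inv_rev, inv_inv] at h4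
      exact Subgroup.Normal.mem_comm inferInstance h4
    · rfl

/-- Let `G` be a finite group of order `2 ^ a * n` with `n` odd and not divisible by `3`, and suppose `G` has an element of order `2 ^ (a - 1)` (so a Sylow `2`-subgroup has a cyclic subgroup of index at most `2`). Then `G` has a normal subgroup of order `n`. -/
theorem result {G : Type*} [Group G] [Finite G] (a n : ℕ) (hG : Nat.card G = 2 ^ a * n) (hn : Odd n) (h3 : ¬ 3 ∣ n) (hx : ∃ x : G, orderOf x = 2 ^ (a - 1)) : ∃ N : Subgroup G, N.Normal ∧ Nat.card N = n := by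
  haveI := Fact.mk Nat.prime_two
  obtain ⟨x, hx⟩ := hx
  have hxp : IsPGroup 2 (Subgroup.zpowers x) := IsPGroup.of_card (by rw [Nat.card_zpowers, hx])
  obtain ⟨P, hP⟩ := hxp.exists_le_sylow
  have hPc : Nat.card (P : Subgroup G) = 2 ^ a := by
    rw [P.card_eq_multiplicity, hG, Nat.factorization_mul (by positivity) hn.pos.ne',
      Finsupp.add_apply, Nat.Prime.factorization_pow Nat.prime_two,
      Nat.factorization_eq_zero_of_not_dvd hn.not_two_dvd_nat]
    simp
  have hidx : (Subgroup.zpowers x).relIndex P ≤ 2 := by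
    have h := Cfsg.Agent.Grp.card_mul_relIndex hP
    rw [Nat.card_zpowers, hx, hPc] at h
    rcases Nat.eq_zero_or_pos a with rfl | ha
    · rw [Nat.zero_sub, pow_zero, one_mul] at h; omega
    · obtain ⟨b, rfl⟩ : ∃ b, a = b + 1 := ⟨a - 1, by omega⟩
      rw [Nat.add_sub_cancel, pow_succ] at h
      exact (Nat.eq_of_mul_eq_mul_left (by positivity) h).le
  have hF : Cfsg.Agent.Transfer.FrobeniusCondition 2 (P : Subgroup G) := by
    intro Q hQP g hg hgc
    have hco : (orderOf g).Coprime 6 := by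
      rw [show (6 : ℕ) = 2 * 3 from rfl]
      refine hgc.mul_right ((Nat.prime_three.coprime_iff_not_dvd.2 fun h => h3 ?_).symm)
      have h' : 3 ∣ 2 ^ a * n := hG ▸ h.trans (orderOf_dvd_natCard g)
      exact ((Nat.Coprime.pow_right a (by norm_num : Nat.Coprime 3 2))).dvd_of_dvd_mul_left h'
    by_cases hall : ∀ q ∈ Q, q ∈ Subgroup.zpowers x
    · exact centralizes_of_two_step Q (P.isPGroup'.to_le hQP) x 1 (one_mem Q)
        (fun q hq => Or.inl (hall q hq)) g hg hco
    · push_neg at hall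
      obtain ⟨d, hd, hdx⟩ := hall
      refine centralizes_of_two_step Q (P.isPGroup'.to_le hQP) x d hd (fun q hq => ?_) g hg hco
      by_cases hqx : q ∈ Subgroup.zpowers x
      · exact Or.inl hqx
      right
      have h2 : ((Subgroup.zpowers x).subgroupOf (P : Subgroup G)).index = 2 := by
        refine le_antisymm hidx (Nat.one_lt_iff_ne_zero_and_ne_one.2
          ⟨Subgroup.index_ne_zero_of_finite, fun h => hdx ?_⟩)
        have := Subgroup.index_eq_one.1 h ▸ Subgroup.mem_top (⟨d, hQP hd⟩ : (P : Subgroup G))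
        exact this
      have := (Subgroup.mul_mem_iff_of_index_two h2 (a := (⟨d, hQP hd⟩ : (P : Subgroup G))⁻¹)
        (b := ⟨q, hQP hq⟩)).2 (by
          rw [inv_mem_iff]
          exact iff_of_false hdx hqx)
      exact this
  obtain ⟨S, N, hN, hcompl⟩ :=
    (Cfsg.Agent.Transfer.hasNormalPComplement_iff_frobeniusCondition P).2 hF
  refine ⟨N, hN, ?_⟩
  have h := hcompl.card_mul
  rw [show Nat.card (S : Subgroup G) = 2 ^ a by rw [← hPc, Sylow.card_eq_multiplicity, Sylow.card_eq_multiplicity], hG, mul_comm] at h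
  exact Nat.eq_of_mul_eq_mul_left (by positivity) h

end Cfsg.Agent.S3971
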