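import Cfsg.Statements.S3973
import Mathlib
import Cfsg.Agent.Lib.Grp.SchurM.Bilinear
import Cfsg.Agent.Lib.Grp.SchurM.Projective

set_option autoImplicit false
open Cfsg
open scoped commutatorElement

namespace Cfsg.Agent.S3973

/-- If a finite group is presented by `n` generators and a finite set of `r` relators, then its Schur multiplier can be generated by `r - n` elements. In particular a finite group with a presentation having as many relators as generators has trivial Schur multiplier. -/
theorem result (n : ℕ) (rels : Finset (FreeGroup (Fin n))) [Finite (PresentedGroup (rels : Set (FreeGroup (Fin n))))] {A : Type*} [CommGroup A] [Finite A] (hA : Cfsg.HasSchurMultiplier (PresentedGroup (rels : Set (FreeGroup (Fin n)))) A) : Group.rank A ≤ rels.card - n := by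
  classical
  let P := PresentedGroup (rels : Set (FreeGroup (Fin n)))
  let f : FreeGroup (Fin n) →* P := PresentedGroup.mk _
  have hf : Function.Surjective f := PresentedGroup.mk_surjective _
  have := Agent.Grp.SchurM.finite_mult f
  obtain ⟨eA⟩ := Agent.Grp.SchurM.equiv_mult f hf hA
  set M := Agent.Grp.SchurM.rel f
  let _ : CommGroup M := { (inferInstance : Group M) with
    mul_comm := fun a b => Subtype.ext (Subgroup.mem_center_iff.mp (Agent.Grp.SchurM.rel_le_center f b.2) a) }
  have hrel : ∀ r : rels, QuotientGroup.mk' (Agent.Grp.SchurM.relComm f) (r : FreeGroup (Fin n)) ∈ M := fun r => by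
    show f r = 1
    exact PresentedGroup.one_of_mem r.2
  let g : rels → Additive M := fun r => Additive.ofMul ⟨_, hrel r⟩
  let L : (rels → ℤ) →ₗ[ℤ] Additive M := Fintype.linearCombination ℤ g
  have hL : Function.Surjective L := by
    intro y
    set S : Subgroup (FreeGroup (Fin n)) := ((AddSubgroup.toSubgroup' (LinearMap.range L).toAddSubgroup).map M.subtype).comap
      (QuotientGroup.mk' (Agent.Grp.SchurM.relComm f))
    have hS : f.ker ≤ S := by
      have hn : S.Normal := by
        refine Subgroup.Normal.comap (H := (AddSubgroup.toSubgroup' (LinearMap.range L).toAddSubgroup).map M.subtype) ?_ _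
        exact Agent.Grp.SchurM.normal_of_central ((Subgroup.map_subtype_le _).trans (Agent.Grp.SchurM.rel_le_center f))
      show (PresentedGroup.mk (rels : Set (FreeGroup (Fin n)))).ker ≤ S
      refine (le_of_eq (QuotientGroup.ker_mk' _)).trans (Subgroup.normalClosure_le_normal ?_)
      intro r hr
      refine ⟨Additive.toMul (g ⟨r, hr⟩), ?_, rfl⟩
      refine ⟨Pi.single ⟨r, hr⟩ 1, ?_⟩
      show Fintype.linearCombination ℤ g (Pi.single ⟨r, hr⟩ 1) = g ⟨r, hr⟩
      rw [Fintype.linearCombination_apply_single, one_smul]
    obtain ⟨x, hx⟩ := QuotientGroup.mk'_surjective (Agent.Grp.SchurM.relComm f) (Additive.toMul y : M)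
    have hxk : x ∈ f.ker := by
      have h1 : Agent.Grp.SchurM.rho f ((Additive.toMul y : M) : Agent.Grp.SchurM.UE f) = 1 := (Additive.toMul y : M).2
      rw [← hx] at h1
      exact h1
    obtain ⟨k, ⟨c, hc⟩, hke⟩ := hS hxk
    refine ⟨c, ?_⟩
    rw [hc]
    exact congrArg Additive.ofMul (Subtype.ext (hke.trans hx) : k = Additive.toMul y)
  let D : Additive M →ₗ[ℤ] (Fin n →₀ ℤ) :=
    (MonoidHom.toAdditiveLeft ((Agent.Grp.SchurM.deg f).comp M.subtype)).toIntLinearMap
  set T := D.comp L
  have hrange : n ≤ Module.finrank ℤ (LinearMap.range T) := by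
    let N := Nat.card P
    have hN : 0 < N := Nat.card_pos
    have hmem : ∀ v : Fin n →₀ ℤ, (N : ℤ) • v ∈ LinearMap.range T := by
      intro v
      induction v using Finsupp.induction_linear with
      | zero => rw [smul_zero]; exact zero_mem _
      | add a b ha hb => rw [smul_add]; exact add_mem ha hb
      | single i c =>
        set e : Agent.Grp.SchurM.UE f := QuotientGroup.mk' _ (FreeGroup.of i)
        have he : e ^ N ∈ M := by
          show Agent.Grp.SchurM.rho f (e ^ N) = 1
          rw [map_pow]; exact pow_card_eq_one'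
        obtain ⟨u, hu⟩ := hL (Additive.ofMul ⟨_, he⟩)
        refine ⟨c • u, ?_⟩
        show D (L (c • u)) = _
        rw [map_smul, map_smul, hu]
        have h1 : D (Additive.ofMul ⟨_, he⟩) = (N : ℤ) • Finsupp.single i 1 := by
          show Multiplicative.toAdd (Agent.Grp.SchurM.deg f (e ^ N)) = _
          rw [map_pow, toAdd_pow, natCast_zsmul]
          simp [e, Agent.Grp.SchurM.deg]
        rw [h1, smul_comm, Finsupp.smul_single_one]
    let φ : (Fin n →₀ ℤ) →ₗ[ℤ] LinearMap.range T :=
      ((N : ℤ) • (LinearMap.id : (Fin n →₀ ℤ) →ₗ[ℤ] (Fin n →₀ ℤ))).codRestrict (LinearMap.range T) hmem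
    have hφ : Function.Injective φ := fun a b hab => by
      have h1 : (N : ℤ) • a = (N : ℤ) • b := congrArg Subtype.val hab
      exact smul_right_injective _ (by exact_mod_cast hN.ne') h1
    have := LinearMap.finrank_le_finrank_of_injective hφ
    simpa using this
  have hrn := Submodule.finrank_quotient_add_finrank (LinearMap.ker T)
  rw [T.quotKerEquivRange.finrank_eq, Module.finrank_pi, Fintype.card_coe] at hrn
  have hker : Module.finrank ℤ (LinearMap.ker T) ≤ rels.card - n := by omega
  let B := Module.finBasis ℤ (LinearMap.ker T)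
  have hmult : ∀ v : LinearMap.ker T, ((Additive.toMul (L v) : M) : Agent.Grp.SchurM.UE f) ∈ Agent.Grp.SchurM.mult f :=
    fun v => (Agent.Grp.SchurM.mem_mult_iff f _).mpr ⟨(Additive.toMul (L v) : M).2, congrArg Multiplicative.ofAdd v.2⟩
  let ψ : Multiplicative (LinearMap.ker T) →* Agent.Grp.SchurM.mult f :=
    { toFun := fun v => ⟨_, hmult (Multiplicative.toAdd v)⟩
      map_one' := Subtype.ext (by simp)
      map_mul' := fun a b => Subtype.ext (by simp) }
  have hψ : Function.Surjective ψ := by
    rintro ⟨m, hm⟩
    obtain ⟨c, hc⟩ := hL (Additive.ofMul ⟨m, hm.1⟩)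
    refine ⟨Multiplicative.ofAdd ⟨c, ?_⟩, Subtype.ext ?_⟩
    · show D (L c) = 0
      rw [hc]
      exact congrArg Multiplicative.toAdd ((Agent.Grp.SchurM.mem_mult_iff f m).mp hm).2
    · show ((Additive.toMul (L c) : M) : Agent.Grp.SchurM.UE f) = m
      rw [hc]; rfl
  set χ : Multiplicative (LinearMap.ker T) →* A := eA.symm.toMonoidHom.comp ψ
  have hχ : Function.Surjective χ := eA.symm.surjective.comp hψ
  have hgen : Subgroup.closure ((Finset.univ.image fun i => χ (Multiplicative.ofAdd (B i)) : Finset A) : Set A) = ⊤ := by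
    rw [eq_top_iff]
    intro a _
    obtain ⟨v, rfl⟩ := hχ a
    rw [show v = ∏ i, Multiplicative.ofAdd (B i) ^ (B.repr (Multiplicative.toAdd v) i) from by
      apply Multiplicative.toAdd.injective
      rw [toAdd_prod]
      simp only [toAdd_zpow, toAdd_ofAdd]
      exact (B.sum_repr _).symm]
    rw [map_prod]
    refine Subgroup.prod_mem _ fun i _ => ?_
    rw [map_zpow]
    exact Subgroup.zpow_mem _ (Subgroup.subset_closure (by simp)) _
  refine (Group.rank_le hgen).trans (Finset.card_image_le.trans ?_)
  rw [Finset.card_univ, Fintype.card_fin]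
  exact hker

end Cfsg.Agent.S3973
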