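import Cfsg.Statements.S3978
import Mathlib
import Cfsg.Agent.Lib.Grp.SchurM.Projective

set_option autoImplicit false
open Cfsg

namespace Cfsg.Agent.S3978

/-- A finite group `Q` has trivial Schur multiplier if and only if, for every `n`, every homomorphism from `Q` to the projective general linear group (the quotient of `GL n ℂ` by its centre) lifts to a homomorphism into `GL n ℂ`. -/
theorem result {Q : Type*} [Group Q] [Finite Q] : Cfsg.HasCyclicSchurMultiplier Q 1 ↔ ∀ (n : ℕ) (γ : Q →* (GL (Fin n) ℂ ⧸ Subgroup.center (GL (Fin n) ℂ))), ∃ ρ : Q →* GL (Fin n) ℂ, (QuotientGroup.mk' (Subgroup.center (GL (Fin n) ℂ))).comp ρ = γ := by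
  have hid : Cfsg.IsStemExtension (MonoidHom.id Q) :=
    ⟨Function.surjective_id, by rw [MonoidHom.ker_id]; exact bot_le, by rw [MonoidHom.ker_id]; exact bot_le⟩
  have : Subsingleton (MonoidHom.id Q).ker := by rw [MonoidHom.ker_id]; infer_instance
  let _ : Unique (MonoidHom.id Q).ker := ⟨⟨1⟩, fun a => Subsingleton.elim _ _⟩
  let _ : Unique (Multiplicative (ZMod 1)) := ⟨⟨1⟩, fun a => Subsingleton.elim _ _⟩
  constructor
  · intro h n γ
    obtain ⟨ρ, hρ⟩ := Agent.Grp.SchurM.lift_of_cover h (MonoidHom.id Q) hid ⟨MulEquiv.ofUnique⟩ n γ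
    exact ⟨ρ, hρ⟩
  · intro h
    refine Agent.Grp.SchurM.hasCyclic_one_of_forall fun Γ _ _ τ hτ => ?_
    obtain ⟨π, hπ⟩ := Agent.Grp.SchurM.cover_of_lift (MonoidHom.id Q) hid (fun n γ => h n γ) τ hτ
    have : Subsingleton τ.ker := hπ.subsingleton
    exact Subgroup.eq_bot_of_subsingleton τ.ker

end Cfsg.Agent.S3978
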