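import Cfsg.Statements.S3980
import Mathlib
import Cfsg.Agent.Lib.Grp.SchurM.Product

set_option autoImplicit false
universe u v w
open Cfsg

namespace Cfsg.Agent.S3980

/-- Let `Q₁` and `Q₂` be finite groups whose commutator quotients have coprime orders, with Schur multipliers `A` and `B`. Then the Schur multiplier of `Q₁ × Q₂` is isomorphic to `A × B`. -/
theorem result {Q₁ : Type u} {Q₂ : Type v} [Group Q₁] [Group Q₂] [Finite Q₁] [Finite Q₂] {A B : Type w} [CommGroup A] [CommGroup B] (hA : Cfsg.HasSchurMultiplier Q₁ A) (hB : Cfsg.HasSchurMultiplier Q₂ B) (hcop : Nat.Coprime (Nat.card (Abelianization Q₁)) (Nat.card (Abelianization Q₂))) : Cfsg.HasSchurMultiplier (Q₁ × Q₂) (A × B) := by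
  have h := Agent.Grp.SchurM.hasSchurMultiplier_prod Q₁ Q₂ hA hB
  have hsub : ∀ t : TensorProduct ℤ (Additive (Abelianization Q₁)) (Additive (Abelianization Q₂)), t = 0 := by
    intro t
    induction t using TensorProduct.induction_on with
    | zero => rfl
    | add a b ha hb => rw [ha, hb, add_zero]
    | tmul a b =>
      obtain ⟨u, v, huv⟩ := Int.isCoprime_iff_nat_coprime.mpr (show Nat.Coprime
        (Int.natAbs (Nat.card (Abelianization Q₁) : ℤ)) (Int.natAbs (Nat.card (Abelianization Q₂) : ℤ)) by simpa using hcop)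
      have h1 : (Nat.card (Abelianization Q₁) : ℤ) • a = 0 := by
        rw [natCast_zsmul]; exact congrArg Additive.ofMul (pow_card_eq_one' (x := Additive.toMul a))
      have h2 : (Nat.card (Abelianization Q₂) : ℤ) • b = 0 := by
        rw [natCast_zsmul]; exact congrArg Additive.ofMul (pow_card_eq_one' (x := Additive.toMul b))
      have h3 := congrArg (fun k : ℤ => k • (TensorProduct.tmul ℤ a b)) huv
      simp only [add_smul, mul_smul, one_smul] at h3
      rw [← h3]
      rw [TensorProduct.smul_tmul' (Nat.card (Abelianization Q₁) : ℤ) a b, h1, ← TensorProduct.tmul_smul (Nat.card (Abelianization Q₂) : ℤ), h2]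
      simp
  have : Subsingleton (Agent.Grp.SchurM.Tens Q₁ Q₂) :=
    ⟨fun x y => Multiplicative.toAdd.injective ((hsub _).trans (hsub _).symm)⟩
  let _ : Unique (Agent.Grp.SchurM.Tens Q₁ Q₂) := ⟨⟨1⟩, fun a => Subsingleton.elim _ _⟩
  obtain ⟨eA⟩ := Agent.Grp.SchurM.equiv_mult _ (Agent.Grp.SchurM.std_surjective _) h
  refine Agent.Grp.SchurM.hasSchurMultiplier_of_equiv _ (Agent.Grp.SchurM.std_surjective _) ?_
  exact ((MulEquiv.refl A).prodCongr MulEquiv.prodUnique.symm).trans eA

end Cfsg.Agent.S3980
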