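import Cfsg.Statements.S3981
import Cfsg.Agent.Lib.Grp.Signalizer

set_option autoImplicit false
open Cfsg

namespace Cfsg.Agent.S3981

/-- Let p be an odd prime, Q a p-subgroup of the finite group G and y an involution normalizing Q. Then Q is maximal among the p-subgroups of G normalized by y if and only if the image of y in N_G(Q) ⧸ Q neither inverts nor centralizes any element of order p there; the latter is phrased inside N_G(Q): for every x in N_G(Q) outside Q with x ^ p ∈ Q, neither y x y⁻¹ x nor y x y⁻¹ x⁻¹ lies in Q. -/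
theorem result {G : Type*} [Group G] [Finite G] (p : ℕ) [Fact p.Prime] (hp2 : p ≠ 2) (Q : Subgroup G) (hQ : IsPGroup p ↥Q) (y : G) (hy : orderOf y = 2) (hyQ : y ∈ Subgroup.normalizer (Q : Set G)) : (∀ R : Subgroup G, IsPGroup p ↥R → Q ≤ R → y ∈ Subgroup.normalizer (R : Set G) → R = Q) ↔ ∀ x : G, x ∈ Subgroup.normalizer (Q : Set G) → x ∉ Q → x ^ p ∈ Q → (y * x * y⁻¹ * x ∉ Q ∧ y * x * y⁻¹ * x⁻¹ ∉ Q) := by
  have hyy : y⁻¹ = y := inv_eq_of_mul_eq_one_right (by rw [← sq, ← hy, pow_orderOf_eq_one])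
  set M := Subgroup.normalizer (Q : Set G) with hMdef
  have hQn : (Q.subgroupOf M).Normal := Subgroup.normal_in_normalizer
  let q := QuotientGroup.mk' (Q.subgroupOf M)
  have hq : ∀ (u : G) (hu : u ∈ M), q ⟨u, hu⟩ = 1 ↔ u ∈ Q := fun u hu =>
    (QuotientGroup.eq_one_iff _).trans Subgroup.mem_subgroupOf
  constructor
  · intro hmax x hx hxQ hxp
    have key : y * x * y⁻¹ ∈ Q ⊔ Subgroup.zpowers x → False := by
      intro hyx
      set R := Q ⊔ Subgroup.zpowers x with hR
      obtain ⟨k, hk⟩ := IsPGroup.iff_orderOf.mp hQ ⟨_, hxp⟩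
      rw [Subgroup.orderOf_mk] at hk
      have hxord : ∃ m, orderOf x = p ^ m := by
        have h2 : x ^ p ^ (k + 1) = 1 := by rw [pow_succ', pow_mul, ← hk, pow_orderOf_eq_one]
        obtain ⟨m, -, hm⟩ := (Nat.dvd_prime_pow (Fact.out : p.Prime)).mp (orderOf_dvd_of_pow_eq_one h2)
        exact ⟨m, hm⟩
      obtain ⟨m, hm⟩ := hxord
      have hRp : IsPGroup p R := IsPGroup.to_sup_of_normal_left' hQ (IsPGroup.of_card (n := m) (by rw [Nat.card_zpowers, hm]))
        (Subgroup.zpowers_le.mpr hx)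
      have hyR : y ∈ Subgroup.normalizer (R : Set G) := by
        refine (Grp.invariant_iff (A := Subgroup.zpowers y)).mp ?_ (Subgroup.mem_zpowers y)
        have hle : R.map (MulAut.conj y).toMonoidHom ≤ R := by
          rw [hR, Subgroup.map_sup, sup_le_iff, MonoidHom.map_zpowers, Subgroup.zpowers_le]
          refine ⟨?_, hyx⟩
          exact (le_of_eq (Subgroup.mem_normalizer_iff_map_conj_eq.mp hyQ)).trans le_sup_left
        have : y ∈ Subgroup.normalizer (R : Set G) := Subgroup.mem_normalizer_iff_map_conj_eq.mpr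
          (Subgroup.eq_of_le_of_card_ge hle (Subgroup.card_map_of_injective (MulAut.conj y).injective).ge)
        exact fun b hb r hr => Grp.mem_conj_normalizer (Subgroup.zpowers_le.mpr this hb) hr
      exact hxQ ((hmax R hRp le_sup_left hyR).le (Subgroup.mem_sup_right (Subgroup.mem_zpowers x)))
    refine ⟨fun h => key ?_, fun h => key ?_⟩
    · have := mul_mem (Subgroup.mem_sup_left (T := Subgroup.zpowers x) h) (Subgroup.mem_sup_right (S := Q) (inv_mem (Subgroup.mem_zpowers x)))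
      rwa [mul_inv_cancel_right] at this
    · have := mul_mem (Subgroup.mem_sup_left (T := Subgroup.zpowers x) h) (Subgroup.mem_sup_right (S := Q) (Subgroup.mem_zpowers x))
      rwa [inv_mul_cancel_right] at this
  · intro h R hR hQR hyR
    by_contra hne
    classical
    haveI := hR.isNilpotent
    have hlt : Q.subgroupOf R < ⊤ := lt_top_iff_ne_top.mpr (fun e => hne (le_antisymm (Subgroup.subgroupOf_eq_top.mp e) hQR))
    obtain ⟨⟨u, huR⟩, hu, hu'⟩ := SetLike.exists_of_lt (Group.normalizerCondition_of_isNilpotent _ hlt)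
    rw [← Subgroup.subgroupOf_normalizer_eq hQR, Subgroup.mem_subgroupOf] at hu
    rw [Subgroup.mem_subgroupOf] at hu'
    have step : ∀ w : G, w ∈ R → w ∈ M → w ∉ Q → ∃ i : ℕ, w ^ p ^ i ∉ Q ∧ (w ^ p ^ i) ^ p ∈ Q := by
      intro w hw _ hwQ
      obtain ⟨k, hk⟩ := hR ⟨w, hw⟩
      have hex : ∃ k, w ^ p ^ k ∈ Q := ⟨k, by rw [show w ^ p ^ k = 1 from congrArg Subtype.val hk]; exact one_mem Q⟩
      obtain ⟨i, hi⟩ : ∃ i, Nat.find hex = i + 1 := Nat.exists_eq_succ_of_ne_zero fun e => hwQ (by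
        have := Nat.find_spec hex
        rwa [e, pow_zero, pow_one] at this)
      refine ⟨i, Nat.find_min hex (by omega), ?_⟩
      have := Nat.find_spec hex
      rwa [hi, pow_succ, pow_mul] at this
    have hconjM : ∀ w ∈ M, y * w * y⁻¹ ∈ M := fun w hw => mul_mem (mul_mem hyQ hw) (inv_mem hyQ)
    by_cases hc : y * u * y⁻¹ * u⁻¹ ∈ Q
    · obtain ⟨i, h1, h2⟩ := step u huR hu hu'
      refine (h _ (pow_mem hu _) h1 h2).2 ?_
      have e : q ⟨y * u * y⁻¹, hconjM u hu⟩ = q ⟨u, hu⟩ := by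
        rw [← mul_inv_eq_one, ← map_inv, ← map_mul]
        exact (hq _ _).mpr hc
      have e2 : q ((⟨y * u * y⁻¹, hconjM u hu⟩ : M) ^ p ^ i * ((⟨u, hu⟩ : M) ^ p ^ i)⁻¹) = 1 := by
        rw [map_mul, map_inv, map_pow, map_pow, e, mul_inv_cancel]
      rw [← conj_pow]
      exact (hq _ _).mp e2
    · set w := y * u * y⁻¹ * u⁻¹ with hw
      have hwR : w ∈ R := mul_mem (Grp.mem_conj_normalizer hyR huR) (inv_mem huR)
      have hwM : w ∈ M := mul_mem (hconjM u hu) (inv_mem hu)
      obtain ⟨i, h1, h2⟩ := step w hwR hwM hc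
      refine (h _ (pow_mem hwM _) h1 h2).1 ?_
      have e : y * w * y⁻¹ = w⁻¹ := by
        rw [hw, hyy]
        have hyy' : y * y = 1 := by rw [← sq, ← hy, pow_orderOf_eq_one]
        rw [show y * (y * u * y * u⁻¹) * y = (y * y) * u * y * u⁻¹ * y by group, hyy', one_mul, mul_inv_rev, mul_inv_rev, mul_inv_rev, inv_inv, hyy]
        group
      rw [← conj_pow, e, inv_pow, inv_mul_cancel]
      exact one_mem Q

end Cfsg.Agent.S3981
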