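import Cfsg.Statements.S3982
import Cfsg.Agent.Lib.Grp.Coprime

set_option autoImplicit false
open Cfsg
open scoped Pointwise

namespace Cfsg.Agent.S3982

/-- Let p be an odd prime and G a finite group of even order divisible by p in which the centralizer of every non-identity p-element has odd order. If some nontrivial p-subgroup of G has a normalizer of even order, then the normalizer of every Sylow p-subgroup of G has even order. -/
theorem result {G : Type*} [Group G] [Finite G] (p : ℕ) [Fact p.Prime] (hp2 : p ≠ 2) (hpG : p ∣ Nat.card G) (h2G : 2 ∣ Nat.card G) (hC : ∀ g : G, g ≠ 1 → (∃ k : ℕ, orderOf g = p ^ k) → Odd (Nat.card ↥(Subgroup.centralizer ({g} : Set G)))) (Q : Subgroup G) (hQ : IsPGroup p ↥Q) (hQ1 : Q ≠ ⊥) (hev : Even (Nat.card ↥(Subgroup.normalizer (Q : Set G)))) (P : Sylow p G) : Even (Nat.card ↥(Subgroup.normalizer ((P : Subgroup G) : Set G))) := by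
  classical
  obtain ⟨y0, hy0⟩ := exists_prime_orderOf_dvd_card' (G := ↥(Subgroup.normalizer (Q : Set G))) 2 (even_iff_two_dvd.mp hev)
  rw [← Subgroup.orderOf_coe] at hy0
  set y : G := (y0 : G) with hydef
  obtain ⟨R, ⟨hR, hQR, hyR⟩, hmax⟩ := Set.Finite.exists_maximal
    (Set.toFinite {R : Subgroup G | IsPGroup p R ∧ Q ≤ R ∧ y ∈ Subgroup.normalizer (R : Set G)}) ⟨Q, hQ, le_rfl, y0.2⟩
  have hR1 : R ≠ ⊥ := fun e => hQ1 (le_bot_iff.mp (e ▸ hQR))
  have hyy : y * y = 1 := by rw [← sq, ← hy0, pow_orderOf_eq_one]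
  have hyi : y⁻¹ = y := inv_eq_of_mul_eq_one_right hyy
  suffices hS : ∃ S : Sylow p G, (S : Subgroup G) = R by
    obtain ⟨S, hS⟩ := hS
    obtain ⟨g, rfl⟩ := MulAction.exists_smul_eq G S P
    have h : g * y * g⁻¹ ∈ Subgroup.normalizer (((g • S : Sylow p G) : Subgroup G) : Set G) := by
      rw [Grp.mem_normalizer_iff_smul, Sylow.coe_subgroup_smul, hS, Grp.conj_smul_conj_smul, inv_mul_cancel_right,
        ← Grp.conj_smul_conj_smul, Grp.mem_normalizer_iff_smul.mp hyR]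
    have h2 : orderOf (g * y * g⁻¹) = 2 :=
      (orderOf_injective (MulAut.conj g).toMonoidHom (MulAut.conj g).injective y).trans hy0
    exact even_iff_two_dvd.mpr (h2 ▸ Subgroup.orderOf_dvd_natCard _ h)
  obtain ⟨S, hS⟩ := hR.exists_le_sylow
  refine ⟨S, le_antisymm ?_ hS⟩
  by_contra hne
  have hcfix : ∀ r ∈ R, y * r * y⁻¹ = r → r = 1 := by
    intro r hr hf
    by_contra hr1
    obtain ⟨k, hk⟩ := IsPGroup.iff_orderOf.mp hR ⟨r, hr⟩
    rw [Subgroup.orderOf_mk] at hk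
    have hmem : y ∈ Subgroup.centralizer ({r} : Set G) := Subgroup.mem_centralizer_singleton_iff.mpr (mul_inv_eq_iff_eq_mul.mp hf)
    exact Nat.not_even_iff_odd.mpr (hC r hr1 ⟨k, hk⟩) (even_iff_two_dvd.mpr (hy0 ▸ Subgroup.orderOf_dvd_natCard _ hmem))
  have hinv : ∀ r ∈ R, y * r * y⁻¹ = r⁻¹ := by
    let φ : R →* R := MonoidHom.mk' (fun r : R => (⟨y * r * y⁻¹, Grp.mem_conj_normalizer hyR r.2⟩ : R))
      (fun a b => Subtype.ext (by simp [mul_assoc]))
    have hfpf : MonoidHom.FixedPointFree φ := fun r h => Subtype.ext (hcfix r r.2 (congrArg Subtype.val h))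
    have h2 : φ^[2] = _root_.id := funext fun r => Subtype.ext (by
      show y * (y * r * y⁻¹) * y⁻¹ = (r : G)
      rw [show y * (y * (r : G) * y⁻¹) * y⁻¹ = (y * y) * r * (y * y)⁻¹ by group, hyy]; simp)
    exact fun r hr => congrArg Subtype.val (congrFun (hfpf.coe_eq_inv_of_sq_eq_one h2) ⟨r, hr⟩)
  set M := Subgroup.normalizer (R : Set G) with hM
  set C := Subgroup.centralizer (R : Set G) with hCdef
  have hCM : C ≤ M := Subgroup.centralizer_le_normalizer _
  have hMC : M ≤ Subgroup.normalizer (C : Set G) := fun m hm => by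
    rw [Grp.mem_normalizer_iff_smul]
    refine Subgroup.eq_of_le_of_card_ge ?_ (Grp.card_conj_smul m C).ge
    rintro _ ⟨c, hc, rfl⟩
    refine Subgroup.mem_centralizer_iff.mpr fun r hr => ?_
    show r * (m * c * m⁻¹) = m * c * m⁻¹ * r
    have := Subgroup.mem_centralizer_iff.mp hc _ (Grp.mem_conj_normalizer' hm hr)
    calc r * (m * c * m⁻¹) = m * ((m⁻¹ * r * m) * c) * m⁻¹ := by group
      _ = m * (c * (m⁻¹ * r * m)) * m⁻¹ := by rw [this]
      _ = _ := by group
  haveI : Nontrivial R := (Subgroup.nontrivial_iff_ne_bot R).mpr hR1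
  obtain ⟨⟨r0, hr0⟩, hr0'⟩ := exists_ne (1 : R)
  have hCodd : Odd (Nat.card C) := by
    obtain ⟨k, hk⟩ := IsPGroup.iff_orderOf.mp hR ⟨r0, hr0⟩
    rw [Subgroup.orderOf_mk] at hk
    exact (hC r0 (fun e => hr0' (Subtype.ext e)) ⟨k, hk⟩).of_dvd_nat
      (Subgroup.card_dvd_of_le (Subgroup.centralizer_le (Set.singleton_subset_iff.mpr hr0)))
  haveI := hR.isNilpotent
  haveI := S.isPGroup'.isNilpotent
  have hlt : R.subgroupOf (S : Subgroup G) < ⊤ := lt_top_iff_ne_top.mpr (fun e => hne (Subgroup.subgroupOf_eq_top.mp e))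
  obtain ⟨⟨s, hsS⟩, hs, hs'⟩ := SetLike.exists_of_lt (Group.normalizerCondition_of_isNilpotent _ hlt)
  rw [← Subgroup.subgroupOf_normalizer_eq hS, Subgroup.mem_subgroupOf] at hs
  rw [Subgroup.mem_subgroupOf] at hs'
  set K := C ⊔ Subgroup.zpowers s with hK
  obtain ⟨k, hk⟩ := IsPGroup.iff_orderOf.mp S.isPGroup' ⟨s, hsS⟩
  rw [Subgroup.orderOf_mk] at hk
  have hsC : Subgroup.zpowers s ≤ Subgroup.normalizer (C : Set G) := (Subgroup.zpowers_le.mpr hs).trans hMC
  have hKodd : Odd (Nat.card K) := by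
    refine Odd.of_dvd_nat (hCodd.mul (?_ : Odd (p ^ k))) ?_
    · exact ((Fact.out : p.Prime).odd_of_ne_two hp2).pow
    · rw [hK, sup_comm]
      have := Grp.card_sup_dvd_mul hsC
      rwa [Nat.card_zpowers, hk, mul_comm] at this
  have hcomm : y * s * y⁻¹ * s⁻¹ ∈ C := by
    refine Subgroup.mem_centralizer_iff.mpr fun r hr => ?_
    have h1 : s⁻¹ * r * s ∈ R := Grp.mem_conj_normalizer' hs hr
    have h2 := hinv _ h1
    have h3 := hinv _ hr
    have key : (y * s * y⁻¹ * s⁻¹) * r * (y * s * y⁻¹ * s⁻¹)⁻¹ = r := by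
      calc (y * s * y⁻¹ * s⁻¹) * r * (y * s * y⁻¹ * s⁻¹)⁻¹
          = y * s * (y⁻¹ * (s⁻¹ * r * s) * y) * s⁻¹ * y⁻¹ := by group
        _ = y * s * (y * (s⁻¹ * r * s) * y⁻¹) * s⁻¹ * y⁻¹ := by rw [hyi]
        _ = y * r⁻¹ * y⁻¹ := by rw [h2]; group
        _ = (y * r * y⁻¹)⁻¹ := by group
        _ = r := by rw [h3, inv_inv]
    exact (mul_inv_eq_iff_eq_mul.mp key).symm
  have hyK : Subgroup.zpowers y ≤ Subgroup.normalizer (K : Set G) := by
    rw [Subgroup.zpowers_le, Grp.mem_normalizer_iff_smul]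
    refine Subgroup.eq_of_le_of_card_ge ?_ (Grp.card_conj_smul y K).ge
    rw [hK, Subgroup.smul_sup, Grp.mem_normalizer_iff_smul.mp (hMC hyR), sup_le_iff]
    refine ⟨le_sup_left, ?_⟩
    rw [← Grp.map_conj_eq_smul, MonoidHom.map_zpowers, Subgroup.zpowers_le]
    have := mul_mem (Subgroup.mem_sup_left (T := Subgroup.zpowers s) hcomm) (Subgroup.mem_sup_right (S := C) (Subgroup.mem_zpowers s))
    rwa [inv_mul_cancel_right] at this
  have hcop : (Nat.card (Subgroup.zpowers y)).Coprime (Nat.card K) := by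
    rw [Nat.card_zpowers, hy0]; exact Nat.coprime_two_left.mpr hKodd
  obtain ⟨X, hX, hXy⟩ := Grp.exists_invariant_sylow (Subgroup.zpowers y) K hyK hcop (Or.inl inferInstance) p
  have hRK : R ≤ K := by
    intro r hr
    refine Subgroup.mem_sup_left ?_
    refine Subgroup.mem_centralizer_iff.mpr fun r' hr' => ?_
    have h1 := hinv _ (mul_mem hr' hr)
    rw [show y * (r' * r) * y⁻¹ = (y * r' * y⁻¹) * (y * r * y⁻¹) by group, hinv r hr, hinv r' hr'] at h1
    have := congrArg (·⁻¹) h1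
    simpa using this.symm
  have hKM : K ≤ M := sup_le hCM (Subgroup.zpowers_le.mpr hs)
  have hRX : R ≤ X := by
    have hX' : IsPGroup p ↥(R ⊔ X) := IsPGroup.to_sup_of_normal_left' hR hX.2.1 (hX.1.trans hKM)
    exact le_sup_left.trans (hX.eq_of_le le_sup_right (sup_le hRK hX.1) hX').ge
  have hle : X ≤ R := hmax ⟨hX.2.1, hQR.trans hRX, hXy (Subgroup.mem_zpowers y)⟩ hRX
  have hXR : X = R := le_antisymm hle hRX
  have hS2 : IsPGroup p ↥(R ⊔ Subgroup.zpowers s) :=
    S.isPGroup'.to_le (sup_le hS (Subgroup.zpowers_le.mpr hsS))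
  have h5 := hX.eq_of_le (Y := R ⊔ Subgroup.zpowers s) (hXR.trans_le le_sup_left) (sup_le hRK le_sup_right) hS2
  exact hs' ((hXR.symm.trans h5).ge (Subgroup.mem_sup_right (Subgroup.mem_zpowers s)))

end Cfsg.Agent.S3982
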