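import Cfsg.Statements.S3983
import Cfsg.Agent.Lib.Grp.Basic

set_option autoImplicit false
open scoped Pointwise
open Cfsg

namespace Cfsg.Agent.S3983

/-- Let P be a Sylow p-subgroup of the finite group G that meets each conjugate g P g⁻¹ with g outside N_G(P) trivially, and let U be a subgroup of G of order divisible by p. Then a Sylow p-subgroup Q of U has the same property inside U: Q meets each conjugate u Q u⁻¹ with u ∈ U outside N_U(Q) trivially. -/
theorem result {G : Type*} [Group G] [Finite G] (p : ℕ) [Fact p.Prime] (P : Sylow p G) (hTI : ∀ g : G, g ∉ Subgroup.normalizer ((P : Subgroup G) : Set G) → (P : Subgroup G) ⊓ (MulAut.conj g • (P : Subgroup G)) = ⊥) (U : Subgroup G) (hU : p ∣ Nat.card ↥U) (Q : Sylow p ↥U) : ∀ u : ↥U, u ∉ Subgroup.normalizer ((Q : Subgroup ↥U) : Set ↥U) → (Q : Subgroup ↥U) ⊓ (MulAut.conj u • (Q : Subgroup ↥U)) = ⊥ := by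
  classical
  intro u hu
  rw [Subgroup.eq_bot_iff_forall]
  rintro x ⟨hx, hxu⟩
  replace hxu : u⁻¹ * x * u ∈ (Q : Subgroup U) := Grp.mem_smul_conj.mp hxu
  by_contra hx1
  obtain ⟨R, hR⟩ := (Q.isPGroup'.map U.subtype).exists_le_sylow
  obtain ⟨g, rfl⟩ := MulAction.exists_smul_eq G P R
  have h1 : (x : G) ∈ ((g • P : Sylow p G) : Subgroup G) := hR ⟨x, hx, rfl⟩
  have h2 : (u : G)⁻¹ * x * u ∈ ((g • P : Sylow p G) : Subgroup G) := hR ⟨_, hxu, rfl⟩
  rw [Sylow.coe_subgroup_smul, Grp.mem_smul_conj] at h1 h2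
  have hn : g⁻¹ * u * g ∈ Subgroup.normalizer ((P : Subgroup G) : Set G) := by
    by_contra hn
    have hm : g⁻¹ * x * g ∈ (P : Subgroup G) ⊓ MulAut.conj (g⁻¹ * u * g) • (P : Subgroup G) :=
      ⟨h1, Grp.mem_smul_conj.mpr (by simpa [mul_assoc] using h2)⟩
    rw [hTI _ hn, Subgroup.mem_bot] at hm
    exact hx1 (Subtype.ext (conj_eq_one_iff.mp (by simpa using hm : g⁻¹ * (x : G) * (g⁻¹)⁻¹ = 1)))
  refine hu ?_
  have hQeq : (Q : Subgroup U) = ((g • P : Sylow p G) : Subgroup G).subgroupOf U :=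
    (Q.is_maximal' ((g • P : Sylow p G).isPGroup'.comap_of_injective U.subtype U.subtype_injective)
      (fun y hy => hR ⟨y, hy, rfl⟩)).symm
  rw [hQeq, Subgroup.mem_normalizer_iff]
  intro y
  rw [Subgroup.mem_subgroupOf, Subgroup.mem_subgroupOf, Sylow.coe_subgroup_smul, Grp.mem_smul_conj, Grp.mem_smul_conj,
    Subgroup.mem_normalizer_iff.mp hn]
  simp [mul_assoc]

end Cfsg.Agent.S3983
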