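import Cfsg.Statements.S3984
import Cfsg.Agent.Lib.Grp.QuotientNormalizer

set_option autoImplicit false
open scoped Pointwise
open Cfsg

namespace Cfsg.Agent.S3984

/-- Let P be a Sylow p-subgroup of the finite group G that meets each conjugate g P g⁻¹ with g outside N_G(P) trivially, and let N be a normal subgroup of G of order prime to p. Then every Sylow p-subgroup Q of G ⧸ N meets each conjugate x Q x⁻¹ with x outside its normalizer trivially. -/
theorem result {G : Type*} [Group G] [Finite G] (p : ℕ) [Fact p.Prime] (P : Sylow p G) (hTI : ∀ g : G, g ∉ Subgroup.normalizer ((P : Subgroup G) : Set G) → (P : Subgroup G) ⊓ (MulAut.conj g • (P : Subgroup G)) = ⊥) (N : Subgroup G) [N.Normal] (hN : (Nat.card ↥N).Coprime p) (Q : Sylow p (G ⧸ N)) : ∀ x : G ⧸ N, x ∉ Subgroup.normalizer ((Q : Subgroup (G ⧸ N)) : Set (G ⧸ N)) → (Q : Subgroup (G ⧸ N)) ⊓ (MulAut.conj x • (Q : Subgroup (G ⧸ N))) = ⊥ := by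
  intro x hx
  rw [eq_bot_iff]
  rintro y ⟨hy1, hy2⟩
  rw [Subgroup.mem_bot]
  by_contra hy
  refine hx ?_
  obtain ⟨R, hR⟩ : ∃ R : Sylow p G, (Q : Subgroup (G ⧸ N)) = (R : Subgroup G).map (QuotientGroup.mk' N) := by
    obtain ⟨c, hc⟩ := MulAction.exists_smul_eq (G ⧸ N) (P.mapSurjective (QuotientGroup.mk'_surjective N)) Q
    obtain ⟨c', rfl⟩ := QuotientGroup.mk'_surjective N c
    exact ⟨c' • P, by rw [← hc, Sylow.coe_subgroup_smul, Sylow.coe_mapSurjective, Grp.conj_smul_map, Sylow.coe_subgroup_smul]⟩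
  have hTI' : ∀ S T : Sylow p G, S ≠ T → (S : Subgroup G) ⊓ T = ⊥ := by
    intro S T hne
    obtain ⟨s, rfl⟩ := MulAction.exists_smul_eq G P S
    obtain ⟨t, rfl⟩ := MulAction.exists_smul_eq G P T
    have hn : s⁻¹ * t ∉ Subgroup.normalizer ((P : Subgroup G) : Set G) := fun hn => hne (by
      replace hn : (s⁻¹ * t) • P = P := Sylow.smul_eq_iff_mem_normalizer.mpr hn
      conv_lhs => rw [← hn]
      rw [smul_smul, mul_inv_cancel_left])
    have := congrArg (fun K : Subgroup G => MulAut.conj s • K) (hTI _ hn)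
    simp only [Subgroup.smul_inf, smul_smul, ← map_mul, mul_inv_cancel_left, Subgroup.smul_bot] at this
    simpa [Sylow.coe_subgroup_smul] using this
  obtain ⟨g, rfl⟩ := QuotientGroup.mk'_surjective N x
  rw [hR] at hy1 hy2 ⊢
  rw [Grp.conj_smul_map] at hy2
  obtain ⟨a, ha, rfl⟩ := hy1
  obtain ⟨b, hb, hab⟩ := hy2
  set A := Subgroup.zpowers a with hA
  have hb' : b ∈ ((g • R : Sylow p G) : Subgroup G) := by rw [Sylow.coe_subgroup_smul]; exact hb
  have hinj : ∀ S : Sylow p G, (S : Subgroup G) ⊓ N = ⊥ := fun S => Subgroup.inf_eq_bot_of_coprime (by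
    obtain ⟨k, hk⟩ := IsPGroup.iff_card.1 S.isPGroup'
    exact hk ▸ hN.symm.pow_left k)
  have hcopA : (Nat.card N).Coprime (Nat.card A) := by
    obtain ⟨k, hk⟩ := IsPGroup.iff_orderOf.mp R.isPGroup' ⟨a, ha⟩
    rw [Subgroup.orderOf_mk] at hk
    rw [hA, Nat.card_zpowers, hk]; exact hN.pow_right k
  have hord : ∀ (S : Sylow p G), ∀ z ∈ (S : Subgroup G), orderOf (QuotientGroup.mk' N z) = orderOf z := by
    intro S z hz
    refine Nat.dvd_antisymm (orderOf_map_dvd _ _) (orderOf_dvd_of_pow_eq_one ?_)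
    have h1 : z ^ orderOf (QuotientGroup.mk' N z) ∈ N := by
      rw [← QuotientGroup.eq_one_iff]
      show QuotientGroup.mk' N _ = 1
      rw [map_pow, pow_orderOf_eq_one]
    exact (hinj S).le ⟨pow_mem hz _, h1⟩
  have hle : Subgroup.zpowers b ≤ N ⊔ A := by
    intro z hz
    have h1 := Subgroup.mem_map_of_mem (QuotientGroup.mk' N) hz
    rw [MonoidHom.map_zpowers, hab, ← MonoidHom.map_zpowers, ← Subgroup.mem_comap, Subgroup.comap_map_eq,
      QuotientGroup.ker_mk', sup_comm] at h1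
    exact h1
  obtain ⟨n, hn, he⟩ := Grp.exists_conj_of_le_sup (by rw [Subgroup.normalizer_eq_top]; exact le_top) hle
    (by rw [hA, Nat.card_zpowers, Nat.card_zpowers, ← hord _ b hb', hab, hord R a ha]) hcopA (Or.inr inferInstance)
  have h1 : MulAut.conj n • A ≤ ((n • R : Sylow p G) : Subgroup G) := by
    rw [Sylow.coe_subgroup_smul, Subgroup.pointwise_smul_le_pointwise_smul_iff, hA, Subgroup.zpowers_le]
    exact ha
  have heq : (n • R : Sylow p G) = g • R := by
    by_contra hne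
    have h3 := (hTI' _ _ hne).le ⟨h1 (he ▸ Subgroup.mem_zpowers b), hb'⟩
    rw [Subgroup.mem_bot] at h3
    rw [h3, map_one] at hab
    exact hy hab.symm
  have hn1 : QuotientGroup.mk' N n = 1 := (QuotientGroup.eq_one_iff _).mpr hn
  have := congrArg (fun S : Sylow p G => ((S : Subgroup G).map (QuotientGroup.mk' N))) heq
  simp only [Sylow.coe_subgroup_smul, ← Grp.conj_smul_map, hn1, map_one, one_smul] at this
  exact Grp.mem_normalizer_iff_smul.mpr this.symm

end Cfsg.Agent.S3984
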