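import Cfsg.Statements.S3985
import Cfsg.Agent.Lib.Grp.CoprimeAbelian
import Cfsg.Agent.Lib.Grp.Signalizer

set_option autoImplicit false
open scoped Pointwise
open Cfsg

namespace Cfsg.Agent.S3985

/-- Let P be a cyclic Sylow p-subgroup of the finite group G. Then P meets each conjugate g P g⁻¹ with g outside N_G(P) trivially if and only if P is weakly self-centralizing: C_G(x) = C_G(P) for every non-identity x ∈ P. -/
theorem result {G : Type*} [Group G] [Finite G] (p : ℕ) [Fact p.Prime] (P : Sylow p G) (hcyc : IsCyclic ↥(P : Subgroup G)) : (∀ g : G, g ∉ Subgroup.normalizer ((P : Subgroup G) : Set G) → (P : Subgroup G) ⊓ (MulAut.conj g • (P : Subgroup G)) = ⊥) ↔ ∀ x : G, x ∈ (P : Subgroup G) → x ≠ 1 → Subgroup.centralizer ({x} : Set G) = Subgroup.centralizer ((P : Subgroup G) : Set G) := by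
  have hab : IsMulCommutative (P : Subgroup G) := inferInstance
  have hpn : ∀ A : Subgroup G, IsPGroup p A → A ≤ Subgroup.normalizer ((P : Subgroup G) : Set G) →
      A ≤ (P : Subgroup G) := fun A hA hn => by
    rw [← P.is_maximal' (IsPGroup.to_sup_of_normal_left' P.isPGroup' hA hn) le_sup_left]; exact le_sup_right
  constructor
  · intro h x hx hx1
    refine le_antisymm ?_ (Subgroup.centralizer_le (Set.singleton_subset_iff.mpr hx))
    have hCN : Subgroup.centralizer ({x} : Set G) ≤ Subgroup.normalizer ((P : Subgroup G) : Set G) := by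
      intro g hg
      rw [Subgroup.mem_centralizer_singleton_iff] at hg
      by_contra hn
      have hm : x ∈ (P : Subgroup G) ⊓ MulAut.conj g • (P : Subgroup G) := by
        refine ⟨hx, Subgroup.mem_pointwise_smul_iff_inv_smul_mem.mpr ?_⟩
        rw [MulAut.smul_def, MulAut.conj_inv_apply, mul_assoc, ← hg, inv_mul_cancel_left]
        exact hx
      rw [h g hn, Subgroup.mem_bot] at hm
      exact hx1 hm
    refine Grp.le_of_forall_sylow (H := Subgroup.centralizer ({x} : Set G) ⊓ Subgroup.centralizer ((P : Subgroup G) : Set G))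
      inf_le_left (fun q _ => ?_) |>.trans inf_le_right
    obtain ⟨Q, hQ⟩ := Grp.exists_isSylowIn q (Subgroup.centralizer ({x} : Set G))
    refine ⟨Q, hQ, le_inf hQ.1 ?_⟩
    rcases eq_or_ne q p with rfl | hqp
    · have h1 := hpn Q hQ.2.1 (hQ.1.trans hCN)
      refine fun a ha => Subgroup.mem_centralizer_iff.mpr fun v hv => ?_
      exact congrArg Subtype.val (mul_comm' (⟨v, hv⟩ : (P : Subgroup G)) ⟨a, h1 ha⟩)
    · have hd := Grp.abelian_commutator_inf_fixed Q (P : Subgroup G) (hQ.1.trans hCN)
        (IsPGroup.coprime_card_of_ne q p hqp _ _ hQ.2.1 P.isPGroup')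
      rw [← Subgroup.le_centralizer_iff, ← Subgroup.commutator_eq_bot_iff_le_centralizer]
      by_contra hne
      have hPV : ⁅(P : Subgroup G), Q⁆ ≤ (P : Subgroup G) := by
        rw [Subgroup.commutator_le]
        intro v hv a ha
        rw [commutatorElement_def, mul_assoc v a v⁻¹ |>.trans rfl, mul_assoc, mul_assoc]
        refine mul_mem hv ?_
        have := (Subgroup.mem_normalizer_iff.mp (hCN (hQ.1 ha)) v⁻¹).mp (inv_mem hv)
        simpa [mul_assoc] using this
      have key : ∀ A : Subgroup G, A ≤ (P : Subgroup G) → A ≠ ⊥ → ∃ Z : Subgroup G, Nat.card Z = p ∧ Z ≤ A := by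
        intro A hA hA1
        have hdvd : p ∣ Nat.card A := by
          obtain ⟨k, hk⟩ := IsPGroup.iff_card.1 (P.isPGroup'.to_le hA)
          rcases Nat.eq_zero_or_pos k with rfl | hk0
          · exact absurd (Subgroup.card_eq_one.mp (by rw [hk, pow_zero])) hA1
          · exact hk ▸ dvd_pow_self p hk0.ne'
        obtain ⟨a, ha⟩ := exists_prime_orderOf_dvd_card' (G := A) p hdvd
        exact ⟨Subgroup.zpowers (a : G), by rw [Nat.card_zpowers, Subgroup.orderOf_coe, ha],
          Subgroup.zpowers_le.mpr a.2⟩
      have hxC : x ∈ (P : Subgroup G) ⊓ Subgroup.centralizer (Q : Set G) := ⟨hx, by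
        refine Subgroup.mem_centralizer_iff.mpr fun a ha => ?_
        exact (Subgroup.mem_centralizer_singleton_iff.mp (hQ.1 ha))⟩
      obtain ⟨Z, hZ, hZle⟩ := key _ inf_le_left (fun e => hx1 (Subgroup.mem_bot.mp (e ▸ hxC)))
      obtain ⟨Z', hZ', hZle'⟩ := key _ hPV hne
      have e : Z.subgroupOf (P : Subgroup G) = Z'.subgroupOf (P : Subgroup G) := by
        classical
        have := Fintype.ofFinite (P : Subgroup G)
        have hall : ∀ W : Subgroup (P : Subgroup G), Nat.card W = p →
            (Finset.univ.filter fun z => z ∈ W) = Finset.univ.filter fun z : (P : Subgroup G) => z ^ p = 1 := fun W hW => by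
          refine Finset.eq_of_subset_of_card_le (fun z hz => ?_) ((IsCyclic.card_pow_eq_one_le (Fact.out : p.Prime).pos).trans ?_)
          · simp only [Finset.mem_filter, Finset.mem_univ, true_and] at hz ⊢
            have h := pow_card_eq_one' (G := W) (x := ⟨z, hz⟩)
            rw [hW] at h
            exact congrArg Subtype.val h
          · rw [← Fintype.card_subtype, ← Nat.card_eq_fintype_card]
            exact hW.ge
        ext z
        have h := (hall (Z.subgroupOf _) (by
            rw [Nat.card_congr (Subgroup.subgroupOfEquivOfLe (hZle.trans inf_le_left)).toEquiv, hZ])).trans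
          (hall (Z'.subgroupOf _) (by
            rw [Nat.card_congr (Subgroup.subgroupOfEquivOfLe (hZle'.trans hPV)).toEquiv, hZ'])).symm
        simpa using congrArg (fun F : Finset (P : Subgroup G) => z ∈ F) h
      have e2 : Z = Z' := by
        have := congrArg (Subgroup.map (P : Subgroup G).subtype) e
        rwa [Subgroup.subgroupOf_map_subtype, Subgroup.subgroupOf_map_subtype,
          inf_eq_left.mpr (hZle.trans inf_le_left), inf_eq_left.mpr (hZle'.trans hPV)] at this
      have : Z ≤ ⊥ := hd ▸ le_inf hZle (e2 ▸ hZle')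
      rw [le_bot_iff.mp this, Subgroup.card_bot] at hZ
      exact (Fact.out : p.Prime).ne_one hZ.symm
  · intro h g hg
    rw [eq_bot_iff]
    rintro x ⟨hxP, hxg⟩
    rw [Subgroup.mem_bot]
    by_contra hx1
    refine hg ?_
    have h1 : MulAut.conj g • (P : Subgroup G) ≤ Subgroup.centralizer ({x} : Set G) := by
      intro v hv
      rw [Subgroup.mem_centralizer_singleton_iff]
      obtain ⟨v', hv', rfl⟩ := hv
      obtain ⟨x', hx', rfl⟩ := hxg
      show MulAut.conj g v' * MulAut.conj g x' = MulAut.conj g x' * MulAut.conj g v'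
      rw [← map_mul, ← map_mul, show v' * x' = x' * v' from
        congrArg Subtype.val (mul_comm' (⟨v', hv'⟩ : (P : Subgroup G)) ⟨x', hx'⟩)]
    rw [h x hxP hx1] at h1
    have h2 := hpn _ ((g • P : Sylow p G).isPGroup') (h1.trans (Subgroup.centralizer_le_normalizer _))
    rw [Grp.mem_normalizer_iff_smul]
    exact Subgroup.eq_of_le_of_card_ge h2 (by rw [Grp.card_conj_smul])

end Cfsg.Agent.S3985
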