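import Cfsg.Statements.S3986
import Cfsg.Agent.Lib.Grp.Basic

set_option autoImplicit false
open Cfsg

namespace Cfsg.Agent.S3986

/-- Let p be a prime and G a finite group. Then some Sylow p-subgroup of G is a direct factor of G (it is normal and has a normal complement) if and only if every element of p-power order commutes with every element whose order is a power of a prime other than p. -/
theorem result {G : Type*} [Group G] [Finite G] (p : ℕ) [Fact p.Prime] : (∃ (P : Sylow p G) (K : Subgroup G), (P : Subgroup G).Normal ∧ K.Normal ∧ (P : Subgroup G) ⊓ K = ⊥ ∧ (P : Subgroup G) ⊔ K = ⊤) ↔ ∀ x y : G, (∃ a : ℕ, orderOf x = p ^ a) → (∃ q b : ℕ, q.Prime ∧ q ≠ p ∧ orderOf y = q ^ b) → x * y = y * x := by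
  classical
  constructor
  · rintro ⟨P, K, hP, hK, hint, hsup⟩ x y ⟨a, hx⟩ ⟨q, b, hq, hqp, hy⟩
    have : Unique (Sylow p G) := Sylow.unique_of_normal P hP
    obtain ⟨P', hP'⟩ := (IsPGroup.of_card (n := a) (by rw [Nat.card_zpowers, hx]) :
      IsPGroup p (Subgroup.zpowers x)).exists_le_sylow
    rw [Subsingleton.elim P' P] at hP'
    have hyK : y ∈ K := by
      obtain ⟨k, hk, z, hz, rfl⟩ := Subgroup.mem_sup_of_normal_left.mp
        ((sup_comm K (P : Subgroup G)).trans hsup ▸ Subgroup.mem_top y : y ∈ K ⊔ (P : Subgroup G))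
      have hc : Commute k z := Subgroup.commute_of_normal_of_disjoint _ _ hK hP
        (disjoint_iff.mpr (by rw [inf_comm, hint])) k z hk hz
      obtain ⟨c, hc'⟩ := IsPGroup.iff_orderOf.mp P.isPGroup' ⟨z, hz⟩
      rw [Subgroup.orderOf_mk] at hc'
      have h1 : (k * z) ^ q ^ b = 1 := hy ▸ pow_orderOf_eq_one _
      rw [hc.mul_pow, mul_eq_one_iff_eq_inv] at h1
      have h2 : z ^ q ^ b ∈ (P : Subgroup G) ⊓ K := Subgroup.mem_inf.mpr ⟨(P : Subgroup G).pow_mem hz _, by
        rw [← inv_inv (z ^ q ^ b), ← h1]; exact inv_mem (pow_mem hk _)⟩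
      rw [hint, Subgroup.mem_bot] at h2
      have h3 : z = 1 := orderOf_eq_one_iff.mp (Nat.eq_one_of_dvd_coprimes
        (Nat.coprime_pow_primes c b (Fact.out : p.Prime) hq hqp.symm) (dvd_of_eq hc') (orderOf_dvd_of_pow_eq_one h2))
      rw [h3, mul_one]; exact hk
    exact Subgroup.commute_of_normal_of_disjoint _ _ hP hK (disjoint_iff.mpr hint) x y
      (hP' (Subgroup.mem_zpowers x)) hyK
  · intro h
    obtain ⟨P⟩ : Nonempty (Sylow p G) := Sylow.nonempty
    have hcomm : ∀ x ∈ (P : Subgroup G), ∀ y : G, ∀ q : ℕ, q.Prime → q ≠ p → (∃ b, orderOf y = q ^ b) →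
        x * y = y * x := fun x hx y q hq hqp ⟨b, hb⟩ => h x y (by
      obtain ⟨a, ha⟩ := IsPGroup.iff_orderOf.mp P.isPGroup' ⟨x, hx⟩
      exact ⟨a, by rwa [Subgroup.orderOf_mk] at ha⟩) ⟨q, b, hq, hqp, hb⟩
    have hPn : (P : Subgroup G).Normal := by
      rw [← Subgroup.normalizer_eq_top_iff, ← Subgroup.index_eq_one]
      by_contra hne
      obtain ⟨q, hq, hd⟩ := Nat.exists_prime_and_dvd hne
      have := Fact.mk hq
      by_cases hqp : q = p
      · subst hqp
        exact P.not_dvd_index (hd.trans (Subgroup.index_dvd_of_le Subgroup.le_normalizer))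
      · obtain ⟨Q⟩ : Nonempty (Sylow q G) := Sylow.nonempty
        refine Q.not_dvd_index (hd.trans (Subgroup.index_dvd_of_le fun y hy => ?_))
        rw [Subgroup.mem_normalizer_iff]
        obtain ⟨b, hb⟩ := IsPGroup.iff_orderOf.mp Q.isPGroup' ⟨y, hy⟩
        rw [Subgroup.orderOf_mk] at hb
        intro x
        constructor <;> intro hx
        · rw [← hcomm x hx y q hq hqp ⟨b, hb⟩, mul_inv_cancel_right]; exact hx
        · have := hcomm _ hx y q hq hqp ⟨b, hb⟩
          have e : y * x * y⁻¹ = x := by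
            have e1 : y * x = y * (y * x * y⁻¹) := by rw [← this]; group
            exact mul_left_cancel (a := y) e1.symm
          rwa [e] at hx
    obtain ⟨K, hK⟩ := Subgroup.exists_right_complement'_of_coprime P.card_coprime_index
    refine ⟨P, K, hPn, ?_, hK.disjoint.eq_bot, hK.sup_eq_top⟩
    have hKP : ∀ k ∈ K, ∀ x ∈ (P : Subgroup G), x * k = k * x := by
      intro k hk x hx
      have hcent : K ≤ Subgroup.centralizer ({x} : Set G) := by
        rw [← Subgroup.relIndex_eq_one]
        by_contra hne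
        obtain ⟨q, hq, hd⟩ := Nat.exists_prime_and_dvd hne
        have := Fact.mk hq
        have hqK : q ∣ Nat.card K := hd.trans (Subgroup.index_dvd_card _)
        have hqp : q ≠ p := by
          rintro rfl
          have h1 : K.index = Nat.card (P : Subgroup G) := hK.index_eq_card
          have h2 : Nat.card K = (P : Subgroup G).index := by
            have := hK.card_mul
            rw [← (P : Subgroup G).card_mul_index] at this
            exact Nat.eq_of_mul_eq_mul_left Nat.card_pos this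
          exact P.not_dvd_index (h2 ▸ hqK)
        obtain ⟨Q⟩ : Nonempty (Sylow q K) := Sylow.nonempty
        refine Q.not_dvd_index (hd.trans (Subgroup.index_dvd_of_le fun y hy => ?_))
        rw [Subgroup.mem_subgroupOf, Subgroup.mem_centralizer_singleton_iff]
        obtain ⟨b, hb⟩ := IsPGroup.iff_orderOf.mp Q.isPGroup' ⟨y, hy⟩
        rw [Subgroup.orderOf_mk, ← Subgroup.orderOf_coe] at hb
        exact (hcomm x hx y q hq hqp ⟨b, hb⟩).symm
      exact (Subgroup.mem_centralizer_singleton_iff.mp (hcent hk)).symm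
    refine ⟨fun k hk g => ?_⟩
    obtain ⟨⟨⟨x, hx⟩, ⟨l, hl⟩⟩, rfl⟩ := hK.surjective g
    show x * l * k * (x * l)⁻¹ ∈ K
    have h1 : l * k * l⁻¹ ∈ K := mul_mem (mul_mem hl hk) (inv_mem hl)
    rw [show x * l * k * (x * l)⁻¹ = x * (l * k * l⁻¹) * x⁻¹ by group, hKP _ h1 x hx, mul_inv_cancel_right]
    exact h1

end Cfsg.Agent.S3986
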