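import Cfsg.Statements.S3987
import Cfsg.Agent.S3986
import Cfsg.Agent.Lib.Grp.Basic

set_option autoImplicit false
open Cfsg

namespace Cfsg.Agent.S3987

/-- Let p be a prime and G a finite group. Then some Sylow p-subgroup of G is a direct factor of G (normal with a normal complement) if and only if for every element x of p-power order and every element y whose order is a power of a prime other than p, the conjugacy class of x y has as many elements as the product of the sizes of the classes of x and of y. -/
theorem result {G : Type*} [Group G] [Finite G] (p : ℕ) [Fact p.Prime] : (∃ (P : Sylow p G) (K : Subgroup G), (P : Subgroup G).Normal ∧ K.Normal ∧ (P : Subgroup G) ⊓ K = ⊥ ∧ (P : Subgroup G) ⊔ K = ⊤) ↔ ∀ x y : G, (∃ a : ℕ, orderOf x = p ^ a) → (∃ q b : ℕ, q.Prime ∧ q ≠ p ∧ orderOf y = q ^ b) → (Subgroup.centralizer ({x * y} : Set G)).index = (Subgroup.centralizer ({x} : Set G)).index * (Subgroup.centralizer ({y} : Set G)).index := by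
  constructor
  · rintro ⟨P, K, hP, hK, hint, hsup⟩ x y hx hy
    have hc := (S3986.result p).mp ⟨P, K, hP, hK, hint, hsup⟩
    have hxy : x * y = y * x := hc x y hx hy
    obtain ⟨a, ha⟩ := hx
    obtain ⟨q, b, hq, hqp, hb⟩ := hy
    have hinf : Subgroup.centralizer ({x * y} : Set G) = Subgroup.centralizer ({x} : Set G) ⊓ Subgroup.centralizer ({y} : Set G) := by
      refine le_antisymm (fun g hg => ?_) (fun g hg => ?_)
      · rw [Subgroup.mem_centralizer_singleton_iff] at hg
        have hcop : (p ^ a).Coprime (q ^ b) := Nat.coprime_pow_primes a b (Fact.out : p.Prime) hq hqp.symm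
        obtain ⟨u, v, huv⟩ := Int.isCoprime_iff_nat_coprime.mpr (by simpa using hcop : (((p ^ a : ℕ) : ℤ)).natAbs.Coprime ((q ^ b : ℕ) : ℤ).natAbs)
        have e : (x * y) ^ (v * (q ^ b : ℕ) : ℤ) = x := by
          have hyq : y ^ ((q ^ b : ℕ) : ℤ) = 1 := by rw [zpow_natCast, ← hb, pow_orderOf_eq_one]
          have hxp : x ^ ((p ^ a : ℕ) : ℤ) = 1 := by rw [zpow_natCast, ← ha, pow_orderOf_eq_one]
          rw [(show Commute x y from hxy).mul_zpow, mul_comm v, zpow_mul y, hyq, one_zpow, mul_one]
          conv_rhs => rw [← zpow_one x, ← huv, zpow_add, mul_comm u, zpow_mul x, hxp, one_zpow, one_mul, mul_comm v]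
        have h1 : g * x = x * g := by
          have := (Commute.zpow_right (show Commute g (x * y) from hg) (v * (q ^ b : ℕ) : ℤ)).eq
          rwa [e] at this
        refine Subgroup.mem_inf.mpr ⟨Subgroup.mem_centralizer_singleton_iff.mpr h1, Subgroup.mem_centralizer_singleton_iff.mpr ?_⟩
        have : y = x⁻¹ * (x * y) := by group
        rw [this]
        exact (Commute.mul_right (Commute.inv_right h1) hg).eq
      · exact Subgroup.mem_centralizer_singleton_iff.mpr (Commute.mul_right (Subgroup.mem_centralizer_singleton_iff.mp hg.1)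
          (Subgroup.mem_centralizer_singleton_iff.mp hg.2)).eq
    have hKx : K ≤ Subgroup.centralizer ({x} : Set G) := by
      intro k hk
      have hPx : x ∈ (P : Subgroup G) := by
        have : Unique (Sylow p G) := Sylow.unique_of_normal P hP
        obtain ⟨P', hP'⟩ := (IsPGroup.of_card (n := a) (by rw [Nat.card_zpowers, ha]) :
          IsPGroup p (Subgroup.zpowers x)).exists_le_sylow
        rw [Subsingleton.elim P' P] at hP'
        exact hP' (Subgroup.mem_zpowers x)
      exact Subgroup.mem_centralizer_singleton_iff.mpr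
        (Subgroup.commute_of_normal_of_disjoint _ _ hK hP (disjoint_iff.mpr (by rw [inf_comm, hint])) k x hk hPx)
    have hPy : (P : Subgroup G) ≤ Subgroup.centralizer ({y} : Set G) := fun u hu => by
      refine Subgroup.mem_centralizer_singleton_iff.mpr (hc u y ?_ ⟨q, b, hq, hqp, hb⟩)
      obtain ⟨k, hk⟩ := IsPGroup.iff_orderOf.mp P.isPGroup' ⟨u, hu⟩
      exact ⟨k, by rwa [Subgroup.orderOf_mk] at hk⟩
    set A := Subgroup.centralizer ({x} : Set G)
    set B := Subgroup.centralizer ({y} : Set G)
    have hrel : B.relIndex A = B.index := by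
      show Nat.card (A ⧸ B.subgroupOf A) = Nat.card (G ⧸ B)
      refine Nat.card_eq_of_bijective (Quotient.lift (fun u : A => (QuotientGroup.mk (u : G) : G ⧸ B)) ?_) ⟨?_, ?_⟩
      · intro u v h
        replace h := Subgroup.mem_subgroupOf.mp (QuotientGroup.leftRel_apply.mp h)
        exact QuotientGroup.eq.mpr h
      · intro u v
        induction u using QuotientGroup.induction_on with
        | H u =>
          induction v using QuotientGroup.induction_on with
          | H v => exact fun h => QuotientGroup.eq.mpr (Subgroup.mem_subgroupOf.mpr (QuotientGroup.eq.mp h))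
      · intro t
        induction t using QuotientGroup.induction_on with
        | H g =>
          obtain ⟨k, hk, u, hu, rfl⟩ := Subgroup.mem_sup_of_normal_left.mp
            ((sup_comm K (P : Subgroup G)).trans hsup ▸ Subgroup.mem_top g : g ∈ K ⊔ (P : Subgroup G))
          exact ⟨QuotientGroup.mk ⟨k, hKx hk⟩, QuotientGroup.eq.mpr (by rw [inv_mul_cancel_left]; exact hPy hu)⟩
    rw [hinf, ← hrel, ← Subgroup.inf_relIndex_left, mul_comm, Subgroup.relIndex_mul_index inf_le_left]
  · intro h
    refine (S3986.result p).mpr fun x y hx hy => ?_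
    have h1 : Subgroup.centralizer ({x} : Set G) ⊓ Subgroup.centralizer ({y} : Set G) ≤ Subgroup.centralizer ({x * y} : Set G) :=
      fun g hg => Subgroup.mem_centralizer_singleton_iff.mpr (Commute.mul_right (Subgroup.mem_centralizer_singleton_iff.mp hg.1)
          (Subgroup.mem_centralizer_singleton_iff.mp hg.2)).eq
    have h2 : (Subgroup.centralizer ({x} : Set G) ⊓ Subgroup.centralizer ({y} : Set G)).index ≤ (Subgroup.centralizer ({x * y} : Set G)).index := by
      rw [h x y hx hy]; exact Subgroup.index_inf_le
    have h3 := Subgroup.relIndex_mul_index h1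
    have h5 : (Subgroup.centralizer ({x} : Set G) ⊓ Subgroup.centralizer ({y} : Set G)).relIndex (Subgroup.centralizer ({x * y} : Set G)) = 1 := by
      have hpos : 0 < (Subgroup.centralizer ({x * y} : Set G)).index := Nat.pos_of_ne_zero Subgroup.index_ne_zero_of_finite
      have hrp : 0 < (Subgroup.centralizer ({x} : Set G) ⊓ Subgroup.centralizer ({y} : Set G)).relIndex (Subgroup.centralizer ({x * y} : Set G)) :=
        Nat.pos_of_ne_zero Subgroup.index_ne_zero_of_finite
      nlinarith
    have h6 := Subgroup.relIndex_eq_one.mp h5 (Subgroup.mem_centralizer_singleton_iff.mpr rfl : x * y ∈ Subgroup.centralizer ({x * y} : Set G))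
    have h7 := Subgroup.mem_centralizer_singleton_iff.mp h6.1
    rw [mul_assoc] at h7
    exact (mul_left_cancel h7).symm

end Cfsg.Agent.S3987
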