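import Cfsg.Statements.S3989
import Cfsg.Agent.Lib.Transfer.Frobenius
import Cfsg.Agent.S1950
import Cfsg.Agent.Lib.Grp.Basic
-- import your own Cfsg.Agent.* helpers here

set_option autoImplicit false
open Cfsg

namespace Cfsg.Agent.S3989

universe u

/-- Products of conjugates of a `p`-element and of a `p'`-element of prime power order form one class. -/
def Hyp (p : ℕ) (G : Type*) [Group G] : Prop :=
  ∀ x y : G, (∃ a : ℕ, orderOf x = p ^ a) → (∃ q b : ℕ, q.Prime ∧ q ≠ p ∧ orderOf y = q ^ b) →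
    ∀ z : G, IsConj (x * y) z ↔ ∃ a b : G, z = a * x * a⁻¹ * (b * y * b⁻¹)

/-- An element of prime power order lifts to one along a surjection. -/
theorem exists_lift {G H : Type*} [Group G] [Group H] [Finite G] (f : G →* H)
    (hf : Function.Surjective f) {q : ℕ} (hq : q.Prime) {h : H} {a : ℕ} (ha : orderOf h = q ^ a) :
    ∃ g : G, (∃ b, orderOf g = q ^ b) ∧ f g = h := by
  obtain ⟨g, rfl⟩ := hf h
  obtain ⟨e, m, hm, hem⟩ := Nat.exists_eq_pow_mul_and_not_dvd (orderOf_pos g).ne' q hq.ne_one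
  obtain ⟨u, v, -, hvg, hu, hv, huv⟩ := Grp.exists_pow_decomp (m := q ^ e) (n := m)
    ((hq.coprime_iff_not_dvd.2 hm).pow_left e) (by rw [← hem]; exact pow_orderOf_eq_one g)
  obtain ⟨b, -, hb⟩ := (Nat.dvd_prime_pow hq).1 (orderOf_dvd_of_pow_eq_one hu)
  refine ⟨u, ⟨b, hb⟩, ?_⟩
  have h1 : orderOf (f v) ∣ q ^ a := by
    obtain ⟨k, rfl⟩ := Subgroup.mem_zpowers_iff.1 hvg
    rw [map_zpow, ← ha]
    exact orderOf_dvd_of_mem_zpowers (zpow_mem (Subgroup.mem_zpowers _) k)
  have h2 : orderOf (f v) ∣ m := (orderOf_map_dvd f v).trans (orderOf_dvd_of_pow_eq_one hv)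
  have h3 : f v = 1 := orderOf_eq_one_iff.1 (Nat.eq_one_of_dvd_coprimes
    ((hq.coprime_iff_not_dvd.2 hm).pow_left a) h1 h2)
  rw [huv, map_mul, h3, mul_one]

theorem hyp_quot {p : ℕ} [hp : Fact p.Prime] {G : Type*} [Group G] [Finite G] (h : Hyp p G)
    (N : Subgroup G) [N.Normal] : Hyp p (G ⧸ N) := by
  rintro x y ⟨a, ha⟩ ⟨q, b, hq, hqp, hb⟩ z
  obtain ⟨X, hX, rfl⟩ := exists_lift (QuotientGroup.mk' N) (QuotientGroup.mk'_surjective N) hp.out ha
  obtain ⟨Y, ⟨c, hc⟩, rfl⟩ := exists_lift (QuotientGroup.mk' N) (QuotientGroup.mk'_surjective N) hq hb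
  constructor
  · intro hz
    obtain ⟨g, rfl⟩ := isConj_iff.1 hz
    refine ⟨g, g, ?_⟩
    simp only [mul_assoc, inv_mul_cancel_left]
  · rintro ⟨s, t, rfl⟩
    obtain ⟨S, rfl⟩ := QuotientGroup.mk'_surjective N s
    obtain ⟨T, rfl⟩ := QuotientGroup.mk'_surjective N t
    have := (h X Y hX ⟨q, c, hq, hqp, hc⟩ _).2 ⟨S, T, rfl⟩
    simpa only [map_mul, map_inv] using MonoidHom.map_isConj (QuotientGroup.mk' N) this

theorem aux {p : ℕ} [hp : Fact p.Prime] : ∀ (n : ℕ) (G : Type u) [Group G] [Finite G],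
    Nat.card G = n → Hyp p G → Cfsg.IsPSolvable p G := by
  intro n
  induction n using Nat.strong_induction_on with
  | _ n ih =>
  intro G _ _ hn hG
  rcases subsingleton_or_nontrivial G with hs | hs
  · exact S1950.isPSolvable_of_card G (Or.inl ⟨0, by rw [pow_zero]; exact Nat.card_of_subsingleton 1⟩)
  obtain ⟨N, hNn, hN1, -, hmin⟩ := Grp.exists_minimal_normal_le (G := G) (N := ⊤) top_ne_bot
  have hq := ih _ (hn ▸ Grp.card_quotient_lt hN1) (G ⧸ N) rfl (hyp_quot hG N)
  by_cases hNh : (∃ m, Nat.card N = p ^ m) ∨ (Nat.card N).Coprime p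
  · exact S1950.isPSolvable_ext N hNh hq
  exfalso
  rw [not_or] at hNh
  have hnc : ¬ Cfsg.HasNormalPComplement p N := by
    intro hc
    haveI : (Cfsg.pResidual p N).Characteristic := Transfer.pResidual_characteristic p N
    have hn' : ((Cfsg.pResidual p N).map N.subtype).Normal := Grp.normal_of_characteristic_map _
    obtain ⟨k, hk⟩ := Transfer.exists_pResidual_index (G := N) p
    rcases hmin _ hn' (Subgroup.map_subtype_le _) with h0 | h0
    · rw [Subgroup.map_eq_bot_iff_of_injective _ N.subtype_injective] at h0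
      rw [h0, Subgroup.index_bot] at hk
      exact hNh.1 ⟨k, hk⟩
    · refine hNh.2 (hp.out.coprime_iff_not_dvd.2 ?_).symm
      rw [← h0, Subgroup.card_map_of_injective N.subtype_injective]
      exact Transfer.hasNormalPComplement_iff_not_dvd.1 hc
  obtain ⟨P⟩ : Nonempty (Sylow p N) := inferInstance
  rw [Transfer.hasNormalPComplement_iff_frobeniusCondition P] at hnc
  simp only [Transfer.FrobeniusCondition, not_forall] at hnc
  obtain ⟨Q, hQ, g, hg, hgc, hne'⟩ := hnc
  simp only [Subgroup.mem_centralizer_iff, not_forall] at hne'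
  obtain ⟨c, hc, hne⟩ := hne'
  -- a prime power part of `g` which does not commute with `c`
  obtain ⟨y, ⟨⟨hyg, hyc⟩, hymin⟩⟩ := (Set.toFinite {y : N | y ∈ Subgroup.zpowers g ∧ ¬ Commute y c}).exists_minimalFor
    orderOf _ ⟨g, Subgroup.mem_zpowers g, fun hh => hne hh.eq.symm⟩
  have hy1 : orderOf y ≠ 1 := fun hh => hyc (by rw [orderOf_eq_one_iff.1 hh]; exact Commute.one_left c)
  obtain ⟨q, hqp, hqd⟩ := Nat.exists_prime_and_dvd hy1
  obtain ⟨e, m, hm, hem⟩ := Nat.exists_eq_pow_mul_and_not_dvd (orderOf_pos y).ne' q hqp.ne_one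
  have hm1 : m = 1 := by
    by_contra hm1
    obtain ⟨u, v, hu, hv, hu1, hv1, huv⟩ := Grp.exists_pow_decomp (m := q ^ e) (n := m)
      ((hqp.coprime_iff_not_dvd.2 hm).pow_left e) (by rw [← hem]; exact pow_orderOf_eq_one y)
    have he : e ≠ 0 := by
      rintro rfl
      rw [pow_zero, one_mul] at hem
      exact hm (hem ▸ hqd)
    have hm0 : 0 < m := Nat.pos_of_ne_zero fun hh => hm (hh ▸ dvd_zero q)
    have hqe : 1 < q ^ e := Nat.one_lt_pow he hqp.one_lt
    have hlt : ∀ w : N, w ∈ Subgroup.zpowers y → orderOf w < orderOf y → Commute w c := fun w hw hlt => by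
      by_contra hh
      exact absurd (hymin ⟨Subgroup.zpowers_le.2 hyg hw, hh⟩ hlt.le) (not_le.2 hlt)
    refine hyc (huv ▸ Commute.mul_left (hlt u hu ?_) (hlt v hv ?_))
    · calc orderOf u ≤ q ^ e := Nat.le_of_dvd (by omega) (orderOf_dvd_of_pow_eq_one hu1)
        _ < q ^ e * m := lt_mul_of_one_lt_right (by omega) (by omega)
        _ = _ := hem.symm
    · calc orderOf v ≤ m := Nat.le_of_dvd hm0 (orderOf_dvd_of_pow_eq_one hv1)
        _ < q ^ e * m := lt_mul_of_one_lt_left hm0 hqe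
        _ = _ := hem.symm
  have hyo : orderOf (y : G) = q ^ e := by rw [Subgroup.orderOf_coe, hem, hm1, mul_one]
  have hqne : q ≠ p := fun hh => (hp.out.coprime_iff_not_dvd.1 hgc.symm)
    ((hh ▸ hqd).trans (orderOf_dvd_of_mem_zpowers hyg))
  -- `x * y` is conjugate to `y` for an element `x` of `Q`
  have hyN : y ∈ Subgroup.normalizer (Q : Set N) := Subgroup.zpowers_le.2 hg hyg
  have hxQ : c⁻¹ * (y * c * y⁻¹) ∈ Q :=
    Q.mul_mem (Q.inv_mem hc) ((Subgroup.mem_normalizer_iff.1 hyN c).1 hc)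
  set x : G := ((c⁻¹ * (y * c * y⁻¹) : N) : G) with hx
  have hxp : ∃ a, orderOf x = p ^ a := by
    obtain ⟨a, ha⟩ := IsPGroup.iff_orderOf.1 (P.isPGroup'.to_le hQ) ⟨_, hxQ⟩
    rw [Subgroup.orderOf_mk] at ha
    exact ⟨a, by rw [hx, Subgroup.orderOf_coe, ha]⟩
  have hx1 : x ≠ 1 := by
    intro hh
    rw [hx, ← Subgroup.coe_one N, Subtype.coe_inj, inv_mul_eq_one, eq_comm,
      mul_inv_eq_iff_eq_mul] at hh
    exact hyc hh
  have hxy : IsConj (y : G) (x * y) :=
    isConj_iff.2 ⟨(c : G)⁻¹, by rw [hx]; push_cast; group⟩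
  have hstab : ∀ k ∈ Subgroup.normalClosure ({x} : Set G), ∀ z : G, IsConj (y : G) z → IsConj (y : G) (k * z) := by
    intro k hk
    rw [Subgroup.normalClosure, ← Subgroup.mem_toSubmonoid, Subgroup.closure_toSubmonoid_of_finite] at hk
    induction hk using Submonoid.closure_induction with
    | mem k hk =>
      intro z hz
      obtain ⟨w, hw, hwk⟩ := Group.mem_conjugatesOfSet_iff.1 hk
      rw [Set.mem_singleton_iff.1 hw] at hwk
      obtain ⟨a, rfl⟩ := isConj_iff.1 hwk
      obtain ⟨b, rfl⟩ := isConj_iff.1 hz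
      exact hxy.trans ((hG x y hxp ⟨q, e, hqp, hqne, hyo⟩ _).2 ⟨a, b, rfl⟩)
    | one => intro z hz; rwa [one_mul]
    | mul k l _ _ ihk ihl => intro z hz; rw [mul_assoc]; exact ihk _ (ihl _ hz)
  have hxN : Subgroup.normalClosure ({x} : Set G) ≤ N :=
    Subgroup.normalClosure_le_normal (Set.singleton_subset_iff.2 (SetLike.coe_mem _))
  rcases hmin _ Subgroup.normalClosure_normal hxN with h0 | h0
  · exact hx1 (Subgroup.mem_bot.1 (h0 ▸ Subgroup.subset_normalClosure (Set.mem_singleton x)))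
  · have hmem : (y : G)⁻¹ ∈ Subgroup.normalClosure ({x} : Set G) := by
      rw [h0]; exact inv_mem y.2
    have h1 := hstab _ hmem _ (IsConj.refl (y : G))
    rw [inv_mul_cancel, isConj_one_left] at h1
    rw [show y = 1 from Subtype.ext h1] at hyc
    exact hyc (Commute.one_left c)

/-- Let p be a prime and G a finite group such that for every element x of p-power order and every element y whose order is a power of a prime other than p, the conjugacy class of x y is the set of all products of a conjugate of x with a conjugate of y. Then G is p-solvable. -/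
theorem result {G : Type*} [Group G] [Finite G] (p : ℕ) [Fact p.Prime] (h : ∀ x y : G, (∃ a : ℕ, orderOf x = p ^ a) → (∃ q b : ℕ, q.Prime ∧ q ≠ p ∧ orderOf y = q ^ b) → ∀ z : G, IsConj (x * y) z ↔ ∃ a b : G, z = a * x * a⁻¹ * (b * y * b⁻¹)) : Cfsg.IsPSolvable p G := by
  exact aux _ G rfl h

end Cfsg.Agent.S3989
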