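import Cfsg.Statements.S3994
import Mathlib
import Cfsg.Agent.Lib.Grp.PowerCount
-- import your own Cfsg.Agent.* helpers here

set_option autoImplicit false
open Cfsg

namespace Cfsg.Agent.S3994

universe w

theorem count_dvd_of_parts {G : Type w} [Group G] [Finite G] (n A M : ℕ) (hn : n.Coprime M)
    (hAM : A.Coprime M) (hG : Nat.card G = A * M) :
    M ∣ Nat.card {g : G // n ∣ orderOf g} := by
  classical
  haveI := Fintype.ofFinite G
  obtain ⟨α, hα1, hα2⟩ := Nat.chineseRemainder hAM 1 0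
  obtain ⟨β, hβ1, hβ2⟩ := Nat.chineseRemainder hAM 0 1
  have hpow : ∀ g : G, g ^ (A * M) = 1 := fun g => hG ▸ pow_card_eq_one'
  have hA : ∀ u : G, u ^ A = 1 → u ^ α = u ∧ u ^ β = 1 := fun u hu => by
    refine ⟨?_, ?_⟩
    · conv_rhs => rw [← pow_one u]
      exact pow_eq_pow_iff_modEq.2 (hα1.of_dvd (orderOf_dvd_of_pow_eq_one hu))
    · rw [← orderOf_dvd_iff_pow_eq_one]
      exact (orderOf_dvd_of_pow_eq_one hu).trans (Nat.modEq_zero_iff_dvd.1 hβ1)
  have hM : ∀ v : G, v ^ M = 1 → v ^ β = v ∧ v ^ α = 1 := fun v hv => by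
    refine ⟨?_, ?_⟩
    · conv_rhs => rw [← pow_one v]
      exact pow_eq_pow_iff_modEq.2 (hβ2.of_dvd (orderOf_dvd_of_pow_eq_one hv))
    · rw [← orderOf_dvd_iff_pow_eq_one]
      exact (orderOf_dvd_of_pow_eq_one hv).trans (Nat.modEq_zero_iff_dvd.1 hα2)
  have hsum : ∀ g : G, g ^ α * g ^ β = g := fun g => by
    rw [← pow_add]
    conv_rhs => rw [← pow_one g]
    refine pow_eq_pow_iff_modEq.2 (Nat.ModEq.of_dvd (orderOf_dvd_of_pow_eq_one (hpow g)) ?_)
    exact (Nat.modEq_and_modEq_iff_modEq_mul hAM).1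
      ⟨by simpa using hα1.add hβ1, by simpa using hα2.add hβ2⟩
  have hord : ∀ u v : G, Commute u v → u ^ A = 1 → v ^ M = 1 →
      (n ∣ orderOf (u * v) ↔ n ∣ orderOf u) := by
    intro u v hc hu hv
    have hdu := orderOf_dvd_of_pow_eq_one hu
    have hdv := orderOf_dvd_of_pow_eq_one hv
    rw [hc.orderOf_mul_eq_mul_orderOf_of_coprime
      ((hAM.coprime_dvd_left hdu).coprime_dvd_right hdv)]
    exact ⟨fun h => (hn.coprime_dvd_right hdv).dvd_of_dvd_mul_right h,
      fun h => dvd_mul_of_dvd_left h _⟩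
  let P : Type w := {u : G // u ^ A = 1 ∧ n ∣ orderOf u}
  let S : G → Type w := fun u => {v : G // v ^ M = 1 ∧ Commute u v}
  have hBeq : Nat.card {g : G // n ∣ orderOf g} = ∑ u : P, Nat.card (S u.1) := by
    rw [← Nat.card_sigma]
    have hpα : ∀ g : G, (g ^ α) ^ A = 1 := fun g => by
      obtain ⟨c, hc⟩ := Nat.modEq_zero_iff_dvd.1 hα2
      rw [← pow_mul, hc, show M * c * A = A * M * c by ring, pow_mul, hpow, one_pow]
    have hpβ : ∀ g : G, (g ^ β) ^ M = 1 := fun g => by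
      obtain ⟨c, hc⟩ := Nat.modEq_zero_iff_dvd.1 hβ1
      rw [← pow_mul, hc, show A * c * M = A * M * c by ring, pow_mul, hpow, one_pow]
    refine Nat.card_congr
      { toFun := fun g => ⟨⟨g.1 ^ α, hpα g.1, ?_⟩, ⟨g.1 ^ β, hpβ g.1,
          (Commute.refl g.1).pow_pow _ _⟩⟩
        invFun := fun w => ⟨w.1.1 * w.2.1, (hord _ _ w.2.2.2 w.1.2.1 w.2.2.1).2 w.1.2.2⟩
        left_inv := fun g => Subtype.ext (hsum g.1)
        right_inv := fun w => ?_ }
    · have h := hord _ _ ((Commute.refl g.1).pow_pow α β) (hpα g.1) (hpβ g.1)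
      rw [hsum] at h
      exact h.1 g.2
    · obtain ⟨⟨u, hu, hu'⟩, v, hv, hc⟩ := w
      have e1 : (u * v) ^ α = u := by rw [hc.mul_pow, (hA u hu).1, (hM v hv).2, mul_one]
      refine Sigma.subtype_ext (Subtype.ext e1) ?_
      show (u * v) ^ β = v
      rw [hc.mul_pow, (hA u hu).2, (hM v hv).1, one_mul]
  rw [hBeq, ← Finset.sum_fiberwise Finset.univ (fun u : P => ConjClasses.mk u.1)]
  refine Finset.dvd_sum fun K _ => ?_
  by_cases hne : (Finset.univ.filter fun u : P => ConjClasses.mk u.1 = K).Nonempty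
  swap
  · rw [Finset.not_nonempty_iff_eq_empty.1 hne, Finset.sum_empty]; exact dvd_zero _
  obtain ⟨u₀, hu₀⟩ := hne
  rw [Finset.mem_filter] at hu₀
  have hconst : ∀ u ∈ (Finset.univ.filter fun u : P => ConjClasses.mk u.1 = K),
      Nat.card (S u.1) = Nat.card (S u₀.1) := by
    intro u hu
    obtain ⟨g, hg⟩ := isConj_iff.1 (ConjClasses.mk_eq_mk_iff_isConj.1
      (hu₀.2.trans (Finset.mem_filter.1 hu).2.symm))
    refine (Nat.card_congr ((MulAut.conj g).toEquiv.subtypeEquiv fun v => ?_)).symm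
    simp only [MulEquiv.toEquiv_eq_coe, EquivLike.coe_coe, ← map_pow, ← hg]
    refine and_congr (by simp) ?_
    rw [show g * u₀.1 * g⁻¹ = (MulAut.conj g) u₀.1 from rfl, commute_iff_eq, commute_iff_eq, ← map_mul,
      ← map_mul, (MulAut.conj g).injective.eq_iff]
  rw [Finset.sum_congr rfl hconst, Finset.sum_const, smul_eq_mul]
  set C := Subgroup.centralizer ({u₀.1} : Set G) with hC
  have hcl : (Finset.univ.filter fun u : P => ConjClasses.mk u.1 = K).card = C.index := by
    rw [← Cfsg.Agent.Char.card_conjClass u₀.1, ← Fintype.card_subtype, ← Nat.card_eq_fintype_card]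
    refine Nat.card_congr
      { toFun := fun u => ⟨u.1.1, ConjClasses.mk_eq_mk_iff_isConj.1 (hu₀.2.trans u.2.symm)⟩
        invFun := fun x => ⟨⟨x.1, ?_, ?_⟩, ?_⟩
        left_inv := fun u => rfl
        right_inv := fun x => rfl }
    · obtain ⟨g, hg⟩ := isConj_iff.1 x.2
      rw [← hg, show g * u₀.1 * g⁻¹ = MulAut.conj g u₀.1 from rfl, ← map_pow, u₀.2.1, map_one]
    · obtain ⟨g, hg⟩ := isConj_iff.1 x.2
      rw [← hg, show g * u₀.1 * g⁻¹ = MulAut.conj g u₀.1 from rfl, MulEquiv.orderOf_eq]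
      exact u₀.2.2
    · exact (ConjClasses.mk_eq_mk_iff_isConj.2 x.2).symm.trans hu₀.2
  rw [hcl]
  have e : Nat.card (S u₀.1) = Nat.card {v : C // v ^ Nat.gcd M (Nat.card C) = 1} := by
    refine Nat.card_congr
      { toFun := fun v => ⟨⟨v.1, Subgroup.mem_centralizer_singleton_iff.2 v.2.2.eq.symm⟩, ?_⟩
        invFun := fun v => ⟨v.1.1, ?_, (Subgroup.mem_centralizer_singleton_iff.1 v.1.2).symm⟩
        left_inv := fun v => rfl
        right_inv := fun v => rfl }
    · rw [← orderOf_dvd_iff_pow_eq_one]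
      refine Nat.dvd_gcd (orderOf_dvd_of_pow_eq_one (Subtype.ext ?_)) (orderOf_dvd_natCard _)
      simpa using v.2.1
    · rw [← orderOf_dvd_iff_pow_eq_one, Subgroup.orderOf_coe]
      exact (orderOf_dvd_of_pow_eq_one v.2).trans (Nat.gcd_dvd_left _ _)
  rw [e]
  refine dvd_trans ?_ (Nat.mul_dvd_mul_left C.index
    (Cfsg.Agent.Grp.PowCount.dvd_card_sol _ C rfl _ (Nat.gcd_dvd_right M (Nat.card C))))
  rw [← Nat.gcd_mul_left]
  refine Nat.dvd_gcd (dvd_mul_left _ _) ?_
  rw [mul_comm, C.card_mul_index, hG]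
  exact dvd_mul_left _ _

/-- Let G be a finite group and n a positive integer. The number of elements of G whose order is divisible by n is either 0 or divisible by the largest divisor of the order of G that is coprime to n. -/
theorem result {G : Type*} [Group G] [Finite G] (n : ℕ) (hn : 0 < n) :
    Nat.card {g : G // n ∣ orderOf g} = 0 ∨
      (Nat.card G / Nat.gcd (Nat.card G) (n ^ Nat.card G)) ∣ Nat.card {g : G // n ∣ orderOf g} := by
  right
  set N := Nat.card G with hN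
  have hN0 : N ≠ 0 := Nat.card_pos.ne'
  have hcop : n.Coprime (N / Nat.gcd N (n ^ N)) := by
    refine Nat.coprime_of_dvd fun q hq hqn hqM => ?_
    have hA := Nat.gcd_dvd_left N (n ^ N)
    have h1 : q ^ (N.factorization q) ∣ Nat.gcd N (n ^ N) :=
      Nat.dvd_gcd (Nat.ordProj_dvd N q) ((pow_dvd_pow_of_dvd hqn _).trans
        (pow_dvd_pow n (Nat.factorization_lt q hN0).le))
    have h2 : q ^ (N.factorization q + 1) ∣ N := by
      calc q ^ (N.factorization q + 1) = q ^ (N.factorization q) * q := pow_succ _ _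
        _ ∣ Nat.gcd N (n ^ N) * (N / Nat.gcd N (n ^ N)) := Nat.mul_dvd_mul h1 hqM
        _ = N := Nat.mul_div_cancel' hA
    exact Nat.pow_succ_factorization_not_dvd hN0 hq h2
  refine count_dvd_of_parts n (Nat.gcd N (n ^ N)) _ hcop ?_
    (Nat.mul_div_cancel' (Nat.gcd_dvd_left _ _)).symm
  exact (hcop.pow_left N).coprime_dvd_left (Nat.gcd_dvd_right _ _)

end Cfsg.Agent.S3994
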