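import Cfsg.Statements.S3996
import Mathlib
import Cfsg.Agent.Lib.Grp.ThreeCountsSolvable

set_option autoImplicit false
open Cfsg

namespace Cfsg.Agent.S3996

/-- A finite group in which the numbers of elements of each order that occurs (the numbers #{g : o(g) = m}, m ranging over the element orders) take exactly three different values is solvable. -/
theorem result {G : Type*} [Group G] [Finite G] (h : (((fun m : ℕ => Nat.card {g : G // orderOf g = m}) '' Set.range (orderOf : G → ℕ))).ncard = 3) : Group.IsSolvable G := by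
  classical
  obtain ⟨x, y, z, hxy, hxz, hyz, hs⟩ := Set.ncard_eq_three.mp h
  have hmem : ∀ g : G, Cfsg.Agent.Grp.TwoCounts.cnt G (orderOf g) ∈ ({x, y, z} : Set ℕ) := fun g => by
    rw [← hs]; exact ⟨orderOf g, ⟨g, rfl⟩, rfl⟩
  obtain ⟨a, b, ha1, hb1, hab, hS⟩ : ∃ a b, a ≠ 1 ∧ b ≠ 1 ∧ a ≠ b ∧ ({x, y, z} : Set ℕ) = {1, a, b} := by
    have h1 : (1 : ℕ) ∈ ({x, y, z} : Set ℕ) := by
      have := hmem 1
      rwa [orderOf_one, Cfsg.Agent.Grp.TwoCounts.cnt_one] at this
    rcases h1 with e | e | e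
    · subst e; exact ⟨y, z, hxy.symm, hxz.symm, hyz, rfl⟩
    · subst e; exact ⟨x, z, hxy, hyz.symm, hxz, Set.insert_comm _ _ _⟩
    · have e' : z = 1 := e.symm
      subst e'
      exact ⟨x, y, hxz, hyz, hxy, by ext k; simp; tauto⟩
  have hcases : ∀ g : G, Cfsg.Agent.Grp.TwoCounts.cnt G (orderOf g) = 1 ∨
      Cfsg.Agent.Grp.TwoCounts.cnt G (orderOf g) = a ∨ Cfsg.Agent.Grp.TwoCounts.cnt G (orderOf g) = b := fun g => by
    have := hmem g
    rw [hS] at this
    exact this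
  have hmem' : ∀ c ∈ ({x, y, z} : Set ℕ), ∃ g : G, Cfsg.Agent.Grp.TwoCounts.cnt G (orderOf g) = c := by
    intro c hc
    rw [← hs] at hc
    obtain ⟨m, ⟨g, rfl⟩, rfl⟩ := hc
    exact ⟨g, rfl⟩
  have hne0 : ∀ g : G, Cfsg.Agent.Grp.TwoCounts.cnt G (orderOf g) ≠ 0 := fun g =>
    Cfsg.Agent.Grp.ThreeCounts.cnt_ne_zero.mpr ⟨g, rfl⟩
  obtain ⟨ga, hga⟩ := hmem' a (by rw [hS]; simp)
  obtain ⟨gb, hgb⟩ := hmem' b (by rw [hS]; simp)
  have ha : 2 ≤ a := by have := hne0 ga; omega
  have hb : 2 ≤ b := by have := hne0 gb; omega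
  have hbig : ∀ g : G, 2 < orderOf g → Cfsg.Agent.Grp.TwoCounts.cnt G (orderOf g) = a ∨
      Cfsg.Agent.Grp.TwoCounts.cnt G (orderOf g) = b := fun g hg => (hcases g).resolve_left fun e => by
    have := Cfsg.Agent.Grp.ThreeCounts.even_cnt (G := G) hg
    omega
  by_cases hev : 2 ∣ Nat.card G
  swap
  · -- odd order
    have hodd : Odd (Nat.card G) := Nat.odd_iff.mpr (by omega)
    have hV : ∀ g : G, g ≠ 1 → Cfsg.Agent.Grp.TwoCounts.cnt G (orderOf g) = a ∨
        Cfsg.Agent.Grp.TwoCounts.cnt G (orderOf g) = b := fun g hg => hbig g (by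
      have h1 := orderOf_pos g
      have h2 : orderOf g ≠ 1 := fun e => hg (orderOf_eq_one_iff.mp e)
      have h3 : orderOf g ≠ 2 := fun e => hev (e ▸ orderOf_dvd_natCard g)
      omega)
    have h2p := Cfsg.Agent.Grp.ThreeCounts.card_primeFactors_le hodd ha hb hab hV
    by_contra hns
    obtain ⟨r, hr, hrd, -, -⟩ := Cfsg.Agent.Grp.EPPO.exists_third_prime hns Nat.prime_two Nat.prime_two
    obtain ⟨s, hs', hsd, hsr, -⟩ := Cfsg.Agent.Grp.EPPO.exists_third_prime hns hr hr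
    obtain ⟨t, ht, htd, htr, hts⟩ := Cfsg.Agent.Grp.EPPO.exists_third_prime hns hr hs'
    have hsub : ({r, s, t} : Finset ℕ) ⊆ (Nat.card G).primeFactors := by
      intro k hk
      simp only [Finset.mem_insert, Finset.mem_singleton] at hk
      rcases hk with rfl | rfl | rfl <;> exact Nat.mem_primeFactors.mpr ⟨by assumption, by assumption, Nat.card_pos.ne'⟩
    have := Finset.card_le_card hsub
    rw [Finset.card_insert_of_notMem (by simp [hsr.symm, htr.symm]), Finset.card_insert_of_notMem (by simp [hts.symm]),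
      Finset.card_singleton] at this
    omega
  haveI : Fact (Nat.Prime 2) := ⟨Nat.prime_two⟩
  obtain ⟨t, ht⟩ := exists_prime_orderOf_dvd_card' (G := G) 2 hev
  have hodd2 := Cfsg.Agent.Grp.ThreeCounts.odd_cnt_two (G := G) hev
  rcases (ht ▸ hcases t : Cfsg.Agent.Grp.TwoCounts.cnt G 2 = 1 ∨ Cfsg.Agent.Grp.TwoCounts.cnt G 2 = a ∨
      Cfsg.Agent.Grp.TwoCounts.cnt G 2 = b) with e | e | e
  · exact Cfsg.Agent.Grp.ThreeCounts.main_even hev ha hb hab e hbig
  · refine Cfsg.Agent.Grp.ThreeCounts.main_even_odd_two hev (b := b) fun g hg => (hbig g hg).resolve_left fun e' => ?_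
    have := Cfsg.Agent.Grp.ThreeCounts.even_cnt (G := G) hg
    omega
  · refine Cfsg.Agent.Grp.ThreeCounts.main_even_odd_two hev (b := a) fun g hg => (hbig g hg).resolve_right fun e' => ?_
    have := Cfsg.Agent.Grp.ThreeCounts.even_cnt (G := G) hg
    omega

end Cfsg.Agent.S3996
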