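import Cfsg.Statements.S3997


set_option autoImplicit false
open Cfsg

namespace Cfsg.Agent.S3997

/-- Let G and H be finite groups with the same order type: for every m they have the same number of elements of order m. If G is nilpotent then so is H. -/
theorem result {G H : Type*} [Group G] [Finite G] [Group H] [Finite H] (hT : (∀ m : ℕ, Nat.card {g : G // orderOf g = m} = Nat.card {h : H // orderOf h = m})) (hG : Group.IsNilpotent G) :
    Group.IsNilpotent H := by
  classical
  have := Fintype.ofFinite G
  have := Fintype.ofFinite H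
  have hT' : ∀ d : ℕ, Nat.card {g : G // orderOf g ∣ d} = Nat.card {h : H // orderOf h ∣ d} := by
    intro d
    let ψ : ∀ m, {g : G // orderOf g = m} ≃ {h : H // orderOf h = m} := fun m => (Finite.card_eq.mp (hT m)).some
    have eG := Equiv.sigmaSubtypeFiberEquivSubtype (fun g : G => orderOf g) (p := fun g => orderOf g ∣ d)
      (q := fun m => m ∣ d) fun g => Iff.rfl
    have eH := Equiv.sigmaSubtypeFiberEquivSubtype (fun g : H => orderOf g) (p := fun g => orderOf g ∣ d)
      (q := fun m => m ∣ d) fun g => Iff.rfl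
    exact Nat.card_congr (eG.symm.trans ((Equiv.sigmaCongrRight fun m : {m : ℕ // m ∣ d} => ψ m.1).trans eH))
  have hGH : Nat.card G = Nat.card H := by
    let ψ : ∀ m, {g : G // orderOf g = m} ≃ {h : H // orderOf h = m} := fun m => (Finite.card_eq.mp (hT m)).some
    exact Nat.card_congr ((Equiv.sigmaFiberEquiv _).symm.trans
      ((Equiv.sigmaCongrRight ψ).trans (Equiv.sigmaFiberEquiv _)))
  have hiff := (Group.isNilpotent_of_finite_tfae (G := H)).out 0 3
  refine hiff.2 fun p hp Q => ?_
  haveI : Fact p.Prime := hp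
  obtain ⟨P⟩ : Nonempty (Sylow p G) := Sylow.nonempty
  have hall := (Group.isNilpotent_of_finite_tfae (G := G)).out 0 3 |>.1 hG
  have hPn : (P : Subgroup G).Normal := hall p hp P
  have : Unique (Sylow p G) := Sylow.unique_of_normal P hPn
  set d := p ^ (Nat.card G).factorization p with hd
  have hPc : Nat.card (P : Subgroup G) = d := P.card_eq_multiplicity
  have hset : Nat.card {g : G // orderOf g ∣ d} = d := by
    refine Eq.trans ?_ hPc
    refine Nat.card_congr (Equiv.subtypeEquivRight fun g => ⟨fun hg => ?_, fun hg => hPc ▸ (P : Subgroup G).orderOf_dvd_natCard hg⟩)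
    obtain ⟨a, -, ha⟩ := (Nat.dvd_prime_pow hp.out).mp hg
    obtain ⟨P', hP'⟩ := (IsPGroup.of_card (n := a) (by rw [Nat.card_zpowers, ha]) :
      IsPGroup p (Subgroup.zpowers g)).exists_le_sylow
    rw [Subsingleton.elim P' P] at hP'
    exact hP' (Subgroup.mem_zpowers g)
  rw [hT'] at hset
  have hQc : Nat.card (Q : Subgroup H) = d := by rw [Q.card_eq_multiplicity, ← hGH]
  have hsub : ((Q : Subgroup H) : Set H) ⊆ {x : H | orderOf x ∣ d} := fun x hx =>
    hQc ▸ (Q : Subgroup H).orderOf_dvd_natCard hx
  have e := Set.eq_of_subset_of_ncard_le hsub (by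
    rw [← Nat.card_coe_set_eq, ← Nat.card_coe_set_eq]
    exact le_of_eq (hset.trans hQc.symm)) (Set.toFinite _)
  refine ⟨fun x hx g => ?_⟩
  have hx' : orderOf x ∣ d := (Set.ext_iff.mp e x).mp hx
  refine (Set.ext_iff.mp e _).mpr ?_
  show orderOf (g * x * g⁻¹) ∣ d
  rwa [show orderOf (g * x * g⁻¹) = orderOf x from
    orderOf_injective (MulAut.conj g).toMonoidHom (MulAut.conj g).injective x]

end Cfsg.Agent.S3997
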