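import Cfsg.Statements.S3999
import Cfsg.Agent.Lib.Grp.Zassenhaus.OrderType

set_option autoImplicit false
open Cfsg

namespace Cfsg.Agent.S3999

/-- Let F be a finite Frobenius group (it has a Frobenius complement) and G a finite group with the same order type as F (for every m the same number of elements of order m). Then G is a Frobenius group; moreover G is solvable if and only if F is. -/
theorem result {F G : Type*} [Group F] [Finite F] [Group G] [Finite G] (hF : (∃ C : Subgroup F, Cfsg.IsFrobeniusComplement C)) (hT : (∀ m : ℕ, Nat.card {g : F // orderOf g = m} = Nat.card {h : G // orderOf h = m})) :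
    (∃ C : Subgroup G, Cfsg.IsFrobeniusComplement C) ∧ (Group.IsSolvable G ↔ Group.IsSolvable F) := by
  classical
  have := Fintype.ofFinite F
  have := Fintype.ofFinite G
  obtain ⟨C, hC⟩ := hF
  obtain ⟨K, hK, hKn, hKc, hKnil⟩ := Grp.frobenius_kernel_spec hC
  have hT' : ∀ d : ℕ, Nat.card {g : F // orderOf g ∣ d} = Nat.card {h : G // orderOf h ∣ d} := by
    intro d
    let ψ : ∀ m, {g : F // orderOf g = m} ≃ {h : G // orderOf h = m} := fun m =>
      (Finite.card_eq.mp (hT m)).some
    have eF := Equiv.sigmaSubtypeFiberEquivSubtype (fun g : F => orderOf g) (p := fun g => orderOf g ∣ d)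
      (q := fun m => m ∣ d) fun g => Iff.rfl
    have eG := Equiv.sigmaSubtypeFiberEquivSubtype (fun g : G => orderOf g) (p := fun g => orderOf g ∣ d)
      (q := fun m => m ∣ d) fun g => Iff.rfl
    exact Nat.card_congr (eF.symm.trans ((Equiv.sigmaCongrRight fun m : {m : ℕ // m ∣ d} => ψ m.1).trans eG))
  have hGF : Nat.card G = Nat.card F := by
    let ψ : ∀ m, {g : F // orderOf g = m} ≃ {h : G // orderOf h = m} := fun m =>
      (Finite.card_eq.mp (hT m)).some
    exact (Nat.card_congr ((Equiv.sigmaFiberEquiv _).symm.trans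
      ((Equiv.sigmaCongrRight ψ).trans (Equiv.sigmaFiberEquiv _)))).symm
  have hcop := Frob.coprime_card_index hC
  rw [← Frob.kernel_card hC hK] at hcop
  set k := Nat.card K
  set c := Nat.card C
  have hFc : Nat.card F = k * c := hKc.card_mul.symm
  have hkF : ∀ d : ℕ, d ∣ k → {g : F | orderOf g ∣ d} ⊆ (K : Set F) := fun d hd g hg =>
    (Grp.Zas.mem_kernel_iff_pow hC hK g).mpr (orderOf_dvd_iff_pow_eq_one.mp (hg.trans hd))
  have hord : ∀ h : G, orderOf h ∣ k ∨ orderOf h ∣ c := by
    intro h
    have : Nonempty {g : F // orderOf g = orderOf h} := by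
      have h0 : 0 < Nat.card {g : G // orderOf g = orderOf h} := Nat.card_pos_iff.mpr ⟨⟨⟨h, rfl⟩⟩, inferInstance⟩
      rw [← hT] at h0
      exact (Nat.card_pos_iff.mp h0).1
    obtain ⟨g, hg⟩ := this
    exact hg ▸ Grp.Zas.order_dvd_or hC hK g
  have : Group.IsNilpotent K := hKnil
  have hsyl : ∀ p : ℕ, p.Prime → p ∣ k →
      Nat.card {h : G // orderOf h ∣ p ^ k.factorization p} = p ^ k.factorization p := by
    intro p hp hpk
    have := Fact.mk hp
    rw [← hT']
    obtain ⟨P⟩ : Nonempty (Sylow p K) := Sylow.nonempty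
    have hall := (Group.isNilpotent_of_finite_tfae (G := K)).out 0 3 |>.1 hKnil
    have hPn : (P : Subgroup K).Normal := hall p inferInstance P
    have : Unique (Sylow p K) := Sylow.unique_of_normal P hPn
    refine Eq.trans ?_ P.card_eq_multiplicity
    symm
    refine Nat.card_eq_of_bijective (fun x : (P : Subgroup K) => (⟨((x : K) : F), by
      rw [Subgroup.orderOf_coe, Subgroup.orderOf_coe, show p ^ k.factorization p = Nat.card (P : Subgroup K) from
        P.card_eq_multiplicity.symm]
      exact orderOf_dvd_natCard x⟩ :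
        {g : F // orderOf g ∣ p ^ k.factorization p})) ⟨fun x y e => ?_, ?_⟩
    · exact Subtype.ext (Subtype.ext (congrArg Subtype.val e :))
    · rintro ⟨g, hg⟩
      have hgK : g ∈ K := hkF _ (Nat.ordProj_dvd k p) hg
      have hz : IsPGroup p (Subgroup.zpowers (⟨g, hgK⟩ : K)) := by
        have : orderOf (⟨g, hgK⟩ : K) ∣ p ^ k.factorization p := by rw [← Subgroup.orderOf_coe]; exact hg
        obtain ⟨a, -, ha⟩ := (Nat.dvd_prime_pow hp).mp this
        exact IsPGroup.of_card (n := a) (by rw [Nat.card_zpowers, ha])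
      obtain ⟨Q, hQ⟩ := hz.exists_le_sylow
      rw [Subsingleton.elim Q P] at hQ
      exact ⟨⟨_, hQ (Subgroup.mem_zpowers _)⟩, rfl⟩
  have hk : Nat.card {h : G // h ^ k = 1} = k := by
    rw [Nat.card_congr (Equiv.subtypeEquivRight fun h : G => (orderOf_dvd_iff_pow_eq_one (x := h) (n := k)).symm),
      ← hT', Nat.card_congr (Equiv.subtypeEquivRight fun g : F =>
        orderOf_dvd_iff_pow_eq_one.trans (Grp.Zas.mem_kernel_iff_pow hC hK g).symm)]
  obtain ⟨N, hNn, hNc, hNmem⟩ := Grp.Zas.exists_kernel_of_orders (hGF.trans hFc) hcop.symm hord hsyl hk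
  have hNi : N.index = c := by
    have := N.card_mul_index
    rw [hNc, hGF, hFc] at this
    exact Nat.eq_of_mul_eq_mul_left Nat.card_pos this
  obtain ⟨D, hD⟩ := Subgroup.exists_right_complement'_of_coprime (N := N) (by rw [hNc, hNi]; exact hcop.symm)
  have hDc : Nat.card D = c := by
    have := hD.card_mul
    rw [hNc, hGF, hFc] at this
    exact Nat.eq_of_mul_eq_mul_left Nat.card_pos this
  have hk1 : k ≠ 1 := fun e => Frob.kernel_ne_bot hC hK (Subgroup.card_eq_one.mp e)
  have hNb : N ≠ ⊥ := fun e => hk1 (by rw [← hNc, e, Subgroup.card_bot])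
  have hDb : D ≠ ⊥ := fun e => hC.1 (Subgroup.card_eq_one.mp (by rw [e, Subgroup.card_bot] at hDc; exact hDc.symm))
  have hDF : Cfsg.IsFrobeniusComplement D := by
    refine Grp.Zas.isFrobeniusComplement_of_isComplement' hD hNb hDb fun h hh hh1 => ?_
    rw [Subgroup.eq_bot_iff_forall]
    rintro x ⟨hx, hxh⟩
    have hox : orderOf x ∣ k := hNc ▸ N.orderOf_dvd_natCard hx
    have hoh : orderOf h ∣ c := hDc ▸ D.orderOf_dvd_natCard hh
    have hcx : (orderOf x).Coprime (orderOf h) := (hcop.symm.coprime_dvd_left hox).coprime_dvd_right hoh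
    have hmul := (show Commute x h from Subgroup.mem_centralizer_singleton_iff.mp hxh).orderOf_mul_eq_mul_orderOf_of_coprime hcx
    rcases hord (x * h) with e | e <;> rw [hmul] at e
    · exact absurd (orderOf_eq_one_iff.mp (Nat.eq_one_of_dvd_coprimes hcop hoh ((dvd_mul_left _ _).trans e))) hh1
    · exact orderOf_eq_one_iff.mp (Nat.eq_one_of_dvd_coprimes hcop ((dvd_mul_right _ _).trans e) hox)
  refine ⟨⟨D, hDF⟩, ?_⟩
  rw [Grp.Zas.isSolvable_iff_complement hC, Grp.Zas.isSolvable_iff_complement hDF, ← not_iff_not,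
    (Grp.Zas.hasFpf_of_complement hC).not_isSolvable_iff, (Grp.Zas.hasFpf_of_complement hDF).not_isSolvable_iff, hDc]
  refine and_congr_right fun _ => ?_
  by_cases h3 : 3 ∣ c
  · have e1 := Grp.Zas.card_orderOf_complement hC (m := 3) h3 (by omega)
    have e2 := Grp.Zas.card_orderOf_complement hDF (m := 3) (hDc ▸ h3) (by omega)
    have hi : D.index = C.index := by
      have := D.card_mul_index
      rw [hDc, hGF, ← C.card_mul_index] at this
      exact Nat.eq_of_mul_eq_mul_left Nat.card_pos this
    rw [hT, e2, hi] at e1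
    rw [Nat.eq_of_mul_eq_mul_left (Nat.pos_of_ne_zero Subgroup.index_ne_zero_of_finite) e1]
  · have hempty : ∀ (L : Type _) [Group L] [Finite L], Nat.card L = c → Nat.card {g : L // orderOf g = 3} = 0 := by
      intro L _ _ hL
      have : IsEmpty {g : L // orderOf g = 3} := ⟨fun g => h3 (hL ▸ g.2 ▸ orderOf_dvd_natCard g.1)⟩
      exact Nat.card_of_isEmpty
    rw [hempty D hDc]
    have : IsEmpty {g : C // orderOf g = 3} := ⟨fun g => h3 (g.2 ▸ orderOf_dvd_natCard g.1)⟩
    rw [Nat.card_of_isEmpty]

end Cfsg.Agent.S3999
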