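import Cfsg.Statements.S4001
import Cfsg.Agent.Lib.Grp.FrobeniusTower
import Cfsg.Agent.Lib.Grp.Basic
import Cfsg.Agent.Lib.Transfer.RankOneCyclic


set_option autoImplicit false
open Cfsg

namespace Cfsg.Agent.S4001

/-- Let G be a 2-Frobenius group: it has normal subgroups H < K with K a Frobenius group with kernel H and G/H a Frobenius group with kernel K/H. Then G is solvable; K/H has odd order coprime to the order of H and to the order of G/K (it is the image of an odd-order Hall subgroup); G/K is cyclic; and the prime graph of G has exactly two connected components, both complete: for distinct primes p, q dividing the order of G, G has an element of order pq exactly when p and q either both divide the order of K/H or both do not. -/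
theorem result {G : Type*} [Group G] [Finite G] (H K : Subgroup G) [H.Normal] [K.Normal] (hlt : H < K)
    (hK : ∃ C : Subgroup ↥K, Cfsg.IsFrobeniusComplement C ∧ Cfsg.frobeniusKernel C = (H.subgroupOf K : Set ↥K))
    (hGH : ∃ C : Subgroup (G ⧸ H), Cfsg.IsFrobeniusComplement C ∧ Cfsg.frobeniusKernel C = (K.map (QuotientGroup.mk' H) : Set (G ⧸ H))) :
    Group.IsSolvable G ∧ Odd (Nat.card (↥K ⧸ H.subgroupOf K)) ∧
      Nat.Coprime (Nat.card (↥K ⧸ H.subgroupOf K)) (Nat.card ↥H * Nat.card (G ⧸ K)) ∧ IsCyclic (G ⧸ K) ∧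
      ∀ p q : ℕ, p.Prime → q.Prime → p ≠ q → p ∣ Nat.card G → q ∣ Nat.card G →
        ((∃ g : G, orderOf g = p * q) ↔ (p ∣ Nat.card (↥K ⧸ H.subgroupOf K) ↔ q ∣ Nat.card (↥K ⧸ H.subgroupOf K))) := by
  classical
  have := Fintype.ofFinite ↥K
  have := Fintype.ofFinite (G ⧸ H)
  obtain ⟨C, hC, hCK⟩ := hK
  obtain ⟨D, hD, hDQ⟩ := hGH
  set π := QuotientGroup.mk' H with hπ
  have hπs : Function.Surjective π := QuotientGroup.mk'_surjective H
  set Q := K.map π with hQdef
  have hQn : Q.Normal := (inferInstance : K.Normal).map π hπs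
  have hQk : ((Q : Subgroup (G ⧸ H)) : Set (G ⧸ H)) = Cfsg.frobeniusKernel D := hDQ.symm
  have hHk : ((H.subgroupOf K : Subgroup K) : Set K) = Cfsg.frobeniusKernel C := hCK.symm
  have hkerπ : π.ker = H := QuotientGroup.ker_mk' H
  have hHnil : Group.IsNilpotent H := by
    obtain ⟨N, hN, -, -, hnil⟩ := Cfsg.Agent.Grp.frobenius_kernel_spec hC
    have e : N = H.subgroupOf K := SetLike.coe_injective (hN.trans hHk.symm)
    subst e
    exact Group.nilpotent_of_mulEquiv (Subgroup.subgroupOfEquivOfLe hlt.le)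
  have hQnil : Group.IsNilpotent Q := by
    obtain ⟨N, hN, -, -, hnil⟩ := Cfsg.Agent.Grp.frobenius_kernel_spec hD
    have e : N = Q := SetLike.coe_injective (hN.trans hQk.symm)
    subst e
    exact hnil
  have hcompC : Subgroup.IsComplement' (H.subgroupOf K) C := Frob.kernel_isComplement hC hHk
  have hcompD : Subgroup.IsComplement' Q D := Frob.kernel_isComplement hD hQk
  -- the middle factor
  let θ : C →* Q := ((π.comp K.subtype).comp C.subtype).codRestrict Q fun c => ⟨_, (c : K).2, rfl⟩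
  have hθ : Function.Injective θ := (injective_iff_map_eq_one θ).mpr fun c hc => by
    have h1 : (c : K) ∈ H.subgroupOf K := by
      rw [Subgroup.mem_subgroupOf, ← hkerπ]
      exact congrArg Subtype.val hc
    have h2 : (c : K) ∈ H.subgroupOf K ⊓ C := ⟨h1, c.2⟩
    rw [hcompC.disjoint.eq_bot, Subgroup.mem_bot] at h2
    exact Subtype.ext h2
  have hcardQ : Nat.card Q = Nat.card C := by
    rw [hQdef, ← Subgroup.relIndex_ker, hkerπ, Subgroup.relIndex]
    exact hcompC.symm.index_eq_card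
  let e : C ≃* Q := MulEquiv.ofBijective θ ((Nat.bijective_iff_injective_and_card θ).mpr ⟨hθ, hcardQ.symm⟩)
  have hfpfQ := (Cfsg.Agent.Grp.Zas.hasFpf_of_complement hC).of_injective e.symm.toMonoidHom e.symm.injective
  have hfix : ∀ (x : G ⧸ H), x ∈ Q → x ≠ 1 → Subgroup.centralizer ({x} : Set (G ⧸ H)) ≤ Q := fun x hx hx1 =>
    Frob.centralizer_le_kernel hD hQk hx hx1
  have hQtop : Q ≠ ⊤ := by
    intro h
    have h1 := hcompD.disjoint.eq_bot
    rw [h, top_inf_eq] at h1
    exact hD.1 h1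
  have hQodd : Odd (Nat.card Q) := by
    rw [← Nat.not_even_iff_odd]
    intro hev
    obtain ⟨z, hz⟩ := exists_prime_orderOf_dvd_card' (G := Q) 2 (even_iff_two_dvd.mp hev)
    have hz1 : (z : G ⧸ H) ≠ 1 := fun h => by
      rw [← Subgroup.orderOf_coe, h, orderOf_one] at hz
      omega
    refine hQtop (eq_top_iff.mpr fun g _ => hfix z z.2 hz1 ?_)
    rw [Subgroup.mem_centralizer_singleton_iff]
    have h2 : orderOf (⟨g * z * g⁻¹, hQn.conj_mem _ z.2 g⟩ : Q) = 2 := by
      rw [← Subgroup.orderOf_coe]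
      show orderOf (MulAut.conj g (z : G ⧸ H)) = 2
      rw [MulEquiv.orderOf_eq, Subgroup.orderOf_coe, hz]
    exact mul_inv_eq_iff_eq_mul.mp (congrArg Subtype.val ((hfpfQ.involution hz).2 _ h2))
  have hQcard : Nat.card (↥K ⧸ H.subgroupOf K) = Nat.card Q := by
    rw [hcardQ, ← Subgroup.index_eq_card]
    exact hcompC.symm.index_eq_card
  have hcopH : (Nat.card Q).Coprime (Nat.card H) := by
    have := Frob.coprime_card_index hC
    rw [← Frob.kernel_card hC hHk, Nat.card_congr (Subgroup.subgroupOfEquivOfLe hlt.le).toEquiv, ← hcardQ] at this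
    exact this
  -- the top factor
  let ψ : (G ⧸ H) →* G ⧸ K := QuotientGroup.map H K (MonoidHom.id G) hlt.le
  have hψQ : ∀ x ∈ Q, ψ x = 1 := by
    rintro _ ⟨k, hk, rfl⟩
    exact (QuotientGroup.eq_one_iff k).mpr hk
  have hψs : Function.Surjective (ψ.comp D.subtype) := by
    intro x
    obtain ⟨g, rfl⟩ := QuotientGroup.mk_surjective x
    obtain ⟨⟨⟨k, hk⟩, d⟩, hkd⟩ := hcompD.surjective (π g)
    refine ⟨d, ?_⟩
    have : k * (d : G ⧸ H) = π g := hkd
    show ψ d = _
    rw [show QuotientGroup.mk g = ψ (π g) from rfl, ← this, map_mul, hψQ k hk, one_mul]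
  have hcardD : Nat.card D ≠ 0 ∧ (Nat.card Q).Coprime (Nat.card D) := by
    refine ⟨Nat.card_pos.ne', ?_⟩
    have := Frob.coprime_card_index hD
    rw [← Frob.kernel_card hD hQk] at this
    exact this.symm
  have hcardT : Nat.card (G ⧸ K) ∣ Nat.card D := Subgroup.card_dvd_of_surjective _ hψs
  have hcopT : (Nat.card Q).Coprime (Nat.card (G ⧸ K)) := hcardD.2.coprime_dvd_right hcardT
  have hQ1 : Nontrivial Q := by
    rw [Subgroup.nontrivial_iff_ne_bot]
    exact Frob.kernel_ne_bot hD hQk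
  -- a characteristic subgroup of prime order in the middle
  have hsub : ∀ r : ℕ, r.Prime → r ∣ Nat.card Q → ∃ z : Q, orderOf z = r ∧
      ∀ g : G ⧸ H, g * (z : G ⧸ H) * g⁻¹ ∈ Subgroup.zpowers (z : G ⧸ H) := by
    intro r hr hrd
    have := Fact.mk hr
    have hr2 : r ≠ 2 := fun h => Nat.not_even_iff_odd.mpr hQodd (even_iff_two_dvd.mpr (h ▸ hrd))
    obtain ⟨z, hz⟩ := exists_prime_orderOf_dvd_card' (G := Q) r hrd
    refine ⟨z, hz, fun g => ?_⟩
    obtain ⟨R, hR⟩ := (IsPGroup.of_card (p := r) (n := 1) (show Nat.card (Subgroup.zpowers z) = r ^ 1 by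
      rw [Nat.card_zpowers, hz, pow_one])).exists_le_sylow
    have hcyc := hfpfQ.sylow_cyclic hr2 R
    have hall : ∀ (r : ℕ) (_ : Fact r.Prime) (R : Sylow r Q), (R : Subgroup Q).Normal :=
      ((Group.isNilpotent_of_finite_tfae (G := Q)).out 0 3).mp hQnil
    have hRn : (R : Subgroup Q).Normal := hall r ‹_› R
    set w : Q := ⟨g * z * g⁻¹, hQn.conj_mem _ z.2 g⟩
    have hw : orderOf w = r := by
      rw [← Subgroup.orderOf_coe]
      show orderOf (MulAut.conj g (z : G ⧸ H)) = r
      rw [MulEquiv.orderOf_eq, Subgroup.orderOf_coe, hz]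
    have hwR : w ∈ R := by
      obtain ⟨R', hR'⟩ := (IsPGroup.of_card (p := r) (n := 1) (show Nat.card (Subgroup.zpowers w) = r ^ 1 by
        rw [Nat.card_zpowers, hw, pow_one])).exists_le_sylow
      have := (Sylow.unique_of_normal R hRn).instSubsingleton
      rw [Subsingleton.elim R R']
      exact hR' (Subgroup.mem_zpowers w)
    have hzR : z ∈ R := hR (Subgroup.mem_zpowers z)
    obtain ⟨k, hk⟩ := Cfsg.Agent.Transfer.RankOneCyclic.mem_zpowers_of_pow_eq_one (p := r) hcyc hzR hz hwR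
      (hw ▸ pow_orderOf_eq_one w)
    exact ⟨k, congrArg Subtype.val hk⟩
  have hcycD : IsCyclic D := by
    obtain ⟨r, hr, hrd⟩ := Nat.exists_prime_and_dvd (Finite.one_lt_card (α := Q)).ne'
    have := Fact.mk hr
    obtain ⟨z, hz, hzn⟩ := hsub r hr hrd
    have hz1 : (z : G ⧸ H) ≠ 1 := fun h => by
      rw [← Subgroup.orderOf_coe, h, orderOf_one] at hz
      exact hr.one_lt.ne hz
    set Z := Subgroup.zpowers (z : G ⧸ H)
    have hZn : Z.Normal := ⟨fun x hx g => by
      obtain ⟨k, rfl⟩ := hx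
      show MulAut.conj g _ ∈ Z
      rw [map_zpow]
      exact zpow_mem (hzn g) k⟩
    have hZc : Nat.card Z = r := by rw [Nat.card_zpowers, Subgroup.orderOf_coe, hz]
    have hcycA : IsCyclic (MulAut Z) := by
      have e1 := IsCyclic.mulAutMulEquiv Z
      rw [hZc] at e1
      exact isCyclic_of_surjective e1.symm e1.symm.surjective
    refine isCyclic_of_injective ((MulAut.conjNormal (H := Z)).comp D.subtype) ((injective_iff_map_eq_one _).mpr fun d hd => ?_)
    have h1 : (d : G ⧸ H) ∈ Q ⊓ D := by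
      refine ⟨hfix z z.2 hz1 (Subgroup.mem_centralizer_singleton_iff.mpr ?_), d.2⟩
      have h2 := DFunLike.congr_fun hd (⟨z, Subgroup.mem_zpowers _⟩ : Z)
      exact mul_inv_eq_iff_eq_mul.mp (congrArg Subtype.val h2)
    rw [hcompD.disjoint.eq_bot, Subgroup.mem_bot] at h1
    exact Subtype.ext h1
  have hcycT : IsCyclic (G ⧸ K) := isCyclic_of_surjective _ hψs
  have hKsol : Group.IsSolvable K := by
    have := hHnil
    have : Group.IsNilpotent C := Group.nilpotent_of_mulEquiv e.symm
    have h1 : Group.IsSolvable (H.subgroupOf K) :=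
      solvable_of_solvable_injective (f := (Subgroup.subgroupOfEquivOfLe hlt.le).toMonoidHom)
        (Subgroup.subgroupOfEquivOfLe hlt.le).injective
    have h2 : Group.IsSolvable (K ⧸ H.subgroupOf K) := by
      refine solvable_of_surjective (f := (QuotientGroup.mk' (H.subgroupOf K)).comp C.subtype) fun x => ?_
      obtain ⟨k, rfl⟩ := QuotientGroup.mk_surjective x
      obtain ⟨⟨h, c⟩, hhc⟩ := hcompC.surjective k
      refine ⟨c, ?_⟩
      have hh : (h : K) * c = k := hhc
      rw [← hh, QuotientGroup.mk_mul, (QuotientGroup.eq_one_iff (h : K)).mpr h.2, one_mul]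
      rfl
    exact solvable_of_ker_le_range (H.subgroupOf K).subtype (QuotientGroup.mk' (H.subgroupOf K)) (by rw [QuotientGroup.ker_mk', Subgroup.range_subtype])
  have hGsol : Group.IsSolvable G := by
    have : Group.IsSolvable (G ⧸ K) := by
      have := hcycT
      have hc : IsMulCommutative (G ⧸ K) := inferInstance
      exact Group.isSolvable_of_comm fun a b => hc.is_comm.comm a b
    exact solvable_of_ker_le_range K.subtype (QuotientGroup.mk' K) (by simp)
  have hcardG : ∀ r : ℕ, r.Prime → r ∣ Nat.card G → ¬ r ∣ Nat.card Q →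
      r ∣ Nat.card H ∨ r ∣ Nat.card (G ⧸ K) := by
    intro r hr hrd hrQ
    rw [Subgroup.card_eq_card_quotient_mul_card_subgroup K] at hrd
    rcases hr.dvd_mul.mp hrd with h | h
    · exact Or.inr h
    · rw [Subgroup.card_eq_card_quotient_mul_card_subgroup (H.subgroupOf K), hQcard,
        Nat.card_congr (Subgroup.subgroupOfEquivOfLe hlt.le).toEquiv] at h
      exact Or.inl ((hr.dvd_mul.mp h).resolve_left hrQ)
  have hpull : ∀ {X : Type _} [Group X] (f : G →* X) (p q : ℕ) (g : G), orderOf (f g) = p * q → ∃ g' : G, orderOf g' = p * q := by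
    intro X _ f p q g hg
    exact ⟨g ^ (orderOf g / (p * q)), orderOf_pow_orderOf_div (orderOf_pos g).ne' (hg ▸ orderOf_map_dvd f g)⟩
  refine ⟨hGsol, hQcard ▸ hQodd, hQcard ▸ Nat.Coprime.mul_right hcopH hcopT, hcycT, ?_⟩
  -- the prime graph
  have hsep : ∀ p q : ℕ, p.Prime → q.Prime → p ∣ Nat.card Q → ¬ q ∣ Nat.card Q → ∀ x y : G,
      orderOf x = p → orderOf y = q → Commute x y → False := by
    intro p q hp hq hpQ hqQ x y hx hy hxy
    have hxH : x ∉ H := fun h => hp.one_lt.ne' (Nat.eq_one_of_dvd_coprimes hcopH hpQ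
      (hx ▸ by rw [← Subgroup.orderOf_mk x h]; exact orderOf_dvd_natCard _))
    have hxK : x ∈ K := by
      rw [← QuotientGroup.eq_one_iff (N := K), ← orderOf_eq_one_iff]
      exact Nat.eq_one_of_dvd_coprimes hcopT ((orderOf_map_dvd (QuotientGroup.mk' K) x).trans (hx ▸ hpQ))
        (orderOf_dvd_natCard _)
    have hxQ : π x ∈ Q := ⟨x, hxK, rfl⟩
    have hx1 : π x ≠ 1 := fun h => hxH ((QuotientGroup.eq_one_iff x).mp h)
    have hyQ : π y ∈ Q := hfix _ hxQ hx1 (Subgroup.mem_centralizer_singleton_iff.mpr (by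
      rw [← map_mul, ← map_mul, hxy.eq]))
    have hyH : y ∈ H := by
      refine (QuotientGroup.eq_one_iff y).mp (orderOf_eq_one_iff.mp ?_)
      refine ((Nat.dvd_prime hq).mp (hy ▸ orderOf_map_dvd π y)).resolve_right fun h => hqQ ?_
      show q ∣ _
      rw [← h]
      exact (Subgroup.orderOf_mk (π y) hyQ).symm.dvd.trans (orderOf_dvd_natCard _)
    have hy1 : (⟨y, hlt.le hyH⟩ : K) ≠ 1 := fun h => hq.one_lt.ne' (by
      rw [← hy, show y = 1 from congrArg Subtype.val h]; exact orderOf_one)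
    exact hxH (Frob.centralizer_le_kernel hC hHk (k := (⟨y, hlt.le hyH⟩ : K)) hyH hy1
      (x := (⟨x, hxK⟩ : K)) (Subgroup.mem_centralizer_singleton_iff.mpr (Subtype.ext hxy.eq)))
  have hmixed : ∀ p q : ℕ, p.Prime → q.Prime → p ≠ q → p ∣ Nat.card H → q ∣ Nat.card (G ⧸ K) →
      ∃ g : G, orderOf g = p * q := by
    intro p q hp hq hne hpH hqT
    have := Fact.mk hp
    have := Fact.mk hq
    obtain ⟨r, hr, hrd⟩ := Nat.exists_prime_and_dvd (Finite.one_lt_card (α := Q)).ne'
    have := Fact.mk hr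
    obtain ⟨z, hz, hzn⟩ := hsub r hr hrd
    obtain ⟨c₀, hc₀⟩ := hπs (z : G ⧸ H)
    have hzo : orderOf (π c₀) = r := by rw [hc₀, Subgroup.orderOf_coe, hz]
    set c := c₀ ^ (orderOf c₀ / r)
    have hrdvd : r ∣ orderOf c₀ := hzo ▸ orderOf_map_dvd π c₀
    have hco : orderOf c = r := orderOf_pow_orderOf_div (orderOf_pos c₀).ne' hrdvd
    set Z := Subgroup.zpowers c
    have hZc : Nat.card Z = r := by rw [Nat.card_zpowers, hco]
    have hHZ : (Nat.card H).Coprime (Nat.card Z) := by
      rw [hZc]; exact ((hcopH.coprime_dvd_left hrd)).symm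
    have hcH : c ∉ H := fun h => hr.one_lt.ne' (Nat.eq_one_of_dvd_coprimes hHZ
      (by rw [← hco, ← Subgroup.orderOf_mk c h]; exact orderOf_dvd_natCard _) hZc.symm.dvd)
    have hcπ : π c ∈ Subgroup.zpowers (z : G ⧸ H) := by
      rw [map_pow, hc₀]; exact pow_mem (Subgroup.mem_zpowers _) _
    have hcK : c ∈ K := by
      have hzp : Subgroup.zpowers (z : G ⧸ H) ≤ Q := Subgroup.zpowers_le.mpr z.2
      obtain ⟨k, hk, hk'⟩ := hzp hcπ
      have : k⁻¹ * c ∈ H := (QuotientGroup.eq).mp hk'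
      simpa using K.mul_mem hk (hlt.le this)
    have hZimg : Z.map π = Subgroup.zpowers (z : G ⧸ H) := by
      refine Subgroup.eq_of_le_of_card_ge (by rw [MonoidHom.map_zpowers]; exact Subgroup.zpowers_le.mpr hcπ) ?_
      rw [MonoidHom.map_zpowers, Nat.card_zpowers, Nat.card_zpowers, Subgroup.orderOf_coe, hz]
      refine Nat.le_of_dvd (orderOf_pos _) ?_
      rcases (Nat.dvd_prime hr).mp (hco ▸ orderOf_map_dvd π c) with h | h
      · exact absurd ((QuotientGroup.eq_one_iff c).mp (orderOf_eq_one_iff.mp h)) hcH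
      · rw [h]
    -- every coset meets the normalizer
    have hfr : ∀ g : G, ∃ n ∈ H, n⁻¹ * g ∈ Subgroup.normalizer (Z : Set G) := by
      intro g
      have hle : Z.map (MulAut.conj g).toMonoidHom ≤ H ⊔ Z := by
        rintro _ ⟨x, hx, rfl⟩
        have h1 : π x ∈ Subgroup.zpowers (z : G ⧸ H) := hZimg ▸ ⟨x, hx, rfl⟩
        have h2 : π (g * x * g⁻¹) ∈ Z.map π := by
          rw [hZimg]
          obtain ⟨k, hk⟩ := h1
          rw [map_mul, map_mul, map_inv, ← hk]
          show MulAut.conj (π g) _ ∈ _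
          rw [map_zpow]
          exact zpow_mem (hzn _) k
        have h3 := Subgroup.mem_comap.mpr h2
        rw [Subgroup.comap_map_eq, hkerπ, sup_comm] at h3
        exact h3
      obtain ⟨n, hn, hnZ⟩ := Cfsg.Agent.Grp.exists_conj_of_le_sup (N := H) (H := Z)
        Subgroup.le_normalizer_of_normal hle
        (Subgroup.card_map_of_injective (MulAut.conj g).injective) hHZ (Or.inl (by infer_instance))
      refine ⟨n, hn, Cfsg.Agent.Grp.mem_normalizer_of_map_eq.mpr ?_⟩
      have h4 : (Z.map (MulAut.conj g).toMonoidHom) = Z.map (MulAut.conj n).toMonoidHom := by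
        rw [← hnZ]; rfl
      rw [map_mul, map_inv]
      show Z.map (((MulAut.conj n)⁻¹ : MulAut G).toMonoidHom.comp (MulAut.conj g).toMonoidHom) = Z
      rw [← Subgroup.map_map, h4, Subgroup.map_map]
      convert Subgroup.map_id Z
      ext x
      simp [mul_assoc]
    obtain ⟨t, ht⟩ := exists_prime_orderOf_dvd_card' (G := G ⧸ K) q hqT
    obtain ⟨g, rfl⟩ := QuotientGroup.mk_surjective t
    obtain ⟨n, hn, hgN⟩ := hfr g
    have hgo : orderOf (QuotientGroup.mk' K (n⁻¹ * g)) = q := by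
      rw [map_mul, show QuotientGroup.mk' K n⁻¹ = 1 from (QuotientGroup.eq_one_iff _).mpr (K.inv_mem (hlt.le hn)), one_mul]
      exact ht
    set y := (n⁻¹ * g) ^ (orderOf (n⁻¹ * g) / q)
    have hyo : orderOf y = q := orderOf_pow_orderOf_div (orderOf_pos _).ne' (hgo ▸ orderOf_map_dvd _ _)
    have hyN : y ∈ Subgroup.normalizer (Z : Set G) := pow_mem hgN _
    have hcent : ∀ u : G, u ∈ H → Commute c u → u = 1 := by
      intro u hu huc
      by_contra hu1
      exact hcH (Frob.centralizer_le_kernel hC hHk (k := (⟨u, hlt.le hu⟩ : K)) hu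
        (fun h => hu1 (congrArg Subtype.val h))
        (x := (⟨c, hcK⟩ : K)) (Subgroup.mem_centralizer_singleton_iff.mpr (Subtype.ext huc.eq)))
    have hconjZ : ∀ x ∈ Z, y * x * y⁻¹ ∈ Z := fun x hx => (Subgroup.mem_normalizer_iff.mp hyN x).mp hx
    have hyK : y ∉ K := by
      intro hy
      have hyH : y ∈ H := by
        refine (QuotientGroup.eq_one_iff y).mp (orderOf_eq_one_iff.mp ?_)
        refine ((Nat.dvd_prime hq).mp (hyo ▸ orderOf_map_dvd π y)).resolve_right fun h => ?_
        have h1 : q ∣ Nat.card Q := by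
          rw [← h]
          exact (Subgroup.orderOf_mk (π y) (show π y ∈ Q from ⟨y, hy, rfl⟩)).symm.dvd.trans (orderOf_dvd_natCard _)
        exact hq.one_lt.ne' (Nat.eq_one_of_dvd_coprimes hcopT h1 hqT)
      have h1 : y * c * y⁻¹ * c⁻¹ ∈ Z ⊓ H := by
        refine ⟨Z.mul_mem (hconjZ c (Subgroup.mem_zpowers c)) (Z.inv_mem (Subgroup.mem_zpowers c)), ?_⟩
        rw [show y * c * y⁻¹ * c⁻¹ = y * (c * y⁻¹ * c⁻¹) by group]
        exact H.mul_mem hyH ((inferInstance : H.Normal).conj_mem _ (H.inv_mem hyH) c)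
      rw [(Subgroup.inf_eq_bot_of_coprime hHZ.symm), Subgroup.mem_bot, mul_inv_eq_one, mul_inv_eq_iff_eq_mul] at h1
      have := hcent y hyH h1.symm
      exact hq.one_lt.ne' (by rw [← hyo, this, orderOf_one])
    -- a module
    obtain ⟨P⟩ := (inferInstance : Nonempty (Sylow p H))
    have hall : ∀ (r : ℕ) (_ : Fact r.Prime) (R : Sylow r H), (R : Subgroup H).Normal :=
      ((Group.isNilpotent_of_finite_tfae (G := H)).out 0 3).mp hHnil
    have hPn : (P : Subgroup H).Normal := hall p ‹_› P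
    have hPchar := P.characteristic_of_normal hPn
    set P₀ := (P : Subgroup H).map H.subtype with hP₀
    have hP₀n : P₀.Normal := ConjAct.normal_of_characteristic_of_normal
    set V := P₀ ⊓ Subgroup.centralizer (P₀ : Set G)
    have hPne : (P : Subgroup H) ≠ ⊥ := P.ne_bot_of_dvd_card hpH
    have hV : V ≠ ⊥ := by
      have h1 : Group.IsNilpotent (P : Subgroup H) := inferInstance
      have : Nontrivial (P : Subgroup H) := (Subgroup.nontrivial_iff_ne_bot _).mpr hPne
      intro hbot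
      refine Group.IsNilpotent.center_ne_bot (G := (P : Subgroup H)) ((Subgroup.eq_bot_iff_forall _).mpr fun w hw => ?_)
      have h2 : ((w : H) : G) ∈ V := by
        refine ⟨⟨(w : H), w.2, rfl⟩, Subgroup.mem_centralizer_iff.mpr ?_⟩
        rintro _ ⟨u, hu, rfl⟩
        exact congrArg (fun t : (P : Subgroup H) => ((t : H) : G)) (Subgroup.mem_center_iff.mp hw ⟨u, hu⟩)
      rw [hbot, Subgroup.mem_bot] at h2
      exact Subtype.ext (Subtype.ext h2)
    have hVn : V.Normal := inferInstance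
    have hVc : IsMulCommutative V := ⟨⟨fun a b => Subtype.ext (Subgroup.mem_centralizer_iff.mp b.2.2 a a.2.1)⟩⟩
    have hVH : V ≤ H := inf_le_left.trans (Subgroup.map_subtype_le _)
    obtain ⟨v, hv, hv1, hvy⟩ := Cfsg.Agent.Grp.Tower.exists_fixed hq.pos hVc hV
      (inferInstance : IsMulCommutative Z) (fun x _ v hv => hVn.conj_mem v hv x) (fun v hv => hVn.conj_mem v hv y)
      hconjZ (hyo ▸ pow_orderOf_eq_one y)
      (hHZ.symm.coprime_dvd_right (Subgroup.card_dvd_of_le hVH))
      (fun v hv hcom => hcent v (hVH hv) (hcom c (Subgroup.mem_zpowers c)))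
      (fun j hj hjq x hx hjx => by
        by_contra hx1
        have hyj : y ^ j ∈ K := by
          have h1 : π x ∈ Q := ⟨x, (Subgroup.zpowers_le.mpr hcK) hx, rfl⟩
          have h2 : π x ≠ 1 := fun h => by
            have : x ∈ Z ⊓ H := ⟨hx, (QuotientGroup.eq_one_iff x).mp h⟩
            rw [(Subgroup.inf_eq_bot_of_coprime hHZ.symm), Subgroup.mem_bot] at this
            exact hx1 this
          have h3 : π (y ^ j) ∈ Q := hfix _ h1 h2 (Subgroup.mem_centralizer_singleton_iff.mpr (by
            rw [← map_mul, ← map_mul, hjx]))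
          obtain ⟨k, hk, hk'⟩ := h3
          simpa using K.mul_mem hk (hlt.le ((QuotientGroup.eq).mp hk'))
        have hgcd : Nat.gcd j (orderOf y) = 1 := by
          rw [hyo]; exact ((Nat.Prime.coprime_iff_not_dvd hq).mpr (fun h => absurd (Nat.le_of_dvd hj h) (not_le.mpr hjq))).symm
        obtain ⟨m, hm⟩ := exists_pow_eq_self_of_coprime hgcd
        exact hyK (hm ▸ pow_mem hyj m))
    have hvP : v ∈ P₀ := hv.1
    obtain ⟨k, hk⟩ := IsPGroup.iff_orderOf.mp (P.2.map H.subtype) ⟨v, hvP⟩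
    rw [Subgroup.orderOf_mk] at hk
    rcases k with _ | k
    · exact absurd (orderOf_eq_one_iff.mp (hk.trans (pow_zero p))) hv1
    have hvo : orderOf (v ^ p ^ k) = p := by
      rw [orderOf_pow' _ (pow_pos hp.pos k).ne', hk, Nat.gcd_eq_right ⟨p, (pow_succ p k)⟩, pow_succ,
        Nat.mul_div_cancel_left _ (pow_pos hp.pos k)]
    refine ⟨v ^ p ^ k * y, ?_⟩
    rw [(Commute.pow_left (Commute.symm hvy) _).orderOf_mul_eq_mul_orderOf_of_coprime
      (by rw [hvo, hyo]; exact (Nat.coprime_primes hp hq).mpr hne), hvo, hyo]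
  intro p q hp hq hne hpd hqd
  rw [hQcard]
  constructor
  · rintro ⟨g, hg⟩
    have hgp : orderOf (g ^ q) = p := by
      rw [orderOf_pow' _ hq.ne_zero, hg, Nat.gcd_mul_left_left, Nat.mul_div_cancel _ hq.pos]
    have hgq : orderOf (g ^ p) = q := by
      rw [orderOf_pow' _ hp.ne_zero, hg, Nat.gcd_mul_right_left, Nat.mul_div_cancel_left _ hp.pos]
    have hcm : Commute (g ^ q) (g ^ p) := (Commute.refl g).pow_pow q p
    exact ⟨fun h => by_contra fun h' => hsep p q hp hq h h' _ _ hgp hgq hcm,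
      fun h => by_contra fun h' => hsep q p hq hp h h' _ _ hgq hgp hcm.symm⟩
  · intro hiff
    by_cases hpQ : p ∣ Nat.card Q
    · obtain ⟨g, hg⟩ := Cfsg.Agent.Grp.Tower.exists_orderOf_mul_of_nilpotent hQnil hp hq hne hpQ (hiff.mp hpQ)
      obtain ⟨g', hg'⟩ := hπs (g : G ⧸ H)
      exact hpull π p q g' (by rw [hg', Subgroup.orderOf_coe, hg])
    · rcases hcardG p hp hpd hpQ with h1 | h1 <;> rcases hcardG q hq hqd (fun h => hpQ (hiff.mpr h)) with h2 | h2
      · obtain ⟨g, hg⟩ := Cfsg.Agent.Grp.Tower.exists_orderOf_mul_of_nilpotent hHnil hp hq hne h1 h2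
        exact ⟨g, by rw [Subgroup.orderOf_coe, hg]⟩
      · exact hmixed p q hp hq hne h1 h2
      · obtain ⟨g, hg⟩ := hmixed q p hq hp hne.symm h2 h1
        exact ⟨g, by rw [hg, mul_comm]⟩
      · obtain ⟨t, ht⟩ := hcycT.exists_generator
        have ho : orderOf t = Nat.card (G ⧸ K) := orderOf_eq_card_of_forall_mem_zpowers ht
        obtain ⟨g, rfl⟩ := QuotientGroup.mk_surjective t
        have hd : p * q ∣ orderOf g := by
          refine ((Nat.coprime_primes hp hq).mpr hne).mul_dvd_of_dvd_of_dvd h1 h2 |>.trans ?_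
          rw [← ho]
          exact orderOf_map_dvd (QuotientGroup.mk' K) g
        exact ⟨_, orderOf_pow_orderOf_div (orderOf_pos g).ne' hd⟩

end Cfsg.Agent.S4001
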