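import Cfsg.Statements.S4002
import Cfsg.Agent.Lib.Grp.SolvableThreePrimes


set_option autoImplicit false
open Cfsg

namespace Cfsg.Agent.S4002

/-- If the set of element orders of a finite group G is {1, 2, …, n} with n ≥ 7, then G is not solvable. -/
theorem result {G : Type*} [Group G] [Finite G] (n : ℕ) (hn : 7 ≤ n) (h : Set.range (orderOf : G → ℕ) = {k : ℕ | 1 ≤ k ∧ k ≤ n}) : ¬ Group.IsSolvable G := by
  intro hsol
  have hord : ∀ g : G, orderOf g ≤ n := fun g => ((Set.ext_iff.mp h (orderOf g)).mp ⟨g, rfl⟩).2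
  have hdvd : ∀ k, 1 ≤ k → k ≤ n → k ∣ Nat.card G := fun k h1 h2 => by
    obtain ⟨g, hg⟩ := (Set.ext_iff.mp h k).mpr ⟨h1, h2⟩
    exact hg ▸ orderOf_dvd_natCard g
  have main : ∀ p q r : ℕ, p.Prime → q.Prime → r.Prime → p ≤ n → q ≤ n → r ≤ n → p ≠ q → p ≠ r → q ≠ r →
      n < p * q → n < p * r → n < q * r → False := by
    intro p q r hp hq hr hpn hqn hrn hpq hpr hqr h1 h2 h3
    rcases Cfsg.Agent.Grp.ThreePrimes.exists_edge hp hq hr hpq hpr hqr (hdvd p hp.one_lt.le hpn)
      (hdvd q hq.one_lt.le hqn) (hdvd r hr.one_lt.le hrn) with ⟨g, hg⟩ | ⟨g, hg⟩ | ⟨g, hg⟩ <;>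
      · have := hord g; omega
  rcases lt_or_ge n 10 with h10 | h10
  · exact main 2 5 7 Nat.prime_two Nat.prime_five (by norm_num) (by omega) (by omega) (by omega) (by omega) (by omega) (by omega) (by omega) (by omega) (by omega)
  rcases lt_or_ge n 11 with h11 | h11
  · exact main 3 5 7 Nat.prime_three Nat.prime_five (by norm_num) (by omega) (by omega) (by omega) (by omega) (by omega) (by omega) (by omega) (by omega) (by omega)
  rcases lt_or_ge n 17 with h17 | h17
  · exact main 5 7 11 Nat.prime_five (by norm_num) (by norm_num) (by omega) (by omega) (by omega) (by omega) (by omega) (by omega) (by omega) (by omega) (by omega)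
  rcases lt_or_ge n 64 with h64 | h64
  · exact main 11 13 17 (by norm_num) (by norm_num) (by norm_num) (by omega) (by omega) (by omega) (by omega) (by omega) (by omega) (by omega) (by omega) (by omega)
  set m := Nat.sqrt n with hm
  have hm1 : m * m ≤ n := Nat.sqrt_le n
  have hm2 : n < (m + 1) * (m + 1) := Nat.lt_succ_sqrt n
  have hm8 : 8 ≤ m := Nat.le_sqrt.mpr h64
  obtain ⟨p, hp, hp1, hp2⟩ := Nat.exists_prime_lt_and_le_two_mul m (by omega)
  obtain ⟨q, hq, hq1, hq2⟩ := Nat.exists_prime_lt_and_le_two_mul (2 * m) (by omega)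
  obtain ⟨r, hr, hr1, hr2⟩ := Nat.exists_prime_lt_and_le_two_mul (4 * m) (by omega)
  have h8 : 8 * m ≤ n := le_trans (Nat.mul_le_mul_right m hm8) hm1
  exact main p q r hp hq hr (by omega) (by omega) (by omega) (by omega) (by omega) (by omega)
    (lt_of_lt_of_le hm2 (Nat.mul_le_mul (by omega) (by omega))) (lt_of_lt_of_le hm2 (Nat.mul_le_mul (by omega) (by omega)))
    (lt_of_lt_of_le hm2 (Nat.mul_le_mul (by omega) (by omega)))

end Cfsg.Agent.S4002
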