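import Cfsg.Statements.S4003
import Mathlib
import Cfsg.Agent.Lib.Grp.CountCyclic


set_option autoImplicit false
open Cfsg

namespace Cfsg.Agent.S4003

/-- Let G be a finite group, p an odd prime dividing the order of G whose Sylow p-subgroups are not cyclic, and n = p^s·m with s > 1 and m coprime to p. Then the number of elements of G of order n is a multiple of p^s. -/
theorem result {G : Type*} [Group G] [Finite G] (p : ℕ) [Fact p.Prime] (hodd : p ≠ 2) (hpG : p ∣ Nat.card G)
    (P : Sylow p G) (hP : ¬ IsCyclic ↥(P : Subgroup G)) (s m : ℕ) (hs : 1 < s) (hm : Nat.Coprime p m) :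
    p ^ s ∣ Nat.card {g : G // orderOf g = p ^ s * m} := by
  classical
  haveI := Fintype.ofFinite G
  have hp := (Fact.out : p.Prime)
  have hm0 : m ≠ 0 := fun h => by
    rw [h, Nat.coprime_zero_right] at hm
    exact hp.ne_one hm
  have hcop : Nat.Coprime (p ^ s) m := hm.pow_left s
  set a : G → ℕ := fun v => Nat.card {u : Subgroup.centralizer ({v} : Set G) | orderOf u = p ^ s} with ha
  let Φ : (Σ v : {v : G // orderOf v = m}, {u : Subgroup.centralizer ({(v : G)} : Set G) | orderOf u = p ^ s}) →
      {g : G // orderOf g = p ^ s * m} := fun x => ⟨(x.2.1 : G) * (x.1 : G), by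
    have hc : Commute (x.2.1 : G) (x.1 : G) :=
      (Subgroup.mem_centralizer_iff.mp x.2.1.2 _ rfl).symm
    have h1 : orderOf (x.2.1 : G) = p ^ s := (Subgroup.orderOf_coe _).trans x.2.2
    rw [hc.orderOf_mul_eq_mul_orderOf_of_coprime (by rw [h1, x.1.2]; exact hcop), h1, x.1.2]⟩
  have hΦ : Function.Bijective Φ := by
    constructor
    · rintro ⟨⟨v, hv⟩, ⟨u, hu⟩⟩ ⟨⟨v', hv'⟩, ⟨u', hu'⟩⟩ he
      have he' : (u : G) * v = (u' : G) * v' := congrArg Subtype.val he
      have h1 : orderOf (u : G) = p ^ s := (Subgroup.orderOf_coe _).trans hu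
      have h2 : orderOf (u' : G) = p ^ s := (Subgroup.orderOf_coe _).trans hu'
      have hc : Commute (u : G) v := (Subgroup.mem_centralizer_iff.mp u.2 _ rfl).symm
      have hc' : Commute (u' : G) v' := (Subgroup.mem_centralizer_iff.mp u'.2 _ rfl).symm
      have hpow : (u : G) ^ m = (u' : G) ^ m := by
        have := congrArg (· ^ m) he'
        simp only [hc.mul_pow, hc'.mul_pow] at this
        rwa [← hv, pow_orderOf_eq_one v, mul_one, hv, ← hv', pow_orderOf_eq_one v', mul_one, hv'] at this
      obtain ⟨j, hj⟩ := Nat.exists_mul_mod_eq_one_of_coprime hcop.symm (Nat.one_lt_pow (by omega) hp.one_lt)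
      have huu : (u : G) = u' := by
        have e : ∀ w : G, orderOf w = p ^ s → (w ^ m) ^ j = w := fun w hw => by
          rw [← pow_mul, ← pow_mod_orderOf, hw, hj.2, pow_one]
        rw [← e _ h1, ← e _ h2, hpow]
      obtain rfl : v = v' := mul_left_cancel (by rw [huu] at he'; exact he' : (u' : G) * v = (u' : G) * v')
      obtain rfl : u = u' := Subtype.ext huu
      rfl
    · rintro ⟨g, hg⟩
      set e1 : ℤ := ((p ^ s : ℕ) : ℤ) * Nat.gcdA (p ^ s) m
      set e2 : ℤ := (m : ℤ) * Nat.gcdB (p ^ s) m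
      have he : e1 + e2 = 1 := by
        rw [← Nat.gcd_eq_gcd_ab, hcop.gcd_eq_one, Nat.cast_one]
      have hne : g ^ e1 * g ^ e2 = g := by rw [← zpow_add, he, zpow_one]
      have hc : Commute (g ^ e2) (g ^ e1) := (Commute.refl g).zpow_zpow e2 e1
      have hd1 : orderOf (g ^ e1) ∣ m := orderOf_dvd_of_pow_eq_one <| by
        rw [← zpow_natCast, ← zpow_mul, show e1 * (m : ℤ) = ((p ^ s * m : ℕ) : ℤ) * Nat.gcdA (p ^ s) m by
          simp only [e1, e2]; push_cast; ring, zpow_mul, zpow_natCast, ← hg, pow_orderOf_eq_one, one_zpow]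
      have hd2 : orderOf (g ^ e2) ∣ p ^ s := orderOf_dvd_of_pow_eq_one <| by
        rw [← zpow_natCast, ← zpow_mul,
          show e2 * ((p ^ s : ℕ) : ℤ) = ((p ^ s * m : ℕ) : ℤ) * Nat.gcdB (p ^ s) m by
          simp only [e1, e2]; push_cast; ring, zpow_mul, zpow_natCast, ← hg, pow_orderOf_eq_one, one_zpow]
      have hprod : orderOf (g ^ e2) * orderOf (g ^ e1) = p ^ s * m := by
        rw [← hc.orderOf_mul_eq_mul_orderOf_of_coprime (hcop.coprime_dvd_left hd2 |>.coprime_dvd_right hd1),
          ← hg, ← zpow_add, add_comm, he, zpow_one]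
      have ho1 : orderOf (g ^ e1) = m := by
        refine Nat.dvd_antisymm hd1 ?_
        have h1 : m ∣ orderOf (g ^ e2) * orderOf (g ^ e1) := hprod ▸ dvd_mul_left _ _
        exact ((hcop.coprime_dvd_left hd2).symm).dvd_of_dvd_mul_left h1
      have ho2 : orderOf (g ^ e2) = p ^ s :=
        Nat.eq_of_mul_eq_mul_right (Nat.pos_of_ne_zero hm0) (by rwa [ho1] at hprod)
      refine ⟨⟨⟨g ^ e1, ho1⟩, ⟨⟨g ^ e2, Subgroup.mem_centralizer_iff.mpr fun w hw => ?_⟩,
        (Subgroup.orderOf_coe _).symm.trans ho2⟩⟩, Subtype.ext ?_⟩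
      · rw [Set.mem_singleton_iff.mp hw]; exact hc.eq.symm
      · show g ^ e2 * g ^ e1 = g
        rw [hc.eq, hne]
  rw [← Nat.card_congr (Equiv.ofBijective Φ hΦ), Nat.card_sigma]
  show p ^ s ∣ ∑ v : {v : G // orderOf v = m}, a (v : G)
  rw [← Finset.sum_fiberwise (s := Finset.univ) (g := fun v : {v : G // orderOf v = m} => ConjClasses.mk (v : G))]
  refine Finset.dvd_sum fun K _ => ?_
  by_cases hK : ∃ v : {v : G // orderOf v = m}, ConjClasses.mk (v : G) = K
  swap
  · rw [Finset.sum_eq_zero fun v hv => absurd ⟨v, (Finset.mem_filter.mp hv).2⟩ hK]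
    exact dvd_zero _
  obtain ⟨⟨v₀, hv₀⟩, rfl⟩ := hK
  have hconj : ∀ g w : G, a (g * w * g⁻¹) = a w := by
    intro g w
    refine (Nat.card_congr ?_).symm
    have hmem : ∀ u : G, u ∈ Subgroup.centralizer ({w} : Set G) ↔
        g * u * g⁻¹ ∈ Subgroup.centralizer ({g * w * g⁻¹} : Set G) := by
      intro u
      simp only [Subgroup.mem_centralizer_iff, Set.mem_singleton_iff, forall_eq]
      constructor
      · intro h
        calc g * w * g⁻¹ * (g * u * g⁻¹) = g * (w * u) * g⁻¹ := by group
          _ = g * (u * w) * g⁻¹ := by rw [h]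
          _ = _ := by group
      · intro h
        have : g * (w * u) * g⁻¹ = g * (u * w) * g⁻¹ := by
          calc g * (w * u) * g⁻¹ = g * w * g⁻¹ * (g * u * g⁻¹) := by group
            _ = _ := h
            _ = g * (u * w) * g⁻¹ := by group
        exact mul_left_cancel (mul_right_cancel this)
    exact (((MulAut.conj g).toEquiv.subtypeEquiv hmem)).subtypeEquiv fun u => by
      show orderOf u = p ^ s ↔ orderOf _ = p ^ s
      rw [← Subgroup.orderOf_coe u, ← Subgroup.orderOf_coe]
      exact Eq.congr_left (orderOf_injective (MulAut.conj g).toMonoidHom (MulAut.conj g).injective _).symm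
  have hsum : (∑ v ∈ Finset.univ.filter (fun v : {v : G // orderOf v = m} =>
      ConjClasses.mk (v : G) = ConjClasses.mk v₀), a (v : G)) =
      (Subgroup.centralizer ({v₀} : Set G)).index * a v₀ := by
    have hc : (Finset.univ.filter fun v : {v : G // orderOf v = m} =>
        ConjClasses.mk (v : G) = ConjClasses.mk v₀).card = (Subgroup.centralizer ({v₀} : Set G)).index := by
      have hi : (Subgroup.centralizer ({v₀} : Set G)).index = (MulAction.stabilizer (ConjAct G) v₀).index := by
        have h1 := (Subgroup.centralizer ({v₀} : Set G)).card_mul_index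
        rw [Subgroup.nat_card_centralizer_nat_card_stabilizer,
          ← Nat.card_congr (ConjAct.toConjAct (G := G)).symm.toEquiv,
          ← (MulAction.stabilizer (ConjAct G) v₀).card_mul_index] at h1
        exact Nat.eq_of_mul_eq_mul_left Nat.card_pos h1
      rw [hi, MulAction.index_stabilizer, ← Nat.card_coe_set_eq,
        ← Fintype.card_subtype, ← Nat.card_eq_fintype_card]
      refine Nat.card_congr
        { toFun := fun v => ⟨v.1.1, ?_⟩
          invFun := fun w => ⟨⟨w.1, ?_⟩, ?_⟩
          left_inv := fun _ => rfl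
          right_inv := fun _ => rfl }
      · exact ConjAct.mem_orbit_conjAct.mpr (ConjClasses.mk_eq_mk_iff_isConj.mp v.2)
      · obtain ⟨c, hc⟩ := isConj_iff.mp (ConjAct.mem_orbit_conjAct.mp w.2)
        rw [← orderOf_injective (MulAut.conj c).toMonoidHom (MulAut.conj c).injective w.1]
        show orderOf (c * w.1 * c⁻¹) = m
        rw [hc]
        exact hv₀
      · exact ConjClasses.mk_eq_mk_iff_isConj.mpr (ConjAct.mem_orbit_conjAct.mp w.2)
    rw [← hc, Finset.sum_congr rfl (g := fun _ => a v₀), Finset.sum_const, smul_eq_mul]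
    intro v hv
    obtain ⟨c, hc'⟩ := isConj_iff.mp (ConjClasses.mk_eq_mk_iff_isConj.mp (Finset.mem_filter.mp hv).2)
    rw [← hc', hconj]
  rw [hsum]
  set C := Subgroup.centralizer ({v₀} : Set G)
  obtain ⟨Q⟩ : Nonempty (Sylow p C) := inferInstance
  by_cases hQ : IsCyclic (Q : Subgroup C)
  · have hidx : p ∣ C.index := by
      by_contra h
      apply hP
      have hfac : (Nat.card G).factorization p = (Nat.card C).factorization p := by
        rw [← C.card_mul_index, Nat.factorization_mul Nat.card_pos.ne' Subgroup.index_ne_zero_of_finite,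
          Finsupp.add_apply, Nat.factorization_eq_zero_of_not_dvd h, add_zero]
      obtain ⟨S, hS⟩ : ∃ S : Sylow p G, (S : Subgroup G) = (Q : Subgroup C).map C.subtype :=
        ⟨Sylow.ofCard ((Q : Subgroup C).map C.subtype) (by
          rw [Subgroup.card_map_of_injective C.subtype_injective, Q.card_eq_multiplicity, hfac]), rfl⟩
      refine (P.equiv S).isCyclic.mpr ?_
      rw [hS]
      exact ((Subgroup.equivMapOfInjective _ _ C.subtype_injective).isCyclic).mp hQ
    have hdvd : p ^ (s - 1) ∣ a v₀ := by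
      refine Cfsg.Agent.Grp.CountCyclic.dvd_card_of_genClosed _ _ (fun x hx y hy => ?_) (fun x hx => ?_)
      · show orderOf y = p ^ s
        rw [← Nat.card_zpowers, hy, Nat.card_zpowers]
        exact hx
      · rw [show orderOf x = p ^ s from hx]
        exact Cfsg.Agent.Grp.CountCyclic.dvd_totient_prime_pow le_rfl
    have := mul_dvd_mul hidx hdvd
    rwa [← pow_succ', show s - 1 + 1 = s by omega] at this
  · exact dvd_mul_of_dvd_right (Cfsg.Agent.Grp.CountCyclic.noncyclic_count hodd Q hQ (by omega)) _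

end Cfsg.Agent.S4003
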