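import Cfsg.Statements.S4004
import Mathlib
import Cfsg.Agent.Lib.Grp.ThreeCountsTwo

set_option autoImplicit false
open Cfsg

namespace Cfsg.Agent.S4004

/-- Let G be a finite group of odd order in which the numbers of elements of each order that occurs (the numbers #{g : o(g) = m}, m ranging over the element orders of G) take exactly three different values. Then the order of G has at most two prime divisors; and if it has exactly two, then every Sylow subgroup of G for a prime dividing its order has prime exponent, G is a Frobenius group, and some Frobenius complement of G has prime order. -/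
theorem result {G : Type*} [Group G] [Finite G] (hodd : Odd (Nat.card G)) (h : (((fun m : ℕ => Nat.card {g : G // orderOf g = m}) '' Set.range (orderOf : G → ℕ))).ncard = 3) :
    (Nat.card G).primeFactors.card ≤ 2 ∧
      ((Nat.card G).primeFactors.card = 2 →
        (∀ (p : ℕ) [Fact p.Prime] (P : Sylow p G), p ∣ Nat.card G → Monoid.exponent ↥(P : Subgroup G) = p) ∧
        ∃ C : Subgroup G, Cfsg.IsFrobeniusComplement C ∧ (Nat.card ↥C).Prime) := by
  classical
  obtain ⟨x, y, z, hxy, hxz, hyz, hs⟩ := Set.ncard_eq_three.mp h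
  have hmem : ∀ g : G, Cfsg.Agent.Grp.TwoCounts.cnt G (orderOf g) ∈ ({x, y, z} : Set ℕ) := fun g => by
    rw [← hs]; exact ⟨orderOf g, ⟨g, rfl⟩, rfl⟩
  have hne1 : ∀ g : G, g ≠ 1 → 2 ≤ Cfsg.Agent.Grp.TwoCounts.cnt G (orderOf g) := by
    intro g hg
    have h1 := Cfsg.Agent.Grp.TwoCounts.totient_dvd_cnt (G := G) (orderOf g)
    have h3 : 2 < orderOf g := by
      have := orderOf_pos g
      rcases (show orderOf g = 1 ∨ orderOf g = 2 ∨ 2 < orderOf g by omega) with e | e | e
      · exact absurd (orderOf_eq_one_iff.mp e) hg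
      · obtain ⟨k, hk⟩ := hodd
        obtain ⟨j, hj⟩ := e ▸ orderOf_dvd_natCard g
        omega
      · exact e
    refine Nat.le_of_dvd (Nat.pos_of_ne_zero (Cfsg.Agent.Grp.ThreeCounts.cnt_ne_zero.mpr ⟨g, rfl⟩))
      (dvd_trans ?_ h1)
    exact even_iff_two_dvd.mp (Nat.totient_even h3)
  obtain ⟨a, b, ha, hb, hab, hV⟩ : ∃ a b, 2 ≤ a ∧ 2 ≤ b ∧ a ≠ b ∧
      ∀ g : G, g ≠ 1 → Cfsg.Agent.Grp.TwoCounts.cnt G (orderOf g) = a ∨ Cfsg.Agent.Grp.TwoCounts.cnt G (orderOf g) = b := by
    have h1 : (1 : ℕ) ∈ ({x, y, z} : Set ℕ) := by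
      have := hmem 1
      rwa [orderOf_one, Cfsg.Agent.Grp.TwoCounts.cnt_one] at this
    have key : ∀ a b : ℕ, a ≠ 1 → b ≠ 1 → a ≠ b → (({x, y, z} : Set ℕ) = {1, a, b}) → ∃ a b, 2 ≤ a ∧ 2 ≤ b ∧ a ≠ b ∧
        ∀ g : G, g ≠ 1 → Cfsg.Agent.Grp.TwoCounts.cnt G (orderOf g) = a ∨ Cfsg.Agent.Grp.TwoCounts.cnt G (orderOf g) = b := by
      intro a b ha hb hab e
      have hge : ∀ c, c ≠ 1 → c ∈ ({x, y, z} : Set ℕ) → 2 ≤ c := by
        intro c hc hcm
        rw [← hs] at hcm
        obtain ⟨m, ⟨g, rfl⟩, rfl⟩ := hcm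
        refine hne1 g fun e1 => hc ?_
        show Cfsg.Agent.Grp.TwoCounts.cnt G (orderOf g) = 1
        rw [e1, orderOf_one, Cfsg.Agent.Grp.TwoCounts.cnt_one]
      refine ⟨a, b, hge a ha (by rw [e]; simp), hge b hb (by rw [e]; simp), hab, fun g hg => ?_⟩
      have := hmem g
      rw [e] at this
      have h2 := hne1 g hg
      rcases this with e' | e' | e'
      · omega
      · exact Or.inl e'
      · exact Or.inr e'
    rcases h1 with e | e | e
    · subst e; exact key y z hxy.symm hxz.symm hyz rfl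
    · subst e; exact key x z hxy hyz.symm hxz (Set.insert_comm _ _ _)
    · have e' : z = 1 := e.symm
      subst e'
      exact key x y hxz hyz hxy (by ext k; simp; tauto)
  exact ⟨Cfsg.Agent.Grp.ThreeCounts.card_primeFactors_le hodd ha hb hab hV,
    fun h2 => Cfsg.Agent.Grp.ThreeCounts.two_primes hodd ha hb hab hV h2⟩

end Cfsg.Agent.S4004
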