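import Cfsg.Statements.S4005
import Mathlib
import Cfsg.Agent.Lib.Grp.Solvable
import Cfsg.Agent.Lib.Grp.Cores
import Cfsg.Agent.S0144
-- import your own Cfsg.Agent.* helpers here

set_option autoImplicit false
open Cfsg

namespace Cfsg.Agent.S4005

set_option linter.style.haveILetI false

universe w

variable {G : Type w} [Group G] [Finite G]

theorem main (h : Set.range (orderOf : G → ℕ) = {k : ℕ | 1 ≤ k ∧ k ≤ 3}) :
    (∃ N : Subgroup G, N.Normal ∧ IsElementaryAbelian 3 N ∧ N.index = 2) ∨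
      (∃ N : Subgroup G, N.Normal ∧ IsElementaryAbelian 2 N ∧ N.index = 3) := by
  have hord : ∀ x : G, 1 ≤ orderOf x ∧ orderOf x ≤ 3 := fun x => h.le ⟨x, rfl⟩
  obtain ⟨s, hs⟩ := h.ge (show (2 : ℕ) ∈ {k : ℕ | 1 ≤ k ∧ k ≤ 3} from ⟨by omega, by omega⟩)
  obtain ⟨r, hr⟩ := h.ge (show (3 : ℕ) ∈ {k : ℕ | 1 ≤ k ∧ k ≤ 3} from ⟨by omega, by omega⟩)
  have hs1 : s ≠ 1 := by rintro rfl; simp at hs
  have hs2 : s ^ 2 = 1 := hs ▸ pow_orderOf_eq_one s
  have hr1 : r ≠ 1 := by rintro rfl; simp at hr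
  have hr3 : r ^ 3 = 1 := hr ▸ pow_orderOf_eq_one r
  have hsix : ∀ x y : G, x ^ 2 = 1 → x ≠ 1 → y ^ 3 = 1 → y ≠ 1 → ¬ Commute x y := by
    intro x y hx hx1 hy hy1 hc
    haveI := Fact.mk Nat.prime_two
    haveI := Fact.mk Nat.prime_three
    have h1 := hc.orderOf_mul_eq_mul_orderOf_of_coprime
      (by rw [orderOf_eq_prime hx hx1, orderOf_eq_prime hy hy1]; norm_num)
    rw [orderOf_eq_prime hx hx1, orderOf_eq_prime hy hy1] at h1
    have := (hord (x * y)).2
    omega
  have h23 : ∀ q : ℕ, q.Prime → q ∣ Nat.card G → q = 2 ∨ q = 3 := by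
    intro q hq hd
    haveI := Fact.mk hq
    obtain ⟨x, hx⟩ := exists_prime_orderOf_dvd_card' q hd
    have := (hord x).2
    have := hq.two_le
    omega
  have hexp : ∀ (q : ℕ) [Fact q.Prime], (q = 2 ∨ q = 3) → ∀ (P : Sylow q G), ∀ x ∈ (P : Subgroup G), x ^ q = 1 := by
    intro q hq hq23 P x hx
    obtain ⟨k, hk⟩ := IsPGroup.iff_orderOf.1 P.isPGroup' ⟨x, hx⟩
    rw [Subgroup.orderOf_mk] at hk
    have h3 := (hord x).2
    refine orderOf_dvd_iff_pow_eq_one.1 ?_
    rw [hk]
    refine (Nat.dvd_prime_pow hq.out).2 ⟨k, ?_, rfl⟩ |>.trans (pow_one q).dvd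
    by_contra hk1
    have : q ^ 2 ≤ q ^ k := Nat.pow_le_pow_right hq.out.pos (by omega)
    rcases hq23 with rfl | rfl <;> omega
  -- cardinality and solvability
  have hcard : Nat.card G = 2 ^ (Nat.card G).factorization 2 * 3 ^ (Nat.card G).factorization 3 := by
    refine Nat.eq_of_factorization_eq Nat.card_pos.ne' (by positivity) fun q => ?_
    rw [Nat.factorization_mul (by positivity) (by positivity), Nat.Prime.factorization_pow Nat.prime_two,
      Nat.Prime.factorization_pow Nat.prime_three]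
    by_cases h2 : q = 2
    · subst h2; simp
    by_cases h3 : q = 3
    · subst h3; simp
    rw [Finsupp.add_apply, Finsupp.single_apply, Finsupp.single_apply, if_neg (Ne.symm h2),
      if_neg (Ne.symm h3)]
    by_cases hq : q.Prime
    · exact Nat.factorization_eq_zero_of_not_dvd fun hd => by rcases h23 q hq hd <;> contradiction
    · exact Nat.factorization_eq_zero_of_not_prime _ hq
  haveI : Group.IsSolvable G := S0144.result 2 3 _ _ Nat.prime_two Nat.prime_three hcard
  haveI : Nontrivial G := ⟨⟨s, 1, hs1⟩⟩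
  obtain ⟨N, ⟨hNn, hNb⟩, hmin⟩ := Set.exists_min_image {N : Subgroup G | N.Normal ∧ N ≠ ⊥}
    (fun N => Nat.card N) (Set.toFinite _) ⟨⊤, inferInstance, top_ne_bot⟩
  haveI := hNn
  have hmin' : ∀ M : Subgroup G, M.Normal → M ≤ N → M = ⊥ ∨ M = N := fun M hM hle =>
    or_iff_not_imp_left.2 fun hb => Subgroup.eq_of_le_of_card_ge hle (hmin M ⟨hM, hb⟩)
  obtain ⟨hab, p, hp, hNexp⟩ := Grp.minimal_normal_solvable inferInstance hNb hmin'
  obtain ⟨u, huN, hu1⟩ : ∃ u ∈ N, u ≠ 1 := by
    by_contra hc; push Not at hc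
    exact hNb ((Subgroup.eq_bot_iff_forall N).2 hc)
  have hcomm : ∀ a ∈ N, ∀ b ∈ N, Commute a b := fun a ha b hb =>
    congrArg Subtype.val (mul_comm' (⟨a, ha⟩ : N) ⟨b, hb⟩)
  haveI := Fact.mk hp
  have hp23 : p = 2 ∨ p = 3 := by
    refine h23 p hp ?_
    have h1 : orderOf u = p := orderOf_eq_prime (hNexp u huN) hu1
    rw [← h1]; exact orderOf_dvd_natCard u
  haveI := Fact.mk Nat.prime_two
  haveI := Fact.mk Nat.prime_three
  obtain ⟨P2⟩ : Nonempty (Sylow 2 G) := Sylow.nonempty
  obtain ⟨P3⟩ : Nonempty (Sylow 3 G) := Sylow.nonempty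
  rcases hp23 with rfl | rfl
  · right
    -- order three elements act fixed point freely on N
    have hN3 : ∀ x : G, x ^ 3 = 1 → x ≠ 1 → ∀ n ∈ N, n * (x * n * x⁻¹) * (x ^ 2 * n * (x ^ 2)⁻¹) = 1 := by
      intro x hx hx1 n hn
      by_contra hne
      have hm1 := hNn.conj_mem n hn x
      have hm2 := hNn.conj_mem n hn (x ^ 2)
      refine hsix _ x (hNexp _ (mul_mem (mul_mem hn hm1) hm2)) hne hx hx1 (Commute.symm ?_)
      have e : x * (n * (x * n * x⁻¹) * (x ^ 2 * n * (x ^ 2)⁻¹)) * x⁻¹ =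
          (x * n * x⁻¹) * (x ^ 2 * n * (x ^ 2)⁻¹) * (x ^ 3 * n * (x ^ 3)⁻¹) := by group
      rw [hx, one_mul, inv_one, mul_one, mul_assoc (x * n * x⁻¹), (hcomm _ hm2 _ hn).eq,
        ← mul_assoc (x * n * x⁻¹), (hcomm _ hm1 _ hn).eq] at e
      exact mul_inv_eq_iff_eq_mul.1 e
    have hdep : ∀ x y : G, x ^ 3 = 1 → x ≠ 1 → y ^ 3 = 1 → Commute x y →
        y = 1 ∨ y = x ∨ y = x ^ 2 := by
      intro x y hx hx1 hy hc
      by_contra hne
      push Not at hne
      obtain ⟨hy1, hyx, hyx2⟩ := hne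
      have hxy : (x * y) ^ 3 = 1 := by rw [hc.mul_pow, hx, hy, one_mul]
      have hxy1 : x * y ≠ 1 := fun e => hyx2 (by
        calc y = x ^ 3 * y := by rw [hx, one_mul]
          _ = x ^ 2 * (x * y) := by group
          _ = x ^ 2 := by rw [e, mul_one])
      have hx2y : (x ^ 2 * y) ^ 3 = 1 := by
        rw [(hc.pow_left 2).mul_pow, ← pow_mul, mul_comm, pow_mul, hx, one_pow, hy, one_mul]
      have hx2y1 : x ^ 2 * y ≠ 1 := fun e => hyx (by
        calc y = x ^ 3 * y := by rw [hx, one_mul]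
          _ = x * (x ^ 2 * y) := by group
          _ = x := by rw [e, mul_one])
      let φ : G → N := fun g => ⟨g * u * g⁻¹, hNn.conj_mem u huN g⟩
      letI : CommGroup N := { (inferInstance : Group N) with mul_comm := fun a b => mul_comm' a b }
      have key : ∀ g z : G, z ^ 3 = 1 → z ≠ 1 → φ g * φ (z * g) * φ (z ^ 2 * g) = 1 := by
        intro g z hz hz1
        refine Subtype.ext ?_
        change g * u * g⁻¹ * (z * g * u * (z * g)⁻¹) * (z ^ 2 * g * u * (z ^ 2 * g)⁻¹) = 1
        have := hN3 z hz hz1 _ (hNn.conj_mem u huN g)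
        simpa [mul_assoc] using this
      have e1 := key 1 x hx hx1
      have e2 := key 1 y hy hy1
      have e3 := key 1 (x * y) hxy hxy1
      have e4 := key 1 (x ^ 2 * y) hx2y hx2y1
      have e5 := key y x hx hx1
      have e6 := key (y ^ 2) x hx hx1
      simp only [mul_one] at e1 e2 e3 e4
      have hxy2 : (x * y) ^ 2 = x ^ 2 * y ^ 2 := hc.mul_pow 2
      have hx2y2 : (x ^ 2 * y) ^ 2 = x * y ^ 2 := by
        rw [(hc.pow_left 2).mul_pow, ← pow_mul, show 2 * 2 = 3 + 1 from rfl, pow_add, hx, one_mul, pow_one]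
      rw [hxy2] at e3
      rw [hx2y2] at e4
      have hu0 : φ 1 * φ 1 = 1 := Subtype.ext (by
        change 1 * u * 1⁻¹ * (1 * u * 1⁻¹) = 1
        simp [← pow_two, hNexp u huN])
      have h1 : φ 1 = (φ 1 * φ x * φ (x ^ 2)) * (φ 1 * φ y * φ (y ^ 2)) *
          (φ 1 * φ (x * y) * φ (x ^ 2 * y ^ 2)) * (φ 1 * φ (x ^ 2 * y) * φ (x * y ^ 2)) *
          ((φ 1 * φ x * φ (x ^ 2)) * (φ y * φ (x * y) * φ (x ^ 2 * y)) *
          (φ (y ^ 2) * φ (x * y ^ 2) * φ (x ^ 2 * y ^ 2)))⁻¹ * (φ 1 * φ 1)⁻¹ := by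
        generalize φ 1 = n, φ x = a, φ (x ^ 2) = b, φ y = c, φ (y ^ 2) = d, φ (x * y) = e,
          φ (x ^ 2 * y ^ 2) = f, φ (x ^ 2 * y) = g, φ (x * y ^ 2) = k
        apply eq_mul_inv_of_mul_eq
        apply eq_mul_inv_of_mul_eq
        ac_rfl
      rw [e1, e2, e3, e4, e5, e6, hu0] at h1
      simp only [mul_one, inv_one] at h1
      have h2 := congrArg Subtype.val h1
      change 1 * u * 1⁻¹ = 1 at h2
      exact hu1 (by simpa using h2)
    -- Sylow 3 has order 3
    have hP3 : Nat.card (P3 : Subgroup G) = 3 := by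
      have hdvd : 3 ∣ Nat.card G := hr ▸ orderOf_dvd_natCard r
      haveI : Nontrivial (P3 : Subgroup G) :=
        (Subgroup.nontrivial_iff_ne_bot _).2 (P3.ne_bot_of_dvd_card hdvd)
      haveI := P3.isPGroup'.center_nontrivial
      obtain ⟨⟨z, hz⟩, hz1⟩ := exists_ne (1 : Subgroup.center (P3 : Subgroup G))
      have hzv1 : (z : G) ≠ 1 := fun e => hz1 (Subtype.ext (Subtype.ext e))
      have hz3 := hexp 3 (Or.inr rfl) P3 z z.2
      have heq : (P3 : Subgroup G) = Subgroup.zpowers (z : G) := by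
        refine le_antisymm (fun y hy => ?_) (Subgroup.zpowers_le.2 z.2)
        rcases hdep z y hz3 hzv1 (hexp 3 (Or.inr rfl) P3 y hy)
          (congrArg Subtype.val ((Subgroup.mem_center_iff.1 hz ⟨y, hy⟩).symm)) with e | e | e
        · rw [e]; exact one_mem _
        · rw [e]; exact Subgroup.mem_zpowers _
        · rw [e]; exact Subgroup.npow_mem_zpowers _ 2
      rw [heq, Nat.card_zpowers]
      exact orderOf_eq_prime hz3 hzv1
    set C := Subgroup.centralizer (N : Set G) with hC
    have hCn : C.Normal := ⟨fun c hc a x hx => by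
      have hx' := hNn.conj_mem' x hx a
      calc x * (a * c * a⁻¹) = a * ((a⁻¹ * x * a) * c) * a⁻¹ := by group
        _ = a * (c * (a⁻¹ * x * a)) * a⁻¹ := by rw [hc _ hx']
        _ = a * c * a⁻¹ * x := by group⟩
    have hcomm2 : ∀ a b : G, a ^ 2 = 1 → b ^ 2 = 1 → (a * b) ^ 2 = 1 → Commute a b := by
      intro a b ha hb hab'
      rw [pow_two, mul_eq_one_iff_inv_eq] at ha hb hab'
      change a * b = b * a
      rw [← hab', mul_inv_rev, ha, hb]
    have hNle : ∀ P : Sylow 2 G, N ≤ (P : Subgroup G) := fun P => (Grp.le_pCore hNn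
      (fun x => ⟨1, by simpa using Subtype.ext (hNexp x x.2)⟩)).trans (Grp.pCore_le_sylow P)
    have hCeq : ∀ x, x ∈ C ↔ x ^ 2 = 1 := by
      intro x
      constructor
      · intro hx
        by_contra hne
        have h3 := hord x
        have ho : orderOf x = 3 := by
          rcases (show orderOf x = 1 ∨ orderOf x = 2 ∨ orderOf x = 3 by omega) with e | e | e
          · rw [orderOf_eq_one_iff.1 e, one_pow] at hne; exact absurd rfl hne
          · exact absurd (e ▸ pow_orderOf_eq_one x) hne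
          · exact e
        exact hsix u x (hNexp u huN) hu1 (ho ▸ pow_orderOf_eq_one x)
          (fun e => by simp [e] at ho) (hx u huN)
      · intro hx n hn
        have hP : IsPGroup 2 (Subgroup.zpowers x) := by
          rw [IsPGroup.iff_card]
          have := (Nat.dvd_prime Nat.prime_two).1 (orderOf_dvd_of_pow_eq_one hx)
          rcases this with e | e
          · exact ⟨0, by rw [Nat.card_zpowers, e, pow_zero]⟩
          · exact ⟨1, by rw [Nat.card_zpowers, e, pow_one]⟩
        obtain ⟨P, hle⟩ := hP.exists_le_sylow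
        have hxP := hle (Subgroup.mem_zpowers x)
        exact hcomm2 n x (hNexp n hn) hx (hexp 2 (Or.inl rfl) P _ (mul_mem (hNle P hn) hxP))
    have hP2 : (P2 : Subgroup G) = C := (P2.is_maximal' (Q := C)
      (fun x => ⟨1, Subtype.ext (by simpa using (hCeq x).1 x.2)⟩)
      (fun x hx => (hCeq x).2 (hexp 2 (Or.inl rfl) P2 x hx))).symm
    refine ⟨C, hCn, ⟨⟨⟨fun a b => Subtype.ext (hcomm2 a b ((hCeq _).1 a.2) ((hCeq _).1 b.2)
      ((hCeq _).1 (mul_mem a.2 b.2)))⟩⟩, fun a ha => (hCeq a).1 ha⟩, ?_⟩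
    have h2c := Subgroup.index_mul_card C
    conv_lhs at h2c => arg 2; rw [← hP2, P2.card_eq_multiplicity]
    rw [P3.card_eq_multiplicity] at hP3
    conv_rhs at h2c => rw [hcard, hP3, mul_comm]
    exact Nat.eq_of_mul_eq_mul_right (Nat.two_pow_pos _) h2c
  · left
    have hinv : ∀ x : G, x ^ 2 = 1 → x ≠ 1 → x * u * x = u⁻¹ := by
      intro x hx hx1
      have hxx : x * x = 1 := by rwa [← pow_two]
      have hxi : x⁻¹ = x := inv_eq_of_mul_eq_one_left hxx
      have hm : x * u * x ∈ N := by simpa [hxi] using hNn.conj_mem u huN x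
      have hcw : Commute x (u * (x * u * x)) := by
        change x * (u * (x * u * x)) = u * (x * u * x) * x
        rw [(hcomm u huN _ hm).eq]
        calc x * (x * u * x * u) = (x * x) * (u * x * u) := by group
          _ = u * x * u := by rw [hxx, one_mul]
          _ = u * x * u * (x * x) := by rw [hxx, mul_one]
          _ = u * (x * u * x) * x := by group
          _ = _ := by rw [(hcomm u huN _ hm).eq]
      by_contra hne
      exact hsix x _ hx hx1 (hNexp _ (mul_mem huN hm))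
        (fun e => hne (eq_inv_of_mul_eq_one_right e)) hcw
    have hP2 : Nat.card (P2 : Subgroup G) = 2 := by
      have hdvd : 2 ∣ Nat.card G := hs ▸ orderOf_dvd_natCard s
      haveI : Nontrivial (P2 : Subgroup G) :=
        (Subgroup.nontrivial_iff_ne_bot _).2 (P2.ne_bot_of_dvd_card hdvd)
      obtain ⟨⟨a, ha⟩, ha1'⟩ := exists_ne (1 : (P2 : Subgroup G))
      have ha1 : a ≠ 1 := fun e => ha1' (Subtype.ext e)
      have ha2 := hexp 2 (Or.inl rfl) P2 a ha
      have heq : (P2 : Subgroup G) = Subgroup.zpowers a := by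
        refine le_antisymm (fun b hb => ?_) (Subgroup.zpowers_le.2 ha)
        by_contra hba
        have hb1 : b ≠ 1 := fun e => hba (e ▸ one_mem _)
        have hne : a * b ≠ 1 := fun e => hba (by
          rw [← inv_eq_of_mul_eq_one_right e]; exact inv_mem (Subgroup.mem_zpowers a))
        have hb2 := hexp 2 (Or.inl rfl) P2 b hb
        have hab2 := hexp 2 (Or.inl rfl) P2 _ (mul_mem ha hb)
        have i1 := hinv a ha2 ha1
        have i2 := hinv b hb2 hb1
        have i3 := hinv (a * b) hab2 hne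
        refine hsix (a * b) u hab2 hne (hNexp u huN) hu1 ?_
        have h4 : a * b * u * (b * a) = u := by
          calc a * b * u * (b * a) = a * (b * u * b) * a := by group
            _ = (a⁻¹ * u * a⁻¹)⁻¹ := by rw [i2]; group
            _ = u := by
              rw [show a⁻¹ = a from inv_eq_of_mul_eq_one_left (by rwa [← pow_two]), i1, inv_inv]
        have h5 : b * a = (a * b)⁻¹ := by
          rw [mul_inv_rev, inv_eq_of_mul_eq_one_left (a := b) (by rwa [← pow_two]),
            inv_eq_of_mul_eq_one_left (a := a) (by rwa [← pow_two])]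
        rw [h5, mul_inv_eq_iff_eq_mul] at h4
        exact h4
      rw [heq, Nat.card_zpowers]
      exact orderOf_eq_prime ha2 ha1
    have hidx : (P3 : Subgroup G).index = 2 := by
      have h3c := Subgroup.index_mul_card (P3 : Subgroup G)
      rw [P2.card_eq_multiplicity] at hP2
      conv_lhs at h3c => rw [P3.card_eq_multiplicity]
      conv_rhs at h3c => rw [hcard, hP2]
      exact Nat.eq_of_mul_eq_mul_right (pow_pos (by norm_num) _) h3c
    haveI hPn : (P3 : Subgroup G).Normal := Subgroup.normal_of_index_eq_two hidx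
    have hss : s * s = 1 := by rwa [← pow_two]
    have hsi : s⁻¹ = s := inv_eq_of_mul_eq_one_left hss
    let f : ↥(P3 : Subgroup G) → ↥(P3 : Subgroup G) := fun y => ⟨(y : G)⁻¹ * s * y * s, by
      have := mul_mem (inv_mem y.2) (hPn.conj_mem y y.2 s)
      simpa [hsi, mul_assoc] using this⟩
    have hf : Function.Injective f := by
      intro y z e
      have e' : (y : G)⁻¹ * s * y = (z : G)⁻¹ * s * z := mul_right_cancel (congrArg Subtype.val e)
      by_contra hne
      refine hsix s ((z : G) * (y : G)⁻¹) hs2 hs1 (hexp 3 (Or.inr rfl) P3 _ (mul_mem z.2 (inv_mem y.2)))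
        (fun e2 => hne (Subtype.ext (mul_inv_eq_one.1 e2).symm)) ?_
      calc s * ((z : G) * (y : G)⁻¹) = z * ((z : G)⁻¹ * s * z) * (y : G)⁻¹ := by group
        _ = z * ((y : G)⁻¹ * s * y) * (y : G)⁻¹ := by rw [e']
        _ = z * (y : G)⁻¹ * s := by group
    have hall : ∀ y : (P3 : Subgroup G), s * (y : G) * s = (y : G)⁻¹ := by
      intro y
      obtain ⟨z, rfl⟩ := (Finite.injective_iff_surjective.1 hf) y
      change s * ((z : G)⁻¹ * s * z * s) * s = ((z : G)⁻¹ * s * z * s)⁻¹
      calc s * ((z : G)⁻¹ * s * z * s) * s = s * (z : G)⁻¹ * s * z * (s * s) := by group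
        _ = s * (z : G)⁻¹ * s⁻¹ * z := by rw [hss, hsi, mul_one]
        _ = s⁻¹ * (z : G)⁻¹ * s⁻¹ * z := by rw [hsi]
        _ = _ := by group
    refine ⟨(P3 : Subgroup G), hPn, ⟨⟨⟨fun a b => Subtype.ext ?_⟩⟩, hexp 3 (Or.inr rfl) P3⟩, hidx⟩
    change (a : G) * b = b * a
    have h1 := hall (a * b)
    rw [Subgroup.coe_mul, mul_inv_rev, ← hall a, ← hall b] at h1
    have h2 : s * ((a : G) * b) * s = s * ((b : G) * a) * s := by
      rw [h1]
      calc s * (b : G) * s * (s * a * s) = s * (b * (s * s) * a) * s := by group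
        _ = s * ((b : G) * a) * s := by rw [hss, mul_one]
    exact mul_left_cancel (mul_right_cancel h2)

/-- A finite group whose set of element orders is exactly {1, 2, 3} has either a normal elementary abelian 3-subgroup of index 2 or a normal elementary abelian 2-subgroup of index 3. -/
theorem result {G : Type*} [Group G] [Finite G] (h : Set.range (orderOf : G → ℕ) = {k : ℕ | 1 ≤ k ∧ k ≤ 3}) :
    (∃ N : Subgroup G, N.Normal ∧ Cfsg.IsElementaryAbelian 3 N ∧ N.index = 2) ∨
      (∃ N : Subgroup G, N.Normal ∧ Cfsg.IsElementaryAbelian 2 N ∧ N.index = 3) := by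
  exact main h

end Cfsg.Agent.S4005
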