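import Cfsg.Statements.S4013


set_option autoImplicit false
open Cfsg

namespace Cfsg.Agent.S4013

/-- Let G be a finite p-group (p prime) and N < M normal subgroups of G such that for some g ∈ M ∖ N the conjugacy class of g is exactly M ∖ N. Then p = 2 and N has index 2 in M. -/
theorem result {G : Type*} [Group G] [Finite G] (p : ℕ) [Fact p.Prime] (hG : IsPGroup p G) (N M : Subgroup G) [N.Normal] [M.Normal] (hNM : N < M) (g : G) (hgM : g ∈ M) (hgN : g ∉ N) (hcl : {h : G | IsConj g h} = (M : Set G) \ (N : Set G)) : p = 2 ∧ N.relIndex M = 2 := by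
  classical
  have hp : p.Prime := Fact.out
  have hcard : Nat.card {h : G | IsConj g h} = (Subgroup.centralizer ({g} : Set G)).index := by
    rw [Subgroup.index_eq_card, ← Nat.card_congr (Equiv.setCongr (show MulAction.orbit (ConjAct G) g = {h : G | IsConj g h} by
      ext h; rw [ConjAct.mem_orbit_conjAct]; exact ⟨IsConj.symm, IsConj.symm⟩))]
    rw [Nat.card_congr (MulAction.orbitEquivQuotientStabilizer (ConjAct G) g), ← Subgroup.index_eq_card,
      ← Subgroup.index_eq_card, ConjAct.stabilizer_eq_centralizer]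
    rfl
  obtain ⟨k, hk⟩ := (IsPGroup.iff_card.mp hG).elim fun n hn =>
    (Nat.dvd_prime_pow hp).mp (hn ▸ Subgroup.index_dvd_card (Subgroup.centralizer ({g} : Set G)))
      |> fun ⟨i, _, hi⟩ => (⟨i, hi⟩ : ∃ i, (Subgroup.centralizer ({g} : Set G)).index = p ^ i)
  rw [hk, hcl, Nat.card_coe_set_eq, Set.ncard_diff (show (N : Set G) ⊆ M from hNM.le), ← Nat.card_coe_set_eq,
    ← Nat.card_coe_set_eq] at hcard
  change Nat.card M - Nat.card N = p ^ k at hcard
  obtain ⟨b, hb⟩ := IsPGroup.iff_card.mp (hG.to_subgroup N)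
  have hmul : Nat.card N * N.relIndex M = Nat.card M := by
    rw [← Nat.card_congr (Subgroup.subgroupOfEquivOfLe hNM.le).toEquiv]
    exact Subgroup.card_mul_index (N.subgroupOf M)
  obtain ⟨a, -, ha⟩ := (Nat.dvd_prime_pow hp).mp (show N.relIndex M ∣ p ^ _ from
    (IsPGroup.iff_card.mp (hG.to_subgroup M)).choose_spec ▸ hmul ▸ dvd_mul_left _ _)
  have ha0 : a ≠ 0 := fun e => by
    rw [e, pow_zero, Subgroup.relIndex_eq_one] at ha
    exact not_le_of_gt hNM ha
  rw [← hmul, hb, ha, ← Nat.mul_sub_one] at hcard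
  have hd : p ^ a - 1 ∣ p ^ k := hcard ▸ dvd_mul_left _ _
  obtain ⟨i, -, hi⟩ := (Nat.dvd_prime_pow hp).mp hd
  have h1 : 1 ≤ p ^ a := Nat.one_le_pow _ _ hp.pos
  rcases Nat.eq_zero_or_pos i with rfl | hi0
  · have h2 : p ^ a = 2 := by simp at hi; omega
    have hp2 : p = 2 := (Nat.prime_dvd_prime_iff_eq hp Nat.prime_two).mp (h2 ▸ dvd_pow_self p ha0)
    exact ⟨hp2, ha.trans h2⟩
  · exfalso
    have hd1 : p ∣ p ^ a - 1 := hi ▸ dvd_pow_self p hi0.ne'
    have hd2 : p ∣ p ^ a := dvd_pow_self p ha0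
    have := Nat.dvd_sub hd2 hd1
    rw [show p ^ a - (p ^ a - 1) = 1 by omega] at this
    exact hp.not_dvd_one this

end Cfsg.Agent.S4013
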