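import Cfsg.Statements.S4016
import Cfsg.Agent.Lib.Grp.CyclicAbelian.Main

set_option autoImplicit false
open Cfsg

namespace Cfsg.Agent.S4016

/-- Let G be a finite group and p a prime such that a Sylow p-subgroup P of G is cyclic and every subgroup of G of order prime to p is abelian. Then G has a normal p-complement or P is normal in G. -/
theorem result {G : Type*} [Group G] [Finite G] {p : ℕ}
    [Fact p.Prime] (P : Sylow p G) (hcyc : IsCyclic P)
    (hab : ∀ H : Subgroup G, ¬ p ∣ Nat.card H → IsMulCommutative H) :
    Cfsg.HasNormalPComplement p G ∨ (P : Subgroup G).Normal := by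
  have hp : p.Prime := Fact.out
  have hall : ∀ R : Sylow p G, IsCyclic (R : Subgroup G) := fun R =>
    isCyclic_of_surjective (P.equiv R).toMonoidHom (P.equiv R).surjective
  rcases Grp.CyclicAbelian.dichotomy _ G rfl hp hall (fun H hH a ha b hb => by
      have := hab H hH
      exact congrArg Subtype.val (mul_comm' (⟨a, ha⟩ : H) ⟨b, hb⟩)) with h | ⟨R, hR⟩
  · exact Or.inl h
  · have := Sylow.unique_of_normal R hR
    exact Or.inr (by rwa [Subsingleton.elim P R])

end Cfsg.Agent.S4016
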