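import Cfsg.Statements.S4018
import Cfsg.Agent.Lib.Grp.GenDihedralTI
import Cfsg.Agent.Lib.Invol.IndexTwoTransfer

set_option autoImplicit false
open Cfsg

namespace Cfsg.Agent.S4018

/-- Let G be a finite group with an abelian Sylow 3-subgroup P such that the normalizer of P has order 4·#P, the centralizer C of P has order 2·#P, C meets each of its conjugates by elements outside its normalizer trivially, and every proper subgroup of G of even order has order dividing 4·#P. Then G is not simple. -/
theorem result {G : Type*} [Group G] [Finite G]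
    (P : Sylow 3 G) (hab : IsMulCommutative P)
    (hN : Nat.card (Subgroup.normalizer ((P : Subgroup G) : Set G)) = 4 * Nat.card P)
    (hC : Nat.card (Subgroup.centralizer (P : Set G)) = 2 * Nat.card P)
    (hTI : Cfsg.IsTISubset (Subgroup.centralizer (P : Set G) : Set G))
    (heven : ∀ H : Subgroup G, H ≠ ⊤ → 2 ∣ Nat.card H → Nat.card H ∣ 4 * Nat.card P) :
    ¬ IsSimpleGroup G := by
  classical
  intro hsimp
  have := hsimp
  let _ := Fintype.ofFinite G
  haveI : Fact (Nat.Prime 2) := ⟨Nat.prime_two⟩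
  haveI : Fact (Nat.Prime 3) := ⟨Nat.prime_three⟩
  set C := Subgroup.centralizer (P : Set G) with hCdef
  set N := Subgroup.normalizer ((P : Subgroup G) : Set G) with hNdef
  obtain ⟨n, hPn⟩ := P.isPGroup'.exists_card_eq
  set m := Nat.card P with hm
  have hmodd : ¬ 2 ∣ m := by
    rw [hPn]; intro h; exact absurd (Nat.prime_two.dvd_of_dvd_pow h) (by decide)
  have hcomm' : ∀ a ∈ (P : Subgroup G), ∀ b ∈ (P : Subgroup G), a * b = b * a := fun a ha b hb =>
    congrArg Subtype.val (hab.is_comm.comm (⟨a, ha⟩ : P) ⟨b, hb⟩)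
  have hPC : (P : Subgroup G) ≤ C := fun x hx =>
    Subgroup.mem_centralizer_iff.mpr fun y hy => hcomm' y hy x hx
  have hCN : C ≤ N := Subgroup.centralizer_le_normalizer _
  have hmemC : ∀ x : G, x ∈ C ↔ ∀ y ∈ (P : Subgroup G), y * x = x * y := fun x =>
    Subgroup.mem_centralizer_iff
  have hm1 : m ≠ 1 := by
    intro h1
    have hbot : (P : Subgroup G) = ⊥ := Subgroup.card_eq_one.mp h1
    have hCtop : C = ⊤ := by
      rw [Subgroup.eq_top_iff']
      intro x
      refine (hmemC x).mpr fun y hy => ?_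
      rw [hbot, Subgroup.mem_bot] at hy
      rw [hy, one_mul, mul_one]
    have h2 : N = ⊤ := top_le_iff.mp (hCtop ▸ hCN)
    rw [hCtop, Subgroup.card_top] at hC
    rw [h2, Subgroup.card_top] at hN
    omega
  have hm3 : 3 ≤ m ∧ 3 ∣ m := by
    rcases n with _ | k
    · simp [hPn] at hm1
    · rw [hPn, pow_succ]
      exact ⟨by nlinarith [Nat.one_le_pow k 3 (by norm_num)], dvd_mul_left 3 _⟩
  have hnonab : ¬ IsMulCommutative G := by
    intro hG
    have hCtop : C = ⊤ := by
      rw [Subgroup.eq_top_iff']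
      exact fun x => (hmemC x).mpr fun y _ => hG.is_comm.comm y x
    have h2 : N = ⊤ := top_le_iff.mp (hCtop ▸ hCN)
    rw [hCtop, Subgroup.card_top] at hC
    rw [h2, Subgroup.card_top] at hN
    omega
  have hZ : ∀ z : G, z ≠ 1 → Subgroup.centralizer ({z} : Set G) ≠ ⊤ := by
    intro z hz htop
    rcases IsSimpleGroup.eq_bot_or_eq_top_of_normal (Subgroup.center G) inferInstance with h | h
    · refine hz ((Subgroup.mem_bot (G := G)).mp (h ▸ ?_))
      refine Subgroup.mem_center_iff.mpr fun g => ?_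
      exact (Subgroup.mem_centralizer_singleton_iff.mp (htop ▸ Subgroup.mem_top g))
    · exact hnonab ⟨⟨fun a b => (Subgroup.mem_center_iff.mp (h ▸ Subgroup.mem_top b)) a⟩⟩
  -- elements of 3-power order in the normalizer
  have hmax : ∀ x ∈ N, (∃ k : ℕ, x ^ 3 ^ k = 1) → x ∈ (P : Subgroup G) := by
    rintro x hxN ⟨k, hk⟩
    have h1 : IsPGroup 3 (Subgroup.zpowers x) := by
      rw [IsPGroup.iff_card]
      obtain ⟨j, -, hj⟩ := (Nat.dvd_prime_pow Nat.prime_three).mp (orderOf_dvd_of_pow_eq_one hk)
      exact ⟨j, by rw [Nat.card_zpowers, hj]⟩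
    have h2 : IsPGroup 3 (Subgroup.zpowers x ⊔ (P : Subgroup G) : Subgroup G) :=
      h1.to_sup_of_normal_right' P.isPGroup' (Subgroup.zpowers_le.2 hxN)
    rw [← P.is_maximal' h2 le_sup_right]
    exact Subgroup.mem_sup_left (Subgroup.mem_zpowers x)
  have hidx : ((P : Subgroup G).subgroupOf C).index = 2 := by
    have h := ((P : Subgroup G).subgroupOf C).index_mul_card
    rw [Nat.card_congr (Subgroup.subgroupOfEquivOfLe hPC).toEquiv, hC] at h
    exact Nat.eq_of_mul_eq_mul_right (by omega) h
  obtain ⟨⟨t, htC⟩, ht'⟩ := exists_prime_orderOf_dvd_card' (G := C) 2 (by rw [hC]; exact dvd_mul_right 2 _)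
  have ht : orderOf t = 2 := by rw [← Subgroup.orderOf_mk t htC, ht']
  have ht2 : t * t = 1 := by rw [← pow_two, ← ht, pow_orderOf_eq_one]
  have hPodd : ∀ x ∈ (P : Subgroup G), orderOf x ≠ 2 := by
    intro x hx h2
    exact hmodd (h2 ▸ (Subgroup.orderOf_dvd_natCard (P : Subgroup G) hx : orderOf x ∣ m))
  have hPsq : ∀ x ∈ (P : Subgroup G), x * x = 1 → x = 1 := by
    intro x hx hxx
    by_contra hx1
    exact hPodd x hx (orderOf_eq_prime (by rwa [pow_two]) hx1)
  have htP : t ∉ (P : Subgroup G) := fun h => hPodd t h ht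
  have hsplit : ∀ c ∈ C, c ∈ (P : Subgroup G) ∨ t * c ∈ (P : Subgroup G) := by
    intro c hc
    by_cases hcP : c ∈ (P : Subgroup G)
    · exact .inl hcP
    · right
      have := (Subgroup.mul_mem_iff_of_index_two hidx (a := (⟨t, htC⟩ : C)) (b := ⟨c, hc⟩)).mpr
        (iff_of_false (fun h => htP h) (fun h => hcP h))
      exact this
  have hcomm : ∀ a ∈ C, ∀ b ∈ C, a * b = b * a := by
    intro a ha b hb
    have hPc : ∀ p ∈ (P : Subgroup G), Commute p t := fun p hp => (hmemC t).mp htC p hp
    have hform : ∀ c ∈ C, ∃ p ∈ (P : Subgroup G), c = p ∨ c = t * p := by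
      intro c hc
      rcases hsplit c hc with h | h
      · exact ⟨c, h, .inl rfl⟩
      · exact ⟨t * c, h, .inr (by rw [← mul_assoc, ht2, one_mul])⟩
    obtain ⟨p, hp, rfl | rfl⟩ := hform a ha <;> obtain ⟨q, hq, rfl | rfl⟩ := hform b hb
    · exact hcomm' _ hp _ hq
    · exact ((hPc _ hp).mul_right (hcomm' _ hp _ hq : Commute a q)).eq
    · exact (((hPc _ hq).symm).mul_left (hcomm' _ hp _ hq : Commute p b)).eq
    · exact (((Commute.refl t).mul_right (hPc _ hq).symm).mul_left
        ((hPc _ hp).mul_right (hcomm' _ hp _ hq : Commute p q))).eq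
  have huniq : ∀ c ∈ C, orderOf c = 2 → c = t := by
    intro c hc hc2
    rcases hsplit c hc with h | h
    · exact absurd hc2 (hPodd c h)
    · have hcc : c * c = 1 := by rw [← pow_two, ← hc2, pow_orderOf_eq_one]
      have h1 : t * c * (t * c) = 1 := by
        rw [hcomm t htC c hc, mul_assoc, ← mul_assoc t, ← hcomm c hc t htC, ← mul_assoc, ← mul_assoc,
          hcc, one_mul, ht2]
      calc c = t * (t * c) := by rw [← mul_assoc, ht2, one_mul]
        _ = t := by rw [hPsq _ h h1, mul_one]
  -- conjugation inside the normalizer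
  have hNC : ∀ g ∈ N, ∀ c ∈ C, g * c * g⁻¹ ∈ C := by
    intro g hg c hc
    refine (hmemC _).mpr fun y hy => ?_
    have hy' : g⁻¹ * y * g ∈ (P : Subgroup G) := by
      have := (Subgroup.mem_normalizer_iff.mp (N.inv_mem hg) y).mp hy
      simpa using this
    have h := (hmemC c).mp hc _ hy'
    calc y * (g * c * g⁻¹) = g * ((g⁻¹ * y * g) * c) * g⁻¹ := by group
      _ = g * (c * (g⁻¹ * y * g)) * g⁻¹ := by rw [h]
      _ = g * c * g⁻¹ * y := by group
  have hsetN : ∀ g : G, g ∈ Subgroup.normalizer (C : Set G) → g ∈ N := by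
    intro g hg
    refine Subgroup.mem_normalizer_iff.mpr fun y => ?_
    have key : ∀ h ∈ Subgroup.normalizer (C : Set G), ∀ z ∈ (P : Subgroup G),
        h * z * h⁻¹ ∈ (P : Subgroup G) := by
      intro h hh z hz
      refine hmax _ (hCN ((Subgroup.mem_normalizer_iff.mp hh z).mp (hPC hz))) ?_
      obtain ⟨k, hk⟩ := P.isPGroup' ⟨z, hz⟩
      refine ⟨k, ?_⟩
      rw [conj_pow, show z ^ 3 ^ k = 1 from congrArg Subtype.val hk, mul_one, mul_inv_cancel]
    refine ⟨key g hg y, fun h => ?_⟩
    simpa [mul_assoc] using key g⁻¹ (inv_mem hg) _ h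
  have hTI' : ∀ g : G, ∀ c ∈ C, c ≠ 1 → g * c * g⁻¹ ∈ C → g ∈ N := by
    intro g c hc hc1 hgc
    by_contra hg
    exact hc1 (hTI g (fun h => hg (hsetN g h)) c hc hgc)
  have hcent : Subgroup.centralizer ({t} : Set G) = N := by
    have hle : N ≤ Subgroup.centralizer ({t} : Set G) := by
      intro g hg
      have h := huniq _ (hNC g hg t htC)
        ((orderOf_injective (MulAut.conj g).toMonoidHom (MulAut.conj g).injective t).trans ht)
      exact Subgroup.mem_centralizer_singleton_iff.mpr (mul_inv_eq_iff_eq_mul.mp h)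
    have hd := heven _ (hZ t (fun h => by simp [h] at ht))
      (dvd_trans (by rw [hN]; omega) (Subgroup.card_dvd_of_le hle))
    refine (Subgroup.eq_of_le_of_card_ge hle ?_).symm
    rw [hN]
    exact Nat.le_of_dvd (by omega) hd
  -- the Sylow 2-subgroups
  have hS4 : ∀ S : Sylow 2 G, Nat.card S ∣ 4 := by
    intro S
    obtain ⟨k, hk⟩ := S.isPGroup'.exists_card_eq
    have hk0 : k ≠ 0 := by
      rintro rfl
      have h2 : 2 ∣ Nat.card G := by
        have := Subgroup.card_subgroup_dvd_card N
        rw [hN] at this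
        exact dvd_trans (by omega) this
      have := S.pow_dvd_card_of_pow_dvd_card (n := 1) (by simpa using h2)
      rw [hk] at this
      norm_num at this
    haveI : Nontrivial S := by
      rw [← Finite.one_lt_card_iff_nontrivial, hk]
      exact Nat.one_lt_two_pow hk0
    have := S.isPGroup'.center_nontrivial
    obtain ⟨⟨⟨z, hzS⟩, hz⟩, hz1⟩ := exists_ne (1 : Subgroup.center (S : Subgroup G))
    have hz1' : z ≠ 1 := fun e => hz1 (Subtype.ext (Subtype.ext e))
    have hle : (S : Subgroup G) ≤ Subgroup.centralizer ({z} : Set G) := fun y hy =>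
      Subgroup.mem_centralizer_singleton_iff.mpr
        (congrArg Subtype.val (Subgroup.mem_center_iff.mp hz ⟨y, hy⟩))
    have hdS : Nat.card S ∣ Nat.card (Subgroup.centralizer ({z} : Set G)) := Subgroup.card_dvd_of_le hle
    have hd := hdS.trans (heven _ (hZ z hz1') (dvd_trans (by rw [hk]; exact dvd_pow_self 2 hk0) hdS))
    rw [hk] at hd ⊢
    exact (Nat.Coprime.pow_left k ((Nat.Prime.coprime_iff_not_dvd Nat.prime_two).mpr hmodd)).dvd_of_dvd_mul_right hd
  obtain ⟨V0⟩ := (inferInstance : Nonempty (Sylow 2 N))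
  set V := (V0 : Subgroup N).map N.subtype with hV
  have hVN : V ≤ N := Subgroup.map_subtype_le _
  have hVp : IsPGroup 2 V := V0.isPGroup'.map _
  obtain ⟨S, hVS⟩ := hVp.exists_le_sylow
  have hVcard : Nat.card V = 4 := by
    have h1 := V0.pow_dvd_card_of_pow_dvd_card (n := 2) (by rw [hN]; exact dvd_mul_right 4 _)
    rw [← Subgroup.card_map_of_injective (f := N.subtype) N.subtype_injective, ← hV] at h1
    exact Nat.dvd_antisymm ((Subgroup.card_dvd_of_le hVS).trans (hS4 S)) h1
  have hVS' : V = S := Subgroup.eq_of_le_of_card_ge hVS (by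
    rw [hVcard]; exact Nat.le_of_dvd (by norm_num) (hS4 S))
  have hSN : (S : Subgroup G) ≤ N := hVS' ▸ hVN
  have hS4' : Nat.card S = 4 := hVS' ▸ hVcard
  have htS : t ∈ (S : Subgroup G) := by
    have hle : (S : Subgroup G) ≤ Subgroup.centralizer ({t} : Set G) := hcent ▸ hSN
    have h1 : IsPGroup 2 (Subgroup.zpowers t) :=
      IsPGroup.of_card (n := 1) (by rw [Nat.card_zpowers, ht, pow_one])
    have hn : Subgroup.zpowers t ≤ Subgroup.normalizer ((S : Subgroup G) : Set G) := by
      refine Subgroup.zpowers_le.2 (Subgroup.mem_normalizer_iff.mpr fun y => ?_)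
      have e : ∀ z ∈ (S : Subgroup G), t * z * t⁻¹ = z := fun z hz => by
        rw [← Subgroup.mem_centralizer_singleton_iff.mp (hle hz), mul_inv_cancel_right]
      refine ⟨fun h => (e y h).symm ▸ h, fun h => ?_⟩
      have h2 := e _ h
      have h3 : t * y * t⁻¹ = y := mul_left_cancel (a := t) (mul_right_cancel (b := t⁻¹) h2)
      rwa [h3] at h
    rw [← S.is_maximal' (h1.to_sup_of_normal_right' S.isPGroup' hn) le_sup_right]
    exact Subgroup.mem_sup_left (Subgroup.mem_zpowers t)
  have hncyc : ¬ IsCyclic S := by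
    intro hcyc
    have h2 : Even (Nat.card G) := by
      rw [even_iff_two_dvd]
      exact ht ▸ orderOf_dvd_natCard t
    have hnc := IsCyclic.normalizer_le_centralizer ((Nat.minFac_eq_two_iff _).2 (even_iff_two_dvd.1 h2)) hcyc
    have hcp := MonoidHom.ker_transferSylow_isComplement' S hnc
    rcases IsSimpleGroup.eq_bot_or_eq_top_of_normal _
      (MonoidHom.normal_ker (MonoidHom.transferSylow S hnc)) with h | h
    · rw [h] at hcp
      have := hcp.card_mul
      rw [Subgroup.card_bot, one_mul, hS4'] at this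
      have hN' := Subgroup.card_subgroup_dvd_card N
      rw [hN, ← this] at hN'
      have := Nat.le_of_dvd (by norm_num) hN'
      omega
    · have := hcp.card_mul
      rw [h, Subgroup.card_top, hS4'] at this
      have : 0 < Nat.card G := Nat.card_pos
      omega
  have hexp : ∀ v ∈ (S : Subgroup G), v * v = 1 := by
    intro v hv
    have hd : orderOf v ∣ 4 := hS4' ▸ Subgroup.orderOf_dvd_natCard (S : Subgroup G) hv
    have hne : orderOf v ≠ 4 := fun h => hncyc (isCyclic_of_orderOf_eq_card (⟨v, hv⟩ : (S : Subgroup G))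
      (by rw [Subgroup.orderOf_mk, h, hS4']))
    obtain ⟨j, hj, hj'⟩ := (Nat.dvd_prime_pow Nat.prime_two).mp (show orderOf v ∣ 2 ^ 2 from hd)
    have : orderOf v ∣ 2 := by
      interval_cases j
      · simp [hj']
      · simp [hj']
      · exact absurd (by simpa using hj') hne
    rw [← pow_two]
    exact orderOf_dvd_iff_pow_eq_one.mp this
  obtain ⟨u, huS, huC⟩ : ∃ u ∈ (S : Subgroup G), u ∉ C := by
    by_contra hno
    push Not at hno
    have := Subgroup.card_dvd_of_le (show (S : Subgroup G) ≤ C from hno)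
    rw [hC, hS4'] at this
    omega
  have huN : u ∈ N := hSN huS
  have hu2 : u * u = 1 := hexp u huS
  have hu1 : u ≠ 1 := fun h => huC (h ▸ C.one_mem)
  have hut : u ≠ t := fun h => huC (h ▸ htC)
  -- one class of involutions
  have hstep : ∀ a ∈ (S : Subgroup G), a ≠ 1 → ∃ b ∈ (S : Subgroup G), b ≠ a ∧
      ∃ g : G, g * a * g⁻¹ = b := by
    intro a ha ha1
    by_contra hno
    push Not at hno
    have hM : (Subgroup.zpowers a) ≤ (S : Subgroup G) := Subgroup.zpowers_le.2 ha
    have ha2 : orderOf a = 2 := orderOf_eq_prime (by rw [pow_two]; exact hexp a ha) ha1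
    have hMi : (Subgroup.zpowers a).relIndex (S : Subgroup G) = 2 := by
      have := Subgroup.relIndex_mul_relIndex ⊥ (Subgroup.zpowers a) (S : Subgroup G) bot_le hM
      rw [Subgroup.relIndex_bot_left, Subgroup.relIndex_bot_left, hS4', Nat.card_zpowers, ha2] at this
      omega
    have hmemz : ∀ s : G, s ∈ Subgroup.zpowers a ↔ s = 1 ∨ s = a := by
      intro s
      constructor
      · intro h
        obtain ⟨k, rfl⟩ := Subgroup.mem_zpowers_iff.mp h
        rw [← zpow_mod_orderOf, ha2]
        rcases Int.emod_two_eq_zero_or_one k with h | h <;> simp [h]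
      · rintro (rfl | rfl)
        · exact one_mem _
        · exact Subgroup.mem_zpowers _
    obtain ⟨K, hKn, hK2, -⟩ := Agent.Invol.exists_index_two_of_respects S hM hMi (by
      intro s hs g hg
      rw [hmemz, hmemz]
      constructor
      · rintro (h | h)
        · left
          exact conj_eq_one_iff.mp h
        · right
          have hs' : g⁻¹ * a * g⁻¹⁻¹ = s := by rw [← h]; group
          by_contra hsa
          exact hno s hs hsa g⁻¹ hs'
      · rintro (h | h)
        · left; rw [h]; group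
        · right
          subst h
          by_contra hsa
          exact hno _ hg hsa g rfl)
    rcases IsSimpleGroup.eq_bot_or_eq_top_of_normal K hKn with h | h
    · rw [h, Subgroup.index_bot] at hK2
      have := Subgroup.card_subgroup_dvd_card N
      rw [hN, hK2] at this
      have := Nat.le_of_dvd (by norm_num) this
      omega
    · simp [h] at hK2
  have hconjS : ∀ v ∈ (S : Subgroup G), v ≠ 1 → IsConj t v := by
    have ht1 : t ≠ 1 := fun h => by simp [h] at ht
    have hfin : ∀ v ∈ (S : Subgroup G), v = 1 ∨ v = t ∨ v = u ∨ v = t * u := by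
      intro v hv
      by_contra hno
      push Not at hno
      have hsub : ({1, t, u, t * u, v} : Finset G) ⊆ ((S : Subgroup G) : Set G).toFinset := by
        intro w hw
        simp only [Finset.mem_insert, Finset.mem_singleton] at hw
        rw [Set.mem_toFinset]
        rcases hw with rfl | rfl | rfl | rfl | rfl
        exacts [one_mem _, htS, huS, mul_mem htS huS, hv]
      have := Finset.card_le_card hsub
      rw [Set.toFinset_card, ← Nat.card_eq_fintype_card,
        show Nat.card ((S : Subgroup G) : Set G) = Nat.card S from rfl, hS4'] at this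
      have h1u : t * u ≠ 1 := fun h => hut (mul_left_cancel (h.trans ht2.symm))
      have h2u : t * u ≠ t := fun h => hu1 (by simpa using h)
      have h3u : t * u ≠ u := fun h => ht1 (by simpa using h)
      obtain ⟨e1, e2, e3, e4⟩ := hno
      simp [ht1.symm, hu1.symm, h1u.symm, hut.symm, h2u.symm, h3u.symm, e1.symm, e2.symm, e3.symm,
        e4.symm] at this
    have hb : ∀ a ∈ (S : Subgroup G), a ≠ 1 → ∃ b ∈ (S : Subgroup G), b ≠ 1 ∧ b ≠ a ∧ IsConj a b := by
      intro a ha ha1
      obtain ⟨b, hbS, hba, g, hg⟩ := hstep a ha ha1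
      refine ⟨b, hbS, ?_, hba, isConj_iff.mpr ⟨g, hg⟩⟩
      rintro rfl
      exact ha1 (conj_eq_one_iff.mp hg)
    have h1u : t * u ≠ 1 := fun h => hut (mul_left_cancel (h.trans ht2.symm))
    obtain ⟨b, hbS, hb1, hbt, htb⟩ := hb t htS ht1
    obtain ⟨c, hcS, hc1, hcu, huc⟩ := hb u huS hu1
    obtain ⟨d, hdS, hd1, hdv, hvd⟩ := hb (t * u) (mul_mem htS huS) h1u
    have hu' : IsConj t u := by
      rcases (hfin b hbS).resolve_left hb1 with rfl | rfl | rfl
      · exact absurd rfl hbt
      · exact htb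
      · rcases (hfin c hcS).resolve_left hc1 with rfl | rfl | rfl
        · exact huc.symm
        · exact absurd rfl hcu
        · exact htb.trans huc.symm
    intro v hv hv1
    rcases (hfin v hv).resolve_left hv1 with rfl | rfl | rfl
    · exact IsConj.refl _
    · exact hu'
    · rcases (hfin d hdS).resolve_left hd1 with rfl | rfl | rfl
      · exact hvd.symm
      · exact hu'.trans hvd.symm
      · exact absurd rfl hdv
  have hconj : ∀ z : G, orderOf z = 2 → ∃ g : G, g * t * g⁻¹ = z := by
    intro z hz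
    obtain ⟨Q, hQ⟩ := (IsPGroup.of_card (p := 2) (G := Subgroup.zpowers z) (n := 1)
      (by rw [Nat.card_zpowers, hz, pow_one])).exists_le_sylow
    obtain ⟨g, hg⟩ := MulAction.exists_smul_eq G Q S
    have hmem : g * z * g⁻¹ ∈ (S : Subgroup G) := by
      rw [← hg, Sylow.coe_subgroup_smul, Subgroup.mem_pointwise_smul_iff_inv_smul_mem]
      simpa [mul_assoc] using hQ (Subgroup.mem_zpowers z)
    have hne : g * z * g⁻¹ ≠ 1 := fun h => by
      have : z = 1 := conj_eq_one_iff.mp h
      simp [this] at hz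
    exact isConj_iff.mp ((hconjS _ hmem hne).trans (isConj_iff.mpr ⟨g, rfl⟩).symm)
  -- inversion
  have hfix : ∀ x ∈ (P : Subgroup G), u * x = x * u → x = 1 := by
    intro x hx hux
    by_contra hx1
    obtain ⟨g, hg⟩ := hconj u (orderOf_eq_prime (by rwa [pow_two]) hu1)
    have hN' : g⁻¹ * x * g ∈ N := by
      rw [← hcent, Subgroup.mem_centralizer_singleton_iff]
      have e : t = g⁻¹ * u * g := by rw [← hg]; group
      rw [e]
      calc g⁻¹ * x * g * (g⁻¹ * u * g) = g⁻¹ * (x * u) * g := by group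
        _ = g⁻¹ * (u * x) * g := by rw [hux]
        _ = g⁻¹ * u * g * (g⁻¹ * x * g) := by group
    have hP' : g⁻¹ * x * g ∈ (P : Subgroup G) := by
      refine hmax _ hN' ?_
      obtain ⟨k, hk⟩ := P.isPGroup' ⟨x, hx⟩
      refine ⟨k, ?_⟩
      have := conj_pow (i := 3 ^ k) (a := g⁻¹) (b := x)
      rw [inv_inv] at this
      rw [this, show x ^ 3 ^ k = 1 from congrArg Subtype.val hk, mul_one, inv_mul_cancel]
    have hgN := hTI' g _ (hPC hP') (fun h => hx1 (conj_eq_one_iff.mp (show g⁻¹ * x * g⁻¹⁻¹ = 1 by rw [inv_inv, h])))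
      (by simpa [mul_assoc] using hPC hx)
    have := huniq _ (hNC g hgN t htC)
      ((orderOf_injective (MulAut.conj g).toMonoidHom (MulAut.conj g).injective t).trans ht)
    exact hut (hg ▸ this)
  have hinvP : ∀ a ∈ (P : Subgroup G), u * a * u⁻¹ = a⁻¹ := by
    intro a ha
    have hua : u * a * u⁻¹ ∈ (P : Subgroup G) := (Subgroup.mem_normalizer_iff.mp huN a).mp ha
    have hc := hcomm' a ha _ hua
    have hb : a * (u * a * u⁻¹) = 1 := by
      refine hfix _ (mul_mem ha hua) ?_
      rw [inv_eq_of_mul_eq_one_right hu2] at hc ⊢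
      calc u * (a * (u * a * u)) = (u * a * u) * a * u * (u * u) := by rw [hu2]; group
        _ = a * (u * a * u) * u := by rw [hu2, mul_one, ← hc]
    exact eq_inv_of_mul_eq_one_right hb
  have hut' : u * t * u⁻¹ = t := by
    rw [← hcent] at huN
    rw [Subgroup.mem_centralizer_singleton_iff.mp huN, mul_inv_cancel_right]
  have hinvU : ∀ c ∈ C, u * c * u⁻¹ = c⁻¹ := by
    intro c hc
    rcases hsplit c hc with h | h
    · exact hinvP c h
    · have e : c = t * (t * c) := by rw [← mul_assoc, ht2, one_mul]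
      calc u * c * u⁻¹ = (u * t * u⁻¹) * (u * (t * c) * u⁻¹) := by
            conv_lhs => rw [e]
            group
        _ = t * (t * c)⁻¹ := by rw [hut', hinvP _ h]
        _ = c⁻¹ := by rw [mul_inv_rev, ← mul_assoc, hcomm t htC _ (inv_mem hc), mul_inv_cancel_right]
  have hindN : (C.subgroupOf N).index = 2 := by
    have h := (C.subgroupOf N).index_mul_card
    rw [Nat.card_congr (Subgroup.subgroupOfEquivOfLe hCN).toEquiv, hN, hC] at h
    have : (C.subgroupOf N).index * (2 * m) = 2 * (2 * m) := by rw [h]; ring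
    exact Nat.eq_of_mul_eq_mul_right (by omega) this
  have houter : ∀ a ∈ N, a ∉ C → ∃ c ∈ C, a = u * c := by
    intro a ha haC
    refine ⟨u * a, ?_, by rw [← mul_assoc, hu2, one_mul]⟩
    have := (Subgroup.mul_mem_iff_of_index_two hindN (a := (⟨u, huN⟩ : N)) (b := ⟨a, ha⟩)).mpr
      (iff_of_false (fun h => huC h) (fun h => haC h))
    exact this
  have hinv : ∀ a ∈ N, a ∉ C → ∀ c ∈ C, a * c * a⁻¹ = c⁻¹ := by
    intro a ha haC c hc
    obtain ⟨d, hd, rfl⟩ := houter a ha haC
    calc u * d * c * (u * d)⁻¹ = u * (d * c * d⁻¹) * u⁻¹ := by group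
      _ = c⁻¹ := by rw [hcomm d hd c hc, mul_inv_cancel_right, hinvU c hc]
  refine Agent.Grp.GenDihedral.Config.false (C := C) (N := N) (t := t) (m := m)
    ⟨hCN, hC, hN, hcomm, ?_, hm3.1, htC, ht, huniq, hinv, ?_, hTI', hcent, hconj, ?_⟩
  · obtain ⟨⟨c, hc⟩, hc3⟩ := exists_prime_orderOf_dvd_card' (G := (P : Subgroup G)) 3 hm3.2
    rw [Subgroup.orderOf_mk] at hc3
    exact ⟨c, hPC hc, fun h => by simp [h] at hc3, by rw [← hc3, pow_orderOf_eq_one]⟩
  · intro a ha haC
    refine orderOf_eq_prime ?_ (fun h => haC (h ▸ C.one_mem))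
    obtain ⟨d, hd, rfl⟩ := houter a ha haC
    have h1 := hinvU d hd
    rw [inv_eq_of_mul_eq_one_right hu2] at h1
    rw [pow_two, ← mul_assoc, h1, inv_mul_cancel]
  · intro a b ha hb hne
    have ha2 : a * a = 1 := by rw [← pow_two, ← ha, pow_orderOf_eq_one]
    have hb2 : b * b = 1 := by rw [← pow_two, ← hb, pow_orderOf_eq_one]
    set y := a * b with hy
    set H := Subgroup.closure ({a, b} : Set G) with hH
    have haH : a ∈ H := Subgroup.subset_closure (Set.mem_insert _ _)
    have hbH : b ∈ H := Subgroup.subset_closure (Set.mem_insert_of_mem _ rfl)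
    have hHtop : H ≠ ⊤ := by
      intro htop
      have hn : ∀ x ∈ ({a, b} : Set G), x ∈ Subgroup.normalizer ((Subgroup.zpowers y : Subgroup G) : Set G) := by
        have key : ∀ x : G, x * x = 1 → x * y * x⁻¹ = y⁻¹ →
            x ∈ Subgroup.normalizer ((Subgroup.zpowers y : Subgroup G) : Set G) := by
          intro x hx hxy
          refine Subgroup.mem_normalizer_iff.mpr fun w => ?_
          have hf : ∀ w ∈ Subgroup.zpowers y, x * w * x⁻¹ ∈ Subgroup.zpowers y := by
            intro w hw
            obtain ⟨k, rfl⟩ := Subgroup.mem_zpowers_iff.mp hw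
            rw [← conj_zpow, hxy]
            exact zpow_mem (inv_mem (Subgroup.mem_zpowers y)) k
          refine ⟨hf w, fun h => ?_⟩
          have hh := hf _ h
          have e : x * (x * w * x⁻¹) * x⁻¹ = w := by
            rw [inv_eq_of_mul_eq_one_right hx, ← mul_assoc, ← mul_assoc, hx, one_mul, mul_assoc, hx, mul_one]
          rwa [e] at hh
        rintro x (rfl | rfl)
        · refine key _ ha2 ?_
          rw [hy, mul_inv_rev, inv_eq_of_mul_eq_one_right ha2, inv_eq_of_mul_eq_one_right hb2]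
          simp [← mul_assoc, ha2]
        · refine key _ hb2 ?_
          rw [hy, mul_inv_rev, inv_eq_of_mul_eq_one_right ha2, inv_eq_of_mul_eq_one_right hb2]
          simp [mul_assoc, hb2]
      have htop' : Subgroup.normalizer ((Subgroup.zpowers y : Subgroup G) : Set G) = ⊤ :=
        top_le_iff.mp (htop ▸ (Subgroup.closure_le _).mpr hn)
      rcases IsSimpleGroup.eq_bot_or_eq_top_of_normal (Subgroup.zpowers y)
        (Subgroup.normalizer_eq_top_iff.mp htop') with h | h
      · exact hne (by simp [Subgroup.zpowers_eq_bot.mp h])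
      · refine hnonab ⟨⟨fun p q => ?_⟩⟩
        obtain ⟨i, rfl⟩ := Subgroup.mem_zpowers_iff.mp (h ▸ Subgroup.mem_top p)
        obtain ⟨j, rfl⟩ := Subgroup.mem_zpowers_iff.mp (h ▸ Subgroup.mem_top q)
        rw [← zpow_add, ← zpow_add, add_comm]
    have hd := heven H hHtop (ha ▸ Subgroup.orderOf_dvd_natCard H haH)
    have hyd : orderOf y ∣ 4 * m :=
      (Subgroup.orderOf_dvd_natCard H (mul_mem haH hbH)).trans hd
    have h3y : 3 ∣ orderOf y := by
      by_contra h3
      have hd4 : orderOf y ∣ 2 ^ 2 := by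
        refine Nat.Coprime.dvd_of_dvd_mul_right ?_ hyd
        rw [hPn]
        exact ((Nat.Prime.coprime_iff_not_dvd Nat.prime_three).mpr h3).symm.pow_right n
      obtain ⟨Q, hQ⟩ := (IsPGroup.of_card (p := 2) (G := Subgroup.zpowers y)
        (n := Classical.choose ((Nat.dvd_prime_pow Nat.prime_two).mp hd4))
        (by rw [Nat.card_zpowers]; exact (Classical.choose_spec ((Nat.dvd_prime_pow Nat.prime_two).mp hd4)).2)).exists_le_sylow
      obtain ⟨g, hg⟩ := MulAction.exists_smul_eq G Q S
      have hmem : g * y * g⁻¹ ∈ (S : Subgroup G) := by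
        rw [← hg, Sylow.coe_subgroup_smul, Subgroup.mem_pointwise_smul_iff_inv_smul_mem]
        simpa [mul_assoc] using hQ (Subgroup.mem_zpowers y)
      have h2 := hexp _ hmem
      refine hne ?_
      rw [pow_two]
      calc y * y = g⁻¹ * ((g * y * g⁻¹) * (g * y * g⁻¹)) * g := by group
        _ = 1 := by rw [h2]; group
    obtain ⟨k, hk⟩ := h3y
    have hy0 : orderOf (y ^ k) = 3 := by
      rw [orderOf_pow_of_dvd (by intro h; simp [h, (orderOf_pos y).ne'] at hk) ⟨3, by rw [hk]; ring⟩, hk]
      exact Nat.mul_div_cancel 3 (Nat.pos_of_ne_zero (by intro h; simp [h, (orderOf_pos y).ne'] at hk))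
    obtain ⟨Q, hQ⟩ := (IsPGroup.of_card (p := 3) (G := Subgroup.zpowers (y ^ k)) (n := 1)
      (by rw [Nat.card_zpowers, hy0, pow_one])).exists_le_sylow
    obtain ⟨g, hg⟩ := MulAction.exists_smul_eq G Q P
    have hmem : g * y ^ k * g⁻¹ ∈ (P : Subgroup G) := by
      have hw := hQ (Subgroup.mem_zpowers (y ^ k))
      generalize y ^ k = w at hw ⊢
      rw [← hg, Sylow.coe_subgroup_smul, Subgroup.mem_pointwise_smul_iff_inv_smul_mem]
      simpa [mul_assoc] using hw
    refine ⟨g, ?_⟩
    have hp1 : g * y ^ k * g⁻¹ ≠ 1 := fun h => by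
      have : y ^ k = 1 := conj_eq_one_iff.mp h
      simp [this] at hy0
    have hcm : g * y * g⁻¹ * (g * y ^ k * g⁻¹) * (g * y * g⁻¹)⁻¹ = g * y ^ k * g⁻¹ := by
      rw [← conj_pow]
      exact ((Commute.self_pow (g * y * g⁻¹) k).eq).symm ▸ mul_inv_cancel_right _ _
    have hwN := hTI' (g * y * g⁻¹) _ (hPC hmem) hp1 (hcm.symm ▸ hPC hmem)
    by_contra hwC
    have h1 := hinv _ hwN hwC _ (hPC hmem)
    rw [hcm] at h1
    exact hp1 (hPsq _ hmem (mul_eq_one_iff_eq_inv.mpr h1))

end Cfsg.Agent.S4018
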