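import Cfsg.Statements.S4027
import Cfsg.Agent.Lib.Grp.Real
-- import your own Cfsg.Agent.* helpers here

set_option autoImplicit false
open Cfsg

namespace Cfsg.Agent.S4027

/-- Let G be a finite group in which every element x of odd order satisfies N_G(⟨x⟩) = C_G(x). Then the Sylow 2-subgroups of G are normal. -/
theorem result {G : Type*} [Group G] [Finite G]
    (hirr : ∀ x : G, (∀ r : ℕ, r.Prime → r ∣ orderOf x → r ≠ 2) →
      Subgroup.normalizer ((Subgroup.zpowers x : Subgroup G) : Set G) ≤ Subgroup.centralizer {x}) (P : Sylow 2 G) :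
    (P : Subgroup G).Normal := by
  refine Cfsg.Agent.Grp.two_sylow_normal_of_no_real (fun x hx hodd hc => ?_) P
  obtain ⟨g, hg⟩ := isConj_iff.mp hc
  have hmem : g ∈ Subgroup.normalizer ((Subgroup.zpowers x : Subgroup G) : Set G) := by
    rw [Cfsg.Agent.Grp.mem_normalizer_iff_smul, ← Cfsg.Agent.Grp.map_conj_eq_smul, MonoidHom.map_zpowers]
    simp only [MulEquiv.coe_toMonoidHom, MulAut.conj_apply]
    rw [hg, Subgroup.zpowers_inv]
  have hC := hirr x (fun r hr hrd h2 => by
    subst h2; exact absurd hrd (Nat.two_dvd_ne_zero.mpr (Nat.odd_iff.mp hodd))) hmem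
  rw [Subgroup.mem_centralizer_singleton_iff] at hC
  rw [hC, mul_inv_cancel_right] at hg
  exact hx (Cfsg.Agent.Grp.eq_one_of_odd_of_sq hodd (mul_eq_one_iff_eq_inv.mpr hg))

end Cfsg.Agent.S4027
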