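import Cfsg.Statements.S4028
import Cfsg.Agent.Lib.Grp.SchurZassenhaus

set_option autoImplicit false
open Cfsg

namespace Cfsg.Agent.S4028

/-- Let G be a finite group with Sylow 2-subgroup P. Then N_G(⟨x⟩) = C_G(x) holds for every 2-element x of G if and only if N_P(⟨y⟩) = C_P(y) holds for every y ∈ P (computed inside P). -/
theorem result {G : Type*} [Group G] [Finite G] (P : Sylow 2 G) :
    (∀ x : G, (∀ r : ℕ, r.Prime → r ∣ orderOf x → r = 2) →
      Subgroup.normalizer ((Subgroup.zpowers x : Subgroup G) : Set G) ≤ Subgroup.centralizer {x}) ↔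
    (∀ y : ↥(P : Subgroup G), Subgroup.normalizer ((Subgroup.zpowers y : Subgroup ↥(P : Subgroup G)) : Set ↥(P : Subgroup G)) ≤
        Subgroup.centralizer {y}) := by
  constructor
  · intro h y g hg
    have hy : ∀ r : ℕ, r.Prime → r ∣ orderOf (y : G) → r = 2 := fun r hr hd => by
      obtain ⟨k, hk⟩ := IsPGroup.iff_orderOf.mp P.isPGroup' y
      rw [Subgroup.orderOf_coe, hk] at hd
      exact (Nat.prime_dvd_prime_iff_eq hr Nat.prime_two).mp (hr.dvd_of_dvd_pow hd)
    have h1 : (g : G) ∈ Subgroup.normalizer ((Subgroup.zpowers (y : G) : Subgroup G) : Set G) := by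
      have e := Subgroup.mem_normalizer_iff_map_conj_eq.mp hg
      refine Subgroup.mem_normalizer_iff_map_conj_eq.mpr ?_
      have e2 := congrArg (Subgroup.map (P : Subgroup G).subtype) e
      rw [Subgroup.map_map, MonoidHom.map_zpowers, MonoidHom.map_zpowers] at e2
      rw [MonoidHom.map_zpowers]
      exact e2
    exact Subgroup.mem_centralizer_singleton_iff.mpr
      (Subtype.ext (Subgroup.mem_centralizer_singleton_iff.mp (h y hy h1)))
  · intro h x hx g hg
    rw [Subgroup.mem_centralizer_singleton_iff]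
    obtain ⟨k, hk⟩ : ∃ k, orderOf x = 2 ^ k :=
      ⟨_, (Nat.eq_prime_pow_of_unique_prime_dvd (orderOf_pos x).ne' fun {r} hr hd => hx r hr hd)⟩
    set N := Subgroup.normalizer ((Subgroup.zpowers x : Subgroup G) : Set G) with hN
    have hodd : ∀ a ∈ N, Odd (orderOf a) → a * x = x * a := by
      intro a ha hd
      obtain ⟨m, hm⟩ := Subgroup.mem_zpowers_iff.mp
        ((Subgroup.mem_normalizer_iff.mp ha x).mp (Subgroup.mem_zpowers x))
      have hj : ∀ j : ℕ, a ^ j * x * (a ^ j)⁻¹ = x ^ (m ^ j) := by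
        intro j
        induction j with
        | zero => simp
        | succ j ih =>
          rw [pow_succ' a, show a * a ^ j * x * (a * a ^ j)⁻¹ = a * (a ^ j * x * (a ^ j)⁻¹) * a⁻¹ by group,
            ih, ← conj_zpow, ← hm, ← zpow_mul, pow_succ, mul_comm]
      have hd1 := hj (orderOf a)
      rw [pow_orderOf_eq_one, one_mul, inv_one, mul_one] at hd1
      have hmod : ((2 ^ k : ℕ) : ℤ) ∣ m ^ orderOf a - 1 := by
        rw [← hk, orderOf_dvd_iff_zpow_eq_one, zpow_sub, ← hd1, zpow_one, mul_inv_cancel]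
      have key : ((2 ^ k : ℕ) : ℤ) ∣ m - 1 := by
        rcases Nat.eq_zero_or_pos k with rfl | hk0
        · simp
        have hu : (m : ZMod (2 ^ k)) ^ orderOf a = 1 := by
          rw [← sub_eq_zero]
          exact_mod_cast (ZMod.intCast_zmod_eq_zero_iff_dvd _ _).mpr hmod
        have hmu : IsUnit (m : ZMod (2 ^ k)) := IsUnit.of_pow_eq_one hu (orderOf_pos a).ne'
        obtain ⟨u, hu'⟩ := hmu
        have h1 : orderOf u ∣ orderOf a := orderOf_dvd_of_pow_eq_one (Units.ext (by rw [Units.val_pow_eq_pow_val, hu', hu, Units.val_one]))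
        have h2 : orderOf u ∣ 2 ^ (k - 1) := by
          have h3 := orderOf_dvd_natCard u
          rwa [Nat.card_eq_fintype_card, ZMod.card_units_eq_totient, Nat.totient_prime_pow Nat.prime_two hk0,
            show 2 - 1 = 1 from rfl, mul_one] at h3
        have h3 : u = 1 := orderOf_eq_one_iff.mp (Nat.eq_one_of_dvd_coprimes
          (Nat.Coprime.pow_left _ (Nat.coprime_two_left.mpr hd)) h2 h1)
        rw [← ZMod.intCast_zmod_eq_zero_iff_dvd]
        push_cast
        rw [← hu', h3, Units.val_one, sub_self]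
      rw [← hk] at key
      have hx' : x ^ m = x := by
        have := orderOf_dvd_iff_zpow_eq_one.mp key
        rw [zpow_sub, zpow_one, mul_inv_eq_one] at this
        exact this
      rw [hx'] at hm
      exact mul_inv_eq_iff_eq_mul.mp hm.symm
    obtain ⟨a, d, hd, hod⟩ : ∃ a d : ℕ, ¬ 2 ∣ d ∧ orderOf g = 2 ^ a * d :=
      Nat.exists_eq_pow_mul_and_not_dvd (orderOf_pos g).ne' 2 (by norm_num)
    have hd0 : d ≠ 0 := fun e => hd (e ▸ dvd_zero 2)
    have c1 : g ^ (2 ^ a) * x = x * g ^ (2 ^ a) := hodd _ (pow_mem hg _) (by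
      rw [orderOf_pow_of_dvd (by positivity) (hod ▸ dvd_mul_right _ _), hod, Nat.mul_div_cancel_left _ (by positivity)]
      exact Nat.odd_iff.mpr (by omega))
    have c2 : g ^ d * x = x * g ^ d := by
      have hA : IsPGroup 2 (Subgroup.zpowers x) := IsPGroup.of_card (n := k) (by rw [Nat.card_zpowers, hk])
      have hB : IsPGroup 2 (Subgroup.zpowers (g ^ d)) := IsPGroup.of_card (n := a) (by
        rw [Nat.card_zpowers, orderOf_pow_of_dvd hd0 (hod ▸ dvd_mul_left _ _), hod, Nat.mul_div_cancel _ (Nat.pos_of_ne_zero hd0)])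
      obtain ⟨R, hR⟩ := (IsPGroup.to_sup_of_normal_left' hA hB (Subgroup.zpowers_le.mpr (pow_mem hg _))).exists_le_sylow
      obtain ⟨c, rfl⟩ := MulAction.exists_smul_eq G P R
      have hmem : ∀ w ∈ Subgroup.zpowers x ⊔ Subgroup.zpowers (g ^ d), c⁻¹ * w * c ∈ (P : Subgroup G) := fun w hw => by
        have := hR hw
        rw [Sylow.coe_subgroup_smul, Subgroup.mem_pointwise_smul_iff_inv_smul_mem] at this
        simpa [MulAut.smul_def, mul_assoc] using this
      have hgd := hmem _ (Subgroup.mem_sup_right (Subgroup.mem_zpowers (g ^ d)))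
      have hxc := hmem _ (Subgroup.mem_sup_left (Subgroup.mem_zpowers x))
      have hn : (⟨c⁻¹ * g ^ d * c, hgd⟩ : (P : Subgroup G)) ∈ Subgroup.normalizer
          ((Subgroup.zpowers (⟨c⁻¹ * x * c, hxc⟩ : (P : Subgroup G)) : Subgroup _) : Set (P : Subgroup G)) := by
        refine Subgroup.mem_normalizer_iff_map_conj_eq.mpr (Subgroup.map_injective (Subgroup.subtype_injective _) ?_)
        rw [Subgroup.map_map, MonoidHom.map_zpowers, MonoidHom.map_zpowers]
        have e := congrArg (Subgroup.map (MulAut.conj c⁻¹).toMonoidHom)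
          (Subgroup.mem_normalizer_iff_map_conj_eq.mp (pow_mem hg d : g ^ d ∈ N))
        rw [Subgroup.map_map, MonoidHom.map_zpowers, MonoidHom.map_zpowers] at e
        simpa [mul_assoc, ← map_pow] using e
      have := congrArg Subtype.val (Subgroup.mem_centralizer_singleton_iff.mp (h _ hn))
      simp only [Subgroup.coe_mul] at this
      rw [show c⁻¹ * g ^ d * c * (c⁻¹ * x * c) = c⁻¹ * (g ^ d * x) * c by group,
        show c⁻¹ * x * c * (c⁻¹ * g ^ d * c) = c⁻¹ * (x * g ^ d) * c by group] at this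
      exact mul_left_cancel (mul_right_cancel this)
    have hz : g ∈ Subgroup.centralizer ({x} : Set G) := by
      obtain ⟨u, v, huv⟩ : ∃ u v : ℤ, u * (2 ^ a : ℕ) + v * d = 1 :=
        Int.isCoprime_iff_nat_coprime.mpr (by simpa using Nat.Coprime.pow_left a (Nat.prime_two.coprime_iff_not_dvd.mpr hd))
      have e : g = (g ^ (2 ^ a)) ^ u * (g ^ d) ^ v := by
        conv_lhs => rw [← zpow_one g, ← huv, zpow_add, zpow_mul', zpow_mul', zpow_natCast, zpow_natCast]
      rw [e]
      exact mul_mem (zpow_mem (Subgroup.mem_centralizer_singleton_iff.mpr c1) _)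
        (zpow_mem (Subgroup.mem_centralizer_singleton_iff.mpr c2) _)
    exact Subgroup.mem_centralizer_singleton_iff.mp hz

end Cfsg.Agent.S4028
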