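import Cfsg.Statements.S4029
import Mathlib
import Cfsg.Agent.Lib.Grp.Frattini

set_option autoImplicit false
open Cfsg

namespace Cfsg.Agent.S4029

/-- Let P be a finite 2-group in which N_P(⟨y⟩) = C_P(y) for every y ∈ P. If s is the number of conjugacy classes of involutions of P, then #(P/Φ(P)) ≤ s + 1; in particular the subgroup generated by the involutions of P has order at least #(P/Φ(P)). -/
theorem result {P : Type*} [Group P] [Finite P] (hP : IsPGroup 2 P)
    (hirr : ∀ y : P, Subgroup.normalizer ((Subgroup.zpowers y : Subgroup P) : Set P) ≤ Subgroup.centralizer {y}) :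
    Nat.card (P ⧸ frattini P) ≤ Nat.card {c : ConjClasses P // ∃ y : P, ConjClasses.mk y = c ∧ orderOf y = 2} + 1 ∧
    Nat.card (P ⧸ frattini P) ≤ Nat.card (Subgroup.closure {y : P | orderOf y = 2}) := by
  classical
  haveI : Fact (Nat.Prime 2) := ⟨Nat.prime_two⟩
  have := Fintype.ofFinite P
  -- the only real elements are the elements of order at most two
  have hreal : ∀ g x : P, g * x * g⁻¹ = x⁻¹ → x * x = 1 := by
    intro g x hgx
    have hN : g ∈ Subgroup.normalizer ((Subgroup.zpowers x : Subgroup P) : Set P) := by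
      rw [Subgroup.mem_normalizer_iff]
      intro z
      constructor
      · rintro ⟨i, rfl⟩
        exact ⟨-i, by simp only [← conj_zpow, hgx, inv_zpow, zpow_neg]⟩
      · rintro ⟨i, hi⟩
        refine ⟨-i, ?_⟩
        have e : g * x ^ (-i) * g⁻¹ = g * z * g⁻¹ := by
          rw [← conj_zpow, hgx, inv_zpow, zpow_neg, inv_inv]; exact hi
        exact mul_left_cancel (mul_right_cancel e)
    have h1 := Subgroup.mem_centralizer_singleton_iff.mp (hirr x hN)
    rw [h1, mul_inv_cancel_right] at hgx
    nth_rw 1 [hgx]; exact inv_mul_cancel x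
  -- real pairs correspond to pairs with equal squares
  let R := {p : P × P // p.1 * p.2 * p.1⁻¹ = p.2⁻¹}
  let Sq := {p : P × P // p.1 * p.1 = p.2 * p.2}
  have key : ∀ g x : P, g * x * g⁻¹ = x⁻¹ ↔ g * g = g * x * (g * x) := by
    intro g x
    rw [show g * x * (g * x) = g * (x * g * x) by group, mul_right_inj]
    constructor
    · intro h
      have : x * g * x = g * ((g⁻¹ * x * g) * x) := by group
      rw [this]
      have h2 : g⁻¹ * x * g = x⁻¹ := by
        rw [show g⁻¹ * x * g = g⁻¹ * (x⁻¹)⁻¹ * g by group]; nth_rw 1 [← h]; group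
      rw [h2, inv_mul_cancel, mul_one]
    · intro h
      calc g * x * g⁻¹ = x⁻¹ * (x * g * x) * g⁻¹ := by group
        _ = x⁻¹ := by rw [← h, mul_inv_cancel_right]
  let e : R ≃ Sq :=
    { toFun := fun p => ⟨(p.1.1, p.1.1 * p.1.2), (key _ _).mp p.2⟩
      invFun := fun p => ⟨(p.1.1, p.1.1⁻¹ * p.1.2), (key _ _).mpr (by simpa using p.2)⟩
      left_inv := fun p => Subtype.ext (Prod.ext rfl (by simp))
      right_inv := fun p => Subtype.ext (Prod.ext rfl (by simp)) }
  have hlow : Nat.card P * (frattini P).index ≤ Nat.card Sq := by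
    set r : P → ℕ := fun t => (Finset.univ.filter (fun g : P => g * g = t)).card with hr
    set T : Finset P := Finset.univ.filter (fun t => t ∈ frattini P) with hT
    have hsum : ∑ t ∈ T, r t = Fintype.card P := by
      rw [← Finset.card_univ, hr]
      refine (Finset.card_eq_sum_card_fiberwise fun g _ => ?_).symm
      simp only [hT, Finset.coe_filter, Finset.mem_univ, true_and, Set.mem_ofPred_eq, ← pow_two]
      exact Agent.Grp.pGroup_pow_mem_frattini hP g
    have hsq : ∑ t ∈ T, r t ^ 2 = Nat.card Sq := by
      rw [Nat.card_eq_fintype_card, Fintype.card_subtype,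
        Finset.card_eq_sum_card_fiberwise (f := fun p : P × P => p.1 * p.1) (t := T) fun p _ => ?_]
      · refine Finset.sum_congr rfl fun t _ => ?_
        rw [pow_two, hr, ← Finset.card_product]
        refine congrArg Finset.card (Finset.ext fun p => ?_)
        simp only [Finset.mem_product, Finset.mem_filter, Finset.mem_univ, true_and]
        constructor
        · rintro ⟨h1, h2⟩; exact ⟨h1.trans h2.symm, h1⟩
        · rintro ⟨h1, h2⟩; exact ⟨h2, h1.symm.trans h2⟩
      · simp only [hT, Finset.coe_filter, Finset.mem_univ, true_and, Set.mem_ofPred_eq, ← pow_two]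
        exact Agent.Grp.pGroup_pow_mem_frattini hP p.1
    have hTc : T.card = Nat.card (frattini P) := by
      rw [Nat.card_eq_fintype_card, ← Fintype.card_subtype]
    have hcs := sq_sum_le_card_mul_sum_sq (s := T) (f := r)
    rw [hsum, hsq, hTc, ← Nat.card_eq_fintype_card, pow_two] at hcs
    refine Nat.le_of_mul_le_mul_left ?_ (Nat.card_pos (α := frattini P))
    calc Nat.card (frattini P) * (Nat.card P * (frattini P).index)
        = Nat.card P * (Nat.card (frattini P) * (frattini P).index) := by ring
      _ = Nat.card P * Nat.card P := by rw [Subgroup.card_mul_index]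
      _ ≤ _ := hcs
  let I := {x : P // x * x = 1}
  have hRI : R ≃ {p : P × I // p.1 * (p.2 : P) = (p.2 : P) * p.1} :=
    { toFun := fun p => ⟨(p.1.1, ⟨p.1.2, hreal _ _ p.2⟩), by
        have := p.2
        rw [inv_eq_of_mul_eq_one_right (hreal _ _ p.2)] at this
        exact mul_inv_eq_iff_eq_mul.mp this⟩
      invFun := fun p => ⟨(p.1.1, p.1.2), by
        rw [inv_eq_of_mul_eq_one_right p.1.2.2, mul_inv_eq_iff_eq_mul]; exact p.2⟩
      left_inv := fun p => rfl
      right_inv := fun p => rfl }
  -- classes of elements of order at most two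
  let C := {c : ConjClasses P // ∃ y : P, ConjClasses.mk y = c ∧ y * y = 1}
  have hclass : Nat.card {p : P × I // p.1 * (p.2 : P) = (p.2 : P) * p.1} = Nat.card P * Nat.card C := by
    let fC : {p : P × I // p.1 * (p.2 : P) = (p.2 : P) * p.1} → C := fun p => ⟨ConjClasses.mk (p.1.2 : P), _, rfl, p.1.2.2⟩
    rw [Nat.card_congr (Equiv.sigmaFiberEquiv fC).symm, Nat.card_sigma]
    rw [Finset.sum_congr rfl (g := fun _ => Nat.card P) fun c _ => ?_, Finset.sum_const, Finset.card_univ,
      ← Nat.card_eq_fintype_card, smul_eq_mul, mul_comm]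
    obtain ⟨c, y, rfl, hy⟩ := c
    have horb : ∀ z : P, ConjClasses.mk z = ConjClasses.mk y → z * z = 1 := by
      intro z hz
      obtain ⟨g, rfl⟩ := isConj_iff.mp (ConjClasses.mk_eq_mk_iff_isConj.mp hz).symm
      rw [show g * y * g⁻¹ * (g * y * g⁻¹) = g * (y * y) * g⁻¹ by group, hy, mul_one, mul_inv_cancel]
    calc Nat.card {p // fC p = ⟨ConjClasses.mk y, y, rfl, hy⟩}
        = Nat.card (Σ z : MulAction.orbit (ConjAct P) y, MulAction.stabilizer (ConjAct P) (z : P)) := by
          refine Nat.card_congr
            { toFun := fun p => ⟨⟨(p.1.1.2 : P), by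
                rw [ConjAct.mem_orbit_conjAct, ← ConjClasses.mk_eq_mk_iff_isConj]
                exact congrArg Subtype.val p.2⟩, ⟨ConjAct.toConjAct p.1.1.1, by
                show ConjAct.toConjAct p.1.1.1 • (p.1.1.2 : P) = p.1.1.2
                rw [ConjAct.smul_def, ConjAct.ofConjAct_toConjAct, p.1.2, mul_inv_cancel_right]⟩⟩
              invFun := fun z => ⟨⟨(ConjAct.ofConjAct z.2.1, ⟨z.1.1, horb _ (ConjClasses.mk_eq_mk_iff_isConj.mpr (ConjAct.mem_orbit_conjAct.mp z.1.2))⟩), by
                have h1 := z.2.2
                rw [MulAction.mem_stabilizer_iff, ConjAct.smul_def] at h1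
                exact mul_inv_eq_iff_eq_mul.mp h1⟩, Subtype.ext (ConjClasses.mk_eq_mk_iff_isConj.mpr (ConjAct.mem_orbit_conjAct.mp z.1.2))⟩
              left_inv := fun p => rfl
              right_inv := fun z => rfl }
      _ = Nat.card P := by
          rw [Nat.card_sigma, Finset.sum_congr rfl (g := fun _ => Nat.card (MulAction.stabilizer (ConjAct P) y)) fun z _ => ?_,
            Finset.sum_const, Finset.card_univ, smul_eq_mul, ← Nat.card_eq_fintype_card,
            ← Nat.card_prod, Nat.card_congr (MulAction.orbitProdStabilizerEquivGroup (ConjAct P) y)]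
          · exact Nat.card_congr ConjAct.ofConjAct.toEquiv
          · obtain ⟨g, hg⟩ := z.2
            change g • y = (z : P) at hg
            rw [← hg]
            exact Nat.card_congr (MulAction.stabilizerEquivStabilizer rfl).toEquiv.symm
  have hC1 : Nat.card C ≤ Nat.card {c : ConjClasses P // ∃ y : P, ConjClasses.mk y = c ∧ orderOf y = 2} + 1 := by
    rw [← Finite.card_option]
    refine Nat.card_le_card_of_injective (fun c : C => if h : ∃ y : P, ConjClasses.mk y = (c : ConjClasses P) ∧ orderOf y = 2
      then some ⟨c.1, h⟩ else none) ?_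
    intro c d hcd
    have h1 : ∀ c : C, (¬ ∃ y : P, ConjClasses.mk y = (c : ConjClasses P) ∧ orderOf y = 2) → (c : ConjClasses P) = ConjClasses.mk 1 := by
      rintro ⟨c, y, rfl, hy⟩ hn
      by_cases hy1 : y = 1
      · subst hy1; rfl
      · exact absurd ⟨y, rfl, orderOf_eq_prime (by rw [pow_two]; exact hy) hy1⟩ hn
    apply Subtype.ext
    simp only at hcd
    split_ifs at hcd with hc hd hd
    · simpa using hcd
    · rw [h1 c hc, h1 d hd]
  have hmain : Nat.card (P ⧸ frattini P) ≤ Nat.card C := by
    refine Nat.le_of_mul_le_mul_left ?_ (Nat.card_pos (α := P))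
    rw [← Subgroup.index_eq_card, ← hclass, ← Nat.card_congr hRI, Nat.card_congr e]
    exact hlow
  refine ⟨hmain.trans hC1, hmain.trans ?_⟩
  set H := Subgroup.closure {y : P | orderOf y = 2}
  refine Nat.card_le_card_of_injective (fun c : C => (⟨Classical.choose c.2, ?_⟩ : H)) ?_
  · have h := (Classical.choose_spec c.2).2
    by_cases h1 : Classical.choose c.2 = 1
    · rw [h1]; exact one_mem _
    · exact Subgroup.subset_closure (orderOf_eq_prime (by rw [pow_two]; exact h) h1)
  · intro c d hcd
    have := congrArg (fun z : H => ConjClasses.mk (z : P)) hcd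
    simp only at this
    rw [(Classical.choose_spec c.2).1, (Classical.choose_spec d.2).1] at this
    exact Subtype.ext this

end Cfsg.Agent.S4029
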