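import Cfsg.Statements.S4031
import Cfsg.Agent.S2757
import Cfsg.Agent.Lib.Lie.Sz.LieEquiv
import Cfsg.Agent.Lib.Classical.SLTwoSmall

set_option autoImplicit false
open Cfsg

namespace Cfsg.Agent.S4031

/-- A field isomorphism gives an isomorphism of projective special linear groups. -/
noncomputable def pslCongrOfField {F K : Type*} [Field F] [Field K] (e : F ≃+* K) :
    Matrix.ProjectiveSpecialLinearGroup (Fin 2) F ≃* Matrix.ProjectiveSpecialLinearGroup (Fin 2) K :=
  QuotientGroup.congr _ _ (Classical.SLTwoSmall.mapEquiv e 2) (by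
    ext x
    rw [Subgroup.mem_map]
    constructor
    · rintro ⟨y, hy, rfl⟩
      refine Subgroup.mem_center_iff.2 fun z => ?_
      obtain ⟨w, rfl⟩ := (Classical.SLTwoSmall.mapEquiv e 2).surjective z
      exact (map_mul _ w y).symm.trans ((congrArg _ (Subgroup.mem_center_iff.1 hy w)).trans (map_mul _ y w))
    · intro hx
      refine ⟨(Classical.SLTwoSmall.mapEquiv e 2).symm x, Subgroup.mem_center_iff.2 fun z => ?_,
        (Classical.SLTwoSmall.mapEquiv e 2).apply_symm_apply x⟩
      apply (Classical.SLTwoSmall.mapEquiv e 2).injective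
      simpa using Subgroup.mem_center_iff.1 hx (Classical.SLTwoSmall.mapEquiv e 2 z))

theorem not_simple_psl_two_three {G : Type*} [Group G] [IsSimpleGroup G] (hna : ¬ IsMulCommutative G)
    (e : Matrix.ProjectiveSpecialLinearGroup (Fin 2) (ZMod 3) ≃* G) : False := by
  let f : Matrix.SpecialLinearGroup (Fin 2) (ZMod 3) →* G :=
    e.toMonoidHom.comp (QuotientGroup.mk' _)
  have hsurj : Function.Surjective f := e.surjective.comp (QuotientGroup.mk'_surjective _)
  haveI := Classical.SLTwoSmall.range_normal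
  have hn : ((Classical.SLTwoSmall.quatHom.range).map f).Normal :=
    Subgroup.Normal.map inferInstance f hsurj
  have hker : f.ker = Subgroup.center _ := by
    ext x
    simp [f]
  rcases hn.eq_bot_or_eq_top with h | h
  · rw [Subgroup.map_eq_bot_iff, hker] at h
    have := Subgroup.card_le_of_le h
    rw [Classical.SLTwoSmall.card_range, Classical.SLTwoSmall.card_center] at this
    omega
  · have h1 := Subgroup.card_map_dvd (Classical.SLTwoSmall.quatHom.range) f
    have h2 : Nat.card G * 2 = 24 := by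
      rw [← Classical.SLTwoSmall.card_three, ← Subgroup.index_mul_card f.ker, Subgroup.index_ker,
        MonoidHom.range_eq_top.2 hsurj, Subgroup.card_top, hker, Classical.SLTwoSmall.card_center]
    rw [h, Subgroup.card_top, Classical.SLTwoSmall.card_range] at h1
    have := Nat.le_of_dvd (by norm_num) h1
    omega

/-- Let G be a finite non-abelian simple group in which N_G(⟨x⟩) = C_G(x) for every 3-element x. Then either G is isomorphic to PSL₂(q) with q an odd power of 3, q ≥ 27, or G is simple of the order of a Suzuki group (so 3 does not divide its order). -/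
theorem result {G : Type*} [Group G] [Finite G] [IsSimpleGroup G] (hna : ¬ IsMulCommutative G)
    (hirr : ∀ x : G, (∀ r : ℕ, r.Prime → r ∣ orderOf x → r = 3) →
      Subgroup.normalizer ((Subgroup.zpowers x : Subgroup G) : Set G) ≤ Subgroup.centralizer {x}) :
    (∃ f : ℕ, 1 ≤ f ∧ Nonempty (G ≃* Matrix.ProjectiveSpecialLinearGroup (Fin 2) (GaloisField 3 (2 * f + 1)))) ∨
    Cfsg.IsSuzuki G := by
  haveI : Fact (Nat.Prime 3) := ⟨Nat.prime_three⟩
  obtain ⟨T⟩ := (inferInstance : Nonempty (Sylow 3 G))
  have h : ∀ x ∈ (T : Subgroup G), x ≠ 1 → ∀ g ∈ Subgroup.normalizer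
      (Cfsg.centerThompsonAOf (T : Subgroup G) : Set G), g * x * g⁻¹ ≠ x⁻¹ := by
    intro x hx hx1 g _ hinv
    obtain ⟨k, hk⟩ := T.isPGroup' ⟨x, hx⟩
    have hxk : x ^ 3 ^ k = 1 := by simpa using congrArg Subtype.val hk
    have hord : ∀ r : ℕ, r.Prime → r ∣ orderOf x → r = 3 := fun r hr hd =>
      (Nat.prime_dvd_prime_iff_eq hr Nat.prime_three).1
        (hr.dvd_of_dvd_pow (hd.trans (orderOf_dvd_of_pow_eq_one hxk)))
    have hg : g ∈ Subgroup.normalizer ((Subgroup.zpowers x : Subgroup G) : Set G) := by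
      rw [Subgroup.mem_normalizer_iff]
      intro y
      have hc : (Subgroup.zpowers x).map (MulAut.conj g).toMonoidHom = Subgroup.zpowers x := by
        rw [MonoidHom.map_zpowers]
        simp [hinv]
      constructor
      · intro hy
        rw [← hc]
        exact ⟨y, hy, rfl⟩
      · intro hy
        rw [← hc] at hy
        obtain ⟨z, hz, hze⟩ := hy
        have : z = y := (MulAut.conj g).injective hze
        exact this ▸ hz
    have hcg := Subgroup.mem_centralizer_singleton_iff.1 (hirr x hord hg)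
    have hxx : x = x⁻¹ := by rw [← hinv, hcg, mul_inv_cancel_right]
    have h2 : orderOf x ∣ 2 := orderOf_dvd_of_pow_eq_one (by rw [pow_two]; nth_rw 2 [hxx]; group)
    rcases (Nat.dvd_prime Nat.prime_two).1 h2 with h1 | h1
    · exact hx1 (orderOf_eq_one_iff.1 h1)
    · have := hord 2 Nat.prime_two (h1 ▸ dvd_rfl); omega
  obtain ⟨-, hK⟩ := S2757.result T h
  have e₀ : (↥(⊤ : Subgroup G) ⧸ (⊥ : Subgroup ↥(⊤ : Subgroup G))) ≃* G :=
    QuotientGroup.quotientBot.trans Subgroup.topEquiv
  haveI : IsSimpleGroup (↥(⊤ : Subgroup G) ⧸ (⊥ : Subgroup ↥(⊤ : Subgroup G))) :=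
    e₀.isSimpleGroup
  have hna' : ¬ IsMulCommutative (↥(⊤ : Subgroup G) ⧸ (⊥ : Subgroup ↥(⊤ : Subgroup G))) := fun hc =>
    hna ⟨⟨fun a b => by
      obtain ⟨a, rfl⟩ := e₀.surjective a
      obtain ⟨b, rfl⟩ := e₀.surjective b
      rw [← map_mul, ← map_mul, hc.is_comm.comm]⟩⟩
  rcases hK ⊤ Subgroup.IsSubnormal.top ⊥ inferInstance hna' with hS | ⟨F, _, _, n, hF, ⟨e⟩⟩
  · right
    obtain ⟨F, _, _, m, hm, hF, ⟨e⟩⟩ := hS
    have hSz : Suz.SzField F m := ⟨hm, hF⟩
    refine ⟨inferInstance, m, hm, ?_⟩
    rw [Nat.card_congr ((e₀.symm.trans e).trans (Suz.szEquiv hSz).symm).toEquiv, Suz.card_Sz hSz]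
  · left
    refine ⟨n, ?_, ?_⟩
    · rcases Nat.eq_zero_or_pos n with h0 | h0
      · subst h0
        exfalso
        have hcard : Fintype.card F = Fintype.card (ZMod 3) := by rw [hF, ZMod.card]; rfl
        exact not_simple_psl_two_three hna
          (((pslCongrOfField (FiniteField.ringEquivOfCardEq hcard)).symm.trans e.symm).trans e₀)
      · exact h0
    · haveI := Fintype.ofFinite (GaloisField 3 (2 * n + 1))
      have hcard : Fintype.card F = Fintype.card (GaloisField 3 (2 * n + 1)) := by
        rw [hF, ← Nat.card_eq_fintype_card, GaloisField.card 3 (2 * n + 1) (by omega)]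
      exact ⟨(e₀.symm.trans e).trans (pslCongrOfField (FiniteField.ringEquivOfCardEq hcard))⟩

end Cfsg.Agent.S4031
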