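import Cfsg.Statements.S4032
import Cfsg.Agent.Lib.Grp.QuotientNormalizer

set_option autoImplicit false
open Cfsg

namespace Cfsg.Agent.S4032

/-- Let π be a set of primes and G a finite group in which N_G(⟨x⟩) = C_G(x) for every π-element x. If N is a normal subgroup of G whose order is divisible by no prime of π, then G/N has the same property: N_{G/N}(⟨y⟩) = C_{G/N}(y) for every π-element y of G/N. -/
theorem result {G : Type*} [Group G] [Finite G] (π : Set ℕ)
    (hirr : ∀ x : G, (∀ r : ℕ, r.Prime → r ∣ orderOf x → r ∈ π) →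
      Subgroup.normalizer ((Subgroup.zpowers x : Subgroup G) : Set G) ≤ Subgroup.centralizer {x})
    (N : Subgroup G) [N.Normal] (hN : ∀ r : ℕ, r.Prime → r ∣ Nat.card N → r ∉ π) :
    ∀ y : G ⧸ N, (∀ r : ℕ, r.Prime → r ∣ orderOf y → r ∈ π) →
      Subgroup.normalizer ((Subgroup.zpowers y : Subgroup (G ⧸ N)) : Set (G ⧸ N)) ≤ Subgroup.centralizer {y} := by
  intro y hy g hg
  obtain ⟨x0, rfl⟩ := QuotientGroup.mk'_surjective N y
  set d := orderOf (QuotientGroup.mk' N x0) with hd
  have hdpos : 0 < d := orderOf_pos _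
  have hcop : (Nat.card N).Coprime d := Nat.coprime_of_dvd fun r hr h1 h2 => hN r hr h1 (hy r hr h2)
  obtain ⟨s, hs⟩ : ∃ s, Nat.card N * s ≡ 1 [MOD d] := by
    rcases eq_or_ne d 1 with h | h
    · exact ⟨0, by rw [h]; exact Nat.modEq_one⟩
    · obtain ⟨s, -, hs⟩ := Nat.exists_mul_mod_eq_one_of_coprime hcop (by omega)
      exact ⟨s, by rw [Nat.ModEq, hs, Nat.mod_eq_of_lt (by omega)]⟩
  set x := x0 ^ (Nat.card N * s) with hx
  have hxy : QuotientGroup.mk' N x = QuotientGroup.mk' N x0 := by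
    rw [hx, map_pow, ← pow_mod_orderOf, hs, pow_mod_orderOf, pow_one]
  have hxd : orderOf x ∣ d := by
    refine orderOf_dvd_of_pow_eq_one ?_
    have h1 : x0 ^ d ∈ N := by
      rw [← QuotientGroup.eq_one_iff]
      show QuotientGroup.mk' N (x0 ^ d) = 1
      rw [map_pow, hd, pow_orderOf_eq_one]
    have h2 := pow_card_eq_one' (G := N) (x := ⟨x0 ^ d, h1⟩)
    have h3 : (x0 ^ d) ^ Nat.card N = 1 := congrArg Subtype.val h2
    rw [hx, ← pow_mul, show Nat.card N * s * d = d * Nat.card N * s by ring, pow_mul, pow_mul, h3, one_pow]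
  have hc : (Nat.card N).Coprime (Nat.card (Subgroup.zpowers x)) := by
    rw [Nat.card_zpowers]; exact Nat.Coprime.coprime_dvd_right hxd hcop
  have hg' : g ∈ Subgroup.normalizer (((Subgroup.zpowers x).map (QuotientGroup.mk' N) : Subgroup (G ⧸ N)) : Set (G ⧸ N)) := by
    rw [MonoidHom.map_zpowers, hxy]; exact hg
  rw [Grp.QuotNorm.normalizer_map N _ hc (Or.inr inferInstance)] at hg'
  obtain ⟨h, hh, rfl⟩ := hg'
  have h4 := Subgroup.mem_centralizer_singleton_iff.mp (hirr x (fun r hr h => hy r hr (h.trans hxd)) hh)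
  rw [Subgroup.mem_centralizer_singleton_iff, ← hxy, ← map_mul, ← map_mul, h4]

end Cfsg.Agent.S4032
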