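import Cfsg.Statements.S4036
import Mathlib

set_option autoImplicit false
open Cfsg

namespace Cfsg.Agent.S4036

/-- Let P be a finite abelian p-group and K a group of automorphisms of P (a subgroup of Aut P) whose order is divisible by p. If all non-identity elements of K have the same fixed-point subgroup on P, then K has no non-trivial normal subgroup of order prime to p. -/
theorem result {P : Type*} [CommGroup P] [Finite P] {p : ℕ}
    [Fact p.Prime] (hP : IsPGroup p P) (K : Subgroup (MulAut P)) (hK : p ∣ Nat.card K)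
    (hfix : ∀ x y : MulAut P, x ∈ K → y ∈ K → x ≠ 1 → y ≠ 1 → ∀ v : P, x v = v ↔ y v = v) :
    ∀ N : Subgroup ↥K, N.Normal → ¬ p ∣ Nat.card N → N = ⊥ := by
  intro N hN hpN
  classical
  have : Fintype N := Fintype.ofFinite _
  obtain ⟨x, hx⟩ := exists_prime_orderOf_dvd_card' p hK
  have hx1 : (x : MulAut P) ≠ 1 := fun e => (Fact.out : p.Prime).ne_one (by
    rw [← hx, orderOf_eq_one_iff]; exact Subtype.ext e)
  let act : N → MulAut P := fun n => ((n : K) : MulAut P)
  let T : P →* P := MonoidHom.mk' (fun v => ∏ n : N, act n v) (fun a b => by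
    simp only [map_mul, Finset.prod_mul_distrib])
  have hTfix : ∀ (m : N) (v : P), act m (T v) = T v := by
    intro m v
    show act m (∏ n : N, act n v) = ∏ n : N, act n v
    rw [map_prod]
    exact Fintype.prod_equiv (Equiv.mulLeft m) _ _ (fun n => rfl)
  by_contra hne
  obtain ⟨⟨n, hn⟩, hn1⟩ := Subgroup.ne_bot_iff_exists_ne_one.mp hne
  have hn1' : (n : MulAut P) ≠ 1 := fun e => hn1 (Subtype.ext (Subtype.ext e))
  have hxfix : ∀ v, x.1 v = v → ∀ m : N, act m v = v := by
    intro v hv m
    rcases eq_or_ne (act m) 1 with e | e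
    · rw [e]; rfl
    · exact (hfix x.1 (act m) x.2 m.1.2 hx1 e v).mp hv
  have hxW : ∀ v ∈ T.ker, x.1 v ∈ T.ker := by
    intro v hv
    rw [MonoidHom.mem_ker] at hv ⊢
    show ∏ m : N, act m (x.1 v) = 1
    have e : ∏ m : N, act m (x.1 v) = x.1 (T v) := by
      show _ = x.1 (∏ m : N, act m v)
      rw [map_prod]
      let e : N ≃ N :=
        { toFun := fun m => ⟨x⁻¹ * m.1 * x, by simpa using hN.conj_mem m.1 m.2 x⁻¹⟩
          invFun := fun m => ⟨x * m.1 * x⁻¹, hN.conj_mem m.1 m.2 x⟩
          left_inv := fun m => Subtype.ext (by simp [mul_assoc])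
          right_inv := fun m => Subtype.ext (by simp [mul_assoc]) }
      refine Fintype.prod_equiv e _ _ (fun m => ?_)
      simp [e, act, MulAut.mul_apply]
    rw [e, hv, map_one]
  have hWfix : ∀ v ∈ T.ker, x.1 v = v → v = 1 := by
    intro v hv hfx
    have h1 : v ^ Fintype.card N = 1 := by
      rw [← hv]
      show _ = ∏ m : N, act m v
      simp [hxfix v hfx]
    obtain ⟨k, hk⟩ := IsPGroup.iff_orderOf.mp hP v
    refine orderOf_eq_one_iff.mp (Nat.eq_one_of_dvd_coprimes (Nat.Coprime.pow_left k ?_) (dvd_of_eq hk) (orderOf_dvd_of_pow_eq_one h1))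
    rw [← Nat.card_eq_fintype_card]
    exact (Fact.out : p.Prime).coprime_iff_not_dvd.mpr hpN
  have hW1 : T.ker ≠ ⊥ := by
    intro hbot
    refine hn1' (MulEquiv.ext fun v => ?_)
    have hinj : Function.Injective T := (MonoidHom.ker_eq_bot_iff T).mp hbot
    obtain ⟨w, rfl⟩ := Finite.surjective_of_injective hinj v
    exact hTfix ⟨n, hn⟩ w
  let X : Subgroup (MulAut P) :=
    { carrier := {f | ∀ v, v ∈ T.ker ↔ f v ∈ T.ker}
      one_mem' := fun v => Iff.rfl
      mul_mem' := fun {f g} hf hg v => (hg v).trans (hf (g v))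
      inv_mem' := fun {f} hf v => by
        have := hf (f⁻¹ v)
        rw [MulAut.apply_inv_self] at this
        exact this.symm }
  have hxX : x.1 ∈ X := fun v => ⟨hxW v, fun h => by
    have hsurj : Function.Surjective (fun w : T.ker => (⟨x.1 w, hxW w w.2⟩ : T.ker)) :=
      Finite.surjective_of_injective fun a b e => Subtype.ext (x.1.injective (congrArg Subtype.val e))
    obtain ⟨w, hw⟩ := hsurj ⟨_, h⟩
    rw [← x.1.injective (congrArg Subtype.val hw)]
    exact w.2⟩
  let A := Subgroup.zpowers x.1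
  letI : MulAction A T.ker :=
    { smul := fun a w => ⟨a.1 w, ((Subgroup.zpowers_le.mpr hxX a.2) w).mp w.2⟩
      one_smul := fun w => rfl
      mul_smul := fun a b w => rfl }
  have hA : IsPGroup p A := IsPGroup.of_card (n := 1) (by rw [Nat.card_zpowers, Subgroup.orderOf_coe, hx, pow_one])
  have hd : p ∣ Nat.card T.ker := by
    obtain ⟨k, hk⟩ := IsPGroup.iff_card.1 (hP.to_subgroup T.ker)
    rcases Nat.eq_zero_or_pos k with rfl | hk0
    · exact absurd (Subgroup.card_eq_one.mp (by rw [hk, pow_zero])) hW1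
    · exact hk ▸ dvd_pow_self p hk0.ne'
  obtain ⟨w, hw, hw1⟩ := hA.exists_fixed_point_of_prime_dvd_card_of_fixed_point T.ker hd
    (a := 1) (fun a => Subtype.ext (map_one a.1))
  exact hw1 (Subtype.ext (hWfix w w.2 (congrArg Subtype.val (hw ⟨x.1, Subgroup.mem_zpowers _⟩))).symm)

end Cfsg.Agent.S4036
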