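import Cfsg.Statements.S4038
import Cfsg.Agent.Lib.Invol.ClassTwo.Main
-- import your own Cfsg.Agent.* helpers here

set_option autoImplicit false
open Cfsg

open scoped Pointwise commutatorElement

namespace Cfsg.Agent.S4038

/-- Let A and G be finite groups of coprime orders with A acting on G by automorphisms. Suppose G has a proper A-invariant subgroup M, maximal among proper A-invariant subgroups, which is nilpotent and whose Sylow 2-subgroups have nilpotency class at most 2. Then G is solvable. -/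
theorem result {G A : Type*} [Group G] [Finite G]
    [Group A] [Finite A] (φ : A →* MulAut G) (hcop : (Nat.card A).Coprime (Nat.card G))
    (M : Subgroup G) (hMtop : M ≠ ⊤) (hMinv : ∀ a : A, ∀ m : G, m ∈ M → φ a m ∈ M)
    (hMmax : ∀ H : Subgroup G, M ≤ H → H ≠ ⊤ → (∀ a : A, ∀ h : G, h ∈ H → φ a h ∈ H) → H = M)
    (hnil : Group.IsNilpotent M) (h2 : ∀ S : Sylow 2 ↥M, Group.nilpotencyClass ↥(S : Subgroup ↥M) ≤ 2) :
    Group.IsSolvable G := by
  letI : MulDistribMulAction A G := MulDistribMulAction.compHom G φ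
  haveI : Fact (Nat.Prime 2) := ⟨Nat.prime_two⟩
  refine Cfsg.Agent.Invol.ClassTwo.isSolvable_of_maximal (A := A) _ G rfl hcop M hMtop
    (fun a x hx => hMinv a x hx) (fun H hle hne hH => hMmax H hle hne hH) hnil ?_
  intro x hx y hy z hz hx2 hy2 hz2
  obtain ⟨S⟩ : Nonempty (Sylow 2 ↥M) := inferInstance
  haveI hSn : (S : Subgroup ↥M).Normal := Cfsg.Agent.Grp.isNilpotent_iff_sylow_normal.1 hnil 2 inferInstance S
  haveI := Sylow.unique_of_normal S hSn
  have hall : ∀ w : G, ∀ hw : w ∈ M, (∃ k, w ^ 2 ^ k = 1) → (⟨w, hw⟩ : ↥M) ∈ (S : Subgroup ↥M) := by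
    rintro w hw ⟨k, hk⟩
    obtain ⟨j, -, hj⟩ := (Nat.dvd_prime_pow Nat.prime_two).1 (orderOf_dvd_of_pow_eq_one hk)
    obtain ⟨R, hR⟩ := (IsPGroup.of_card (n := j) (G := Subgroup.zpowers (⟨w, hw⟩ : ↥M))
      (by rw [Nat.card_zpowers, Subgroup.orderOf_mk, hj])).exists_le_sylow
    exact Subsingleton.elim R S ▸ hR (Subgroup.mem_zpowers _)
  haveI : Group.IsNilpotent (S : Subgroup ↥M) := S.isPGroup'.isNilpotent
  have h := Subgroup.lowerCentralSeries_eq_bot_iff_nilpotencyClass_le.2 (h2 S)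
  set a : (S : Subgroup ↥M) := ⟨⟨x, hx⟩, hall x hx hx2⟩
  set b : (S : Subgroup ↥M) := ⟨⟨y, hy⟩, hall y hy hy2⟩
  set c : (S : Subgroup ↥M) := ⟨⟨z, hz⟩, hall z hz hz2⟩
  have hmem : ⁅⁅a, b⁆, c⁆ = 1 := by
    rw [← Subgroup.mem_bot, ← h]
    simp only [Subgroup.lowerCentralSeries_succ, Subgroup.lowerCentralSeries_zero]
    exact Subgroup.commutator_mem_commutator
      (Subgroup.commutator_mem_commutator (Subgroup.mem_top _) (Subgroup.mem_top _)) (Subgroup.mem_top _)
  have he := (commutatorElement_eq_one_iff_commute.1 hmem).symm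
  exact congrArg (fun w : (S : Subgroup ↥M) => ((w : ↥M) : G)) he.eq

end Cfsg.Agent.S4038
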