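import Cfsg.Statements.S4040
import Mathlib
import Cfsg.Agent.Lib.Grp.ThompsonComplement
import Cfsg.Agent.Lib.Grp.Cores
import Cfsg.Agent.Lib.Grp.Coprime
import Cfsg.Agent.Lib.Grp.FpfPrime
import Cfsg.Agent.Lib.Transfer.NormalComplement
-- import your own Cfsg.Agent.* helpers here

set_option autoImplicit false
open Cfsg

namespace Cfsg.Agent.S4040

set_option linter.style.haveILetI false

universe w

theorem solvable_quot_finset {G : Type w} [Group G] {ι : Type} (s : Finset ι) (K : ι → Subgroup G)
    (hK : ∀ i ∈ s, (K i).Normal ∧ derivedSeries G 0 = ⊤ ∧ ∃ n, derivedSeries G n ≤ K i) :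
    ∃ n, derivedSeries G n ≤ s.inf K := by
  classical
  induction s using Finset.induction_on with
  | empty => exact ⟨0, by simp⟩
  | @insert a s ha ih =>
    obtain ⟨n, hn⟩ := ih fun i hi => hK i (Finset.mem_insert_of_mem hi)
    obtain ⟨-, -, m, hm⟩ := hK a (Finset.mem_insert_self a s)
    refine ⟨max n m, ?_⟩
    rw [Finset.inf_insert]
    exact le_inf ((derivedSeries_antitone G (le_max_right n m)).trans hm)
      ((derivedSeries_antitone G (le_max_left n m)).trans hn)

theorem normalizer_map_char {G : Type w} [Group G] (Q : Subgroup G) (W : Subgroup Q) [hW : W.Characteristic] :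
    Subgroup.normalizer (Q : Set G) ≤ Subgroup.normalizer ((W.map Q.subtype : Subgroup G) : Set G) := by
  intro g hg
  have hfix := Subgroup.characteristic_iff_comap_eq.1 hW (Subgroup.normalizerMonoidHom Q ⟨g, hg⟩)
  rw [Subgroup.mem_normalizer_iff]
  intro x
  constructor
  · rintro ⟨y, hy, rfl⟩
    refine ⟨Subgroup.normalizerMonoidHom Q ⟨g, hg⟩ y, ?_, rfl⟩
    have hy' : y ∈ W.comap (Subgroup.normalizerMonoidHom Q ⟨g, hg⟩).toMonoidHom := by
      rw [hfix]; exact hy
    exact hy'
  · rintro ⟨y, hy, hyx⟩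
    have hxQ : x ∈ Q := (Subgroup.mem_normalizer_iff.1 hg x).2 (hyx ▸ y.2)
    refine ⟨⟨x, hxQ⟩, ?_, rfl⟩
    rw [SetLike.mem_coe, ← hfix]
    change Subgroup.normalizerMonoidHom Q ⟨g, hg⟩ ⟨x, hxQ⟩ ∈ W
    rw [show Subgroup.normalizerMonoidHom Q ⟨g, hg⟩ ⟨x, hxQ⟩ = y from Subtype.ext (hyx.symm)]
    exact hy

theorem core : ∀ (n : ℕ) (G : Type w) [Group G] [Finite G] (M : Subgroup G), Nat.card G = n →
    IsCoatom M → Group.IsNilpotent M → Odd (Nat.card M) → Group.IsSolvable G := by
  intro n
  induction n using Nat.strong_induction_on with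
  | _ n ih =>
  intro G _ _ M hn hmax hnil hodd
  haveI := hnil
  by_cases hcore : ∃ R : Subgroup G, R.Normal ∧ R ≤ M ∧ R ≠ ⊥
  · obtain ⟨R, hR, hRM, hRb⟩ := hcore
    haveI := hR
    let π := QuotientGroup.mk' R
    have hsurj : Function.Surjective π := QuotientGroup.mk'_surjective R
    have hker : π.ker ≤ M := by rw [QuotientGroup.ker_mk']; exact hRM
    have hlt : Nat.card (G ⧸ R) < n := by
      rw [← hn, Subgroup.card_eq_card_quotient_mul_card_subgroup R]
      exact lt_mul_of_one_lt_right Nat.card_pos ((Subgroup.one_lt_card_iff_ne_bot R).2 hRb)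
    haveI := ih _ hlt (G ⧸ R) (M.map π) rfl (by
      refine ⟨fun h => hmax.1 ?_, fun K hK => ?_⟩
      · exact ((Subgroup.comap_map_eq_self hker).symm.trans (congrArg (Subgroup.comap π) h)).trans (Subgroup.comap_top π)
      · have h1 : M < K.comap π := lt_of_eq_of_lt (Subgroup.comap_map_eq_self hker).symm
          ((Subgroup.comap_lt_comap_of_surjective hsurj).2 hK)
        rw [← Subgroup.map_comap_eq_self_of_surjective hsurj K, hmax.2 _ h1,
          Subgroup.map_top_of_surjective π hsurj])
      (Group.nilpotent_of_surjective _ (π.subgroupMap_surjective M))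
      (hodd.of_dvd_nat (Subgroup.card_map_dvd _ _))
    haveI : Group.IsSolvable R := solvable_of_solvable_injective (f := Subgroup.inclusion hRM)
      (Subgroup.inclusion_injective hRM)
    exact solvable_of_ker_le_range R.subtype π (by rw [QuotientGroup.ker_mk', Subgroup.range_subtype])
  push Not at hcore
  by_cases hM1 : M = ⊥
  · subst hM1
    rcases subsingleton_or_nontrivial G with h | h
    · infer_instance
    · obtain ⟨x, hx⟩ := exists_ne (1 : G)
      have hz : Subgroup.zpowers x = ⊤ := hmax.2 _ (bot_lt_iff_ne_bot.2 (by simpa using hx))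
      haveI : IsMulCommutative (⊤ : Subgroup G) := hz ▸ inferInstance
      exact ⟨⟨1, by
        rw [derivedSeries_one, commutator_eq_bot_iff_center_eq_top]
        exact (Subgroup.eq_top_iff' _).2 fun a => Subgroup.mem_center_iff.2 fun b =>
          congrArg Subtype.val (mul_comm' (⟨b, Subgroup.mem_top b⟩ : (⊤ : Subgroup G)) ⟨a, Subgroup.mem_top a⟩)⟩⟩
  have hN : ∀ C : Subgroup G, C ≤ M → C ≠ ⊥ → M ≤ Subgroup.normalizer (C : Set G) →
      Subgroup.normalizer (C : Set G) = M := fun C hCM hC hle =>
    (hmax.le_iff.1 hle).resolve_left fun h =>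
      hC (hcore C (Subgroup.normalizer_eq_top_iff.1 h) hCM)
  have hNPC : ∀ p ∈ (Nat.card M).primeFactors, ∃ K : Subgroup G, K.Normal ∧ (Nat.card K).Coprime p ∧
      ∃ k, K.index = p ^ k := by
    intro p hp
    rw [Nat.mem_primeFactors] at hp
    haveI := Fact.mk hp.1
    have hp2 : p ≠ 2 := fun e => by
      subst e
      exact Nat.not_even_iff_odd.2 hodd (even_iff_two_dvd.2 hp.2.1)
    obtain ⟨T⟩ : Nonempty (Sylow p M) := Sylow.nonempty
    haveI hTn := Grp.isNilpotent_iff_sylow_normal.1 hnil p inferInstance T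
    haveI hTc : (T : Subgroup M).Characteristic := T.characteristic_of_normal hTn
    set S := (T : Subgroup M).map M.subtype with hS
    have hSb : S ≠ ⊥ := fun h => T.ne_bot_of_dvd_card hp.2.1
      ((Subgroup.map_eq_bot_iff_of_injective _ M.subtype_injective).1 h)
    have hSM : S ≤ M := Subgroup.map_subtype_le _
    have hNS : Subgroup.normalizer (S : Set G) = M := hN S hSM hSb (by
      intro m hm
      rw [Subgroup.mem_normalizer_iff]
      intro x
      constructor
      · rintro ⟨y, hy, rfl⟩
        exact ⟨⟨m, hm⟩ * y * ⟨m, hm⟩⁻¹, hTn.conj_mem y hy _, by simp⟩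
      · rintro ⟨y, hy, hyx⟩
        refine ⟨⟨m, hm⟩⁻¹ * y * ⟨m, hm⟩, hTn.conj_mem' y hy _, ?_⟩
        simp only [map_mul, map_inv, Subgroup.coe_subtype] at hyx ⊢
        rw [hyx]; group)
    have hSp : IsPGroup p S := T.isPGroup'.map M.subtype
    -- S is a Sylow subgroup of G
    obtain ⟨Q, hQ⟩ := hSp.exists_le_sylow
    have hSQ : S = (Q : Subgroup G) := by
      by_contra hne
      have hlt : S < (Q : Subgroup G) := lt_of_le_of_ne hQ hne
      haveI : Group.IsNilpotent Q := Q.isPGroup'.isNilpotent
      have hlt' : S.subgroupOf (Q : Subgroup G) < ⊤ := by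
        refine lt_top_iff_ne_top.2 fun h => hne (le_antisymm hQ ?_)
        exact Subgroup.subgroupOf_eq_top.1 h
      obtain ⟨⟨y, hyQ⟩, hy, hyS⟩ := SetLike.exists_of_lt
        (Group.normalizerCondition_of_isNilpotent (S.subgroupOf (Q : Subgroup G)) hlt')
      have hyN : y ∈ Subgroup.normalizer (S : Set G) := by
        rw [Subgroup.mem_normalizer_iff] at hy ⊢
        intro x
        constructor
        · intro hx
          exact (hy ⟨x, hQ hx⟩).1 hx
        · intro hx
          have hxQ : x ∈ (Q : Subgroup G) := by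
            have h := (Q : Subgroup G).mul_mem ((Q : Subgroup G).mul_mem (inv_mem hyQ) (hQ hx)) hyQ
            simpa [mul_assoc] using h
          exact (hy ⟨x, hxQ⟩).2 hx
      rw [hNS] at hyN
      -- a p-element of M lies in T
      have hcl : IsPGroup p (Subgroup.zpowers (⟨y, hyN⟩ : M)) := by
        rw [IsPGroup.iff_card]
        obtain ⟨k, hk⟩ := IsPGroup.iff_orderOf.1 Q.isPGroup' ⟨y, hyQ⟩
        rw [Subgroup.orderOf_mk] at hk
        exact ⟨k, by rw [Nat.card_zpowers, Subgroup.orderOf_mk, hk]⟩
      obtain ⟨T', hT'⟩ := hcl.exists_le_sylow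
      haveI := Sylow.unique_of_normal T hTn
      rw [Subsingleton.elim T' T] at hT'
      exact hyS ⟨⟨y, hyN⟩, hT' (Subgroup.mem_zpowers _), rfl⟩
    have hfun : ∀ W : ∀ (X : Type w) [Group X], Subgroup X,
        Cfsg.IsCharPFunctor.{w} p W →
        Subgroup.normalizer (((W (Q : Subgroup G)).map (Q : Subgroup G).subtype : Subgroup G) : Set G) = M := by
      intro W hW
      haveI : Nontrivial (Q : Subgroup G) := (Subgroup.nontrivial_iff_ne_bot _).2 (hSQ ▸ hSb)
      refine hN _ ((Subgroup.map_subtype_le _).trans (hSQ ▸ hSM)) ?_ ?_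
      · rw [Ne, Subgroup.map_eq_bot_iff_of_injective _ (Q : Subgroup G).subtype_injective]
        exact hW.1 _ Q.isPGroup' inferInstance
      · haveI hWc : (W (Q : Subgroup G)).Characteristic :=
          Subgroup.characteristic_iff_map_eq.2 fun φ => hW.2 _ _ Q.isPGroup' φ
        have hMQ : M ≤ Subgroup.normalizer ((Q : Subgroup G) : Set G) := by
          rw [← hSQ, hNS]
        intro m hm
        exact normalizer_map_char _ _ (hMQ hm)
    have hnpc : ∀ C : Subgroup G, Subgroup.normalizer (C : Set G) = M →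
        HasNormalPComplement p ↥(Subgroup.normalizer (C : Set G)) := by
      intro C hC
      rw [hC]
      exact Grp.hasNormalPComplement_of_nilpotent hnil
    obtain ⟨K, hKn, hKd, k, hKi⟩ := Transfer.hasNormalPComplement_iff_exists.1
      (Grp.hasNormalPComplement_of_thompson hp2 Q
        (hnpc _ (hfun _ (Grp.thompsonFamily_isCharPFunctor false)))
        (hnpc _ (hfun _ (Grp.thompsonFamily_isCharPFunctor true))))
    exact ⟨K, hKn, ((Nat.Prime.coprime_iff_not_dvd hp.1).2 hKd).symm, k, hKi⟩
  -- the common complement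
  classical
  choose Kp hKn hKc hKi using hNPC
  let Kf : ℕ → Subgroup G := fun p => if h : p ∈ (Nat.card M).primeFactors then Kp p h else ⊤
  obtain ⟨d, hd⟩ := solvable_quot_finset (Nat.card M).primeFactors Kf (fun p hp => by
    have hpp := (Nat.mem_primeFactors.1 hp).1
    haveI := Fact.mk hpp
    have hK : Kf p = Kp p hp := dif_pos hp
    rw [hK]
    haveI := hKn p hp
    refine ⟨hKn p hp, rfl, ?_⟩
    obtain ⟨k, hk⟩ := hKi p hp
    haveI : Group.IsNilpotent (G ⧸ Kp p hp) :=
      (IsPGroup.of_card (n := k) (by rw [← Subgroup.index_eq_card, hk])).isNilpotent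
    obtain ⟨e, he⟩ := (inferInstance : Group.IsSolvable (G ⧸ Kp p hp)).1
    refine ⟨e, ?_⟩
    rw [← QuotientGroup.ker_mk' (Kp p hp), ← Subgroup.map_eq_bot_iff,
      map_derivedSeries_eq (QuotientGroup.mk'_surjective _), he])
  set K := (Nat.card M).primeFactors.inf Kf with hKdef
  have hKnorm : K.Normal := by
    refine Finset.inf_induction (p := fun H : Subgroup G => H.Normal) inferInstance
      (fun A hA B hB => Subgroup.normal_inf_normal A B) fun p hp => ?_
    rw [show Kf p = Kp p hp from dif_pos hp]; exact hKn p hp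
  haveI := hKnorm
  have hcop : (Nat.card M).Coprime (Nat.card K) := by
    refine Nat.coprime_of_dvd fun p hp hpM hpK => ?_
    have hmem : p ∈ (Nat.card M).primeFactors := Nat.mem_primeFactors.2 ⟨hp, hpM, Nat.card_pos.ne'⟩
    have hle : K ≤ Kp p hmem := by
      have := Finset.inf_le (f := Kf) hmem
      rwa [show Kf p = Kp p hmem from dif_pos hmem] at this
    exact hp.ne_one (Nat.dvd_one.1 ((hKc p hmem) ▸ Nat.dvd_gcd (hpK.trans (Subgroup.card_dvd_of_le hle)) dvd_rfl))
  have hMKN : M ≤ Subgroup.normalizer (K : Set G) := by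
    rw [Subgroup.normalizer_eq_top]; exact le_top
  have hnilK : Group.IsNilpotent K := by
    rw [Grp.isNilpotent_iff_sylow_normal]
    intro q hq P
    haveI := hq
    obtain ⟨X, hX, hMX⟩ := Grp.exists_invariant_sylow M K hMKN hcop (Or.inl inferInstance) q
    obtain ⟨P', hP'⟩ := Grp.isSylowIn_iff.1 hX
    have hXn : X.Normal := by
      by_cases hXb : X = ⊥
      · rw [hXb]; infer_instance
      rcases hmax.le_iff.1 hMX with h | h
      · exact Subgroup.normalizer_eq_top_iff.1 h
      · exfalso
        have hXM : X ≤ M := Subgroup.le_normalizer.trans_eq h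
        exact hXb (le_bot_iff.1 ((le_inf hXM hX.1).trans_eq
          (Subgroup.inf_eq_bot_of_coprime hcop)))
    have hP'n : (P' : Subgroup K).Normal := by
      have h1 : (P' : Subgroup K) = X.subgroupOf K := by
        rw [← hP', Subgroup.subgroupOf, Subgroup.comap_map_eq_self_of_injective K.subtype_injective]
      rw [h1]; exact hXn.subgroupOf K
    haveI := Sylow.unique_of_normal P' hP'n
    rw [Subsingleton.elim P P']
    exact hP'n
  haveI := hnilK
  obtain ⟨e, he⟩ := (inferInstance : Group.IsSolvable K).1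
  haveI : Group.IsSolvable (G ⧸ K) := ⟨⟨d, by
    rw [← map_derivedSeries_eq (QuotientGroup.mk'_surjective K), Subgroup.map_eq_bot_iff,
      QuotientGroup.ker_mk']; exact hd⟩⟩
  exact solvable_of_ker_le_range K.subtype (QuotientGroup.mk' K)
    (by rw [QuotientGroup.ker_mk', Subgroup.range_subtype])

/-- A finite group possessing a maximal subgroup that is nilpotent of odd order is solvable. -/
theorem result {G : Type*} [Group G] [Finite G]
    (M : Subgroup G) (hmax : IsCoatom M) (hnil : Group.IsNilpotent M) (hodd : Odd (Nat.card M)) :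
    Group.IsSolvable G := by
  exact core _ G M rfl hmax hnil hodd

end Cfsg.Agent.S4040
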