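import Cfsg.Statements.S4041
import Cfsg.Agent.Lib.Invol.FpfS3Free.Main

set_option autoImplicit false
open Cfsg

namespace Cfsg.Agent.S4041

/-- Let G be a finite group in which the symmetric group of degree 3 is not involved, and let π be the set of primes dividing the order of G. Let a finite group A act on G by automorphisms so that the identity is the only element of G fixed by every element of A, and suppose A has a nilpotent Hall π-subgroup and a normal π-complement (a normal subgroup whose order is divisible by no prime of π and whose index is divisible only by primes of π). Then G is solvable. -/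
theorem result {G A : Type*} [Group G] [Finite G]
    [Group A] [Finite A] (φ : A →* MulAut G) (hfpf : ∀ g : G, (∀ a : A, φ a g = g) → g = 1)
    (hS3 : ¬ Cfsg.Involves (Equiv.Perm (Fin 3)) G)
    (hHall : ∃ H : Subgroup A, Cfsg.IsPiHall {r : ℕ | r.Prime ∧ r ∣ Nat.card G} H ∧ Group.IsNilpotent H)
    (hcomp : ∃ K : Subgroup A, K.Normal ∧ (∀ r : ℕ, r.Prime → r ∣ Nat.card K → ¬ r ∣ Nat.card G) ∧
      ∀ r : ℕ, r.Prime → r ∣ K.index → r ∣ Nat.card G) :
    Group.IsSolvable G := by
  obtain ⟨H, hH, hHn⟩ := hHall
  obtain ⟨K, hKn, hK1, hK2⟩ := hcomp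
  haveI := hKn
  haveI := hHn
  let f : H →* A ⧸ K := (QuotientGroup.mk' K).comp H.subtype
  have hf : Function.Surjective f := by
    rw [← MonoidHom.range_eq_top, ← Subgroup.index_eq_one]
    by_contra hne
    obtain ⟨r, hr, hrd⟩ := Nat.exists_prime_and_dvd hne
    have h1 : r ∣ K.index := hrd.trans (Subgroup.index_dvd_card _)
    refine hH.2 r hr ⟨hr, hK2 r hr h1⟩ (hrd.trans ?_)
    have he : f.range = H.map (QuotientGroup.mk' K) := by
      rw [show f = (QuotientGroup.mk' K).comp H.subtype from rfl, MonoidHom.range_comp, Subgroup.range_subtype]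
    rw [he]
    exact Subgroup.index_map_dvd _ (QuotientGroup.mk'_surjective K)
  exact Invol.FpfS3Free.solvable_of_fpf (Nat.card G) G rfl hS3 A φ hfpf K
    (Nat.coprime_of_dvd hK1) (Group.nilpotent_of_surjective f hf)

end Cfsg.Agent.S4041
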