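import Cfsg.Statements.S4043
import Mathlib
import Cfsg.Agent.Lib.Grp.SchurZassenhaus
import Cfsg.Agent.Lib.Transfer.NormalComplement

set_option autoImplicit false
open Cfsg

namespace Cfsg.Agent.S4043

/-- Let G be a finite group that is the semidirect product of a normal p-subgroup N by a subgroup A, and also of N by a subgroup A₁, where p is a prime and A and A₁ both have normal p-complements. If C_N(A) = C_N(A₁) = 1, then A₁ is conjugate to A by an element of N. -/
theorem result {G : Type*} [Group G] [Finite G] {p : ℕ}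
    [Fact p.Prime] (N : Subgroup G) [N.Normal] (hN : IsPGroup p N) (A A₁ : Subgroup G)
    (hA : A.IsComplement' N) (hA₁ : A₁.IsComplement' N)
    (hAp : Cfsg.HasNormalPComplement p A) (hA₁p : Cfsg.HasNormalPComplement p A₁)
    (hC : ∀ n : G, n ∈ N → (∀ a : G, a ∈ A → a * n * a⁻¹ = n) → n = 1)
    (hC₁ : ∀ n : G, n ∈ N → (∀ a : G, a ∈ A₁ → a * n * a⁻¹ = n) → n = 1) :
    ∃ n : G, n ∈ N ∧ A₁ = A.map (MulAut.conj n).toMonoidHom := by
  classical
  have key : ∀ B : Subgroup G, B.IsComplement' N → Cfsg.HasNormalPComplement p B →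
      (∀ n : G, n ∈ N → (∀ a : G, a ∈ B → a * n * a⁻¹ = n) → n = 1) →
      ∃ K : Subgroup G, K ≤ B ∧ ¬ p ∣ Nat.card K ∧ (∃ i, Nat.card K * p ^ i = Nat.card B) ∧
        (∀ x ∈ B, Nat.Coprime (orderOf x) p → x ∈ K) ∧ Subgroup.normalizer (K : Set G) = B := by
    intro B hB hBp hBC
    obtain ⟨M, hMn, hMd, i, hMi⟩ := Agent.Transfer.hasNormalPComplement_iff_exists.mp hBp
    set K := M.map B.subtype with hK
    have hKB : K ≤ B := Subgroup.map_subtype_le M
    have hcard : Nat.card K = Nat.card M := Subgroup.card_map_of_injective B.subtype_injective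
    have hKn : ∀ b ∈ B, ∀ k ∈ K, b * k * b⁻¹ ∈ K := by
      rintro b hb _ ⟨m, hm, rfl⟩
      exact ⟨⟨b, hb⟩ * m * (⟨b, hb⟩ : B)⁻¹, hMn.conj_mem m hm _, rfl⟩
    refine ⟨K, hKB, hcard ▸ hMd, ⟨i, by rw [hcard, ← hMi, M.card_mul_index]⟩, ?_, ?_⟩
    · intro x hx hxo
      refine ⟨⟨x, hx⟩, ?_, rfl⟩
      rw [SetLike.mem_coe, ← QuotientGroup.eq_one_iff, ← orderOf_eq_one_iff]
      refine Nat.eq_one_of_dvd_coprimes (hxo.pow_right i) ?_ ?_
      · have h1 : orderOf ((⟨x, hx⟩ : B) : B ⧸ M) ∣ orderOf (⟨x, hx⟩ : B) := orderOf_map_dvd (QuotientGroup.mk' M) _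
        rwa [Subgroup.orderOf_mk] at h1
      · rw [← hMi, Subgroup.index_eq_card]
        exact orderOf_dvd_natCard _
    · have hBK : B ≤ Subgroup.normalizer (K : Set G) := fun b hb => by
        rw [Subgroup.mem_normalizer_iff]
        refine fun k => ⟨hKn b hb k, fun h => ?_⟩
        have := hKn b⁻¹ (inv_mem hb) _ h
        rwa [inv_inv, show b⁻¹ * (b * k * b⁻¹) * b = k by group] at this
      -- no fixed points of `K` in `N`
      set C := N ⊓ Subgroup.centralizer (K : Set G) with hC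
      have hC1 : C = ⊥ := by
        by_contra hne
        let P : Sylow p B := default
        set S := (P : Subgroup B).map B.subtype
        have hSp : IsPGroup p S := P.isPGroup'.map _
        have hSn : ∀ s ∈ S, ∀ c ∈ C, s * c * s⁻¹ ∈ C := by
          intro s hs c hc
          have hsB : s ∈ B := Subgroup.map_subtype_le _ hs
          refine ⟨Subgroup.Normal.conj_mem ‹N.Normal› c hc.1 s, ?_⟩
          show s * c * s⁻¹ ∈ Subgroup.centralizer (K : Set G)
          rw [Subgroup.mem_centralizer_iff]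
          intro k hk
          have h1 := Subgroup.mem_centralizer_iff.mp hc.2 _ (hKn s⁻¹ (inv_mem hsB) k hk)
          rw [inv_inv] at h1
          calc k * (s * c * s⁻¹) = s * (s⁻¹ * k * s * c) * s⁻¹ := by group
            _ = s * (c * (s⁻¹ * k * s)) * s⁻¹ := by rw [h1]
            _ = _ := by group
        let _ : MulAction S C :=
          { smul := fun s c => ⟨(s : G) * c * (s : G)⁻¹, hSn s s.2 c c.2⟩
            one_smul := fun c => Subtype.ext (show (1 : G) * c * (1 : G)⁻¹ = c by group)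
            mul_smul := fun s t c => Subtype.ext (show ((s : G) * t) * c * ((s : G) * t)⁻¹ = s * (t * c * (t : G)⁻¹) * (s : G)⁻¹ by group) }
        have hd : p ∣ Nat.card C := by
          obtain ⟨j, hj⟩ := IsPGroup.iff_card.mp (hN.to_le (inf_le_left : C ≤ N))
          rcases j with _ | j
          · exact absurd (Subgroup.card_eq_one.mp (hj.trans (pow_zero p))) hne
          · rw [hj, pow_succ]; exact dvd_mul_left p _
        have h1fix : (1 : C) ∈ MulAction.fixedPoints S C := fun s => Subtype.ext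
          (show (s : G) * 1 * (s : G)⁻¹ = 1 by group)
        obtain ⟨c, hc, hc1⟩ := hSp.exists_fixed_point_of_prime_dvd_card_of_fixed_point C hd h1fix
        refine hc1 (Subtype.ext (hBC c c.2.1 fun b hb => ?_).symm)
        have hb' : (⟨b, hb⟩ : B) ∈ M ⊔ (P : Subgroup B) := by
          rw [(Agent.Transfer.isComplement'_sylow P hMd hMi).sup_eq_top]; exact Subgroup.mem_top _
        obtain ⟨m, hm, q, hq, hmq⟩ := Subgroup.mem_sup_of_normal_left.mp hb'
        have e1 : b = (m : G) * q := (congrArg Subtype.val hmq).symm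
        have e2 : (q : G) * c * (q : G)⁻¹ = c := congrArg Subtype.val (hc ⟨q, Subgroup.mem_map_of_mem _ hq⟩)
        have e3 : (m : G) * c = c * m := Subgroup.mem_centralizer_iff.mp c.2.2 _ (Subgroup.mem_map_of_mem _ hm)
        calc b * c * b⁻¹ = (m : G) * (q * c * (q : G)⁻¹) * (m : G)⁻¹ := by rw [e1]; group
          _ = (c : G) := by rw [e2, e3, mul_inv_cancel_right]
      refine le_antisymm (fun g hg => ?_) hBK
      obtain ⟨⟨b, n⟩, hbn⟩ := hB.2 g
      have hn : (n : G) ∈ Subgroup.normalizer (K : Set G) := by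
        have : (n : G) = (b : G)⁻¹ * g := by rw [← hbn]; simp
        rw [this]
        exact mul_mem (inv_mem (hBK b.2)) hg
      have hnC : (n : G) ∈ C := by
        refine ⟨n.2, ?_⟩
        show (n : G) ∈ Subgroup.centralizer (K : Set G)
        rw [Subgroup.mem_centralizer_iff]
        intro k hk
        have h1 : (n : G) * k * (n : G)⁻¹ * k⁻¹ ∈ B ⊓ N := by
          refine ⟨mul_mem (hKB ((Subgroup.mem_normalizer_iff.mp hn k).mp hk)) (hKB (inv_mem hk)), ?_⟩
          rw [mul_assoc (n : G), mul_assoc (n : G)]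
          exact mul_mem n.2 (Subgroup.Normal.conj_mem ‹N.Normal› _ (inv_mem n.2) k)
        rw [hB.disjoint.eq_bot, Subgroup.mem_bot, mul_inv_eq_one, mul_inv_eq_iff_eq_mul] at h1
        exact h1.symm
      rw [hC1, Subgroup.mem_bot] at hnC
      rw [← hbn]
      show (b : G) * n ∈ B
      rw [hnC, mul_one]
      exact b.2
  obtain ⟨K, hKA, hKp, ⟨i, hKi⟩, hKmem, hKnorm⟩ := key A hA hAp hC
  obtain ⟨K₁, hKA₁, hK₁p, ⟨i₁, hKi₁⟩, -, hKnorm₁⟩ := key A₁ hA₁ hA₁p hC₁
  have hpp : p.Prime := Fact.out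
  have hcard : Nat.card K₁ = Nat.card K := by
    have e0 : Nat.card A₁ = Nat.card A := by rw [← hA₁.index_eq_card, hA.index_eq_card]
    have e1 : Nat.card K₁ * p ^ i₁ = Nat.card K * p ^ i := by rw [hKi₁, hKi, e0]
    refine Nat.dvd_antisymm ?_ ?_
    · exact (((hpp.coprime_iff_not_dvd.mpr hK₁p).pow_left i).symm).dvd_of_dvd_mul_right (e1 ▸ dvd_mul_right _ _)
    · exact (((hpp.coprime_iff_not_dvd.mpr hKp).pow_left i₁).symm).dvd_of_dvd_mul_right (e1.symm ▸ dvd_mul_right _ _)
  have hle : K₁ ≤ N ⊔ K := by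
    intro x hx
    obtain ⟨⟨a, n⟩, han⟩ := hA.2 x
    have hak : (a : G) ∈ K := by
      refine hKmem a a.2 ?_
      refine Nat.Coprime.coprime_dvd_left ?_ (Nat.coprime_comm.mp (hpp.coprime_iff_not_dvd.mpr hK₁p))
      refine dvd_trans ?_ (Subgroup.orderOf_dvd_natCard K₁ hx)
      refine orderOf_dvd_of_pow_eq_one ?_
      have h1 : (a : G) ^ orderOf x ∈ A ⊓ N := by
        refine ⟨pow_mem a.2 _, ?_⟩
        show (a : G) ^ orderOf x ∈ N
        rw [← QuotientGroup.eq_one_iff, QuotientGroup.mk_pow]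
        have : ((x : G) : G ⧸ N) = (a : G) := by
          rw [← han]; simp
        rw [← this, ← QuotientGroup.mk_pow, pow_orderOf_eq_one, QuotientGroup.mk_one]
      rwa [hA.disjoint.eq_bot, Subgroup.mem_bot] at h1
    rw [← han, sup_comm]
    exact Subgroup.mul_mem_sup hak n.2
  have hcop : (Nat.card N).Coprime (Nat.card K) := by
    obtain ⟨j, hj⟩ := IsPGroup.iff_card.mp hN
    rw [hj]
    exact (hpp.coprime_iff_not_dvd.mpr hKp).pow_left j
  have : Group.IsNilpotent N := hN.isNilpotent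
  obtain ⟨n, hn, hnK⟩ := Agent.Grp.exists_conj_of_le_sup (N := N) (H := K) (K := K₁)
    (by rw [Subgroup.normalizer_eq_top]; exact le_top) hle hcard hcop (Or.inl inferInstance)
  refine ⟨n, hn, ?_⟩
  rw [← hKnorm₁, ← hnK, ← hKnorm]
  exact (Subgroup.map_equiv_normalizer_eq K (MulAut.conj n)).symm

end Cfsg.Agent.S4043
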