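import Cfsg.Statements.S4049
import Cfsg.Agent.Lib.Grp.Real
-- import your own Cfsg.Agent.* helpers here

set_option autoImplicit false
open Cfsg

namespace Cfsg.Agent.S4049

/-- Let G be a finite group such that N_G(H)/C_G(H) has odd order for every nontrivial subgroup H of odd order. Then the Sylow 2-subgroups of G are normal. -/
theorem result {G : Type*} [Group G] [Finite G]
    (hhom : ∀ H : Subgroup G, H ≠ ⊥ → ¬ 2 ∣ Nat.card ↥H →
        ¬ 2 ∣ (Subgroup.centralizer (H : Set G)).relIndex (Subgroup.normalizer (H : Set G))) (P : Sylow 2 G) :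
    (P : Subgroup G).Normal := by
  refine Cfsg.Agent.Grp.two_sylow_normal_of_no_real (fun x hx hodd hc => ?_) P
  obtain ⟨g, hg⟩ := isConj_iff.mp hc
  have hmem : g ∈ Subgroup.normalizer ((Subgroup.zpowers x : Subgroup G) : Set G) := by
    rw [Cfsg.Agent.Grp.mem_normalizer_iff_smul, ← Cfsg.Agent.Grp.map_conj_eq_smul, MonoidHom.map_zpowers]
    simp only [MulEquiv.coe_toMonoidHom, MulAut.conj_apply]
    rw [hg, Subgroup.zpowers_inv]
  have hcent : Subgroup.centralizer ((Subgroup.zpowers x : Subgroup G) : Set G) = Subgroup.centralizer {x} := by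
    rw [Subgroup.zpowers_eq_closure, Subgroup.centralizer_closure]
  refine hhom (Subgroup.zpowers x) (by simpa using hx) ?_ ?_
  · rw [Nat.card_zpowers]; exact Nat.two_dvd_ne_zero.mpr (Nat.odd_iff.mp hodd)
  · have hle := Subgroup.centralizer_le_normalizer ((Subgroup.zpowers x : Subgroup G) : Set G)
    rw [hcent] at hle ⊢
    exact Cfsg.Agent.Grp.two_dvd_relIndex_centralizer_of_real
      (fun h => hx (Cfsg.Agent.Grp.eq_one_of_odd_of_sq hodd h)) hg _ hmem hle

end Cfsg.Agent.S4049
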