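import Cfsg.Statements.S4050
import Mathlib
import Cfsg.Agent.Lib.Grp.PiElements

set_option autoImplicit false
open Cfsg

namespace Cfsg.Agent.S4050

/-- Let π be a set of primes and G a finite group. The π-elements of G (elements whose order is divisible only by primes of π) form a subgroup if and only if G is π-separable (it has a chain of normal subgroups from 1 to G with each successive index divisible only by primes in π or only by primes outside π) and N_G(H)/C_G(H) is a π'-group for every nontrivial π'-subgroup H of G. -/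
theorem result {G : Type*} [Group G] [Finite G] (π : Set ℕ)
    (hπ : ∀ p ∈ π, p.Prime) :
    (∃ K : Subgroup G, ∀ x : G, x ∈ K ↔ ∀ p : ℕ, p.Prime → p ∣ orderOf x → p ∈ π) ↔
    ((∃ (n : ℕ) (H : Fin (n + 1) → Subgroup G), H 0 = ⊥ ∧ H (Fin.last n) = ⊤ ∧ Monotone H ∧ (∀ i, (H i).Normal) ∧
      ∀ i : Fin n, (∀ q : ℕ, q.Prime → q ∣ (H i.castSucc).relIndex (H i.succ) → q ∈ π) ∨
        (∀ q : ℕ, q.Prime → q ∣ (H i.castSucc).relIndex (H i.succ) → q ∉ π)) ∧
     (∀ H : Subgroup G, H ≠ ⊥ → (∀ p : ℕ, p.Prime → p ∣ Nat.card ↥H → p ∉ π) →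
        ∀ p : ℕ, p.Prime → p ∣ (Subgroup.centralizer (H : Set G)).relIndex (Subgroup.normalizer (H : Set G)) → p ∉ π)) := by
  constructor
  · rintro ⟨K, hK⟩
    have hKn : K.Normal := ⟨fun x hx g => (hK _).mpr
      ((Agent.Grp.PiEl.piElem_map_iff (MulAut.conj g).toMonoidHom (MulAut.conj g).injective x).mpr ((hK x).mp hx))⟩
    have hπK : ∀ q : ℕ, q.Prime → q ∣ Nat.card K → q ∈ π := fun q hq h =>
      Agent.Grp.PiEl.card_pi_of_forall (fun x hx => (hK x).mp hx) hq h
    have hidx : ∀ q : ℕ, q.Prime → q ∣ K.index → q ∉ π := by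
      intro q hq hd hπq
      have := Fact.mk hq
      rw [Subgroup.index_eq_card] at hd
      obtain ⟨y, hy⟩ := exists_prime_orderOf_dvd_card' (G := G ⧸ K) q hd
      obtain ⟨x, rfl⟩ := QuotientGroup.mk'_surjective K y
      have hx : x ∈ K := (hK x).mpr (Agent.Grp.PiEl.piElem_of_map (QuotientGroup.mk' K)
        (fun l hl => (hK l).mp (by rwa [QuotientGroup.ker_mk'] at hl))
        fun r hr h => by rw [hy, Nat.prime_dvd_prime_iff_eq hr hq] at h; exact h ▸ hπq)
      rw [(QuotientGroup.eq_one_iff x).mpr hx |> (show QuotientGroup.mk' K x = 1 from ·), orderOf_one] at hy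
      exact hq.one_lt.ne hy
    refine ⟨⟨2, ![⊥, K, ⊤], rfl, rfl, ?_, ?_, ?_⟩, ?_⟩
    · intro i j hij
      fin_cases i <;> fin_cases j <;> first | exact le_rfl | exact bot_le | exact le_top | exact absurd hij (by decide)
    · intro i
      fin_cases i <;> first | exact hKn | exact (inferInstance : (⊥ : Subgroup G).Normal) | exact (inferInstance : (⊤ : Subgroup G).Normal)
    · intro i
      fin_cases i
      · refine Or.inl fun q hq h => hπK q hq ?_
        change q ∣ (⊥ : Subgroup G).relIndex K at h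
        rwa [Subgroup.relIndex_bot_left] at h
      · refine Or.inr fun q hq h => hidx q hq ?_
        change q ∣ K.relIndex ⊤ at h
        rwa [Subgroup.relIndex_top_right] at h
    · intro H _ hH p hp hd
      refine hidx p hp (hd.trans ((Subgroup.relIndex_dvd_of_le_left (H := K ⊓ Subgroup.normalizer (H : Set G)) _ ?_).trans ?_))
      · intro x hx
        refine Subgroup.mem_centralizer_iff.mpr fun h hh => ?_
        have h1 : x * h * x⁻¹ * h⁻¹ ∈ H := H.mul_mem ((Subgroup.mem_normalizer_iff.mp hx.2 h).mp hh) (H.inv_mem hh)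
        have h2 : x * h * x⁻¹ * h⁻¹ ∈ K := by
          have h3 := K.mul_mem hx.1 (hKn.conj_mem x⁻¹ (K.inv_mem hx.1) h)
          simpa [mul_assoc] using h3
        have h4 : x * h * x⁻¹ * h⁻¹ = 1 := by
          rw [← orderOf_eq_one_iff]
          by_contra hne
          obtain ⟨r, hr, hrd⟩ := Nat.exists_prime_and_dvd hne
          exact hH r hr (hrd.trans (Subgroup.orderOf_dvd_natCard H h1)) ((hK _).mp h2 r hr hrd)
        rw [mul_inv_eq_one, mul_inv_eq_iff_eq_mul] at h4
        exact h4.symm
      · rw [Subgroup.inf_relIndex_right]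
        exact Subgroup.relIndex_dvd_index_of_normal K _
  · rintro ⟨⟨n, H, h0, hl, hm, hn, hi⟩, hhom⟩
    have hcen := Agent.Grp.PiEl.central_of_normalizer_centralizer hhom
    suffices ∀ i : Fin (n + 1), Agent.Grp.PiEl.PiClosed π ↥(H i) by
      have h := this (Fin.last n)
      rw [hl] at h
      exact Agent.Grp.PiEl.piClosed_of_mulEquiv Subgroup.topEquiv h
    intro i
    induction i using Fin.induction with
    | zero =>
      refine ⟨⊤, fun x => ⟨fun _ p hp h => ?_, fun _ => Subgroup.mem_top x⟩⟩
      have hx1 : x = 1 := Subtype.ext (Subgroup.mem_bot.mp ((le_of_eq h0) x.2))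
      rw [hx1, orderOf_one] at h
      exact absurd (Nat.dvd_one.mp h) hp.one_lt.ne'
    | succ i ih =>
      have hle : H i.castSucc ≤ H i.succ := hm i.castSucc_le_succ
      have := (hn i.castSucc).subgroupOf (H i.succ)
      refine Agent.Grp.PiEl.extension (hcen.of_injective _ (H i.succ).subtype_injective) ((H i.castSucc).subgroupOf (H i.succ))
        (Agent.Grp.PiEl.piClosed_of_mulEquiv (Subgroup.subgroupOfEquivOfLe hle).symm ih) ?_
      rcases hi i with h | h
      · refine ⟨⊤, fun x => ⟨fun _ p hp hd => h p hp ?_, fun _ => Subgroup.mem_top x⟩⟩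
        exact hd.trans (orderOf_dvd_natCard x)
      · refine ⟨⊥, fun x => ⟨fun hx p hp hd => ?_, fun hx => ?_⟩⟩
        · rw [Subgroup.mem_bot.mp hx, orderOf_one] at hd
          exact absurd (Nat.dvd_one.mp hd) hp.one_lt.ne'
        · rw [Subgroup.mem_bot, ← orderOf_eq_one_iff]
          by_contra hne
          obtain ⟨p, hp, hd⟩ := Nat.exists_prime_and_dvd hne
          exact h p hp (hd.trans (orderOf_dvd_natCard x)) (hx p hp hd)

end Cfsg.Agent.S4050
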