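import Cfsg.Statements.S4056
import Cfsg.Agent.Lib.Grp.Frattini

set_option autoImplicit false
open Cfsg

namespace Cfsg.Agent.S4056
open scoped commutatorElement

/-- In a finite 2-group of nilpotency class at most 2 and exponent dividing 4, the Frattini subgroup lies in the centre and is elementary abelian. -/
theorem result {P : Type*} [Group P] [Finite P] (hP : IsPGroup 2 P)
    (hcl : Group.nilpotencyClass P ≤ 2) (hexp : Monoid.exponent P ∣ 4) :
    frattini P ≤ Subgroup.center P ∧ Cfsg.IsElementaryAbelian 2 (frattini P) := by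
  haveI : Group.IsNilpotent P := hP.isNilpotent
  have h3 : (⊤ : Subgroup P).lowerCentralSeries 2 = ⊥ := Subgroup.lowerCentralSeries_eq_bot_iff_nilpotencyClass_le.mpr hcl
  have hcz : ∀ a b : P, a * b * a⁻¹ * b⁻¹ ∈ Subgroup.center P := by
    intro a b
    rw [Subgroup.mem_center_iff]
    intro g
    have h2 : a * b * a⁻¹ * b⁻¹ * g * (a * b * a⁻¹ * b⁻¹)⁻¹ * g⁻¹ ∈ (⊤ : Subgroup P).lowerCentralSeries 2 := by
      rw [← commutatorElement_def a b, ← commutatorElement_def]
      exact Subgroup.commutator_mem_commutator (Subgroup.commutator_mem_commutator (Subgroup.mem_top a) (Subgroup.mem_top b))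
        (Subgroup.mem_top g)
    rw [h3, Subgroup.mem_bot, mul_inv_eq_one, mul_inv_eq_iff_eq_mul] at h2
    exact h2.symm
  have h4 : ∀ a : P, a ^ 4 = 1 := fun a => by
    obtain ⟨k, hk⟩ := hexp
    rw [hk, pow_mul, Monoid.pow_exponent_eq_one, one_pow]
  have hc2 : ∀ a b : P, (a * b * a⁻¹ * b⁻¹) ^ 2 = 1 := by
    intro a b
    set c := a * b * a⁻¹ * b⁻¹ with hc
    have hcc : ∀ g : P, g * c = c * g := Subgroup.mem_center_iff.mp (hcz a b)
    have hab : a * b = c * (b * a) := by rw [hc]; group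
    have e : (b * a) ^ 2 = b ^ 2 * a ^ 2 * c := by
      rw [sq, sq, sq, mul_assoc b a, ← mul_assoc a b a, hab, ← hcc]
      simp only [mul_assoc]
      rw [← hcc a, ← mul_assoc b b, ← mul_assoc a a]
    have hca : Commute (b ^ 2 * a ^ 2) c := hcc _
    have hb2a : a ^ 2 * b ^ 2 = c ^ 4 * (b ^ 2 * a ^ 2) := by
      have hsq : a ^ 2 * b = c ^ 2 * (b * a ^ 2) := by
        rw [sq, mul_assoc, hab, ← mul_assoc a c, hcc a, mul_assoc c a, ← mul_assoc a b, hab, sq]
        simp only [mul_assoc]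
      have hc2c : ∀ g : P, g * c ^ 2 = c ^ 2 * g := fun g => ((show Commute g c from hcc g).pow_right 2).eq
      calc a ^ 2 * b ^ 2 = a ^ 2 * b * b := by rw [sq b, ← mul_assoc]
        _ = c ^ 2 * b * (a ^ 2 * b) := by rw [hsq]; simp only [mul_assoc]; rw [← hsq]
        _ = c ^ 2 * b * (c ^ 2 * (b * a ^ 2)) := by rw [hsq]
        _ = c ^ 2 * (b * c ^ 2) * (b * a ^ 2) := by simp only [mul_assoc]
        _ = c ^ 2 * (c ^ 2 * b) * (b * a ^ 2) := by rw [hc2c b]
        _ = c ^ 4 * (b ^ 2 * a ^ 2) := by simp only [pow_succ, pow_zero, one_mul, mul_assoc]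
    rw [h4 c, one_mul] at hb2a
    have h := h4 (b * a)
    rw [show (4 : ℕ) = 2 * 2 from rfl, pow_mul, e, hca.mul_pow, (Commute.symm hb2a).mul_pow, ← pow_mul, ← pow_mul,
      show 2 * 2 = 4 from rfl, h4, h4, one_mul, one_mul] at h
    exact h
  let K : Subgroup P :=
    { carrier := {z | z ∈ Subgroup.center P ∧ z ^ 2 = 1}
      one_mem' := ⟨one_mem _, one_pow 2⟩
      mul_mem' := fun {u v} ⟨hu, hu'⟩ ⟨hv, hv'⟩ => ⟨mul_mem hu hv, by
        rw [(show Commute u v from Subgroup.mem_center_iff.mp hv u).mul_pow, hu', hv', mul_one]⟩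
      inv_mem' := fun {u} ⟨hu, hu'⟩ => ⟨inv_mem hu, by rw [inv_pow, hu', inv_one]⟩ }
  have : K.Normal := ⟨fun z hz g => by
    rw [Subgroup.mem_center_iff.mp hz.1 g, mul_inv_cancel_right]; exact hz⟩
  have hle : frattini P ≤ K := by
    refine Grp.frattini_le_of_elementary Nat.prime_two ?_ fun x => ⟨?_, ?_⟩
    · rw [commutator_def, Subgroup.commutator_le]
      exact fun a _ b _ => by rw [commutatorElement_def]; exact ⟨hcz a b, hc2 a b⟩
    · rw [Subgroup.mem_center_iff]
      intro g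
      have hcc := Subgroup.mem_center_iff.mp (hcz x g) x
      have : x ^ 2 * g * (x ^ 2)⁻¹ * g⁻¹ = (x * g * x⁻¹ * g⁻¹) ^ 2 := by
        calc x ^ 2 * g * (x ^ 2)⁻¹ * g⁻¹
            = (x * (x * g * x⁻¹ * g⁻¹)) * x⁻¹ * (x * g * x⁻¹ * g⁻¹) := by rw [sq]; group
          _ = _ := by rw [hcc, mul_inv_cancel_right, sq]
      rw [hc2, mul_inv_eq_one, mul_inv_eq_iff_eq_mul] at this
      exact this.symm
    · rw [← pow_mul]; exact h4 x
  exact ⟨fun z hz => (hle hz).1, ⟨⟨fun a b => Subtype.ext (Subgroup.mem_center_iff.mp (hle b.2).1 a)⟩⟩,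
    fun z hz => (hle hz).2⟩

end Cfsg.Agent.S4056
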