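import Cfsg.Statements.S4057
import Cfsg.Agent.Lib.Grp.GenCount
import Cfsg.Agent.Lib.Transfer.MaxAbelianExponent


set_option autoImplicit false
open Cfsg

namespace Cfsg.Agent.S4057

/-- Let p be an odd prime and P a finite p-group in which every normal abelian subgroup can be generated by k elements. Then every subgroup of P can be generated by at most ⌊k(k+4)/4⌋ elements. -/
theorem result {P : Type*} [Group P] [Finite P] {p : ℕ} [Fact p.Prime]
    (hp : p ≠ 2) (hP : IsPGroup p P) (k : ℕ)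
    (hab : ∀ A : Subgroup P, A.Normal → IsMulCommutative A → ∃ S : Finset P, S.card ≤ k ∧ Subgroup.closure (S : Set P) = A) :
    ∀ H : Subgroup P, ∃ S : Finset P, S.card ≤ k * (k + 4) / 4 ∧ Subgroup.closure (S : Set P) = H := by
  intro H
  classical
  obtain ⟨E, ⟨hEn, hEc, hEe⟩, hEmax⟩ := Set.Finite.exists_maximal
    (Set.toFinite {B : Subgroup P | B.Normal ∧ IsMulCommutative B ∧ ∀ b ∈ B, b ^ p ^ 1 = 1})
    ⟨⊥, inferInstance, ⟨⟨fun a b => by
      obtain ⟨a, ha⟩ := a; obtain ⟨b, hb⟩ := b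
      rw [Subgroup.mem_bot] at ha hb; subst ha hb; rfl⟩⟩, fun b hb => by
      rw [Subgroup.mem_bot] at hb; rw [hb, one_pow]⟩
  haveI := hEn
  haveI := hEc
  have hmem := Transfer.MaxAbelianExponent.mem_of_max hP 1 (by simpa using hp) E hEc hEe
    fun B hBn hBc hBe hle => le_antisymm (hEmax ⟨hBn, hBc, hBe⟩ hle) hle
  obtain ⟨S, hS, hSc⟩ := hab E hEn hEc
  obtain ⟨r, hcardE, hgenE, hrep⟩ := @Grp.GenCount.elementary_rep p _ E
    { (inferInstance : Group E) with mul_comm := fun a b => Subtype.ext (setLike_mul_comm a.2 b.2) }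
    inferInstance (fun e => Subtype.ext (by simpa using hEe _ e.2))
  have hrk : r ≤ k := by
    have hSE : ∀ s ∈ S, s ∈ E := fun s hs => hSc ▸ Subgroup.subset_closure hs
    refine le_trans (hgenE (S.subtype (· ∈ E)) ?_) ?_
    · refine Subgroup.map_injective E.subtype_injective ?_
      rw [MonoidHom.map_closure, ← MonoidHom.range_eq_map, Subgroup.range_subtype]
      refine Eq.trans (congrArg Subgroup.closure ?_) hSc
      ext x
      simp only [Set.mem_image, Finset.mem_coe, Finset.mem_subtype]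
      exact ⟨by rintro ⟨y, hy, rfl⟩; exact hy, fun hx => ⟨⟨x, hSE x hx⟩, hx, rfl⟩⟩
    · rw [Finset.card_subtype]
      exact (Finset.card_filter_le _ _).trans hS
  obtain ⟨ψ, hψ⟩ := hrep hP (MulAut.conjNormal (H := E))
  have hker : ∀ g, g ∈ ψ.ker → g ∈ Subgroup.centralizer (E : Set P) := by
    intro g hg
    rw [Subgroup.mem_centralizer_iff]
    intro a ha
    have h3 : (MulAut.conjNormal g : MulAut E) ⟨a, ha⟩ = ⟨a, ha⟩ :=
      DFunLike.congr_fun (hψ hg) ⟨a, ha⟩
    have h4 := congrArg Subtype.val h3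
    simp only [MulAut.conjNormal_apply] at h4
    exact (mul_inv_eq_iff_eq_mul.1 h4).symm
  have hcz : ∀ x : (H ⊓ ψ.ker : Subgroup P), x ^ p = 1 → x ∈ Subgroup.center (H ⊓ ψ.ker : Subgroup P) :=
    fun x hx => Subgroup.mem_center_iff.2 fun g => Subtype.ext <| by
      have hxE : (x : P) ∈ E := hmem x (hker _ x.2.2) (by simpa [Subtype.ext_iff] using hx)
      exact (Subgroup.mem_centralizer_iff.1 (hker _ g.2.2) x hxE).symm
  have h1 : Grp.GenCount.GenBy (H ⊓ ψ.ker) r := by
    have hcnt : Nat.card {x : (H ⊓ ψ.ker : Subgroup P) // x ^ p = 1} ≤ p ^ r := by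
      rw [← hcardE]
      refine Nat.card_le_card_of_injective (fun x => (⟨x.1.1, hmem x.1 (hker _ x.1.2.2)
        (by simpa [Subtype.ext_iff] using x.2)⟩ : E)) fun x y hxy => ?_
      exact Subtype.ext (Subtype.ext (congrArg Subtype.val hxy :))
    have h := (Grp.GenCount.pcentral_gen hp _ (H ⊓ ψ.ker : Subgroup P) rfl (hP.to_subgroup _) hcz r
      hcnt).map (H ⊓ ψ.ker).subtype
    rwa [← MonoidHom.range_eq_map, Subgroup.range_subtype] at h
  have h2 : Grp.GenCount.GenBy (H.map ψ) (r * r / 4) :=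
    Grp.GenCount.sl_gen _ ((hP.to_subgroup H).map ψ)
  have h3 := (Grp.GenCount.genBy_add ψ h1 h2).mono (b := k * (k + 4) / 4) (by
    have := Nat.mul_le_mul hrk hrk
    rw [Nat.mul_add]
    omega)
  exact h3

end Cfsg.Agent.S4057
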