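import Cfsg.Statements.S4058
import Cfsg.Agent.Lib.Char.Complete
import Cfsg.Agent.Lib.Char.Integral
import Cfsg.Agent.Lib.Grp.Cores
import Cfsg.Agent.Lib.Grp.Frattini
-- import your own Cfsg.Agent.* helpers here

set_option autoImplicit false
open Cfsg

namespace Cfsg.Agent.S4058

open Cfsg Cfsg.Agent.Char
open scoped ComplexConjugate Kronecker

theorem trace_idem_nat {n : Type*} [Fintype n] [DecidableEq n] {M : Matrix n n ℂ} (h : M * M = M) :
    ∃ k : ℕ, Matrix.trace M = k := by
  have hf : IsIdempotentElem (Matrix.toLin' M) := by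
    show Matrix.toLin' M * Matrix.toLin' M = _
    rw [Module.End.mul_eq_comp, ← Matrix.toLin'_mul, h]
  refine ⟨Module.finrank ℂ (LinearMap.range (Matrix.toLin' M)), ?_⟩
  rw [← (LinearMap.IsIdempotentElem.isProj_range _ hf).trace, Matrix.trace_toLin'_eq]

/-- The average of `χ (g ^ 2)` is an integer. -/
theorem indicator_int {G : Type*} [Group G] [Fintype G] {χ : G → ℂ} (h : IsCharacter G χ) :
    ∃ z : ℤ, (Nat.card G : ℂ)⁻¹ * ∑ g : G, χ (g ^ 2) = z := by
  obtain ⟨n, ρ, rfl⟩ := h
  let A : G → Matrix (Fin n) (Fin n) ℂ := fun g => LinearMap.toMatrix' (ρ g)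
  have hA : ∀ g h, A (g * h) = A g * A h := fun g h => by
    simp only [A, map_mul, Module.End.mul_eq_comp, LinearMap.toMatrix'_comp]
  have htr : ∀ g, ρ.character g = Matrix.trace (A g) := fun g => by
    rw [Representation.character, LinearMap.trace_eq_matrix_trace ℂ (Pi.basisFun ℂ (Fin n)),
      LinearMap.toMatrix_eq_toMatrix']
  set c : ℂ := (Nat.card G : ℂ)⁻¹
  have hc : c * (Nat.card G : ℂ) = 1 :=
    inv_mul_cancel₀ (Nat.cast_ne_zero.mpr Nat.card_pos.ne')
  set S := ∑ g : G, A g ⊗ₖ A g with hS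
  set E := c • S with hE
  have hSS : S * S = (Nat.card G : ℂ) • S := by
    rw [hS, Finset.sum_mul]
    have : ∀ g : G, A g ⊗ₖ A g * S = S := fun g => by
      rw [hS, Finset.mul_sum]
      refine Fintype.sum_equiv (Equiv.mulLeft g) _ _ fun x => ?_
      show A g ⊗ₖ A g * A x ⊗ₖ A x = A (g * x) ⊗ₖ A (g * x)
      rw [← Matrix.mul_kronecker_mul, ← hA]
    rw [← hS, Finset.sum_congr rfl fun g _ => this g, Finset.sum_const, Finset.card_univ,
      Nat.card_eq_fintype_card, Nat.cast_smul_eq_nsmul]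
  have hEE : E * E = E := by
    rw [hE, Matrix.smul_mul, Matrix.mul_smul, hSS, smul_smul, smul_smul]
    congr 1
    rw [mul_assoc, hc, mul_one]
  set M := E.submatrix (Equiv.prodComm (Fin n) (Fin n)) id with hM
  have hsymm : E.submatrix (Equiv.prodComm (Fin n) (Fin n)) (Equiv.prodComm (Fin n) (Fin n)) = E := by
    ext ⟨i, j⟩ ⟨k, l⟩
    simp only [hE, hS, Matrix.submatrix_apply, Matrix.smul_apply, Matrix.sum_apply, Equiv.prodComm_apply,
      Prod.swap_prod_mk, Matrix.kronecker_apply, mul_comm]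
  have hMM : M * M = E := by
    ext x y
    have h1 := congrFun (congrFun hEE x) y
    rw [Matrix.mul_apply] at h1 ⊢
    rw [← h1]
    refine Fintype.sum_equiv (Equiv.prodComm (Fin n) (Fin n)) _ _ fun z => ?_
    have h2 := congrFun (congrFun hsymm x) (Equiv.prodComm (Fin n) (Fin n) z)
    simp only [hM, Matrix.submatrix_apply, id, Equiv.prodComm_apply, Prod.swap_swap] at h2 ⊢
    rw [h2]
  have hEM : E * M = M := by
    ext x y
    have h1 := congrFun (congrFun hEE (Equiv.prodComm (Fin n) (Fin n) x)) y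
    rw [Matrix.mul_apply] at h1
    rw [Matrix.mul_apply]
    simp only [hM, Matrix.submatrix_apply, id]
    rw [← h1]
    refine Fintype.sum_equiv (Equiv.prodComm (Fin n) (Fin n)) _ _ fun z => ?_
    have h2 := congrFun (congrFun hsymm x) z
    simp only [Matrix.submatrix_apply] at h2
    rw [h2]
  have hME : M * E = M := by
    ext x y
    have h1 := congrFun (congrFun hEE (Equiv.prodComm (Fin n) (Fin n) x)) y
    rw [Matrix.mul_apply] at h1
    rw [Matrix.mul_apply]
    simp only [hM, Matrix.submatrix_apply, id]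
    exact h1
  have hhalf : ∀ X : Matrix (Fin n × Fin n) (Fin n × Fin n) ℂ, X * X = E → E * X = X → X * E = X →
      ((1 / 2 : ℂ) • (E + X)) * ((1 / 2 : ℂ) • (E + X)) = (1 / 2 : ℂ) • (E + X) := by
    intro X h1 h2 h3
    rw [Matrix.smul_mul, Matrix.mul_smul, smul_smul, add_mul, mul_add, mul_add, hEE, h1, h2, h3]
    module
  obtain ⟨a, ha⟩ := trace_idem_nat (hhalf M hMM hEM hME)
  obtain ⟨b, hb⟩ := trace_idem_nat (hhalf (-M) (by rw [neg_mul_neg, hMM]) (by rw [mul_neg, hEM])
    (by rw [neg_mul, hME]))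
  refine ⟨(a : ℤ) - b, ?_⟩
  have htrM : Matrix.trace M = c * ∑ g : G, ρ.character (g ^ 2) := by
    simp only [Matrix.trace, Matrix.diag, hM, hE, hS, Matrix.submatrix_apply, Matrix.smul_apply,
      Matrix.sum_apply, smul_eq_mul, Finset.mul_sum, id]
    rw [Finset.sum_comm]
    refine Finset.sum_congr rfl fun g _ => ?_
    rw [htr, pow_two, hA]
    simp only [Matrix.trace, Matrix.diag, Matrix.mul_apply, Finset.mul_sum, Fintype.sum_prod_type]
    rw [Finset.sum_comm]
    refine Finset.sum_congr rfl fun j _ => Finset.sum_congr rfl fun i _ => ?_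
    simp [Matrix.kronecker_apply]
  rw [← htrM]
  push_cast
  rw [← ha, ← hb, Matrix.trace_smul, Matrix.trace_smul, Matrix.trace_add, Matrix.trace_add,
    Matrix.trace_neg]
  simp only [smul_eq_mul]
  ring

theorem sum_linear_eq_zero {G : Type*} [Group G] [Fintype G] {l : G →* ℂˣ} (h : l ≠ 1) :
    ∑ g : G, (l g : ℂ) = 0 := by
  obtain ⟨g₀, hg₀⟩ : ∃ g₀, l g₀ ≠ 1 := by
    by_contra hc
    push Not at hc
    exact h (MonoidHom.ext hc)
  have e : (l g₀ : ℂ) * ∑ g : G, (l g : ℂ) = ∑ g : G, (l g : ℂ) := by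
    rw [Finset.mul_sum]
    exact Fintype.sum_equiv (Equiv.mulLeft g₀) _ _ fun g => by simp
  exact (mul_left_eq_self₀.mp e).resolve_left fun h1 => hg₀ (Units.ext h1)

/-- Let G be a finite 2-group with #(G/Φ(G)) ≥ 2^(2k+1). Then the number of elements x of G with x² = 1 is divisible by 2^(k+1). -/
theorem result {G : Type*} [Group G] [Finite G] (hG : IsPGroup 2 G) (k : ℕ)
    (hgen : 2 ^ (2 * k + 1) ≤ Nat.card (G ⧸ frattini G)) :
    2 ^ (k + 1) ∣ Nat.card {x : G // x ^ 2 = 1} := by
  classical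
  have := Fintype.ofFinite G
  have hgC : ((Nat.card G : ℕ) : ℂ) ≠ 0 := Nat.cast_ne_zero.mpr Nat.card_pos.ne'
  -- the group of characters of the Frattini quotient
  have hΦ : ∀ g : G, g ^ 2 ∈ frattini G := fun g => Cfsg.Agent.Grp.pGroup_pow_mem_frattini hG g
  let _ : CommGroup (G ⧸ frattini G) :=
    { (inferInstance : Group (G ⧸ frattini G)) with
      mul_comm := fun a b => by
        have hsq : ∀ x : G ⧸ frattini G, x * x = 1 := fun x => by
          obtain ⟨y, rfl⟩ := QuotientGroup.mk_surjective x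
          rw [← QuotientGroup.mk_mul, ← pow_two]
          exact (QuotientGroup.eq_one_iff _).mpr (hΦ y)
        have hinv : ∀ x : G ⧸ frattini G, x⁻¹ = x := fun x => inv_eq_of_mul_eq_one_right (hsq x)
        calc a * b = (a * b)⁻¹ := (hinv _).symm
          _ = b * a := by rw [mul_inv_rev, hinv, hinv] }
  let L := (G ⧸ frattini G) →* ℂˣ
  let res : L →* (G →* ℂˣ) :=
    { toFun := fun l => l.comp (QuotientGroup.mk' (frattini G))
      map_one' := rfl
      map_mul' := fun _ _ => rfl }
  have hres : Function.Injective res := fun a b h => MonoidHom.ext fun x => by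
    obtain ⟨y, rfl⟩ := QuotientGroup.mk'_surjective (frattini G) x
    exact DFunLike.congr_fun h y
  have hres1 : ∀ (l : L) (g : G), ((res l) (g ^ 2) : ℂ) = 1 := fun l g => by
    show ((l (QuotientGroup.mk' (frattini G) (g ^ 2))) : ℂ) = 1
    rw [show QuotientGroup.mk' (frattini G) (g ^ 2) = 1 from (QuotientGroup.eq_one_iff _).mpr (hΦ g),
      map_one, Units.val_one]
  have hLcard : Nat.card L = Nat.card (G ⧸ frattini G) :=
    Nat.card_congr (CommGroup.monoidHom_mulEquiv_of_hasEnoughRootsOfUnity (G ⧸ frattini G) ℂ).some.toEquiv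
  have : Finite L := Nat.finite_of_card_ne_zero (by rw [hLcard]; exact Nat.card_pos.ne')
  let _ : Fintype L := Fintype.ofFinite L
  -- it acts on the irreducible characters
  let act : MulAction L (IrrCharacter G) :=
    { smul := fun l χ => ⟨fun g => (res l g : ℂ) * (χ : G → ℂ) g, IsIrr.mul_linear χ.2 (res l)⟩
      one_smul := fun χ => Subtype.ext (funext fun g => by
        show (res 1 g : ℂ) * (χ : G → ℂ) g = (χ : G → ℂ) g
        simp)
      mul_smul := fun a b χ => Subtype.ext (funext fun g => by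
        show (res (a * b) g : ℂ) * (χ : G → ℂ) g = (res a g : ℂ) * ((res b g : ℂ) * (χ : G → ℂ) g)
        simp [mul_assoc]) }
  let ν : IrrCharacter G → ℤ := fun χ => (indicator_int (IsIrr.isCharacter χ.2)).choose
  have hν : ∀ χ : IrrCharacter G, (Nat.card G : ℂ)⁻¹ * ∑ g : G, (χ : G → ℂ) (g ^ 2) = (ν χ : ℂ) :=
    fun χ => (indicator_int (IsIrr.isCharacter χ.2)).choose_spec
  let deg : IrrCharacter G → ℕ := fun χ => (IsIrr.one_eq_pos χ.2).choose
  have hdeg : ∀ χ : IrrCharacter G, (χ : G → ℂ) 1 = (deg χ : ℂ) := fun χ =>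
    (IsIrr.one_eq_pos χ.2).choose_spec.2
  let f : IrrCharacter G → ℤ := fun χ => ν χ * deg χ
  have htotal : ((Nat.card {x : G // x ^ 2 = 1} : ℤ)) = ∑ χ : IrrCharacter G, f χ := by
    have key : ((Nat.card {x : G // x ^ 2 = 1} : ℕ) : ℂ) = ∑ χ : IrrCharacter G, (f χ : ℂ) := by
      have h1 : ∑ χ : IrrCharacter G, (f χ : ℂ) = (Nat.card G : ℂ)⁻¹ *
          ∑ g : G, (if g ^ 2 = 1 then (Nat.card G : ℂ) else 0) := by
        rw [Finset.sum_congr rfl fun g _ => (regular_expansion (g ^ 2)).symm, Finset.sum_comm,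
          Finset.mul_sum]
        refine Finset.sum_congr rfl fun χ _ => ?_
        simp only [f, Int.cast_mul, Int.cast_natCast, ← hν, ← hdeg, Finset.mul_sum, Finset.sum_mul]
        refine Finset.sum_congr rfl fun g _ => ?_
        ring
      rw [h1, ← Finset.sum_filter, Finset.sum_const, nsmul_eq_mul, mul_left_comm, inv_mul_cancel₀ hgC,
        mul_one, Nat.card_eq_fintype_card, Fintype.card_subtype]
    exact_mod_cast key
  have hfinv : ∀ (l : L) (χ : IrrCharacter G), f (l • χ) = f χ := by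
    intro l χ
    have e1 : ν (l • χ) = ν χ := by
      have := hν (l • χ)
      rw [show (∑ g : G, ((l • χ : IrrCharacter G) : G → ℂ) (g ^ 2)) = ∑ g : G, (χ : G → ℂ) (g ^ 2) from
        Finset.sum_congr rfl fun g _ => by
          show (res l (g ^ 2) : ℂ) * (χ : G → ℂ) (g ^ 2) = _
          rw [hres1, one_mul], hν] at this
      exact_mod_cast this.symm
    have e2 : deg (l • χ) = deg χ := by
      have := hdeg (l • χ)
      rw [show ((l • χ : IrrCharacter G) : G → ℂ) 1 = (χ : G → ℂ) 1 from by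
        show (res l 1 : ℂ) * (χ : G → ℂ) 1 = _
        simp, hdeg] at this
      exact_mod_cast this.symm
    simp [f, e1, e2]
  -- stabilizers are small
  have hstab : ∀ χ : IrrCharacter G,
      Nat.card (MulAction.stabilizer L χ) ≤ deg χ ^ 2 := by
    intro χ
    set S := MulAction.stabilizer L χ
    let _ : Fintype S := Fintype.ofFinite S
    have hvan : ∀ g : G, (∀ l : S, (res l g : ℂ) = 1) ∨ (χ : G → ℂ) g = 0 := by
      intro g
      by_cases h0 : (χ : G → ℂ) g = 0
      · exact Or.inr h0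
      refine Or.inl fun l => ?_
      have := congrFun (congrArg Subtype.val l.2) g
      exact mul_right_cancel₀ h0 (by rw [one_mul]; exact this)
    have hsum : ∀ g : G, ∑ l : S, (res l g : ℂ) =
        if (∀ l : S, (res l g : ℂ) = 1) then (Nat.card S : ℂ) else 0 := by
      intro g
      split_ifs with hg
      · rw [Finset.sum_congr rfl fun l _ => hg l, Finset.sum_const, nsmul_eq_mul, mul_one,
          Finset.card_univ, Nat.card_eq_fintype_card]
      · push Not at hg
        obtain ⟨l₀, hl₀⟩ := hg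
        have e : (res l₀ g : ℂ) * ∑ l : S, (res l g : ℂ) = ∑ l : S, (res l g : ℂ) := by
          rw [Finset.mul_sum]
          exact Fintype.sum_equiv (Equiv.mulLeft l₀) _ _ fun l => by simp
        exact (mul_left_eq_self₀.mp e).resolve_left hl₀
    set K := Finset.univ.filter fun g : G => ∀ l : S, (res l g : ℂ) = 1
    have hK : Nat.card S * K.card = Nat.card G := by
      have h2 : ∑ l : S, ∑ g : G, (res l g : ℂ) = (Nat.card G : ℂ) := by
        rw [Finset.sum_eq_single (1 : S) (fun l _ hl => sum_linear_eq_zero fun h => hl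
            (Subtype.ext (hres (h.trans (map_one res).symm)))) (by simp)]
        simp [Nat.card_eq_fintype_card]
      rw [Finset.sum_comm, Finset.sum_congr rfl fun g _ => hsum g, ← Finset.sum_filter,
        Finset.sum_const, nsmul_eq_mul] at h2
      have h3 : ((K.card * Nat.card S : ℕ) : ℂ) = (Nat.card G : ℂ) := by rw [Nat.cast_mul]; exact h2
      rw [mul_comm]; exact_mod_cast h3
    have hnorm : (Nat.card G : ℝ) ≤ K.card * (deg χ : ℝ) ^ 2 := by
      have h1 := classInner_self_irr χ.2
      rw [classInner] at h1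
      have h2 : ∑ g : G, ((‖(χ : G → ℂ) g‖ ^ 2 : ℝ) : ℂ) = (Nat.card G : ℂ) := by
        have := congrArg ((Nat.card G : ℂ) * ·) h1
        simp only [← mul_assoc, mul_inv_cancel₀ hgC, one_mul, mul_one] at this
        rw [← this]
        refine Finset.sum_congr rfl fun g _ => ?_
        rw [Complex.mul_conj, Complex.normSq_eq_norm_sq]
      have h3 : ∑ g : G, ‖(χ : G → ℂ) g‖ ^ 2 = (Nat.card G : ℝ) := by exact_mod_cast h2
      rw [← h3, ← Finset.sum_filter_add_sum_filter_not Finset.univ (fun g => ∀ l : S, (res l g : ℂ) = 1)]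
      have h4 : ∑ g ∈ Finset.univ.filter (fun g : G => ¬ ∀ l : S, (res l g : ℂ) = 1),
          ‖(χ : G → ℂ) g‖ ^ 2 = 0 := Finset.sum_eq_zero fun g hg => by
        rw [(hvan g).resolve_left (Finset.mem_filter.mp hg).2]; simp
      rw [h4, add_zero]
      refine (Finset.sum_le_card_nsmul _ _ _ fun g _ => ?_).trans_eq (by rw [nsmul_eq_mul])
      refine pow_le_pow_left₀ (norm_nonneg _) ?_ 2
      refine (IsChar.norm_le (IsIrr.isCharacter χ.2) g).trans_eq ?_
      rw [hdeg, Complex.norm_natCast]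
    have h5 : (Nat.card G) ≤ K.card * deg χ ^ 2 := by exact_mod_cast hnorm
    rw [← hK, mul_comm] at h5
    exact Nat.le_of_mul_le_mul_left h5 (Nat.pos_of_ne_zero fun h0 =>
      (Nat.card_pos (α := G)).ne' (by rw [← hK, h0, mul_zero]))
  -- orbit sums
  have h2k : (2 : ℤ) ^ (k + 1) ∣ ∑ χ : IrrCharacter G, f χ := by
    rw [← Finset.sum_fiberwise_of_maps_to (g := fun χ : IrrCharacter G => MulAction.orbit L χ)
      (t := Finset.univ.image fun χ : IrrCharacter G => MulAction.orbit L χ)
      (fun χ hχ => Finset.mem_image_of_mem _ hχ)]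
    refine Finset.dvd_sum fun O hO => ?_
    obtain ⟨χ, -, rfl⟩ := Finset.mem_image.mp hO
    have hfib : ∀ ψ ∈ Finset.univ.filter (fun ψ : IrrCharacter G =>
        MulAction.orbit L ψ = MulAction.orbit L χ), f ψ = f χ := fun ψ hψ => by
      obtain ⟨l, hl⟩ := MulAction.orbit_eq_iff.mp (Finset.mem_filter.mp hψ).2
      rw [← hl]
      exact hfinv l χ
    rw [Finset.sum_congr rfl hfib, Finset.sum_const, nsmul_eq_mul]
    have hcard : (Finset.univ.filter (fun ψ : IrrCharacter G =>
        MulAction.orbit L ψ = MulAction.orbit L χ)).card * Nat.card (MulAction.stabilizer L χ) =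
        Nat.card L := by
      have : (Finset.univ.filter (fun ψ : IrrCharacter G =>
          MulAction.orbit L ψ = MulAction.orbit L χ)).card = Nat.card (MulAction.orbit L χ) := by
        rw [Nat.card_coe_set_eq, ← Set.ncard_coe_finset]
        congr 1
        ext ψ
        simp [MulAction.orbit_eq_iff]
      rw [this, Nat.card_congr (MulAction.orbitEquivQuotientStabilizer L χ), ← Subgroup.index_eq_card,
        mul_comm]
      exact Subgroup.card_mul_index _
    obtain ⟨D, hD⟩ := IsPGroup.iff_card.mp (hG.to_quotient (frattini G))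
    rw [← hLcard] at hD
    obtain ⟨n₂, hn₂⟩ := IsPGroup.iff_card.mp hG
    obtain ⟨e, -, he⟩ := (Nat.dvd_prime_pow Nat.prime_two).mp (hn₂ ▸ IsIrr.degree_dvd_card χ.2 (hdeg χ))
    obtain ⟨s, hsD, hs⟩ := (Nat.dvd_prime_pow Nat.prime_two).mp
      (hD ▸ (MulAction.stabilizer L χ).card_subgroup_dvd_card)
    have hDk : 2 * k + 1 ≤ D := by
      rw [← hLcard, hD] at hgen
      exact (Nat.pow_le_pow_iff_right (by norm_num)).mp hgen
    have hse : s ≤ 2 * e := by
      have := hstab χ
      rw [hs, he, ← pow_mul, mul_comm e] at this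
      exact (Nat.pow_le_pow_iff_right (by norm_num)).mp this
    rw [hs, hD, show D = (D - s) + s by omega, pow_add] at hcard
    rw [Nat.eq_of_mul_eq_mul_right (Nat.two_pow_pos s) hcard]
    simp only [f, he]
    push_cast
    rw [mul_left_comm, ← pow_add]
    exact Dvd.dvd.mul_left (pow_dvd_pow 2 (by omega)) _
  rw [← htotal] at h2k
  exact_mod_cast h2k

end Cfsg.Agent.S4058
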