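import Cfsg.Statements.S4059
import Cfsg.Agent.S3863

set_option autoImplicit false
open Cfsg

namespace Cfsg.Agent.S4059

/-- Let G be a finite group in which every element is conjugate to its inverse. Then: every non-identity element commuting with all elements of some Sylow 2-subgroup is an involution; the centre of G is an elementary abelian 2-group; the commutator quotient G/G' is an elementary abelian 2-group; and G is generated by its 2-elements. -/
theorem result {G : Type*} [Group G] [Finite G] (hamb : ∀ x : G, IsConj x x⁻¹) :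
    (∀ (S : Sylow 2 G) (x : G), x ∈ Subgroup.centralizer ((S : Subgroup G) : Set G) → x ≠ 1 → orderOf x = 2) ∧
    (∀ z : G, z ∈ Subgroup.center G → z ^ 2 = 1) ∧
    (∀ x : G, x ^ 2 ∈ commutator G) ∧
    Subgroup.closure {x : G | ∃ k : ℕ, orderOf x = 2 ^ k} = ⊤ := by
  refine ⟨fun S x hx hx1 => ?_, fun z hz => ?_, fun x => ?_, ?_⟩
  · refine orderOf_eq_prime ((S3863.result x (hamb x)).2.1 ?_) hx1
    have hle : (S : Subgroup G) ≤ Subgroup.centralizer ({x} : Set G) := fun s hs =>
      Subgroup.mem_centralizer_singleton_iff.mpr (Subgroup.mem_centralizer_iff.mp hx s hs)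
    exact Nat.odd_iff.mpr (Nat.two_dvd_ne_zero.mp fun h => S.not_dvd_index (h.trans (Subgroup.index_dvd_of_le hle)))
  · obtain ⟨g, hg⟩ := isConj_iff.mp (hamb z)
    rw [Subgroup.mem_center_iff.mp hz g, mul_inv_cancel_right, eq_inv_iff_mul_eq_one] at hg
    rw [sq, hg]
  · obtain ⟨g, hg⟩ := isConj_iff.mp (hamb x)
    have h := Subgroup.commutator_mem_commutator (Subgroup.mem_top x) (Subgroup.mem_top g)
    rw [commutatorElement_def, show x * g * x⁻¹ * g⁻¹ = x * (g * x * g⁻¹)⁻¹ * 1 by group, hg, inv_inv, mul_one, ← sq] at h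
    exact h
  · set K := Subgroup.closure {x : G | ∃ k : ℕ, orderOf x = 2 ^ k} with hK
    have : K.Normal := ⟨fun z hz g => by
      have hle : K.map (MulAut.conj g).toMonoidHom ≤ K := by
        rw [hK, MonoidHom.map_closure, Subgroup.closure_le]
        rintro _ ⟨a, ⟨k, ha⟩, rfl⟩
        exact Subgroup.subset_closure ⟨k, (orderOf_injective _ (MulAut.conj g).injective a).trans ha⟩
      exact hle ⟨z, hz, rfl⟩⟩
    obtain ⟨S⟩ : Nonempty (Sylow 2 G) := Sylow.nonempty
    have hle : (S : Subgroup G) ≤ K := fun s hs => by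
      obtain ⟨k, hk⟩ := IsPGroup.iff_orderOf.mp S.isPGroup' ⟨s, hs⟩
      exact Subgroup.subset_closure ⟨k, by rwa [Subgroup.orderOf_mk] at hk⟩
    have hodd : Odd K.index :=
      Nat.odd_iff.mpr (Nat.two_dvd_ne_zero.mp fun h => S.not_dvd_index (h.trans (Subgroup.index_dvd_of_le hle)))
    exact eq_top_iff.mpr fun x _ => ((S3863.result x (hamb x)).2.2 K hodd).1

end Cfsg.Agent.S4059
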