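import Cfsg.Statements.S4060
import Cfsg.Agent.Lib.Grp.Real
import Cfsg.Agent.Lib.Grp.Solvable
-- import your own Cfsg.Agent.* helpers here

set_option autoImplicit false
open Cfsg

namespace Cfsg.Agent.S4060

open scoped Pointwise commutatorElement

universe w

theorem real_aux : ∀ (n : ℕ) (G : Type w) [Group G] [Finite G] [Group.IsSolvable G], Nat.card G = n →
    ∀ (S : Sylow 2 G) (x : G), x ≠ 1 → Odd (orderOf x) →
    x ∈ Subgroup.normalizer ((S : Subgroup G) : Set G) → ¬ IsConj x x⁻¹ := by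
  intro n
  induction n using Nat.strong_induction_on with
  | _ n ih =>
  intro G _ _ _ hn S x hx hodd hnorm hc
  have : Nontrivial G := ⟨⟨x, 1, hx⟩⟩
  obtain ⟨N, hNn, hNb, -, hNmin⟩ := Cfsg.Agent.Grp.exists_minimal_normal_le (N := (⊤ : Subgroup G)) top_ne_bot
  set f := QuotientGroup.mk' N with hf
  have hfs : Function.Surjective f := QuotientGroup.mk'_surjective N
  by_cases hxN : x ∈ N
  · obtain ⟨hab, -⟩ := Cfsg.Agent.Grp.minimal_normal_solvable inferInstance hNb hNmin
    obtain ⟨q, hq, hNq⟩ := Cfsg.Agent.Grp.minimal_normal_solvable_isPGroup inferInstance hNb hNmin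
    have := Fact.mk hq
    have hq2 : q ≠ 2 := by
      rintro rfl
      obtain ⟨k, hk⟩ := hNq ⟨x, hxN⟩
      have h1 : x ^ 2 ^ k = 1 := by simpa using congrArg Subtype.val hk
      have hco : Nat.Coprime (2 ^ k) (orderOf x) := Nat.Coprime.pow_left _ (Nat.coprime_two_left.mpr hodd)
      exact hx (orderOf_eq_one_iff.mp (Nat.dvd_one.mp (hco ▸ Nat.dvd_gcd (orderOf_dvd_of_pow_eq_one h1) dvd_rfl)))
    have hinf : (S : Subgroup G) ⊓ N = ⊥ := by
      refine Cfsg.Agent.Grp.inf_eq_bot_of_coprime ?_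
      obtain ⟨a, ha⟩ := IsPGroup.iff_card.mp S.isPGroup'
      obtain ⟨b, hb⟩ := IsPGroup.iff_card.mp hNq
      rw [ha, hb]
      exact Nat.Coprime.pow _ _ ((Nat.coprime_primes Nat.prime_two hq).mpr hq2.symm)
    have hSC : (S : Subgroup G) ≤ Subgroup.centralizer {x} := by
      intro s hs
      rw [Subgroup.mem_centralizer_singleton_iff]
      have hmem : ⁅s, x⁆ ∈ (S : Subgroup G) ⊓ N := by
        refine ⟨?_, ?_⟩
        · rw [show ⁅s, x⁆ = s * (x * s⁻¹ * x⁻¹) by simp [commutatorElement_def, mul_assoc]]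
          exact Subgroup.mul_mem _ hs ((Subgroup.mem_normalizer_iff.mp hnorm s⁻¹).mp (Subgroup.inv_mem _ hs))
        · rw [commutatorElement_def]
          exact N.mul_mem (hNn.conj_mem x hxN s) (N.inv_mem hxN)
      rw [hinf, Subgroup.mem_bot, commutatorElement_eq_one_iff_mul_comm] at hmem
      exact hmem
    obtain ⟨g, hg⟩ := isConj_iff.mp hc
    have h2 := Cfsg.Agent.Grp.two_dvd_relIndex_centralizer_of_real
      (fun h => hx (Cfsg.Agent.Grp.eq_one_of_odd_of_sq hodd h)) hg ⊤ trivial le_top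
    rw [Subgroup.relIndex_top_right] at h2
    exact S.not_dvd_index (h2.trans (Subgroup.index_dvd_of_le hSC))
  · refine ih _ (hn ▸ Cfsg.Agent.Grp.card_quotient_lt hNb) (G ⧸ N) rfl (S.mapSurjective hfs) (f x)
      (fun e => hxN ((QuotientGroup.eq_one_iff x).mp e)) (hodd.of_dvd_nat (orderOf_map_dvd f x)) ?_ ?_
    · exact Subgroup.le_normalizer_map f ⟨x, hnorm, rfl⟩
    · have := f.map_isConj hc
      rwa [map_inv] at this

/-- Let G be a finite solvable group with Sylow 2-subgroup S, and let x ≠ 1 be an element of odd order normalizing S. Then x is not conjugate to its inverse in G. -/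
theorem result {G : Type*} [Group G] [Finite G] [Group.IsSolvable G]
    (S : Sylow 2 G) (x : G) (hx : x ≠ 1) (hodd : Odd (orderOf x))
    (hnorm : x ∈ Subgroup.normalizer ((S : Subgroup G) : Set G)) : ¬ IsConj x x⁻¹ := by
  exact real_aux _ G rfl S x hx hodd hnorm

end Cfsg.Agent.S4060
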