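import Cfsg.Statements.S4062
import Mathlib
import Cfsg.Agent.Lib.Grp.AmbivalentSolvable

set_option autoImplicit false
open Cfsg

namespace Cfsg.Agent.S4062

/-- A finite solvable group in which any two elements of the same order are conjugate has order 1 or 2 or is isomorphic to the symmetric group of degree 3. -/
theorem result {G : Type*} [Group G] [Finite G] [Group.IsSolvable G]
    (h : ∀ x y : G, orderOf x = orderOf y → IsConj x y) :
    Nat.card G = 1 ∨ Nat.card G = 2 ∨ Nonempty (G ≃* Equiv.Perm (Fin 3)) := by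
  classical
  haveI : Fact (Nat.Prime 2) := ⟨Nat.prime_two⟩
  have hamb : ∀ x : G, IsConj x x⁻¹ := fun x => h x x⁻¹ (orderOf_inv x).symm
  have hone : ∀ s t : G, orderOf s = 2 → orderOf t = 2 → IsConj s t := fun s t hs ht => h s t (hs.trans ht.symm)
  by_cases heven : 2 ∣ Nat.card G
  swap
  · left
    have hodd : Odd (Nat.card G) := Nat.not_even_iff_odd.mp (fun he => heven (even_iff_two_dvd.mp he))
    have hu := Agent.Grp.Ambivalent.subsingleton_of_odd hamb hodd
    exact Nat.card_eq_one_iff_unique.mpr ⟨⟨fun a b => (hu a).trans (hu b).symm⟩, ⟨1⟩⟩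
  let S : Sylow 2 G := default
  rcases Agent.Grp.Ambivalent.sylow_shape hamb heven hone S with hS | ⟨k, ⟨e⟩⟩
  · obtain ⟨hcompl, hKc, hinv⟩ := Agent.Grp.Ambivalent.order_two hamb heven S hS
    set K := Cfsg.pPrimeCore 2 G with hKdef
    have hKn : K.Normal := Agent.Grp.pPrimeCore_isNormal
    obtain ⟨t₀, ht₀⟩ : ∃ t : (S : Subgroup G), t ≠ 1 := by
      have : Nontrivial (S : Subgroup G) := Finite.one_lt_card_iff_nontrivial.mp (by rw [hS]; omega)
      exact exists_ne 1
    set t : G := (t₀ : G) with htdef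
    have ht1 : t ≠ 1 := fun e => ht₀ (Subtype.ext e)
    have hab : ∀ x ∈ K, ∀ y ∈ K, x * y = y * x := fun x hx y hy => by
      have h1 := hinv t t₀.2 ht1 _ (mul_mem hx hy)
      rw [show t * (x * y) * t⁻¹ = (t * x * t⁻¹) * (t * y * t⁻¹) by group, hinv t t₀.2 ht1 x hx,
        hinv t t₀.2 ht1 y hy, ← mul_inv_rev, inv_inj] at h1
      exact h1.symm
    have hcl : ∀ x ∈ K, ∀ y : G, IsConj x y → y = x ∨ y = x⁻¹ := by
      intro x hx y hy
      obtain ⟨g, hg⟩ := isConj_iff.mp hy
      obtain ⟨⟨s, k⟩, hsk⟩ := hcompl.2 g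
      have hkx : (k : G) * x * (k : G)⁻¹ = x := by rw [hab k k.2 x hx, mul_inv_cancel_right]
      rw [← hg, ← hsk]
      show (s : G) * (k : G) * x * ((s : G) * (k : G))⁻¹ = x ∨ (s : G) * (k : G) * x * ((s : G) * (k : G))⁻¹ = x⁻¹
      rw [show (s : G) * (k : G) * x * ((s : G) * (k : G))⁻¹ = (s : G) * ((k : G) * x * (k : G)⁻¹) * (s : G)⁻¹ by group, hkx]
      by_cases hs : (s : G) = 1
      · left; rw [hs]; group
      · right; exact hinv s s.2 hs x hx
    have hodd : Odd (Nat.card K) := Nat.coprime_two_right.mp Agent.Grp.pPrimeCore_coprime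
    have h3 : ∀ x ∈ K, x ≠ 1 → orderOf x = 3 := by
      intro x hx hx1
      have hcop : (orderOf x).Coprime 2 :=
        Nat.Coprime.coprime_dvd_left (Subgroup.orderOf_dvd_natCard K hx) hodd.coprime_two_right
      rcases hcl x hx (x ^ 2) (h _ _ (Nat.Coprime.orderOf_pow hcop).symm) with e | e
      · exact absurd (by rwa [pow_two, mul_eq_left] at e) hx1
      · haveI : Fact (Nat.Prime 3) := ⟨Nat.prime_three⟩
        exact orderOf_eq_prime (by rw [pow_succ, e, inv_mul_cancel]) hx1
    by_cases hK : ∀ x ∈ K, x = 1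
    · right; left
      have := hcompl.card_mul_card
      rw [hS, (Subgroup.eq_bot_iff_forall K).mpr hK, Subgroup.card_bot, mul_one] at this
      exact this.symm
    right; right
    push Not at hK
    obtain ⟨x, hx, hx1⟩ := hK
    have hKset : ∀ y ∈ K, y = 1 ∨ y = x ∨ y = x⁻¹ := fun y hy => by
      by_cases hy1 : y = 1
      · exact Or.inl hy1
      · exact Or.inr (hcl x hx y (h x y ((h3 x hx hx1).trans (h3 y hy hy1).symm)))
    have hK3 : Nat.card K = 3 := by
      have e : K = Subgroup.zpowers x := le_antisymm (fun y hy => by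
        rcases hKset y hy with rfl | rfl | rfl
        · exact one_mem _
        · exact Subgroup.mem_zpowers _
        · exact inv_mem (Subgroup.mem_zpowers _)) (Subgroup.zpowers_le.mpr hx)
      rw [e, Nat.card_zpowers, h3 x hx hx1]
    have hidx : (S : Subgroup G).index = 3 := by rw [hcompl.symm.index_eq_card, hK3]
    let φ := MulAction.toPermHom G (G ⧸ (S : Subgroup G))
    have hker : φ.ker = ⊥ := by
      rw [← Subgroup.normalCore_eq_ker, eq_bot_iff]
      intro y hy
      by_contra hy1
      rw [Subgroup.mem_bot] at hy1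
      have hyS : y ∈ (S : Subgroup G) := Subgroup.normalCore_le _ hy
      have h1 : x * y * x⁻¹ * y⁻¹ ∈ K ⊓ (S : Subgroup G) := by
        refine ⟨?_, (S : Subgroup G).mul_mem (Subgroup.normalCore_le _ ((Subgroup.normalCore_normal _).conj_mem y hy x)) ((S : Subgroup G).inv_mem hyS)⟩
        rw [mul_assoc x, mul_assoc x]
        exact K.mul_mem hx (hKn.conj_mem _ (K.inv_mem hx) y)
      rw [hcompl.symm.disjoint.eq_bot, Subgroup.mem_bot, mul_inv_eq_one, mul_inv_eq_iff_eq_mul] at h1
      have h2 := hinv y hyS hy1 x hx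
      rw [← h1, mul_inv_cancel_right] at h2
      have : x ^ 2 = 1 := by rw [pow_two]; nth_rw 1 [h2]; exact inv_mul_cancel x
      have := orderOf_dvd_of_pow_eq_one this
      rw [h3 x hx hx1] at this
      omega
    have hinj : Function.Injective φ := (MonoidHom.ker_eq_bot_iff φ).mp hker
    have hcard : Nat.card (Equiv.Perm (G ⧸ (S : Subgroup G))) ≤ Nat.card G := by
      rw [Nat.card_perm, ← Subgroup.index_eq_card, hidx, ← hcompl.card_mul_card, hS, hK3]
      decide
    let e3 : (G ⧸ (S : Subgroup G)) ≃ Fin 3 := Finite.equivFinOfCardEq (by rw [← Subgroup.index_eq_card, hidx])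
    exact ⟨(MulEquiv.ofBijective φ (hinj.bijective_of_nat_card_le hcard)).trans e3.permCongrHom⟩
  · exfalso
    have : Nontrivial G := Finite.one_lt_card_iff_nontrivial.mp
      (lt_of_lt_of_le one_lt_two (Nat.le_of_dvd Nat.card_pos heven))
    set m := 2 ^ (k + 1) with hm
    have : NeZero m := ⟨(pow_pos two_pos (k + 1)).ne'⟩
    let π : QuaternionGroup m →* Abelianization G :=
      Abelianization.of.comp ((S : Subgroup G).subtype.comp e.symm.toMonoidHom)
    have hsame : ∀ q q' : QuaternionGroup m, orderOf q = 4 → orderOf q' = 4 → π q = π q' := by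
      intro q q' hq hq'
      have hj : Function.Injective ((S : Subgroup G).subtype.comp e.symm.toMonoidHom) :=
        (S : Subgroup G).subtype_injective.comp e.symm.injective
      have := MonoidHom.map_isConj Abelianization.of
        (h _ _ ((orderOf_injective _ hj q).trans (hq.trans (hq'.symm.trans (orderOf_injective _ hj q').symm))))
      exact isConj_iff_eq.mp this
    have hsq : ∀ z : Abelianization G, z * z = 1 := by
      intro z
      obtain ⟨x, rfl⟩ := QuotientGroup.mk'_surjective (commutator G) z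
      have h1 := isConj_iff_eq.mp (MonoidHom.map_isConj (Abelianization.of (G := G)) (hamb x))
      rw [map_inv, eq_inv_iff_mul_eq_one] at h1
      exact h1
    have ha : ∀ i : ZMod (2 * m), π (QuaternionGroup.a i) = 1 := by
      intro i
      have h1 := hsame (QuaternionGroup.xa 0) (QuaternionGroup.xa (i - (m : ZMod (2 * m)))) (QuaternionGroup.orderOf_xa _) (QuaternionGroup.orderOf_xa _)
      have h2 : π (QuaternionGroup.xa 0 * QuaternionGroup.xa (i - (m : ZMod (2 * m)))) = 1 := by
        rw [map_mul, ← h1, hsq]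
      rwa [QuaternionGroup.xa_mul_xa, show (m : ZMod (2 * m)) + (i - m) - 0 = i by ring] at h2
    have h4 : orderOf (QuaternionGroup.a ((2 ^ k : ℕ) : ZMod (2 * m))) = 4 := by
      rw [← QuaternionGroup.a_one_pow, orderOf_pow_of_dvd (by positivity) (by
        rw [QuaternionGroup.orderOf_a_one, hm]; exact ⟨4, by ring⟩), QuaternionGroup.orderOf_a_one, hm]
      rw [show 2 * 2 ^ (k + 1) = 4 * 2 ^ k by ring, Nat.mul_div_cancel _ (pow_pos two_pos k)]
    have hall : ∀ q, π q = 1 := fun q => by
      rcases q with i | i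
      · exact ha i
      · exact (hsame _ _ (QuaternionGroup.orderOf_xa i) h4).trans (ha _)
    have hSle : (S : Subgroup G) ≤ commutator G := fun s hs => by
      have := hall (e ⟨s, hs⟩)
      simp only [π, MonoidHom.comp_apply, MulEquiv.coe_toMonoidHom, MulEquiv.symm_apply_apply] at this
      exact (QuotientGroup.eq_one_iff s).mp this
    have htop : commutator G = ⊤ := by
      rw [← Subgroup.index_eq_one]
      by_contra hne
      obtain ⟨q, hq, hqd⟩ := Nat.exists_prime_and_dvd hne
      have : Fact q.Prime := ⟨hq⟩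
      obtain ⟨z, hz⟩ := exists_prime_orderOf_dvd_card' (G := Abelianization G) q hqd
      have h2 : q ∣ 2 := hz ▸ orderOf_dvd_of_pow_eq_one (by rw [pow_two]; exact hsq z)
      rw [(Nat.prime_dvd_prime_iff_eq hq Nat.prime_two).mp h2] at hqd
      exact S.not_dvd_index (hqd.trans (Subgroup.index_dvd_of_le hSle))
    exact (Group.IsSolvable.commutator_lt_top_of_nontrivial (G := G)).ne htop

end Cfsg.Agent.S4062
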