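import Cfsg.Statements.S4065
import Mathlib

set_option autoImplicit false
open Cfsg

namespace Cfsg.Agent.S4065

/-- Let F be a finite field with 2ⁿ elements, n ≥ 2. In PSL₂(F) the centralizer of every element meets each of its conjugates by elements outside its normalizer trivially. -/
theorem result (n : ℕ) (hn : 2 ≤ n)
    (x : Matrix.ProjectiveSpecialLinearGroup (Fin 2) (GaloisField 2 n)) :
    Cfsg.IsTISubset (Subgroup.centralizer ({x} : Set (Matrix.ProjectiveSpecialLinearGroup (Fin 2) (GaloisField 2 n))) :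
      Set (Matrix.ProjectiveSpecialLinearGroup (Fin 2) (GaloisField 2 n))) := by
  classical
  -- parallel data
  have hcomm : ∀ (y g h : Matrix.SpecialLinearGroup (Fin 2) (GaloisField 2 n)), y ≠ 1 →
      y * g = g * y → y * h = h * y → g * h = h * g := by
    intro y g h hy hg hh
    have eg := congrArg (fun M : Matrix.SpecialLinearGroup (Fin 2) (GaloisField 2 n) => (M : Matrix (Fin 2) (Fin 2) (GaloisField 2 n))) hg
    have eh := congrArg (fun M : Matrix.SpecialLinearGroup (Fin 2) (GaloisField 2 n) => (M : Matrix (Fin 2) (Fin 2) (GaloisField 2 n))) hh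
    simp only [Matrix.SpecialLinearGroup.coe_mul, Matrix.mul_fin_two, ← Matrix.ext_iff, Fin.forall_fin_two,
      Matrix.mul_apply, Fin.sum_univ_two] at eg eh
    obtain ⟨⟨g1, g2⟩, g3, -⟩ := eg
    obtain ⟨⟨h1, h2⟩, h3, -⟩ := eh
    apply Subtype.ext
    ext i j
    have hdet := y.2
    rw [Matrix.det_fin_two] at hdet
    have hnz : (y : Matrix (Fin 2) (Fin 2) (GaloisField 2 n)) 0 1 ≠ 0 ∨ (y : Matrix (Fin 2) (Fin 2) (GaloisField 2 n)) 1 0 ≠ 0 ∨
        (y : Matrix (Fin 2) (Fin 2) (GaloisField 2 n)) 0 0 - (y : Matrix (Fin 2) (Fin 2) (GaloisField 2 n)) 1 1 ≠ 0 := by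
      by_contra hc
      push Not at hc
      obtain ⟨hb, hc', ha⟩ := hc
      rw [sub_eq_zero] at ha
      rw [hb, ← ha, zero_mul, sub_zero, ← pow_two] at hdet
      have h2 : ((2 : GaloisField 2 n)) = 0 := CharTwo.two_eq_zero
      have : ((y : Matrix (Fin 2) (Fin 2) (GaloisField 2 n)) 0 0 - 1) * ((y : Matrix (Fin 2) (Fin 2) (GaloisField 2 n)) 0 0 - 1) = 0 := by
        linear_combination hdet - ((y : Matrix (Fin 2) (Fin 2) (GaloisField 2 n)) 0 0 - 1) * h2
      have h1 := sub_eq_zero.mp (mul_self_eq_zero.mp this)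
      apply hy
      apply Subtype.ext
      ext a b
      fin_cases a <;> fin_cases b <;>
        simp only [Fin.zero_eta, Fin.mk_one, Matrix.SpecialLinearGroup.coe_one, Matrix.one_apply_eq, ne_eq, zero_ne_one, one_ne_zero, not_false_eq_true, Matrix.one_apply_ne]
      · exact h1
      · exact hb
      · exact hc'
      · rw [← ha]; exact h1
    simp only [Matrix.SpecialLinearGroup.coe_mul, Matrix.mul_apply, Fin.sum_univ_two]
    rcases hnz with hb | hc | hd
    · apply mul_left_cancel₀ hb
      fin_cases i <;> fin_cases j <;> simp only [Fin.zero_eta, Fin.mk_one] <;> grind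
    · apply mul_left_cancel₀ hc
      fin_cases i <;> fin_cases j <;> simp only [Fin.zero_eta, Fin.mk_one] <;> grind
    · apply mul_left_cancel₀ hd
      fin_cases i <;> fin_cases j <;> simp only [Fin.zero_eta, Fin.mk_one] <;> grind
  have hQ : ∀ (y g h : Matrix.ProjectiveSpecialLinearGroup (Fin 2) (GaloisField 2 n)), y ≠ 1 →
      y * g = g * y → y * h = h * y → g * h = h * g := by
    have hc : Subgroup.center (Matrix.SpecialLinearGroup (Fin 2) (GaloisField 2 n)) = ⊥ := by
      rw [eq_bot_iff]
      intro s hs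
      obtain ⟨r, hr, hrs⟩ := Matrix.SpecialLinearGroup.mem_center_iff.mp hs
      have hr1 : r = 1 := by
        simp only [Fintype.card_fin] at hr
        have h2 : ((2 : GaloisField 2 n)) = 0 := CharTwo.two_eq_zero
        have : (r - 1) * (r - 1) = 0 := by linear_combination hr - (r - 1) * h2
        exact sub_eq_zero.mp (mul_self_eq_zero.mp this)
      rw [Subgroup.mem_bot]
      apply Subtype.ext
      rw [← hrs, hr1]
      simp
    intro y g h hy hg hh
    obtain ⟨y, rfl⟩ := QuotientGroup.mk_surjective y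
    obtain ⟨g, rfl⟩ := QuotientGroup.mk_surjective g
    obtain ⟨h, rfl⟩ := QuotientGroup.mk_surjective h
    have hinj : ∀ a b : Matrix.SpecialLinearGroup (Fin 2) (GaloisField 2 n),
        (QuotientGroup.mk a : Matrix.ProjectiveSpecialLinearGroup (Fin 2) (GaloisField 2 n)) = QuotientGroup.mk b → a = b := by
      intro a b e
      have := QuotientGroup.eq.mp e
      rw [hc, Subgroup.mem_bot, inv_mul_eq_one] at this
      exact this
    show (QuotientGroup.mk (g * h) : Matrix.ProjectiveSpecialLinearGroup (Fin 2) (GaloisField 2 n)) = QuotientGroup.mk (h * g)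
    rw [hcomm y g h (fun e => hy (by rw [e]; rfl)) (hinj _ _ hg) (hinj _ _ hh)]
  intro g hg w hw hgw
  by_contra hw1
  apply hg
  rcases eq_or_ne x 1 with rfl | hx1
  · rw [Subgroup.mem_normalizer_iff]
    intro z
    simp [Subgroup.mem_centralizer_singleton_iff]
  rw [SetLike.mem_coe, Subgroup.mem_centralizer_singleton_iff] at hw hgw
  have hgw1 : g * w * g⁻¹ ≠ 1 := fun e => hw1 (conj_eq_one_iff.mp e)
  have key : ∀ z, z * x = x * z → (g * z * g⁻¹) * x = x * (g * z * g⁻¹) := by
    intro z hz
    refine hQ (g * w * g⁻¹) _ x hgw1 ?_ hgw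
    calc g * w * g⁻¹ * (g * z * g⁻¹) = g * (w * z) * g⁻¹ := by group
      _ = g * (z * w) * g⁻¹ := by rw [hQ x w z hx1 hw.symm hz.symm]
      _ = _ := by group
  rw [Subgroup.mem_normalizer_iff_map_conj_eq]
  refine Subgroup.eq_of_le_of_card_ge ?_ (Subgroup.card_map_of_injective (MulAut.conj g).injective).ge
  rintro _ ⟨z, hz, rfl⟩
  rw [SetLike.mem_coe, Subgroup.mem_centralizer_singleton_iff] at hz
  rw [Subgroup.mem_centralizer_singleton_iff]
  exact key z hz

end Cfsg.Agent.S4065
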