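import Cfsg.Statements.S4066
import Cfsg.Agent.Lib.Grp.Signalizer

set_option autoImplicit false
open Cfsg

namespace Cfsg.Agent.S4066

/-- Let G be a finite group in which the centralizer of every element meets each of its conjugates by elements outside its normalizer trivially. Then any two distinct Sylow p-subgroups of G, for any prime p, intersect trivially. -/
theorem result {G : Type*} [Group G] [Finite G] (hTI : ∀ x : G, Cfsg.IsTISubset (Subgroup.centralizer ({x} : Set G) : Set G))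
    {p : ℕ} [Fact p.Prime] (P Q : Sylow p G) (hPQ : P ≠ Q) : (P : Subgroup G) ⊓ (Q : Subgroup G) = ⊥ := by
  have hTI' : ∀ v g a : G, a ≠ 1 → a * v = v * a → (g * a * g⁻¹) * v = v * (g * a * g⁻¹) →
      g ∈ Subgroup.normalizer ((Subgroup.centralizer ({v} : Set G) : Subgroup G) : Set G) := by
    intro v g a ha h1 h2
    by_contra hg
    exact ha (hTI v g hg a (Subgroup.mem_centralizer_singleton_iff.mpr h1) (Subgroup.mem_centralizer_singleton_iff.mpr h2))
  rw [eq_bot_iff]
  rintro x ⟨hxP, hxQ⟩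
  rw [Subgroup.mem_bot]
  by_contra hx1
  obtain ⟨g, rfl⟩ := MulAction.exists_smul_eq G P Q
  have hconj : ∀ a, a ∈ ((g • P : Sylow p G) : Subgroup G) ↔ g⁻¹ * a * g ∈ (P : Subgroup G) := fun a => by
    rw [Sylow.coe_subgroup_smul, Grp.mem_smul_conj]
  have : Nontrivial (P : Subgroup G) := ⟨⟨⟨x, hxP⟩, 1, fun e => hx1 (congrArg Subtype.val e)⟩⟩
  have := P.isPGroup'.center_nontrivial
  obtain ⟨⟨⟨z, hzP⟩, hz⟩, hz1⟩ := exists_ne (1 : Subgroup.center (P : Subgroup G))
  have hz1' : z ≠ 1 := fun e => hz1 (Subtype.ext (Subtype.ext e))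
  have hzc : ∀ y ∈ (P : Subgroup G), y * z = z * y := fun y hy =>
    congrArg Subtype.val (Subgroup.mem_center_iff.mp hz ⟨y, hy⟩)
  set C := Subgroup.centralizer ({z} : Set G) with hC
  have hgN : g ∈ Subgroup.normalizer (C : Set G) := by
    refine hTI' z g (g⁻¹ * x * g) ?_ (hzc _ ((hconj x).mp hxQ)) ?_
    · intro e
      exact hx1 (by simpa [mul_assoc] using congrArg (fun w => g * w * g⁻¹) e)
    · rw [show g * (g⁻¹ * x * g) * g⁻¹ = x by group]; exact hzc x hxP
  have hQC : ((g • P : Sylow p G) : Subgroup G) ≤ C := fun a ha => by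
    have h1 : g⁻¹ * a * g ∈ C := Subgroup.mem_centralizer_singleton_iff.mpr (hzc _ ((hconj a).mp ha))
    have := (Subgroup.mem_normalizer_iff.mp hgN _).mp h1
    simpa [mul_assoc] using this
  refine hPQ (Sylow.ext ?_)
  refine P.is_maximal' (g • P).isPGroup' ?_ |>.symm
  intro y hy
  by_cases hy1 : y = 1
  · rw [hy1]; exact one_mem _
  set S : Set G := {w | ∃ c ∈ C, w = c * y * c⁻¹} with hS
  have hDn : ∀ c ∈ C, c ∈ Subgroup.normalizer ((Subgroup.centralizer ({y} : Set G) : Subgroup G) : Set G) := fun c hc =>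
    hTI' y c z hz1' (hzc y hy).symm (by
      rw [Subgroup.mem_centralizer_singleton_iff.mp hc, mul_inv_cancel_right]; exact (hzc y hy).symm)
  have hpair : ∀ a ∈ S, ∀ b ∈ S, a * b = b * a := by
    rintro _ ⟨c, hc, rfl⟩ _ ⟨d, hd, rfl⟩
    have hy' : y ∈ Subgroup.centralizer ({y} : Set G) := Subgroup.mem_centralizer_singleton_iff.mpr rfl
    have h1 := (Subgroup.mem_normalizer_iff.mp (hDn _ (mul_mem (inv_mem hd) hc)) y).mp hy'
    have h2 := Subgroup.mem_centralizer_singleton_iff.mp h1
    calc c * y * c⁻¹ * (d * y * d⁻¹) = d * ((d⁻¹ * c * y * (d⁻¹ * c)⁻¹) * y) * d⁻¹ := by group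
      _ = d * (y * (d⁻¹ * c * y * (d⁻¹ * c)⁻¹)) * d⁻¹ := by rw [h2]
      _ = _ := by group
  set K := Subgroup.closure S with hK
  have hK1 : ∀ a ∈ K, ∀ b ∈ S, a * b = b * a := fun a ha b hb => by
    have : K ≤ Subgroup.centralizer ({b} : Set G) :=
      (Subgroup.closure_le _).mpr fun w hw => Subgroup.mem_centralizer_singleton_iff.mpr (hpair w hw b hb)
    exact Subgroup.mem_centralizer_singleton_iff.mp (this ha)
  have hK2 : ∀ a ∈ K, ∀ b ∈ K, a * b = b * a := fun a ha b hb => by
    have : K ≤ Subgroup.centralizer ({a} : Set G) :=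
      (Subgroup.closure_le _).mpr fun w hw => Subgroup.mem_centralizer_singleton_iff.mpr (hK1 a ha w hw).symm
    exact (Subgroup.mem_centralizer_singleton_iff.mp (this hb)).symm
  have hCK : C ≤ Subgroup.normalizer (K : Set G) := by
    rw [← Grp.invariant_iff]
    intro c hc w hw
    have : K.map (MulAut.conj c).toMonoidHom ≤ K := by
      rw [hK, MonoidHom.map_closure, Subgroup.closure_le]
      rintro _ ⟨_, ⟨d, hd, rfl⟩, rfl⟩
      exact Subgroup.subset_closure ⟨c * d, mul_mem hc hd, by simp [mul_assoc]⟩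
    exact this ⟨w, hw, rfl⟩
  obtain ⟨k, hk⟩ := IsPGroup.iff_orderOf.mp P.isPGroup' ⟨y, hy⟩
  rw [Subgroup.orderOf_mk] at hk
  have hKp : IsPGroup p K := fun a => ⟨k, Subtype.ext (by
    have : ∀ w, w ∈ K → w ^ (p ^ k) = 1 := by
      intro w hw
      induction hw using Subgroup.closure_induction with
      | mem w hw =>
        obtain ⟨c, -, rfl⟩ := hw
        rw [conj_pow, ← hk, pow_orderOf_eq_one, mul_one, mul_inv_cancel]
      | one => exact one_pow _
      | mul u v hu hv ihu ihv => rw [(show Commute u v from hK2 u hu v hv).mul_pow, ihu, ihv, one_mul]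
      | inv u hu ih => rw [inv_pow, ih, inv_one]
    simpa using this a a.2)⟩
  have hKQ : K ≤ ((g • P : Sylow p G) : Subgroup G) := by
    rw [← (g • P : Sylow p G).is_maximal' (IsPGroup.to_sup_of_normal_left' hKp (g • P : Sylow p G).isPGroup' (hQC.trans hCK)) le_sup_right]
    exact le_sup_left
  exact hKQ (Subgroup.subset_closure ⟨1, one_mem _, by simp⟩)

end Cfsg.Agent.S4066
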