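import Cfsg.Statements.S4068
import Cfsg.Agent.Lib.Grp.PrimeOrderSimple
import Cfsg.Agent.Lib.Grp.Solvable
-- import your own Cfsg.Agent.* helpers here

set_option autoImplicit false
open Cfsg

namespace Cfsg.Agent.S4068

/-- A finite non-solvable group on which its automorphism group has exactly four orbits is isomorphic to the alternating group of degree 5. -/
theorem result {G : Type*} [Group G] [Finite G] (hns : ¬ Group.IsSolvable G)
    (h4 : Nat.card (MulAction.orbitRel.Quotient (MulAut G) G) = 4) : Nonempty (G ≃* alternatingGroup (Fin 5)) := by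
  classical
  have : Fintype G := Fintype.ofFinite G
  set n := Nat.card G with hn
  have hne : n ≠ 0 := Nat.card_pos.ne'
  -- at least three primes
  have h3le : 3 ≤ n.primeFactors.card := by
    by_contra hlt
    push Not at hlt
    obtain ⟨p, q, hp, hq, hsub⟩ : ∃ p q : ℕ, p.Prime ∧ q.Prime ∧ n.primeFactors ⊆ {p, q} := by
      rcases Nat.lt_or_ge n.primeFactors.card 1 with h0 | h0
      · refine ⟨2, 2, Nat.prime_two, Nat.prime_two, ?_⟩
        rw [Finset.card_eq_zero.mp (by omega : n.primeFactors.card = 0)]
        exact Finset.empty_subset _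
      rcases Nat.lt_or_ge n.primeFactors.card 2 with h1 | h1
      · obtain ⟨p, hp⟩ := Finset.card_eq_one.mp (by omega : n.primeFactors.card = 1)
        have hpp : p.Prime := Nat.prime_of_mem_primeFactors (n := n) (by rw [hp]; simp)
        exact ⟨p, p, hpp, hpp, by rw [hp]; simp⟩
      · obtain ⟨p, q, -, hpq⟩ := Finset.card_eq_two.mp (by omega : n.primeFactors.card = 2)
        exact ⟨p, q, Nat.prime_of_mem_primeFactors (n := n) (by rw [hpq]; simp),
          Nat.prime_of_mem_primeFactors (n := n) (by rw [hpq]; simp), by rw [hpq]⟩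
    refine hns ?_
    by_cases hpq : p = q
    · refine Cfsg.Agent.S0144.result p q (n.factorization p) 0 hp hq ?_
      rw [pow_zero, mul_one, ← hn]
      refine Nat.eq_of_factorization_eq hne (pow_ne_zero _ hp.ne_zero) fun r => ?_
      rw [hp.factorization_pow]
      by_cases h1 : r = p
      · subst h1; simp
      · rw [Finsupp.single_eq_of_ne h1]
        refine Finsupp.notMem_support_iff.mp fun h => ?_
        have := hsub (Nat.support_factorization n ▸ h)
        simp [hpq ▸ h1, h1] at this
    · refine Cfsg.Agent.S0144.result p q (n.factorization p) (n.factorization q) hp hq ?_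
      rw [← hn]
      refine Nat.eq_of_factorization_eq hne (mul_ne_zero (pow_ne_zero _ hp.ne_zero) (pow_ne_zero _ hq.ne_zero)) fun r => ?_
      rw [Nat.factorization_mul (pow_ne_zero _ hp.ne_zero) (pow_ne_zero _ hq.ne_zero),
        hp.factorization_pow, hq.factorization_pow, Finsupp.add_apply]
      by_cases h1 : r = p
      · subst h1; simp [hpq]
      by_cases h2 : r = q
      · subst h2; simp [h1]
      rw [Finsupp.single_eq_of_ne h1, Finsupp.single_eq_of_ne h2, add_zero]
      refine Finsupp.notMem_support_iff.mp fun h => ?_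
      have := hsub (Nat.support_factorization n ▸ h)
      simp [h1, h2] at this
  -- the orders separate the orbits
  let Q := MulAction.orbitRel.Quotient (MulAut G) G
  let f : Q → ℕ := Quotient.lift (fun x : G => orderOf x) (by
    intro a b hab
    obtain ⟨σ, rfl⟩ : ∃ σ : MulAut G, σ • b = a := hab
    exact orderOf_injective (σ : G →* G) σ.injective b)
  have : Fintype Q := Fintype.ofFinite Q
  have hsubset : insert 1 n.primeFactors ⊆ Finset.univ.image f := by
    intro k hk
    rcases Finset.mem_insert.mp hk with rfl | hk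
    · exact Finset.mem_image.mpr ⟨Quotient.mk'' 1, Finset.mem_univ _, orderOf_one⟩
    · have : Fact k.Prime := ⟨Nat.prime_of_mem_primeFactors hk⟩
      obtain ⟨x, hx⟩ := exists_prime_orderOf_dvd_card' k (Nat.dvd_of_mem_primeFactors hk)
      exact Finset.mem_image.mpr ⟨Quotient.mk'' x, Finset.mem_univ _, hx⟩
  have hcard1 : (insert 1 n.primeFactors).card = n.primeFactors.card + 1 :=
    Finset.card_insert_of_notMem fun h => (Nat.prime_of_mem_primeFactors h).ne_one rfl
  have hle1 := Finset.card_le_card hsubset
  have hle2 : (Finset.univ.image f).card ≤ 4 :=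
    Finset.card_image_le.trans (le_of_eq (by rw [Finset.card_univ, ← Nat.card_eq_fintype_card]; exact h4))
  have h3 : n.primeFactors.card = 3 := by omega
  have heq : insert 1 n.primeFactors = Finset.univ.image f := Finset.eq_of_subset_of_card_le hsubset (by omega)
  have hinj : Function.Injective f := by
    have h5 : (Finset.univ.image f).card = (Finset.univ : Finset Q).card := by
      rw [Finset.card_univ, ← Nat.card_eq_fintype_card, h4]; omega
    exact fun a b h => Finset.card_image_iff.mp h5 (by simp) (by simp) h
  have hG : Cfsg.Agent.Grp.PrimeOrders G := by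
    intro g hg
    have hmem : orderOf g ∈ insert 1 n.primeFactors := by
      rw [heq]; exact Finset.mem_image.mpr ⟨Quotient.mk'' g, Finset.mem_univ _, rfl⟩
    rcases Finset.mem_insert.mp hmem with h | h
    · exact absurd (orderOf_eq_one_iff.mp h) hg
    · exact Nat.prime_of_mem_primeFactors h
  have horb : ∀ x y : G, orderOf x = orderOf y → ∃ σ : MulAut G, σ y = x := by
    intro x y h
    have := hinj (a₁ := Quotient.mk'' x) (a₂ := Quotient.mk'' y) h
    exact Quotient.eq''.mp this
  have : Nontrivial G := by
    by_contra h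
    have : Subsingleton G := not_nontrivial_iff_subsingleton.mp h
    exact hns inferInstance
  -- minimal normal subgroups are not solvable
  have hmin : ∀ M : Subgroup G, M.Normal → M ≠ ⊥ →
      (∀ K : Subgroup G, K.Normal → K ≤ M → K = ⊥ ∨ K = M) →
      ¬ Group.IsSolvable M ∧ Subgroup.centralizer (M : Set G) = ⊥ := by
    intro M hMn hM hMmin
    have hMs : ¬ Group.IsSolvable M := by
      intro hs
      obtain ⟨p, hp, hpM⟩ := Cfsg.Agent.Grp.minimal_normal_solvable_isPGroup hs hM hMmin
      have : Fact p.Prime := ⟨hp⟩
      exact hns (hG.solvable_of_normal hpM hM)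
    refine ⟨hMs, ?_⟩
    by_contra hC
    obtain ⟨c, hc⟩ := Subgroup.ne_bot_iff_exists_ne_one.mp hC
    have hc1 : (c : G) ≠ 1 := by simpa using hc
    refine hMs ?_
    -- all elements of `M` have the order of `c`
    have : Fact (orderOf (c : G)).Prime := ⟨hG _ hc1⟩
    have hpM : IsPGroup (orderOf (c : G)) M := by
      rw [IsPGroup.iff_orderOf]
      intro m
      rcases eq_or_ne m 1 with rfl | hm
      · exact ⟨0, by simp⟩
      refine ⟨1, ?_⟩
      rw [pow_one, ← Subgroup.orderOf_coe]
      exact hG.orderOf_eq_of_commute (by simpa using hm) hc1 (Subgroup.mem_centralizer_iff.mp c.2 m m.2)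
    exact @IsNilpotent.to_isSolvable _ _ hpM.isNilpotent
  obtain ⟨M, hMn, hM, -, hMmin⟩ := Cfsg.Agent.Grp.exists_minimal_normal_le (N := (⊤ : Subgroup G)) top_ne_bot
  obtain ⟨hMs, hMC⟩ := hmin M hMn hM hMmin
  have hchar : ∀ σ : MulAut G, M.map σ.toMonoidHom = M := by
    intro σ
    set M' := M.map σ.toMonoidHom
    have hn' : M'.Normal := hMn.map _ σ.surjective
    by_contra hne
    have hinf : M ⊓ M' = ⊥ := by
      by_contra hb
      have h1 := (hMmin (M ⊓ M') inferInstance inf_le_left).resolve_left hb
      refine hne (Subgroup.eq_of_le_of_card_ge (inf_eq_left.mp h1) ?_).symm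
      exact (Subgroup.card_map_of_injective σ.injective).le
    have hle : M' ≤ Subgroup.centralizer (M : Set G) := fun x hx =>
      Subgroup.mem_centralizer_iff.mpr fun m hm =>
        Subgroup.commute_of_normal_of_disjoint M M' hMn hn' (disjoint_iff.mpr hinf) m x hm hx
    rw [hMC, le_bot_iff, Subgroup.map_eq_bot_iff_of_injective _ σ.injective] at hle
    exact hM hle
  have hMtop : M = ⊤ := by
    refine eq_top_iff.mpr fun g _ => ?_
    rcases eq_or_ne g 1 with rfl | hg
    · exact one_mem M
    have : Fact (orderOf g).Prime := ⟨hG g hg⟩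
    have hd : orderOf g ∣ Nat.card M := by
      by_contra hd
      -- otherwise `M` has at most two prime divisors
      refine hMs ?_
      have hsub : (Nat.card M).primeFactors ⊆ n.primeFactors.erase (orderOf g) := by
        intro r hr
        refine Finset.mem_erase.mpr ⟨fun h => hd (h ▸ Nat.dvd_of_mem_primeFactors hr), ?_⟩
        exact Nat.primeFactors_mono M.card_subgroup_dvd_card hne hr
      have hc2 : (n.primeFactors.erase (orderOf g)).card = 2 := by
        rw [Finset.card_erase_of_mem (Nat.mem_primeFactors.mpr ⟨hG g hg, orderOf_dvd_natCard g, hne⟩), h3]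
      obtain ⟨p, q, hpq, he⟩ := Finset.card_eq_two.mp hc2
      rw [he] at hsub
      have hp : p.Prime := Nat.prime_of_mem_primeFactors (n := n)
        (Finset.mem_of_mem_erase (a := orderOf g) (by rw [he]; simp))
      have hq : q.Prime := Nat.prime_of_mem_primeFactors (n := n)
        (Finset.mem_of_mem_erase (a := orderOf g) (by rw [he]; simp))
      refine Cfsg.Agent.S0144.result p q ((Nat.card M).factorization p) ((Nat.card M).factorization q) hp hq ?_
      refine Nat.eq_of_factorization_eq Nat.card_pos.ne' (mul_ne_zero (pow_ne_zero _ hp.ne_zero) (pow_ne_zero _ hq.ne_zero)) fun r => ?_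
      rw [Nat.factorization_mul (pow_ne_zero _ hp.ne_zero) (pow_ne_zero _ hq.ne_zero),
        hp.factorization_pow, hq.factorization_pow, Finsupp.add_apply]
      by_cases h1 : r = p
      · subst h1; simp [hpq]
      by_cases h2 : r = q
      · subst h2; simp [h1]
      rw [Finsupp.single_eq_of_ne h1, Finsupp.single_eq_of_ne h2, add_zero]
      refine Finsupp.notMem_support_iff.mp fun h => ?_
      have := hsub (Nat.support_factorization (Nat.card M) ▸ h)
      simp [h1, h2] at this
    obtain ⟨m, hm⟩ := exists_prime_orderOf_dvd_card' (orderOf g) hd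
    obtain ⟨σ, hσ⟩ := horb g m (by rw [Subgroup.orderOf_coe, hm])
    rw [← hσ]
    exact (hchar σ).le ⟨m, m.2, rfl⟩
  have : IsSimpleGroup G := ⟨fun H hH => by
    rcases eq_or_ne H ⊥ with h | h
    · exact Or.inl h
    · exact Or.inr (((hMmin H hH (hMtop ▸ le_top)).resolve_left h).trans hMtop)⟩
  refine hG.alternating_five (fun h => hns ?_) h3
  exact Group.isSolvable_of_comm fun a b => h.1.1 a b

end Cfsg.Agent.S4068
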