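import Cfsg.Statements.S4074
import Mathlib

set_option autoImplicit false
open Cfsg

namespace Cfsg.Agent.S4074

/-- For n > 2, every non-abelian subgroup of the dihedral group of order 2n is self-normalizing if and only if n = 4 or n is odd. -/
theorem result (n : ℕ) (hn : 2 < n) :
    (∀ H : Subgroup (DihedralGroup n), ¬ IsMulCommutative H → Subgroup.normalizer (H : Set (DihedralGroup n)) = H) ↔
    (n = 4 ∨ Odd n) := by
  haveI : NeZero n := ⟨by omega⟩
  constructor
  · intro h
    by_contra hc
    push Not at hc
    obtain ⟨h4, hev⟩ := hc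
    obtain ⟨m, rfl⟩ := Nat.not_odd_iff_even.mp hev
    let φ := ZMod.castHom (show 2 ∣ m + m from ⟨m, by ring⟩) (ZMod 2)
    let H : Subgroup (DihedralGroup (m + m)) :=
      { carrier := {x | match x with | DihedralGroup.r i => φ i = 0 | DihedralGroup.sr i => φ i = 0}
        one_mem' := map_zero φ
        mul_mem' := fun {a b} ha hb => by
          rcases a with i | i <;> rcases b with j | j <;> simp_all [DihedralGroup.r_mul_r, DihedralGroup.r_mul_sr, DihedralGroup.sr_mul_r, DihedralGroup.sr_mul_sr]
        inv_mem' := fun {a} ha => by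
          rcases a with i | i <;> simp_all }
    have hm : 3 ≤ m := by omega
    have h2 : φ (2 : ZMod (m + m)) = 0 := by
      rw [map_ofNat]; rfl
    have hH : ¬ IsMulCommutative H := by
      intro hc
      have e := congrArg Subtype.val (mul_comm' (⟨DihedralGroup.r 2, h2⟩ : H) ⟨DihedralGroup.sr 0, map_zero φ⟩)
      simp only [Subgroup.coe_mul, DihedralGroup.r_mul_sr, DihedralGroup.sr_mul_r, DihedralGroup.sr.injEq, zero_sub, zero_add] at e
      have h5 : ((4 : ℕ) : ZMod (m + m)) = 0 := by
        push_cast
        linear_combination -e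
      rw [ZMod.natCast_eq_zero_iff] at h5
      have := Nat.le_of_dvd (by norm_num) h5
      omega
    have h6 : DihedralGroup.r (1 : ZMod (m + m)) ∈ Subgroup.normalizer (H : Set (DihedralGroup (m + m))) := by
      rw [Subgroup.mem_normalizer_iff]
      rintro (i | i)
      · show φ i = 0 ↔ _
        simp only [DihedralGroup.inv_r, DihedralGroup.r_mul_r]
        show φ i = 0 ↔ φ (1 + i + -1) = 0
        rw [add_comm 1 i, add_neg_cancel_right]
      · show φ i = 0 ↔ _
        simp only [DihedralGroup.inv_r, DihedralGroup.r_mul_sr, DihedralGroup.sr_mul_r]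
        show φ i = 0 ↔ φ (i - 1 + -1) = 0
        rw [show i - 1 + -1 = i - 2 by ring, map_sub, h2, sub_zero]
    rw [h H hH] at h6
    have h7 : φ (1 : ZMod (m + m)) = 0 := h6
    rw [map_one] at h7
    exact one_ne_zero h7
  · intro hcase H hH
    by_cases htop : H = ⊤
    · subst htop; exact top_le_iff.mp Subgroup.le_normalizer
    rcases hcase with rfl | hodd
    · exfalso
      obtain ⟨k, hk⟩ : ∃ k, Nat.card H * k = 8 := ⟨H.index, by rw [Subgroup.card_mul_index]; simp [DihedralGroup.card, DihedralGroup.nat_card]⟩
      have hlt : Nat.card H < 8 := by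
        by_contra hge
        exact htop (Subgroup.eq_top_of_card_eq H (le_antisymm (Subgroup.card_le_card_group H) (by rw [DihedralGroup.nat_card]; omega)))
      have hdvd : Nat.card H ∣ 8 := ⟨k, hk.symm⟩
      obtain ⟨j, hj, hj'⟩ := (Nat.dvd_prime_pow Nat.prime_two).mp (show Nat.card H ∣ 2 ^ 3 from hdvd)
      haveI : Fact (Nat.Prime 2) := ⟨Nat.prime_two⟩
      apply hH
      rcases j with _ | _ | _ | j
      · haveI := (Nat.card_eq_one_iff_unique.mp (by rw [hj', pow_zero] : Nat.card H = 1)).1
        exact ⟨⟨fun a b => Subsingleton.elim _ _⟩⟩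
      · haveI := isCyclic_of_prime_card (p := 2) (α := H) (by rw [hj', pow_one])
        infer_instance
      · exact IsPGroup.isMulCommutative_of_card_eq_prime_sq hj'
      · rw [hj'] at hlt
        have : 2 ^ 3 ≤ 2 ^ (j + 1 + 1 + 1) := Nat.pow_le_pow_right (by norm_num) (by omega)
        omega
    · obtain ⟨s, hs⟩ : ∃ i, DihedralGroup.sr i ∈ H := by
        by_contra hc
        push Not at hc
        refine hH ⟨⟨fun a b => Subtype.ext ?_⟩⟩
        obtain ⟨a, ha⟩ := a
        obtain ⟨b, hb⟩ := b
        rcases a with i | i
        · rcases b with j | j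
          · simp [add_comm]
          · exact absurd hb (hc j)
        · exact absurd ha (hc i)
      refine le_antisymm (fun g hg => ?_) Subgroup.le_normalizer
      have hrot : ∀ j : ZMod n, DihedralGroup.r j ∈ Subgroup.normalizer (H : Set (DihedralGroup n)) → DihedralGroup.r j ∈ H := by
        intro j hj
        have h1 := (Subgroup.mem_normalizer_iff.mp hj (DihedralGroup.sr s)).mp hs
        have h2 := H.mul_mem h1 hs
        simp only [DihedralGroup.inv_r, DihedralGroup.r_mul_sr, DihedralGroup.sr_mul_r, DihedralGroup.sr_mul_sr] at h2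
        rw [show s - (s - j + -j) = j + j by ring] at h2
        obtain ⟨t, ht⟩ := hodd
        have h3 := H.pow_mem h2 (t + 1)
        rw [DihedralGroup.r_pow] at h3
        have e : (j + j) * ((t + 1 : ℕ) : ZMod n) = j := by
          have : ((2 * t + 1 : ℕ) : ZMod n) = 0 := by rw [← ht]; exact ZMod.natCast_self n
          push_cast at this ⊢
          linear_combination (norm := ring_nf) j * this
        rwa [e] at h3
      rcases g with j | j
      · exact hrot j hg
      · have h1 : DihedralGroup.r (s - j) ∈ H := hrot _ (by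
          rw [← DihedralGroup.sr_mul_sr]; exact mul_mem hg (Subgroup.le_normalizer hs))
        have := H.mul_mem h1 hs
        rwa [DihedralGroup.r_mul_sr, sub_sub_cancel] at this

end Cfsg.Agent.S4074
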