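import Cfsg.Statements.S4075
import Mathlib

set_option autoImplicit false
open Cfsg

namespace Cfsg.Agent.S4075

/-- Let G be a finite nilpotent group. Every non-abelian subgroup of G is self-normalizing if and only if G is abelian or G is a minimal non-abelian p-group for some prime p (non-abelian of prime-power order with every proper subgroup abelian). -/
theorem result {G : Type*} [Group G] [Finite G]
    [Group.IsNilpotent G] :
    (∀ H : Subgroup G, ¬ IsMulCommutative H → Subgroup.normalizer (H : Set G) = H) ↔
    (IsMulCommutative G ∨ (IsPrimePow (Nat.card G) ∧ ¬ IsMulCommutative G ∧ ∀ H : Subgroup G, H ≠ ⊤ → IsMulCommutative H)) := by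
  constructor
  · intro h
    by_cases hab : IsMulCommutative G
    · exact Or.inl hab
    refine Or.inr ?_
    have hprop : ∀ H : Subgroup G, H ≠ ⊤ → IsMulCommutative H := fun H hH => by
      by_contra hc
      exact ((Group.normalizerCondition_of_isNilpotent H (lt_top_iff_ne_top.mpr hH)).ne' (h H hc))
    refine ⟨?_, hab, hprop⟩
    obtain ⟨p, hp, P, hP⟩ : ∃ (p : ℕ) (_ : Fact p.Prime) (P : Sylow p G), ¬ IsMulCommutative (P : Subgroup G) := by
      by_contra hc
      push Not at hc
      refine hab ⟨⟨fun a b => ?_⟩⟩
      obtain ⟨e⟩ := (Group.isNilpotent_of_finite_tfae (G := G)).out 0 4 |>.mp ‹_›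
      apply e.symm.injective
      rw [map_mul, map_mul]
      ext ⟨q, hq⟩ P
      haveI : IsMulCommutative (P : Subgroup G) := hc q ⟨Nat.prime_of_mem_primeFactors hq⟩ P
      simp only [Pi.mul_apply]
      rw [mul_comm']
    have hPtop : (P : Subgroup G) = ⊤ := by
      by_contra hc
      exact hP (hprop _ hc)
    obtain ⟨k, hk⟩ := IsPGroup.iff_card.mp P.isPGroup'
    rw [hPtop, Subgroup.card_top] at hk
    refine ⟨p, k, hp.out.prime, Nat.pos_of_ne_zero fun hk0 => hab ?_, hk.symm⟩
    haveI := (Nat.card_eq_one_iff_unique.mp (by rw [hk, hk0, pow_zero] : Nat.card G = 1)).1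
    exact ⟨⟨fun a b => Subsingleton.elim _ _⟩⟩
  · rintro (hab | ⟨-, -, hprop⟩) H hH
    · haveI := hab
      exact absurd (inferInstance : IsMulCommutative H) hH
    · have : H = ⊤ := by
        by_contra hc
        exact hH (hprop H hc)
      subst this
      exact top_le_iff.mp Subgroup.le_normalizer

end Cfsg.Agent.S4075
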