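import Cfsg.Statements.S4080
import Mathlib

set_option maxHeartbeats 1000000
set_option maxRecDepth 8000

set_option autoImplicit false
open Cfsg

namespace Cfsg.Agent.S4080

/-- Let p > 3 be a prime and L the direct product of two cyclic groups of order p². Every automorphism of L of order p fixes every element of order p of L. -/
theorem result {p : ℕ} [Fact p.Prime] (hp : 3 < p)
    (a : MulAut (Multiplicative (ZMod (p ^ 2) × ZMod (p ^ 2)))) (ha : orderOf a = p)
    (x : Multiplicative (ZMod (p ^ 2) × ZMod (p ^ 2))) (hx : orderOf x = p) : a x = x := by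
  classical
  haveI : NeZero (p ^ 2) := ⟨pow_ne_zero _ (Fact.out : p.Prime).ne_zero⟩
  have hcard : ∀ z : Multiplicative ((ZMod (p ^ 2)) × (ZMod (p ^ 2))), (a ^ p) z = z := fun z => by
    have h0 := pow_orderOf_eq_one a
    rw [ha] at h0
    rw [h0]; rfl
  let f : Module.End (ZMod (p ^ 2)) ((ZMod (p ^ 2)) × (ZMod (p ^ 2))) :=
    AddMonoidHom.toZModLinearMap (p ^ 2) ({ toFun := fun v => (a (Multiplicative.ofAdd v)).toAdd
                                            map_zero' := by simp
                                            map_add' := fun v w => by simp [ofAdd_add, map_mul] } : (ZMod (p ^ 2)) × (ZMod (p ^ 2)) →+ (ZMod (p ^ 2)) × (ZMod (p ^ 2)))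
  have hfa : ∀ v, f v = (a (Multiplicative.ofAdd v)).toAdd := fun v => rfl
  have hfn : ∀ n : ℕ, ∀ v, (f ^ n) v = ((a ^ n) (Multiplicative.ofAdd v)).toAdd := by
    intro n
    induction n with
    | zero => intro v; rfl
    | succ n ih =>
      intro v
      rw [pow_succ' f n, Module.End.mul_apply, hfa, ih, pow_succ' a n, MulAut.mul_apply]
      rfl
  have hfp : f ^ p = 1 := LinearMap.ext fun v => by rw [hfn, hcard]; rfl
  set e := LinearMap.toMatrixAlgEquiv (Module.Basis.finTwoProd (ZMod (p ^ 2))) with he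
  set A := e f with hA
  have hAp : A ^ p = 1 := by rw [hA, ← map_pow, hfp, map_one]
  set N := A - 1 with hN
  -- reduction modulo `p`
  let φ : (ZMod (p ^ 2)) →+* ZMod p := ZMod.castHom (dvd_pow_self p two_ne_zero) (ZMod p)
  set Nb := N.map φ with hNb
  have hNbp : Nb ^ p = 0 := by
    have h1 : Nb = (φ.mapMatrix A) - 1 := by
      rw [hNb, hN, ← RingHom.mapMatrix_apply, map_sub, map_one]
    rw [h1, sub_pow_char_of_commute p (Commute.one_right _), one_pow, ← map_pow, hAp, map_one, sub_self]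
  have hdet : Nb.det = 0 := by
    have h1 : Nb.det ^ p = 0 := by
      rw [← Matrix.det_pow, hNbp, Matrix.det_zero]
    exact pow_eq_zero_iff (Fact.out : p.Prime).ne_zero |>.1 h1
  have hsq : Nb * Nb = Nb.trace • Nb := by
    rw [Matrix.det_fin_two] at hdet
    ext i j
    fin_cases i <;> fin_cases j <;>
      simp [Matrix.mul_apply, Fin.sum_univ_two, Matrix.trace_fin_two] <;> first | ring1 | linear_combination -hdet
  have hsq0 : Nb * Nb = 0 := by
    have hpow : ∀ n : ℕ, Nb ^ (n + 1) = Nb.trace ^ n • Nb := by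
      intro n
      induction n with
      | zero => simp
      | succ n ih => rw [pow_succ, ih, smul_mul_assoc, hsq, smul_smul, ← pow_succ]
    obtain ⟨m, hm⟩ : ∃ m, p = m + 1 + 1 := ⟨p - 2, by omega⟩
    have h1 := hpow (m + 1)
    rw [← hm, hNbp] at h1
    rcases smul_eq_zero.1 h1.symm with h | h
    · rw [hsq, (pow_eq_zero_iff (by omega)).1 h, zero_smul]
    · rw [h, mul_zero]
  obtain ⟨M, hM⟩ : ∃ M : Matrix (Fin 2) (Fin 2) (ZMod (p ^ 2)), N * N = (p : (ZMod (p ^ 2))) • M := by
    have h1 : ∀ i j, ∃ r : (ZMod (p ^ 2)), (N * N) i j = (p : (ZMod (p ^ 2))) * r := by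
      intro i j
      have h2 : φ ((N * N) i j) = 0 := by
        have := congrFun (congrFun hsq0 i) j
        rw [hNb, ← RingHom.mapMatrix_apply, ← map_mul] at this
        exact this
      have h3 : (p : ℕ) ∣ ((N * N) i j).val := by
        rw [← ZMod.natCast_eq_zero_iff]
        rw [ZMod.castHom_apply, ZMod.cast_eq_val] at h2
        exact h2
      obtain ⟨r, hr⟩ := h3
      exact ⟨(r : (ZMod (p ^ 2))), by rw [← ZMod.natCast_zmod_val ((N * N) i j), hr, Nat.cast_mul]⟩
    choose M hM using h1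
    exact ⟨Matrix.of M, Matrix.ext fun i j => hM i j⟩
  have hp0 : (p : (ZMod (p ^ 2))) * (p : (ZMod (p ^ 2))) = 0 := by rw [← Nat.cast_mul, ← sq, ZMod.natCast_self]
  have hpN : (p : (ZMod (p ^ 2))) • N = 0 := by
    have hbig : ∀ k, 4 ≤ k → N ^ k = 0 := fun k hk => by
      obtain ⟨l, rfl⟩ := Nat.exists_eq_add_of_le hk
      rw [pow_add, show N ^ 4 = (N * N) * (N * N) by noncomm_ring, hM, smul_mul_assoc, mul_smul_comm, smul_smul, hp0,
        zero_smul, zero_mul]
    have hmid : ∀ k, 2 ≤ k → k ≤ p → (p.choose k : (ZMod (p ^ 2))) • N ^ k = 0 := fun k hk hkp => by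
      rcases eq_or_lt_of_le hkp with rfl | hlt
      · rw [hbig k (by omega), smul_zero]
      obtain ⟨c, hc⟩ := (Fact.out : p.Prime).dvd_choose_self (by omega) hlt
      obtain ⟨l, rfl⟩ := Nat.exists_eq_add_of_le hk
      rw [hc, Nat.cast_mul, pow_add, show N ^ 2 = N * N from sq N, hM, smul_mul_assoc, smul_smul,
        mul_right_comm, hp0, zero_mul, zero_smul]
    have hexp : A ^ p = ∑ k ∈ Finset.range (p + 1), (p.choose k : (ZMod (p ^ 2))) • N ^ k := by
      rw [show A = N + 1 by rw [hN, sub_add_cancel], (Commute.one_right N).add_pow]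
      refine Finset.sum_congr rfl fun k _ => ?_
      rw [one_pow, mul_one, Nat.cast_smul_eq_nsmul, nsmul_eq_mul, (Nat.cast_commute (p.choose k) (N ^ k)).eq]
    rw [hAp, ← Finset.sum_range_add_sum_Ico _ (show 2 ≤ p + 1 by omega), Finset.sum_range_succ, Finset.sum_range_one,
      Finset.sum_eq_zero (fun k hk => hmid k (Finset.mem_Ico.1 hk).1 (by have := (Finset.mem_Ico.1 hk).2; omega)),
      add_zero, Nat.choose_zero_right, Nat.choose_one_right, Nat.cast_one, one_smul, pow_zero, pow_one] at hexp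
    exact (add_eq_left.1 hexp.symm)
  have hfix : ∀ v, (p : (ZMod (p ^ 2))) • (f v - v) = 0 := by
    have h1 : (p : (ZMod (p ^ 2))) • (f - 1) = 0 := e.injective (by
      rw [map_smul, map_sub, map_one, map_zero, ← hA, ← hN, hpN])
    exact fun v => LinearMap.congr_fun h1 v
  obtain ⟨y, hy⟩ : ∃ y, x.toAdd = (p : (ZMod (p ^ 2))) • y := by
    have h1 : p • x.toAdd = 0 := by
      have h0 := pow_orderOf_eq_one x
      rw [hx] at h0
      rw [← toAdd_pow, h0]; rfl
    have h2 : ∀ r : (ZMod (p ^ 2)), p • r = 0 → ∃ s : (ZMod (p ^ 2)), r = (p : (ZMod (p ^ 2))) * s := fun r hr => by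
      rw [nsmul_eq_mul, ← ZMod.natCast_zmod_val r, ← Nat.cast_mul, ZMod.natCast_eq_zero_iff] at hr
      have hr' : p * p ∣ p * r.val := by rw [← sq]; exact hr
      obtain ⟨s, hs⟩ := Nat.dvd_of_mul_dvd_mul_left (Fact.out : p.Prime).pos hr'
      exact ⟨s, by rw [← Nat.cast_mul, ← hs, ZMod.natCast_zmod_val]⟩
    obtain ⟨s₁, hs₁⟩ := h2 x.toAdd.1 (congrArg Prod.fst h1)
    obtain ⟨s₂, hs₂⟩ := h2 x.toAdd.2 (congrArg Prod.snd h1)
    exact ⟨(s₁, s₂), Prod.ext hs₁ hs₂⟩
  have h := hfix y
  rw [smul_sub, ← map_smul, ← hy, sub_eq_zero, hfa, ofAdd_toAdd] at h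
  exact Multiplicative.toAdd.injective h

end Cfsg.Agent.S4080
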