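import Cfsg.Statements.S4081
import Cfsg.Agent.S0144
import Cfsg.Agent.Lib.Recog.Hughes
import Cfsg.Agent.Lib.Grp.Cores
import Cfsg.Agent.Lib.Grp.Solvable

set_option autoImplicit false
open Cfsg

namespace Cfsg.Agent.S4081

open Cfsg.Agent Cfsg.Agent.Hughes
open scoped IsMulCommutative
open Polynomial

universe u

section semilinear

variable {V : Type u} [AddCommGroup V] {p q : ℕ} [Fact p.Prime] [Fact q.Prime] [Module (ZMod p) V]

theorem aeval_cyclotomic_eq_zero (Y : Module.End (ZMod p) V) (hY : Y ^ q = 1)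
    (hf : ∀ v, Y v = v → v = 0) : aeval Y (cyclotomic q (ZMod p)) = 0 := by
  refine LinearMap.ext fun v => hf _ ?_
  have h : aeval Y (cyclotomic q (ZMod p) * (X - 1)) = 0 := by
    rw [cyclotomic_prime_mul_X_sub_one]; simp [hY]
  rw [mul_comm, map_mul] at h
  have := LinearMap.congr_fun h v
  simp only [map_sub, aeval_X, map_one, Module.End.mul_apply, LinearMap.sub_apply,
    Module.End.one_apply, LinearMap.zero_apply] at this
  simpa [sub_eq_zero] using this

theorem exists_equiv_apply {K : Type*} [Field K] {A B : Type u} [AddCommGroup A] [Module K A]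
    [AddCommGroup B] [Module K B] [Finite A] [Finite B] (hcard : Nat.card A = Nat.card B)
    {a : A} {b : B} (ha : a ≠ 0) (hb : b ≠ 0) (hK : Nontrivial K ∧ Finite K) :
    ∃ e : A ≃+ B, e a = b ∧ ∀ (k : K) (x : A), e (k • x) = k • e x := by
  classical
  haveI := hK.2
  haveI : Module.Finite K A := Module.Finite.of_finite
  haveI : Module.Finite K B := Module.Finite.of_finite
  let bA := Module.Basis.ofVectorSpace K A
  let bB := Module.Basis.ofVectorSpace K B
  let sA := Module.Basis.extend (LinearIndepOn.singleton (R := K) (v := id) ha)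
  let sB := Module.Basis.extend (LinearIndepOn.singleton (R := K) (v := id) hb)
  have hrank : Module.finrank K A = Module.finrank K B := by
    refine Nat.pow_right_injective (a := Nat.card K) Finite.one_lt_card ?_
    change Nat.card K ^ Module.finrank K A = Nat.card K ^ Module.finrank K B
    rw [← Module.natCard_eq_pow_finrank, ← Module.natCard_eq_pow_finrank, hcard]
  let e₀ : A ≃ₗ[K] B := LinearEquiv.ofFinrankEq A B hrank
  let σ := sA.indexEquiv (sB.map e₀.symm)
  have haS : a ∈ (LinearIndepOn.singleton (R := K) (v := id) ha).extend (Set.subset_univ _) :=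
    LinearIndepOn.subset_extend _ _ rfl
  have hbS : b ∈ (LinearIndepOn.singleton (R := K) (v := id) hb).extend (Set.subset_univ _) :=
    LinearIndepOn.subset_extend _ _ rfl
  set E := sA.equiv sB (σ.trans (Equiv.swap (σ ⟨a, haS⟩) ⟨b, hbS⟩)) with hE
  refine ⟨E.toAddEquiv, ?_, fun k x => E.map_smul k x⟩
  show E a = b
  have h1 : sA ⟨a, haS⟩ = a := Module.Basis.extend_apply_self _ _
  refine (congrArg _ h1.symm).trans ?_
  rw [hE, Module.Basis.equiv_apply, Equiv.trans_apply, Equiv.swap_apply_left]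
  exact Module.Basis.extend_apply_self _ _

/-- For `p` a primitive root mod `q` any two fixed-point-free operators of order `q` are similar, transitively. -/
theorem semilinear [Finite V] (hord : orderOf (p : ZMod q) = q - 1) (hpq : p ≠ q)
    (Y Z : Module.End (ZMod p) V) (hY : Y ^ q = 1) (hYf : ∀ v, Y v = v → v = 0)
    (hZ : Z ^ q = 1) (hZf : ∀ v, Z v = v → v = 0) {v w : V} (hv : v ≠ 0) (hw : w ≠ 0) :
    ∃ T : V ≃+ V, T v = w ∧ ∀ u, T (Y u) = Z (T u) := by
  classical
  set Φ := cyclotomic q (ZMod p)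
  have hq := (Fact.out : q.Prime)
  have hirr : Irreducible Φ := by
    have hn : ¬ p ∣ q := fun h => hpq ((Nat.prime_dvd_prime_iff_eq Fact.out hq).mp h)
    refine ZMod.irreducible_of_dvd_cyclotomic_of_natDegree hn dvd_rfl ?_
    rw [natDegree_cyclotomic, Nat.totient_prime hq, ← orderOf_units, ZMod.coe_unitOfCoprime, hord]
  let I : Ideal (ZMod p)[X] := Ideal.span {Φ}
  haveI : I.IsMaximal := PrincipalIdealRing.isMaximal_of_irreducible hirr
  letI : Field ((ZMod p)[X] ⧸ I) := Ideal.Quotient.field I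
  haveI : Finite ((ZMod p)[X] ⧸ I) := by
    haveI : Module.Finite (ZMod p) (AdjoinRoot Φ) := (AdjoinRoot.powerBasis hirr.ne_zero).finite
    exact Module.finite_of_finite (ZMod p) (M := AdjoinRoot Φ)
  have mk : ∀ (W : Module.End (ZMod p) V), aeval W Φ = 0 →
      ∃ f : ((ZMod p)[X] ⧸ I) →+* Module.End (ZMod p) V, f (Ideal.Quotient.mk I X) = W := by
    intro W hW
    refine ⟨Ideal.Quotient.lift I (aeval W).toRingHom fun g hg => ?_, by simp⟩
    obtain ⟨c, rfl⟩ := Ideal.mem_span_singleton'.mp hg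
    simp [hW]
  obtain ⟨fY, hfY⟩ := mk Y (aeval_cyclotomic_eq_zero Y hY hYf)
  obtain ⟨fZ, hfZ⟩ := mk Z (aeval_cyclotomic_eq_zero Z hZ hZf)
  let K := (ZMod p)[X] ⧸ I
  let mY : Module K V := Module.compHom V fY
  let mZ : Module K V := Module.compHom V fZ
  obtain ⟨e, he, hsmul⟩ := @exists_equiv_apply K _ V V _ mY _ mZ _ _ rfl v w hv hw ⟨inferInstance, inferInstance⟩
  refine ⟨e, he, fun u => ?_⟩
  have := hsmul (Ideal.Quotient.mk I X) u
  change e (fY _ u) = fZ _ (e u) at this
  rw [hfY, hfZ] at this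
  exact this

end semilinear

theorem semilinear₁ {V : Type u} [AddCommGroup V] [Finite V] {p q : ℕ} [Fact p.Prime] [Fact q.Prime]
    [Module (ZMod p) V] (hord : orderOf (p : ZMod q) = q - 1) (hpq : p ≠ q)
    (Y Z : AddMonoid.End V) (hY : Y ^ q = 1) (hYf : ∀ v, Y v = v → v = 0)
    (hZ : Z ^ q = 1) (hZf : ∀ v, Z v = v → v = 0) {v w : V} (hv : v ≠ 0) (hw : w ≠ 0) :
    ∃ T : V ≃+ V, T v = w ∧ ∀ u, T (Y u) = Z (T u) := by
  let L : AddMonoid.End V → Module.End (ZMod p) V := fun W => AddMonoidHom.toZModLinearMap p W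
  have conv : ∀ W : AddMonoid.End V, W ^ q = 1 → L W ^ q = 1 := by
    intro W hW
    refine LinearMap.ext fun a => ?_
    rw [Module.End.pow_apply]
    show (W : V → V)^[q] a = a
    rw [← AddMonoid.End.coe_pow, hW]
    rfl
  exact semilinear hord hpq (L Y) (L Z) (conv Y hY) hYf (conv Z hZ) hZf hv hw

theorem semilinear' {V : Type u} [AddCommGroup V] [Finite V] {p q : ℕ} [Fact p.Prime] [Fact q.Prime]
    (hV : ∀ v : V, p • v = 0) (hord : orderOf (p : ZMod q) = q - 1) (hpq : p ≠ q)
    (Y Z : AddMonoid.End V) (hY : Y ^ q = 1) (hYf : ∀ v, Y v = v → v = 0)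
    (hZ : Z ^ q = 1) (hZf : ∀ v, Z v = v → v = 0) {v w : V} (hv : v ≠ 0) (hw : w ≠ 0) :
    ∃ T : V ≃+ V, T v = w ∧ ∀ u, T (Y u) = Z (T u) :=
  @semilinear₁ V _ _ p q _ _ (AddCommGroup.zmodModule hV) hord hpq Y Z hY hYf hZ hZf v w hv hw

/-- Transitivity on nonzero vectors by maps twisting `Y` into powers forces `p` to be primitive mod `q`. -/
theorem primitive {V : Type u} [AddCommGroup V] [Nontrivial V] [Finite V] {p q : ℕ} [Fact p.Prime] [Fact q.Prime]
    [Module (ZMod p) V] (Y : AddMonoid.End V) (hY : Y ^ q = 1) (hYf : ∀ v, Y v = v → v = 0)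
    (htw : ∀ v w : V, v ≠ 0 → w ≠ 0 → ∃ T : V ≃+ V, T v = w ∧
      ∃ k : ℕ, ¬ q ∣ k ∧ ∀ u, T (Y u) = (Y ^ k) (T u))
    (htw' : ∀ i : ℕ, ¬ q ∣ i → ∃ T : V ≃+ V, ∀ u, T (Y u) = (Y ^ i) (T u))
    (hpq : p ≠ q) : orderOf (p : ZMod q) = q - 1 := by
  classical
  have hp := (Fact.out : p.Prime)
  have hq := (Fact.out : q.Prime)
  have hn : ¬ p ∣ q := fun h => hpq ((Nat.prime_dvd_prime_iff_eq hp hq).mp h)
  haveI : NeZero (q : ZMod p) := ⟨fun h => hn ((ZMod.natCast_eq_zero_iff _ _).mp h)⟩ 
  let L : AddMonoid.End V → Module.End (ZMod p) V := fun W => AddMonoidHom.toZModLinearMap p W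
  have hLp : ∀ (W : AddMonoid.End V) (n : ℕ), L (W ^ n) = L W ^ n := by
    intro W n
    refine LinearMap.ext fun a => ?_
    rw [Module.End.pow_apply]
    show (W ^ n : AddMonoid.End V) a = (W : V → V)^[n] a
    rw [AddMonoid.End.coe_pow]
  have hYq : L Y ^ q = 1 := by rw [← hLp, hY]; rfl
  set y := L Y
  have hΦ : aeval y (cyclotomic q (ZMod p)) = 0 := aeval_cyclotomic_eq_zero y hYq hYf
  have hint : IsIntegral (ZMod p) y := ⟨cyclotomic q (ZMod p), cyclotomic.monic q _, hΦ⟩
  have hμd : minpoly (ZMod p) y ∣ cyclotomic q (ZMod p) := minpoly.dvd _ _ hΦ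
  have hcancel : ∀ (f h : (ZMod p)[X]) (x : V), IsCoprime f h → aeval y f x = 0 → aeval y h x = 0 → x = 0 := by
    rintro f h x ⟨a, b, hab⟩ h1 h2
    have := congrArg (fun r => aeval y r x) hab
    simp only [map_add, map_mul, map_one, LinearMap.add_apply, Module.End.mul_apply, h1, h2, map_zero,
      add_zero, Module.End.one_apply] at this
    exact this.symm
  have hμu : ¬ IsUnit (minpoly (ZMod p) y) := minpoly.not_isUnit _ _
  obtain ⟨f, hfirr, g, hμ⟩ := WfDvdMonoid.exists_irreducible_factor hμu (minpoly.ne_zero hint)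
  have hfd : f ∣ cyclotomic q (ZMod p) := (dvd_mul_right f g).trans (hμ ▸ hμd)
  have hcop : IsCoprime f g := by
    refine hfirr.coprime_iff_not_dvd.mpr fun hfg => hfirr.not_isUnit ?_
    exact (Polynomial.Separable.squarefree (separable_cyclotomic q (ZMod p))) f
      ((mul_dvd_mul_left f hfg).trans (hμ ▸ hμd))
  obtain ⟨u0, hu0⟩ : ∃ u, aeval y g u ≠ 0 := by
    by_contra hc
    push Not at hc
    have h0 : minpoly (ZMod p) y ∣ g := minpoly.dvd _ _ (LinearMap.ext hc)
    rw [hμ] at h0
    have hg0 : g ≠ 0 := fun h => minpoly.ne_zero hint (by rw [hμ, h, mul_zero])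
    exact hfirr.not_isUnit (isUnit_of_dvd_one ((mul_dvd_mul_iff_right hg0).mp (by rwa [one_mul])))
  set w := aeval y g u0 with hw
  have hfw : aeval y f w = 0 := by
    rw [hw, ← Module.End.mul_apply, ← map_mul, ← hμ, minpoly.aeval]; rfl
  have conv : ∀ (T : V ≃+ V) (k : ℕ), (∀ u, T (Y u) = (Y ^ k) (T u)) → ∀ (h : (ZMod p)[X]) (u : V),
      T (aeval y h u) = aeval y (h.comp (X ^ k)) (T u) := by
    intro T k hT h
    have hT' : ∀ u, T (y u) = (y ^ k) (T u) := fun u => by rw [← hLp]; exact hT u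
    induction h using Polynomial.induction_on' with
    | add a b ha hb => intro u; simp [add_comp, ha, hb]
    | monomial n a =>
      intro u
      have hn : ∀ m, T ((y ^ m) u) = ((y ^ k) ^ m) (T u) := by
        intro m
        induction m with
        | zero => simp
        | succ m ih => rw [pow_succ', Module.End.mul_apply, hT', ih, pow_succ' (y ^ k)]; rfl
      rw [monomial_comp, aeval_monomial, map_mul, aeval_C, map_pow, map_pow, aeval_X,
        Algebra.algebraMap_eq_smul_one, smul_mul_assoc, one_mul, smul_mul_assoc, one_mul,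
        LinearMap.smul_apply, LinearMap.smul_apply, ← hn]
      exact ZMod.map_smul T.toAddMonoidHom a _
  have hdiv : ∀ (h : (ZMod p)[X]) (x : V), x ≠ 0 → aeval y f x = 0 → aeval y h x = 0 → f ∣ h := by
    intro h x hx h1 h2
    by_contra hfh
    exact hx (hcancel f h x (hfirr.coprime_iff_not_dvd.mpr hfh) h1 h2)
  have hw0 : w ≠ 0 := hu0
  have hfy : aeval y f = 0 := by
    refine LinearMap.ext fun u => ?_
    by_contra hne
    rw [LinearMap.zero_apply] at hne
    set w' := aeval y f u with hw'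
    have hgw' : aeval y g w' = 0 := by
      rw [hw', ← Module.End.mul_apply, ← map_mul, mul_comm, ← hμ, minpoly.aeval]; rfl
    obtain ⟨a, b, hab⟩ := id hcop
    have hP : ∀ x, aeval y f x = 0 → aeval y (b * g) x = x := by
      intro x hx
      have := congrArg (fun r => aeval y r x) hab
      simp only [map_add, map_mul, map_one, LinearMap.add_apply, Module.End.mul_apply, hx, map_zero,
        zero_add, Module.End.one_apply] at this
      rw [map_mul, Module.End.mul_apply]; exact this
    have hP' : aeval y (b * g) w' = 0 := by rw [map_mul, Module.End.mul_apply, hgw', map_zero]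
    have hz : w + w' ≠ 0 := fun h => hw0 (by
      have := congrArg (aeval y (b * g)) h
      rwa [map_add, hP w hfw, hP', add_zero, map_zero] at this)
    obtain ⟨T, hT, k, hk, hTk⟩ := htw w (w + w') hw0 hz
    have h1 := conv T k hTk f w
    rw [hfw, map_zero, hT] at h1
    set F := f.comp (X ^ k)
    have hFw : aeval y F w = 0 := by
      have := congrArg (aeval y (b * g)) h1
      rw [map_zero, ← Module.End.mul_apply, ← map_mul, mul_comm, map_mul, Module.End.mul_apply, map_add,
        hP w hfw, hP', add_zero] at this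
      exact this.symm
    have hFw' : aeval y F w' = 0 := by rwa [map_add, hFw, zero_add, eq_comm] at h1
    obtain ⟨r, hr⟩ := hdiv F w hw0 hfw hFw
    have hiter : ∀ m : ℕ, aeval y (f.comp (X ^ (k ^ (m + 1)))) w' = 0 := by
      intro m
      induction m with
      | zero => simpa using hFw'
      | succ m ih =>
        rw [pow_succ' k, pow_mul', show f.comp ((X ^ k ^ (m + 1)) ^ k) = F.comp (X ^ k ^ (m + 1)) by
          rw [comp_assoc, X_pow_comp], hr, mul_comp, mul_comm, map_mul, Module.End.mul_apply, ih, map_zero]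
    have h2 : aeval y f w' = 0 := by
      have := hiter (q - 2)
      rw [show q - 2 + 1 = q - 1 by have := hq.two_le; omega, aeval_comp, map_pow, aeval_X,
        pow_eq_pow_mod _ hYq] at this
      have hone : k ^ (q - 1) % q = 1 := by
        have h := Nat.ModEq.pow_totient (n := q) ((hq.coprime_iff_not_dvd.mpr hk).symm)
        rw [Nat.totient_prime hq] at h
        exact Eq.trans h (Nat.mod_eq_of_lt hq.one_lt)
      rwa [hone, pow_one] at this
    exact hne (hcancel f g w' hcop h2 hgw')
  haveI := Fact.mk hfirr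
  set ζ := AdjoinRoot.root f
  have hroot : ∀ i : ℕ, ¬ q ∣ i → aeval (ζ ^ i) f = 0 := by
    intro i hi
    obtain ⟨T, hT⟩ := htw' i hi
    obtain ⟨r, hr⟩ := hdiv (f.comp (X ^ i)) (T w) (fun h => hw0 (T.map_eq_zero_iff.mp h))
      (by rw [hfy]; rfl) (by rw [← conv T i hT f w, hfw, map_zero])
    have := congrArg (aeval ζ) hr
    rwa [aeval_comp, map_pow, aeval_X, map_mul, AdjoinRoot.aeval_eq, AdjoinRoot.mk_self, zero_mul] at this
  have hζΦ : aeval ζ (cyclotomic q (ZMod p)) = 0 := by
    rw [AdjoinRoot.aeval_eq, AdjoinRoot.mk_eq_zero]; exact hfd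
  have hζq : ζ ^ q = 1 := by
    have := congrArg (aeval ζ) (cyclotomic_prime_mul_X_sub_one (ZMod p) q)
    rw [map_mul, hζΦ, zero_mul, map_sub, map_pow, aeval_X, map_one] at this
    exact sub_eq_zero.mp this.symm
  have hζ1 : ζ ≠ 1 := by
    intro h
    rw [h, ← map_one (algebraMap (ZMod p) (AdjoinRoot f)), aeval_algebraMap_apply,
      map_eq_zero_iff _ (algebraMap (ZMod p) (AdjoinRoot f)).injective] at hζΦ
    simp [eval_one_cyclotomic_prime] at hζΦ
    exact NeZero.ne (q : ZMod p) hζΦ
  have hζo : orderOf ζ = q := orderOf_eq_prime hζq hζ1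
  have hcard : q - 1 ≤ f.natDegree := by
    have hsub : ((Finset.range (q - 1)).image fun i => ζ ^ (i + 1)) ⊆ (f.aroots (AdjoinRoot f)).toFinset := by
      intro x hx
      obtain ⟨i, hi, rfl⟩ := Finset.mem_image.mp hx
      rw [Multiset.mem_toFinset, mem_aroots]
      refine ⟨hfirr.ne_zero, hroot _ fun h => ?_⟩
      have := Nat.le_of_dvd (Nat.succ_pos i) h
      rw [Finset.mem_range] at hi
      omega
    have := (Finset.card_le_card hsub).trans ((Multiset.toFinset_card_le _).trans
      ((card_roots' _).trans natDegree_map_le))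
    rw [Finset.card_image_of_injOn, Finset.card_range] at this
    · exact this
    intro a ha b hb h
    rw [Finset.coe_range, Set.mem_Iio] at ha hb
    have := pow_injOn_Iio_orderOf (x := ζ) (by rw [hζo]; show a + 1 < q; omega) (by rw [hζo]; show b + 1 < q; omega) h
    omega
  have hdeg := natDegree_of_dvd_cyclotomic_of_irreducible (K := ZMod p) (p := p) (f := 1) (by simp) ((hp.coprime_iff_not_dvd).mpr hn) hfd hfirr
  rw [← orderOf_units, ZMod.coe_unitOfCoprime, pow_one] at hdeg
  have hp0 : (p : ZMod q) ≠ 0 := fun h => hpq ((Nat.prime_dvd_prime_iff_eq hq hp).mp ((ZMod.natCast_eq_zero_iff _ _).mp h)).symm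
  have hle := Nat.le_of_dvd (Nat.sub_pos_of_lt hq.one_lt) (ZMod.orderOf_dvd_card_sub_one hp0)
  omega

variable {G : Type u} [Group G] [Finite G] {p q : ℕ}

theorem pow_val_add [NeZero q] {y : G} (hy : y ^ q = 1) (k l : ZMod q) :
    y ^ (k + l).val = y ^ k.val * y ^ l.val := by
  rw [← pow_add, ZMod.val_add, ← pow_eq_pow_mod _ hy]

/-- Automorphisms of `P⟨y⟩` from semilinear maps. -/
theorem exists_aut [NeZero q] (P : Subgroup G) [P.Normal] (hcard : Nat.card G = Nat.card P * q)
    {y y' : G} (hyq : y ^ q = 1) (hy'q : y' ^ q = 1)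
    (hyP : ∀ k : ℕ, y ^ k ∈ P → q ∣ k) (hy'P : ∀ k : ℕ, y' ^ k ∈ P → q ∣ k)
    (T : P ≃* P) (hT : ∀ m : P, ((T (MulAut.conjNormal y m)) : G) = y' * (T m : G) * y'⁻¹) :
    ∃ α : MulAut G, α y = y' ∧ ∀ m : P, α m = T m := by
  have hTk : ∀ (k : ℕ) (m : P), ((T (MulAut.conjNormal (y ^ k) m)) : G) = y' ^ k * (T m : G) * (y' ^ k)⁻¹ := by
    intro k
    induction k with
    | zero => simp
    | succ k ih =>
      intro m
      rw [pow_succ', map_mul, MulAut.mul_apply, hT, ih, pow_succ']
      group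
  let e : ∀ (z : G), P × ZMod q → G := fun z x => (x.1 : G) * z ^ x.2.val
  have hbij : ∀ z : G, (∀ k : ℕ, z ^ k ∈ P → q ∣ k) → Function.Bijective (e z) := by
    intro z hz
    refine (Nat.bijective_iff_injective_and_card _).mpr ⟨?_, by rw [Nat.card_prod, Nat.card_zmod, hcard]⟩
    rintro ⟨n, k⟩ ⟨m, l⟩ h
    change (n : G) * z ^ k.val = (m : G) * z ^ l.val at h
    have key : ∀ {n m : P} {a b : ℕ}, a ≤ b → b < q → (n : G) * z ^ a = (m : G) * z ^ b → a = b := by
      intro n m a b hab hb h
      have : z ^ (b - a) ∈ P := by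
        rw [pow_sub _ hab, show z ^ b * (z ^ a)⁻¹ = (m : G)⁻¹ * n by
          rw [eq_inv_mul_iff_mul_eq, ← mul_assoc, ← h]; group]
        exact P.mul_mem (P.inv_mem m.2) n.2
      have := Nat.eq_zero_of_dvd_of_lt (hz _ this) (by omega)
      omega
    have hkl : k.val = l.val := by
      rcases le_total k.val l.val with hle | hle
      · exact key hle (ZMod.val_lt l) h
      · exact (key hle (ZMod.val_lt k) h.symm).symm
    rw [hkl] at h
    exact Prod.ext (Subtype.ext (mul_right_cancel h)) (ZMod.val_injective q hkl)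
  let E := Equiv.ofBijective _ (hbij y hyP)
  let E' := Equiv.ofBijective _ (hbij y' hy'P)
  let f : G ≃ G := E.symm.trans ((Equiv.prodCongr T.toEquiv (Equiv.refl _)).trans E')
  have hf : ∀ n : P, ∀ k : ZMod q, f ((n : G) * y ^ k.val) = (T n : G) * y' ^ k.val := by
    intro n k
    show f (E (n, k)) = _
    simp only [f, Equiv.trans_apply, Equiv.symm_apply_apply]
    rfl
  have hmul : ∀ g h, f (g * h) = f g * f h := by
    intro g h
    obtain ⟨⟨n, k⟩, rfl⟩ := E.surjective g
    obtain ⟨⟨m, l⟩, rfl⟩ := E.surjective h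
    change f ((n : G) * y ^ k.val * ((m : G) * y ^ l.val)) = f ((n : G) * y ^ k.val) * f ((m : G) * y ^ l.val)
    have : (n : G) * y ^ k.val * ((m : G) * y ^ l.val) =
        ((n * MulAut.conjNormal (y ^ k.val) m : P) : G) * y ^ (k + l).val := by
      rw [pow_val_add hyq, Subgroup.coe_mul, MulAut.conjNormal_apply]; group
    rw [this, hf, hf, hf, map_mul, Subgroup.coe_mul, hTk, pow_val_add hy'q]
    group
  refine ⟨MulEquiv.mk f hmul, ?_, fun m => ?_⟩
  · rcases eq_or_ne q 1 with rfl | hq1
    · rw [pow_one] at hyq hy'q; simp [hyq, hy'q]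
      simpa using hf 1 0
    · haveI : Fact (1 < q) := ⟨lt_of_le_of_ne (Nat.one_le_iff_ne_zero.mpr (NeZero.ne q)) (Ne.symm hq1)⟩
      simpa [ZMod.val_one] using hf 1 1
  · simpa using hf m 0

variable [Fact p.Prime] [Fact q.Prime]

/-- The orders of elements in the special shape. -/
theorem order_cases {n : ℕ} (hpq : p ≠ q) (hcard : Nat.card G = p ^ n * q) (P : Sylow p G)
    [(P : Subgroup G).Normal] (hP : ∀ a ∈ (P : Subgroup G), a ^ p = 1)
    (hf : ∀ x y : G, orderOf x = q → orderOf y = p → x * y * x⁻¹ ≠ y) {x : G}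
    (hx : x ∉ (P : Subgroup G)) : orderOf x = q := by
  have hp := (Fact.out : p.Prime)
  have hq := (Fact.out : q.Prime)
  have hcop : q.Coprime (p ^ n) := ((Nat.coprime_primes hq hp).mpr (Ne.symm hpq)).pow_right n
  have hPc : Nat.card (P : Subgroup G) = p ^ n := by
    rw [Sylow.card_eq_multiplicity, hcard, Nat.factorization_mul (pow_ne_zero _ hp.ne_zero) hq.ne_zero]
    simp [hp.factorization, hq.factorization, hpq]
  have hidx : (P : Subgroup G).index = q := by
    have := (P : Subgroup G).card_mul_index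
    rw [hPc, hcard] at this
    exact Nat.eq_of_mul_eq_mul_left (pow_pos hp.pos n) this
  have hxq : x ^ q ∈ (P : Subgroup G) := by
    have := hidx ▸ (P : Subgroup G).pow_index_mem x
    exact this
  have hxpq : (x ^ q) ^ p = 1 := hP _ hxq
  by_contra hne
  by_cases h1 : x ^ q = 1
  · rcases (Nat.dvd_prime hq).mp (orderOf_dvd_of_pow_eq_one h1) with h | h
    · exact hx (by rw [orderOf_eq_one_iff.mp h]; exact one_mem _)
    · exact hne h
  have h2 : x ^ p ≠ 1 := by
    intro h
    have hz : IsPGroup p (Subgroup.zpowers x) := fun z => ⟨1, by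
      obtain ⟨k, hk⟩ := Subgroup.mem_zpowers_iff.mp z.2
      refine Subtype.ext ?_
      rw [pow_one, Subgroup.coe_pow, ← hk, ← zpow_natCast, zpow_comm, zpow_natCast, h, one_zpow]
      rfl⟩
    obtain ⟨Q, hQ⟩ := hz.exists_le_sylow
    haveI := Sylow.unique_of_normal P inferInstance
    exact hx (Subsingleton.elim Q P ▸ hQ (Subgroup.mem_zpowers x))
  refine hf (x ^ p) (x ^ q) (orderOf_eq_prime (by rw [← pow_mul, mul_comm, pow_mul]; exact hxpq) h2)
    (orderOf_eq_prime hxpq h1) ?_
  group

theorem converse {n : ℕ} (hn : 1 ≤ n) (hpq : p ≠ q) (hcard : Nat.card G = p ^ n * q) (P : Sylow p G)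
    [(P : Subgroup G).Normal] (hP : IsElementaryAbelian p (P : Subgroup G))
    (hord : orderOf (p : ZMod q) = q - 1)
    (hf : ∀ x y : G, orderOf x = q → orderOf y = p → x * y * x⁻¹ ≠ y) :
    Nat.card (MulAction.orbitRel.Quotient (MulAut G) G) = 3 := by
  classical
  have hp := (Fact.out : p.Prime)
  have hq := (Fact.out : q.Prime)
  haveI := hP.1
  obtain ⟨v, hv⟩ := exists_prime_orderOf_dvd_card' (G := G) p (hcard ▸ (dvd_pow_self p (by omega)).mul_right q)
  obtain ⟨y, hy⟩ := exists_prime_orderOf_dvd_card' (G := G) q (hcard ▸ dvd_mul_left q _)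
  have hPc : Nat.card (P : Subgroup G) * q = Nat.card G := by
    rw [hcard, Sylow.card_eq_multiplicity, hcard,
      Nat.factorization_mul (pow_ne_zero _ hp.ne_zero) hq.ne_zero]
    simp [hp.factorization, hq.factorization, hpq]
  have hout : ∀ x : G, x ∈ (P : Subgroup G) → x = 1 ∨ orderOf x = p := fun x hx =>
    ((Nat.dvd_prime hp).mp (orderOf_dvd_of_pow_eq_one (hP.2 x hx))).imp_left orderOf_eq_one_iff.mp
  have hin : ∀ x : G, orderOf x = p → x ∈ (P : Subgroup G) := by
    intro x hx
    by_contra h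
    exact hpq (hx.symm.trans (order_cases hpq hcard P hP.2 hf h))
  have hnot : ∀ x : G, orderOf x = q → x ∉ (P : Subgroup G) := by
    intro x hx h
    rcases hout x h with rfl | h'
    · exact hq.one_lt.ne (orderOf_one.symm.trans hx)
    · exact hpq (h'.symm.trans hx)
  have hpow : ∀ x : G, orderOf x = q → ∀ k : ℕ, x ^ k ∈ (P : Subgroup G) → q ∣ k := by
    intro x hx k hk
    by_contra h
    exact hnot (x ^ k) (by
      rw [Nat.Coprime.orderOf_pow (by rw [hx]; exact (hq.coprime_iff_not_dvd).mpr h), hx]) hk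
  obtain ⟨ρ, hρ⟩ := exists_rep (P : Subgroup G)
  have hopq : ∀ x : G, orderOf x = q → ρ x ^ q = 1 ∧ ∀ a, ρ x a = a → a = 0 := by
    intro x hx
    constructor
    · rw [← map_pow, show x ^ q = 1 from hx ▸ pow_orderOf_eq_one x, map_one]
    · intro a ha
      by_contra h0
      have h1 : ((Additive.toMul a : ↥(P : Subgroup G)) : G) ≠ 1 := fun h => h0
        (Additive.toMul.injective (Subtype.ext h))
      refine hf x _ hx ((hout _ (Additive.toMul a).2).resolve_left h1) ?_
      exact (hρ x a).symm.trans (congrArg (fun b => ((Additive.toMul b : ↥(P : Subgroup G)) : G)) ha)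
  have htrans : ∀ (x : G) (u : G), orderOf x = q → orderOf u = p →
      ∃ α : MulAut G, α y = x ∧ α v = u := by
    intro x u hx hu
    obtain ⟨h1, h2⟩ := hopq y hy
    obtain ⟨h3, h4⟩ := hopq x hx
    have ne : ∀ (z : G) (hz : orderOf z = p),
        (Additive.ofMul (⟨z, hin z hz⟩ : ↥(P : Subgroup G))) ≠ 0 := fun z hz h => hp.one_lt.ne (by
      have : z = 1 := congrArg (fun b => ((Additive.toMul b : ↥(P : Subgroup G)) : G)) h
      rw [← hz, this, orderOf_one])
    obtain ⟨T, hTv, hT⟩ := semilinear' (V := Additive ↥(P : Subgroup G)) (fun a => Subtype.ext (hP.2 _ (Additive.toMul a).2)) hord hpq (ρ y) (ρ x) h1 h2 h3 h4 (ne v hv) (ne u hu)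
    obtain ⟨α, hαy, hαP⟩ := exists_aut (q := q) (P : Subgroup G) hPc.symm (hy ▸ pow_orderOf_eq_one y)
      (hx ▸ pow_orderOf_eq_one x) (hpow y hy) (hpow x hx) ({ toFun := fun m => Additive.toMul (T (Additive.ofMul m)), invFun := fun m => Additive.toMul (T.symm (Additive.ofMul m)), left_inv := fun m => by simp, right_inv := fun m => by simp, map_mul' := fun a b => congrArg Additive.toMul (T.map_add (Additive.ofMul a) (Additive.ofMul b)) }) (fun m => by
      have e1 : ρ y (Additive.ofMul m) = Additive.ofMul (MulAut.conjNormal y m) :=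
        Additive.toMul.injective (Subtype.ext ((hρ y _).trans (MulAut.conjNormal_apply y m).symm))
      have := congrArg (fun b => ((Additive.toMul b : ↥(P : Subgroup G)) : G)) (hT (Additive.ofMul m))
      change ((Additive.toMul (T (ρ y (Additive.ofMul m))) : ↥(P : Subgroup G)) : G) =
        ((Additive.toMul (ρ x (T (Additive.ofMul m))) : ↥(P : Subgroup G)) : G) at this
      rw [e1, hρ] at this
      exact this)
    exact ⟨α, hαy, (hαP ⟨v, hin v hv⟩).trans (congrArg (fun b => ((Additive.toMul b : ↥(P : Subgroup G)) : G)) hTv)⟩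
  let r : Fin 3 → MulAction.orbitRel.Quotient (MulAut G) G := fun i => Quotient.mk'' (![1, v, y] i)
  have hr : Function.Bijective r := by
    constructor
    · intro i j hij
      obtain ⟨α, hα⟩ := Quotient.exact' hij
      have h := congrArg orderOf hα
      change orderOf (α (![1, v, y] j)) = _ at h
      rw [MulEquiv.orderOf_eq] at h
      have := hp.one_lt; have := hq.one_lt
      fin_cases i <;> fin_cases j <;> simp [hv, hy] at h ⊢ <;> omega
    · intro c
      induction c using Quotient.inductionOn' with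
      | h x =>
        by_cases hxP : x ∈ (P : Subgroup G)
        · rcases hout x hxP with rfl | hx
          · exact ⟨0, rfl⟩
          · obtain ⟨α, -, hα⟩ := htrans y x hy hx
            exact ⟨1, (Quotient.sound' (MulAction.orbitRel_apply.mpr ⟨α, hα⟩)).symm⟩
        · obtain ⟨α, hα, -⟩ := htrans x v (order_cases hpq hcard P hP.2 hf hxP) hv
          exact ⟨2, (Quotient.sound' (MulAction.orbitRel_apply.mpr ⟨α, hα⟩)).symm⟩
  rw [← Nat.card_eq_of_bijective r hr, Nat.card_fin]

omit [Fact p.Prime] [Fact q.Prime] in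
theorem mem_orbit_order {x y : G} (h : x ∈ MulAction.orbit (MulAut G) y) : orderOf x = orderOf y := by
  obtain ⟨α, rfl⟩ := h
  exact MulEquiv.orderOf_eq α y

/-- With three orbits, any two distinct prime orders present exhaust the element orders. -/
theorem order_of_three (h3 : Nat.card (MulAction.orbitRel.Quotient (MulAut G) G) = 3)
    (hpq : p ≠ q) {a b : G} (ha : orderOf a = p) (hb : orderOf b = q) (x : G) :
    x = 1 ∨ (orderOf x = p ∧ ∃ α : MulAut G, α a = x) ∨ (orderOf x = q ∧ ∃ α : MulAut G, α b = x) := by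
  classical
  let r : Fin 3 → MulAction.orbitRel.Quotient (MulAut G) G := fun i => Quotient.mk'' (![1, a, b] i)
  have hr : Function.Injective r := by
    intro i j hij
    have h := mem_orbit_order (MulAction.orbitRel_apply.mp (Quotient.exact' hij))
    have := (Fact.out : p.Prime).one_lt; have := (Fact.out : q.Prime).one_lt
    fin_cases i <;> fin_cases j <;> simp [ha, hb] at h ⊢ <;> omega
  have hsur := ((Nat.bijective_iff_injective_and_card r).mpr ⟨hr, by rw [h3, Nat.card_fin]⟩).2
  obtain ⟨i, hi⟩ := hsur (Quotient.mk'' x)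
  obtain ⟨α, hα⟩ := MulAction.orbitRel_apply.mp (Quotient.exact' hi.symm)
  have ho : orderOf x = orderOf (![1, a, b] i) := mem_orbit_order ⟨α, hα⟩
  fin_cases i
  · exact Or.inl (orderOf_eq_one_iff.mp (by simpa using ho))
  · exact Or.inr (Or.inl ⟨by simpa [ha] using ho, α, by simpa using hα⟩)
  · exact Or.inr (Or.inr ⟨by simpa [hb] using ho, α, by simpa using hα⟩)

theorem forward_of_normal (hpq : p ≠ q)
    (h3 : Nat.card (MulAction.orbitRel.Quotient (MulAut G) G) = 3)
    (ha0 : ∃ a : G, orderOf a = p) (hb0 : ∃ b : G, orderOf b = q)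
    (N : Subgroup G) [N.Normal] (hN : IsPGroup p N) (hNb : N ≠ ⊥) :
    ∃ n : ℕ, 1 ≤ n ∧ Nat.card G = p ^ n * q ∧
      (∀ P : Sylow p G, (P : Subgroup G).Normal ∧ IsElementaryAbelian p (P : Subgroup G)) ∧
      orderOf (p : ZMod q) = q - 1 ∧ ∀ x y : G, orderOf x = q → orderOf y = p → x * y * x⁻¹ ≠ y := by
  classical
  obtain ⟨a, ha⟩ := ha0
  obtain ⟨b, hb⟩ := hb0
  have hp := (Fact.out : p.Prime)
  have hq := (Fact.out : q.Prime)
  have hord := order_of_three h3 hpq ha hb
  -- order-`p` elements are exactly the nontrivial elements of a normal subgroup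
  obtain ⟨P⟩ : Nonempty (Sylow p G) := inferInstance
  have hcore : ∀ x : G, orderOf x = p → x ∈ pCore p G := by
    obtain ⟨m, hm, hm1⟩ := N.bot_or_exists_ne_one.resolve_left hNb
    have hmp : orderOf m = p := by
      rcases hord m with h | ⟨h, -⟩ | ⟨h, -⟩
      · exact absurd h hm1
      · exact h
      · obtain ⟨k, hk⟩ := IsPGroup.iff_orderOf.mp hN ⟨m, hm⟩
        rw [Subgroup.orderOf_mk, h] at hk
        exact absurd (((Nat.prime_dvd_prime_iff_eq hq hp).mp (hq.dvd_of_dvd_pow hk.dvd)).symm) hpq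
    intro x hx
    rcases hord x with rfl | ⟨-, α, hα⟩ | ⟨h, -⟩
    · exact one_mem _
    · rcases hord m with h | ⟨-, β, hβ⟩ | ⟨h, -⟩
      · exact absurd h hm1
      · let γ : MulAut G := β⁻¹.trans α
        have hγ : γ m = x := by
          show α (β⁻¹ m) = x
          rw [← hβ, MulAut.inv_apply_self, hα]
        refine Grp.le_pCore (N := N.map γ.toMonoidHom) (Subgroup.Normal.map inferInstance _ γ.surjective)
          (hN.map _) ⟨m, hm, hγ⟩
      · exact absurd (hmp.symm.trans h) hpq
    · exact absurd (hx.symm.trans h) hpq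
  have hPle : ∀ Q : Sylow p G, (Q : Subgroup G) = pCore p G := by
    intro Q
    have hle : (Q : Subgroup G) ≤ pCore p G := by
      intro x hx
      rcases hord x with rfl | ⟨h, -⟩ | ⟨h, -⟩
      · exact one_mem _
      · exact hcore x h
      · obtain ⟨k, hk⟩ := IsPGroup.iff_orderOf.mp Q.2 ⟨x, hx⟩
        rw [Subgroup.orderOf_mk, h] at hk
        exact absurd (((Nat.prime_dvd_prime_iff_eq hq hp).mp (hq.dvd_of_dvd_pow hk.dvd)).symm) hpq
    exact (Q.3 Grp.pCore_isPGroup hle).symm
  haveI hPn : (P : Subgroup G).Normal := hPle P ▸ Grp.pCore_isNormal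
  have hexp : ∀ x ∈ (P : Subgroup G), x ^ p = 1 := by
    intro x hx
    rcases hord x with rfl | ⟨h, -⟩ | ⟨h, -⟩
    · exact one_pow p
    · exact h ▸ pow_orderOf_eq_one x
    · obtain ⟨k, hk⟩ := IsPGroup.iff_orderOf.mp P.2 ⟨x, hx⟩
      rw [Subgroup.orderOf_mk, h] at hk
      exact absurd (((Nat.prime_dvd_prime_iff_eq hq hp).mp (hq.dvd_of_dvd_pow hk.dvd)).symm) hpq
  have hPmem : ∀ x : G, orderOf x = p → x ∈ (P : Subgroup G) := fun x hx => hPle P ▸ hcore x hx
  have haP := hPmem a ha
  have hPb : (P : Subgroup G) ≠ ⊥ := fun h => by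
    rw [h, Subgroup.mem_bot] at haP
    rw [haP, orderOf_one] at ha
    exact hp.one_lt.ne ha
  haveI hPc : IsMulCommutative (P : Subgroup G) := by
    haveI : Nontrivial (P : Subgroup G) := (Subgroup.nontrivial_iff_ne_bot _).mpr hPb
    haveI := P.2.center_nontrivial
    obtain ⟨⟨⟨z, hz⟩, hzc⟩, hz1⟩ := exists_ne (1 : Subgroup.center (P : Subgroup G))
    have hz1' : z ≠ 1 := fun h => hz1 (Subtype.ext (Subtype.ext h))
    refine ⟨⟨fun u v => ?_⟩⟩
    rcases hord u with h | ⟨-, α, hα⟩ | ⟨h, -⟩
    · rw [show u = 1 from Subtype.ext h, one_mul, mul_one]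
    · rcases hord z with h | ⟨-, β, hβ⟩ | ⟨h, -⟩
      · exact absurd h hz1'
      · let γ : MulAut G := β⁻¹.trans α
        have hγ : γ z = (u : G) := by
          show α (β⁻¹ z) = u
          rw [← hβ, MulAut.inv_apply_self, hα]
        have hv : γ.symm (v : G) ∈ (P : Subgroup G) := by
          rcases hord (γ.symm (v : G)) with h | ⟨h, -⟩ | ⟨h, -⟩
          · rw [h]; exact one_mem _
          · exact hPmem _ h
          · rw [MulEquiv.orderOf_eq] at h
            exact absurd ((Nat.dvd_prime hp).mp (h ▸ orderOf_dvd_of_pow_eq_one (hexp _ v.2))) (by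
              rintro (h' | h')
              · exact hq.one_lt.ne h'.symm
              · exact hpq h'.symm)
        have := congrArg (fun w : (P : Subgroup G) => γ (w : G)) (Subgroup.mem_center_iff.mp hzc ⟨_, hv⟩)
        simp only [Subgroup.coe_mul, map_mul, MulEquiv.apply_symm_apply, hγ] at this
        exact Subtype.ext this.symm
      · exact absurd ((Nat.dvd_prime hp).mp (h ▸ orderOf_dvd_of_pow_eq_one (hexp _ hz))) (by
          rintro (h' | h')
          · exact hq.one_lt.ne h'.symm
          · exact hpq h'.symm)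
    · exact absurd ((Nat.dvd_prime hp).mp (h ▸ orderOf_dvd_of_pow_eq_one (hexp _ u.2))) (by
        rintro (h' | h')
        · exact hq.one_lt.ne h'.symm
        · exact hpq h'.symm)
  have hout : ∀ x : G, x ∉ (P : Subgroup G) → orderOf x = q := by
    intro x hx
    rcases hord x with rfl | ⟨h, -⟩ | ⟨h, -⟩
    · exact absurd (one_mem _) hx
    · exact absurd (hPmem x h) hx
    · exact h
  have hnot : ∀ x : G, orderOf x = q → x ∉ (P : Subgroup G) := by
    intro x hx h
    exact absurd ((Nat.dvd_prime hp).mp (hx ▸ orderOf_dvd_of_pow_eq_one (hexp _ h))) (by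
      rintro (h' | h')
      · exact hq.one_lt.ne h'.symm
      · exact hpq h'.symm)
  have hqpow : ∀ x : G, x ∉ (P : Subgroup G) → x ^ q = 1 := fun x hx => hout x hx ▸ pow_orderOf_eq_one x
  have hf : ∀ x y : G, orderOf x = q → orderOf y = p → x * y * x⁻¹ ≠ y := by
    intro x y hx hy h
    have hc : Commute x y := mul_inv_eq_iff_eq_mul.mp h
    have := hc.orderOf_mul_eq_mul_orderOf_of_coprime (by rw [hx, hy]; exact (Nat.coprime_primes hq hp).mpr (Ne.symm hpq))
    rw [hx, hy] at this
    rcases hord (x * y) with h' | ⟨h', -⟩ | ⟨h', -⟩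
    · rw [h', orderOf_one] at this; nlinarith [hp.two_le, hq.two_le]
    · rw [h'] at this; nlinarith [hp.two_le, hq.two_le]
    · rw [h'] at this; nlinarith [hp.two_le, hq.two_le]
  -- a Sylow `q`-subgroup has order `q`
  have hPnp : ¬ q ∣ Nat.card (P : Subgroup G) := by
    obtain ⟨k, hk⟩ := IsPGroup.iff_card.mp P.2
    rw [hk]
    exact fun hd => hpq ((Nat.prime_dvd_prime_iff_eq hq hp).mp (hq.dvd_of_dvd_pow hd)).symm
  obtain ⟨Q⟩ : Nonempty (Sylow q G) := inferInstance
  have hQcard : Nat.card (Q : Subgroup G) = q := by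
    have hbq : q ∣ Nat.card G := hb ▸ orderOf_dvd_natCard b
    haveI : Nontrivial (Q : Subgroup G) := (Subgroup.nontrivial_iff_ne_bot _).mpr (Q.ne_bot_of_dvd_card hbq)
    haveI := Q.2.center_nontrivial
    obtain ⟨⟨⟨z, hz⟩, hzc⟩, hz1⟩ := exists_ne (1 : Subgroup.center (Q : Subgroup G))
    have hz1' : z ≠ 1 := fun h => hz1 (Subtype.ext (Subtype.ext h))
    have hQout : ∀ x ∈ (Q : Subgroup G), x ≠ 1 → x ∉ (P : Subgroup G) := by
      intro x hx hx1 hxP
      obtain ⟨k, hk⟩ := IsPGroup.iff_orderOf.mp Q.2 ⟨x, hx⟩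
      rw [Subgroup.orderOf_mk] at hk
      rcases (Nat.dvd_prime hp).mp (orderOf_dvd_of_pow_eq_one (hexp x hxP)) with h' | h'
      · exact hx1 (orderOf_eq_one_iff.mp h')
      · exact hpq ((Nat.prime_dvd_prime_iff_eq hp hq).mp (hp.dvd_of_dvd_pow (h' ▸ hk.dvd : p ∣ q ^ k)))
    have hzq := hout z (hQout z hz hz1')
    have hle : (Q : Subgroup G) ≤ Subgroup.zpowers z := by
      intro c hc
      by_contra hcz
      have hj : ∀ j : ℕ, z ^ j * c ∉ (P : Subgroup G) := fun j => hQout _ (mul_mem (pow_mem hz j) hc) (fun h =>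
        hcz (by rw [eq_inv_of_mul_eq_one_right h]; exact inv_mem (Subgroup.pow_mem _ (Subgroup.mem_zpowers z) j)))
      have hzq' : z ^ q = 1 := hzq ▸ pow_orderOf_eq_one z
      have hzc' : z * c = c * z := (congrArg Subtype.val (Subgroup.mem_center_iff.mp hzc ⟨c, hc⟩)).symm
      have hcen := centralizes_of_pair (P : Subgroup G) hq hPnp z c
        (fun m _ => by rw [hzq']; simp) (fun m _ => by rw [hzc'])
        (fun j => ⟨hqpow _ (hj j), fun m hm => hqpow _ fun h => hj j
          (((P : Subgroup G).mul_mem_cancel_right hm).mp h)⟩)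
      exact hf z a hzq ha (mul_inv_eq_iff_eq_mul.mpr (hcen a haP))
    rw [le_antisymm hle (Subgroup.zpowers_le.mpr hz), Nat.card_zpowers, hzq]
  have hcardG : Nat.card G = Nat.card (P : Subgroup G) * q := by
    have hprimes : ∀ r, r.Prime → r ∣ (P : Subgroup G).index → r = q := by
      intro r hr hrd
      haveI := Fact.mk hr
      obtain ⟨x, hx⟩ := exists_prime_orderOf_dvd_card' (G := G) r (hrd.trans (Subgroup.index_dvd_card _))
      rcases hord x with h | ⟨h, -⟩ | ⟨h, -⟩
      · rw [h, orderOf_one] at hx; exact absurd hx.symm hr.one_lt.ne'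
      · rw [hx] at h; subst h
        exact absurd hrd P.not_dvd_index
      · exact hx ▸ h
    have hidx : (P : Subgroup G).index = q ^ (P : Subgroup G).index.factorization q := by
      refine Nat.eq_pow_of_factorization_eq_single Subgroup.index_ne_zero_of_finite ?_
      ext r
      by_cases hr : r = q
      · simp [hr]
      · rw [Finsupp.single_apply, if_neg (Ne.symm hr)]
        by_contra h0
        have hm := Nat.support_factorization (P : Subgroup G).index ▸ Finsupp.mem_support_iff.mpr h0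
        exact hr (hprimes r (Nat.prime_of_mem_primeFactors hm) (Nat.dvd_of_mem_primeFactors hm))
    obtain ⟨k, hk⟩ := IsPGroup.iff_card.mp P.2
    have hG := (P : Subgroup G).card_mul_index
    rw [hidx, hk] at hG
    have hQ' := Q.card_eq_multiplicity
    rw [hQcard, ← hG, Nat.factorization_mul (pow_ne_zero _ hp.ne_zero) (pow_ne_zero _ hq.ne_zero)] at hQ'
    simp [hp.factorization, hq.factorization, Finsupp.single_apply, hpq] at hQ'
    rw [← hG, hk, ← hQ']
  obtain ⟨n, hn⟩ := IsPGroup.iff_card.mp P.2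
  refine ⟨n, ?_, by rw [hcardG, hn], fun P' => ⟨?_, ?_⟩, ?_, hf⟩
  · rcases Nat.eq_zero_or_pos n with rfl | h
    · exact absurd (Subgroup.card_eq_one.mp (hn.trans (pow_zero p))) hPb
    · exact h
  · rw [hPle P', ← hPle P]; exact hPn
  · rw [hPle P', ← hPle P]; exact ⟨hPc, hexp⟩
  -- the primitive root
  letI : Module (ZMod p) (Additive ↥(P : Subgroup G)) := AddCommGroup.zmodModule fun x =>
    Subtype.ext (hexp _ (Additive.toMul x).2)
  obtain ⟨ρ, hρ⟩ := exists_rep (P : Subgroup G)
  haveI : Nontrivial (Additive ↥(P : Subgroup G)) := by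
    haveI : Nontrivial (P : Subgroup G) := (Subgroup.nontrivial_iff_ne_bot _).mpr hPb
    infer_instance
  have hbP := hnot b hb
  refine primitive (ρ b) ?_ ?_ ?_ ?_ hpq
  · rw [← map_pow, hqpow b hbP, map_one]
  · intro v hv
    by_contra h0
    have h1 : ((Additive.toMul v : ↥(P : Subgroup G)) : G) ≠ 1 := fun h => h0
      (Additive.toMul.injective (Subtype.ext h))
    refine hf b _ hb ?_ ((hρ b v).symm.trans (congrArg (fun w => ((Additive.toMul w : ↥(P : Subgroup G)) : G)) hv))
    rcases hord ((Additive.toMul v : ↥(P : Subgroup G)) : G) with h | ⟨h, -⟩ | ⟨h, -⟩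
    · exact absurd h h1
    · exact h
    · exact absurd (Additive.toMul v).2 (hnot _ h)
  · intro v w hv hw
    have hv' : orderOf ((Additive.toMul v : ↥(P : Subgroup G)) : G) = p := by
      rcases hord ((Additive.toMul v : ↥(P : Subgroup G)) : G) with h | ⟨h, -⟩ | ⟨h, -⟩
      · exact absurd (Additive.toMul.injective (Subtype.ext h)) hv
      · exact h
      · exact absurd (Additive.toMul v).2 (hnot _ h)
    have hw' : ((Additive.toMul w : ↥(P : Subgroup G)) : G) ≠ 1 := fun h => hw
      (Additive.toMul.injective (Subtype.ext h))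
    rcases hord ((Additive.toMul v : ↥(P : Subgroup G)) : G) with h | ⟨-, α, hα⟩ | ⟨h, -⟩
    · exact absurd (Additive.toMul.injective (Subtype.ext h)) hv
    · rcases hord ((Additive.toMul w : ↥(P : Subgroup G)) : G) with h | ⟨-, β, hβ⟩ | ⟨h, -⟩
      · exact absurd h hw'
      · let γ : MulAut G := α⁻¹.trans β
        have hγ : γ ((Additive.toMul v : ↥(P : Subgroup G)) : G) = ((Additive.toMul w : ↥(P : Subgroup G)) : G) := by
          show β (α⁻¹ _) = _
          rw [← hα, MulAut.inv_apply_self, hβ]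
        have hstab : ∀ (δ : MulAut G) (x : G), x ∈ (P : Subgroup G) → δ x ∈ (P : Subgroup G) := by
          intro δ x hx
          rcases hord x with rfl | ⟨h, -⟩ | ⟨h, -⟩
          · rw [map_one]; exact one_mem _
          · exact hPmem _ (by rw [MulEquiv.orderOf_eq, h])
          · exact absurd hx (hnot x h)
        let T : ↥(P : Subgroup G) ≃* ↥(P : Subgroup G) :=
          { toFun := fun m => ⟨γ m, hstab γ m m.2⟩
            invFun := fun m => ⟨γ.symm m, hstab γ.symm m m.2⟩
            left_inv := fun m => Subtype.ext (γ.symm_apply_apply _)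
            right_inv := fun m => Subtype.ext (γ.apply_symm_apply _)
            map_mul' := fun m n => Subtype.ext (map_mul γ _ _) }
        refine ⟨MulEquiv.toAdditive T, Additive.toMul.injective (Subtype.ext hγ), ?_⟩
        -- `γ b` acts as a power of `b`
        have hgb : γ b ∉ (P : Subgroup G) := hnot _ (by rw [MulEquiv.orderOf_eq, hb])
        have htop : (P : Subgroup G) ⊔ Subgroup.zpowers b = ⊤ := by
          apply Subgroup.eq_top_of_card_eq
          refine Nat.dvd_antisymm (Subgroup.card_subgroup_dvd_card _) ?_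
          rw [hcardG]
          refine Nat.Coprime.mul_dvd_of_dvd_of_dvd ?_ (Subgroup.card_dvd_of_le le_sup_left) ?_
          · exact ((hq.coprime_iff_not_dvd).mpr hPnp).symm
          · refine dvd_trans ?_ (Subgroup.card_dvd_of_le le_sup_right)
            rw [Nat.card_zpowers, hb]
        obtain ⟨m, hm, c, hc, hmc⟩ := Subgroup.mem_sup_of_normal_left.mp (htop ▸ Subgroup.mem_top (γ b) :
          γ b ∈ (P : Subgroup G) ⊔ Subgroup.zpowers b)
        obtain ⟨k, hk⟩ := mem_powers_iff_mem_zpowers.mpr hc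
        change b ^ k = c at hk
        refine ⟨k, fun hd => ?_, fun u => ?_⟩
        · apply hgb
          obtain ⟨e, he⟩ := hd
          rw [← hmc, ← hk, he, pow_mul, hqpow b hbP, one_pow, mul_one]
          exact hm
        · rw [← map_pow, hk]
          refine Additive.toMul.injective (Subtype.ext ?_)
          show γ ((Additive.toMul (ρ b u) : ↥(P : Subgroup G)) : G) = _
          rw [hρ, map_mul, map_mul, map_inv, hρ, ← hmc]
          have hcm : ∀ y ∈ (P : Subgroup G), m * y * m⁻¹ = y := fun y hy => by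
            have := congrArg Subtype.val (hPc.is_comm.comm ⟨m, hm⟩ ⟨y, hy⟩)
            change m * y = y * m at this
            rw [this, mul_inv_cancel_right]
          change _ = c * γ ((Additive.toMul u : ↥(P : Subgroup G)) : G) * c⁻¹
          calc m * c * γ ((Additive.toMul u : ↥(P : Subgroup G)) : G) * (m * c)⁻¹
              = m * (c * γ ((Additive.toMul u : ↥(P : Subgroup G)) : G) * c⁻¹) * m⁻¹ := by group
            _ = _ := hcm _ (hPn.conj_mem _ (hstab γ _ (Additive.toMul u).2) c)
      · exact absurd (Additive.toMul w).2 (hnot _ h)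
    · exact absurd (Additive.toMul v).2 (hnot _ h)
  · intro i hi
    have hbi : orderOf (b ^ i) = q := by
      rw [Nat.Coprime.orderOf_pow (by rw [hb]; exact hq.coprime_iff_not_dvd.mpr hi), hb]
    rcases hord (b ^ i) with h | ⟨h, -⟩ | ⟨-, γ, hγ⟩
    · rw [h, orderOf_one] at hbi; exact absurd hbi hq.one_lt.ne
    · exact absurd (h.symm.trans hbi) hpq
    have hstab : ∀ (δ : MulAut G) (x : G), x ∈ (P : Subgroup G) → δ x ∈ (P : Subgroup G) := by
      intro δ x hx
      rcases hord x with rfl | ⟨h, -⟩ | ⟨h, -⟩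
      · rw [map_one]; exact one_mem _
      · exact hPmem _ (by rw [MulEquiv.orderOf_eq, h])
      · exact absurd hx (hnot x h)
    let T : ↥(P : Subgroup G) ≃* ↥(P : Subgroup G) :=
      { toFun := fun m => ⟨γ m, hstab γ m m.2⟩
        invFun := fun m => ⟨γ.symm m, hstab γ.symm m m.2⟩
        left_inv := fun m => Subtype.ext (γ.symm_apply_apply _)
        right_inv := fun m => Subtype.ext (γ.apply_symm_apply _)
        map_mul' := fun m n => Subtype.ext (map_mul γ _ _) }
    refine ⟨MulEquiv.toAdditive T, fun u => ?_⟩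
    rw [← map_pow]
    refine Additive.toMul.injective (Subtype.ext ?_)
    show γ ((Additive.toMul (ρ b u) : ↥(P : Subgroup G)) : G) = _
    rw [hρ, map_mul, map_mul, map_inv, hρ, hγ]
    rfl

/-- A group of non-prime-power order has exactly 3 automorphism orbits iff #G = pⁿq with a normal elementary abelian Sylow p-subgroup on which the elements of order q act fixed-point-freely and p a primitive root mod q. -/
theorem result {G : Type*} [Group G] [Finite G] (hnpp : ¬ IsPrimePow (Nat.card G)) (hnt : Nat.card G ≠ 1) :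
    Nat.card (MulAction.orbitRel.Quotient (MulAut G) G) = 3 ↔ ∃ (p q n : ℕ) (_ : Fact p.Prime) (_ : Fact q.Prime),
      p ≠ q ∧ 1 ≤ n ∧ Nat.card G = p ^ n * q ∧
      (∀ P : Sylow p G, (P : Subgroup G).Normal ∧ IsElementaryAbelian p (P : Subgroup G)) ∧
      orderOf (p : ZMod q) = q - 1 ∧ ∀ x y : G, orderOf x = q → orderOf y = p → x * y * x⁻¹ ≠ y := by
  constructor
  · intro h3
    obtain ⟨p, hp, hpd⟩ := Nat.exists_prime_and_dvd hnt
    obtain ⟨q, hq, hqd, hqp⟩ : ∃ q, q.Prime ∧ q ∣ Nat.card G ∧ q ≠ p := by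
      by_contra hc
      push Not at hc
      apply hnpp
      rw [isPrimePow_iff_unique_prime_dvd]
      exact ⟨p, ⟨hp, hpd⟩, fun r hr => hc r hr.1 hr.2⟩
    haveI := Fact.mk hp
    haveI := Fact.mk hq
    obtain ⟨a, ha⟩ := exists_prime_orderOf_dvd_card' (G := G) p hpd
    obtain ⟨b, hb⟩ := exists_prime_orderOf_dvd_card' (G := G) q hqd
    have hord := order_of_three h3 hqp.symm ha hb
    have hdvd : ∀ r, r.Prime → r ∣ Nat.card G → r = p ∨ r = q := by
      intro r hr hrd
      haveI := Fact.mk hr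
      obtain ⟨x, hx⟩ := exists_prime_orderOf_dvd_card' (G := G) r hrd
      rcases hord x with h | ⟨h, -⟩ | ⟨h, -⟩
      · rw [h, orderOf_one] at hx; exact absurd hx.symm hr.one_lt.ne'
      · exact Or.inl (hx ▸ h)
      · exact Or.inr (hx ▸ h)
    obtain ⟨i, j, hij⟩ : ∃ i j, Nat.card G = p ^ i * q ^ j := by
      refine ⟨(Nat.card G).factorization p, (Nat.card G).factorization q, ?_⟩
      refine Nat.eq_of_factorization_eq Nat.card_pos.ne' (mul_ne_zero (pow_ne_zero _ hp.ne_zero) (pow_ne_zero _ hq.ne_zero)) fun r => ?_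
      rw [Nat.factorization_mul (pow_ne_zero _ hp.ne_zero) (pow_ne_zero _ hq.ne_zero)]
      simp only [hp.factorization_pow, hq.factorization_pow, Finsupp.add_apply, Finsupp.single_apply]
      by_cases h1 : p = r
      · subst h1; simp [hqp]
      by_cases h2 : q = r
      · subst h2; simp [Ne.symm hqp]
      rw [if_neg h1, if_neg h2, add_zero]
      by_contra h0
      have hm := Nat.support_factorization (Nat.card G) ▸ Finsupp.mem_support_iff.mpr h0
      rcases hdvd r (Nat.prime_of_mem_primeFactors hm) (Nat.dvd_of_mem_primeFactors hm) with h | h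
      · exact h1 h.symm
      · exact h2 h.symm
    haveI : Group.IsSolvable G := S0144.result p q i j hp hq hij
    haveI : Nontrivial G := Finite.one_lt_card_iff_nontrivial.mp (by have := Nat.card_pos (α := G); omega)
    obtain ⟨N, ⟨hNn, hNb⟩, hmin⟩ :=
      wellFounded_lt.has_min {N : Subgroup G | N.Normal ∧ N ≠ ⊥} ⟨⊤, inferInstance, top_ne_bot⟩
    haveI := hNn
    obtain ⟨r, hr, hNr⟩ := Grp.minimal_normal_solvable_isPGroup (N := N) inferInstance hNb fun M hM hMN => by
      by_contra hc
      push Not at hc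
      exact hmin M ⟨hM, hc.1⟩ (lt_of_le_of_ne hMN hc.2)
    have hrd : r ∣ Nat.card G := by
      haveI := Fact.mk hr
      haveI : Nontrivial N := (Subgroup.nontrivial_iff_ne_bot _).mpr hNb
      obtain ⟨k, hk, hk'⟩ := hNr.nontrivial_iff_card.mp inferInstance
      exact (hk' ▸ dvd_pow_self r hk.ne').trans N.card_subgroup_dvd_card
    rcases hdvd r hr hrd with rfl | rfl
    · obtain ⟨n, h⟩ := forward_of_normal hqp.symm h3 ⟨a, ha⟩ ⟨b, hb⟩ N hNr hNb
      exact ⟨r, q, n, inferInstance, inferInstance, hqp.symm, h⟩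
    · obtain ⟨n, h⟩ := forward_of_normal hqp h3 ⟨b, hb⟩ ⟨a, ha⟩ N hNr hNb
      exact ⟨r, p, n, inferInstance, inferInstance, hqp, h⟩
  · rintro ⟨p, q, n, hp, hq, hpq, hn, hcard, hP, hord, hf⟩
    obtain ⟨P⟩ : Nonempty (Sylow p G) := inferInstance
    haveI := (hP P).1
    exact converse hn hpq hcard P (hP P).2 hord hf

end Cfsg.Agent.S4081
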