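import Cfsg.Statements.S4082
import Mathlib
import Cfsg.Agent.Lib.Transfer.CyclicSylow
import Cfsg.Agent.Lib.Invol.Dihedral

set_option maxHeartbeats 1000000
set_option maxRecDepth 8000

set_option autoImplicit false
open Cfsg
open scoped Pointwise

namespace Cfsg.Agent.S4082

open Cfsg.Agent

variable {G : Type*} [Group G] [Finite G] {p : ℕ} [hp : Fact p.Prime]

theorem mem_normalizer_of_forall {H : Subgroup G} {x : G} (h : ∀ z ∈ H, x * z * x⁻¹ ∈ H) : x ∈ Subgroup.normalizer (H : Set G) := by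
  have heq : MulAut.conj x • H = H := Subgroup.eq_of_le_of_card_ge (fun z hz => by
    rw [Subgroup.mem_pointwise_smul_iff_inv_smul_mem] at hz
    have := h _ hz
    simpa [MulAut.smul_def, mul_assoc] using this) (Nat.card_congr (Subgroup.equivSMul (MulAut.conj x) H).toEquiv).le
  rw [Subgroup.mem_normalizer_iff]
  refine fun z => ⟨h z, fun hz => ?_⟩
  have hz' : x * z * x⁻¹ ∈ MulAut.conj x • H := heq.symm ▸ hz
  rw [Subgroup.mem_pointwise_smul_iff_inv_smul_mem] at hz'
  simpa [MulAut.smul_def, mul_assoc] using hz'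

/-- The restriction on subgroups. -/
abbrev Restricted (p : ℕ) [Fact p.Prime] (G : Type*) [Group G] : Prop :=
  ∀ H : Subgroup G, (∀ S : Sylow p ↥H, (S : Subgroup ↥H).Normal) →
        (∀ (S : Sylow p ↥H) [(S : Subgroup ↥H).Normal], IsCyclic (↥H ⧸ (S : Subgroup ↥H))) →
        IsCyclic H ∨ (∃ n : ℕ, Nonempty (H ≃* DihedralGroup (p ^ n)))

theorem restricted_apply (hR : Restricted p G) {Q : Subgroup G} (hQ : IsPGroup p Q) {x : G}
    (hx : x ∈ Subgroup.normalizer (Q : Set G)) :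
    IsCyclic (Q ⊔ Subgroup.zpowers x : Subgroup G) ∨
      ∃ n : ℕ, Nonempty ((Q ⊔ Subgroup.zpowers x : Subgroup G) ≃* DihedralGroup (p ^ n)) := by
  set H := Q ⊔ Subgroup.zpowers x
  have hH : H ≤ Subgroup.normalizer (Q : Set G) := sup_le Subgroup.le_normalizer (Subgroup.zpowers_le.2 hx)
  set Q' := Q.subgroupOf H
  haveI hQn : Q'.Normal := Subgroup.normal_subgroupOf_of_le_normalizer hH
  have hxH : x ∈ H := Subgroup.mem_sup_right (Subgroup.mem_zpowers x)
  have hgen : ∀ h : H, ∃ k : ℤ, (⟨x, hxH⟩ : H) ^ k * h⁻¹ ∈ Q' := by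
    intro h
    have hh : (h : G) ∈ (↑(Q ⊔ Subgroup.zpowers x) : Set G) := h.2
    rw [Subgroup.coe_mul_of_right_le_normalizer_left _ _ (Subgroup.zpowers_le.2 hx)] at hh
    obtain ⟨q, hq, y, hy, e⟩ := Set.mem_mul.1 hh
    obtain ⟨k, rfl⟩ := Subgroup.mem_zpowers_iff.1 hy
    refine ⟨k, ?_⟩
    rw [Subgroup.mem_subgroupOf, Subgroup.coe_mul, SubgroupClass.coe_zpow, InvMemClass.coe_inv, ← e]
    simpa using inv_mem hq
  haveI hcyc : IsCyclic (H ⧸ Q') := ⟨QuotientGroup.mk' Q' ⟨x, hxH⟩, fun y => by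
    obtain ⟨h, rfl⟩ := QuotientGroup.mk'_surjective Q' y
    obtain ⟨k, hk⟩ := hgen h
    refine ⟨k, ?_⟩
    show QuotientGroup.mk' Q' ⟨x, hxH⟩ ^ k = _
    rw [← map_zpow]
    exact mul_inv_eq_one.1 (by rw [← map_inv, ← map_mul]; exact (QuotientGroup.eq_one_iff _).2 hk)⟩
  have hle : ∀ S : Sylow p H, Q' ≤ (S : Subgroup H) := fun S => by
    obtain ⟨T, hT⟩ := (show IsPGroup p Q' from hQ.comap_subtype).exists_le_sylow
    obtain ⟨g, hg⟩ := MulAction.exists_smul_eq H T S
    rw [← hg]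
    intro q hq
    rw [Sylow.coe_subgroup_smul, Subgroup.mem_pointwise_smul_iff_inv_smul_mem]
    refine hT ?_
    simpa [MulAut.smul_def, mul_assoc] using hQn.conj_mem q hq g⁻¹
  refine hR H (fun S => ⟨fun s hs g => ?_⟩) (fun S _ => ?_)
  · letI := IsCyclic.commGroup (α := H ⧸ Q')
    have h1 : g * s * g⁻¹ * s⁻¹ ∈ Q' := by
      rw [← QuotientGroup.eq_one_iff, ← QuotientGroup.mk'_apply Q', map_mul, map_mul, map_mul, map_inv, map_inv,
        mul_comm (QuotientGroup.mk' Q' g), mul_inv_cancel_right, mul_inv_cancel]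
    simpa using (S : Subgroup H).mul_mem (hle S h1) hs
  · exact isCyclic_of_surjective (QuotientGroup.map Q' (S : Subgroup H) (MonoidHom.id H) (hle S)) fun y => by
      obtain ⟨h, rfl⟩ := QuotientGroup.mk'_surjective _ y
      exact ⟨QuotientGroup.mk' Q' h, rfl⟩

theorem sylow_cyclic (hp2 : p ≠ 2) (hR : Restricted p G) (P : Sylow p G) : IsCyclic P := by
  have h := restricted_apply hR P.isPGroup' (x := 1) (one_mem _)
  rw [Subgroup.zpowers_one_eq_bot, sup_bot_eq] at h
  rcases h with h | ⟨n, ⟨e⟩⟩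
  · exact h
  · obtain ⟨a, ha⟩ := IsPGroup.iff_card.1 P.isPGroup'
    have h2 : Nat.card P = 2 * p ^ n := by
      rw [← DihedralGroup.nat_card (n := p ^ n)]; exact Nat.card_congr e.toEquiv
    exact absurd ((Nat.prime_dvd_prime_iff_eq Nat.prime_two hp.out).1
      (Nat.prime_two.dvd_of_dvd_pow (ha ▸ h2 ▸ dvd_mul_right 2 _))).symm hp2

theorem outside_prop (hp2 : p ≠ 2) (hR : Restricted p G) {Q : Subgroup G} (hQ : Nat.card Q = p) {x : G}
    (hx : x ∈ Subgroup.normalizer (Q : Set G)) (hxc : x ∉ Subgroup.centralizer (Q : Set G)) : orderOf x = 2 := by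
  obtain ⟨q, hq, hqx⟩ : ∃ q ∈ Q, q * x ≠ x * q := by
    simpa [Subgroup.mem_centralizer_iff] using hxc
  have hqH : q ∈ Q ⊔ Subgroup.zpowers x := Subgroup.mem_sup_left hq
  have hxH : x ∈ Q ⊔ Subgroup.zpowers x := Subgroup.mem_sup_right (Subgroup.mem_zpowers x)
  rcases restricted_apply hR (IsPGroup.of_card (n := 1) (by rw [hQ, pow_one])) hx with hc | ⟨n, ⟨e⟩⟩
  · exact absurd (congrArg Subtype.val ((IsCyclic.commGroup (α := (Q ⊔ Subgroup.zpowers x : Subgroup G))).mul_comm ⟨q, hqH⟩ ⟨x, hxH⟩)) hqx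
  · have hqp : orderOf q = p := by
      have h1 : orderOf q ∣ p := by rw [← hQ, ← Subgroup.orderOf_mk q hq]; exact orderOf_dvd_natCard _
      exact (hp.out.eq_one_or_self_of_dvd _ h1).resolve_left fun h => hqx (by rw [orderOf_eq_one_iff.1 h, one_mul, mul_one])
    have ho : ∀ (z : G) (hz : z ∈ Q ⊔ Subgroup.zpowers x), orderOf (e ⟨z, hz⟩) = orderOf z := fun z hz => by
      rw [MulEquiv.orderOf_eq, Subgroup.orderOf_mk]
    rcases hq' : e ⟨q, hqH⟩ with i | i
    · rcases hx' : e ⟨x, hxH⟩ with j | j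
      · exfalso
        refine hqx ?_
        have : e (⟨q, hqH⟩ * ⟨x, hxH⟩) = e (⟨x, hxH⟩ * ⟨q, hqH⟩) := by
          rw [map_mul, map_mul, hq', hx', DihedralGroup.r_mul_r, DihedralGroup.r_mul_r, add_comm]
        exact congrArg Subtype.val (e.injective this)
      · rw [← ho x hxH, hx', DihedralGroup.orderOf_sr]
    · have := ho q hqH
      rw [hq', DihedralGroup.orderOf_sr, hqp] at this
      exact absurd this.symm hp2

theorem local_prop (hp2 : p ≠ 2) (hR : Restricted p G) {Q : Subgroup G} (hQ : Nat.card Q = p) {t : G}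
    (ht : t ∈ Subgroup.normalizer (Q : Set G)) (htc : t ∉ Subgroup.centralizer (Q : Set G)) :
    IsMulCommutative ↥(Subgroup.centralizer (Q : Set G)) ∧
      ∀ x : G, x ∈ Subgroup.normalizer (Q : Set G) → x ∉ Subgroup.centralizer (Q : Set G) →
        orderOf x = 2 ∧ ∀ c : G, c ∈ Subgroup.centralizer (Q : Set G) → x * c * x⁻¹ = c⁻¹ := by
  have hinv : ∀ x : G, x ∈ Subgroup.normalizer (Q : Set G) → x ∉ Subgroup.centralizer (Q : Set G) →
      orderOf x = 2 ∧ ∀ c : G, c ∈ Subgroup.centralizer (Q : Set G) → x * c * x⁻¹ = c⁻¹ := fun x hx hxc => by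
    have h2 := outside_prop hp2 hR hQ hx hxc
    refine ⟨h2, fun c hc => ?_⟩
    have h3 := outside_prop hp2 hR hQ (mul_mem hx (Subgroup.centralizer_le_normalizer _ hc))
      (fun h => hxc ((Subgroup.mul_mem_cancel_right _ hc).1 h))
    have e1 : x * c * (x * c) = 1 := by rw [← pow_two, ← h3, pow_orderOf_eq_one]
    have e2 : x⁻¹ = x := by
      refine inv_eq_of_mul_eq_one_right ?_
      rw [← pow_two, ← h2, pow_orderOf_eq_one]
    rw [e2]
    exact eq_inv_of_mul_eq_one_left (by rw [mul_assoc]; exact e1)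
  refine ⟨⟨⟨fun a b => Subtype.ext ?_⟩⟩, hinv⟩
  have h := (hinv t ht htc).2
  have e1 := h ((a : G) * b) (mul_mem a.2 b.2)
  rw [show t * ((a : G) * b) * t⁻¹ = (t * a * t⁻¹) * (t * b * t⁻¹) by group, h _ a.2, h _ b.2, ← mul_inv_rev, inv_inj] at e1
  exact e1.symm

theorem card_p_of_cyclic (P : Sylow p G) [IsCyclic P] {y : G} (hy : y ∈ (P : Subgroup G)) (hy1 : y ≠ 1) :
    ∃ Q : Subgroup G, Q ≤ P ∧ Nat.card Q = p := by
  obtain ⟨j, hj⟩ := IsPGroup.iff_card.1 P.isPGroup'
  have hpd : p ∣ Nat.card P := by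
    rcases j.eq_zero_or_pos with rfl | hj0
    · exfalso
      rw [pow_zero] at hj
      exact hy1 ((Subgroup.eq_bot_of_card_eq _ hj) ▸ hy : y ∈ (⊥ : Subgroup G))
    · rw [hj]; exact dvd_pow_self p hj0.ne'
  obtain ⟨a, ha⟩ := exists_prime_orderOf_dvd_card' p hpd
  exact ⟨Subgroup.zpowers (a : G), Subgroup.zpowers_le.2 a.2, by rw [Nat.card_zpowers, Subgroup.orderOf_coe, ha]⟩

theorem frattini_step {Q : Subgroup G} (P : Sylow p G) (hPQ : (P : Subgroup G) ≤ Subgroup.centralizer (Q : Set G))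
    {x : G} (hx : x ∈ Subgroup.normalizer (Q : Set G)) :
    ∃ c ∈ Subgroup.centralizer (Q : Set G), c * x ∈ Subgroup.normalizer ((P : Subgroup G) : Set G) := by
  set C := Subgroup.centralizer (Q : Set G)
  have h2 : ((x • P : Sylow p G) : Subgroup G) ≤ C := fun y hy => by
    rw [Sylow.coe_subgroup_smul, Subgroup.mem_pointwise_smul_iff_inv_smul_mem] at hy
    have hy' : x⁻¹ * y * x ∈ C := by simpa [MulAut.smul_def, mul_assoc] using hPQ hy
    rw [Subgroup.mem_centralizer_iff] at hy' ⊢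
    intro q hq
    have hq' : x⁻¹ * q * x ∈ Q := by simpa using (Subgroup.mem_normalizer_iff.1 (inv_mem hx) q).1 hq
    have := hy' _ hq'
    calc q * y = x * (x⁻¹ * q * x * (x⁻¹ * y * x)) * x⁻¹ := by group
      _ = _ := by rw [this]; group
  obtain ⟨k, hk⟩ := MulAction.exists_smul_eq C ((x • P : Sylow p G).subtype h2) (P.subtype hPQ)
  refine ⟨k, k.2, Sylow.smul_eq_iff_mem_normalizer.1 ?_⟩
  rw [mul_smul]
  exact Sylow.subtype_injective ((Sylow.smul_subtype h2 k).symm.trans hk)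

theorem forward (hp2 : p ≠ 2) (hR : Restricted p G) (P : Sylow p G) :
    IsCyclic P ∧
      (Subgroup.normalizer ((P : Subgroup G) : Set G) = Subgroup.centralizer ((P : Subgroup G) : Set G) ∨
       ((Subgroup.centralizer ((P : Subgroup G) : Set G)).relIndex (Subgroup.normalizer ((P : Subgroup G) : Set G)) = 2 ∧
        ∀ Q : Subgroup G, Q ≤ P → Nat.card Q = p →
          IsMulCommutative ↥(Subgroup.centralizer (Q : Set G)) ∧
          ∀ x : G, x ∈ Subgroup.normalizer (Q : Set G) → x ∉ Subgroup.centralizer (Q : Set G) →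
            orderOf x = 2 ∧ ∀ c : G, c ∈ Subgroup.centralizer (Q : Set G) → x * c * x⁻¹ = c⁻¹)) := by
  haveI := sylow_cyclic hp2 hR P
  refine ⟨inferInstance, ?_⟩
  by_cases hNC : Subgroup.normalizer ((P : Subgroup G) : Set G) = Subgroup.centralizer ((P : Subgroup G) : Set G)
  · exact Or.inl hNC
  refine Or.inr ?_
  set N := Subgroup.normalizer ((P : Subgroup G) : Set G)
  set C := Subgroup.centralizer ((P : Subgroup G) : Set G)
  obtain ⟨t, ht, htC⟩ := SetLike.not_le_iff_exists.1 fun h => hNC (le_antisymm h (Subgroup.centralizer_le_normalizer _))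
  -- an element of N outside C moves every subgroup of order p
  have hout : ∀ Q : Subgroup G, Q ≤ P → Nat.card Q = p → ∀ x ∈ N, x ∉ C →
      x ∈ Subgroup.normalizer (Q : Set G) ∧ x ∉ Subgroup.centralizer (Q : Set G) := by
    intro Q hQP hQ x hx hxC
    have hQne : Q ≠ ⊥ := fun e => hp.out.one_lt.ne (by rw [← hQ, e, Subgroup.card_bot])
    obtain ⟨⟨y, hy⟩, hy1⟩ := Subgroup.ne_bot_iff_exists_ne_one.1 hQne
    refine ⟨?_, fun hc => hxC (Transfer.CyclicSyl.mem_centralizer_of_normalizer P hx (Or.inl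
      ⟨y, hQP hy, fun e => hy1 (Subtype.ext e), (Subgroup.mem_centralizer_iff.1 hc y hy).symm⟩))⟩
    refine mem_normalizer_of_forall fun z hz => ?_
    obtain ⟨g, hg⟩ := (Subgroup.isCyclic_iff_exists_zpowers_eq_top (P : Subgroup G)).1 inferInstance
    have hgm : x * g * x⁻¹ ∈ Subgroup.zpowers g := hg.symm ▸ ((Subgroup.mem_normalizer_iff.1 hx g).1 (hg ▸ Subgroup.mem_zpowers g))
    obtain ⟨k, hk⟩ := Subgroup.mem_zpowers_iff.1 hgm
    obtain ⟨j, rfl⟩ := Subgroup.mem_zpowers_iff.1 (hg.symm ▸ hQP hz : z ∈ Subgroup.zpowers g)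
    rw [← conj_zpow, ← hk, ← zpow_mul, mul_comm, zpow_mul]
    exact Q.zpow_mem hz k
  obtain ⟨Q₀, hQ₀P, hQ₀⟩ : ∃ Q : Subgroup G, Q ≤ P ∧ Nat.card Q = p := by
    rw [Subgroup.mem_centralizer_iff] at htC
    push Not at htC
    obtain ⟨y, hy, hyt⟩ := htC
    exact card_p_of_cyclic P hy fun e => hyt (by rw [e, one_mul, mul_one])
  refine ⟨?_, fun Q hQP hQ => local_prop hp2 hR hQ (hout Q hQP hQ t ht htC).1 (hout Q hQP hQ t ht htC).2⟩
  have hinv : ∀ x ∈ N, x ∉ C → ∀ y ∈ (P : Subgroup G), x * y * x⁻¹ = y⁻¹ := by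
    intro x hx hxC y hy
    obtain ⟨h1, h2⟩ := hout Q₀ hQ₀P hQ₀ x hx hxC
    refine ((local_prop hp2 hR hQ₀ h1 h2).2 x h1 h2).2 y (Subgroup.mem_centralizer_iff.2 fun q hq => ?_)
    exact congrArg Subtype.val ((IsCyclic.commGroup (α := (P : Subgroup G))).mul_comm ⟨q, hQ₀P hq⟩ ⟨y, hy⟩)
  show (C.subgroupOf N).index = 2
  rw [Subgroup.index_eq_two_iff]
  refine ⟨⟨t, ht⟩, fun b => ?_⟩
  by_cases hb : (b : G) ∈ C
  · refine Or.inr ⟨hb, fun h => htC ((Subgroup.mul_mem_cancel_left C hb).1 h)⟩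
  · refine Or.inl ⟨Subgroup.mem_centralizer_iff.2 fun y hy => ?_, hb⟩
    have e : (b : G) * t * y * ((b : G) * t)⁻¹ = y := by
      rw [show (b : G) * t * y * ((b : G) * t)⁻¹ = (b : G) * (t * y * t⁻¹) * (b : G)⁻¹ by group, hinv t ht htC y hy,
        hinv b b.2 hb _ (inv_mem hy), inv_inv]
    show y * ((b : G) * t) = (b : G) * t * y
    conv_lhs => rw [← e]
    group

theorem backward (hp2 : p ≠ 2) (P : Sylow p G) [IsCyclic P]
    (hcase : Subgroup.normalizer ((P : Subgroup G) : Set G) = Subgroup.centralizer ((P : Subgroup G) : Set G) ∨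
       ∀ Q : Subgroup G, Q ≤ P → Nat.card Q = p →
          ∀ x : G, x ∈ Subgroup.normalizer (Q : Set G) → x ∉ Subgroup.centralizer (Q : Set G) →
            orderOf x = 2 ∧ ∀ c : G, c ∈ Subgroup.centralizer (Q : Set G) → x * c * x⁻¹ = c⁻¹) : Restricted p G := by
  intro H hn hc
  obtain ⟨S⟩ : Nonempty (Sylow p H) := inferInstance
  haveI := hn S
  haveI := hc S
  obtain ⟨T, hT⟩ := (S.isPGroup'.map H.subtype).exists_le_sylow
  obtain ⟨g, hg⟩ := MulAction.exists_smul_eq G T P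
  haveI hScyc : IsCyclic (S : Subgroup H) := by
    haveI : IsCyclic (T : Subgroup G) := isCyclic_of_surjective _ (P.equiv T).surjective
    exact isCyclic_of_injective ((Subgroup.inclusion hT).comp ((S : Subgroup H).equivMapOfInjective H.subtype H.subtype_injective).toMonoidHom)
      ((Subgroup.inclusion_injective hT).comp (MulEquiv.injective _))
  have habel : (∀ h : H, ∀ s ∈ (S : Subgroup H), h * s = s * h) → IsCyclic H := by
    intro hcomm
    have hab : ∀ a b : H, a * b = b * a := commutative_of_cyclic_center_quotient (QuotientGroup.mk' (S : Subgroup H))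
      (fun s hs => by
        rw [QuotientGroup.ker_mk'] at hs
        exact Subgroup.mem_center_iff.2 fun h => hcomm h s hs)
    letI : CommGroup H := { (inferInstance : Group H) with mul_comm := hab }
    haveI : IsCyclic (QuotientGroup.mk' (S : Subgroup H)).ker := by rw [QuotientGroup.ker_mk']; exact hScyc
    refine Group.isCyclic_of_coprime_card_ker (QuotientGroup.mk' (S : Subgroup H)) ?_ (QuotientGroup.mk'_surjective _)
    rw [QuotientGroup.ker_mk']
    exact S.card_coprime_index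
  rcases eq_or_ne (S : Subgroup H) ⊥ with hS | hS
  · exact Or.inl (habel fun h s hs => by rw [hS, Subgroup.mem_bot] at hs; rw [hs, one_mul, mul_one])
  -- an element of order p
  obtain ⟨⟨y0, hy0⟩, hy01⟩ := Subgroup.ne_bot_iff_exists_ne_one.1 hS
  obtain ⟨Q', hQ'S, hQ'⟩ := card_p_of_cyclic S hy0 (fun e => hy01 (Subtype.ext e))
  set Q := Q'.map H.subtype
  have hQcard : Nat.card Q = p := by rw [Subgroup.card_map_of_injective H.subtype_injective, hQ']
  have hQH : ∀ h : H, (h : G) ∈ Subgroup.normalizer (Q : Set G) := fun h => by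
    refine mem_normalizer_of_forall fun z hz => ?_
    obtain ⟨u, hu, rfl⟩ := hz
    refine ⟨h * u * h⁻¹, ?_, rfl⟩
    obtain ⟨s, hs⟩ := (Subgroup.isCyclic_iff_exists_zpowers_eq_top (S : Subgroup H)).1 inferInstance
    obtain ⟨k, hk⟩ := Subgroup.mem_zpowers_iff.1 (hs.symm ▸ (hn S).conj_mem s (hs ▸ Subgroup.mem_zpowers s) h : h * s * h⁻¹ ∈ Subgroup.zpowers s)
    obtain ⟨j, rfl⟩ := Subgroup.mem_zpowers_iff.1 (hs.symm ▸ hQ'S hu : u ∈ Subgroup.zpowers s)
    rw [← conj_zpow, ← hk, ← zpow_mul, mul_comm, zpow_mul]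
    exact Q'.zpow_mem hu k
  by_cases hall : ∀ h : H, (h : G) ∈ Subgroup.centralizer (Q : Set G)
  · refine Or.inl (habel fun h s hs => ?_)
    have hm := Transfer.CyclicSyl.mem_centralizer_of_normalizer S (m := h) (Subgroup.normalizer_eq_top (H := (S : Subgroup H)) ▸ Subgroup.mem_top h) (Or.inl (by
      have hne : Q' ≠ ⊥ := fun e => hp.out.one_lt.ne (by rw [← hQ', e, Subgroup.card_bot])
      obtain ⟨⟨u, hu⟩, hu1⟩ := Subgroup.ne_bot_iff_exists_ne_one.1 hne
      exact ⟨u, hQ'S hu, fun e => hu1 (Subtype.ext e), Subtype.ext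
        (Subgroup.mem_centralizer_iff.1 (hall h) u ⟨u, hu, rfl⟩).symm⟩))
    exact (Subgroup.mem_centralizer_iff.1 hm s hs).symm
  push Not at hall
  obtain ⟨h₀, hh₀⟩ := hall
  -- transport to P
  set R := MulAut.conj g • Q
  have hRP : R ≤ (P : Subgroup G) := by
    rw [← hg, Sylow.coe_subgroup_smul]
    exact Subgroup.pointwise_smul_le_pointwise_smul_iff.2 ((Subgroup.map_mono hQ'S).trans hT)
  have hR : Nat.card R = p := by rw [← hQcard]; exact (Nat.card_congr (Subgroup.equivSMul (MulAut.conj g) Q).toEquiv).symm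
  have hmemR : ∀ q : G, q ∈ Q → g * q * g⁻¹ ∈ R := fun q hq => by
    simpa [R, MulAut.smul_def] using Subgroup.smul_mem_pointwise_smul q (MulAut.conj g) Q hq
  have hRmem : ∀ r : G, r ∈ R → g⁻¹ * r * g ∈ Q := fun r hr => by
    rw [Subgroup.mem_pointwise_smul_iff_inv_smul_mem] at hr
    simpa [MulAut.smul_def, mul_assoc] using hr
  have hN : ∀ x ∈ Subgroup.normalizer (Q : Set G), g * x * g⁻¹ ∈ Subgroup.normalizer (R : Set G) := fun x hx =>
    mem_normalizer_of_forall fun r hr => by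
      have := hmemR _ ((Subgroup.mem_normalizer_iff.1 hx _).1 (hRmem r hr))
      simpa [mul_assoc] using this
  have hC : ∀ x : G, x ∈ Subgroup.centralizer (Q : Set G) ↔ g * x * g⁻¹ ∈ Subgroup.centralizer (R : Set G) := fun x => by
    simp only [Subgroup.mem_centralizer_iff]
    constructor
    · intro h r hr
      calc r * (g * x * g⁻¹) = g * (g⁻¹ * r * g * x) * g⁻¹ := by group
        _ = _ := by rw [h _ (hRmem r hr)]; group
    · intro h q hq
      calc q * x = g⁻¹ * (g * q * g⁻¹ * (g * x * g⁻¹)) * g := by group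
        _ = _ := by rw [h _ (hmemR q hq)]; group
  have hprop : ∀ x : G, x ∈ Subgroup.normalizer (Q : Set G) → x ∉ Subgroup.centralizer (Q : Set G) →
      orderOf x = 2 ∧ ∀ c : G, c ∈ Subgroup.centralizer (Q : Set G) → x * c * x⁻¹ = c⁻¹ := by
    intro x hx hxc
    rcases hcase with hcase | hcase
    · exfalso
      have hPR : (P : Subgroup G) ≤ Subgroup.centralizer (R : Set G) := fun y hy => Subgroup.mem_centralizer_iff.2 fun r hr =>
        congrArg Subtype.val ((IsCyclic.commGroup (α := (P : Subgroup G))).mul_comm ⟨r, hRP hr⟩ ⟨y, hy⟩)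
      obtain ⟨c, hc1, hc2⟩ := frattini_step P hPR (hN x hx)
      rw [hcase] at hc2
      exact hxc ((hC x).2 ((Subgroup.mul_mem_cancel_left _ hc1).1 (Subgroup.centralizer_le (SetLike.coe_subset_coe.2 hRP) hc2)))
    · obtain ⟨h1, h2⟩ := hcase R hRP hR _ (hN x hx) (fun h => hxc ((hC x).2 h))
      refine ⟨?_, fun c hc => ?_⟩
      · rwa [show g * x * g⁻¹ = MulAut.conj g x from rfl, MulEquiv.orderOf_eq] at h1
      · have := h2 _ ((hC c).1 hc)
        calc x * c * x⁻¹ = g⁻¹ * (g * x * g⁻¹ * (g * c * g⁻¹) * (g * x * g⁻¹)⁻¹) * g := by group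
          _ = c⁻¹ := by rw [this]; group
  have hSC : ∀ s ∈ (S : Subgroup H), (s : G) ∈ Subgroup.centralizer (Q : Set G) := fun s hs => by
    rw [Subgroup.mem_centralizer_iff]
    rintro _ ⟨u, hu, rfl⟩
    exact congrArg (fun z : (S : Subgroup H) => ((z : H) : G))
      ((IsCyclic.commGroup (α := (S : Subgroup H))).mul_comm ⟨u, hQ'S hu⟩ ⟨s, hs⟩)
  obtain ⟨yb, hyb⟩ := IsCyclic.exists_generator (α := H ⧸ (S : Subgroup H))
  obtain ⟨y, rfl⟩ := QuotientGroup.mk'_surjective _ yb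
  have hdec : ∀ h : H, ∃ k : ℤ, ∃ s ∈ (S : Subgroup H), h = y ^ k * s := fun h => by
    obtain ⟨k, hk⟩ := hyb (QuotientGroup.mk' _ h)
    refine ⟨k, (y ^ k)⁻¹ * h, ?_, by group⟩
    rw [← QuotientGroup.eq_one_iff, ← QuotientGroup.mk'_apply]
    simp only [map_mul, map_inv, map_zpow]
    exact inv_mul_eq_one.2 hk
  have hyC : (y : G) ∉ Subgroup.centralizer (Q : Set G) := fun hyc => hh₀ (by
    obtain ⟨k, s, hs, rfl⟩ := hdec h₀
    rw [Subgroup.coe_mul, SubgroupClass.coe_zpow]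
    exact mul_mem (zpow_mem hyc k) (hSC s hs))
  obtain ⟨hy2, hyinv⟩ := hprop _ (hQH y) hyC
  obtain ⟨s, hs⟩ := (Subgroup.isCyclic_iff_exists_zpowers_eq_top (S : Subgroup H)).1 inferInstance
  have hsS : s ∈ (S : Subgroup H) := hs ▸ Subgroup.mem_zpowers s
  have hys : orderOf (y * s) = 2 := by
    rw [← Subgroup.orderOf_coe]
    exact (hprop _ (hQH (y * s)) fun h => hyC ((Subgroup.mul_mem_cancel_right _ (hSC s hsS)).1 h)).1
  rw [Subgroup.orderOf_coe] at hy2
  obtain ⟨e⟩ := Cfsg.Agent.Invol.nonempty_mulEquiv_dihedralGroup hy2 hys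
  have htop : Subgroup.closure ({y, y * s} : Set H) = ⊤ := eq_top_iff.2 fun h _ => by
    obtain ⟨k, u, hu, rfl⟩ := hdec h
    obtain ⟨j, rfl⟩ := Subgroup.mem_zpowers_iff.1 (hs.symm ▸ hu : u ∈ Subgroup.zpowers s)
    have h1 : y ∈ Subgroup.closure ({y, y * s} : Set H) := Subgroup.subset_closure (Or.inl rfl)
    have h2 : y * s ∈ Subgroup.closure ({y, y * s} : Set H) := Subgroup.subset_closure (Or.inr rfl)
    have h3 : s ∈ Subgroup.closure ({y, y * s} : Set H) := by simpa using mul_mem (inv_mem h1) h2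
    exact mul_mem (zpow_mem h1 k) (zpow_mem h3 j)
  have hord : orderOf (y * (y * s)) = orderOf s := by
    rw [← mul_assoc, ← pow_two, ← hy2, pow_orderOf_eq_one, one_mul]
  obtain ⟨a, ha⟩ := IsPGroup.iff_orderOf.1 S.isPGroup' ⟨s, hsS⟩
  rw [Subgroup.orderOf_mk] at ha
  exact Or.inr ⟨a, ⟨(Subgroup.topEquiv.symm.trans (MulEquiv.subgroupCongr htop.symm)).trans (e.trans (by rw [hord, ha]))⟩⟩

/-- Let p be an odd prime and G a finite group with Sylow p-subgroup P. Say that G has restricted p-by-cyclic subgroups when every subgroup H of G whose Sylow p-subgroup is normal in H with cyclic quotient is itself cyclic or dihedral of order 2pⁿ for some n. Then G has restricted p-by-cyclic subgroups if and only if P is cyclic and one of the following holds: (1) N_G(P) = C_G(P); or (2) N_G(P)/C_G(P) has order 2 and, for the subgroup Q of order p of P, the centralizer C_G(Q) is abelian and every element of N_G(Q) outside C_G(Q) is an involution inverting every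 element of C_G(Q). -/
theorem result {G : Type*} [Group G] [Finite G] {p : ℕ}
    [Fact p.Prime] (hp : p ≠ 2) (P : Sylow p G) :
    (∀ H : Subgroup G, (∀ S : Sylow p ↥H, (S : Subgroup ↥H).Normal) →
        (∀ (S : Sylow p ↥H) [(S : Subgroup ↥H).Normal], IsCyclic (↥H ⧸ (S : Subgroup ↥H))) →
        IsCyclic H ∨ (∃ n : ℕ, Nonempty (H ≃* DihedralGroup (p ^ n)))) ↔
    (IsCyclic P ∧
      (Subgroup.normalizer ((P : Subgroup G) : Set G) = Subgroup.centralizer ((P : Subgroup G) : Set G) ∨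
       ((Subgroup.centralizer ((P : Subgroup G) : Set G)).relIndex (Subgroup.normalizer ((P : Subgroup G) : Set G)) = 2 ∧
        ∀ Q : Subgroup G, Q ≤ P → Nat.card Q = p →
          IsMulCommutative ↥(Subgroup.centralizer (Q : Set G)) ∧
          ∀ x : G, x ∈ Subgroup.normalizer (Q : Set G) → x ∉ Subgroup.centralizer (Q : Set G) →
            orderOf x = 2 ∧ ∀ c : G, c ∈ Subgroup.centralizer (Q : Set G) → x * c * x⁻¹ = c⁻¹))) := by

  constructor
  · exact fun h => forward hp h P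
  · rintro ⟨hc, h⟩
    haveI := hc
    exact backward hp P (h.imp id fun h Q hQP hQ => (h.2 Q hQP hQ).2)

end Cfsg.Agent.S4082
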