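import Cfsg.Statements.S4083
import Cfsg.Agent.Lib.Transfer.TwoByCyclic

set_option maxHeartbeats 1000000
set_option maxRecDepth 8000

set_option autoImplicit false
open Cfsg

namespace Cfsg.Agent.S4083

/-- Let G be a finite group with Sylow 2-subgroup P. Every subgroup H of G whose Sylow 2-subgroup is normal in H with cyclic quotient is cyclic, dihedral of 2-power order, or isomorphic to the alternating group of degree 4, if and only if either P is cyclic, or P is dihedral (of order at least 4) and every elementary abelian subgroup K of order 4 of P satisfies C_G(K) = K. -/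
theorem result {G : Type*} [Group G] [Finite G] (P : Sylow 2 G) :
    (∀ H : Subgroup G, (∀ S : Sylow 2 ↥H, (S : Subgroup ↥H).Normal) →
        (∀ (S : Sylow 2 ↥H) [(S : Subgroup ↥H).Normal], IsCyclic (↥H ⧸ (S : Subgroup ↥H))) →
        IsCyclic H ∨ (∃ n : ℕ, Nonempty (H ≃* DihedralGroup (2 ^ n))) ∨ Nonempty (H ≃* alternatingGroup (Fin 4))) ↔
    (IsCyclic P ∨
      ((∃ n : ℕ, 1 ≤ n ∧ Nonempty ((P : Subgroup G) ≃* DihedralGroup (2 ^ n))) ∧
        ∀ K : Subgroup G, K ≤ P → Nat.card K = 4 → (∀ k ∈ K, k ^ 2 = 1) → Subgroup.centralizer (K : Set G) = K)) := by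

  classical
  haveI : Fact (Nat.Prime 2) := ⟨Nat.prime_two⟩
  constructor
  · intro h
    have hnormal : ∀ (H : Subgroup G), IsPGroup 2 H → ∀ S : Sylow 2 H, (S : Subgroup H) = ⊤ := fun H hH S =>
      S.is_maximal' (hH.of_equiv Subgroup.topEquiv.symm) le_top |>.symm
    have hP := h P (fun S => by rw [hnormal _ P.2 S]; infer_instance) (fun S _ => by
      haveI : Subsingleton (↥(P : Subgroup G) ⧸ (S : Subgroup ↥(P : Subgroup G))) :=
        QuotientGroup.subsingleton_iff.2 (hnormal _ P.2 S)
      infer_instance)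
    rcases hP with hc | ⟨n, hn⟩ | he
    · exact Or.inl hc
    · rcases n with _ | n
      · refine Or.inl ?_
        obtain ⟨e⟩ := hn
        exact isCyclic_of_prime_card (p := 2) (by rw [Nat.card_congr e.toEquiv, DihedralGroup.nat_card, pow_zero, mul_one])
      refine Or.inr ⟨⟨n + 1, by omega, hn⟩, fun K _ hK4 hK2 => ?_⟩
      have hKc : ∀ a ∈ K, ∀ b ∈ K, a * b = b * a := by
        intro a ha b hb
        have ha' : a⁻¹ = a := inv_eq_of_mul_eq_one_right (by rw [← pow_two]; exact hK2 a ha)
        have hb' : b⁻¹ = b := inv_eq_of_mul_eq_one_right (by rw [← pow_two]; exact hK2 b hb)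
        have hab : (a * b)⁻¹ = a * b := inv_eq_of_mul_eq_one_right (by rw [← pow_two]; exact hK2 _ (mul_mem ha hb))
        rwa [mul_inv_rev, ha', hb', eq_comm] at hab
      refine le_antisymm (fun z hz => ?_) (fun k hk => Subgroup.mem_centralizer_iff.2 fun a ha => hKc a ha k hk)
      rw [Subgroup.mem_centralizer_iff] at hz
      set H : Subgroup G := K ⊔ Subgroup.zpowers z with hH
      have hab : H ≤ Subgroup.centralizer (H : Set G) := by
        have h1 : H ≤ Subgroup.centralizer (K : Set G) := sup_le
          (fun k hk => Subgroup.mem_centralizer_iff.2 fun a ha => hKc a ha k hk)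
          (Subgroup.zpowers_le.2 (Subgroup.mem_centralizer_iff.2 hz))
        have h2 : H ≤ Subgroup.centralizer {z} := sup_le
          (fun k hk => Subgroup.mem_centralizer_singleton_iff.2 (hz k hk))
          (Subgroup.zpowers_le.2 (Subgroup.mem_centralizer_singleton_iff.2 rfl))
        refine sup_le (fun k hk => Subgroup.mem_centralizer_iff.2 fun a ha => ?_)
          (Subgroup.zpowers_le.2 (Subgroup.mem_centralizer_iff.2 fun a ha => ?_))
        · exact (Subgroup.mem_centralizer_iff.1 (h1 ha) k hk).symm
        · exact (Subgroup.mem_centralizer_singleton_iff.1 (h2 ha))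
      have hcomm : ∀ a b : H, a * b = b * a := fun a b =>
        Subtype.ext (Subgroup.mem_centralizer_iff.1 (hab b.2) a a.2)
      have hSn : ∀ S : Sylow 2 H, (S : Subgroup H).Normal := fun S =>
        ⟨fun s hs g => by rw [hcomm g s, mul_inv_cancel_right]; exact hs⟩
      have hzH : z ∈ H := Subgroup.mem_sup_right (Subgroup.mem_zpowers z)
      have hKH : K ≤ H := le_sup_left
      have hquot : ∀ (S : Sylow 2 H) [(S : Subgroup H).Normal], IsCyclic (H ⧸ (S : Subgroup H)) := by
        intro S _
        obtain ⟨T, hT⟩ := (IsPGroup.of_card (n := 2) (by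
          rw [Nat.card_congr (Subgroup.subgroupOfEquivOfLe hKH).toEquiv, hK4]; rfl) :
          IsPGroup 2 (K.subgroupOf H)).exists_le_sylow
        haveI : Subsingleton (Sylow 2 H) := by
          haveI := Sylow.unique_of_normal S inferInstance
          infer_instance
        rw [Subsingleton.elim T S] at hT
        refine isCyclic_iff_exists_zpowers_eq_top.2 ⟨((⟨z, hzH⟩ : H) : H ⧸ (S : Subgroup H)), eq_top_iff.2 ?_⟩
        intro q _
        obtain ⟨⟨a, ha⟩, rfl⟩ := QuotientGroup.mk_surjective q
        haveI : IsMulCommutative H := ⟨⟨hcomm⟩⟩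
        have ha' : (⟨a, ha⟩ : H) ∈ K.subgroupOf H ⊔ Subgroup.zpowers ⟨z, hzH⟩ := by
          have : (K.subgroupOf H ⊔ Subgroup.zpowers (⟨z, hzH⟩ : H)).map H.subtype = H := by
            rw [Subgroup.map_sup, Subgroup.map_subgroupOf_eq_of_le hKH, MonoidHom.map_zpowers]; rfl
          obtain ⟨b, hb, e⟩ : a ∈ (K.subgroupOf H ⊔ Subgroup.zpowers (⟨z, hzH⟩ : H)).map H.subtype := by rwa [this]
          rwa [show (⟨a, ha⟩ : H) = b from Subtype.ext e.symm]
        haveI : (K.subgroupOf H).Normal := ⟨fun s hs g => by rw [hcomm g s, mul_inv_cancel_right]; exact hs⟩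
        rw [← SetLike.mem_coe, Subgroup.normal_mul] at ha'
        obtain ⟨k, hk, w, hw, e⟩ := ha'
        obtain ⟨i, rfl⟩ := Subgroup.mem_zpowers_iff.1 hw
        refine ⟨i, ?_⟩
        show ((⟨z, hzH⟩ : H) : H ⧸ (S : Subgroup H)) ^ i = _
        rw [← e]
        show _ = ((k * _ : H) : H ⧸ (S : Subgroup H))
        rw [QuotientGroup.mk_mul, (QuotientGroup.eq_one_iff k).2 (hT hk), one_mul, QuotientGroup.mk_zpow]
      have hnotcyc : ¬ IsCyclic H := by
        intro hc
        haveI : IsCyclic K := isCyclic_of_injective (Subgroup.inclusion hKH) (Subgroup.inclusion_injective hKH)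
        obtain ⟨g, hg⟩ := IsCyclic.exists_generator (α := K)
        have h2 : orderOf g ∣ 2 := orderOf_dvd_of_pow_eq_one (Subtype.ext (by rw [SubgroupClass.coe_pow]; exact hK2 _ g.2))
        rw [orderOf_eq_card_of_forall_mem_zpowers hg, hK4] at h2
        norm_num at h2
      rcases h H hSn hquot with hc | ⟨j, ⟨e⟩⟩ | he
      · exact absurd hc hnotcyc
      · have hj : j ≤ 1 := by
          by_contra hj
          have h3 : (2:ℕ) < 2 ^ j := lt_of_lt_of_le (by norm_num) (Nat.pow_le_pow_right two_pos (show 2 ≤ j by omega))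
          haveI : NeZero (2 ^ j) := ⟨by positivity⟩
          have h4 : DihedralGroup.r (1 : ZMod (2 ^ j)) * DihedralGroup.sr 0 = DihedralGroup.sr 0 * DihedralGroup.r 1 := by
            apply e.symm.injective; rw [map_mul, map_mul]; exact hcomm _ _
          rw [DihedralGroup.r_mul_sr, DihedralGroup.sr_mul_r, zero_sub, zero_add, DihedralGroup.sr.injEq,
            neg_eq_iff_add_eq_zero] at h4
          have h5 : ((2 : ℕ) : ZMod (2 ^ j)) = 0 := by rw [← h4]; norm_num
          rw [ZMod.natCast_eq_zero_iff] at h5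
          exact absurd (Nat.le_of_dvd two_pos h5) (not_le.2 h3)
        have hle : Nat.card H ≤ Nat.card K := by
          rw [Nat.card_congr e.toEquiv, DihedralGroup.nat_card, hK4]
          have := Nat.pow_le_pow_right two_pos hj
          omega
        rw [Subgroup.eq_of_le_of_card_ge hKH hle]
        exact hzH
      · exfalso
        obtain ⟨e⟩ := he
        have key : ∀ a b : alternatingGroup (Fin 4), a * b = b * a := fun a b => by
          apply e.symm.injective; rw [map_mul, map_mul]; exact hcomm _ _
        revert key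
        decide
    · exfalso
      obtain ⟨e⟩ := he
      obtain ⟨k, hk⟩ := IsPGroup.iff_card.1 P.2
      rw [Nat.card_congr e.toEquiv, Nat.card_eq_fintype_card, show Fintype.card (alternatingGroup (Fin 4)) = 12 by decide] at hk
      have : 3 ∣ 2 ^ k := hk ▸ (by norm_num)
      exact absurd (Nat.prime_three.dvd_of_dvd_pow this) (by norm_num)
  · rintro hcase H hSn hquot
    haveI := hSn default
    haveI := hquot default
    rcases hcase with hc | ⟨⟨n, hn, ⟨e⟩⟩, hK⟩
    · left
      obtain ⟨y, hy, hgen⟩ := Transfer.TwoByCyclic.exists_odd_generator (default : Sylow 2 H)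
      obtain ⟨Q, hQ⟩ := ((default : Sylow 2 H).2.map H.subtype).exists_le_sylow
      haveI : IsCyclic (Q : Subgroup G) := (Q.equiv P).isCyclic.2 hc
      haveI : IsCyclic ((default : Sylow 2 H) : Subgroup H) := isCyclic_of_injective
        ((H.subtype.comp (Subgroup.subtype _)).codRestrict (Q : Subgroup G) fun s => hQ ⟨s, s.2, rfl⟩)
        fun a b h => Subtype.ext (Subtype.ext (congrArg Subtype.val h :))
      obtain ⟨k, hk⟩ := IsPGroup.iff_card.1 (default : Sylow 2 H).2
      refine Transfer.TwoByCyclic.isCyclic_sup _ y (Transfer.TwoByCyclic.commute_of_isPGroup _ ?_ hy) ?_ hgen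
      · rcases k with _ | k
        · haveI : Subsingleton ((default : Sylow 2 H) : Subgroup H) := (Nat.card_eq_one_iff_unique.1 (by simpa using hk)).1
          exact fun φ => ⟨0, MulEquiv.ext fun x => Subsingleton.elim _ _⟩
        · refine IsPGroup.of_card (n := k) ?_
          rw [IsCyclic.card_mulAut, hk, Nat.totient_prime_pow_succ Nat.prime_two]
          simp
      · rw [hk]
        exact Nat.Coprime.pow_left k (Nat.coprime_two_left.2 hy)
    · exact Transfer.TwoByCyclic.twoByCyclic_of_dihedral P e hK H default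

end Cfsg.Agent.S4083
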