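import Cfsg.Statements.S4084
import Mathlib

set_option maxHeartbeats 1000000
set_option maxRecDepth 8000

set_option autoImplicit false
open Cfsg
open scoped commutatorElement

namespace Cfsg.Agent.S4084

/-- A commuting-graph isomorphism carries an element of order divisible by two primes to one. -/
theorem one_direction {G H : Type*} [Group G] [Finite G] [Group H] [Finite H] (e : G ≃ H)
    (he : ∀ x y : G, Commute x y ↔ Commute (e x) (e y))
    {p q : ℕ} (hp : p.Prime) (hq : q.Prime) (hpq : p ≠ q) (g : G) (hg : orderOf g = p * q) :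
    ∃ h : H, orderOf h = p * q := by
  set D := Subgroup.centralizer (Subgroup.centralizer ({g} : Set G) : Set G) with hD
  set E := Subgroup.centralizer (Subgroup.centralizer ({e g} : Set H) : Set H) with hE
  have hmem : ∀ {X : Type _} [Group X] (a d : X), d ∈ Subgroup.centralizer (Subgroup.centralizer ({a} : Set X) : Set X) ↔
      ∀ c : X, Commute c a → Commute c d := fun a d =>
    ⟨fun hd c hc => Subgroup.mem_centralizer_iff.1 hd c (Subgroup.mem_centralizer_singleton_iff.2 hc.eq),
      fun hd => Subgroup.mem_centralizer_iff.2 fun c hc => hd c (Subgroup.mem_centralizer_singleton_iff.1 hc)⟩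
  have hmemE : ∀ d : H, d ∈ E ↔ ∀ c : H, Commute c (e g) → Commute c d := fun d =>
    ⟨fun hd c hc => Subgroup.mem_centralizer_iff.1 hd c (Subgroup.mem_centralizer_singleton_iff.2 hc.eq),
      fun hd => Subgroup.mem_centralizer_iff.2 fun c hc => hd c (Subgroup.mem_centralizer_singleton_iff.1 hc)⟩
  have key : ∀ d : G, d ∈ D ↔ e d ∈ E := fun d => by
    rw [hmem g d, hmemE]
    constructor
    · intro h c hc
      obtain ⟨c, rfl⟩ := e.surjective c
      exact (he _ _).1 (h c ((he _ _).2 hc))
    · intro h c hc
      exact (he _ _).2 (h _ ((he _ _).1 hc))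
  have hcard : Nat.card D = Nat.card E := Nat.card_congr (e.subtypeEquiv key)
  have hgD : g ∈ D := (hmem g g).2 fun c hc => hc
  have hdvd : p * q ∣ Nat.card E := hcard ▸ hg ▸ D.orderOf_dvd_natCard hgD
  haveI := Fact.mk hp
  haveI := Fact.mk hq
  obtain ⟨⟨a, haE⟩, ha⟩ := exists_prime_orderOf_dvd_card' (G := E) p ((dvd_mul_right p q).trans hdvd)
  obtain ⟨⟨b, hbE⟩, hb⟩ := exists_prime_orderOf_dvd_card' (G := E) q ((dvd_mul_left q p).trans hdvd)
  rw [Subgroup.orderOf_mk] at ha hb
  have hab : Commute a b := by
    have h1 : ∀ c : H, Commute c (e g) → Commute c b := (hmemE b).1 hbE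
    refine h1 a ?_
    exact ((hmemE a).1 haE (e g) (Commute.refl _)).symm
  exact ⟨a * b, by rw [hab.orderOf_mul_eq_mul_orderOf_of_coprime (by rw [ha, hb]; exact (Nat.coprime_primes hp hq).2 hpq), ha, hb]⟩

/-- Let G and H be finite groups whose commuting graphs are isomorphic: there is a bijection e : G → H with x, y commuting exactly when e(x), e(y) commute. Then G and H have the same prime graph: for distinct primes p, q, G has an element of order pq if and only if H does (and #G = #H, so the prime divisors agree). -/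
theorem result {G H : Type*} [Group G] [Finite G] [Group H] [Finite H] (e : G ≃ H)
    (he : ∀ x y : G, Commute x y ↔ Commute (e x) (e y))
    {p q : ℕ} (hp : p.Prime) (hq : q.Prime) (hpq : p ≠ q) :
    (∃ g : G, orderOf g = p * q) ↔ (∃ h : H, orderOf h = p * q) := by

  exact ⟨fun ⟨g, hg⟩ => one_direction e he hp hq hpq g hg,
    fun ⟨h, hh⟩ => one_direction e.symm (fun x y => by rw [he (e.symm x) (e.symm y), e.apply_symm_apply, e.apply_symm_apply]) hp hq hpq h hh⟩

end Cfsg.Agent.S4084
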