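import Cfsg.Statements.S4085
import Mathlib
-- import your own Cfsg.Agent.* helpers here

set_option autoImplicit false
open Cfsg

namespace Cfsg.Agent.S4085

section PowerGraph

variable {G H : Type*} [Group G] [Finite G] [Group H] [Finite H]

/-- adjacency in the power graph -/
def PAdj {G : Type*} [Group G] (x y : G) : Prop :=
  x ∈ Subgroup.zpowers y ∨ y ∈ Subgroup.zpowers x

lemma padj_refl (x : G) : PAdj x x := Or.inl (Subgroup.mem_zpowers x)

lemma padj_symm {x y : G} (h : PAdj x y) : PAdj y x := h.symm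

lemma padj_one (x : G) : PAdj 1 x := Or.inl (one_mem _)

lemma not_padj_of_order {a b : G} (h1 : ¬ orderOf a ∣ orderOf b) (h2 : ¬ orderOf b ∣ orderOf a) :
    ¬ PAdj a b := by
  rintro (h | h)
  · exact h1 (orderOf_dvd_of_mem_zpowers h)
  · exact h2 (orderOf_dvd_of_mem_zpowers h)

lemma padj_congr {z z' : G} (h : Subgroup.zpowers z = Subgroup.zpowers z') (v : G) :
    PAdj z v ↔ PAdj z' v := by
  unfold PAdj
  rw [← Subgroup.zpowers_le (g := z), ← Subgroup.zpowers_le (g := z'), h]

lemma mem_zpowers_of_dvd {x a b : G} (ha : a ∈ Subgroup.zpowers x) (hb : b ∈ Subgroup.zpowers x)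
    (hd : orderOf a ∣ orderOf b) : a ∈ Subgroup.zpowers b := by
  classical
  haveI : Fintype G := Fintype.ofFinite G
  set b' : Subgroup.zpowers x := ⟨b, hb⟩
  set a' : Subgroup.zpowers x := ⟨a, ha⟩
  have ob : orderOf b' = orderOf b := (Subgroup.orderOf_coe b').symm
  have hpos : 0 < orderOf b' := orderOf_pos b'
  have hsub : ((Subgroup.zpowers b' : Set (Subgroup.zpowers x)).toFinset) ⊆
      Finset.univ.filter (fun v : Subgroup.zpowers x => v ^ orderOf b' = 1) := by
    intro v hv
    rw [Set.mem_toFinset] at hv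
    rw [Finset.mem_filter]
    exact ⟨Finset.mem_univ _, orderOf_dvd_iff_pow_eq_one.mp (orderOf_dvd_of_mem_zpowers hv)⟩
  have hle : (Finset.univ.filter (fun v : Subgroup.zpowers x => v ^ orderOf b' = 1)).card ≤
      ((Subgroup.zpowers b' : Set (Subgroup.zpowers x)).toFinset).card := by
    rw [Set.toFinset_card]
    refine le_trans (IsCyclic.card_pow_eq_one_le hpos) (le_of_eq ?_)
    rw [← Nat.card_zpowers b', Nat.card_eq_fintype_card]
    rfl
  have hmem : a' ∈ Finset.univ.filter (fun v : Subgroup.zpowers x => v ^ orderOf b' = 1) := by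
    rw [Finset.mem_filter]
    refine ⟨Finset.mem_univ _, orderOf_dvd_iff_pow_eq_one.mp ?_⟩
    rw [ob, ← Subgroup.orderOf_coe a']
    exact hd
  rw [← Finset.eq_of_subset_of_card_le hsub hle, Set.mem_toFinset] at hmem
  obtain ⟨k, hk⟩ := Subgroup.mem_zpowers_iff.mp hmem
  exact Subgroup.mem_zpowers_iff.mpr ⟨k, by simpa [a', b'] using congrArg Subtype.val hk⟩

lemma exists_mem_order {x : G} {d : ℕ} (hd : d ∣ orderOf x) :
    ∃ c ∈ Subgroup.zpowers x, orderOf c = d :=
  ⟨x ^ (orderOf x / d), pow_mem (Subgroup.mem_zpowers x) _,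
    orderOf_pow_orderOf_div (orderOf_pos x).ne' hd⟩

lemma card_order_zpowers (x : G) {d : ℕ} (hd : d ∣ orderOf x) :
    Nat.card {c : G // c ∈ Subgroup.zpowers x ∧ orderOf c = d} = d.totient := by
  classical
  haveI : Fintype G := Fintype.ofFinite G
  let e : {c : G // c ∈ Subgroup.zpowers x ∧ orderOf c = d} ≃
      {c : Subgroup.zpowers x // orderOf c = d} :=
    { toFun := fun c => ⟨⟨c.1, c.2.1⟩, by rw [← Subgroup.orderOf_coe]; exact c.2.2⟩
      invFun := fun c => ⟨c.1.1, c.1.2, by rw [Subgroup.orderOf_coe]; exact c.2⟩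
      left_inv := fun c => rfl
      right_inv := fun c => rfl }
  rw [Nat.card_congr e, Nat.card_eq_fintype_card, Fintype.card_subtype]
  apply IsCyclic.card_orderOf_eq_totient
  rwa [← Nat.card_eq_fintype_card, Nat.card_zpowers]

/-- a set of elements all of whose cyclic subgroups contain `y`, closed under changing
generators, has size divisible by the totient of the order of `y`. -/
lemma totient_dvd_card {y : H} (S : Finset H) (hS : ∀ z ∈ S, y ∈ Subgroup.zpowers z)
    (hcl : ∀ z ∈ S, ∀ z', Subgroup.zpowers z' = Subgroup.zpowers z → z' ∈ S) :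
    (orderOf y).totient ∣ S.card := by
  classical
  haveI : Fintype H := Fintype.ofFinite H
  rw [Finset.card_eq_sum_card_image (fun z => Subgroup.zpowers z) S]
  refine Finset.dvd_sum ?_
  intro Z hZ
  obtain ⟨z, hz, rfl⟩ := Finset.mem_image.mp hZ
  have hset : S.filter (fun v => Subgroup.zpowers v = Subgroup.zpowers z) =
      Finset.univ.filter (fun v => v ∈ Subgroup.zpowers z ∧ orderOf v = orderOf z) := by
    ext v
    simp only [Finset.mem_filter, Finset.mem_univ, true_and]
    constructor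
    · rintro ⟨-, hv⟩
      refine ⟨hv ▸ Subgroup.mem_zpowers v, ?_⟩
      rw [← Nat.card_zpowers v, hv, Nat.card_zpowers]
    · rintro ⟨hv1, hv2⟩
      have heq : Subgroup.zpowers v = Subgroup.zpowers z :=
        Subgroup.eq_of_le_of_card_ge (Subgroup.zpowers_le.mpr hv1)
          (by rw [Nat.card_zpowers, Nat.card_zpowers, hv2])
      exact ⟨hcl z hz v heq, heq⟩
  rw [hset]
  have := card_order_zpowers z (dvd_refl (orderOf z))
  rw [Nat.card_eq_fintype_card, Fintype.card_subtype] at this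
  rw [this]
  exact Nat.totient_dvd_of_dvd (orderOf_dvd_of_mem_zpowers (hS z hz))

lemma exists_other_prime {n p q : ℕ} (hp : p.Prime) (hq : q.Prime) (hpq : p ≠ q) (hpn : p ∣ n)
    (hqn : q ∣ n) (r : ℕ) : ∃ t, t.Prime ∧ t ∣ n ∧ t ≠ r := by
  by_cases h : p = r
  · exact ⟨q, hq, hqn, fun h' => hpq (h.trans h'.symm)⟩
  · exact ⟨p, hp, hpn, h⟩

lemma exists_incomparable {n δ : ℕ} (hn : n ≠ 0) {p q : ℕ} (hp : p.Prime) (hq : q.Prime)
    (hpq : p ≠ q) (hpn : p ∣ n) (hqn : q ∣ n) (hd : δ ∣ n) (h1 : δ ≠ 1) (h2 : δ ≠ n) :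
    ∃ r : ℕ, r.Prime ∧ r ∣ n ∧ ¬ r ^ n.factorization r ∣ δ ∧ ¬ δ ∣ r ^ n.factorization r := by
  have hδ : δ ≠ 0 := fun h => hn (by simpa [h] using hd)
  obtain ⟨r, hr, hrn, hR⟩ : ∃ r : ℕ, r.Prime ∧ r ∣ n ∧ ¬ r ^ n.factorization r ∣ δ := by
    by_contra hcon
    push Not at hcon
    refine h2 (Nat.dvd_antisymm hd ?_)
    rw [← Nat.factorization_le_iff_dvd hn hδ]
    intro r
    by_cases hr : r.Prime ∧ r ∣ n
    · exact (hr.1.pow_dvd_iff_le_factorization hδ).mp (hcon r hr.1 hr.2)
    · have h0 : n.factorization r = 0 := by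
        rcases not_and_or.mp hr with h | h
        · exact Nat.factorization_eq_zero_of_not_prime n h
        · exact Nat.factorization_eq_zero_of_not_dvd h
      rw [h0]; exact Nat.zero_le _
  by_cases hdR : δ ∣ r ^ n.factorization r
  · obtain ⟨t, ht, htn, htr⟩ := exists_other_prime hp hq hpq hpn hqn r
    have hT : t ∣ t ^ n.factorization t :=
      dvd_pow_self t (by
        have := (ht.factorization_pos_of_dvd hn htn); omega)
    refine ⟨t, ht, htn, fun h => ?_, fun h => ?_⟩
    · exact htr ((Nat.prime_dvd_prime_iff_eq ht hr).mp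
        (ht.dvd_of_dvd_pow ((hT.trans h).trans hdR)))
    · obtain ⟨s, hs, hsd⟩ := Nat.exists_prime_and_dvd h1
      have e1 : s = r := (Nat.prime_dvd_prime_iff_eq hs hr).mp (hs.dvd_of_dvd_pow (hsd.trans hdR))
      have e2 : s = t := (Nat.prime_dvd_prime_iff_eq hs ht).mp (hs.dvd_of_dvd_pow (hsd.trans h))
      exact htr (e2.symm.trans e1)
  · exact ⟨r, hr, hrn, hR, hdR⟩

lemma arith_no {n r P φ : ℕ} (hn : 2 < n) (hr : r.Prime) (hrn : r ∣ n)
    (hmin : ∀ t : ℕ, t.Prime → t ∣ n → r ≤ t) (hother : ∃ t, t.Prime ∧ t ∣ n ∧ t ≠ r)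
    (hφ : φ = n.totient) (hP : P = φ + 1) (hpow : IsPrimePow P) (hdvd : P.totient ∣ r - 1) :
    False := by
  obtain ⟨s, k, hs, hk, hsk⟩ := (isPrimePow_nat_iff P).mp hpow
  have hφ2 : 2 ≤ φ := by
    have h1 : Even n.totient := Nat.totient_even hn
    have h2 : 0 < n.totient := Nat.totient_pos.mpr (by omega)
    obtain ⟨m, hm⟩ := h1
    omega
  have hr2 := hr.two_le
  obtain ⟨t, ht, htn, htr⟩ := hother
  have hrt : r < t := lt_of_le_of_ne (hmin t ht htn) (Ne.symm htr)
  have hmul : (r - 1) * (t - 1) ∣ φ := by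
    have hco : Nat.Coprime r t := (Nat.coprime_primes hr ht).mpr (Ne.symm htr)
    have h := Nat.totient_dvd_of_dvd (hco.mul_dvd_of_dvd_of_dvd hrn htn)
    rwa [Nat.totient_mul hco, Nat.totient_prime hr, Nat.totient_prime ht, ← hφ] at h
  rcases Nat.eq_or_lt_of_le hr2 with h2 | h2
  · have h1 : P.totient = 1 := Nat.dvd_one.mp (by rw [← h2] at hdvd; simpa using hdvd)
    rcases Nat.totient_eq_one_iff.mp h1 with h | h <;> omega
  · rcases Nat.lt_or_ge 1 k with hk1 | hk1
    · have h3 : s ∣ P.totient := by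
        rw [← hsk, Nat.totient_prime_pow hs hk]
        exact Dvd.dvd.mul_right (dvd_pow_self s (by omega)) _
      have h4 : s ∣ φ := (h3.trans hdvd).trans ((Dvd.intro _ rfl).trans hmul)
      have h5 : s ∣ φ + 1 := hP ▸ hsk ▸ dvd_pow_self s (by omega)
      exact hs.not_dvd_one ((Nat.dvd_add_right h4).mp h5)
    · have hk' : k = 1 := by omega
      rw [hk', pow_one] at hsk
      rw [← hsk, Nat.totient_prime hs] at hdvd
      have h6 : s - 1 ≤ r - 1 := Nat.le_of_dvd (by omega) hdvd
      have h7 : (r - 1) * (t - 1) ≤ φ := Nat.le_of_dvd (by omega) hmul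
      have h8 : (r - 1) * 2 ≤ (r - 1) * (t - 1) := Nat.mul_le_mul_left _ (by omega)
      omega

theorem order_transfer (e : G ≃ H) (he : ∀ x y : G, PAdj x y ↔ PAdj (e x) (e y)) (x : G)
    (hmax : ∀ g, x ∈ Subgroup.zpowers g → g ∈ Subgroup.zpowers x) {p q : ℕ} (hp : p.Prime)
    (hq : q.Prime) (hpq : p ≠ q) (hpn : p ∣ orderOf x) (hqn : q ∣ orderOf x) :
    ∃ h : H, orderOf h = orderOf x := by
  classical
  haveI : Fintype G := Fintype.ofFinite G
  haveI : Fintype H := Fintype.ofFinite H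
  set n := orderOf x with hn_def
  have hnpos : 0 < n := orderOf_pos x
  have hn2 : 2 < n := by
    have := Nat.le_of_dvd hnpos (((Nat.coprime_primes hp hq).mpr hpq).mul_dvd_of_dvd_of_dvd hpn hqn)
    have h4 : 2 * 2 ≤ p * q := Nat.mul_le_mul hp.two_le hq.two_le
    omega
  have he' : ∀ a b : H, PAdj a b ↔ PAdj (e.symm a) (e.symm b) := fun a b => by
    rw [he, e.apply_symm_apply, e.apply_symm_apply]
  have hC : ∀ v : G, PAdj v x ↔ v ∈ Subgroup.zpowers x :=
    fun v => ⟨fun h => h.elim id (hmax v), Or.inl⟩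
  have hdvd : ∀ c ∈ Subgroup.zpowers x, orderOf c ∣ n := fun c hc => orderOf_dvd_of_mem_zpowers hc
  -- non-dominating elements of the maximal cyclic subgroup
  have hnd : ∀ c ∈ Subgroup.zpowers x, orderOf c ≠ n → c ≠ 1 → ∃ r : ℕ, r.Prime ∧ r ∣ n ∧
      ∀ γ ∈ Subgroup.zpowers x, orderOf γ = r ^ n.factorization r → ¬ PAdj c γ := by
    intro c hc h1 h2
    obtain ⟨r, hr, hrn, hA, hB⟩ := exists_incomparable (δ := orderOf c) hnpos.ne' hp hq hpq hpn hqn
      (hdvd c hc) (fun h => h2 (orderOf_eq_one_iff.mp h)) h1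
    exact ⟨r, hr, hrn, fun γ _ hγ => not_padj_of_order (by rwa [hγ]) (by rwa [hγ])⟩
  have hgam : ∀ r : ℕ, ∃ γ ∈ Subgroup.zpowers x, orderOf γ = r ^ n.factorization r :=
    fun r => exists_mem_order (Nat.ordProj_dvd n r)
  have hdom : ∀ c ∈ Subgroup.zpowers x, (∀ v ∈ Subgroup.zpowers x, PAdj c v) →
      orderOf c = n ∨ c = 1 := by
    intro c hc hall
    by_contra hcon
    rw [not_or] at hcon
    obtain ⟨r, -, -, hno⟩ := hnd c hc hcon.1 hcon.2
    obtain ⟨γ, hγ, hγo⟩ := hgam r
    exact hno γ hγ hγo (hall γ hγ)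
  let D : H → Prop := fun h => e.symm h ∈ Subgroup.zpowers x
  let Δ : H → Prop := fun h => D h ∧ (orderOf (e.symm h) = n ∨ e.symm h = 1)
  have hgen : ∀ u ∈ Subgroup.zpowers x, orderOf u = n →
      ∀ w, PAdj u w ↔ w ∈ Subgroup.zpowers x := by
    intro u hu huo w
    have hxu : x ∈ Subgroup.zpowers u :=
      mem_zpowers_of_dvd (Subgroup.mem_zpowers x) hu (by rw [huo])
    constructor
    · rintro (h | h)
      · exact hmax w (Subgroup.zpowers_le.mpr h hxu)
      · exact Subgroup.zpowers_le.mpr hu h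
    · exact fun h => Or.inr (Subgroup.zpowers_le.mpr hxu h)
  have hone : ∀ w, PAdj (e.symm (1 : H)) w := fun w => by
    rw [he, e.apply_symm_apply]; exact padj_one _
  have hD1 : D 1 := (hC _).mp (hone x)
  have hΔ1 : Δ 1 := ⟨hD1, hdom _ hD1 fun v _ => hone v⟩
  have htwin : ∀ h, Δ h → h ≠ 1 → ∀ v, PAdj h v ↔ D v := by
    rintro h ⟨hD, hh⟩ hne v
    rw [he']
    rcases hh with hh | hh
    · exact hgen _ hD hh _
    · have hu' : e.symm (1 : H) ≠ 1 := by
        rw [← hh]; exact fun h' => hne (e.symm.injective h').symm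
      have hall : ∀ w, w ∈ Subgroup.zpowers x := fun w =>
        (hgen _ hD1 (hΔ1.2.resolve_right hu') w).mp (hone w)
      rw [hh]
      exact iff_of_true (padj_one _) (hall _)
  have hΔadj : ∀ h, Δ h → ∀ v, D v → PAdj h v := by
    intro h hh v hv
    by_cases h1 : h = 1
    · rw [h1]; exact padj_one _
    · exact (htwin h hh h1 v).mpr hv
  have hne : Nonempty {h : H // Δ h ∧ h ≠ 1} := by
    by_cases h1 : e x = 1
    · refine ⟨⟨e x⁻¹, ⟨?_, Or.inl ?_⟩, fun h => ?_⟩⟩
      · show e.symm (e x⁻¹) ∈ _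
        rw [e.symm_apply_apply]; exact inv_mem (Subgroup.mem_zpowers x)
      · rw [e.symm_apply_apply, orderOf_inv]
      · have hxx : x⁻¹ = x := e.injective (h.trans h1.symm)
        have h2 : x ^ 2 = 1 := by
          rw [pow_two]; nth_rewrite 1 [← hxx]; exact inv_mul_cancel x
        have := Nat.le_of_dvd (by norm_num) (orderOf_dvd_of_pow_eq_one h2)
        omega
    · refine ⟨⟨e x, ⟨?_, Or.inl ?_⟩, h1⟩⟩
      · show e.symm (e x) ∈ _
        rw [e.symm_apply_apply]; exact Subgroup.mem_zpowers x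
      · rw [e.symm_apply_apply]
  obtain ⟨⟨y, hy, hy1⟩, hymax⟩ :=
    Finite.exists_max (fun h : {h : H // Δ h ∧ h ≠ 1} => orderOf h.1)
  have hyN := htwin y hy hy1
  have hYD : ∀ w ∈ Subgroup.zpowers y, D w := fun w hw => (hyN w).mp (Or.inr hw)
  by_cases hU : ∀ v, D v → v ∈ Subgroup.zpowers y
  · refine ⟨y, ?_⟩
    have hc : Nat.card (Subgroup.zpowers x) = Nat.card (Subgroup.zpowers y) :=
      Nat.card_congr (e.subtypeEquiv fun a => by
        constructor
        · intro h; exact hU _ (by show e.symm (e a) ∈ _; rwa [e.symm_apply_apply])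
        · intro h
          have h' := hYD _ h
          change e.symm (e a) ∈ _ at h'
          rwa [e.symm_apply_apply] at h')
    rw [Nat.card_zpowers, Nat.card_zpowers] at hc
    exact hc.symm
  push Not at hU
  obtain ⟨u, huD, huY⟩ := hU
  exfalso
  have hUy : ∀ v, D v → v ∉ Subgroup.zpowers y → y ∈ Subgroup.zpowers v :=
    fun v hv hvY => ((hyN v).mpr hv).resolve_right hvY
  have hUΔ : ∀ v, Δ v → v ∈ Subgroup.zpowers y := by
    intro v hv
    by_contra hvY
    have hle := hymax ⟨v, hv, fun h => hvY (h ▸ one_mem _)⟩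
    have heq : Subgroup.zpowers y = Subgroup.zpowers v :=
      Subgroup.eq_of_le_of_card_ge (Subgroup.zpowers_le.mpr (hUy v hv.1 hvY))
        (by rw [Nat.card_zpowers, Nat.card_zpowers]; exact hle)
    exact hvY (heq ▸ Subgroup.mem_zpowers v)
  have hYU : ∀ w ∈ Subgroup.zpowers y, ∀ v, D v → v ∉ Subgroup.zpowers y → PAdj w v :=
    fun w hw v hv hvY => Or.inl (Subgroup.zpowers_le.mpr (hUy v hv hvY) hw)
  have hYΔ : ∀ w ∈ Subgroup.zpowers y, Δ w := by
    intro w hw
    by_contra hwΔ
    have hwD := hYD w hw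
    have hw' : orderOf (e.symm w) ≠ n ∧ e.symm w ≠ 1 :=
      not_or.mp fun h => hwΔ ⟨hwD, h⟩
    obtain ⟨r, hr, hrn, hno⟩ := hnd _ hwD hw'.1 hw'.2
    have key : ∀ t : ℕ, t.Prime → t ∣ n → ∀ γ ∈ Subgroup.zpowers x,
        orderOf γ = t ^ n.factorization t → e γ ∈ Subgroup.zpowers y := by
      have first : ∀ γ ∈ Subgroup.zpowers x, orderOf γ = r ^ n.factorization r →
          e γ ∈ Subgroup.zpowers y := by
        intro γ hγ hγo
        by_contra hYn
        have h := hYU w hw (e γ) (by show e.symm (e γ) ∈ _; rwa [e.symm_apply_apply]) hYn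
        rw [he', e.symm_apply_apply] at h
        exact hno γ hγ hγo h
      intro t ht htn γ hγ hγo
      by_cases htr : t = r
      · subst htr; exact first γ hγ hγo
      obtain ⟨γr, hγr, hγro⟩ := hgam r
      by_contra hYn
      have h := hYU (e γr) (first γr hγr hγro) (e γ)
        (by show e.symm (e γ) ∈ _; rwa [e.symm_apply_apply]) hYn
      rw [← he] at h
      have hR : r ∣ r ^ n.factorization r :=
        dvd_pow_self r (hr.factorization_pos_of_dvd hnpos.ne' hrn).ne'
      have hT : t ∣ t ^ n.factorization t :=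
        dvd_pow_self t (ht.factorization_pos_of_dvd hnpos.ne' htn).ne'
      refine not_padj_of_order ?_ ?_ h
      · rw [hγro, hγo]
        exact fun h' => htr ((Nat.prime_dvd_prime_iff_eq hr ht).mp
          (hr.dvd_of_dvd_pow (hR.trans h'))).symm
      · rw [hγro, hγo]
        exact fun h' => htr ((Nat.prime_dvd_prime_iff_eq ht hr).mp
          (ht.dvd_of_dvd_pow (hT.trans h')))
    have hu' : orderOf (e.symm u) ≠ n ∧ e.symm u ≠ 1 :=
      not_or.mp fun h => huY (hUΔ u ⟨huD, h⟩)
    obtain ⟨r', hr', hrn', hno'⟩ := hnd _ huD hu'.1 hu'.2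
    obtain ⟨γ, hγ, hγo⟩ := hgam r'
    have h := hYU (e γ) (key r' hr' hrn' γ hγ hγo) u huD huY
    rw [he', e.symm_apply_apply] at h
    exact hno' γ hγ hγo (padj_symm h)
  -- the cyclic subgroup generated by y has prime power order
  have hy1' : orderOf y ≠ 1 := fun h => hy1 (orderOf_eq_one_iff.mp h)
  have hpow : IsPrimePow (orderOf y) := by
    obtain ⟨s, hs, hsd⟩ := Nat.exists_prime_and_dvd hy1'
    rw [isPrimePow_iff_unique_prime_dvd]
    refine ⟨s, ⟨hs, hsd⟩, ?_⟩
    rintro t ⟨ht, htd⟩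
    by_contra hts
    obtain ⟨a, ha, hao⟩ := exists_mem_order hsd
    obtain ⟨b, hb, hbo⟩ := exists_mem_order htd
    refine not_padj_of_order ?_ ?_ (hΔadj a (hYΔ a ha) b (hYD b hb))
    · rw [hao, hbo]; exact fun h => hts ((Nat.prime_dvd_prime_iff_eq hs ht).mp h).symm
    · rw [hao, hbo]; exact fun h => hts ((Nat.prime_dvd_prime_iff_eq ht hs).mp h)
  have hcardΔ : orderOf y = n.totient + 1 := by
    have h1 : Nat.card (Subgroup.zpowers y) =
        Nat.card {c : G // c ∈ Subgroup.zpowers x ∧ (orderOf c = n ∨ c = 1)} :=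
      (Nat.card_congr (e.subtypeEquiv fun a => by
        constructor
        · rintro ⟨ha, ha'⟩
          exact hUΔ _ ⟨by show e.symm (e a) ∈ _; rwa [e.symm_apply_apply],
            by rwa [e.symm_apply_apply]⟩
        · intro h
          have h' := hYΔ _ h
          obtain ⟨h'1, h'2⟩ := h'
          change e.symm (e a) ∈ _ at h'1
          rw [e.symm_apply_apply] at h'1 h'2
          exact ⟨h'1, h'2⟩)).symm
    rw [Nat.card_zpowers] at h1
    rw [h1, ← card_order_zpowers x (dvd_refl n), Nat.card_eq_fintype_card, Nat.card_eq_fintype_card,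
      Fintype.card_subtype, Fintype.card_subtype]
    have hset : Finset.univ.filter (fun c : G => c ∈ Subgroup.zpowers x ∧ (orderOf c = n ∨ c = 1)) =
        insert 1 (Finset.univ.filter fun c : G => c ∈ Subgroup.zpowers x ∧ orderOf c = n) := by
      ext c
      simp only [Finset.mem_filter, Finset.mem_univ, true_and, Finset.mem_insert]
      constructor
      · rintro ⟨hc, h | h⟩
        · exact Or.inr ⟨hc, h⟩
        · exact Or.inl h
      · rintro (h | ⟨hc, h⟩)
        · exact ⟨h ▸ one_mem _, Or.inr h⟩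
        · exact ⟨hc, Or.inl h⟩
    rw [hset, Finset.card_insert_of_notMem]
    intro h
    rw [Finset.mem_filter, orderOf_one] at h
    omega
  -- the elements of least prime order
  set r := n.minFac with hr_def
  have hr : r.Prime := Nat.minFac_prime (by omega)
  have hrn : r ∣ n := Nat.minFac_dvd n
  obtain ⟨t₀, ht₀, ht₀n, ht₀r⟩ := exists_other_prime hp hq hpq hpn hqn r
  have hrne : r ≠ n := fun h =>
    ht₀r ((Nat.prime_dvd_prime_iff_eq ht₀ hr).mp (h.symm ▸ ht₀n))
  let S : Finset H := Finset.univ.filter fun z => D z ∧ orderOf (e.symm z) = r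
  have hScard : S.card = r - 1 := by
    rw [← Nat.totient_prime hr, ← card_order_zpowers x hrn, Nat.card_eq_fintype_card,
      Fintype.card_subtype]
    refine Finset.card_equiv e.symm fun z => ?_
    simp only [S, D, Finset.mem_filter, Finset.mem_univ, true_and]
  have hSY : ∀ z ∈ S, z ∉ Subgroup.zpowers y := by
    intro z hz hzY
    rw [Finset.mem_filter] at hz
    obtain ⟨-, hzo | hz1⟩ := hYΔ z hzY
    · exact hrne (hz.2.2.symm.trans hzo)
    · rw [hz1, orderOf_one] at hz
      exact hr.ne_one hz.2.2.symm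
  have hScl : ∀ z ∈ S, ∀ z', Subgroup.zpowers z' = Subgroup.zpowers z → z' ∈ S := by
    intro z hz z' heq
    rw [Finset.mem_filter] at hz ⊢
    obtain ⟨-, hzD, hzo⟩ := hz
    have hsame : ∀ g, PAdj (e.symm z') g ↔ PAdj (e.symm z) g := fun g => by
      rw [he, he, e.apply_symm_apply, e.apply_symm_apply]
      exact padj_congr heq _
    have hD' : D z' := (hC _).mp ((hsame x).mpr ((hC _).mpr hzD))
    refine ⟨Finset.mem_univ _, hD', ?_⟩
    set c := e.symm z
    set c' := e.symm z'
    have hnd' : ¬ ∀ v ∈ Subgroup.zpowers x, PAdj c v := by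
      intro h
      rcases hdom c hzD h with h' | h'
      · exact hrne (hzo.symm.trans h')
      · exact hr.ne_one (by rw [← hzo, h', orderOf_one])
    have hc'1 : c' ≠ 1 := fun h => hnd' fun v _ => (hsame v).mp (h ▸ padj_one v)
    have hrd : r ∣ orderOf c' := by
      rcases (hsame c).mpr (padj_refl c) with h | h
      · have := orderOf_dvd_of_mem_zpowers h
        rw [hzo] at this
        rcases (Nat.dvd_prime hr).mp this with h' | h'
        · exact absurd (orderOf_eq_one_iff.mp h') hc'1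
        · rw [h']
      · have := orderOf_dvd_of_mem_zpowers h
        rwa [hzo] at this
    by_cases ht : ∃ t : ℕ, t.Prime ∧ t ∣ orderOf c' ∧ t ≠ r
    · obtain ⟨t, ht, htd, htr⟩ := ht
      obtain ⟨v, hv, hvo⟩ := exists_mem_order (htd.trans (hdvd _ hD'))
      have hadj : PAdj c' v := Or.inr (mem_zpowers_of_dvd hv hD' (by rwa [hvo]))
      exfalso
      refine not_padj_of_order ?_ ?_ ((hsame v).mp hadj)
      · rw [hzo, hvo]; exact fun h => htr ((Nat.prime_dvd_prime_iff_eq hr ht).mp h).symm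
      · rw [hzo, hvo]; exact fun h => htr ((Nat.prime_dvd_prime_iff_eq ht hr).mp h)
    · push Not at ht
      have hco : Nat.Coprime r t₀ := (Nat.coprime_primes hr ht₀).mpr (Ne.symm ht₀r)
      obtain ⟨v, hv, hvo⟩ := exists_mem_order (hco.mul_dvd_of_dvd_of_dvd hrn ht₀n)
      have hadj : PAdj c v := Or.inl (mem_zpowers_of_dvd hzD hv (by rw [hzo, hvo]; exact Dvd.intro _ rfl))
      rcases (hsame v).mpr hadj with h | h
      · have h' := orderOf_dvd_of_mem_zpowers h
        rw [hvo] at h'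
        have hco2 : Nat.Coprime (orderOf c') t₀ :=
          (Nat.Prime.coprime_iff_not_dvd ht₀).mpr (fun h2 => ht₀r (ht t₀ ht₀ h2)) |>.symm
        exact Nat.dvd_antisymm (hco2.dvd_of_dvd_mul_right h') hrd
      · have h' := orderOf_dvd_of_mem_zpowers h
        rw [hvo] at h'
        exact absurd (ht t₀ ht₀ ((Dvd.intro_left r rfl).trans h')) ht₀r
  have hdiv : (orderOf y).totient ∣ r - 1 := by
    rw [← hScard]
    refine totient_dvd_card S (fun z hz => ?_) hScl
    exact hUy z ((Finset.mem_filter.mp hz).2.1) (hSY z hz)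
  exact arith_no hn2 hr hrn (fun t ht htn => Nat.minFac_le_of_dvd ht.two_le htn)
    ⟨t₀, ht₀, ht₀n, ht₀r⟩ rfl hcardΔ hpow hdiv

theorem prime_graph_le (e : G ≃ H) (he : ∀ x y : G, PAdj x y ↔ PAdj (e x) (e y)) {p q : ℕ}
    (hp : p.Prime) (hq : q.Prime) (hpq : p ≠ q) (hg : ∃ g : G, orderOf g = p * q) :
    ∃ h : H, orderOf h = p * q := by
  obtain ⟨g, hg⟩ := hg
  haveI : Nonempty {c : G // g ∈ Subgroup.zpowers c} := ⟨⟨g, Subgroup.mem_zpowers g⟩⟩
  obtain ⟨⟨x, hx⟩, hxmax⟩ :=
    Finite.exists_max (fun c : {c : G // g ∈ Subgroup.zpowers c} => orderOf c.1)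
  have hmax : ∀ v, x ∈ Subgroup.zpowers v → v ∈ Subgroup.zpowers x := by
    intro v hv
    have hle := hxmax ⟨v, Subgroup.zpowers_le.mpr hv hx⟩
    have heq : Subgroup.zpowers x = Subgroup.zpowers v :=
      Subgroup.eq_of_le_of_card_ge (Subgroup.zpowers_le.mpr hv)
        (by rw [Nat.card_zpowers, Nat.card_zpowers]; exact hle)
    exact heq ▸ Subgroup.mem_zpowers v
  have hd := orderOf_dvd_of_mem_zpowers hx
  rw [hg] at hd
  obtain ⟨h, hh⟩ := order_transfer e he x hmax hp hq hpq ((Dvd.intro _ rfl).trans hd)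
    ((Dvd.intro_left _ rfl).trans hd)
  exact ⟨h ^ (orderOf h / (p * q)), orderOf_pow_orderOf_div (orderOf_pos h).ne' (hh ▸ hd)⟩

end PowerGraph

/-- Let G and H be finite groups whose power graphs are isomorphic: there is a bijection e : G → H such that, for all x, y, one of x, y is a power of the other exactly when one of e(x), e(y) is a power of the other. Then G and H have the same prime graph: for distinct primes p, q, G has an element of order pq if and only if H does. -/
theorem result {G H : Type*} [Group G] [Finite G] [Group H] [Finite H] (e : G ≃ H)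
    (he : ∀ x y : G, (x ∈ Subgroup.zpowers y ∨ y ∈ Subgroup.zpowers x) ↔
      (e x ∈ Subgroup.zpowers (e y) ∨ e y ∈ Subgroup.zpowers (e x)))
    {p q : ℕ} (hp : p.Prime) (hq : q.Prime) (hpq : p ≠ q) :
    (∃ g : G, orderOf g = p * q) ↔ (∃ h : H, orderOf h = p * q) := by
  refine ⟨prime_graph_le e he hp hq hpq, prime_graph_le e.symm (fun x y => ?_) hp hq hpq⟩
  have h := he (e.symm x) (e.symm y)
  rw [e.apply_symm_apply, e.apply_symm_apply] at h
  exact h.symm

end Cfsg.Agent.S4085
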