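import Cfsg.Statements.S4086
import Mathlib

-- import your own Cfsg.Agent.* helpers here

set_option autoImplicit false
set_option linter.style.haveILetI false
open Cfsg

namespace Cfsg.Agent.S4086

/-- For a finite group G the following are equivalent: every non-identity element has prime-power order; whenever two elements generate a cyclic subgroup, one of them is a power of the other (the enhanced power graph of G coincides with its power graph). -/
theorem result {G : Type*} [Group G] [Finite G] :
    (∀ g : G, g ≠ 1 → IsPrimePow (orderOf g)) ↔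
    (∀ x y : G, IsCyclic ↥(Subgroup.closure ({x, y} : Set G)) → (x ∈ Subgroup.zpowers y ∨ y ∈ Subgroup.zpowers x)) := by
  constructor
  · intro h x y hcyc
    obtain ⟨z, hz⟩ := hcyc.exists_generator
    rcases eq_or_ne (z : G) 1 with hz1 | hz1
    · left
      obtain ⟨k, hk⟩ := Subgroup.mem_zpowers_iff.1 (hz ⟨x, Subgroup.subset_closure (Or.inl rfl)⟩)
      have hxz : (z : G) ^ k = x := congrArg Subtype.val hk
      rw [← hxz, hz1, one_zpow]
      exact one_mem _
    obtain ⟨p, k, hp, -, hpk⟩ := h _ hz1
    have hpk' : orderOf (z : G) = p ^ k := hpk.symm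
    have hmem : ∀ w : Subgroup.closure ({x, y} : Set G), ∃ j ≤ k, orderOf w = p ^ j := fun w => by
      have hw : orderOf w ∣ p ^ k := by
        obtain ⟨i, rfl⟩ := Subgroup.mem_zpowers_iff.1 (hz w)
        rw [← hpk', Subgroup.orderOf_coe]
        exact orderOf_dvd_of_mem_zpowers (zpow_mem (Subgroup.mem_zpowers z) i)
      exact (Nat.dvd_prime_pow hp.nat_prime).1 hw
    have key : ∀ a b : Subgroup.closure ({x, y} : Set G), orderOf a ∣ orderOf b →
        a ∈ Subgroup.zpowers b := by
      intro a b hab
      classical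
      have hfin := Fintype.ofFinite (Subgroup.closure ({x, y} : Set G))
      have hn : 0 < orderOf b := orderOf_pos b
      have hc := IsCyclic.card_pow_eq_one_le (α := Subgroup.closure ({x, y} : Set G)) hn
      have hsub : (Subgroup.zpowers b : Set _).toFinset ⊆
          ({t | t ^ orderOf b = 1} : Finset (Subgroup.closure ({x, y} : Set G))) := by
        intro t ht
        rw [Set.mem_toFinset] at ht
        simp only [Finset.mem_filter, Finset.mem_univ, true_and]
        exact orderOf_dvd_iff_pow_eq_one.1 (orderOf_dvd_of_mem_zpowers ht)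
      have heq := Finset.eq_of_subset_of_card_le hsub (hc.trans (le_of_eq ?_))
      · rw [← SetLike.mem_coe, ← Set.mem_toFinset, heq]
        simpa using orderOf_dvd_iff_pow_eq_one.1 hab
      · rw [Set.toFinset_card, ← Nat.card_zpowers b, Nat.card_eq_fintype_card]
        rfl
    let a : Subgroup.closure ({x, y} : Set G) := ⟨x, Subgroup.subset_closure (Or.inl rfl)⟩
    let b : Subgroup.closure ({x, y} : Set G) := ⟨y, Subgroup.subset_closure (Or.inr rfl)⟩
    have tr : ∀ a b : Subgroup.closure ({x, y} : Set G), a ∈ Subgroup.zpowers b →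
        (a : G) ∈ Subgroup.zpowers (b : G) := by
      intro a b hab
      obtain ⟨i, rfl⟩ := Subgroup.mem_zpowers_iff.1 hab
      exact Subgroup.mem_zpowers_iff.2 ⟨i, by simp⟩
    obtain ⟨i, -, hi⟩ := hmem a
    obtain ⟨j, -, hj⟩ := hmem b
    rcases le_total i j with hij | hij
    · exact Or.inl (tr a b (key a b (by rw [hi, hj]; exact pow_dvd_pow _ hij)))
    · exact Or.inr (tr b a (key b a (by rw [hi, hj]; exact pow_dvd_pow _ hij)))
  · intro h g hg
    by_contra hnp
    have h1 : orderOf g ≠ 1 := mt orderOf_eq_one_iff.1 hg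
    obtain ⟨p, hp, hpd⟩ := Nat.exists_prime_and_dvd h1
    obtain ⟨q, hq, hqd, hqp⟩ : ∃ q, q.Prime ∧ q ∣ orderOf g ∧ q ≠ p := by
      by_contra hall
      simp only [not_exists, not_and, not_not] at hall
      refine hnp ((isPrimePow_iff_unique_prime_dvd).2 ⟨p, ⟨hp, hpd⟩, ?_⟩)
      exact fun q hq => hall q hq.1 hq.2
    have hoa : orderOf (g ^ (orderOf g / p)) = p := orderOf_pow_orderOf_div (orderOf_pos g).ne' hpd
    have hob : orderOf (g ^ (orderOf g / q)) = q := orderOf_pow_orderOf_div (orderOf_pos g).ne' hqd
    have hc : IsCyclic (Subgroup.closure ({g ^ (orderOf g / p), g ^ (orderOf g / q)} : Set G)) := by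
      refine Subgroup.isCyclic_of_le (H' := Subgroup.zpowers g) ((Subgroup.closure_le _).2 ?_)
      rintro w (rfl | rfl) <;> exact Subgroup.npow_mem_zpowers g _
    rcases h _ _ hc with hm | hm <;> have hd := orderOf_dvd_of_mem_zpowers hm <;> rw [hoa, hob] at hd
    · exact hqp ((Nat.prime_dvd_prime_iff_eq hp hq).1 hd).symm
    · exact hqp ((Nat.prime_dvd_prime_iff_eq hq hp).1 hd)

end Cfsg.Agent.S4086
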