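import Cfsg.Statements.S4090
import Mathlib
import Cfsg.Agent.Lib.Transfer.Subnormalizer
import Cfsg.Agent.Lib.Grp.Subnormal

set_option maxHeartbeats 1000000
set_option maxRecDepth 8000

set_option autoImplicit false
open scoped BigOperators
open Cfsg

namespace Cfsg.Agent.S4090

open Cfsg.Agent

variable {G : Type*} [Group G] [Finite G] {p : ℕ} [hp : Fact p.Prime]

omit hp in
theorem card_mul_relIndex {A B : Subgroup G} (h : A ≤ B) : Nat.card A * A.relIndex B = Nat.card B := by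
  have := Subgroup.relIndex_mul_relIndex ⊥ A B bot_le h
  rwa [Subgroup.relIndex_bot_left, Subgroup.relIndex_bot_left] at this

theorem pfactor (P : Sylow p G) {M V : Subgroup G} [M.Normal] [V.Normal] (hMV : M ≤ V) {m : ℕ}
    (hm : M.relIndex V = p ^ m) :
    (P : Subgroup G) ⊔ M = (P : Subgroup G) ⊔ V ∧
      Nat.card ((P : Subgroup G) ⊓ V : Subgroup G) * Nat.card M = Nat.card ((P : Subgroup G) ⊓ M : Subgroup G) * Nat.card V := by
  set U := ((P : Subgroup G) ⊓ V) ⊔ M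
  have hUV : U ≤ V := sup_le inf_le_right hMV
  have hU : U = V := by
    refine le_antisymm hUV (Subgroup.relIndex_eq_one.1 ?_)
    have h1 : U.relIndex V ∣ p ^ m := hm ▸ Subgroup.relIndex_dvd_of_le_left V le_sup_right
    obtain ⟨j, -, hj⟩ := (Nat.dvd_prime_pow hp.out).1 h1
    rcases j with _ | j
    · rw [hj, pow_zero]
    · exfalso
      refine Grp.not_dvd_relIndex_sylow P (H := V) (Subgroup.Normal.isSubnormal ‹_›) ?_
      have h2 := Subgroup.relIndex_dvd_of_le_left V (le_sup_left : (P : Subgroup G) ⊓ V ≤ U)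
      rw [Subgroup.inf_relIndex_right] at h2
      exact (hj ▸ dvd_pow_self p (Nat.succ_ne_zero j)).trans h2
  refine ⟨le_antisymm (sup_le le_sup_left (hMV.trans le_sup_right)) (sup_le le_sup_left ?_), ?_⟩
  · exact hU.ge.trans (sup_le (inf_le_left.trans le_sup_left) le_sup_right)
  · have h1 : M.relIndex V = M.relIndex ((P : Subgroup G) ⊓ V) := by
      conv_lhs => rw [← hU]
      exact Subgroup.relIndex_sup_right (H := (P : Subgroup G) ⊓ V) (K := M)
    have h2 : ((P : Subgroup G) ⊓ M).relIndex ((P : Subgroup G) ⊓ V) = M.relIndex ((P : Subgroup G) ⊓ V) := by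
      rw [← Subgroup.inf_relIndex_right ((P : Subgroup G) ⊓ M), ← Subgroup.inf_relIndex_right M]
      congr 1
      ext x
      simp only [Subgroup.mem_inf]
      tauto
    rw [← card_mul_relIndex (inf_le_inf_left (P : Subgroup G) hMV), h2, ← h1, ← card_mul_relIndex hMV]
    ring

theorem coprime_factor (P : Sylow p G) {M V : Subgroup G} [M.Normal] (hMV : M ≤ V) (hr : (M.relIndex V).Coprime p) :
    (P : Subgroup G) ⊓ V ≤ M := by
  rw [← Subgroup.relIndex_eq_one]
  have hd : M.relIndex ((P : Subgroup G) ⊓ V) ∣ M.relIndex V := by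
    rw [← Subgroup.relIndex_sup_right (H := (P : Subgroup G) ⊓ V) (K := M)]
    exact Dvd.intro _ (Subgroup.relIndex_mul_relIndex M _ V le_sup_right (sup_le inf_le_right hMV))
  obtain ⟨j, hj⟩ : ∃ j, M.relIndex ((P : Subgroup G) ⊓ V) = p ^ j := (P.isPGroup'.to_le inf_le_left).index _
  have hc := Nat.Coprime.coprime_dvd_left hd hr
  rw [hj] at hc ⊢
  rcases j with _ | j
  · exact pow_zero p
  · exact absurd (Nat.coprime_comm.1 hc) ((Nat.Prime.coprime_iff_not_dvd hp.out).not.2 (not_not.2 (dvd_pow_self p (Nat.succ_ne_zero j))))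

/-- The elements conjugating `H` into `Q`. -/
def Into (H Q : Subgroup G) : Set G := {x | H.map (MulAut.conj x).toMonoidHom ≤ Q}

theorem step (P : Sylow p G) (H : Subgroup G) (hH : IsPGroup p H) {M V : Subgroup G} [M.Normal] [V.Normal]
    (hMV : M ≤ V) (hPV : (P : Subgroup G) ⊓ V ≤ M) :
    Nat.card (Into H ((P : Subgroup G) ⊔ V)) * Nat.card {u : G // u ∈ V ∧ ∀ h ∈ H, h * u * h⁻¹ * u⁻¹ ∈ M} =
      Nat.card (Into H ((P : Subgroup G) ⊔ M)) * Nat.card V := by
  set Q := (P : Subgroup G) ⊔ M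
  set C := {u : G // u ∈ V ∧ ∀ h ∈ H, h * u * h⁻¹ * u⁻¹ ∈ M}
  have hQV : ∀ v ∈ V, v ∈ Q → v ∈ M := by
    intro v hv hQ
    obtain ⟨a, ha, b, hb, rfl⟩ := Subgroup.mem_sup_of_normal_right.1 hQ
    refine mul_mem (hPV ⟨ha, ?_⟩) hb
    rw [show a = a * b * b⁻¹ by group]
    exact V.mul_mem hv (V.inv_mem (hMV hb))
  -- a correction for every element
  have hcorr : ∀ x : Into H ((P : Subgroup G) ⊔ V), ∃ v, v ∈ V ∧ v * x.1 ∈ Into H Q := by
    rintro ⟨x, hx⟩
    set R := (P : Subgroup G) ⊔ V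
    have hK : IsPGroup p (H.map (MulAut.conj x).toMonoidHom) := hH.map _
    obtain ⟨S, hS⟩ := (hK.comap_subtype (K := R)).exists_le_sylow
    let P' : Sylow p R := P.subtype le_sup_left
    obtain ⟨r, hr⟩ := MulAction.exists_smul_eq R S P'
    obtain ⟨a, ha, v, hv, hrv⟩ := Subgroup.mem_sup_of_normal_right.1 r.2
    refine ⟨v, hv, ?_⟩
    rintro _ ⟨h, hh, rfl⟩
    have hk : x * h * x⁻¹ ∈ R := hx ⟨h, hh, rfl⟩
    have h1 : (⟨x * h * x⁻¹, hk⟩ : R) ∈ S := hS ⟨h, hh, rfl⟩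
    have h2 : r * ⟨x * h * x⁻¹, hk⟩ * r⁻¹ ∈ (P' : Subgroup R) := by
      rw [← hr]
      exact ⟨_, h1, rfl⟩
    have h3 : (r : G) * (x * h * x⁻¹) * (r : G)⁻¹ ∈ (P : Subgroup G) := h2
    rw [← hrv] at h3
    refine (le_sup_left : (P : Subgroup G) ≤ Q) ?_
    show v * x * h * (v * x)⁻¹ ∈ (P : Subgroup G)
    rw [show v * x * h * (v * x)⁻¹ = a⁻¹ * (a * v * (x * h * x⁻¹) * (a * v)⁻¹) * a by group]
    exact mul_mem (mul_mem (inv_mem ha) h3) ha
  choose v hv hvx using hcorr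
  -- `C` transported by conjugation
  have hC : ∀ (z : Into H Q) (m : G), m ∈ V → (m * z.1 ∈ Into H Q ↔ z.1⁻¹ * m * z.1 ∈ V ∧ ∀ h ∈ H, h * (z.1⁻¹ * m * z.1) * h⁻¹ * (z.1⁻¹ * m * z.1)⁻¹ ∈ M) := by
    rintro ⟨z, hz⟩ m hm
    have hc : z⁻¹ * m * z ∈ V := by simpa using (inferInstance : V.Normal).conj_mem m hm z⁻¹
    constructor
    · intro h1
      refine ⟨hc, fun h hh => ?_⟩
      have hk : z * h * z⁻¹ ∈ Q := hz ⟨h, hh, rfl⟩
      have hk' : m * z * h * (m * z)⁻¹ ∈ Q := h1 ⟨h, hh, rfl⟩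
      have h2 : (z * h * z⁻¹) * (m * z * h * (m * z)⁻¹)⁻¹ ∈ M := by
        refine hQV _ ?_ (mul_mem hk (inv_mem hk'))
        rw [show (z * h * z⁻¹) * (m * z * h * (m * z)⁻¹)⁻¹ = (z * h * z⁻¹) * m * (z * h * z⁻¹)⁻¹ * m⁻¹ by group]
        exact mul_mem ((inferInstance : V.Normal).conj_mem m hm _) (inv_mem hm)
      have h3 := (inferInstance : M.Normal).conj_mem _ h2 z⁻¹
      convert h3 using 1
      group
    · rintro ⟨-, h1⟩
      rintro _ ⟨h, hh, rfl⟩
      show m * z * h * (m * z)⁻¹ ∈ Q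
      have h3 := (inferInstance : M.Normal).conj_mem _ (h1 h hh) z
      have h4 : (z * (h * (z⁻¹ * m * z) * h⁻¹ * (z⁻¹ * m * z)⁻¹) * z⁻¹)⁻¹ * (z * h * z⁻¹) ∈ Q :=
        mul_mem (inv_mem ((le_sup_right : M ≤ Q) h3)) (hz ⟨h, hh, rfl⟩)
      convert h4 using 1
      group
  -- the counting bijection
  rw [← Nat.card_prod, ← Nat.card_prod]
  have hsub : ∀ x : Into H ((P : Subgroup G) ⊔ V), ∀ c : C, v x * x.1 * c.1 ∈ Into H Q := fun x c => by
    have := (hC ⟨v x * x.1, hvx x⟩ (v x * x.1 * c.1 * (v x * x.1)⁻¹) ((inferInstance : V.Normal).conj_mem _ c.2.1 _)).2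
      (by rw [show (v x * x.1)⁻¹ * (v x * x.1 * c.1 * (v x * x.1)⁻¹) * (v x * x.1) = c.1 by group]; exact c.2)
    rwa [show v x * x.1 * c.1 * (v x * x.1)⁻¹ * (v x * x.1) = v x * x.1 * c.1 by group] at this
  have hback : ∀ z : Into H Q, ∀ w : V, (w : G)⁻¹ * z.1 ∈ Into H ((P : Subgroup G) ⊔ V) := fun z w => by
    rintro _ ⟨h, hh, rfl⟩
    show (w : G)⁻¹ * z.1 * h * ((w : G)⁻¹ * z.1)⁻¹ ∈ (P : Subgroup G) ⊔ V
    have h1 : z.1 * h * z.1⁻¹ ∈ (P : Subgroup G) ⊔ V := (sup_le_sup_left hMV _) (z.2 ⟨h, hh, rfl⟩)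
    rw [show (w : G)⁻¹ * z.1 * h * ((w : G)⁻¹ * z.1)⁻¹ = (w : G)⁻¹ * (z.1 * h * z.1⁻¹) * w by group]
    exact mul_mem (mul_mem (inv_mem ((le_sup_right : V ≤ _) w.2)) h1) ((le_sup_right : V ≤ _) w.2)
  refine Nat.card_congr
    { toFun := fun q => (⟨_, hsub q.1 q.2⟩, ⟨v q.1 * q.1.1 * q.2.1 * q.1.1⁻¹, ?_⟩)
      invFun := fun q => (⟨_, hback q.1 q.2⟩, ⟨(v ⟨_, hback q.1 q.2⟩ * ((q.2 : G)⁻¹ * q.1.1))⁻¹ * q.1.1, ?_⟩)
      left_inv := fun q => ?_
      right_inv := fun q => ?_ }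
  · rw [show v q.1 * q.1.1 * q.2.1 * q.1.1⁻¹ = v q.1 * (q.1.1 * q.2.1 * q.1.1⁻¹) by group]
    exact mul_mem (hv q.1) ((inferInstance : V.Normal).conj_mem _ q.2.2.1 _)
  · set x : Into H ((P : Subgroup G) ⊔ V) := ⟨_, hback q.1 q.2⟩
    have hm : q.1.1 * (v x * x.1)⁻¹ ∈ V := by
      rw [show q.1.1 * (v x * x.1)⁻¹ = q.1.1 * (v x * ((q.2 : G)⁻¹ * q.1.1))⁻¹ from rfl,
        show q.1.1 * (v x * ((q.2 : G)⁻¹ * q.1.1))⁻¹ = (q.2 : G) * (v x)⁻¹ by group]
      exact mul_mem q.2.2 (inv_mem (hv x))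
    have h := (hC ⟨v x * x.1, hvx x⟩ (q.1.1 * (v x * x.1)⁻¹) hm).1 (by rw [inv_mul_cancel_right]; exact q.1.2)
    rwa [show (v x * x.1)⁻¹ * (q.1.1 * (v x * x.1)⁻¹) * (v x * x.1) = (v x * ((q.2 : G)⁻¹ * q.1.1))⁻¹ * q.1.1 by
      show (v x * x.1)⁻¹ * (q.1.1 * (v x * x.1)⁻¹) * (v x * x.1) = (v x * x.1)⁻¹ * q.1.1
      group] at h
  · obtain ⟨x, c⟩ := q
    have e : (⟨(v x * x.1 * c.1 * x.1⁻¹)⁻¹ * (v x * x.1 * c.1), hback ⟨_, hsub x c⟩ ⟨_, by
        rw [show v x * x.1 * c.1 * x.1⁻¹ = v x * (x.1 * c.1 * x.1⁻¹) by group]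
        exact mul_mem (hv x) ((inferInstance : V.Normal).conj_mem _ c.2.1 _)⟩⟩ : Into H ((P : Subgroup G) ⊔ V)) = x :=
      Subtype.ext (show _ = x.1 by group)
    refine Prod.ext e (Subtype.ext ?_)
    simp only
    rw [e]
    group
  · obtain ⟨z, w⟩ := q
    refine Prod.ext (Subtype.ext ?_) (Subtype.ext ?_) <;> simp only <;> group

/-- Let G be a finite p-solvable group, H a p-subgroup of G and P a Sylow p-subgroup, and fix a chain of normal subgroups 1 = M₀ ≤ M₁ ≤ ⋯ ≤ Mₙ = G of G each of whose factors is a p-group or a p'-group. Then the number of elements g of G such that H is subnormal in the subgroup generated by H and g equals the order of P times the product, over the factors Mᵢ₊₁/Mᵢ of order prime to p, of the order of the centralizer of H in Mᵢ₊₁/Mᵢ (counted as the number of u ∈ Mᵢ₊₁ with [h, u] ∈ Mᵢ for all h ∈ H, divided by the order of Mᵢ). -/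
theorem result {G : Type*} [Group G] [Finite G] (p : ℕ) [Fact p.Prime]
    (hG : Cfsg.IsPSolvable p G) (H : Subgroup G) (hH : IsPGroup p H) (P : Sylow p G)
    (n : ℕ) (M : Fin (n + 1) → Subgroup G) (h0 : M 0 = ⊥) (hn : M (Fin.last n) = ⊤) (hmono : Monotone M)
    (hnormal : ∀ i, (M i).Normal)
    (hfac : ∀ i : Fin n, (∃ m : ℕ, (M i.castSucc).relIndex (M i.succ) = p ^ m) ∨ ((M i.castSucc).relIndex (M i.succ)).Coprime p) :
    Nat.card {g : G // ((H).subgroupOf (H ⊔ Subgroup.zpowers g)).IsSubnormal} =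
      Nat.card (P : Subgroup G) *
        ∏ i : Fin n, (if ((M i.castSucc).relIndex (M i.succ)).Coprime p then
          Nat.card {u : G // u ∈ M i.succ ∧ ∀ h ∈ H, h * u * h⁻¹ * u⁻¹ ∈ M i.castSucc} / Nat.card (M i.castSucc)
          else 1) := by

  classical
  have hle : ∀ i : Fin n, M i.castSucc ≤ M i.succ := fun i => hmono (le_of_lt (Fin.castSucc_lt_succ (i := i)))
  let c : Fin n → ℕ := fun i => if ((M i.castSucc).relIndex (M i.succ)).Coprime p then
      Nat.card {u : G // u ∈ M i.succ ∧ ∀ h ∈ H, h * u * h⁻¹ * u⁻¹ ∈ M i.castSucc} / Nat.card (M i.castSucc) else 1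
  suffices hmain : ∀ j : Fin (n + 1), Nat.card (Into H (P : Subgroup G)) * Nat.card (M j) =
      Nat.card (Into H ((P : Subgroup G) ⊔ M j)) * Nat.card ((P : Subgroup G) ⊓ M j : Subgroup G) *
        ∏ i ∈ Finset.univ.filter (fun i : Fin n => (i : ℕ) < j), c i by
    have h := hmain (Fin.last n)
    have hall : Finset.univ.filter (fun i : Fin n => (i : ℕ) < (Fin.last n : ℕ)) = Finset.univ := by
      simp
    have htop : Nat.card (Into H (⊤ : Subgroup G)) = Nat.card G :=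
      Nat.card_congr (Equiv.subtypeUnivEquiv fun x => show x ∈ Into H (⊤ : Subgroup G) from fun _ _ => Subgroup.mem_top _)
    rw [hn, sup_top_eq, inf_top_eq, htop, Subgroup.card_top, hall] at h
    rw [Transfer.Subnormalizer.card_subnormalizer H hH P, ← Transfer.Subnormalizer.card_conj_into_sylow]
    refine Nat.eq_of_mul_eq_mul_right Nat.card_pos (h.trans ?_)
    show _ * ∏ i, c i = _
    ring
  intro j
  induction j using Fin.induction with
  | zero =>
    rw [h0]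
    simp
  | succ i ih =>
    haveI := hnormal i.castSucc
    haveI := hnormal i.succ
    have hset : Finset.univ.filter (fun k : Fin n => (k : ℕ) < (i.succ : ℕ)) =
        insert i (Finset.univ.filter (fun k : Fin n => (k : ℕ) < (i.castSucc : ℕ))) := by
      ext k
      simp only [Finset.mem_filter, Finset.mem_univ, true_and, Finset.mem_insert, Fin.val_succ, Fin.val_castSucc, Fin.ext_iff]
      omega
    rw [hset, Finset.prod_insert (by simp)]
    rw [← card_mul_relIndex (hle i)]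
    by_cases hcop : ((M i.castSucc).relIndex (M i.succ)).Coprime p
    · have hPV := coprime_factor P (hle i) hcop
      have hst := step P H hH (hle i) hPV
      have hdvd : Nat.card (M i.castSucc) ∣ Nat.card {u : G // u ∈ M i.succ ∧ ∀ h ∈ H, h * u * h⁻¹ * u⁻¹ ∈ M i.castSucc} := by
        let U : Subgroup G :=
          { carrier := {u | u ∈ M i.succ ∧ ∀ h ∈ H, h * u * h⁻¹ * u⁻¹ ∈ M i.castSucc}
            one_mem' := ⟨one_mem _, fun h _ => by simp⟩
            mul_mem' := fun {a b} ha hb => ⟨mul_mem ha.1 hb.1, fun h hh => by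
              rw [show h * (a * b) * h⁻¹ * (a * b)⁻¹ = (h * a * h⁻¹ * a⁻¹) * (a * (h * b * h⁻¹ * b⁻¹) * a⁻¹) by group]
              exact mul_mem (ha.2 h hh) ((hnormal i.castSucc).conj_mem _ (hb.2 h hh) a)⟩
            inv_mem' := fun {a} ha => ⟨inv_mem ha.1, fun h hh => by
              rw [show h * a⁻¹ * h⁻¹ * a⁻¹⁻¹ = a⁻¹ * (h * a * h⁻¹ * a⁻¹)⁻¹ * a⁻¹⁻¹ by group]
              exact (hnormal i.castSucc).conj_mem _ (inv_mem (ha.2 h hh)) _⟩ }
        exact Subgroup.card_dvd_of_le (K := U) fun m hm => ⟨hle i hm, fun h _ => mul_mem ((hnormal i.castSucc).conj_mem m hm h) (inv_mem hm)⟩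
      have hinf : (P : Subgroup G) ⊓ M i.succ = (P : Subgroup G) ⊓ M i.castSucc :=
        le_antisymm (le_inf inf_le_left hPV) (inf_le_inf_left _ (hle i))
      have hci : c i * Nat.card (M i.castSucc) = Nat.card {u : G // u ∈ M i.succ ∧ ∀ h ∈ H, h * u * h⁻¹ * u⁻¹ ∈ M i.castSucc} := by
        simp only [c, if_pos hcop]
        exact Nat.div_mul_cancel hdvd
      rw [← card_mul_relIndex (hle i), ← hci] at hst
      rw [hinf]
      have hst' : Nat.card (Into H ((P : Subgroup G) ⊔ M i.succ)) * c i =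
          Nat.card (Into H ((P : Subgroup G) ⊔ M i.castSucc)) * (M i.castSucc).relIndex (M i.succ) :=
        Nat.eq_of_mul_eq_mul_right (Nat.card_pos (α := M i.castSucc)) (by linarith [hst])
      linear_combination (M i.castSucc).relIndex (M i.succ) * ih - (Nat.card ((P : Subgroup G) ⊓ M i.castSucc : Subgroup G) *
        ∏ k ∈ Finset.univ.filter (fun k : Fin n => (k : ℕ) < (i.castSucc : ℕ)), c k) * hst'
    · obtain ⟨m, hm⟩ := (hfac i).resolve_right hcop
      obtain ⟨hsup, hc⟩ := pfactor P (hle i) hm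
      have hci : c i = 1 := by simp only [c, if_neg hcop]
      rw [hci, one_mul, ← hsup]
      rw [← card_mul_relIndex (hle i)] at hc
      have hc' : Nat.card ((P : Subgroup G) ⊓ M i.succ : Subgroup G) =
          Nat.card ((P : Subgroup G) ⊓ M i.castSucc : Subgroup G) * (M i.castSucc).relIndex (M i.succ) :=
        Nat.eq_of_mul_eq_mul_right (Nat.card_pos (α := M i.castSucc)) (by linarith [hc])
      rw [hc']
      linear_combination (M i.castSucc).relIndex (M i.succ) * ih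

end Cfsg.Agent.S4090
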