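import Cfsg.Statements.S4091
import Mathlib
import Cfsg.Agent.Lib.Transfer.Subnormalizer
import Cfsg.Agent.Lib.Transfer.CentralizerProduct
import Cfsg.Agent.S4090

set_option maxHeartbeats 1000000
set_option maxRecDepth 8000

set_option autoImplicit false
open Cfsg

namespace Cfsg.Agent.S4091

open Cfsg.Agent Finset

variable {G : Type*} [Group G] [Finite G]

/-- The centraliser factor of `S` in `V / M`. -/
noncomputable def cfac (p : ℕ) (S : Subgroup G) (M V : Subgroup G) : ℕ :=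
  if (M.relIndex V).Coprime p then Nat.card {u : G // u ∈ V ∧ ∀ h ∈ S, h * u * h⁻¹ * u⁻¹ ∈ M} / Nat.card M else 1

theorem card_div (S M V : Subgroup G) [M.Normal] (hMV : M ≤ V) :
    Nat.card {u : G // u ∈ V ∧ ∀ h ∈ S, h * u * h⁻¹ * u⁻¹ ∈ M} / Nat.card M =
      Nat.card ↥(V.map (QuotientGroup.mk' M) ⊓ Subgroup.centralizer (S.map (QuotientGroup.mk' M) : Set (G ⧸ M))) := by
  set π := QuotientGroup.mk' M
  set W := V.map π ⊓ Subgroup.centralizer (S.map π : Set (G ⧸ M))
  have hker : ∀ u, π u = 1 ↔ u ∈ M := fun u => QuotientGroup.eq_one_iff u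
  have hU : ∀ u, u ∈ W.comap π ↔ u ∈ V ∧ ∀ h ∈ S, h * u * h⁻¹ * u⁻¹ ∈ M := by
    intro u
    rw [Subgroup.mem_comap, Subgroup.mem_inf]
    refine and_congr ?_ ?_
    · have h : u ∈ (V.map π).comap π ↔ u ∈ V := by rw [Subgroup.comap_map_eq, QuotientGroup.ker_mk', sup_of_le_left hMV]
      exact h
    · constructor
      · intro hc h hh
        rw [← hker, map_mul, map_mul, map_mul, map_inv, map_inv, Subgroup.mem_centralizer_iff.1 hc _ ⟨h, hh, rfl⟩]
        group
      · intro hc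
        refine Subgroup.mem_centralizer_iff.2 ?_
        rintro _ ⟨h, hh, rfl⟩
        have := (hker _).2 (hc h hh)
        rw [map_mul, map_mul, map_mul, map_inv, map_inv] at this
        exact mul_inv_eq_iff_eq_mul.1 (mul_inv_eq_one.1 this)
  have e : Nat.card {u : G // u ∈ V ∧ ∀ h ∈ S, h * u * h⁻¹ * u⁻¹ ∈ M} = Nat.card (W.comap π) :=
    Nat.card_congr (Equiv.subtypeEquivRight fun u => (hU u).symm)
  have hle : M ≤ W.comap π := fun m hm => by
    rw [Subgroup.mem_comap, (hker m).2 hm]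
    exact one_mem _
  rw [e, ← Grp.SameOrder.card_map_mk M (W.comap π), inf_of_le_left hle,
    Subgroup.map_comap_eq_self_of_surjective (QuotientGroup.mk'_surjective M), Nat.mul_div_cancel _ Nat.card_pos]

theorem factor_ineq (p : ℕ) [Fact p.Prime] (P : Subgroup G) [Fintype P] (hP : IsPGroup p P) (M V : Subgroup G)
    [M.Normal] [V.Normal] (hMV : M ≤ V) :
    (∏ x : P, cfac p (Subgroup.zpowers (x : G)) M V) ^ p * cfac p P M V ^ Nat.card P ≤
      cfac p ⊥ M V ^ Nat.card P * cfac p P M V ^ (p * Nat.card P) := by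
  classical
  by_cases hc : (M.relIndex V).Coprime p
  swap
  · simp [cfac, hc]
  simp only [cfac, if_pos hc, card_div _ M V hMV]
  set π := QuotientGroup.mk' M
  set V' := V.map π
  set P' := P.map π
  letI : Fintype P' := Fintype.ofFinite _
  have hV' : Nat.card V' = M.relIndex V := by
    have h1 := Grp.SameOrder.card_map_mk M V
    rw [inf_of_le_left hMV] at h1
    have h2 := Subgroup.relIndex_mul_relIndex ⊥ M V bot_le hMV
    rw [Subgroup.relIndex_bot_left, Subgroup.relIndex_bot_left] at h2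
    refine Nat.eq_of_mul_eq_mul_right (Nat.card_pos (α := M)) ?_
    rw [h1, ← h2, mul_comm]
  haveI : V'.Normal := Subgroup.Normal.map inferInstance _ (QuotientGroup.mk'_surjective M)
  have hI := Transfer.CentProd.ineq_general V' P' (by rw [Subgroup.normalizer_eq_top V']; exact le_top) (hP.map π) (hV' ▸ hc)
  have hI' := hI
  -- fibres of the projection
  let e : P → P' := fun x => ⟨π x, x, x.2, rfl⟩
  let k := Nat.card ↥(M ⊓ P)
  have hk : Nat.card P = Nat.card P' * k := (Grp.SameOrder.card_map_mk M P).symm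
  have hprod : ∏ x : P, Nat.card ↥(V' ⊓ Subgroup.centralizer ((Subgroup.zpowers (x : G)).map π : Set (G ⧸ M))) =
      (∏ y : P', Nat.card ↥(V' ⊓ Subgroup.centralizer (Subgroup.zpowers (y : G ⧸ M) : Set (G ⧸ M)))) ^ k := by
    rw [← prod_pow, ← Fintype.prod_fiberwise e]
    refine prod_congr rfl fun y _ => ?_
    obtain ⟨_, x, hx, rfl⟩ := y
    rw [prod_congr rfl (fun b _ => by
      rw [MonoidHom.map_zpowers, show π (b.1 : G) = π x from congrArg Subtype.val b.2] :
      ∀ b ∈ (univ : Finset {b : P // e b = ⟨π x, x, hx, rfl⟩}), _ = Nat.card ↥(V' ⊓ Subgroup.centralizer (Subgroup.zpowers (π x) : Set (G ⧸ M)))),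
      prod_const, card_univ, ← Nat.card_eq_fintype_card]
    congr 1
    exact Nat.card_congr
      { toFun := fun b => ⟨x⁻¹ * b.1, Subgroup.mem_inf.2 ⟨QuotientGroup.eq.1 (congrArg Subtype.val b.2).symm, mul_mem (inv_mem hx) b.1.2⟩⟩
        invFun := fun w => ⟨⟨x * w.1, mul_mem hx w.2.2⟩, Subtype.ext (by
          show π (x * w.1) = π x
          rw [map_mul, (show π w.1 = 1 from (QuotientGroup.eq_one_iff _).2 w.2.1), mul_one])⟩
        left_inv := fun b => Subtype.ext (Subtype.ext (mul_inv_cancel_left x _))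
        right_inv := fun w => Subtype.ext (inv_mul_cancel_left x _) }
  have hbot : Subgroup.centralizer (((⊥ : Subgroup G).map π : Subgroup (G ⧸ M)) : Set (G ⧸ M)) = ⊤ :=
    top_unique fun v _ => Subgroup.mem_centralizer_iff.2 fun b hb => by
      rw [Subgroup.map_bot, SetLike.mem_coe, Subgroup.mem_bot] at hb
      rw [hb, one_mul, mul_one]
  rw [hprod, hbot, inf_top_eq, hk]
  refine le_trans (le_of_eq ?_) (le_trans (Nat.pow_le_pow_left hI' k) (le_of_eq ?_))
  · rw [mul_pow, ← pow_mul, ← pow_mul, ← pow_mul, mul_comm p k]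
  · rw [mul_pow, ← pow_mul, ← pow_mul, mul_assoc p]

theorem lam_conj {p : ℕ} [Fact p.Prime] (g x : G) :
    Nat.card {Q : Sylow p G // g * x * g⁻¹ ∈ Q} = Nat.card {Q : Sylow p G // x ∈ Q} :=
  Nat.card_congr ((MulAction.toPerm g⁻¹).subtypeEquiv fun Q => by
    show g * x * g⁻¹ ∈ (Q : Subgroup G) ↔ x ∈ ((g⁻¹ • Q : Sylow p G) : Subgroup G)
    rw [Sylow.coe_subgroup_smul, Subgroup.mem_pointwise_smul_iff_inv_smul_mem]
    simp [MulAut.smul_def, mul_assoc])

theorem card_pelements (p : ℕ) [Fact p.Prime] (P : Sylow p G) [Fintype (P : Subgroup G)] :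
    (Nat.card {g : G // ∃ k : ℕ, orderOf g = p ^ k} : ℝ) =
      Nat.card (Sylow p G) * ∑ x : (P : Subgroup G), (Nat.card {Q : Sylow p G // (x : G) ∈ Q} : ℝ)⁻¹ := by
  classical
  letI := Fintype.ofFinite G
  letI := Fintype.ofFinite (Sylow p G)
  let lam : G → ℕ := fun x => Nat.card {Q : Sylow p G // x ∈ Q}
  have hpos : ∀ x, (∃ k : ℕ, orderOf x = p ^ k) → 0 < lam x := fun x ⟨k, hk⟩ => by
    obtain ⟨Q, hQ⟩ := (IsPGroup.of_card (n := k) (show Nat.card (Subgroup.zpowers x) = p ^ k by rw [Nat.card_zpowers, hk])).exists_le_sylow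
    haveI : Nonempty {Q : Sylow p G // x ∈ Q} := ⟨⟨Q, hQ (Subgroup.mem_zpowers x)⟩⟩
    exact Nat.card_pos
  have hstep : ∀ Q : Sylow p G, ∑ x ∈ univ.filter (fun x : G => x ∈ Q), (lam x : ℝ)⁻¹ =
      ∑ x : (P : Subgroup G), (lam (x : G) : ℝ)⁻¹ := by
    intro Q
    obtain ⟨g, rfl⟩ := MulAction.exists_smul_eq G P Q
    refine (sum_bij (fun (x : (P : Subgroup G)) _ => g * x * g⁻¹) (fun x _ => ?_) (fun a _ b _ h => ?_) (fun y hy => ?_) (fun x _ => ?_)).symm
    · simp only [mem_filter, mem_univ, true_and]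
      exact ⟨x, x.2, rfl⟩
    · exact Subtype.ext (mul_left_cancel (mul_right_cancel h))
    · simp only [mem_filter, mem_univ, true_and] at hy
      obtain ⟨v, hv, rfl⟩ := hy
      exact ⟨⟨v, hv⟩, mem_univ _, rfl⟩
    · show (lam (x : G) : ℝ)⁻¹ = (lam (g * x * g⁻¹) : ℝ)⁻¹
      rw [show lam (g * x * g⁻¹) = lam (x : G) from lam_conj g _]
  have h1 : ∑ Q : Sylow p G, ∑ x ∈ univ.filter (fun x : G => x ∈ Q), (lam x : ℝ)⁻¹ =
      ∑ x ∈ univ.filter (fun x : G => ∃ k : ℕ, orderOf x = p ^ k), (1 : ℝ) := by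
    rw [sum_comm' (t' := univ.filter (fun x : G => ∃ k : ℕ, orderOf x = p ^ k)) (s' := fun x => univ.filter (fun Q : Sylow p G => x ∈ Q))
      (fun Q x => by
        simp only [mem_filter, mem_univ, true_and]
        refine ⟨fun h => ⟨h, ?_⟩, fun h => h.1⟩
        obtain ⟨k, hk⟩ := IsPGroup.iff_orderOf.1 Q.isPGroup' ⟨x, h⟩
        exact ⟨k, by rwa [← Subgroup.orderOf_coe] at hk⟩)]
    refine sum_congr rfl fun x hx => ?_
    simp only [mem_filter, mem_univ, true_and] at hx
    rw [sum_const, nsmul_eq_mul, ← Fintype.card_subtype, ← Nat.card_eq_fintype_card]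
    exact mul_inv_cancel₀ (Nat.cast_ne_zero.2 (hpos x hx).ne')
  rw [sum_congr rfl (fun Q _ => hstep Q), sum_const, sum_const, card_univ, nsmul_eq_mul, nsmul_eq_mul, mul_one] at h1
  rw [Nat.card_eq_fintype_card, Fintype.card_subtype, ← h1, Nat.card_eq_fintype_card]

/-- Let G be a finite p-solvable group, P a Sylow p-subgroup of G, u the number of p-elements of G (elements of p-power order, the identity included) and n the number of Sylow p-subgroups of G. Then u/#P ≥ n^((p−1)/p), stated as u^p ≥ #P^p · n^(p−1). -/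
theorem result {G : Type*} [Group G] [Finite G] (p : ℕ) [Fact p.Prime]
    (hG : Cfsg.IsPSolvable p G) (P : Sylow p G) :
    Nat.card (P : Subgroup G) ^ p * Nat.card (Sylow p G) ^ (p - 1) ≤ Nat.card {g : G // ∃ k : ℕ, orderOf g = p ^ k} ^ p := by

  classical
  obtain ⟨m, M, h0, hm, hmono, hnormal, hfac⟩ := hG
  letI := Fintype.ofFinite G
  have hle : ∀ i : Fin m, M i.castSucc ≤ M i.succ := fun i => hmono (le_of_lt (Fin.castSucc_lt_succ (i := i)))
  let c : Subgroup G → Fin m → ℕ := fun S i => cfac p S (M i.castSucc) (M i.succ)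
  let lam : Subgroup G → ℕ := fun S => Nat.card {Q : Sylow p G // S ≤ (Q : Subgroup G)}
  let NP := Nat.card (Subgroup.normalizer ((P : Subgroup G) : Set G))
  have hform : ∀ S : Subgroup G, IsPGroup p S → lam S * NP = Nat.card (P : Subgroup G) * ∏ i, c S i := fun S hS => by
    rw [← Transfer.Subnormalizer.card_subnormalizer S hS P]
    exact S4090.result p ⟨m, M, h0, hm, hmono, hnormal, hfac⟩ S hS P m M h0 hm hmono hnormal hfac
  have hlamP : lam P = 1 := by
    show Nat.card {Q : Sylow p G // (P : Subgroup G) ≤ (Q : Subgroup G)} = 1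
    refine Nat.card_eq_one_iff_unique.2 ⟨⟨fun a b => Subtype.ext (Sylow.ext ?_)⟩, ⟨⟨P, le_rfl⟩⟩⟩
    exact (P.is_maximal' a.1.isPGroup' a.2).trans (P.is_maximal' b.1.isPGroup' b.2).symm
  have hlam0 : lam ⊥ = Nat.card (Sylow p G) := Nat.card_congr (Equiv.subtypeUnivEquiv fun Q => bot_le)
  have hP := hform P P.isPGroup'
  rw [hlamP, one_mul] at hP
  have hN0 : 0 < Nat.card (P : Subgroup G) := Nat.card_pos
  have hcP : 0 < ∏ i, c P i := by
    rcases Nat.eq_zero_or_pos (∏ i, c P i) with h | h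
    · rw [h, mul_zero] at hP
      exact absurd hP Nat.card_pos.ne'
    · exact h
  have hrel : ∀ S : Subgroup G, IsPGroup p S → lam S * ∏ i, c P i = ∏ i, c S i := fun S hS => by
    have h := hform S hS
    rw [hP] at h
    refine Nat.eq_of_mul_eq_mul_left hN0 (Eq.trans ?_ h)
    ring
  have hbot := hrel ⊥ IsPGroup.of_bot
  rw [hlam0] at hbot
  have hineq : (∏ x : (P : Subgroup G), ∏ i, c (Subgroup.zpowers (x : G)) i) ^ p * (∏ i, c P i) ^ Nat.card (P : Subgroup G) ≤
      (∏ i, c ⊥ i) ^ Nat.card (P : Subgroup G) * (∏ i, c P i) ^ (p * Nat.card (P : Subgroup G)) := by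
    rw [prod_comm, ← prod_pow, ← prod_pow, ← prod_pow, ← prod_pow, ← prod_mul_distrib, ← prod_mul_distrib]
    refine prod_le_prod' fun i _ => ?_
    haveI := hnormal i.castSucc
    haveI := hnormal i.succ
    exact factor_ineq p P P.isPGroup' _ _ (hle i)
  have hzp : ∀ x : (P : Subgroup G), ∏ i, c (Subgroup.zpowers (x : G)) i = lam (Subgroup.zpowers (x : G)) * ∏ i, c P i := fun x =>
    (hrel _ (P.isPGroup'.to_le (Subgroup.zpowers_le.2 x.2))).symm
  rw [prod_congr rfl (fun x _ => hzp x), prod_mul_distrib, prod_const, card_univ, ← Nat.card_eq_fintype_card, ← hbot] at hineq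
  have hgeo : (∏ x : (P : Subgroup G), lam (Subgroup.zpowers (x : G))) ^ p ≤ Nat.card (Sylow p G) ^ Nat.card (P : Subgroup G) := by
    refine Nat.le_of_mul_le_mul_right (?_ : _ * ((∏ i, c P i) ^ (p * Nat.card (P : Subgroup G)) * (∏ i, c P i) ^ Nat.card (P : Subgroup G)) ≤ _ * _) (Nat.mul_pos (pow_pos hcP _) (pow_pos hcP _))
    refine le_trans (le_of_eq ?_) (hineq.trans (le_of_eq ?_))
    · ring
    · ring
  have hlx : ∀ x : (P : Subgroup G), lam (Subgroup.zpowers (x : G)) = Nat.card {Q : Sylow p G // (x : G) ∈ Q} := fun x =>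
    Nat.card_congr (Equiv.subtypeEquivRight fun Q => Subgroup.zpowers_le)
  rw [prod_congr rfl (fun x _ => hlx x)] at hgeo
  -- the mean inequality
  set N := Nat.card (P : Subgroup G) with hNdef
  set n := Nat.card (Sylow p G) with hndef
  have hn0 : (0 : ℝ) < n := Nat.cast_pos.2 Nat.card_pos
  have hNR : (0 : ℝ) < N := Nat.cast_pos.2 hN0
  set u : ℝ := (Nat.card {g : G // ∃ k : ℕ, orderOf g = p ^ k} : ℝ) with hu
  have hsum := card_pelements p P
  set z : ↥(P : Subgroup G) → ℝ := fun x => (Nat.card {Q : Sylow p G // (x : G) ∈ Q} : ℝ)⁻¹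
  have hz : ∀ x, 0 < z x := fun x => by
    haveI : Nonempty {Q : Sylow p G // (x : G) ∈ Q} := ⟨⟨P, x.2⟩⟩
    exact inv_pos.2 (Nat.cast_pos.2 Nat.card_pos)
  have hAG := Real.geom_mean_le_arith_mean (univ : Finset (P : Subgroup G)) (fun _ => 1) z (fun _ _ => zero_le_one)
    (by simp [Fintype.card_pos]) (fun x _ => (hz x).le)
  simp only [Real.rpow_one, one_mul, sum_const, card_univ, nsmul_eq_mul, mul_one, ← Nat.card_eq_fintype_card] at hAG
  have hprod0 : 0 ≤ ∏ x, z x := prod_nonneg fun x _ => (hz x).le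
  have hAG' : ∏ x, z x ≤ ((∑ x, z x) / N) ^ N := by
    refine le_trans (le_of_eq ?_) (pow_le_pow_left₀ (Real.rpow_nonneg hprod0 _) hAG N)
    rw [Real.rpow_inv_natCast_pow hprod0 hN0.ne']
  have hz1 : ((n : ℝ) ^ N)⁻¹ ≤ (∏ x, z x) ^ p := by
    simp only [z, prod_inv_distrib, inv_pow]
    refine inv_anti₀ (pow_pos (prod_pos fun x _ => ?_) p) (by exact_mod_cast hgeo)
    haveI : Nonempty {Q : Sylow p G // (x : G) ∈ Q} := ⟨⟨P, x.2⟩⟩
    exact Nat.cast_pos.2 Nat.card_pos
  have hsum' : (∑ x, z x) / N = u / (n * N) := by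
    rw [hu, hsum]
    field_simp
    rfl
  rw [hsum'] at hAG'
  have hu0 : 0 ≤ u := Nat.cast_nonneg _
  have h2 : ((n : ℝ)⁻¹) ^ N ≤ ((u / (n * N)) ^ p) ^ N := by
    rw [inv_pow, ← pow_mul, mul_comm p N, pow_mul]
    exact hz1.trans (pow_le_pow_left₀ hprod0 hAG' p)
  have h3 := (pow_le_pow_iff_left₀ (inv_nonneg.2 hn0.le) (pow_nonneg (div_nonneg hu0 (mul_pos hn0 hNR).le) p) hN0.ne').1 h2
  have h4 : (N : ℝ) ^ p * (n : ℝ) ^ (p - 1) ≤ u ^ p := by
    rw [div_pow, le_div_iff₀ (pow_pos (mul_pos hn0 hNR) p), mul_pow] at h3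
    refine le_trans (le_of_eq ?_) h3
    have hp1 : p = (p - 1) + 1 := (Nat.sub_add_cancel (Fact.out (p := p.Prime)).one_le).symm
    conv_rhs => rw [hp1, pow_succ (n : ℝ)]
    rw [← hp1]
    field_simp
  rw [hu] at h4
  exact_mod_cast h4

end Cfsg.Agent.S4091
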