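import Cfsg.Statements.S4092
import Mathlib
import Cfsg.Agent.Lib.Transfer.SylowNumber

set_option maxHeartbeats 1000000
set_option maxRecDepth 8000

set_option autoImplicit false
open Cfsg
open scoped Pointwise

namespace Cfsg.Agent.S4092

/-- Let G be a finite group, p a prime and P a Sylow p-subgroup of G that is not normal in G. Then G has at least p·#P elements of p-power order (the identity included). -/
theorem result {G : Type*} [Group G] [Finite G] (p : ℕ) [Fact p.Prime]
    (P : Sylow p G) (hP : ¬ (P : Subgroup G).Normal) :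
    p * Nat.card (P : Subgroup G) ≤ Nat.card {g : G // ∃ k : ℕ, orderOf g = p ^ k} := by
  classical
  have : Fintype G := Fintype.ofFinite _
  have : Fintype (Sylow p G) := Fintype.ofFinite _
  have hex : ∃ Q : Sylow p G, Q ≠ P := by
    by_contra h
    push Not at h
    apply hP
    rw [← Subgroup.normalizer_eq_top_iff, eq_top_iff]
    intro g _
    exact Sylow.smul_eq_iff_mem_normalizer.1 (h (g • P))
  obtain ⟨Q₀, hQ₀⟩ := hex
  set S : Finset (Sylow p G × Sylow p G) := Finset.univ.filter fun z => z.1 ≠ z.2 with hS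
  obtain ⟨⟨A, B⟩, hAB, hmax⟩ := S.exists_max_image
    (fun z => Nat.card ↥((z.1 : Subgroup G) ⊓ z.2)) ⟨(P, Q₀), by simp [hS, hQ₀.symm]⟩
  simp only [hS, Finset.mem_filter, Finset.mem_univ, true_and] at hAB hmax
  set D := (A : Subgroup G) ⊓ B with hD
  set A₁ := (A : Subgroup G) ⊓ Subgroup.normalizer (D : Set G) with hA₁
  have hDA : D ≤ (A : Subgroup G) := inf_le_left
  have hlt : D.subgroupOf (A : Subgroup G) < ⊤ := by
    rw [lt_top_iff_ne_top]
    intro he
    have h1 : (A : Subgroup G) ≤ B := (Subgroup.subgroupOf_eq_top.1 he).trans inf_le_right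
    exact hAB (Sylow.ext (A.3 B.isPGroup' h1).symm)
  obtain ⟨s, hs, hsD⟩ := SetLike.exists_of_lt
    ((@Group.normalizerCondition_of_isNilpotent _ _ A.isPGroup'.isNilpotent) _ hlt)
  rw [← Subgroup.subgroupOf_normalizer_eq hDA] at hs
  set L : Set (Sylow p G) := MulAction.orbit A₁ B with hL
  have hDX : ∀ X ∈ L, D ≤ (X : Subgroup G) := by
    rintro X ⟨x, rfl⟩ z hz
    show z ∈ (((x : G) • B : Sylow p G) : Subgroup G)
    rw [Sylow.coe_subgroup_smul, Subgroup.mem_pointwise_smul_iff_inv_smul_mem]
    have h1 := (Subgroup.mem_normalizer_iff.1 (inv_mem x.2.2) z).1 hz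
    rw [inv_inv] at h1
    have h2 : (x : G)⁻¹ * z * x ∈ (B : Subgroup G) := h1.2
    show (MulAut.conj (x : G))⁻¹ • z ∈ (B : Subgroup G)
    rw [MulAut.smul_def, MulAut.conj_inv_apply]
    exact h2
  have hpL : p ≤ L.ncard := by
    rw [hL, ← MulAction.index_stabilizer]
    obtain ⟨k, hk⟩ := (A.isPGroup'.to_le (inf_le_left : A₁ ≤ _)).index (MulAction.stabilizer A₁ B)
    rw [hk]
    rcases Nat.eq_zero_or_pos k with rfl | hk0
    · rw [pow_zero, Subgroup.index_eq_one] at hk
      exfalso
      have h1 : (⟨(s : G), s.2, hs⟩ : A₁) ∈ MulAction.stabilizer A₁ B := hk ▸ Subgroup.mem_top _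
      rw [MulAction.mem_stabilizer_iff] at h1
      have h2 : ((s : G) : G) • B = B := h1
      exact hsD (Subgroup.mem_subgroupOf.2 ⟨s.2, Cfsg.Agent.Transfer.mem_sylow_of_smul_eq B A.isPGroup' s.2 h2⟩)
    · exact Nat.le_self_pow hk0.ne' p
  set F : Finset (Sylow p G) := insert A L.toFinset with hF
  have hDF : ∀ X ∈ F, D ≤ (X : Subgroup G) := by
    intro X hX
    rcases Finset.mem_insert.1 hX with rfl | hX
    · exact hDA
    · exact hDX X (Set.mem_toFinset.1 hX)
  have hAL : A ∉ L.toFinset := by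
    intro h
    obtain ⟨x, hx⟩ := Set.mem_toFinset.1 h
    have hx' : (x : G) • B = A := hx
    exact hAB (MulAction.injective (x : G) (hx'.trans (Cfsg.Agent.Transfer.smul_sylow_self A x.2.1).symm)).symm
  have hFc : p + 1 ≤ F.card := by
    rw [hF, Finset.card_insert_of_notMem hAL, Set.toFinset_card, ← Nat.card_eq_fintype_card, Nat.card_coe_set_eq]
    omega
  let W : Sylow p G → Finset G := fun X => Finset.univ.filter fun g => g ∈ (X : Subgroup G) ∧ g ∉ D
  have hW : ∀ X ∈ F, (W X).card + Nat.card D = Nat.card (P : Subgroup G) := by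
    intro X hX
    have e1 : W X = (Finset.univ.filter fun g => g ∈ (X : Subgroup G)) \ (Finset.univ.filter fun g => g ∈ D) := by
      ext g; simp [W]
    have hsub : (Finset.univ.filter fun g => g ∈ D) ⊆ Finset.univ.filter fun g => g ∈ (X : Subgroup G) := by
      intro g hg
      simp only [Finset.mem_filter, Finset.mem_univ, true_and] at hg ⊢
      exact hDF X hX hg
    have hcD : Nat.card D = (Finset.univ.filter fun g => g ∈ D).card := by
      rw [← Fintype.card_subtype, Nat.card_eq_fintype_card]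
    rw [e1, hcD, Finset.card_sdiff_add_card_eq_card hsub, ← Fintype.card_subtype, P.card_eq_multiplicity,
      ← X.card_eq_multiplicity, Nat.card_eq_fintype_card]
  have hdis : (F : Set (Sylow p G)).PairwiseDisjoint W := by
    intro X hX Y hY hXY
    rw [Function.onFun, Finset.disjoint_left]
    intro g hg hg'
    simp only [W, Finset.mem_filter, Finset.mem_univ, true_and] at hg hg'
    have he : D = (X : Subgroup G) ⊓ Y :=
      Subgroup.eq_of_le_of_card_ge (le_inf (hDF X hX) (hDF Y hY)) (hmax (X, Y) hXY)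
    exact hg.2 (he ▸ ⟨hg.1, hg'.1⟩)
  set E : Finset G := Finset.univ.filter fun g => ∃ k : ℕ, orderOf g = p ^ k with hE
  have hsubE : F.biUnion W ∪ (Finset.univ.filter fun g => g ∈ D) ⊆ E := by
    intro g hg
    rw [hE, Finset.mem_filter]
    refine ⟨Finset.mem_univ _, ?_⟩
    have hgA : ∀ X : Sylow p G, g ∈ (X : Subgroup G) → ∃ k : ℕ, orderOf g = p ^ k := fun X hgX => by
      obtain ⟨k, hk⟩ := IsPGroup.iff_orderOf.1 X.isPGroup' ⟨g, hgX⟩
      exact ⟨k, by rw [← hk]; exact Subgroup.orderOf_coe (⟨g, hgX⟩ : (X : Subgroup G))⟩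
    rcases Finset.mem_union.1 hg with hg | hg
    · obtain ⟨X, -, hg⟩ := Finset.mem_biUnion.1 hg
      exact hgA X (Finset.mem_filter.1 hg).2.1
    · exact hgA A (hDA (Finset.mem_filter.1 hg).2)
  have hd2 : Disjoint (F.biUnion W) (Finset.univ.filter fun g => g ∈ D) := by
    rw [Finset.disjoint_left]
    intro g hg hg'
    obtain ⟨X, -, hg⟩ := Finset.mem_biUnion.1 hg
    exact (Finset.mem_filter.1 hg).2.2 (Finset.mem_filter.1 hg').2
  have hcount := Finset.card_le_card hsubE
  rw [Finset.card_union_of_disjoint hd2, Finset.card_biUnion hdis, ← Fintype.card_subtype,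
    ← Nat.card_eq_fintype_card] at hcount
  have hEc : E.card = Nat.card {g : G // ∃ k : ℕ, orderOf g = p ^ k} := by
    rw [Nat.card_eq_fintype_card, Fintype.card_subtype]
  have hDp : p * Nat.card D ≤ Nat.card (P : Subgroup G) := by
    obtain ⟨k, hk⟩ := A.isPGroup'.index (D.subgroupOf (A : Subgroup G))
    have h1 := (D.subgroupOf (A : Subgroup G)).card_mul_index
    rw [Nat.card_congr (Subgroup.subgroupOfEquivOfLe hDA).toEquiv, hk, A.card_eq_multiplicity,
      ← P.card_eq_multiplicity] at h1
    rw [← h1, mul_comm]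
    refine Nat.mul_le_mul_left _ ?_
    rcases Nat.eq_zero_or_pos k with rfl | hk0
    · rw [pow_zero, Subgroup.index_eq_one] at hk
      exact absurd hk hlt.ne
    · exact Nat.le_self_pow hk0.ne' p
  have hsum : F.sum (fun X => (W X).card) + F.card * Nat.card D = F.card * Nat.card (P : Subgroup G) := by
    rw [← smul_eq_mul, ← Finset.sum_const, ← Finset.sum_add_distrib, Finset.sum_congr rfl hW, Finset.sum_const]
    rfl
  rw [← hEc]
  set dc := Nat.card D
  set pc := Nat.card (P : Subgroup G)
  have h2 := Nat.mul_le_mul_right (pc - dc) hFc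
  have hp2 := (Fact.out : p.Prime).two_le
  have hle : dc ≤ pc := le_trans (Nat.le_mul_of_pos_left _ (by omega)) hDp
  have e1 : F.sum (fun X => (W X).card) = F.card * (pc - dc) := by
    rw [Nat.mul_sub]; omega
  have e2 : (p + 1) * (pc - dc) + dc = p * pc + (pc - p * dc) := by
    rw [Nat.mul_sub, add_mul, one_mul, add_mul, one_mul]
    have := Nat.mul_le_mul_left p hle
    omega
  omega

end Cfsg.Agent.S4092
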