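import Cfsg.Statements.S4093
import Mathlib

set_option maxHeartbeats 1000000
set_option maxRecDepth 8000

set_option autoImplicit false
open scoped BigOperators
open Cfsg
open scoped Pointwise

namespace Cfsg.Agent.S4093

/-- Let G be a finite group with a normal subgroup N complementing a Sylow p-subgroup P (a normal p-complement). Then the number of elements of G of p-power order equals the sum over x ∈ P of the index of C_N(x) in N. -/
theorem result {G : Type*} [Group G] [Finite G] (p : ℕ) [Fact p.Prime]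
    (P : Sylow p G) (N : Subgroup G) [N.Normal] (hNP : N.IsComplement' (P : Subgroup G)) :
    Nat.card {g : G // ∃ k : ℕ, orderOf g = p ^ k} =
      ∑ᶠ x : (P : Subgroup G), Nat.card N / Nat.card ↥(N ⊓ Subgroup.centralizer ({(x : G)} : Set G)) := by
  classical
  haveI := Fintype.ofFinite (P : Subgroup G)
  rw [finsum_eq_sum_of_fintype]
  set O : ↥(P : Subgroup G) → Type _ := fun x => {g : G // ∃ m ∈ N, m * (x : G) * m⁻¹ = g}
  have hO : ∀ x : (P : Subgroup G), Nat.card (O x) = Nat.card N / Nat.card ↥(N ⊓ Subgroup.centralizer ({(x : G)} : Set G)) := by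
    intro x
    set C := (N ⊓ Subgroup.centralizer ({(x : G)} : Set G)).subgroupOf N
    have hCc : Nat.card C = Nat.card ↥(N ⊓ Subgroup.centralizer ({(x : G)} : Set G)) :=
      Nat.card_congr (Subgroup.subgroupOfEquivOfLe inf_le_left).toEquiv
    have h1 := C.card_mul_index
    have hidx : C.index = Nat.card (O x) := by
      have hiff : ∀ a b : N, (a : N ⧸ C) = b ↔ (a : G) * (x : G) * (a : G)⁻¹ = (b : G) * (x : G) * (b : G)⁻¹ := fun a b => by
        rw [QuotientGroup.eq, Subgroup.mem_subgroupOf]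
        simp only [Subgroup.mem_inf, Subgroup.mem_centralizer_singleton_iff, Subgroup.coe_mul, Subgroup.coe_inv]
        constructor
        · rintro ⟨-, h⟩
          calc (a : G) * (x : G) * (a : G)⁻¹ = (a : G) * ((x : G) * ((a : G)⁻¹ * b)) * (b : G)⁻¹ := by group
            _ = (a : G) * (((a : G)⁻¹ * b) * (x : G)) * (b : G)⁻¹ := by rw [h]
            _ = _ := by group
        · intro h
          refine ⟨mul_mem (inv_mem a.2) b.2, ?_⟩
          calc (a : G)⁻¹ * b * (x : G) = (a : G)⁻¹ * ((b : G) * (x : G) * (b : G)⁻¹) * b := by group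
            _ = (a : G)⁻¹ * ((a : G) * (x : G) * (a : G)⁻¹) * b := by rw [h]
            _ = _ := by group
      let f : N ⧸ C → O x := Quotient.lift (fun a : N => (⟨(a : G) * (x : G) * (a : G)⁻¹, a, a.2, rfl⟩ : O x))
        fun a b h => Subtype.ext ((hiff a b).1 (Quotient.sound h))
      rw [Subgroup.index_eq_card]
      refine Nat.card_congr (Equiv.ofBijective f ⟨fun u v h => ?_, fun ⟨g, m, hm, hg⟩ => ⟨((⟨m, hm⟩ : N) : N ⧸ C), Subtype.ext hg⟩⟩)
      obtain ⟨a, rfl⟩ := QuotientGroup.mk_surjective u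
      obtain ⟨b, rfl⟩ := QuotientGroup.mk_surjective v
      exact (hiff a b).2 (congrArg Subtype.val h)
    rw [← hCc, ← hidx, ← h1, Nat.mul_div_cancel_left _ Nat.card_pos]
  rw [← Finset.sum_congr rfl fun x _ => hO x, ← Nat.card_sigma]
  -- a `p`-element lies in exactly one orbit
  refine (Nat.card_congr (Equiv.ofBijective
    (fun s : Σ x : (P : Subgroup G), O x => (⟨s.2.1, by
      obtain ⟨m, -, hm⟩ := s.2.2
      obtain ⟨k, hk⟩ := IsPGroup.exists_orderOf_eq_pow P.isPGroup' s.1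
      refine ⟨k, ?_⟩
      rw [← hm, ← hk, ← Subgroup.orderOf_coe]
      exact orderOf_injective (MulAut.conj m).toMonoidHom (MulEquiv.injective _) _⟩ : {g : G // ∃ k : ℕ, orderOf g = p ^ k}))
    ⟨?_, ?_⟩)).symm
  · rintro ⟨x, g, m, hm, hg⟩ ⟨y, g', m', hm', hg'⟩ h
    have h' : g = g' := congrArg Subtype.val h
    subst h'
    have hmod : ∀ {m : G}, m ∈ N → ∀ z : G, (QuotientGroup.mk (m * z * m⁻¹) : G ⧸ N) = QuotientGroup.mk z := fun {m} hm z => by
      simp [(QuotientGroup.eq_one_iff m).2 hm]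
    have hxy : (x : G)⁻¹ * y ∈ N ⊓ (P : Subgroup G) := by
      refine ⟨QuotientGroup.eq.1 ?_, (P : Subgroup G).mul_mem ((P : Subgroup G).inv_mem x.2) y.2⟩
      rw [← hmod hm (x : G), hg, ← hg', hmod hm']
    rw [hNP.disjoint.eq_bot, Subgroup.mem_bot, inv_mul_eq_one] at hxy
    obtain rfl : x = y := Subtype.ext hxy
    rfl
  · rintro ⟨g, k, hk⟩
    obtain ⟨Q, hQ⟩ := (IsPGroup.of_card (p := p) (n := k) (by rw [Nat.card_zpowers, hk]) : IsPGroup p (Subgroup.zpowers g)).exists_le_sylow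
    obtain ⟨h, hh⟩ := MulAction.exists_smul_eq G P Q
    have hg : g ∈ (Q : Subgroup G) := hQ (Subgroup.mem_zpowers g)
    rw [← hh, Sylow.coe_subgroup_smul, Subgroup.mem_pointwise_smul_iff_inv_smul_mem, ← map_inv, MulAut.smul_def, MulAut.conj_apply, inv_inv] at hg
    obtain ⟨⟨m, z⟩, hmz : (m : G) * z = h⟩ := hNP.2 h
    refine ⟨⟨⟨(z : G) * (h⁻¹ * g * h) * (z : G)⁻¹, mul_mem (mul_mem z.2 hg) (inv_mem z.2)⟩,
      ⟨g, m, m.2, ?_⟩⟩, rfl⟩
    show (m : G) * ((z : G) * (h⁻¹ * g * h) * (z : G)⁻¹) * (m : G)⁻¹ = g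
    rw [← hmz]; group

end Cfsg.Agent.S4093
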