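import Cfsg.Statements.S4097
import Cfsg.Agent.Lib.Grp.FrobeniusTheorem

set_option autoImplicit false
open Cfsg
open scoped Pointwise

namespace Cfsg.Agent.S4097

universe u

/-- A join of a solvable normal subgroup with a solvable subgroup is solvable. -/
theorem solvable_join {G : Type u} [Group G] {N A : Subgroup G} [N.Normal] (hN : Group.IsSolvable ↥N)
    (hA : Group.IsSolvable ↥A) : Group.IsSolvable ↥(N ⊔ A) := by
  have hNn : (N.subgroupOf (N ⊔ A)).Normal := Subgroup.Normal.subgroupOf inferInstance _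
  refine Group.isSolvable_of_ker_le_range (Subgroup.inclusion (le_sup_left : N ≤ N ⊔ A))
    (QuotientGroup.mk' (N.subgroupOf (N ⊔ A))) ?_ (hG' := hN) (hG'' := ?_)
  · intro x hx
    rw [QuotientGroup.ker_mk', Subgroup.mem_subgroupOf] at hx
    exact ⟨⟨x.1, hx⟩, Subtype.ext rfl⟩
  · refine Group.isSolvable_of_surjective (f := (QuotientGroup.mk' (N.subgroupOf (N ⊔ A))).comp
      (Subgroup.inclusion (le_sup_right : A ≤ N ⊔ A))) ?_
    intro q
    obtain ⟨⟨y, hy⟩, rfl⟩ := QuotientGroup.mk'_surjective _ q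
    rw [← SetLike.mem_coe, Subgroup.normal_mul] at hy
    obtain ⟨n, hn, a, ha, rfl⟩ := hy
    refine ⟨⟨a, ha⟩, ?_⟩
    rw [MonoidHom.comp_apply, QuotientGroup.mk'_eq_mk']
    exact ⟨⟨a⁻¹ * n * a, (Subgroup.mem_sup_left (by simpa using Subgroup.Normal.conj_mem ‹N.Normal› n hn a⁻¹))⟩,
      by rw [Subgroup.mem_subgroupOf]; simpa using Subgroup.Normal.conj_mem ‹N.Normal› n hn a⁻¹,
      Subtype.ext (by simp [mul_assoc])⟩

theorem le_center_aux : ∀ (n : ℕ) {G : Type u} [Group G] [Finite G], Nat.card G = n →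
    ∀ A : Subgroup G, Group.IsSolvable ↥A →
      (∀ S : Subgroup G, A ≤ S → Group.IsSolvable S → ∀ a ∈ A, ∀ s ∈ S, a * s = s * a) →
      A ≤ Subgroup.center G := by
  intro n
  induction n using Nat.strong_induction_on with
  | _ n ih =>
  intro G _ _ hn A hA hc
  by_contra hne
  -- every proper overgroup centralizes `A`
  have hprop : ∀ M : Subgroup G, A ≤ M → M ≠ ⊤ → M ≤ Subgroup.centralizer (A : Set G) := by
    intro M hAM hM
    have hlt : Nat.card ↥M < n := hn ▸ lt_of_le_of_ne (Subgroup.card_le_card_group M)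
      (fun e => hM (Subgroup.eq_top_of_card_eq M e))
    haveI := hA
    have hA' : Group.IsSolvable ↥(A.subgroupOf M) := Group.isSolvable_of_surjective
      (f := (Subgroup.subgroupOfEquivOfLe hAM).symm.toMonoidHom) (MulEquiv.surjective _)
    have h := ih _ hlt rfl (A.subgroupOf M) hA' (fun S hS hSs a ha s hs => by
      haveI := hSs
      have hS' : Group.IsSolvable ↥(S.map M.subtype) := Group.isSolvable_of_surjective
        (f := (Subgroup.equivMapOfInjective S M.subtype M.subtype_injective).toMonoidHom) (MulEquiv.surjective _)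
      exact Subtype.ext (hc (S.map M.subtype) (fun x hx => ⟨⟨x, hAM hx⟩, hS hx, rfl⟩) hS' a.1 ha s.1
        ⟨s, hs, rfl⟩))
    intro x hx
    rw [Subgroup.mem_centralizer_iff]
    intro a ha
    exact (congrArg Subtype.val (Subgroup.mem_center_iff.1 (h (show (⟨a, hAM ha⟩ : ↥M) ∈ A.subgroupOf M from ha))
      ⟨x, hx⟩)).symm
  set C := Subgroup.centralizer (A : Set G) with hC
  have hCtop : C ≠ ⊤ := fun h => hne fun a ha => Subgroup.mem_center_iff.2 fun g =>
    (Subgroup.mem_centralizer_iff.1 (h ▸ Subgroup.mem_top g : g ∈ C) a ha).symm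
  have hAC : A ≤ C := fun a ha => Subgroup.mem_centralizer_iff.2 fun b hb => hc A le_rfl hA b hb a ha
  set Z := Subgroup.center G
  have hZC : Z ≤ C := fun z hz => Subgroup.mem_centralizer_iff.2 fun a _ => Subgroup.mem_center_iff.1 hz a
  set π := QuotientGroup.mk' Z
  set H := C.map π
  have hcomap : H.comap π = C := by
    rw [Subgroup.comap_map_eq, QuotientGroup.ker_mk', sup_eq_left.2 hZC]
  have hconjC : ∀ g : G, g ∉ C → ∀ x ∈ C, g⁻¹ * x * g ∈ C → x ∈ Z := by
    intro g hg x hx hgx
    by_contra hxZ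
    have hcx : Subgroup.centralizer ({x} : Set G) ≠ ⊤ := fun h => hxZ (Subgroup.mem_center_iff.2 fun y =>
      Subgroup.mem_centralizer_singleton_iff.1 (h ▸ Subgroup.mem_top y))
    have hA1 : A ≤ Subgroup.centralizer ({x} : Set G) := fun a ha =>
      Subgroup.mem_centralizer_singleton_iff.2 (Subgroup.mem_centralizer_iff.1 hx a ha)
    have hCx : Subgroup.centralizer ({x} : Set G) ≤ C := hprop _ hA1 hcx
    -- conjugates of `A` lie in `C`
    have hA2 : ∀ a ∈ A, g * a * g⁻¹ ∈ C := fun a ha => hCx (Subgroup.mem_centralizer_singleton_iff.2 (by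
      have h1 := Subgroup.mem_centralizer_iff.1 hgx a ha
      calc g * a * g⁻¹ * x = g * (a * (g⁻¹ * x * g)) * g⁻¹ := by group
        _ = g * (g⁻¹ * x * g * a) * g⁻¹ := by rw [h1]
        _ = x * (g * a * g⁻¹) := by group))
    have hA3 : A ≤ C.map (MulAut.conj g).toMonoidHom := by
      intro a ha
      refine ⟨g⁻¹ * a * g, Subgroup.mem_centralizer_iff.2 fun b hb => ?_, by simp [mul_assoc]⟩
      have h1 := Subgroup.mem_centralizer_iff.1 (hA2 b hb) a ha
      calc b * (g⁻¹ * a * g) = g⁻¹ * (g * b * g⁻¹ * a) * g := by group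
        _ = g⁻¹ * (a * (g * b * g⁻¹)) * g := by rw [h1]
        _ = g⁻¹ * a * g * b := by group
    have hcardC : Nat.card ↥(C.map (MulAut.conj g).toMonoidHom) = Nat.card ↥C :=
      Subgroup.card_map_of_injective (MulAut.conj g).injective
    have hCg : C.map (MulAut.conj g).toMonoidHom ≤ C := hprop _ hA3 fun h => by
      rw [h, Subgroup.card_top] at hcardC
      exact hCtop (Subgroup.eq_top_of_card_eq C hcardC.symm)
    -- `g` normalizes `C`, so `C` is normal or `g` lies in `C`
    have heq := Subgroup.eq_of_le_of_card_ge hCg hcardC.ge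
    have hN : Subgroup.normalizer (C : Set G) = ⊤ := by
      by_contra hN
      exact hg (hprop _ (hAC.trans Subgroup.le_normalizer) hN (by
        rw [Subgroup.mem_normalizer_iff_map_conj_eq]; exact heq))
    -- `Z(C)` with `g` is solvable and contains `A`
    haveI hCn : C.Normal := Subgroup.normalizer_eq_top_iff.1 hN
    set B := Z ⊔ (Subgroup.center ↥C).map C.subtype with hB
    haveI : ((Subgroup.center ↥C).map C.subtype).Normal := by infer_instance
    have hAB : A ≤ (Subgroup.center ↥C).map C.subtype := fun a ha =>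
      ⟨⟨a, hAC ha⟩, Subgroup.mem_center_iff.2 fun y => Subtype.ext (Subgroup.mem_centralizer_iff.1 y.2 a ha).symm, rfl⟩
    have hsol : Group.IsSolvable ↥((Subgroup.center ↥C).map C.subtype ⊔ Subgroup.zpowers g) :=
      solvable_join (Group.isSolvable_of_comm fun p q => by
          obtain ⟨p, p', hp, rfl⟩ := p
          obtain ⟨q, q', hq, rfl⟩ := q
          exact Subtype.ext (show (p' : G) * q' = q' * p' from
            congrArg Subtype.val (Subgroup.mem_center_iff.1 hq p')))
        (Group.isSolvable_of_comm fun p q => Subtype.ext (by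
          obtain ⟨p, i, rfl⟩ := p
          obtain ⟨q, j, rfl⟩ := q
          exact (Commute.zpow_zpow_self g i j).eq))
    exact hg (Subgroup.mem_centralizer_iff.2 fun a ha => hc _ (hAB.trans le_sup_left) hsol a ha g
      (Subgroup.mem_sup_right (Subgroup.mem_zpowers g)))
  have hF : Cfsg.IsFrobeniusComplement H := by
    refine ⟨fun h => hne fun a ha => ?_, fun h => hCtop (by rw [← hcomap, h, Subgroup.comap_top]), ?_⟩
    · have h1 : π a ∈ H := ⟨a, hAC ha, rfl⟩
      rw [h, Subgroup.mem_bot] at h1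
      exact (QuotientGroup.eq_one_iff a).1 h1
    · intro gb hgb
      obtain ⟨g, rfl⟩ := QuotientGroup.mk'_surjective Z gb
      rw [eq_bot_iff]
      rintro _ ⟨⟨x, hx, rfl⟩, hxg⟩
      replace hxg : π x ∈ MulAut.conj (π g) • H := hxg
      rw [Subgroup.mem_pointwise_smul_iff_inv_smul_mem, ← map_inv, MulAut.smul_def,
        MulAut.conj_apply, inv_inv, ← map_inv, ← map_mul, ← map_mul] at hxg
      rw [Subgroup.mem_bot]
      refine (QuotientGroup.eq_one_iff x).2 (hconjC g (fun h => hgb ⟨g, h, rfl⟩) x hx ?_)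
      rw [← hcomap]; exact hxg
  haveI : Finite (G ⧸ Z) := inferInstance
  haveI := Fintype.ofFinite (G ⧸ Z)
  obtain ⟨N, -, hNn, hcompl, hnil⟩ := Cfsg.Agent.Grp.frobenius_kernel_spec hF
  haveI := hNn
  set K := N.comap π with hK
  have hKs : Group.IsSolvable ↥K := by
    haveI := hnil
    haveI : Group.IsSolvable ↥N := inferInstance
    refine Group.isSolvable_of_ker_le_range (Subgroup.inclusion (show Z ≤ K from fun z hz => by
      show π z ∈ N
      rw [show π z = 1 from (QuotientGroup.eq_one_iff z).2 hz]; exact one_mem _)) (π.subgroupComap N) ?_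
      (hG' := Group.isSolvable_of_comm fun p q => Subtype.ext (Subgroup.mem_center_iff.1 q.2 p))
    intro x hx
    exact ⟨⟨x.1, (QuotientGroup.eq_one_iff _).1 (congrArg Subtype.val (MonoidHom.mem_ker.1 hx))⟩, Subtype.ext rfl⟩
  refine hne fun a ha => Subgroup.mem_center_iff.2 fun g => ?_
  obtain ⟨⟨nb, hb⟩, hnh, -⟩ := hcompl.existsUnique (π g)
  obtain ⟨x, hx, hxe⟩ := hb.2
  obtain ⟨k, hk⟩ := QuotientGroup.mk'_surjective Z (nb : G ⧸ Z)
  have hkK : k ∈ K := by rw [hK, Subgroup.mem_comap, hk]; exact nb.2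
  have h1 : a * k = k * a :=
    hc (K ⊔ A) le_sup_right (solvable_join hKs hA) a ha k (Subgroup.mem_sup_left hkK)
  have h2 : a * x = x * a := Subgroup.mem_centralizer_iff.1 hx a ha
  obtain ⟨z, hz, hgz⟩ : ∃ z ∈ Z, g = k * x * z := by
    refine ⟨(k * x)⁻¹ * g, (QuotientGroup.eq_one_iff _).1 ?_, by group⟩
    show π ((k * x)⁻¹ * g) = 1
    rw [map_mul, map_inv, map_mul, hk, hxe, hnh, inv_mul_cancel]
  have h3 : a * z = z * a := Subgroup.mem_center_iff.1 hz a
  rw [hgz]
  calc k * x * z * a = k * x * (a * z) := by rw [h3, mul_assoc]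
    _ = k * (x * a) * z := by group
    _ = k * (a * x) * z := by rw [h2]
    _ = k * a * x * z := by group
    _ = a * k * x * z := by rw [h1]
    _ = a * (k * x * z) := by group

/-- Let A be a solvable subgroup of a finite group G such that A lies in the centre of every solvable subgroup of G containing A. Then A lies in the centre of G. -/
theorem result {G : Type*} [Group G] [Finite G]
    (A : Subgroup G) (hA : Group.IsSolvable A)
    (hc : ∀ S : Subgroup G, A ≤ S → Group.IsSolvable S → ∀ a ∈ A, ∀ s ∈ S, a * s = s * a) : A ≤ Subgroup.center G := by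
  exact le_center_aux _ rfl A hA hc

end Cfsg.Agent.S4097
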