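import Cfsg.Statements.S4106
import Cfsg.Agent.Lib.Transfer.PiClasses

set_option maxHeartbeats 1000000
set_option maxRecDepth 8000

set_option autoImplicit false
open Cfsg

namespace Cfsg.Agent.S4106

universe u

open Cfsg.Agent.Transfer.PiClasses in
theorem key (s : Finset ℕ) (hs : ∀ q ∈ s, q.Prime) : ∀ (H : Type u) [Group H] [Finite H],
    Nat.card {C : ConjClasses H // IsPiClass (↑s : Set ℕ) C} ≤ ∏ q ∈ s, q ^ (Nat.card H).factorization q := by
  classical
  induction s using Finset.induction_on with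
  | empty =>
    intro H _ _
    rw [Finset.prod_empty, Finite.card_le_one_iff_subsingleton]
    refine ⟨fun ⟨C, hC⟩ ⟨D, hD⟩ => Subtype.ext ?_⟩
    obtain ⟨x, rfl⟩ := ConjClasses.mk_surjective C
    obtain ⟨y, rfl⟩ := ConjClasses.mk_surjective D
    have h1 : ∀ z : H, IsPiClass (↑(∅ : Finset ℕ) : Set ℕ) (ConjClasses.mk z) → z = 1 := fun z hz => by
      by_contra hne
      obtain ⟨q, hq, hd⟩ := Nat.exists_prime_and_dvd (orderOf_eq_one_iff.not.2 hne)
      simpa using (isPiClass_iff _ _ rfl).1 hz q hq hd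
    show ConjClasses.mk x = ConjClasses.mk y
    rw [h1 x hC, h1 y hD]
  | @insert q s hqs ih =>
    intro H _ _
    have hq : q.Prime := hs q (Finset.mem_insert_self q s)
    haveI : Fact q.Prime := ⟨hq⟩
    obtain ⟨P⟩ : Nonempty (Sylow q H) := inferInstance
    have hrep : ∀ C : {C : ConjClasses H // IsPiClass (↑(insert q s) : Set ℕ) C}, ∃ v u : H, v ∈ (P : Subgroup H) ∧
        Commute v u ∧ IsPiElt (↑s : Set ℕ) u ∧ ConjClasses.mk (v * u) = C.1 := by
      rintro ⟨C, hC⟩
      obtain ⟨x, rfl⟩ := ConjClasses.mk_surjective C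
      have hx := (isPiClass_iff _ _ rfl).1 hC
      obtain ⟨v, u, hv, hu, hvu, hvq, huq⟩ := exists_decomp ({q} : Set ℕ) x
      obtain ⟨i, hi⟩ := hv
      obtain ⟨j, hj⟩ := hu
      simp only at hi hj
      have hcomm : Commute v u := by rw [← hi, ← hj]; exact (Commute.refl x).zpow_zpow i j
      have hvp : IsPGroup q (Subgroup.zpowers v) := by
        refine IsPGroup.of_card (n := (orderOf v).primeFactorsList.length) ?_
        rw [Nat.card_zpowers]
        exact Nat.eq_prime_pow_of_unique_prime_dvd (orderOf_pos v).ne' fun {r} hr hd => hvq r hr hd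
      obtain ⟨Q, hQ⟩ := hvp.exists_le_sylow
      obtain ⟨c, hc⟩ := MulAction.exists_smul_eq H Q P
      refine ⟨c * v * c⁻¹, c * u * c⁻¹, ?_, hcomm.map (MulAut.conj c), ?_, ?_⟩
      · rw [← hc, Sylow.coe_subgroup_smul, Subgroup.mem_pointwise_smul_iff_inv_smul_mem, MulAut.smul_def,
          MulAut.conj_inv_apply]
        simpa [mul_assoc] using hQ (Subgroup.mem_zpowers v)
      · intro r hr hd
        rw [← MulAut.conj_apply, MulEquiv.orderOf_eq] at hd
        have h1 : r ∈ (↑(insert q s) : Set ℕ) := hx r hr (hd.trans (orderOf_dvd_of_mem_zpowers ⟨j, hj⟩))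
        rcases Finset.mem_insert.1 (Finset.mem_coe.1 h1) with h2 | h2
        · exact absurd h2 (huq r hr hd)
        · exact h2
      · rw [ConjClasses.mk_eq_mk_iff_isConj]
        refine isConj_comm.1 (isConj_iff.2 ⟨c, ?_⟩)
        rw [← hvu]; group
    choose v u hv hcomm hu hC using hrep
    haveI := Fintype.ofFinite (P : Subgroup H)
    let f : {C : ConjClasses H // IsPiClass (↑(insert q s) : Set ℕ) C} → (P : Subgroup H) := fun C => ⟨v C, hv C⟩
    rw [← Nat.card_congr (Equiv.sigmaFiberEquiv f), Nat.card_sigma, Finset.prod_insert hqs]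
    refine (Finset.sum_le_card_nsmul Finset.univ _ (∏ r ∈ s, r ^ (Nat.card H).factorization r) fun w _ => ?_).trans
      (le_of_eq ?_)
    · have hu' : ∀ C : {C // f C = w}, u C.1 ∈ Subgroup.centralizer ({(w : H)} : Set H) := fun C => by
        rw [Subgroup.mem_centralizer_singleton_iff, show (w : H) = v C.1 from (congrArg Subtype.val C.2).symm]
        exact (hcomm C.1).eq.symm
      have hle : (∏ r ∈ s, r ^ (Nat.card (Subgroup.centralizer ({(w : H)} : Set H))).factorization r) ≤
          ∏ r ∈ s, r ^ (Nat.card H).factorization r := Finset.prod_le_prod' fun r hr =>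
        Nat.pow_le_pow_right (hs r (Finset.mem_insert_of_mem hr)).pos
          ((Nat.factorization_le_iff_dvd Nat.card_pos.ne' Nat.card_pos.ne').2 (Subgroup.card_subgroup_dvd_card _) r)
      refine le_trans ?_ ((ih (fun r hr => hs r (Finset.mem_insert_of_mem hr))
        (Subgroup.centralizer ({(w : H)} : Set H))).trans hle)
      refine Nat.card_le_card_of_injective (fun C : {C // f C = w} =>
        (⟨ConjClasses.mk ⟨u C.1, hu' C⟩, (isPiClass_iff _ _ rfl).2 fun r hr hd => hu C.1 r hr (by
          rwa [← Subgroup.orderOf_coe] at hd)⟩ :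
          {D : ConjClasses (Subgroup.centralizer ({(w : H)} : Set H)) // IsPiClass (↑s : Set ℕ) D})) ?_
      intro C D hCD
      obtain ⟨c, hc⟩ := isConj_iff.1 (ConjClasses.mk_eq_mk_iff_isConj.1 (congrArg Subtype.val hCD))
      have hc' : (c : H) * u C.1 * (c : H)⁻¹ = u D.1 := congrArg Subtype.val hc
      apply Subtype.ext; apply Subtype.ext
      rw [← hC C.1, ← hC D.1, ConjClasses.mk_eq_mk_iff_isConj, isConj_iff]
      refine ⟨c, ?_⟩
      have hvC : v C.1 = w := congrArg Subtype.val C.2
      have hvD : v D.1 = w := congrArg Subtype.val D.2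
      have hcw := Subgroup.mem_centralizer_singleton_iff.1 c.2
      rw [hvC, hvD, ← hc', ← mul_assoc (c : H), hcw]; group
    · rw [Finset.card_univ, smul_eq_mul, ← Nat.card_eq_fintype_card, P.card_eq_multiplicity]


/-- Let G be a finite group, π a set of primes and m the π-part of the order of G. Then the number of conjugacy classes of G consisting of π-elements (elements whose order is divisible only by primes in π) is at most m. -/
theorem result {G : Type*} [Group G] [Finite G]
    (π : Set ℕ) (hπ : ∀ q ∈ π, q.Prime)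
    (m : ℕ) (hm : m ∣ Nat.card G) (hmπ : ∀ q : ℕ, q.Prime → q ∣ m → q ∈ π)
    (hm' : ∀ q ∈ π, ¬ q ∣ Nat.card G / m) :
    Nat.card {C : ConjClasses G // ∀ q : ℕ, q.Prime → (∃ g : G, ConjClasses.mk g = C ∧ q ∣ orderOf g) → q ∈ π} ≤ m := by

  classical
  obtain ⟨k, hk⟩ := hm
  have hG : Nat.card G ≠ 0 := Nat.card_pos.ne'
  have hm0 : m ≠ 0 := fun h => hG (by rw [hk, h, zero_mul])
  have hk0 : k ≠ 0 := fun h => hG (by rw [hk, h, mul_zero])
  have hdiv : Nat.card G / m = k := by rw [hk]; exact Nat.mul_div_cancel_left k (Nat.pos_of_ne_zero hm0)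
  rw [hdiv] at hm'
  set s := m.primeFactors
  have hsp : ∀ q ∈ s, q.Prime := fun q hq => Nat.prime_of_mem_primeFactors hq
  have hfac : ∀ q ∈ s, (Nat.card G).factorization q = m.factorization q := fun q hq => by
    rw [hk, Nat.factorization_mul hm0 hk0, Finsupp.add_apply, add_eq_left]
    exact Nat.factorization_eq_zero_of_not_dvd
      (hm' q (hmπ q (hsp q hq) (Nat.dvd_of_mem_primeFactors hq)))
  have hprod : ∏ q ∈ s, q ^ (Nat.card G).factorization q = m := by
    rw [Finset.prod_congr rfl fun q hq => by rw [hfac q hq]]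
    conv_rhs => rw [← Nat.prod_factorization_pow_eq_self hm0]
    rfl
  refine le_trans (Nat.card_le_card_of_injective (Subtype.map (id : ConjClasses G → ConjClasses G)
    fun C hC q hq hex => ?_) (Subtype.map_injective _ Function.injective_id)) ((key s hsp G).trans hprod.le)
  obtain ⟨g, hg, hd⟩ := hex
  have hqπ := hC q hq ⟨g, hg, hd⟩
  have hqG : q ∣ m * k := hk ▸ hd.trans (orderOf_dvd_natCard g)
  exact Finset.mem_coe.2 (Nat.mem_primeFactors.2 ⟨hq, (hq.dvd_mul.1 hqG).resolve_right (hm' q hqπ), hm0⟩)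

end Cfsg.Agent.S4106
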