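import Cfsg.Statements.S4107
import Cfsg.Agent.Lib.Grp.Cores
import Mathlib

set_option maxHeartbeats 1000000
set_option maxRecDepth 8000

set_option autoImplicit false
open Cfsg

namespace Cfsg.Agent.S4107

/-- Let G be a finite group and N a proper non-trivial normal subgroup such that for every x outside N all elements of the coset xN have the same order as x. Then N ≤ F(G) or F(G) ≤ N, where F(G) is the Fitting subgroup; and if N is properly contained in F(G) then F(G) has prime-power order. -/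
theorem result {G : Type*} [Group G] [Finite G] (N : Subgroup G) [N.Normal] (hN1 : N ≠ ⊥) (hN2 : N ≠ ⊤)
    (heq : ∀ x : G, x ∉ N → ∀ n ∈ N, orderOf (x * n) = orderOf x) :
    (N ≤ Cfsg.fittingSubgroup G ∨ Cfsg.fittingSubgroup G ≤ N) ∧
    (N < Cfsg.fittingSubgroup G → IsPrimePow (Nat.card (Cfsg.fittingSubgroup G))) := by
  classical
  have hkey : ∀ p : Nat.Primes, ¬ Cfsg.pCore (p : ℕ) G ≤ N → N ≤ Cfsg.pCore (p : ℕ) G := by
    intro p hp
    haveI : Fact (p : ℕ).Prime := ⟨p.2⟩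
    set O := Cfsg.pCore (p : ℕ) G with hO
    haveI hOn : O.Normal := Cfsg.Agent.Grp.pCore_isNormal
    obtain ⟨x, hx, hxN⟩ := SetLike.not_le_iff_exists.1 hp
    obtain ⟨k, hk⟩ := IsPGroup.iff_orderOf.1 (Cfsg.Agent.Grp.pCore_isPGroup (p := (p : ℕ)) (G := G)) ⟨x, hx⟩
    rw [Subgroup.orderOf_mk] at hk
    set q := QuotientGroup.mk' O with hq
    have hqx : q x = 1 := (QuotientGroup.eq_one_iff x).2 hx
    have himg : IsPGroup (p : ℕ) ↥(N.map q) := by
      rw [IsPGroup.iff_orderOf]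
      rintro ⟨_, n, hn, rfl⟩
      have h1 : orderOf (q (x * n)) ∣ (p : ℕ) ^ k := by rw [← hk, ← heq x hxN n hn]; exact orderOf_map_dvd q _
      rw [map_mul, hqx, one_mul] at h1
      obtain ⟨j, -, hj⟩ := (Nat.dvd_prime_pow p.2).1 h1
      exact ⟨j, (Subgroup.orderOf_mk _ _).trans hj⟩
    have hker : IsPGroup (p : ℕ) ↥q.ker := by
      rw [hq, QuotientGroup.ker_mk']; exact Cfsg.Agent.Grp.pCore_isPGroup
    have hM : IsPGroup (p : ℕ) ↥((N.map q).comap q) := himg.comap_of_ker_isPGroup q hker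
    exact Cfsg.Agent.Grp.le_pCore inferInstance (hM.to_le (Subgroup.le_comap_map q N))
  have hsplit : Cfsg.fittingSubgroup G ≤ N ∨ ∃ p : Nat.Primes, ¬ Cfsg.pCore (p : ℕ) G ≤ N := by
    by_contra h
    push Not at h
    apply h.1
    rw [Cfsg.Agent.Grp.fittingSubgroup_eq_iSup_pCore]
    exact iSup_le h.2
  refine ⟨?_, fun hlt => ?_⟩
  · rcases hsplit with h | ⟨p, hp⟩
    · exact Or.inr h
    · haveI : Fact (p : ℕ).Prime := ⟨p.2⟩
      exact Or.inl ((hkey p hp).trans Cfsg.Agent.Grp.pCore_le_fittingSubgroup)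
  · obtain ⟨p, hp⟩ := hsplit.resolve_left hlt.not_ge
    haveI : Fact (p : ℕ).Prime := ⟨p.2⟩
    have hNp := hkey p hp
    have hF : Cfsg.fittingSubgroup G = Cfsg.pCore (p : ℕ) G := by
      refine le_antisymm ?_ Cfsg.Agent.Grp.pCore_le_fittingSubgroup
      rw [Cfsg.Agent.Grp.fittingSubgroup_eq_iSup_pCore]
      refine iSup_le fun r => ?_
      by_cases hr : r = p
      · rw [hr]
      have hrN : Cfsg.pCore (r : ℕ) G ≤ N := by
        by_contra h
        have h1 := hkey r h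
        haveI : Fact (r : ℕ).Prime := ⟨r.2⟩
        refine hN1 (le_bot_iff.1 ?_)
        obtain ⟨a, ha⟩ := IsPGroup.iff_card.1 (Cfsg.Agent.Grp.pCore_isPGroup (p := (p : ℕ)) (G := G))
        obtain ⟨b, hb⟩ := IsPGroup.iff_card.1 (Cfsg.Agent.Grp.pCore_isPGroup (p := (r : ℕ)) (G := G))
        have hcop : (Nat.card ↥(Cfsg.pCore (p : ℕ) G)).Coprime (Nat.card ↥(Cfsg.pCore (r : ℕ) G)) := by
          rw [ha, hb]
          exact Nat.Coprime.pow a b ((Nat.coprime_primes p.2 r.2).2 fun e => hr (Subtype.ext e.symm))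
        rw [← Cfsg.Agent.Grp.inf_eq_bot_of_coprime hcop]
        exact le_inf hNp h1
      exact hrN.trans hNp
    obtain ⟨a, ha⟩ := IsPGroup.iff_card.1 (Cfsg.Agent.Grp.pCore_isPGroup (p := (p : ℕ)) (G := G))
    rw [hF, ha]
    refine ⟨(p : ℕ), a, p.2.prime, Nat.pos_of_ne_zero fun h => ?_, rfl⟩
    rw [h, pow_zero, Subgroup.card_eq_one] at ha
    exact hp (ha.le.trans bot_le)

end Cfsg.Agent.S4107
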