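import Cfsg.Statements.S4108
import Cfsg.Agent.Lib.Recog.Frobenius
import Cfsg.Agent.Lib.Grp.Basic

set_option maxHeartbeats 1000000
set_option maxRecDepth 8000

set_option autoImplicit false
open Cfsg
open scoped Pointwise

namespace Cfsg.Agent.S4108

/-- Let G be a finite group, p a prime and N a proper non-trivial normal p-subgroup such that for every x outside N all elements of the coset xN have the same order as x. Then every non-trivial subgroup H of G of order prime to p acts fixed-point-freely on N: NH is a Frobenius group with complement H and kernel N. -/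
theorem result {G : Type*} [Group G] [Finite G] (N : Subgroup G) [N.Normal] (hN1 : N ≠ ⊥) (hN2 : N ≠ ⊤)
    (heq : ∀ x : G, x ∉ N → ∀ n ∈ N, orderOf (x * n) = orderOf x)
    (p : ℕ) [Fact p.Prime] (hNp : IsPGroup p N) :
    ∀ H : Subgroup G, H ≠ ⊥ → (Nat.card H).Coprime p →
      Cfsg.IsFrobeniusComplement (H.subgroupOf (N ⊔ H)) ∧ Cfsg.frobeniusKernel (H.subgroupOf (N ⊔ H)) = (N.subgroupOf (N ⊔ H) : Set ↥(N ⊔ H)) := by
  intro H hH hcop
  have hp : p.Prime := Fact.out
  have hdis : ∀ x ∈ N, x ∈ H → x = 1 := fun x hxN hxH => by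
    obtain ⟨k, hk⟩ := hNp ⟨x, hxN⟩
    have h1 : orderOf x ∣ p ^ k := orderOf_dvd_of_pow_eq_one (congrArg Subtype.val hk)
    exact orderOf_eq_one_iff.1 (Nat.eq_one_of_dvd_coprimes (hcop.pow_right k)
      (Subgroup.orderOf_dvd_natCard H hxH) h1)
  have hfpf : ∀ h ∈ H, h ≠ 1 → ∀ n ∈ N, n * h = h * n → n = 1 := by
    intro h hh hh1 n hn hc
    have hhN : h ∉ N := fun h' => hh1 (hdis h h' hh)
    obtain ⟨k, hk⟩ := hNp ⟨n, hn⟩
    have hnk : orderOf n ∣ p ^ k := orderOf_dvd_of_pow_eq_one (congrArg Subtype.val hk)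
    have hco : (orderOf h).Coprime (orderOf n) :=
      ((hcop.pow_right k).coprime_dvd_left (Subgroup.orderOf_dvd_natCard H hh)).coprime_dvd_right hnk
    have h1 := heq h hhN n hn
    rw [(show Commute h n from hc.symm).orderOf_mul_eq_mul_orderOf_of_coprime hco] at h1
    exact orderOf_eq_one_iff.1 ((mul_eq_left₀ (orderOf_pos h).ne').1 h1)
  set L := N ⊔ H with hL
  set H' := H.subgroupOf L with hH'
  have hN0 : ∃ n ∈ N, n ≠ 1 := (Subgroup.bot_or_exists_ne_one N).resolve_left hN1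
  have hmem : ∀ g : L, ∃ n ∈ N, ∃ h ∈ H, (g : G) = n * h := fun g => by
    have : (g : G) ∈ (↑(N ⊔ H) : Set G) := g.2
    rw [Subgroup.normal_mul] at this
    obtain ⟨n, hn, h, hh, e⟩ := this
    exact ⟨n, hn, h, hh, e.symm⟩
  have hC : Cfsg.IsFrobeniusComplement H' := by
    refine ⟨?_, ?_, ?_⟩
    · obtain ⟨h, hh, hh1⟩ := (Subgroup.bot_or_exists_ne_one H).resolve_left hH
      intro e
      have h1 : (⟨h, Subgroup.mem_sup_right hh⟩ : L) ∈ H' := hh
      rw [e, Subgroup.mem_bot] at h1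
      exact hh1 (congrArg Subtype.val h1)
    · intro e
      obtain ⟨n, hn, hn1⟩ := hN0
      exact hn1 (hdis n hn ((Subgroup.subgroupOf_eq_top.1 e) (Subgroup.mem_sup_left hn)))
    · intro g hg
      refine (Subgroup.eq_bot_iff_forall _).2 fun x hx => Subtype.ext ?_
      obtain ⟨n, hn, h, hh, e⟩ := hmem g
      have h1 : (x : G) ∈ H := hx.1
      have h2 : (g : G)⁻¹ * x * g ∈ H := (Cfsg.Agent.Frob.mem_smul_conj_iff g x).1 hx.2
      rw [e] at h2
      have h3 : n⁻¹ * x * n ∈ H := by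
        have := H.mul_mem (H.mul_mem hh h2) (H.inv_mem hh)
        simpa [mul_assoc] using this
      set y := n⁻¹ * (x : G) * n with hy
      have h4 : (x : G) * y⁻¹ = 1 := by
        refine hdis _ ?_ (H.mul_mem h1 (H.inv_mem h3))
        have h5 : (x : G) * n⁻¹ * (x : G)⁻¹ * n ∈ N := N.mul_mem ((inferInstance : N.Normal).conj_mem _ (N.inv_mem hn) _) hn
        rw [show (x : G) * y⁻¹ = (x : G) * n⁻¹ * (x : G)⁻¹ * n by rw [hy]; group]
        exact h5
      have h6 : (x : G) = y := mul_inv_eq_one.1 h4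
      by_contra hx1
      have hn' : n = 1 := hfpf x h1 hx1 n hn (by
        conv_lhs => rw [h6, hy]
        group)
      refine hg ?_
      show (g : G) ∈ H
      rwa [e, hn', one_mul]
  refine ⟨hC, ?_⟩
  haveI : Finite L := inferInstance
  have hsub : ((N.subgroupOf L : Subgroup L) : Set L) ⊆ Cfsg.frobeniusKernel H' := fun x hx => by
    refine Cfsg.Agent.Frob.mem_kernel_iff.2 (or_iff_not_imp_left.2 fun hx1 g hg => hx1 (Subtype.ext ?_))
    have h1 : (g : G)⁻¹ * x * g = 1 := hdis _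
      (by simpa using (inferInstance : N.Normal).conj_mem _ hx (g : G)⁻¹) hg
    calc (x : G) = g * ((g : G)⁻¹ * x * g) * (g : G)⁻¹ := by group
      _ = 1 := by rw [h1]; group
  refine (Set.eq_of_subset_of_ncard_le hsub ?_ (Set.toFinite _)).symm
  rw [← Nat.card_coe_set_eq, ← Nat.card_coe_set_eq, Cfsg.Agent.Frob.card_kernel hC]
  show H'.index ≤ Nat.card ↥(N.subgroupOf L)
  rw [Nat.card_congr (Subgroup.subgroupOfEquivOfLe (le_sup_left : N ≤ L)).toEquiv]
  have h1 := H'.card_mul_index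
  rw [hH', Nat.card_congr (Subgroup.subgroupOfEquivOfLe (le_sup_right : H ≤ L)).toEquiv] at h1
  have h2 := Cfsg.Agent.Grp.card_sup_mul_card_inf_normal (H := H) (N := N)
  rw [show H ⊓ N = ⊥ from (Subgroup.eq_bot_iff_forall _).2 fun x hx => hdis x hx.2 hx.1, Subgroup.card_bot, mul_one,
    sup_comm, ← hL, ← h1] at h2
  exact (Nat.eq_of_mul_eq_mul_left Nat.card_pos h2).le

end Cfsg.Agent.S4108
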