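import Cfsg.Statements.S4112
import Cfsg.Agent.Lib.Grp.Cores
import Cfsg.Agent.Lib.Grp.Frattini
import Mathlib

set_option maxHeartbeats 1000000
set_option maxRecDepth 8000

set_option autoImplicit false
open Cfsg

namespace Cfsg.Agent.S4112

/-- Every prime divisor of the order divides the index of the Frattini subgroup. -/
theorem dvd_frattini_index {G : Type*} [Group G] [Finite G] {r : ℕ} [Fact r.Prime] (h : r ∣ Nat.card G) :
    r ∣ (frattini G).index := by
  by_contra hidx
  obtain ⟨R⟩ : Nonempty (Sylow r G) := inferInstance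
  have hle : (R : Subgroup G) ≤ frattini G := fun x hx => by
    obtain ⟨k, hk⟩ := IsPGroup.iff_orderOf.1 R.isPGroup' ⟨x, hx⟩
    rw [Subgroup.orderOf_mk] at hk
    refine (QuotientGroup.eq_one_iff x).1 (orderOf_eq_one_iff.1 ?_)
    refine Nat.eq_one_of_dvd_coprimes (((Fact.out : r.Prime).coprime_iff_not_dvd.2 hidx).pow_left k)
      (hk ▸ orderOf_map_dvd (QuotientGroup.mk' (frattini G)) x) ?_
    rw [Subgroup.index_eq_card]
    exact orderOf_dvd_natCard _
  have hn := Cfsg.Agent.Grp.sylow_inf_normal_normal R (frattini G) frattini_nilpotent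
  rw [inf_eq_left.2 hle] at hn
  haveI := hn
  obtain ⟨X, hX⟩ := Subgroup.exists_right_complement'_of_coprime (N := (R : Subgroup G)) R.card_coprime_index
  have h1 : X = ⊤ := frattini_nongenerating (eq_top_iff.2 (by
    rw [← hX.sup_eq_top, sup_comm]
    exact sup_le_sup le_rfl hle))
  have h2 : Nat.card (R : Subgroup G) * Nat.card X = Nat.card G := hX.card_mul
  rw [h1, Subgroup.card_top, mul_eq_right₀ Nat.card_pos.ne'] at h2
  exact (Fact.out : r.Prime).not_dvd_one (h2 ▸ R.dvd_card_of_dvd_card h)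


/-- Let G be a finite group and M ≤ N non-trivial proper normal subgroups such that for every g outside N the conjugacy class of g is a union of cosets of M (equivalently gm is conjugate to g for every m ∈ M). Then (1) and (2) below are equivalent, and they imply (3): (1) every g outside N acts fixed-point-freely on M, that is C_G(x) ≤ N for every x ∈ M, x ≠ 1; (2) the index of N in G is coprime to the order of M; (3) there is a subgroup H of G with HN = G and H ∩ M = 1. -/
theorem result {G : Type*} [Group G] [Finite G] (N M : Subgroup G) [N.Normal] [M.Normal] (hMN : M ≤ N) (hM1 : M ≠ ⊥) (hN2 : N ≠ ⊤)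
    (hcam : ∀ g : G, g ∉ N → ∀ m ∈ M, ∃ x : G, x * g * x⁻¹ = g * m) :
    ((∀ x ∈ M, x ≠ 1 → Subgroup.centralizer ({x} : Set G) ≤ N) ↔ N.index.Coprime (Nat.card M)) ∧
    ((∀ x ∈ M, x ≠ 1 → Subgroup.centralizer ({x} : Set G) ≤ N) → ∃ H : Subgroup G, H ⊔ N = ⊤ ∧ H ⊓ M = ⊥) := by

  classical
  have h12 : (∀ x ∈ M, x ≠ 1 → Subgroup.centralizer ({x} : Set G) ≤ N) → N.index.Coprime (Nat.card M) := by
    intro h1
    refine Nat.coprime_of_dvd fun r hr hrN hrM => ?_
    haveI : Fact r.Prime := ⟨hr⟩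
    obtain ⟨R⟩ : Nonempty (Sylow r G) := inferInstance
    set D := M.subgroupOf (R : Subgroup G) with hD
    haveI : Group.IsNilpotent (R : Subgroup G) := R.isPGroup'.isNilpotent
    have hRM : (R : Subgroup G) ⊓ M ≠ ⊥ := fun e => by
      apply Cfsg.Agent.Grp.sylow_inf_normal_relIndex R M
      rw [← Subgroup.inf_relIndex_right, e, Subgroup.relIndex_bot_left]
      exact hrM
    have hDn : D ≠ ⊥ := fun e => hRM (by
      rw [inf_comm, ← Subgroup.subgroupOf_map_subtype, ← hD, e, Subgroup.map_bot])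
    obtain ⟨⟨z, hz⟩, hz1⟩ := Subgroup.ne_bot_iff_exists_ne_one.1 (Cfsg.Agent.Grp.inf_center_ne_bot D hDn)
    have hle : (R : Subgroup G) ≤ N := fun y hy => by
      refine h1 z hz.1 (fun e => hz1 (Subtype.ext (Subtype.ext e))) (Subgroup.mem_centralizer_singleton_iff.2 ?_)
      exact congrArg Subtype.val (Subgroup.mem_center_iff.1 hz.2 ⟨y, hy⟩)
    exact R.not_dvd_index (hrN.trans (Subgroup.index_dvd_of_le hle))
  have h21 : N.index.Coprime (Nat.card M) → ∀ x ∈ M, x ≠ 1 → Subgroup.centralizer ({x} : Set G) ≤ N := by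
    intro hcop x hx hx1 g hg
    by_contra hgN
    -- some power of `g` outside `N` has order prime to that of `x`
    set n := orderOf ((g : G) : G ⧸ N) with hn
    have hn1 : n ≠ 1 := fun h => hgN ((QuotientGroup.eq_one_iff g).1 (orderOf_eq_one_iff.1 h))
    obtain ⟨r, hr, hrn⟩ := Nat.exists_prime_and_dvd hn1
    haveI : Fact r.Prime := ⟨hr⟩
    have hrN : r ∣ N.index := by rw [Subgroup.index_eq_card]; exact hrn.trans (orderOf_dvd_natCard _)
    obtain ⟨k, m, hm, ho⟩ := Nat.exists_eq_pow_mul_and_not_dvd (orderOf_pos g).ne' r hr.ne_one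
    have hy : g ^ m ∉ N := fun h => by
      have h1 : n ∣ m := orderOf_dvd_of_pow_eq_one (by rw [← QuotientGroup.mk_pow, QuotientGroup.eq_one_iff]; exact h)
      exact hm (hrn.trans h1)
    have hox : (orderOf (g ^ m)).Coprime (orderOf x) := by
      refine Nat.Coprime.coprime_dvd_left (orderOf_dvd_of_pow_eq_one (n := r ^ k) (by
        rw [← pow_mul, mul_comm, ← ho, pow_orderOf_eq_one])) (Nat.Coprime.pow_left k ?_)
      exact (hcop.coprime_dvd_left hrN).coprime_dvd_right (Subgroup.orderOf_dvd_natCard M hx)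
    obtain ⟨w, hw⟩ := hcam _ hy x hx
    have hc : Commute (g ^ m) x := (show Commute g x from Subgroup.mem_centralizer_singleton_iff.1 hg).pow_left m
    have hsc : SemiconjBy w (g ^ m) (g ^ m * x) := by
      show w * g ^ m = g ^ m * x * w
      rw [← hw, inv_mul_cancel_right]
    have h2 := hsc.orderOf_eq w
    rw [hc.orderOf_mul_eq_mul_orderOf_of_coprime hox] at h2
    exact hx1 (orderOf_eq_one_iff.1 ((mul_eq_left₀ (orderOf_pos (g ^ m)).ne').1 h2.symm))
  refine ⟨⟨h12, h21⟩, fun h1 => ?_⟩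
  have hcop := h12 h1
  obtain ⟨H, hH, hmin⟩ := WellFounded.has_min (wellFounded_lt (α := Subgroup G)) {H | H ⊔ N = ⊤} ⟨⊤, top_sup_eq N⟩
  refine ⟨H, hH, Cfsg.Agent.Grp.inf_eq_bot_of_coprime ?_⟩
  refine Nat.coprime_of_dvd fun r hr hrH hrM => hr.not_dvd_one ?_
  haveI : Fact r.Prime := ⟨hr⟩
  have hle : N.subgroupOf H ≤ frattini H := by
    refine le_iInf₂ fun K hK => ?_
    by_contra hKN
    have hsup : K ⊔ N.subgroupOf H = ⊤ := hK.2 _ (lt_of_le_of_ne le_sup_left fun e => hKN (e ▸ le_sup_right))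
    have hKH : K.map H.subtype < H := lt_of_le_of_ne (Subgroup.map_subtype_le K) fun e => hK.1 (eq_top_iff.2 fun y _ => by
      obtain ⟨y', hy', e'⟩ := (e.symm ▸ y.2 : (y : G) ∈ K.map H.subtype)
      exact (Subtype.ext e' : y' = y) ▸ hy')
    refine hmin (K.map H.subtype) ?_ hKH
    show K.map H.subtype ⊔ N = ⊤
    rw [eq_top_iff, ← show H ⊔ N = ⊤ from hH]
    refine sup_le (fun y hy => ?_) le_sup_right
    have h2 : (⟨y, hy⟩ : H) ∈ K ⊔ N.subgroupOf H := by rw [hsup]; trivial
    have h3 := Subgroup.mem_map_of_mem H.subtype h2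
    rw [Subgroup.map_sup] at h3
    exact (sup_le_sup le_rfl (Subgroup.map_comap_le H.subtype N)) h3
  have h3 : r ∣ (frattini H).index := dvd_frattini_index hrH
  have h4 : r ∣ N.index := by
    refine h3.trans ((Subgroup.index_dvd_of_le hle).trans ?_)
    exact Subgroup.relIndex_dvd_index_of_normal N H
  exact (Nat.eq_one_of_dvd_coprimes hcop h4 hrM).dvd

end Cfsg.Agent.S4112
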