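import Cfsg.Statements.S4113
import Mathlib

set_option maxHeartbeats 1000000
set_option maxRecDepth 8000

set_option autoImplicit false
open Cfsg

namespace Cfsg.Agent.S4113

/-- Let G be a finite group, M ≤ N non-trivial proper normal subgroups, and H a subgroup with HM = G and H ∩ M = 1. Then every element of G outside N acts fixed-point-freely on M (C_G(x) ≤ N for every x ∈ M, x ≠ 1) if and only if H ∩ gHg⁻¹ ≤ H ∩ N for every g outside H, with H proper and non-trivial and H ∩ N proper in H. -/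
theorem result {G : Type*} [Group G] [Finite G] (N M : Subgroup G) [N.Normal] [M.Normal] (hMN : M ≤ N) (hM1 : M ≠ ⊥) (hN2 : N ≠ ⊤)
    (H : Subgroup G) (hHM : H ⊔ M = ⊤) (hHM' : H ⊓ M = ⊥) :
    (∀ x ∈ M, x ≠ 1 → Subgroup.centralizer ({x} : Set G) ≤ N) ↔
      (H ≠ ⊥ ∧ H ≠ ⊤ ∧ H ⊓ N < H ∧ ∀ g : G, g ∉ H → H ⊓ H.map (MulAut.conj g).toMonoidHom ≤ N) := by
  classical
  have hdec : ∀ g : G, ∃ m ∈ M, ∃ h ∈ H, g = m * h := fun g => by
    have : g ∈ (↑(M ⊔ H) : Set G) := by rw [sup_comm, hHM]; trivial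
    rw [Subgroup.normal_mul] at this
    obtain ⟨m, hm, h, hh, e⟩ := this
    exact ⟨m, hm, h, hh, e.symm⟩
  have hcomm : ∀ m ∈ M, ∀ y ∈ H, m * y * m⁻¹ ∈ H → m * y * m⁻¹ = y := fun m hm y hy h => by
    have h1 : m * y * m⁻¹ * y⁻¹ ∈ H ⊓ M := ⟨H.mul_mem h (H.inv_mem hy), by
      have := M.mul_mem hm ((inferInstance : M.Normal).conj_mem _ (M.inv_mem hm) y)
      simpa [mul_assoc] using this⟩
    rw [hHM', Subgroup.mem_bot] at h1
    exact mul_inv_eq_one.1 h1
  constructor
  · intro h1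
    refine ⟨fun e => hN2 (top_le_iff.1 ?_), fun e => hM1 ?_, lt_of_le_of_ne inf_le_left fun e => hN2 (top_le_iff.1 ?_), ?_⟩
    · rw [← hHM, e, bot_sup_eq]; exact hMN
    · rw [e, top_inf_eq] at hHM'; exact hHM'
    · rw [← hHM]; exact sup_le (e ▸ inf_le_right) hMN
    · intro g hg x hx
      obtain ⟨m, hm, h, hh, rfl⟩ := hdec g
      obtain ⟨y, hy, hxy⟩ := hx.2
      have hxy' : m * (h * y * h⁻¹) * m⁻¹ = x := by
        rw [← hxy]; show _ = m * h * y * (m * h)⁻¹; group
      have hy' : h * y * h⁻¹ ∈ H := H.mul_mem (H.mul_mem hh hy) (H.inv_mem hh)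
      have hc := hcomm m hm _ hy' (hxy'.symm ▸ hx.1)
      rw [hc] at hxy'
      rw [← hxy']
      refine h1 m hm (fun e => hg (by rw [e, one_mul]; exact hh)) (Subgroup.mem_centralizer_singleton_iff.2 ?_)
      exact (mul_inv_eq_iff_eq_mul.1 hc).symm
  · rintro ⟨-, -, -, h4⟩ x hx hx1 g hg
    by_contra hgN
    -- every element outside `N` is conjugate into `H`
    let S := {h : H // (h : G) ∉ N}
    let T := {t : G // t ∉ N}
    have hconjN : ∀ c h : G, h ∉ N → c * h * c⁻¹ ∉ N := fun c h hh hm => hh (by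
      simpa [mul_assoc] using (inferInstance : N.Normal).conj_mem _ hm c⁻¹)
    let f : (G ⧸ H) × S → T := fun t => ⟨t.1.out * t.2.1 * t.1.out⁻¹, hconjN _ _ t.2.2⟩
    have hf : Function.Injective f := by
      rintro ⟨q, ⟨⟨h, hh⟩, hhN⟩⟩ ⟨r, ⟨⟨k, hk⟩, hkN⟩⟩ e
      have e' : q.out * h * q.out⁻¹ = r.out * k * r.out⁻¹ := congrArg Subtype.val e
      have hqr : q = r := by
        by_contra hne
        have hgH : q.out⁻¹ * r.out ∉ H := fun h' => hne (by
          rw [← q.out_eq', ← r.out_eq']; exact QuotientGroup.eq.2 h')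
        refine hhN (h4 _ hgH ⟨hh, k, hk, ?_⟩)
        show q.out⁻¹ * r.out * k * (q.out⁻¹ * r.out)⁻¹ = h
        rw [show q.out⁻¹ * r.out * k * (q.out⁻¹ * r.out)⁻¹ = q.out⁻¹ * (r.out * k * r.out⁻¹) * q.out by group, ← e']
        group
      subst hqr
      obtain rfl : h = k := mul_left_cancel (mul_right_cancel e')
      rfl
    have hMi : H.index = Nat.card M := by
      refine (Subgroup.isComplement'_of_disjoint_and_mul_eq_univ (disjoint_iff.2 (by rw [inf_comm]; exact hHM')) ?_).index_eq_card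
      refine Set.eq_univ_of_forall fun g => ?_
      obtain ⟨m, hm, h, hh, rfl⟩ := hdec g
      exact ⟨m, hm, h, hh, rfl⟩
    have hcard : Nat.card T ≤ Nat.card ((G ⧸ H) × S) := by
      let e : T → M × S := fun t =>
        (⟨(hdec t.1).choose, (hdec t.1).choose_spec.1⟩, ⟨⟨(hdec t.1).choose_spec.2.choose, (hdec t.1).choose_spec.2.choose_spec.1⟩, fun hN' => t.2 (by
          rw [(hdec t.1).choose_spec.2.choose_spec.2]
          exact N.mul_mem (hMN (hdec t.1).choose_spec.1) hN')⟩)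
      have he : Function.Injective e := fun s t h => Subtype.ext (by
        rw [(hdec s.1).choose_spec.2.choose_spec.2, (hdec t.1).choose_spec.2.choose_spec.2]
        exact congrArg₂ (· * ·) (congrArg (fun p : M × S => (p.1 : G)) h) (congrArg (fun p : M × S => ((p.2.1 : H) : G)) h))
      refine (Nat.card_le_card_of_injective e he).trans ?_
      rw [Nat.card_prod, Nat.card_prod, ← Subgroup.index_eq_card, hMi]
    obtain ⟨⟨q, ⟨⟨h, hh⟩, hhN⟩⟩, e⟩ := (hf.bijective_of_nat_card_le hcard).2 ⟨g, hgN⟩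
    have e' : q.out * h * q.out⁻¹ = g := congrArg Subtype.val e
    set c := q.out
    set x' := c⁻¹ * x * c with hx'
    have hx'M : x' ∈ M := by
      have := (inferInstance : M.Normal).conj_mem x hx c⁻¹
      rwa [inv_inv] at this
    have hc' : x' * h * x'⁻¹ = h := by
      have h0 := Subgroup.mem_centralizer_singleton_iff.1 hg
      rw [hx', show c⁻¹ * x * c * h * (c⁻¹ * x * c)⁻¹ = c⁻¹ * (x * (c * h * c⁻¹) * x⁻¹) * c by group, e', ← h0, mul_inv_cancel_right, ← e']
      group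
    refine hhN (h4 x' (fun hxH => hx1 ?_) ⟨hh, h, hh, hc'⟩)
    have h1 : x' ∈ H ⊓ M := ⟨hxH, hx'M⟩
    rw [hHM', Subgroup.mem_bot, hx'] at h1
    rw [show x = c * (c⁻¹ * x * c) * c⁻¹ by group, h1]; group

end Cfsg.Agent.S4113
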