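import Cfsg.Statements.S4115
import Mathlib
import Cfsg.Agent.Lib.Grp.FrobeniusTheorem
import Cfsg.Agent.Lib.Grp.Coprime
import Cfsg.Agent.Lib.Grp.SchurZassenhaus
import Cfsg.Agent.Lib.Transfer.FrobBuild
import Cfsg.Agent.Lib.Char.Quotient

set_option maxHeartbeats 1000000
set_option maxRecDepth 8000

set_option autoImplicit false
universe u
open Cfsg
open scoped Pointwise

namespace Cfsg.Agent.S4115

open scoped ComplexConjugate

theorem ext_irr {G : Type*} [Group G] [Fintype G] {H : Subgroup G} [Fintype H] {θ : H → ℂ}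
    (hθ : IsIrrCharacter H θ) (hext : ∀ h : H, indFun H (fun h => θ h - θ 1) (h : G) = θ h - θ 1) :
    IsIrrCharacter G (Grp.frobExt H θ) := by
  classical
  have hθc : IsClassFunction H θ := Char.IsIrr.classFun hθ
  obtain ⟨d, hd, hθ1⟩ := Char.IsIrr.one_eq_pos hθ
  set f : H → ℂ := fun h => θ h - θ 1 with hf
  have hf1 : f 1 = 0 := sub_self _
  have hfc : IsClassFunction H f := fun g k => by simp [hf, hθc g k]
  have hFc : IsClassFunction G (indFun H f) := Char.indFun_classFun H f
  have hone : IsClassFunction G (fun _ : G => θ 1) := fun _ _ => rfl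
  have hψc : IsClassFunction G (Grp.frobExt H θ) := Char.classFunction_add hFc hone
  -- inner products
  have hres : (fun h : H => indFun H f (h : G)) = f :=
    funext fun h => hext h
  have hnorm : classInner (Grp.frobExt H θ) (Grp.frobExt H θ) = 1 := by
    have e1 : classInner (indFun H f) (indFun H f) = classInner f f := by
      rw [Char.classInner_indFun H f hFc, hres]
    have e2 : classInner (indFun H f) (fun _ : G => θ 1) = classInner f (fun _ : H => θ 1) :=
      Char.classInner_indFun H f hone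
    have e3 : classInner (fun _ : G => θ 1) (indFun H f) = classInner (fun _ : H => θ 1) f := by
      rw [← Char.classInner_conj_symm, e2, Char.classInner_conj_symm]
    have e4 : classInner (fun _ : G => θ 1) (fun _ : G => θ 1) =
        classInner (fun _ : H => θ 1) (fun _ : H => θ 1) := by
      unfold classInner
      simp only [Finset.sum_const, Finset.card_univ, nsmul_eq_mul, ← Nat.card_eq_fintype_card]
      rw [inv_mul_cancel_left₀ (Nat.cast_ne_zero.mpr Nat.card_pos.ne'),
        inv_mul_cancel_left₀ (Nat.cast_ne_zero.mpr Nat.card_pos.ne')]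
    have e5 : θ = f + fun _ : H => θ 1 := funext fun h => by simp [hf]
    have e6 := Char.classInner_self_irr hθ
    rw [e5, Char.classInner_add_left, Char.classInner_add_right, Char.classInner_add_right] at e6
    show classInner (indFun H f + fun _ => θ 1) (indFun H f + fun _ => θ 1) = 1
    rw [Char.classInner_add_left, Char.classInner_add_right, Char.classInner_add_right, e1, e2, e3, e4]
    have e7 : ((f + fun _ : H => θ 1) 1) = θ 1 := by simp [hf1]
    exact e6
  -- integrality
  have hint : ∀ χ : IrrCharacter G, ∃ z : ℤ, classInner (Grp.frobExt H θ) (χ : G → ℂ) = z := by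
    intro χ
    have hχc := Char.IsIrr.classFun χ.2
    have hres' : IsCharacter H (fun h : H => (χ : G → ℂ) h) :=
      Char.IsChar.res (Char.IsIrr.isCharacter χ.2) H
    obtain ⟨a, ha⟩ := Char.IsChar.classInner_nat (Char.IsIrr.isCharacter hθ) hres'
    obtain ⟨b, hb⟩ := Char.IsChar.classInner_nat (Char.IsChar.one (G := H)) hres'
    obtain ⟨c, hc⟩ := Char.IsChar.classInner_nat (Char.IsChar.one (G := G)) (Char.IsIrr.isCharacter χ.2)
    refine ⟨(a : ℤ) - d * b + d * c, ?_⟩
    show classInner (indFun H f + fun _ => θ 1) _ = _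
    rw [Char.classInner_add_left, Char.classInner_indFun H f hχc]
    have e8 : f = θ - θ 1 • (fun _ : H => (1 : ℂ)) := funext fun h => by simp [hf]
    have e9 : (fun _ : G => θ 1) = θ 1 • (fun _ : G => (1 : ℂ)) := funext fun g => by simp
    rw [e8, e9, Char.classInner_sub_left, Char.classInner_smul_left, Char.classInner_smul_left,
      ha, hb, hc, hθ1]
    push_cast
    ring
  choose z hz using hint
  have hexp := Char.classFunction_expansion hψc
  have hsum : ∑ χ : IrrCharacter G, z χ ^ 2 = 1 := by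
    have h1 := hnorm
    rw [hexp] at h1
    rw [Char.classInner_sum_sum] at h1
    simp only [hz, map_intCast] at h1
    have h2 : ((∑ χ : IrrCharacter G, z χ ^ 2 : ℤ) : ℂ) = 1 := by
      rw [← h1]; push_cast; exact Finset.sum_congr rfl fun χ _ => sq _
    exact_mod_cast h2
  obtain ⟨φ, hφ⟩ : ∃ φ, z φ ≠ 0 := by
    by_contra hc
    push Not at hc
    simp [hc] at hsum
  have hle : ∀ χ, z χ ^ 2 ≤ 1 := fun χ =>
    hsum ▸ Finset.single_le_sum (f := fun x => z x ^ 2) (fun x _ => sq_nonneg _) (Finset.mem_univ χ)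
  have hφ1 : z φ = 1 ∨ z φ = -1 := by
    have := hle φ
    have h3 : -1 ≤ z φ ∧ z φ ≤ 1 := ⟨by nlinarith, by nlinarith⟩
    omega
  have hother : ∀ χ, χ ≠ φ → z χ = 0 := by
    intro χ hne
    have := Finset.sum_le_sum_of_subset_of_nonneg (f := fun x => z x ^ 2) (Finset.subset_univ {φ, χ})
      (fun x _ _ => sq_nonneg _)
    rw [Finset.sum_pair hne.symm, hsum] at this
    have : z φ ^ 2 = 1 := by rcases hφ1 with h | h <;> simp [h]
    nlinarith [sq_nonneg (z χ)]
  have hψφ : Grp.frobExt H θ = (z φ : ℂ) • (φ : G → ℂ) := by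
    conv_lhs => rw [hexp]
    rw [Finset.sum_eq_single φ (fun χ _ hne => by rw [hz, hother χ hne]; simp) (by simp), hz]
  rcases hφ1 with h | h
  · rw [hψφ, h]; simpa using φ.2
  · exfalso
    obtain ⟨m, hm, hm1⟩ := Char.IsIrr.one_eq_pos φ.2
    have h1 : Grp.frobExt H θ ((1 : H) : G) = θ 1 := by
      show indFun H (fun h => θ h - θ 1) ((1 : H) : G) + θ 1 = θ 1
      rw [hext, sub_add_cancel]
    rw [hψφ, Pi.smul_apply, Subgroup.coe_one, hm1, hθ1, h, smul_eq_mul] at h1
    have : (-(m : ℤ) : ℤ) = d := by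
      have : ((-(m : ℤ) : ℤ) : ℂ) = ((d : ℤ) : ℂ) := by push_cast at h1 ⊢; rw [← h1]; ring
      exact_mod_cast this
    omega

/-- If every nontrivial element fixes exactly one point, some point is fixed by all. -/
theorem exists_common_fixed {H X : Type*} [Group H] [Finite H] [Nontrivial H] [Finite X] [MulAction H X]
    (hfix : ∀ h : H, h ≠ 1 → ∃! x : X, h • x = x) : ∃ x : X, ∀ h : H, h • x = x := by
  classical
  haveI := Fintype.ofFinite H
  haveI := Fintype.ofFinite X
  choose F hF hFu using hfix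
  obtain ⟨h₁, hh₁⟩ := exists_ne (1 : H)
  have cnt : ∀ x : X, Nat.card {h : H // ∃ h1 : h ≠ 1, F h h1 ∈ MulAction.orbit H x} =
      Nat.card (MulAction.orbit H x) * (Nat.card (MulAction.stabilizer H x) - 1) ∧
      Nat.card (MulAction.orbit H x) * Nat.card (MulAction.stabilizer H x) = Nat.card H := by
    intro x
    have hos : ∀ y : X, Nat.card (MulAction.orbit H y) * Nat.card (MulAction.stabilizer H y) = Nat.card H := fun y => by
      rw [← Nat.card_prod]; exact Nat.card_congr (MulAction.orbitProdStabilizerEquivGroup H y)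
    refine ⟨?_, hos x⟩
    let e : {h : H // ∃ h1 : h ≠ 1, F h h1 ∈ MulAction.orbit H x} ≃
        (y : MulAction.orbit H x) × {h : MulAction.stabilizer H (y : X) // h ≠ 1} :=
      { toFun := fun h => ⟨⟨F h.1 h.2.1, h.2.2⟩, ⟨h.1, hF h.1 h.2.1⟩, fun e => h.2.1 (congrArg Subtype.val e)⟩
        invFun := fun z => ⟨(z.2.1 : H), fun e => z.2.2 (Subtype.ext e), by
          have := hFu (z.2.1 : H) (fun e => z.2.2 (Subtype.ext e)) z.1 z.2.1.2
          exact this ▸ z.1.2⟩
        left_inv := fun h => rfl
        right_inv := fun z => by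
          obtain ⟨⟨y, hy⟩, ⟨⟨h, hh⟩, h1⟩⟩ := z
          have hne : h ≠ 1 := fun e => h1 (Subtype.ext e)
          obtain rfl := hFu h hne y hh
          rfl }
    haveI : Nonempty (MulAction.orbit H x) := ⟨⟨x, MulAction.mem_orbit_self x⟩⟩
    rw [Nat.card_congr e, Nat.card_sigma, Finset.sum_const_nat (m := Nat.card (MulAction.stabilizer H x) - 1)]
    · rw [Finset.card_univ, Nat.card_eq_fintype_card (α := MulAction.orbit H x)]
    intro y _
    have h1 := hos (y : X)
    rw [MulAction.orbit_eq_iff.2 y.2] at h1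
    have h2 := Nat.eq_of_mul_eq_mul_left (Nat.card_pos (α := MulAction.orbit H x)) (h1.trans (hos x).symm)
    rw [← h2, Nat.card_eq_fintype_card, Fintype.card_subtype_compl, Fintype.card_subtype_eq, Nat.card_eq_fintype_card]
  have two : ∀ h h1, 2 ≤ Nat.card (MulAction.stabilizer H (F h h1)) := fun h h1 => by
    haveI : Nontrivial (MulAction.stabilizer H (F h h1)) := ⟨⟨⟨h, hF h h1⟩, 1, fun e => h1 (congrArg Subtype.val e)⟩⟩
    exact Finite.one_lt_card
  have hne1 : Nat.card {h : H // h ≠ 1} = Nat.card H - 1 := by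
    rw [Nat.card_eq_fintype_card, Fintype.card_subtype_compl, Fintype.card_subtype_eq, Nat.card_eq_fintype_card]
  set x₁ := F h₁ hh₁ with hx₁
  obtain ⟨hc1, ho1⟩ := cnt x₁
  have hs1 := two h₁ hh₁
  by_cases hall : ∀ h h1, F h h1 ∈ MulAction.orbit H x₁
  · have heq : Nat.card {h : H // ∃ h1 : h ≠ 1, F h h1 ∈ MulAction.orbit H x₁} = Nat.card H - 1 :=
      (Nat.card_congr (Equiv.subtypeEquivRight fun h => ⟨fun ⟨h1, _⟩ => h1, fun h1 => ⟨h1, hall h h1⟩⟩)).trans hne1
    have hn : Nat.card (MulAction.orbit H x₁) = 1 := by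
      rw [hc1, Nat.mul_sub_one, ho1] at heq
      haveI : Nonempty (MulAction.orbit H x₁) := ⟨⟨x₁, MulAction.mem_orbit_self x₁⟩⟩
      have := Nat.card_pos (α := MulAction.orbit H x₁)
      have : Nat.card (MulAction.orbit H x₁) ≤ Nat.card H := Nat.le_of_dvd Nat.card_pos ⟨_, ho1.symm⟩
      have := Finite.one_lt_card (α := H)
      omega
    haveI := (Nat.card_eq_one_iff_unique.1 hn).1
    exact ⟨x₁, fun h => congrArg Subtype.val (Subsingleton.elim (⟨h • x₁, MulAction.mem_orbit _ h⟩ : MulAction.orbit H x₁) ⟨x₁, MulAction.mem_orbit_self _⟩)⟩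
  push Not at hall
  obtain ⟨h₂, hh₂, hout⟩ := hall
  obtain ⟨hc2, ho2⟩ := cnt (F h₂ hh₂)
  have hs2 := two h₂ hh₂
  exfalso
  have hsum : Nat.card ({h : H // ∃ h1 : h ≠ 1, F h h1 ∈ MulAction.orbit H x₁} ⊕
      {h : H // ∃ h1 : h ≠ 1, F h h1 ∈ MulAction.orbit H (F h₂ hh₂)}) ≤ Nat.card {h : H // h ≠ 1} := by
    refine Nat.card_le_card_of_injective (Sum.elim (fun h => ⟨h.1, h.2.1⟩) (fun h => ⟨h.1, h.2.1⟩)) ?_
    rintro (⟨a, a1, ha⟩ | ⟨a, a1, ha⟩) (⟨b, b1, hb⟩ | ⟨b, b1, hb⟩) hab <;>
      obtain rfl : a = b := congrArg Subtype.val hab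
    · rfl
    · exact absurd (MulAction.orbit_eq_iff.1 ((MulAction.orbit_eq_iff.2 hb).symm.trans (MulAction.orbit_eq_iff.2 ha))) hout
    · exact absurd (MulAction.orbit_eq_iff.1 ((MulAction.orbit_eq_iff.2 ha).symm.trans (MulAction.orbit_eq_iff.2 hb))) hout
    · rfl
  rw [Nat.card_sum, hc1, hc2, hne1] at hsum
  obtain ⟨a, ha⟩ : ∃ a, Nat.card (MulAction.stabilizer H x₁) = a + 2 := ⟨_, (Nat.sub_add_cancel hs1).symm⟩
  obtain ⟨b, hb⟩ : ∃ b, Nat.card (MulAction.stabilizer H (F h₂ hh₂)) = b + 2 := ⟨_, (Nat.sub_add_cancel hs2).symm⟩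
  rw [ha] at ho1 hsum; rw [hb] at ho2 hsum
  simp only [Nat.add_succ_sub_one] at hsum
  have := Nat.card_pos (α := H)
  have := Nat.sub_add_cancel (Nat.one_le_iff_ne_zero.2 (Nat.card_pos (α := H)).ne')
  nlinarith [Nat.zero_le (Nat.card (MulAction.orbit H x₁) * a), Nat.zero_le (Nat.card (MulAction.orbit H (F h₂ hh₂)) * b)]

/-- Moving a Frobenius complement to a higher universe. -/
theorem frob_ulift {H : Type u} [Group H] {L : Type} [Group L] [Finite L] {C : Subgroup L}
    (hC : Cfsg.IsFrobeniusComplement C) (e : H ≃* C) :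
    ∃ (F : Type u) (_ : Group F) (_ : Finite F) (C : Subgroup F), Cfsg.IsFrobeniusComplement C ∧ Nonempty (H ≃* C) := by
  let f : L ≃* ULift.{u} L := MulEquiv.ulift.symm
  refine ⟨ULift.{u} L, inferInstance, inferInstance, C.map f.toMonoidHom, ⟨?_, ?_, ?_⟩,
    ⟨e.trans (C.equivMapOfInjective f.toMonoidHom f.injective)⟩⟩
  · rw [Ne, Subgroup.map_eq_bot_iff_of_injective _ f.injective]; exact hC.1
  · intro h
    exact hC.2.1 (Subgroup.map_injective f.injective (h.trans (Subgroup.map_top_of_surjective _ f.surjective).symm))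
  · intro g hg
    obtain ⟨l, rfl⟩ := f.surjective g
    rw [eq_bot_iff]
    rintro _ ⟨⟨a, ha, rfl⟩, hb⟩
    replace hb : f a ∈ MulAut.conj (f l) • C.map f.toMonoidHom := hb
    rw [Subgroup.mem_pointwise_smul_iff_inv_smul_mem] at hb
    obtain ⟨b, hb, hbe⟩ := hb
    have hab : b = l⁻¹ * a * l := f.injective (by
      rw [show f b = _ from hbe, map_mul, map_mul, map_inv]; simp [MulAut.smul_def, MulAut.conj_symm_apply])
    have hal : a ∈ MulAut.conj l • C := by
      rw [Subgroup.mem_pointwise_smul_iff_inv_smul_mem]; simpa [MulAut.smul_def, MulAut.conj_symm_apply, hab] using hb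
    have := (hC.2.2 l fun h => hg ⟨l, h, rfl⟩).le ⟨ha, hal⟩
    rw [Subgroup.mem_bot] at this
    simp [this]

/-- A coprime action in which all nontrivial elements have the same proper centralizer gives a Frobenius complement. -/
theorem exists_complement {G : Type u} [Group G] [Finite G] (H K C : Subgroup G) (hH : H ≠ ⊥)
    (hHK : H ≤ Subgroup.normalizer (K : Set G)) (hcop : (Nat.card H).Coprime (Nat.card K)) (hCK : C < K)
    (hC : ∀ h ∈ H, h ≠ 1 → K ⊓ Subgroup.centralizer ({h} : Set G) = C) :
    ∃ (F : Type u) (_ : Group F) (_ : Finite F) (C : Subgroup F), Cfsg.IsFrobeniusComplement C ∧ Nonempty (H ≃* C) := by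
  classical
  haveI : Nontrivial H := (Subgroup.nontrivial_iff_ne_bot H).2 hH
  have hHC : ∀ h ∈ H, ∀ c ∈ C, h * c = c * h := fun h hh c hc => by
    rcases eq_or_ne h 1 with rfl | h1
    · simp
    · rw [← hC h hh h1] at hc
      exact (Subgroup.mem_centralizer_singleton_iff.1 hc.2).symm
  have hzp : ∀ h ∈ H, h ≠ 1 → K ⊓ Subgroup.centralizer ((Subgroup.zpowers h : Subgroup G) : Set G) = C := fun h hh h1 => by
    rw [Subgroup.zpowers_eq_closure, Subgroup.centralizer_closure, hC h hh h1]
  have hzK : ∀ h ∈ H, Subgroup.zpowers h ≤ Subgroup.normalizer (K : Set G) := fun h hh => Subgroup.zpowers_le.2 (hHK hh)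
  have hzc : ∀ h ∈ H, (Nat.card (Subgroup.zpowers h)).Coprime (Nat.card K) := fun h hh =>
    hcop.coprime_dvd_left (Subgroup.card_dvd_of_le (Subgroup.zpowers_le.2 hh))
  -- a prime at which the centralizer is small
  obtain ⟨p, hp, hpC⟩ : ∃ p : ℕ, p.Prime ∧ ¬ (Nat.card K).factorization p ≤ (Nat.card C).factorization p := by
    by_contra hne
    push Not at hne
    have h1 : Nat.card K ∣ Nat.card C := (Nat.factorization_le_iff_dvd Nat.card_pos.ne' Nat.card_pos.ne').1
      (fun p => by
        by_cases hp : p.Prime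
        · exact hne p hp
        · simp [Nat.factorization_eq_zero_of_not_prime _ hp])
    exact hCK.ne (Subgroup.eq_of_le_of_card_ge hCK.le (Nat.le_of_dvd Nat.card_pos h1))
  haveI := Fact.mk hp
  -- each nontrivial element fixes exactly one class of Sylow subgroups modulo the centralizer
  let Ω := {X : Subgroup G // Grp.IsSylowIn p X K}
  have hsm : ∀ g ∈ H ⊔ C, MulAut.conj g • K = K := fun g hg =>
    Grp.normalizer_le_smul (sup_le hHK (hCK.le.trans Subgroup.le_normalizer)) hg
  obtain ⟨X, hX, hXH⟩ : ∃ X, Grp.IsSylowIn p X K ∧ H ≤ Subgroup.normalizer (X : Set G) := by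
    let r : Setoid Ω := ⟨fun X Y => ∃ c ∈ C, MulAut.conj c • (X : Subgroup G) = Y, ⟨
      fun X => ⟨1, C.one_mem, by rw [map_one, one_smul]⟩,
      fun ⟨c, hc, h⟩ => ⟨c⁻¹, C.inv_mem hc, by rw [← h, Grp.conj_smul_conj_smul, inv_mul_cancel, map_one, one_smul]⟩,
      fun ⟨c, hc, h⟩ ⟨d, hd, h'⟩ => ⟨d * c, C.mul_mem hd hc, by rw [← Grp.conj_smul_conj_smul, h, h']⟩⟩⟩
    letI : MulAction H (Quotient r) :=
      { smul := fun h => Quotient.map' (fun X => ⟨MulAut.conj (h : G) • (X : Subgroup G), X.2.smul (hsm _ (Subgroup.mem_sup_left h.2))⟩)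
          (fun X Y ⟨c, hc, e⟩ => ⟨c, hc, by
            show MulAut.conj c • MulAut.conj (h : G) • (X : Subgroup G) = MulAut.conj (h : G) • (Y : Subgroup G)
            rw [Grp.conj_smul_conj_smul, ← hHC h h.2 c hc, ← Grp.conj_smul_conj_smul, e]⟩)
        one_smul := fun q => by
          induction q using Quotient.inductionOn' with
          | h X => exact congrArg Quotient.mk'' (Subtype.ext (by
              show MulAut.conj ((1 : H) : G) • (X : Subgroup G) = X
              rw [Subgroup.coe_one, map_one, one_smul]))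
        mul_smul := fun a b q => by
          induction q using Quotient.inductionOn' with
          | h X => exact congrArg Quotient.mk'' (Subtype.ext (by
              show MulAut.conj ((a * b : H) : G) • (X : Subgroup G) = MulAut.conj (a : G) • MulAut.conj (b : G) • (X : Subgroup G)
              rw [Grp.conj_smul_conj_smul, Subgroup.coe_mul])) }
    have hfix : ∀ h : H, h ≠ 1 → ∃! q : Quotient r, h • q = q := by
      intro h h1
      have h1' : (h : G) ≠ 1 := fun e => h1 (Subtype.ext e)
      have hsol : Group.IsSolvable ↥(Subgroup.zpowers (h : G)) := inferInstance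
      obtain ⟨X, hX, hXh⟩ := Grp.exists_invariant_sylow (Subgroup.zpowers (h : G)) K (hzK h h.2) (hzc h h.2) (Or.inl hsol) p
      have hself : MulAut.conj (h : G) • X = X := Grp.normalizer_le_smul hXh (Subgroup.mem_zpowers _)
      refine ⟨Quotient.mk'' ⟨X, hX⟩, congrArg Quotient.mk'' (Subtype.ext hself), fun q hq => ?_⟩
      induction q using Quotient.inductionOn' with
      | h Y =>
        obtain ⟨c, hc, e⟩ := Quotient.exact' hq
        -- a fixed point inside the class of `Y`
        let _ := Grp.conjActSubgroup G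
        obtain ⟨Z, ⟨d, hd, hdZ⟩, hZ⟩ := Grp.exists_fixed_point (Subgroup.zpowers (h : G)) C
          {Z : Subgroup G | ∃ d ∈ C, MulAut.conj d • (Y : Subgroup G) = Z}
          (Subgroup.zpowers_le.2 (Subgroup.centralizer_le_normalizer _ (Subgroup.mem_centralizer_iff.2 fun c hc => (hHC h h.2 c hc).symm)))
          ((hzc h h.2).coprime_dvd_right (Subgroup.card_dvd_of_le hCK.le)) (Or.inl hsol)
          ⟨Y, 1, C.one_mem, by rw [map_one, one_smul]⟩
          (by
            rintro a ha Z ⟨d, hd, rfl⟩
            have hcomm : ∀ a ∈ Subgroup.zpowers (h : G), ∀ c ∈ C, a * c = c * a := fun a ha c hc =>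
              hHC a (Subgroup.zpowers_le.2 h.2 ha) c hc
            have hYh : ∀ a ∈ Subgroup.zpowers (h : G), ∃ d ∈ C, MulAut.conj d • (Y : Subgroup G) = MulAut.conj a • (Y : Subgroup G) := by
              intro a ha
              rw [Subgroup.zpowers_eq_closure] at ha
              induction ha using Subgroup.closure_induction with
              | mem a ha =>
                rw [Set.mem_singleton_iff] at ha
                subst ha
                refine ⟨c⁻¹, C.inv_mem hc, ?_⟩
                conv_lhs => rw [← e]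
                show MulAut.conj c⁻¹ • MulAut.conj c • MulAut.conj (h : G) • (Y : Subgroup G) = _
                rw [Grp.conj_smul_conj_smul, inv_mul_cancel, map_one, one_smul]
              | one => exact ⟨1, C.one_mem, rfl⟩
              | mul a b ha hb iha ihb =>
                rw [← Subgroup.zpowers_eq_closure] at ha hb
                obtain ⟨u, hu, hu'⟩ := iha
                obtain ⟨v, hv, hv'⟩ := ihb
                refine ⟨v * u, C.mul_mem hv hu, ?_⟩
                rw [← Grp.conj_smul_conj_smul, hu', Grp.conj_smul_conj_smul, ← hcomm a ha v hv,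
                  ← Grp.conj_smul_conj_smul, hv', Grp.conj_smul_conj_smul]
              | inv a ha iha =>
                rw [← Subgroup.zpowers_eq_closure] at ha
                obtain ⟨u, hu, hu'⟩ := iha
                refine ⟨u⁻¹, C.inv_mem hu, ?_⟩
                have h2 : MulAut.conj (a⁻¹ * u) • (Y : Subgroup G) = (Y : Subgroup G) := by
                  rw [← Grp.conj_smul_conj_smul, hu', Grp.conj_smul_conj_smul, inv_mul_cancel, map_one, one_smul]
                rw [hcomm a⁻¹ (inv_mem ha) u hu, ← Grp.conj_smul_conj_smul] at h2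
                conv_lhs => rw [← h2]
                rw [Grp.conj_smul_conj_smul, inv_mul_cancel, map_one, one_smul]
            obtain ⟨u, hu, hu'⟩ := hYh a ha
            refine ⟨d * u, C.mul_mem hd hu, ?_⟩
            show MulAut.conj (d * u) • (Y : Subgroup G) = MulAut.conj a • MulAut.conj d • (Y : Subgroup G)
            rw [← Grp.conj_smul_conj_smul, hu', Grp.conj_smul_conj_smul, Grp.conj_smul_conj_smul, hcomm a ha d hd])
          (by
            rintro k hk Z ⟨d, hd, rfl⟩
            exact ⟨k * d, C.mul_mem hk hd, (Grp.conj_smul_conj_smul _ _ _).symm⟩)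
          (by
            rintro _ ⟨d, hd, rfl⟩ _ ⟨d', hd', rfl⟩
            refine ⟨d' * d⁻¹, C.mul_mem hd' (C.inv_mem hd), ?_⟩
            show MulAut.conj (d' * d⁻¹) • MulAut.conj d • (Y : Subgroup G) = _
            rw [Grp.conj_smul_conj_smul, inv_mul_cancel_right])
        have hZS : Grp.IsSylowIn p Z K := hdZ ▸ Y.2.smul (hsm _ (Subgroup.mem_sup_right hd))
        obtain ⟨k, hk, hkXZ⟩ := Grp.invariant_sylow_conj (Subgroup.zpowers (h : G)) K (hzK h h.2) (hzc h h.2) (Or.inl hsol)
          hX hZS hXh (fun a ha => Grp.mem_normalizer_iff_smul.2 (hZ a ha))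
        rw [hzp h h.2 h1'] at hk
        refine Quotient.sound' ⟨k⁻¹ * d, C.mul_mem (C.inv_mem hk) hd, ?_⟩
        rw [← Grp.conj_smul_conj_smul, hdZ, ← hkXZ, Grp.conj_smul_conj_smul, inv_mul_cancel, map_one, one_smul]
    obtain ⟨q, hq⟩ := exists_common_fixed hfix
    induction q using Quotient.inductionOn' with
    | h Y =>
    refine ⟨Y, Y.2, fun a ha => Grp.mem_normalizer_iff_smul.2 ?_⟩
    obtain ⟨c, hc, e⟩ := Quotient.exact' (hq ⟨a, ha⟩)
    have e' : MulAut.conj (c * a) • (Y : Subgroup G) = Y := by rw [← Grp.conj_smul_conj_smul]; exact e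
    obtain ⟨m, hm0, hm1⟩ := Nat.chineseRemainder (hcop.coprime_dvd_right (Subgroup.card_dvd_of_le hCK.le)) 1 0
    have hpow : ∀ i : ℕ, MulAut.conj ((c * a) ^ i) • (Y : Subgroup G) = Y := fun i => by
      induction i with
      | zero => rw [pow_zero, map_one, one_smul]
      | succ i ih => rw [pow_succ, ← Grp.conj_smul_conj_smul, e', ih]
    have := hpow m
    have hcm : Commute c a := (hHC a ha c hc).symm
    rw [hcm.mul_pow] at this
    rw [show c ^ m = 1 from orderOf_dvd_iff_pow_eq_one.1 ((C.orderOf_dvd_natCard hc).trans (Nat.modEq_zero_iff_dvd.1 hm1)),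
      one_mul, show a ^ m = a from (pow_eq_pow_iff_modEq.2 (hm0.of_dvd (H.orderOf_dvd_natCard ha))).trans (pow_one a)] at this
    exact this
  -- the section
  set D := C ⊓ X with hD
  have hXcard : Nat.card X = p ^ (Nat.card K).factorization p := hX.card
  have hDX : D < X := by
    refine lt_of_le_of_ne inf_le_right fun e => ?_
    have h1 : Nat.card X ∣ Nat.card C := Subgroup.card_dvd_of_le (e ▸ inf_le_left)
    rw [hXcard, hp.pow_dvd_iff_le_factorization Nat.card_pos.ne'] at h1
    exact hpC h1
  have hXp : IsPGroup p X := IsPGroup.of_card hXcard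
  have hXK : X ≤ K := hX.1
  set M := X ⊓ Subgroup.normalizer (D : Set G) with hM
  have hDM : D < M := by
    haveI := hXp.isNilpotent
    refine lt_of_le_of_ne (le_inf hDX.le Subgroup.le_normalizer) fun e => ?_
    have hne : D.subgroupOf X ≠ ⊤ := fun h => hDX.not_ge (Subgroup.subgroupOf_eq_top.1 h)
    have h1 := normalizerCondition_of_isNilpotent (G := X) (D.subgroupOf X) (lt_top_iff_ne_top.2 hne)
    apply h1.not_ge
    intro x hx
    show (x : G) ∈ D
    rw [e]
    refine ⟨x.2, ?_⟩
    show (x : G) ∈ Subgroup.normalizer (D : Set G)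
    rw [Subgroup.mem_normalizer_iff]
    intro y
    constructor
    · intro hy
      exact ((Subgroup.mem_normalizer_iff.1 hx) ⟨y, hDX.le hy⟩).1 hy
    · intro hy
      have hyX : y ∈ X := by
        have := X.mul_mem (X.mul_mem (X.inv_mem x.2) (hDX.le hy)) x.2
        simpa [mul_assoc] using this
      exact ((Subgroup.mem_normalizer_iff.1 hx) ⟨y, hyX⟩).2 hy
  have hHD : H ≤ Subgroup.normalizer (D : Set G) := fun h hh =>
    Grp.mem_normalizer_iff_smul.2 (by
      rw [hD, Subgroup.smul_inf, Grp.normalizer_le_smul hXH hh, Grp.normalizer_le_smul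
        (A := H) (fun a ha => Subgroup.centralizer_le_normalizer _ (Subgroup.mem_centralizer_iff.2 fun c hc => (hHC a ha c hc).symm)) hh])
  have hHM : H ≤ Subgroup.normalizer (M : Set G) := fun h hh =>
    Grp.mem_normalizer_iff_smul.2 (by
      rw [hM, Subgroup.smul_inf, Grp.normalizer_le_smul hXH hh, Grp.normalizer_le_smul Subgroup.le_normalizer (hHD hh)])
  have hMD : M ≤ Subgroup.normalizer (D : Set G) := inf_le_right
  haveI : (D.subgroupOf M).Normal := Subgroup.normal_subgroupOf_of_le_normalizer hMD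
  set A := M ⧸ D.subgroupOf M
  haveI : Nontrivial A := by
    rw [← Finite.one_lt_card_iff_nontrivial]
    show 1 < Nat.card (M ⧸ D.subgroupOf M)
    rw [← Subgroup.index_eq_card]
    exact Subgroup.one_lt_index_of_ne_top fun h => hDM.not_ge (Subgroup.subgroupOf_eq_top.1 h)
  haveI : Nontrivial (Subgroup.center A) := ((hXp.to_le inf_le_left).to_quotient _).center_nontrivial
  let φM : H →* MulAut M :=
    { toFun := fun h =>
        { toFun := fun x => ⟨(h : G) * x * (h : G)⁻¹, (Subgroup.mem_normalizer_iff.1 (hHM h.2) x).1 x.2⟩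
          invFun := fun x => ⟨(h : G)⁻¹ * x * (h : G), (Subgroup.mem_normalizer_iff''.1 (hHM h.2) x).1 x.2⟩
          left_inv := fun x => Subtype.ext (by show (h : G)⁻¹ * ((h : G) * x * (h : G)⁻¹) * (h : G) = x; group)
          right_inv := fun x => Subtype.ext (by show (h : G) * ((h : G)⁻¹ * x * (h : G)) * (h : G)⁻¹ = x; group)
          map_mul' := fun x y => Subtype.ext (by show (h : G) * (x * y : G) * (h : G)⁻¹ = (h : G) * x * (h : G)⁻¹ * ((h : G) * y * (h : G)⁻¹); group) }
      map_one' := MulEquiv.ext fun x => Subtype.ext (by show ((1 : H) : G) * x * ((1 : H) : G)⁻¹ = x; simp)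
      map_mul' := fun a b => MulEquiv.ext fun x => Subtype.ext (by
        show ((a * b : H) : G) * x * ((a * b : H) : G)⁻¹ = (a : G) * ((b : G) * x * (b : G)⁻¹) * (a : G)⁻¹
        rw [Subgroup.coe_mul]; group) }
  have hmap : ∀ h : H, (D.subgroupOf M).map (φM h).toMonoidHom = D.subgroupOf M := fun h => le_antisymm
    (by
      rintro _ ⟨x, hx, rfl⟩
      exact (Subgroup.mem_normalizer_iff.1 (hHD h.2) x).1 hx)
    (fun x hx => ⟨(φM h).symm x, (Subgroup.mem_normalizer_iff''.1 (hHD h.2) x).1 hx, (φM h).apply_symm_apply x⟩)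
  let φA : H →* MulAut A :=
    { toFun := fun h => QuotientGroup.congr _ _ (φM h) (hmap h)
      map_one' := MulEquiv.ext fun x => by induction x using QuotientGroup.induction_on with | _ x => simp
      map_mul' := fun a b => MulEquiv.ext fun x => by induction x using QuotientGroup.induction_on with | _ x => simp; rfl }
  have hfpf : ∀ h : H, h ≠ 1 → ∀ v : A, φA h v = v → v = 1 := by
    intro h h1 v hv
    induction v using QuotientGroup.induction_on with | _ x =>
    have h1' : (h : G) ≠ 1 := fun e => h1 (Subtype.ext e)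
    have hv' : (φM h x)⁻¹ * x ∈ D.subgroupOf M := QuotientGroup.eq.1 hv
    obtain ⟨c, hc, hc'⟩ := Grp.exists_fixed_rep (Subgroup.zpowers (h : G)) M D
      (Subgroup.zpowers_le.2 (hHM h.2))
      (disjoint_iff.1 (Subgroup.disjoint_of_coprime_natCard ((hzc h h.2).coprime_dvd_right (Subgroup.card_dvd_of_le (inf_le_left.trans hXK)))))
      ((hzc h h.2).coprime_dvd_right (Subgroup.card_dvd_of_le (hDX.le.trans hXK))) (Or.inl inferInstance)
      hDM.le hMD (Subgroup.zpowers_le.2 (hHD h.2)) x.2 (by
        intro a ha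
        rw [← (isOfFinOrder_of_finite (h : G)).mem_powers_iff_mem_zpowers] at ha
        obtain ⟨i, rfl⟩ := ha
        have hpow : φA (h ^ i) (x : A) = (x : A) := by
          induction i with
          | zero => simp
          | succ i ih => rw [pow_succ, map_mul, MulAut.mul_apply, hv, ih]
        have h2 : (φM (h ^ i) x) * x⁻¹ ∈ D.subgroupOf M := by
          rw [← QuotientGroup.eq_one_iff, QuotientGroup.mk_mul, QuotientGroup.mk_inv, mul_inv_eq_one]; exact hpow
        exact h2)
    have hcX : c ∈ D := by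
      refine ⟨?_, hc.1.1⟩
      rw [← hzp h h.2 h1']
      exact ⟨hXK hc.1.1, hc.2⟩
    rw [QuotientGroup.eq_one_iff]
    show (x : G) ∈ D
    have := D.mul_mem hcX (D.inv_mem hc')
    simpa using this
  let φZ : H →* MulAut (Subgroup.center A) :=
    { toFun := fun h => Subgroup.centerCongr (φA h)
      map_one' := MulEquiv.ext fun x => Subtype.ext (by show φA 1 (x : A) = x; rw [map_one]; rfl)
      map_mul' := fun a b => MulEquiv.ext fun x => Subtype.ext (by show φA (a * b) (x : A) = φA a (φA b x); rw [map_mul]; rfl) }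
  letI : CommGroup (Subgroup.center A) :=
    { (inferInstance : Group (Subgroup.center A)) with mul_comm := fun x y => Subtype.ext ((Subgroup.mem_center_iff.1 x.2 y).symm) }
  letI : CommGroup (Shrink.{0} (Subgroup.center A)) := (equivShrink.{0} (Subgroup.center A)).symm.commGroup
  let e : Multiplicative (Additive (Shrink.{0} (Subgroup.center A))) ≃* Subgroup.center A :=
    (MulEquiv.multiplicativeAdditive _).trans Shrink.mulEquiv
  haveI : Nontrivial (Shrink.{0} (Subgroup.center A)) := (equivShrink.{0} (Subgroup.center A)).symm.nontrivial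
  obtain ⟨L, _, _, C', hC', ⟨eC⟩⟩ := Transfer.FrobBuild.exists_frobenius
    (V := Additive (Shrink.{0} (Subgroup.center A))) ((MulAut.congr e.symm).toMonoidHom.comp φZ) (fun h h1 v hv => by
      apply e.injective
      rw [map_one]
      have h2 : φZ h (e v) = e v := by
        have := congrArg e hv
        exact (e.apply_symm_apply _).symm.trans this
      exact Subtype.ext (hfpf h h1 _ (congrArg Subtype.val h2)))
  exact frob_ulift hC' eC

/-- Let G be a finite group and H a subgroup that meets each of its conjugates by elements outside N_G(H) trivially and whose order is coprime to its index in N_G(H). Then H has a normal complement in N_G(H) if and only if H has a normal complement in G. Moreover, if H is not normal in G and has a normal complement in N_G(H), then H is isomorphic to a Frobenius complement of some finite Frobenius group. -/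
theorem result {G : Type u} [Group G] [Finite G] (H : Subgroup G)
    (hTI : Cfsg.IsTISubset (H : Set G)) (hHall : (Nat.card H).Coprime (H.subgroupOf (Subgroup.normalizer (H : Set G))).index) :
    ((∃ K : Subgroup (Subgroup.normalizer (H : Set G)), K.Normal ∧ K.IsComplement' (H.subgroupOf (Subgroup.normalizer (H : Set G)))) ↔
      (∃ N : Subgroup G, N.Normal ∧ N.IsComplement' H)) ∧
    (¬ H.Normal → (∃ K : Subgroup (Subgroup.normalizer (H : Set G)), K.Normal ∧ K.IsComplement' (H.subgroupOf (Subgroup.normalizer (H : Set G)))) →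
      ∃ (F : Type u) (_ : Group F) (_ : Finite F) (C : Subgroup F), Cfsg.IsFrobeniusComplement C ∧ Nonempty (H ≃* C)) := by

  classical
  haveI : Fintype G := Fintype.ofFinite G
  set N := Subgroup.normalizer (H : Set G) with hN
  have hHN : H ≤ N := Subgroup.le_normalizer
  set H' := H.subgroupOf N with hH'
  haveI : H'.Normal := Subgroup.normal_subgroupOf_of_le_normalizer le_rfl
  have hcardH' : Nat.card H' = Nat.card H := Nat.card_congr (Subgroup.subgroupOfEquivOfLe hHN).toEquiv
  have main : (∃ K : Subgroup N, K.Normal ∧ K.IsComplement' H') → ∃ N₀ : Subgroup G, N₀.Normal ∧ N₀.IsComplement' H := by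
    rintro ⟨K, hK, hKH⟩
    haveI := hK
    let π : N →* H := (Subgroup.subgroupOfEquivOfLe hHN).toMonoidHom.comp
      (hKH.symm.QuotientMulEquiv.toMonoidHom.comp (QuotientGroup.mk' K))
    have hπs : Function.Surjective π := (Subgroup.subgroupOfEquivOfLe hHN).surjective.comp
      (hKH.symm.QuotientMulEquiv.surjective.comp (QuotientGroup.mk'_surjective K))
    have hπK : π.ker = K := by
      ext x; simp [π]
    have hπH : ∀ y : H', π (y : N) = ⟨((y : N) : G), y.2⟩ := fun y => by
      have : hKH.symm.QuotientMulEquiv (QuotientGroup.mk' K (y : N)) = y := by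
        rw [← MulEquiv.eq_symm_apply]; rfl
      show (Subgroup.subgroupOfEquivOfLe hHN) (hKH.symm.QuotientMulEquiv (QuotientGroup.mk' K (y : N))) = _
      rw [this]; rfl
    have hKcop : (Nat.card H).Coprime (Nat.card K) := by
      rw [← hKH.index_eq_card] ; exact hHall
    obtain ⟨e, he1, he0⟩ := Nat.chineseRemainder hKcop 1 0
    have hπe : ∀ y : N, ((π y : H) : G) = (y : G) ^ e := by
      intro y
      obtain ⟨⟨k, h⟩, hy⟩ := hKH.2 y
      have hy' : (k : N) * h = y := hy
      have hcm : Commute (k : N) (h : N) := Subgroup.commute_of_normal_of_disjoint K H' inferInstance inferInstance hKH.disjoint _ _ k.2 h.2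
      have hk : π (k : N) = 1 := by rw [← MonoidHom.mem_ker, hπK]; exact k.2
      rw [← hy', map_mul, hk, one_mul, hπH h, ← SubgroupClass.coe_pow, hcm.mul_pow,
        show (k : N) ^ e = 1 from orderOf_dvd_iff_pow_eq_one.1 ((K.orderOf_dvd_natCard k.2).trans (Nat.modEq_zero_iff_dvd.1 he0)),
        one_mul, show (h : N) ^ e = h from (pow_eq_pow_iff_modEq.2 (he1.of_dvd ((H'.orderOf_dvd_natCard h.2).trans hcardH'.dvd))).trans (pow_one _)]
    have key : ∀ (x : G) (m : N), π m ≠ 1 → x * m * x⁻¹ ∈ N → x ∈ N := by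
      intro x m hm hx
      by_contra hxN
      refine hm (Subtype.ext (hTI x hxN _ (π m).2 ?_))
      have := (π ⟨_, hx⟩).2
      rw [hπe, conj_pow, ← hπe] at this
      exact this
    have hext : ∀ θ : IrrCharacter H, ∀ n : N,
        indFun N (fun y : N => (θ : H → ℂ) (π y) - (θ : H → ℂ) (π 1)) (n : G) = (θ : H → ℂ) (π n) - (θ : H → ℂ) (π 1) := by
      intro θ n
      set f : N → ℂ := fun y => (θ : H → ℂ) (π y) - (θ : H → ℂ) (π 1)
      have hfc : IsClassFunction N f := fun g k => by
        simp only [f, map_mul, map_inv, Char.IsIrr.classFun θ.2 (π g) (π k)]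
      have hval : ∀ x ∈ N, extendByZero N f (x⁻¹ * (n : G) * x) = f n := by
        intro x hx
        have hm : x⁻¹ * (n : G) * x ∈ N := N.mul_mem (N.mul_mem (N.inv_mem hx) n.2) hx
        rw [Char.extendByZero_of_mem f hm, ← hfc n ⟨x⁻¹, N.inv_mem hx⟩]
        exact congrArg f (Subtype.ext (by simp))
      have hzero : ∀ x, x ∉ N → extendByZero N f (x⁻¹ * (n : G) * x) = 0 := by
        intro x hx
        by_cases hm : x⁻¹ * (n : G) * x ∈ N
        · rw [Char.extendByZero_of_mem f hm]
          have : π ⟨_, hm⟩ = 1 := by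
            by_contra h
            exact hx (key x ⟨_, hm⟩ h (by simp [mul_assoc]))
          simp only [f, this, map_one, sub_self]
        · exact Char.extendByZero_not_mem f hm
      have hfn : ∀ x, x ∉ N → True := fun _ _ => trivial
      unfold indFun
      rw [← Finset.sum_filter_add_sum_filter_not Finset.univ (fun x : G => x ∈ N),
        Finset.sum_eq_zero (s := Finset.univ.filter fun x : G => ¬ x ∈ N)
          (fun x hx => hzero x (Finset.mem_filter.mp hx).2), add_zero,
        Finset.sum_congr rfl (fun x hx => hval x (Finset.mem_filter.mp hx).2), Finset.sum_const,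
        ← Fintype.card_subtype, nsmul_eq_mul, ← Nat.card_eq_fintype_card, ← mul_assoc,
        inv_mul_cancel₀ (Nat.cast_ne_zero.mpr Nat.card_pos.ne'), one_mul]
    let ψ : IrrCharacter H → G → ℂ := fun θ => Grp.frobExt N (fun y => (θ : H → ℂ) (π y))
    have hirr : ∀ θ, IsIrrCharacter G (ψ θ) := fun θ => ext_irr (Char.IsIrr.comp_surjective π hπs θ.2) (hext θ)
    have hψN : ∀ θ (n : N), ψ θ n = (θ : H → ℂ) (π n) := fun θ n => by
      show indFun N (fun y : N => (θ : H → ℂ) (π y) - (θ : H → ℂ) (π 1)) (n : G) + (θ : H → ℂ) (π 1) = _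
      rw [hext, sub_add_cancel]
    have hψ1 : ∀ θ, ψ θ 1 = (θ : H → ℂ) 1 := fun θ => by simpa using hψN θ 1
    let N₀ : Subgroup G :=
      { carrier := {x | ∀ θ, ψ θ x = ψ θ 1}
        one_mem' := fun _ => rfl
        mul_mem' := fun {x y} hx hy θ => by
          obtain ⟨n, ρ, _, hρ⟩ := hirr θ
          have h2 : ∀ w, ψ θ w = ψ θ 1 ↔ ρ w = 1 := fun w => by
            rw [← hρ, Representation.char_one]; exact Char.character_eq_finrank_iff ρ w
          rw [h2, map_mul, (h2 x).mp (hx θ), (h2 y).mp (hy θ)]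
          rfl
        inv_mem' := fun {x} hx θ => by
          rw [Char.IsIrr.apply_inv (hirr θ) x, hx θ, hψ1]
          obtain ⟨d, -, hd⟩ := Char.IsIrr.one_eq_pos θ.2
          rw [hd, Complex.conj_natCast] }
    haveI hN₀n : N₀.Normal := ⟨fun x hx g θ => by rw [Char.IsIrr.classFun (hirr θ) x g]; exact hx θ⟩
    have hdisj : ∀ x ∈ N₀, x ∈ H → x = 1 := by
      intro x hx hxH
      have hconj : IsConj (π ⟨x, hHN hxH⟩) 1 := by
        refine (Char.isConj_iff_irr _ _).mpr fun θ => ?_
        rw [← hψN, ← hψ1]; exact hx θ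
      have h2 := isConj_one_left.mp hconj
      have h3 : π ⟨x, hHN hxH⟩ = ⟨x, hxH⟩ := hπH ⟨⟨x, hHN hxH⟩, hxH⟩
      rw [h3] at h2
      exact congrArg Subtype.val h2
    refine ⟨N₀, inferInstance, ?_⟩
    have hcard : Nat.card N₀ * Nat.card H = Nat.card G := by
      refine le_antisymm ?_ ?_
      · rw [← Nat.card_prod]
        refine Nat.card_le_card_of_injective (fun x : N₀ × H => (x.1 : G) * x.2) ?_
        rintro ⟨a, h⟩ ⟨b, k⟩ (heq : (a : G) * h = b * k)
        have h1 : (b : G)⁻¹ * a = k * (h : G)⁻¹ := by rw [eq_mul_inv_iff_mul_eq, mul_assoc, heq, inv_mul_cancel_left]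
        have h2 : (b : G)⁻¹ * a = 1 := hdisj _ (N₀.mul_mem (N₀.inv_mem b.2) a.2) (h1 ▸ H.mul_mem k.2 (H.inv_mem h.2))
        rw [h2, eq_comm, mul_inv_eq_one] at h1
        exact Prod.ext (Subtype.ext (inv_mul_eq_one.1 h2).symm) (Subtype.ext h1.symm)
      · have hout : ∀ x : {x : G // x ∉ N₀}, ∃ z : (G ⧸ N) × {m : N // m ∉ K}, z.1.out * (z.2.1 : G) * z.1.out⁻¹ = x := by
          rintro ⟨x, hx⟩
          obtain ⟨θ, hθ⟩ := not_forall.1 hx
          obtain ⟨y, hy, hπy⟩ : ∃ (y : G) (hy : y⁻¹ * x * y ∈ N), π ⟨_, hy⟩ ≠ 1 := by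
            by_contra hne
            push Not at hne
            apply hθ
            show indFun N _ x + _ = ψ θ 1
            rw [Char.indFun_eq_zero_of_not_conj N _ (fun y hy => by simp only [hne y hy, map_one, sub_self]), zero_add, hψ1]
            simp only [map_one]
          obtain ⟨n, hn⟩ := QuotientGroup.mk_out_eq_mul N y
          refine ⟨⟨(y : G ⧸ N), ⟨n⁻¹ * ⟨_, hy⟩ * n⁻¹⁻¹, fun hK' => hπy ?_⟩⟩, ?_⟩
          · rw [← MonoidHom.mem_ker, hπK]
            simpa [mul_assoc] using hK.conj_mem _ hK' n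
          · show (y : G ⧸ N).out * ((n⁻¹ : N) * (y⁻¹ * x * y) * ((n⁻¹⁻¹ : N) : G)) * (y : G ⧸ N).out⁻¹ = x
            rw [hn, Subgroup.coe_inv, inv_inv]; group
        choose F hF using hout
        have hle : Nat.card {x : G // x ∉ N₀} ≤ Nat.card ((G ⧸ N) × {m : N // m ∉ K}) :=
          Nat.card_le_card_of_injective F fun a b hab => Subtype.ext (by rw [← hF a, ← hF b, hab])
        have hG' : Nat.card N₀ + Nat.card {x : G // x ∉ N₀} = Nat.card G := by
          rw [← Nat.card_congr (Equiv.sumCompl (fun x : G => x ∈ N₀)), Nat.card_sum]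
        have hK' : Nat.card K + Nat.card {m : N // m ∉ K} = Nat.card N := by
          rw [← Nat.card_congr (Equiv.sumCompl (fun x : N => x ∈ K)), Nat.card_sum]
        rw [Nat.card_prod, ← Subgroup.index_eq_card] at hle
        have hNc : Nat.card K * Nat.card H = Nat.card N := by rw [← hcardH']; exact hKH.card_mul
        have hidx : N.index * Nat.card N = Nat.card G := N.index_mul_card
        have hN₀ : N.index * Nat.card K ≤ Nat.card N₀ := by
          rw [← hK', Nat.mul_add] at hidx
          omega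
        calc Nat.card G = N.index * Nat.card K * Nat.card H := by rw [mul_assoc, hNc, hidx]
          _ ≤ _ := Nat.mul_le_mul_right _ hN₀
    exact Subgroup.isComplement'_of_card_mul_and_disjoint hcard (Subgroup.disjoint_def.2 (fun {x} hx hxH => hdisj x hx hxH))
  have back : (∃ N₀ : Subgroup G, N₀.Normal ∧ N₀.IsComplement' H) → ∃ K : Subgroup N, K.Normal ∧ K.IsComplement' H' := by
    rintro ⟨N₀, hN₀, hc⟩
    haveI := hN₀
    refine ⟨N₀.subgroupOf N, inferInstance, Subgroup.isComplement'_of_disjoint_and_mul_eq_univ ?_ ?_⟩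
    · exact Subgroup.disjoint_def.2 fun {x} hx hx' => Subtype.ext (Subgroup.disjoint_def.1 hc.disjoint hx hx')
    · rw [Set.eq_univ_iff_forall]
      intro x
      obtain ⟨⟨a, h⟩, hah⟩ := hc.2 (x : G)
      have hah' : (a : G) * h = x := hah
      have haN : (a : G) ∈ N := by
        rw [eq_mul_inv_of_mul_eq hah']; exact N.mul_mem x.2 (N.inv_mem (hHN h.2))
      exact ⟨⟨a, haN⟩, a.2, ⟨h, hHN h.2⟩, h.2, Subtype.ext hah'⟩
  refine ⟨⟨main, back⟩, fun hnn hex => ?_⟩
  obtain ⟨K, hK, hKH⟩ := hex
  obtain ⟨N₀, hN₀, hc⟩ := main ⟨K, hK, hKH⟩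
  haveI := hN₀
  have hH1 : H ≠ ⊥ := fun h => hnn (by rw [h]; infer_instance)
  -- `H` is a Hall subgroup
  have hcop : (Nat.card H).Coprime (Nat.card N₀) := by
    rw [← hc.index_eq_card]
    refine Nat.coprime_of_dvd fun p hp hp1 hp2 => ?_
    haveI := Fact.mk hp
    obtain ⟨P⟩ : Nonempty (Sylow p H) := inferInstance
    set P₀ : Subgroup G := (P : Subgroup H).map H.subtype
    obtain ⟨n, hn⟩ := IsPGroup.iff_card.1 P.isPGroup'
    have hP₀ : Nat.card P₀ = p ^ n := by rw [← hn]; exact Subgroup.card_map_of_injective H.subtype_injective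
    have hP₀ne : (P : Subgroup H) ≠ ⊥ := Sylow.ne_bot_of_dvd_card P hp1
    have hdvd : p ^ (n + 1) ∣ Nat.card G := by
      rw [← H.card_mul_index, pow_succ]
      exact mul_dvd_mul (hn ▸ Subgroup.card_subgroup_dvd_card _) hp2
    have hN₁ : Subgroup.normalizer (P₀ : Set G) ≤ N := by
      intro g hg
      by_contra hgN
      obtain ⟨w, hw, hw1⟩ := (P : Subgroup H).bot_or_exists_ne_one.resolve_left hP₀ne
      exact hw1 (Subtype.ext (hTI g hgN (w : G) w.2 (by
        obtain ⟨u, -, hu⟩ := (Subgroup.mem_normalizer_iff.1 hg _).1 ⟨w, hw, rfl⟩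
        exact hu ▸ u.2)))
    have h1 := Sylow.prime_dvd_card_quotient_normalizer hdvd hP₀
    rw [← Subgroup.index_eq_card] at h1
    have h2 : P₀.relIndex (Subgroup.normalizer (P₀ : Set G)) ∣ P₀.relIndex N := by
      rw [← Subgroup.relIndex_mul_relIndex P₀ _ N Subgroup.le_normalizer hN₁]
      exact Dvd.intro _ rfl
    have h3 : p ∣ P₀.relIndex N := dvd_trans h1 h2
    rw [← Subgroup.relIndex_mul_relIndex P₀ H N (Subgroup.map_subtype_le _) hHN] at h3
    rcases hp.dvd_mul.1 h3 with h | h
    · refine P.not_dvd_index ?_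
      have : P₀.relIndex H = (P : Subgroup H).index := by
        rw [Subgroup.relIndex, Subgroup.subgroupOf, Subgroup.comap_map_eq_self_of_injective H.subtype_injective]
      rwa [this] at h
    · exact hp.one_lt.ne' (Nat.eq_one_of_dvd_coprimes hHall hp1 h)
  have hcomm : ∀ x ∈ N₀, x ∈ N → x ∈ Subgroup.centralizer (H : Set G) := fun x hx hxN =>
    Subgroup.mem_centralizer_iff.2 fun h hh =>
      (congrArg Subtype.val (Subgroup.commute_of_normal_of_disjoint (N₀.subgroupOf N) H' inferInstance inferInstance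
        (Subgroup.disjoint_def.2 fun {y} hy hy' => Subtype.ext (Subgroup.disjoint_def.1 hc.disjoint hy hy'))
        ⟨x, hxN⟩ ⟨h, hHN hh⟩ hx hh).eq.symm :)
  refine exists_complement H N₀ (N₀ ⊓ Subgroup.centralizer (H : Set G)) hH1 Subgroup.le_normalizer_of_normal
    hcop (lt_of_le_of_ne inf_le_left fun h => hnn ?_) fun h hh h1 => le_antisymm ?_ ?_
  · refine Subgroup.normalizer_eq_top_iff.1 (eq_top_iff.2 ?_)
    rw [← hc.sup_eq_top]
    exact sup_le ((h.ge.trans inf_le_right).trans (Subgroup.centralizer_le_normalizer _)) Subgroup.le_normalizer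
  · rintro x ⟨hx, hxc⟩
    refine ⟨hx, hcomm x hx ?_⟩
    by_contra hxN
    refine h1 (hTI x hxN h hh ?_)
    rw [Subgroup.mem_centralizer_singleton_iff.1 hxc, mul_inv_cancel_right]
    exact hh
  · exact inf_le_inf_left _ (Subgroup.centralizer_le (Set.singleton_subset_iff.2 hh))

end Cfsg.Agent.S4115
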