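import Cfsg.Statements.S4116
import Mathlib

set_option maxHeartbeats 1000000
set_option maxRecDepth 8000

set_option autoImplicit false
open Cfsg

namespace Cfsg.Agent.S4116

/-- Let G be a finite group with a subgroup H whose order is coprime to its index (a Hall subgroup) and which meets each of its conjugates by elements outside N_G(H) trivially. Then every subgroup of G whose order is divisible only by primes dividing the order of H lies in a conjugate of H. -/
theorem result {G : Type*} [Group G] [Finite G] (H : Subgroup G)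
    (hHall : (Nat.card H).Coprime H.index) (hTI : Cfsg.IsTISubset (H : Set G))
    (K : Subgroup G) (hK : ∀ q : ℕ, q.Prime → q ∣ Nat.card K → q ∣ Nat.card H) :
    ∃ g : G, K ≤ H.map (MulAut.conj g).toMonoidHom := by
  classical
  set N := Subgroup.normalizer (H : Set G) with hN
  have hHN : H ≤ N := Subgroup.le_normalizer
  haveI hHn : (H.subgroupOf N).Normal := Subgroup.normal_subgroupOf_of_le_normalizer le_rfl
  have hπ : ∀ x ∈ K, (orderOf x).Coprime H.index := by
    intro x hx
    refine Nat.coprime_of_dvd fun q hq hqx hqi => ?_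
    exact hq.not_dvd_one ((Nat.eq_one_of_dvd_coprimes hHall (hK q hq (hqx.trans (Subgroup.orderOf_dvd_natCard K hx))) hqi).dvd)
  -- a `π`-element normalizing a conjugate of `H` lies in it
  have hmem : ∀ x ∈ K, ∀ g : G, g⁻¹ * x * g ∈ N → g⁻¹ * x * g ∈ H := by
    intro x hx g hg
    refine (QuotientGroup.eq_one_iff (N := H.subgroupOf N) ⟨g⁻¹ * x * g, hg⟩).1 (orderOf_eq_one_iff.1 ?_)
    refine Nat.eq_one_of_dvd_coprimes (hπ x hx) ?_ ((orderOf_dvd_natCard _).trans ?_)
    · refine (orderOf_map_dvd (QuotientGroup.mk' _) _).trans ?_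
      rw [Subgroup.orderOf_mk, show g⁻¹ * x * g = MulAut.conj g⁻¹ x by simp [MulAut.conj_apply], MulEquiv.orderOf_eq]
    · rw [← Subgroup.index_eq_card]
      exact Subgroup.relIndex_dvd_index_of_le hHN
  letI : MulAction K (G ⧸ N) := MulAction.compHom _ K.subtype
  have hfix : ∀ (x : K) (g : G), x • (g : G ⧸ N) = g ↔ g⁻¹ * x * g ∈ N := fun x g => by
    show (((x : G) * g : G) : G ⧸ N) = g ↔ _
    rw [eq_comm, QuotientGroup.eq, mul_assoc]
  have hex : ∀ x : K, x ≠ 1 → ∃! ω : G ⧸ N, x • ω = ω := by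
    intro x hx1
    obtain ⟨p, hp, hpx⟩ := Nat.exists_prime_and_dvd (fun h => hx1 (orderOf_eq_one_iff.1 h))
    haveI : Fact p.Prime := ⟨hp⟩
    obtain ⟨y, hy, hyo⟩ : ∃ y ∈ Subgroup.zpowers (x : G), orderOf y = p := by
      rw [← Subgroup.orderOf_coe] at hpx
      exact ⟨(x : G) ^ (orderOf (x : G) / p), pow_mem (Subgroup.mem_zpowers _) _, orderOf_pow_orderOf_div (orderOf_pos _).ne' hpx⟩
    have hpH : ¬ p ∣ H.index := fun h =>
      hp.not_dvd_one ((Nat.eq_one_of_dvd_coprimes (hπ x x.2) (by rw [Subgroup.orderOf_coe]; exact hpx) h).dvd)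
    -- a Sylow subgroup of `H` is one of `G`
    obtain ⟨S⟩ : Nonempty (Sylow p H) := inferInstance
    have hSi : ¬ p ∣ ((S : Subgroup H).map H.subtype).index := by
      rw [Subgroup.index_map_subtype]
      exact hp.not_dvd_mul S.not_dvd_index hpH
    let T : Sylow p G := (S.isPGroup'.map H.subtype).toSylow hSi
    have hyp : IsPGroup p (Subgroup.zpowers y) := IsPGroup.of_card (n := 1) (by rw [Nat.card_zpowers, hyo, pow_one])
    obtain ⟨R, hR⟩ := hyp.exists_le_sylow
    obtain ⟨g, hg⟩ := MulAction.exists_smul_eq G T R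
    have hyH : g⁻¹ * y * g ∈ H := by
      have h1 : y ∈ ((g • T : Sylow p G) : Subgroup G) := hg ▸ hR (Subgroup.mem_zpowers y)
      obtain ⟨t, ht, e⟩ := h1
      have e' : g * t * g⁻¹ = y := e
      rw [← e', show g⁻¹ * (g * t * g⁻¹) * g = t by group]
      exact Subgroup.map_subtype_le _ ht
    have hy1 : g⁻¹ * y * g ≠ 1 := by
      intro h
      have : y = 1 := by rw [show y = g * (g⁻¹ * y * g) * g⁻¹ by group, h]; group
      rw [this, orderOf_one] at hyo
      exact hp.ne_one hyo.symm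
    have hc : g⁻¹ * x * g * (g⁻¹ * y * g) * (g⁻¹ * x * g)⁻¹ = g⁻¹ * y * g := by
      obtain ⟨i, rfl⟩ := Subgroup.mem_zpowers_iff.1 hy
      group
    have hxN : g⁻¹ * x * g ∈ N := by
      by_contra h
      exact hy1 (hTI _ h _ hyH (by rw [hc]; exact hyH))
    refine ⟨(g : G ⧸ N), (hfix x g).2 hxN, fun ω hω => ?_⟩
    obtain ⟨g', rfl⟩ := QuotientGroup.mk_surjective ω
    have h1 := hmem x x.2 g' ((hfix x g').1 hω)
    have h2 := hmem x x.2 g hxN
    refine QuotientGroup.eq.2 ?_
    by_contra h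
    have h3 := hTI (g'⁻¹ * g) h _ h2 (by
      rw [show g'⁻¹ * g * (g⁻¹ * x * g) * (g'⁻¹ * g)⁻¹ = g'⁻¹ * x * g' by group]; exact h1)
    apply hx1
    ext
    rw [show (x : G) = g * (g⁻¹ * x * g) * g⁻¹ by group, h3]; simp
  rcases eq_or_ne K ⊥ with rfl | hKne
  · exact ⟨1, bot_le⟩
  haveI := Fintype.ofFinite (G ⧸ N)
  let s : (G ⧸ N) → ℕ := fun ω => Nat.card (MulAction.stabilizer K ω) - 1
  have hsum : ∑ ω, s ω + 1 = Nat.card K := by
    have e : (Σ ω : G ⧸ N, {x : MulAction.stabilizer K ω // x ≠ 1}) ≃ {x : K // x ≠ 1} :=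
      Equiv.ofBijective (fun t => ⟨t.2.1.1, fun h => t.2.2 (Subtype.ext h)⟩) ⟨fun ⟨a, b, hb⟩ ⟨c, d, hd⟩ h => by
        have h' : (b : K) = d := congrArg Subtype.val h
        obtain rfl : a = c := (hex _ (fun h0 => hb (Subtype.ext h0))).unique b.2 (h' ▸ d.2)
        obtain rfl : b = d := Subtype.ext h'
        rfl, fun ⟨x, hx⟩ => by
        obtain ⟨ω, hω, -⟩ := hex x hx
        exact ⟨⟨ω, ⟨x, hω⟩, fun h => hx (congrArg Subtype.val h)⟩, rfl⟩⟩
    have hone : ∀ (X : Type _) [Finite X] [One X], Nat.card {x : X // x ≠ 1} = Nat.card X - 1 := fun X _ _ => by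
      haveI := Fintype.ofFinite X
      rw [Nat.card_eq_fintype_card, Nat.card_eq_fintype_card, Fintype.card_subtype_compl, Fintype.card_subtype_eq]
    have := Nat.card_congr e
    rw [Nat.card_sigma, hone K] at this
    simp only [hone] at this
    have hpos : 0 < Nat.card K := Nat.card_pos
    simp only [s]; omega
  -- the contribution of one orbit
  let O : (G ⧸ N) → Finset (G ⧸ N) := fun ω => Finset.univ.filter (· ∈ MulAction.orbit K ω)
  have horb : ∀ ω, ∑ ν ∈ O ω, s ν + (O ω).card = Nat.card K := by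
    intro ω
    have hk : (O ω).card = (MulAction.stabilizer K ω).index := by
      rw [MulAction.index_stabilizer, ← Set.ncard_coe_finset]; simp [O]
    have hconst : ∀ ν ∈ O ω, s ν = s ω := by
      intro ν hν
      obtain ⟨x, rfl⟩ := (Finset.mem_filter.1 hν).2
      simp only [s, MulAction.stabilizer_smul_eq_stabilizer_map_conj]
      rw [Subgroup.card_map_of_injective (MulAut.conj x).injective]
    rw [Finset.sum_congr rfl hconst, Finset.sum_const, smul_eq_mul, hk, ← (MulAction.stabilizer K ω).card_mul_index]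
    simp only [s]
    have : 0 < Nat.card (MulAction.stabilizer K ω) := Nat.card_pos
    obtain ⟨c, hc⟩ := Nat.exists_eq_add_of_le this
    rw [hc, Nat.add_sub_cancel_left]; ring
  obtain ⟨x₀, hx₀, hx₁⟩ := (Subgroup.bot_or_exists_ne_one K).resolve_left hKne
  obtain ⟨ω₁, hω₁, -⟩ := hex ⟨x₀, hx₀⟩ (fun h => hx₁ (congrArg Subtype.val h))
  have hhalf : ∀ ω, 0 < s ω → 2 * (O ω).card ≤ Nat.card K := by
    intro ω hω
    rw [← (MulAction.stabilizer K ω).card_mul_index, show (O ω).card = (MulAction.stabilizer K ω).index by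
      rw [MulAction.index_stabilizer, ← Set.ncard_coe_finset]; simp [O]]
    exact Nat.mul_le_mul_right _ (by simp only [s] at hω; omega)
  have hs1 : 0 < s ω₁ := by
    have : 1 < Nat.card (MulAction.stabilizer K ω₁) := by
      rw [Subgroup.one_lt_card_iff_ne_bot]
      intro h
      have h1 : (⟨x₀, hx₀⟩ : K) ∈ MulAction.stabilizer K ω₁ := hω₁
      rw [h, Subgroup.mem_bot] at h1
      exact hx₁ (congrArg Subtype.val h1)
    simp only [s]; omega
  have hsplit := Finset.sum_add_sum_compl (O ω₁) s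
  have h1 := horb ω₁
  have h2 := hhalf ω₁ hs1
  -- a second orbit is impossible
  have hcard1 : (O ω₁).card = 1 := by
    have hpos : 0 < (O ω₁).card := Finset.card_pos.2 ⟨ω₁, Finset.mem_filter.2 ⟨Finset.mem_univ _, MulAction.mem_orbit_self _⟩⟩
    by_contra hne
    obtain ⟨ω₂, hω₂, hs2⟩ : ∃ ω ∈ (O ω₁)ᶜ, 0 < s ω := by
      by_contra h
      push Not at h
      have : ∑ ω ∈ (O ω₁)ᶜ, s ω = 0 := Finset.sum_eq_zero fun ω hω => Nat.le_zero.1 (h ω hω)
      omega
    have h3 := hhalf ω₂ hs2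
    have h4 := horb ω₂
    have hsub : O ω₂ ⊆ (O ω₁)ᶜ := by
      intro ν hν
      simp only [O, Finset.mem_compl, Finset.mem_filter, Finset.mem_univ, true_and] at hν hω₂ ⊢
      intro h
      exact hω₂ (by rw [← MulAction.orbit_eq_iff.2 h, MulAction.orbit_eq_iff.2 hν]; exact MulAction.mem_orbit_self _)
    have h5 := Finset.sum_le_sum_of_subset (f := s) hsub
    omega
  obtain ⟨g, rfl⟩ := QuotientGroup.mk_surjective ω₁
  refine ⟨g, fun x hx => ⟨g⁻¹ * x * g, hmem x hx g ((hfix ⟨x, hx⟩ g).1 ?_), by simp [mul_assoc]⟩⟩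
  refine Finset.card_le_one.1 hcard1.le _ ?_ _ ?_
  · exact Finset.mem_filter.2 ⟨Finset.mem_univ _, MulAction.mem_orbit _ _⟩
  · exact Finset.mem_filter.2 ⟨Finset.mem_univ _, MulAction.mem_orbit_self _⟩

end Cfsg.Agent.S4116
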