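import Cfsg.Statements.S4117
import Mathlib

set_option maxHeartbeats 1000000
set_option maxRecDepth 8000

set_option autoImplicit false
open Cfsg
open scoped commutatorElement Pointwise

namespace Cfsg.Agent.S4117

/-- Let A be a finite group acting on the finite group G by automorphisms with the orders of A and G coprime, and suppose every Sylow subgroup of G is cyclic. Then the fixed-point subgroup C_G(A) is a Hall subgroup of G (its order is coprime to its index), the subgroup [G, A] generated by the elements g⁻¹·a(g) is cyclic and normal with [G, A] ∩ C_G(A) = 1 and [G, A]·C_G(A) = G. -/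
theorem result {G A : Type*} [Group G] [Finite G] [Group A] [Finite A]
    [MulDistribMulAction A G] (hcop : (Nat.card A).Coprime (Nat.card G))
    (hcyc : ∀ (p : ℕ) [Fact p.Prime] (P : Sylow p G), IsCyclic (P : Subgroup G)) :
    (Nat.card (MulAction.fixedPoints A G : Set G)).Coprime (Nat.card G / Nat.card (MulAction.fixedPoints A G : Set G)) ∧
    IsCyclic (Subgroup.closure {y : G | ∃ (a : A) (g : G), y = g⁻¹ * a • g}) ∧
    (Subgroup.closure {y : G | ∃ (a : A) (g : G), y = g⁻¹ * a • g}).Normal ∧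
    (Subgroup.closure {y : G | ∃ (a : A) (g : G), y = g⁻¹ * a • g} : Set G) ∩ MulAction.fixedPoints A G = {1} ∧
    Subgroup.closure {y : G | ∃ (a : A) (g : G), y = g⁻¹ * a • g} ⊔ Subgroup.closure (MulAction.fixedPoints A G) = ⊤ := by
  classical
  haveI hZ : IsZGroup G := ⟨fun p hp P => by haveI := Fact.mk hp; exact hcyc p P⟩
  set D := commutator G with hD
  haveI hDc : IsCyclic D := IsZGroup.isCyclic_commutator G
  set M := Subgroup.centralizer (D : Set G) with hM
  haveI : IsMulCommutative M := by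
    haveI : Group.IsNilpotent M := by
      refine (Subgroup.nilpotent_iff_lowerCentralSeries).2 ⟨2, ?_⟩
      refine Subgroup.map_injective M.subtype_injective ?_
      rw [Subgroup.map_bot, Subgroup.top_subtype_lowerCentralSeries]
      show ⁅⁅M, M⁆, M⁆ = ⊥
      refine Subgroup.commutator_eq_bot_iff_le_centralizer.2 ?_
      refine le_trans (Subgroup.commutator_mono le_top le_top) ?_
      exact fun d hd => Subgroup.mem_centralizer_iff.2 fun m hm => (Subgroup.mem_centralizer_iff.1 hm d hd).symm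
    haveI : IsCyclic M := inferInstance
    exact ⟨⟨fun a b => IsCyclic.commGroup.mul_comm a b⟩⟩
  set N := Subgroup.closure {y : G | ∃ (a : A) (g : G), y = g⁻¹ * a • g} with hN
  have hsmulD : ∀ (a : A), ∀ d ∈ D, a • d ∈ D := fun a d hd => by
    have : (MulDistribMulAction.toMulAut A G a) d ∈ D := by
      rw [hD, ← Subgroup.Characteristic.fixed (H := commutator G) inferInstance (MulDistribMulAction.toMulAut A G a)] at hd
      exact hd
    exact this
  have hgen : ∀ (a : A) (g : G), g⁻¹ * a • g ∈ M := by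
    intro a g
    refine Subgroup.mem_centralizer_iff.2 fun d hd => ?_
    have hDn : D.Normal := inferInstance
    obtain ⟨⟨t, ht⟩, htg⟩ := IsCyclic.exists_generator (α := D)
    have hpw : ∀ x ∈ D, ∃ i : ℤ, t ^ i = x := fun x hx => by
      obtain ⟨i, hi⟩ := htg ⟨x, hx⟩
      exact ⟨i, congrArg Subtype.val hi⟩
    obtain ⟨r, hr⟩ := hpw _ (hDn.conj_mem t ht g)
    obtain ⟨s, hs⟩ := hpw _ (hsmulD a t ht)
    -- conjugation by `a • g` and by `g` agree on `D`
    have h1 : (a • g) * t * (a • g)⁻¹ = t ^ r := by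
      obtain ⟨s', hs'⟩ := hpw _ (hsmulD a⁻¹ t ht)
      calc (a • g) * t * (a • g)⁻¹ = a • (g * (t ^ s') * g⁻¹) := by
            rw [hs', smul_mul', smul_mul', smul_inv', smul_inv_smul]
        _ = a • ((t ^ r) ^ s') := by rw [← MulAut.conj_apply, map_zpow, MulAut.conj_apply, hr]
        _ = (a • (t ^ s')) ^ r := by rw [← zpow_mul, mul_comm, zpow_mul]; exact map_zpow (MulDistribMulAction.toMonoidHom G a) _ _
        _ = t ^ r := by rw [hs', smul_inv_smul]
    obtain ⟨i, rfl⟩ := hpw d hd
    have h2 : g⁻¹ * (a • g) * t * (g⁻¹ * (a • g))⁻¹ = t := by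
      calc g⁻¹ * (a • g) * t * (g⁻¹ * (a • g))⁻¹ = g⁻¹ * ((a • g) * t * (a • g)⁻¹) * g := by group
        _ = g⁻¹ * (g * t * g⁻¹) * g := by rw [h1, hr]
        _ = t := by group
    have h3 : Commute (g⁻¹ * (a • g)) t := mul_inv_eq_iff_eq_mul.1 h2
    exact (h3.zpow_right i).eq.symm
  have hNM : N ≤ M := (Subgroup.closure_le M).2 (by rintro _ ⟨a, g, rfl⟩; exact hgen a g)
  have hmem : ∀ (a : A) (g : G), g⁻¹ * a • g ∈ N := fun a g => Subgroup.subset_closure ⟨a, g, rfl⟩
  haveI hNn : N.Normal := by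
    refine ⟨fun n hn g => ?_⟩
    induction hn using Subgroup.closure_induction with
    | mem y hy =>
      obtain ⟨a, h, rfl⟩ := hy
      have e : g * (h⁻¹ * a • h) * g⁻¹ = ((h * g⁻¹)⁻¹ * a • (h * g⁻¹)) * ((g⁻¹)⁻¹ * a • g⁻¹)⁻¹ := by
        rw [smul_mul']; group
      rw [e]
      exact N.mul_mem (hmem a _) (N.inv_mem (hmem a _))
    | one => simp
    | mul u v _ _ hu hv => rw [show g * (u * v) * g⁻¹ = (g * u * g⁻¹) * (g * v * g⁻¹) by group]; exact N.mul_mem hu hv
    | inv u _ hu => rw [show g * u⁻¹ * g⁻¹ = (g * u * g⁻¹)⁻¹ by group]; exact N.inv_mem hu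
  haveI hNc : IsMulCommutative N := ⟨⟨fun x y => Subtype.ext (show (x : G) * y = y * x from
    congrArg Subtype.val (mul_comm' (⟨x, hNM x.2⟩ : M) ⟨y, hNM y.2⟩))⟩⟩
  have hNcyc : IsCyclic N := by
    letI : CommGroup N := { (inferInstance : Group N) with mul_comm := fun a b => mul_comm' a b }
    infer_instance
  letI : CommGroup N := { (inferInstance : Group N) with mul_comm := fun a b => mul_comm' a b }
  have hNA : ∀ (a : A), ∀ x ∈ N, a • x ∈ N := fun a x hx => by
    have h := N.mul_mem hx (hmem a x)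
    rwa [mul_inv_cancel_left] at h
  let act : A → N →* N := fun a =>
    { toFun := fun x => ⟨a • (x : G), hNA a x x.2⟩
      map_one' := Subtype.ext (smul_one a)
      map_mul' := fun x y => Subtype.ext (smul_mul' a (x : G) y) }
  haveI := Fintype.ofFinite A
  let c : A → G → N := fun a g => ⟨g⁻¹ * a • g, hmem a g⟩
  have hcm : ∀ (a b : A) (g : G), c (a * b) g = c a g * act a (c b g) := fun a b g => Subtype.ext (by
    show g⁻¹ * (a * b) • g = (g⁻¹ * a • g) * a • (g⁻¹ * b • g)
    rw [smul_mul', smul_inv', smul_smul]; group)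
  have hcopN : (Fintype.card A).Coprime (Nat.card N) := by
    rw [← Nat.card_eq_fintype_card]; exact hcop.coprime_dvd_right (Subgroup.card_subgroup_dvd_card N)
  -- the norm kills `N`
  have hnorm : ∀ x : N, ∏ b : A, act b x = 1 := by
    rintro ⟨x, hx⟩
    let π : N →* N := ∏ b : A, act b
    have hπ : ∀ y : N, π y = ∏ b : A, act b y := fun y => MonoidHom.finsetProd_apply _ _ _
    suffices h : (⊤ : Subgroup N) ≤ π.ker by rw [← hπ]; exact h (Subgroup.mem_top _)
    rw [← Subgroup.closure_closure_coe_preimage (k := {y : G | ∃ (a : A) (g : G), y = g⁻¹ * a • g}), Subgroup.closure_le]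
    rintro ⟨_, hy⟩ ⟨a, g, rfl⟩
    rw [SetLike.mem_coe, MonoidHom.mem_ker, hπ]
    have e : ∀ b, act b (c a g) = (c b g)⁻¹ * c (b * a) g := fun b => by rw [hcm, inv_mul_cancel_left]
    show ∏ b : A, act b (c a g) = 1
    simp only [e]
    rw [Finset.prod_mul_distrib, Finset.prod_inv_distrib, inv_mul_eq_one]
    exact (Equiv.prod_comp (Equiv.mulRight a) (fun b => c b g)).symm
  set C := Subgroup.closure (MulAction.fixedPoints A G : Set G) with hC
  have hCmem : ∀ x ∈ C, ∀ a : A, a • x = x := fun x hx => by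
    induction hx using Subgroup.closure_induction with
    | mem y hy => exact hy
    | one => exact fun a => smul_one a
    | mul u v _ _ hu hv => exact fun a => by rw [smul_mul', hu a, hv a]
    | inv u _ hu => exact fun a => by rw [smul_inv', hu a]
  have hCeq : (C : Set G) = MulAction.fixedPoints A G :=
    Set.Subset.antisymm (fun x hx a => hCmem x hx a) Subgroup.subset_closure
  have hinter : ∀ x ∈ N, x ∈ MulAction.fixedPoints A G → x = 1 := fun x hx hfix => by
    have h1 := hnorm ⟨x, hx⟩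
    have h2 : ∀ b, act b ⟨x, hx⟩ = ⟨x, hx⟩ := fun b => Subtype.ext (hfix b)
    simp only [h2, Finset.prod_const, Finset.card_univ] at h1
    exact congrArg Subtype.val (orderOf_eq_one_iff.1 (Nat.eq_one_of_dvd_coprimes hcopN
      (orderOf_dvd_of_pow_eq_one h1) (orderOf_dvd_natCard _)))
  have htop : N ⊔ C = ⊤ := by
    refine eq_top_iff.2 fun g _ => ?_
    obtain ⟨u, v, huv⟩ : IsCoprime (Fintype.card A : ℤ) (Nat.card N : ℤ) := Nat.isCoprime_iff_coprime.2 hcopN
    let s : N := ∏ b : A, c b g
    have hs : ∀ a, s = c a g ^ Fintype.card A * act a s := fun a => by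
      calc s = ∏ b : A, c (a * b) g := (Equiv.prod_comp (Equiv.mulLeft a) (fun b => c b g)).symm
        _ = ∏ b : A, c a g * act a (c b g) := by simp only [hcm]
        _ = _ := by rw [Finset.prod_mul_distrib, Finset.prod_const, Finset.card_univ, ← map_prod]
    have hn : ∀ a, c a g * act a (s ^ u) = s ^ u := fun a => by
      rw [map_zpow]
      nth_rewrite 2 [hs a]
      rw [mul_zpow]
      congr 1
      rw [← zpow_natCast, ← zpow_mul]
      conv_lhs => rw [← zpow_one (c a g), ← huv, zpow_add, mul_comm u, mul_comm v]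
      rw [zpow_mul (c a g) (Nat.card N : ℤ), zpow_natCast, pow_card_eq_one', one_zpow, mul_one]
    have hfix : g * ((s ^ u : N) : G) ∈ C := Subgroup.subset_closure fun a => by
      have h := congrArg Subtype.val (hn a)
      show a • (g * ((s ^ u : N) : G)) = _
      rw [smul_mul']
      calc a • g * a • ((s ^ u : N) : G) = g * ((g⁻¹ * a • g) * a • ((s ^ u : N) : G)) := by group
        _ = _ := congrArg (g * ·) h
    have h2 := Subgroup.mul_mem _ (Subgroup.mem_sup_right hfix) (Subgroup.mem_sup_left (N.inv_mem (s ^ u).2) : _ ∈ N ⊔ C)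
    rwa [mul_inv_cancel_right] at h2
  have hdis : N ⊓ C = ⊥ := (Subgroup.eq_bot_iff_forall _).2 fun x hx => hinter x hx.1 (hCeq ▸ hx.2 : x ∈ MulAction.fixedPoints A G)
  refine ⟨?_, hNcyc, hNn, ?_, htop⟩
  · have hcard : Nat.card G = Nat.card N * Nat.card C :=
      (Subgroup.isComplement'_of_disjoint_and_mul_eq_univ (disjoint_iff.2 hdis)
        (by rw [← Subgroup.normal_mul, htop]; rfl)).card_mul.symm
    have hfc : Nat.card (MulAction.fixedPoints A G : Set G) = Nat.card C := Nat.card_congr (Equiv.setCongr hCeq.symm)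
    rw [hfc, hcard, Nat.mul_div_cancel _ Nat.card_pos]
    refine Nat.coprime_of_dvd fun p hp hpC hpN => ?_
    haveI := Fact.mk hp
    obtain ⟨⟨c0, hc0⟩, hoc⟩ := exists_prime_orderOf_dvd_card' (G := C) p hpC
    obtain ⟨⟨n0, hn0⟩, hon⟩ := exists_prime_orderOf_dvd_card' (G := N) p hpN
    rw [Subgroup.orderOf_mk] at hoc hon
    have hpc : IsPGroup p (Subgroup.zpowers c0) := IsPGroup.of_card (n := 1) (by rw [Nat.card_zpowers, hoc, pow_one])
    have hpn : IsPGroup p (Subgroup.zpowers n0) := IsPGroup.of_card (n := 1) (by rw [Nat.card_zpowers, hon, pow_one])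
    obtain ⟨P, hP⟩ := hpn.exists_le_sylow
    obtain ⟨Q, hQ⟩ := hpc.exists_le_sylow
    obtain ⟨g, hg⟩ := MulAction.exists_smul_eq G Q P
    have hcP : g * c0 * g⁻¹ ∈ (P : Subgroup G) := by
      rw [← hg]; exact ⟨c0, hQ (Subgroup.mem_zpowers _), rfl⟩
    haveI : IsCyclic (P : Subgroup G) := hcyc p P
    have horc : orderOf (⟨_, hcP⟩ : (P : Subgroup G)) = p := by
      rw [Subgroup.orderOf_mk, ← MulAut.conj_apply, MulEquiv.orderOf_eq, hoc]
    have horn : orderOf (⟨n0, hP (Subgroup.mem_zpowers _)⟩ : (P : Subgroup G)) = p := by rw [Subgroup.orderOf_mk, hon]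
    obtain ⟨i, hi⟩ : ∃ i : ℤ, (⟨n0, hP (Subgroup.mem_zpowers _)⟩ : (P : Subgroup G)) ^ i = ⟨_, hcP⟩ := by
      by_contra hne
      push Not at hne
      letI := Fintype.ofFinite (P : Subgroup G)
      have h5 := IsCyclic.card_pow_eq_one_le (α := (P : Subgroup G)) (n := p) hp.pos
      set u : (P : Subgroup G) := ⟨n0, hP (Subgroup.mem_zpowers _)⟩
      set w : (P : Subgroup G) := ⟨_, hcP⟩
      have h6 : insert w (Finset.univ.filter fun z => z ∈ Subgroup.zpowers u) ⊆
          Finset.univ.filter fun z : (P : Subgroup G) => z ^ p = 1 := by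
        intro z hz
        rw [Finset.mem_filter]
        refine ⟨Finset.mem_univ _, ?_⟩
        rcases Finset.mem_insert.1 hz with rfl | hz
        · exact orderOf_dvd_iff_pow_eq_one.1 horc.dvd
        · exact orderOf_dvd_iff_pow_eq_one.1 ((orderOf_dvd_of_mem_zpowers (Finset.mem_filter.1 hz).2).trans horn.dvd)
      have h7 := (Finset.card_le_card h6).trans h5
      rw [Finset.card_insert_of_notMem (by simpa [Subgroup.mem_zpowers_iff] using hne), ← Fintype.card_subtype,
        ← Nat.card_eq_fintype_card] at h7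
      have h8 : Nat.card {z // z ∈ Subgroup.zpowers u} = p := by
        show Nat.card (Subgroup.zpowers u) = p
        rw [Nat.card_zpowers, horn]
      omega
    have h3 : g * c0 * g⁻¹ ∈ N := by
      have e : n0 ^ i = g * c0 * g⁻¹ := by simpa using congrArg Subtype.val hi
      rw [← e]; exact N.zpow_mem hn0 i
    have h4 := hNn.conj_mem _ h3 g⁻¹
    rw [show g⁻¹ * (g * c0 * g⁻¹) * g⁻¹⁻¹ = c0 by group] at h4
    rw [hinter c0 h4 (hCmem c0 hc0), orderOf_one] at hoc
    exact hp.one_lt.ne hoc
  · ext x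
    exact ⟨fun h => hinter x h.1 h.2, fun h => h ▸ ⟨N.one_mem, fun a => smul_one a⟩⟩

end Cfsg.Agent.S4117
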