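import Cfsg.Statements.S4118
import Mathlib
import Cfsg.Agent.Lib.Grp.Basic
import Cfsg.Agent.Lib.Grp.Solvable
import Cfsg.Agent.Lib.Grp.Cores
import Cfsg.Agent.Lib.Grp.Coprime
import Cfsg.Agent.Lib.Grp.Zassenhaus.Basics
import Cfsg.Agent.Lib.Fus.DihedralAut

set_option maxHeartbeats 1000000
set_option maxRecDepth 8000

set_option autoImplicit false
open Cfsg
open scoped Pointwise

namespace Cfsg.Agent.S4118

universe u v

/-- The automorphism group of a quaternion group of order `2^(n+2)` is solvable. -/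
theorem isSolvable_mulAut_quaternion (n : ℕ) : Group.IsSolvable (MulAut (QuaternionGroup (2 ^ n))) := by
  have : Fact (Nat.Prime 2) := ⟨Nat.prime_two⟩
  have hfin : ∀ m : ℕ, [NeZero m] → Finite (MulAut (QuaternionGroup m)) := fun m _ =>
    Finite.of_injective (fun e : MulAut (QuaternionGroup m) => (e : QuaternionGroup m → QuaternionGroup m))
      DFunLike.coe_injective
  match n with
  | 0 =>
    rw [pow_zero]
    have : IsCyclic (QuaternionGroup 1) := QuaternionGroup.quaternionGroup_one_isCyclic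
    exact Group.isSolvable_of_isSolvable_injective
      (f := (IsCyclic.mulAutMulEquiv (G := QuaternionGroup 1)).toMonoidHom)
      (IsCyclic.mulAutMulEquiv (G := QuaternionGroup 1)).injective
  | 1 =>
    rw [pow_one]
    have := hfin 2
    set Q := QuaternionGroup 2
    set Z := Subgroup.center Q
    -- the action on the four cosets of the centre
    let π : MulAut Q →* Equiv.Perm (Q ⧸ Z) :=
      { toFun := fun e => (QuotientGroup.congr Z Z e
          (Subgroup.characteristic_iff_map_eq.1 inferInstance e)).toEquiv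
        map_one' := Equiv.ext fun x => QuotientGroup.induction_on x fun a => rfl
        map_mul' := fun e f => Equiv.ext fun x => QuotientGroup.induction_on x fun a => rfl }
    have hcardQ : Nat.card Q = 8 := by rw [Nat.card_eq_fintype_card, QuaternionGroup.card]
    have hZ : ∀ z : Q, z ∈ Z → z = 1 ∨ z = QuaternionGroup.a 2 := by
      intro z hz
      have h1 : ∀ z : QuaternionGroup 2, (∀ y, y * z = z * y) → z = 1 ∨ z = QuaternionGroup.a 2 := by decide
      exact h1 z (Subgroup.mem_center_iff.1 hz)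
    have hsolP : Group.IsSolvable (Equiv.Perm (Q ⧸ Z)) := by
      have hc : Nat.card (Q ⧸ Z) ≤ 4 := by
        have h1 := Subgroup.card_eq_card_quotient_mul_card_subgroup Z
        have h2 : 2 ≤ Nat.card Z := by
          have ha : (QuaternionGroup.a 2 : Q) ∈ Z := Subgroup.mem_center_iff.2 (by decide)
          refine (Finite.one_lt_card_iff_nontrivial.2 ⟨⟨_, ha⟩, 1, ?_⟩)
          simp only [ne_eq, Subtype.ext_iff, Subgroup.coe_one]
          decide
        rw [hcardQ] at h1
        have h3 := Nat.mul_le_mul_left (Nat.card (Q ⧸ Z)) h2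
        omega
      obtain ⟨m, ⟨e⟩⟩ := Finite.exists_equiv_fin (Q ⧸ Z)
      have hm : m ≤ 4 := by rw [Nat.card_congr e, Nat.card_fin] at hc; exact hc
      have h4s : Group.IsSolvable (Equiv.Perm (Fin 4)) := by
        refine (Group.isSolvable_iff_subgroup_quotient (alternatingGroup (Fin 4))).mpr ⟨?_, ?_⟩
        · have := alternatingGroup.characteristic_kleinFour (α := Fin 4) (by simp)
          refine (Group.isSolvable_iff_subgroup_quotient
            (alternatingGroup.kleinFour (Fin 4) : Subgroup (alternatingGroup (Fin 4)))).mpr ⟨?_, ?_⟩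
          · exact Cfsg.Agent.Grp.Zas.isSolvable_of_pGroup (p := 2) (IsPGroup.of_card (n := 2)
              (by rw [alternatingGroup.kleinFour_card_of_card_eq_four (α := Fin 4) (by simp)]; rfl))
          · have : Fact (Nat.Prime 3) := ⟨Nat.prime_three⟩
            exact Cfsg.Agent.Grp.Zas.isSolvable_of_pGroup (p := 3) (IsPGroup.of_card (n := 1) (by
              rw [← Subgroup.index_eq_card]
              have := Subgroup.card_mul_index (alternatingGroup.kleinFour (Fin 4) : Subgroup (alternatingGroup (Fin 4)))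
              rw [alternatingGroup.kleinFour_card_of_card_eq_four (by simp), nat_card_alternatingGroup] at this
              simp [Nat.factorial] at this ⊢; omega))
        · exact Cfsg.Agent.Grp.Zas.isSolvable_of_pGroup (p := 2) (IsPGroup.of_card (n := 1) (by
            rw [← Subgroup.index_eq_card, alternatingGroup.index_eq_two, pow_one]))
      have h4 : Group.IsSolvable (Equiv.Perm (Fin m)) :=
        Group.isSolvable_of_isSolvable_injective
          (f := Equiv.Perm.viaEmbeddingHom (Fin.castLEEmb hm)) (Equiv.Perm.viaEmbeddingHom_injective _)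
      exact Group.isSolvable_of_isSolvable_injective (f := e.permCongrHom.toMonoidHom) e.permCongrHom.injective
    have hker : ∀ e ∈ π.ker, e * e = 1 := by
      intro e he
      have hdiff : ∀ x : Q, x⁻¹ * e x ∈ Z := fun x =>
        QuotientGroup.eq.1 (congrArg (fun p : Equiv.Perm (Q ⧸ Z) => p x) (MonoidHom.mem_ker.1 he)).symm
      ext x
      rw [MulAut.mul_apply, MulAut.one_apply]
      obtain ⟨z, hz, hex⟩ : ∃ z ∈ Z, e x = x * z := ⟨_, hdiff x, by group⟩
      have hzz : e z = z := by
        have hez : e z ∈ Z := by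
          have := Subgroup.characteristic_iff_map_eq.1 (inferInstance : Z.Characteristic) e
          exact this ▸ Subgroup.mem_map_of_mem _ hz
        rcases hZ z hz with rfl | rfl
        · exact map_one e
        · rcases hZ _ hez with h | h
          · rw [e.map_eq_one_iff] at h; exact absurd h (by decide)
          · exact h
      rw [hex, map_mul, hex, hzz, mul_assoc]
      have : z * z = 1 := by rcases hZ z hz with rfl | rfl <;> decide
      rw [this, mul_one]
    have hkab : Group.IsSolvable π.ker := by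
      refine Group.isSolvable_of_comm fun a b => Subtype.ext ?_
      have ha := mul_eq_one_iff_inv_eq.1 (hker a a.2)
      have hb := mul_eq_one_iff_inv_eq.1 (hker b b.2)
      have hab := mul_eq_one_iff_inv_eq.1 (hker _ (mul_mem a.2 b.2))
      rw [mul_inv_rev, ha, hb] at hab
      exact hab.symm
    have : Group.IsSolvable π.range := Group.isSolvable_of_isSolvable_injective (f := π.range.subtype) π.range.subtype_injective
    exact (Group.isSolvable_iff_subgroup_quotient π.ker).2 ⟨hkab,
      Group.isSolvable_of_isSolvable_injective (f := (QuotientGroup.quotientKerEquivRange π).toMonoidHom)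
        (QuotientGroup.quotientKerEquivRange π).injective⟩
  | k + 2 =>
    have := hfin (2 ^ (k + 2))
    have h := Cfsg.Agent.Fus.isPGroup_mulAut_quaternionGroup (k := k + 2) (by omega)
    exact @IsNilpotent.to_isSolvable _ _ h.isNilpotent

/-- A `p`-group with a fixed-point-free representation has solvable automorphism group. -/
theorem isSolvable_mulAut_fpf {P : Type u} [Group P] [Finite P] {p : ℕ} [Fact p.Prime]
    (h : Cfsg.Agent.Grp.Zas.HasFpf.{u, v} P) (hP : IsPGroup p P) : Group.IsSolvable (MulAut P) := by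
  let S : Sylow p P := ⟨⊤, hP.to_subgroup ⊤, fun _ h => top_unique h⟩
  let e : (S : Subgroup P) ≃* P := Subgroup.topEquiv
  rcases h.sylow_cases S with hc | ⟨-, n, ⟨f⟩⟩
  · have : IsCyclic P := isCyclic_of_surjective e.toMonoidHom e.surjective
    exact Group.isSolvable_of_isSolvable_injective
      (f := (IsCyclic.mulAutMulEquiv (G := P)).toMonoidHom) (IsCyclic.mulAutMulEquiv (G := P)).injective
  · have := isSolvable_mulAut_quaternion n
    exact Group.isSolvable_of_isSolvable_injective
      (f := (MulAut.congr (e.symm.trans f)).toMonoidHom) (MulAut.congr (e.symm.trans f)).injective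

section main

variable {G : Type u} [Group G] [Finite G] {H : Subgroup G}

theorem mem_normalizer_of_ti (hTI : Cfsg.IsTISubset (H : Set G)) {g x : G} (hx : x ∈ H) (hx1 : x ≠ 1)
    (hgx : g * x * g⁻¹ ∈ H) : g ∈ Subgroup.normalizer (H : Set G) := by
  by_contra h
  exact hx1 (hTI g h x hx hgx)

theorem ne_bot_of_not_normal (hnn : ¬ H.Normal) : H ≠ ⊥ := by
  rintro rfl
  exact hnn inferInstance

/-- The subgroup is a Hall subgroup of the whole group. -/
theorem hall (hTI : Cfsg.IsTISubset (H : Set G))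
    (hHall : (Nat.card H).Coprime (H.subgroupOf (Subgroup.normalizer (H : Set G))).index) :
    (Nat.card H).Coprime H.index := by
  set N := Subgroup.normalizer (H : Set G) with hN
  refine Nat.coprime_of_dvd fun q hq hqH hqI => ?_
  have := Fact.mk hq
  obtain ⟨Q₀⟩ := (inferInstance : Nonempty (Sylow q H))
  set Q := (Q₀ : Subgroup H).map H.subtype with hQ
  have hQc : Nat.card Q = q ^ (Nat.card H).factorization q := by
    rw [hQ, Subgroup.card_map_of_injective H.subtype_injective, Q₀.card_eq_multiplicity]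
  obtain ⟨S, hS⟩ := (Q₀.isPGroup'.map H.subtype).exists_le_sylow
  have hQS : Q ≤ (S : Subgroup G) := hS
  have hlt : Q.subgroupOf (S : Subgroup G) < ⊤ := by
    rw [lt_top_iff_ne_top]
    intro he
    have he' : (S : Subgroup G) ≤ Q := Subgroup.subgroupOf_eq_top.1 he
    have h1 := Subgroup.card_dvd_of_le he'
    rw [hQc, S.card_eq_multiplicity] at h1
    have h2 := (Nat.pow_dvd_pow_iff_le_right hq.one_lt).1 h1
    rw [← H.card_mul_index, Nat.factorization_mul Nat.card_pos.ne' Subgroup.index_ne_zero_of_finite,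
      Finsupp.add_apply] at h2
    have h3 := hq.factorization_pos_of_dvd Subgroup.index_ne_zero_of_finite hqI
    omega
  have hnc := @Group.normalizerCondition_of_isNilpotent _ _ S.isPGroup'.isNilpotent
  obtain ⟨s, hs, hsQ⟩ := SetLike.exists_of_lt (hnc _ hlt)
  rw [← Subgroup.subgroupOf_normalizer_eq hQS] at hs
  have hqne : Q ≠ ⊥ := by
    intro he
    rw [he, Subgroup.card_bot] at hQc
    have := Nat.one_lt_pow (Nat.pos_iff_ne_zero.1 (hq.factorization_pos_of_dvd Nat.card_pos.ne' hqH)) hq.one_lt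
    omega
  obtain ⟨x, hxQ, hx1⟩ := (Subgroup.bot_or_exists_ne_one Q).resolve_left hqne
  have hQH : Q ≤ H := Subgroup.map_subtype_le _
  have hsN : (s : G) ∈ N :=
    mem_normalizer_of_ti hTI (hQH hxQ) hx1 (hQH ((Subgroup.mem_normalizer_iff.1 hs x).1 hxQ))
  set T := (S : Subgroup G) ⊓ N with hT
  have hQT : Q ≤ T := le_inf hQS (hQH.trans Subgroup.le_normalizer)
  obtain ⟨t, ht⟩ := (S.isPGroup'.to_le (inf_le_left : T ≤ _)).exists_card_eq
  have hTd : Nat.card T ∣ Nat.card H := by
    have h1 : Nat.card T ∣ Nat.card N := Subgroup.card_dvd_of_le inf_le_right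
    have h2 := (H.subgroupOf N).card_mul_index
    rw [Nat.card_congr (Subgroup.subgroupOfEquivOfLe (Subgroup.le_normalizer : H ≤ N)).toEquiv] at h2
    rw [← h2, ht] at h1
    rw [ht]
    refine (Nat.Coprime.pow_left t ?_).dvd_of_dvd_mul_right h1
    exact (hq.coprime_iff_not_dvd).2 fun hd =>
      hq.one_lt.ne' (Nat.eq_one_of_dvd_coprimes hHall hqH hd)
  have hTQ : Q = T := by
    refine Subgroup.eq_of_le_of_card_ge hQT (Nat.le_of_dvd Nat.card_pos ?_)
    rw [hQc, ht]
    exact pow_dvd_pow q ((hq.pow_dvd_iff_le_factorization Nat.card_pos.ne').1 (ht ▸ hTd))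
  exact hsQ (Subgroup.mem_subgroupOf.2 (hTQ ▸ ⟨s.2, hsN⟩))

theorem relIndex_dvd_index (H K : Subgroup G) [K.Normal] : H.relIndex K ∣ H.index := by
  have h3 := Subgroup.relIndex_mul_relIndex (H ⊓ K) K (H ⊔ K) inf_le_right le_sup_right
  have h4 := Subgroup.relIndex_mul_relIndex (H ⊓ K) H (H ⊔ K) inf_le_left le_sup_left
  rw [Subgroup.inf_relIndex_left] at h4
  rw [Subgroup.inf_relIndex_right, Subgroup.relIndex_sup_right, ← h4, mul_comm] at h3
  rw [Nat.eq_of_mul_eq_mul_left (Nat.pos_of_ne_zero Subgroup.index_ne_zero_of_finite) h3]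
  exact Subgroup.relIndex_dvd_index_of_le le_sup_left

/-- The Frattini step. -/
theorem sup_normalizer_eq_top (hTI : Cfsg.IsTISubset (H : Set G)) (hcop : (Nat.card H).Coprime H.index)
    (O K : Subgroup G) [O.Normal] [K.Normal] (hOK : O ≤ K)
    (hO : (Nat.card O).Coprime (Nat.card H)) (hr : O.relIndex K ∣ Nat.card H) (hr1 : O.relIndex K ≠ 1) :
    O ⊔ Subgroup.normalizer (H : Set G) = ⊤ := by
  set N := Subgroup.normalizer (H : Set G) with hN
  set A := H ⊓ K with hA
  have hKA : A.relIndex K ∣ H.index := by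
    rw [hA, Subgroup.inf_relIndex_right]; exact relIndex_dvd_index H K
  have hcK : Nat.card O * O.relIndex K = Nat.card K := by
    have := (O.subgroupOf K).card_mul_index
    rwa [Nat.card_congr (Subgroup.subgroupOfEquivOfLe hOK).toEquiv] at this
  have hcA : Nat.card A * A.relIndex K = Nat.card K := by
    have := (A.subgroupOf K).card_mul_index
    rwa [Nat.card_congr (Subgroup.subgroupOfEquivOfLe (inf_le_right : A ≤ K)).toEquiv] at this
  have hcopK : (O.relIndex K).Coprime (A.relIndex K) :=
    (hcop.coprime_dvd_left hr).coprime_dvd_right hKA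
  have hrA : O.relIndex K ∣ Nat.card A := hcopK.dvd_of_dvd_mul_right (hcA ▸ hcK ▸ dvd_mul_left _ _)
  have hdis : O ⊓ A = ⊥ :=
    le_bot_iff.1 ((inf_le_inf_left O inf_le_left).trans (Cfsg.Agent.Grp.inf_eq_bot_of_coprime hO).le)
  have hOA : O ⊔ A = K := by
    refine Subgroup.eq_of_le_of_card_ge (sup_le hOK inf_le_right) ?_
    have h1 := Cfsg.Agent.Grp.card_sup_mul_card_inf_normal (H := A) (N := O)
    rw [sup_comm A O, inf_comm A O, hdis, Subgroup.card_bot, mul_one, mul_comm] at h1
    rw [h1, ← hcK]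
    exact Nat.mul_le_mul_left _ (Nat.le_of_dvd Nat.card_pos hrA)
  obtain ⟨q, hq, hqr⟩ := Nat.exists_prime_and_dvd hr1
  have := Fact.mk hq
  have hqA : q ∣ Nat.card A := hqr.trans hrA
  obtain ⟨Q₀⟩ := (inferInstance : Nonempty (Sylow q A))
  set Q := (Q₀ : Subgroup A).map A.subtype with hQ
  have hQK : Q ≤ K := (Subgroup.map_subtype_le _).trans inf_le_right
  obtain ⟨R, hR⟩ := ((Q₀.isPGroup'.map A.subtype).comap_subtype (K := K)).exists_le_sylow
  have hQR : Q.subgroupOf K = (R : Subgroup K) := by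
    refine Subgroup.eq_of_le_of_card_ge hR ?_
    rw [Nat.card_congr (Subgroup.subgroupOfEquivOfLe hQK).toEquiv, hQ,
      Subgroup.card_map_of_injective A.subtype_injective, Q₀.card_eq_multiplicity, R.card_eq_multiplicity,
      ← hcA, Nat.factorization_mul Nat.card_pos.ne' (by exact Subgroup.index_ne_zero_of_finite),
      Finsupp.add_apply,
      Nat.factorization_eq_zero_of_not_dvd (n := A.relIndex K) fun hd =>
        hq.one_lt.ne' (Nat.eq_one_of_dvd_coprimes hcop (hqr.trans hr) (hd.trans hKA)), add_zero]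
  have hfr := Sylow.normalizer_sup_eq_top R
  rw [← hQR, Subgroup.map_subgroupOf_eq_of_le hQK] at hfr
  have hQH : Q ≤ H := (Subgroup.map_subtype_le _).trans inf_le_left
  have hQne : Q ≠ ⊥ := by
    intro he
    have h1 : Nat.card Q = 1 := by rw [he]; exact Subgroup.card_bot
    rw [hQ, Subgroup.card_map_of_injective A.subtype_injective, Q₀.card_eq_multiplicity] at h1
    have := Nat.one_lt_pow (Nat.pos_iff_ne_zero.1 (hq.factorization_pos_of_dvd Nat.card_pos.ne' hqA)) hq.one_lt
    omega
  obtain ⟨x, hxQ, hx1⟩ := (Subgroup.bot_or_exists_ne_one Q).resolve_left hQne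
  have hNQ : Subgroup.normalizer (Q : Set G) ≤ N := fun g hg =>
    mem_normalizer_of_ti hTI (hQH hxQ) hx1 (hQH ((Subgroup.mem_normalizer_iff.1 hg x).1 hxQ))
  rw [eq_top_iff, ← hfr, ← hOA]
  exact sup_le (hNQ.trans le_sup_right)
    (sup_le le_sup_left ((inf_le_left.trans Subgroup.le_normalizer).trans le_sup_right))

/-- A subgroup acting on a solvable coprime group outside its normalizer is a Frobenius complement. -/
theorem hasFpf (hTI : Cfsg.IsTISubset (H : Set G)) (hnn : ¬ H.Normal) (O : Subgroup G) [O.Normal]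
    (hO : (Nat.card O).Coprime (Nat.card H)) (hOs : Group.IsSolvable O)
    (htop : O ⊔ Subgroup.normalizer (H : Set G) = ⊤) : Cfsg.Agent.Grp.Zas.HasFpf.{u, u} H := by
  set N := Subgroup.normalizer (H : Set G) with hN
  have hHne := ne_bot_of_not_normal hnn
  have hON : ¬ O ≤ N := fun h => hnn (Subgroup.normalizer_eq_top_iff.1 (top_unique (htop ▸ sup_le h le_rfl)))
  have hHO : H ≤ Subgroup.normalizer (O : Set G) := Subgroup.le_normalizer_of_normal
  have hex : ∃ (r : ℕ) (_ : Fact r.Prime) (X : Subgroup G),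
      X ≤ O ∧ IsPGroup r X ∧ H ≤ Subgroup.normalizer (X : Set G) ∧ ¬ X ≤ N := by
    by_contra hc
    push Not at hc
    refine hON (le_trans ?_ (inf_le_right : O ⊓ N ≤ N))
    refine Cfsg.Agent.Grp.le_of_forall_sylow inf_le_left fun q _ => ?_
    obtain ⟨X, hX, hXA⟩ := Cfsg.Agent.Grp.exists_invariant_sylow H O hHO hO.symm (Or.inr hOs) q
    exact ⟨X, hX, le_inf hX.1 (hc q inferInstance X hX.1 hX.2.1 hXA)⟩
  obtain ⟨r, hr, X, hXO, hXr, hXH, hXN⟩ := hex
  set Y := X ⊓ N with hY
  have hYX : Y.subgroupOf X < ⊤ := lt_top_iff_ne_top.2 fun h =>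
    hXN ((Subgroup.subgroupOf_eq_top.1 h).trans inf_le_right)
  have hnc := @Group.normalizerCondition_of_isNilpotent _ _ hXr.isNilpotent
  obtain ⟨z, hz, hzY⟩ := SetLike.exists_of_lt (hnc _ hYX)
  rw [← Subgroup.subgroupOf_normalizer_eq (inf_le_left : Y ≤ X)] at hz
  set Z := X ⊓ Subgroup.normalizer (Y : Set G) with hZ
  have hYZ : Y ≤ Z := le_inf inf_le_left Subgroup.le_normalizer
  have hzZ : (z : G) ∈ Z := ⟨z.2, hz⟩
  have hHN : ∀ h ∈ H, ∀ y ∈ N, h * y * h⁻¹ ∈ N := fun h hh y hy =>
    mul_mem (mul_mem (Subgroup.le_normalizer hh) hy) (inv_mem (Subgroup.le_normalizer hh))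
  have hHY : ∀ h ∈ H, ∀ y ∈ Y, h * y * h⁻¹ ∈ Y := fun h hh y hy =>
    Subgroup.mem_inf.2 ⟨(Subgroup.mem_normalizer_iff.1 (hXH hh) y).1 hy.1, hHN h hh y hy.2⟩
  have hHYn : H ≤ Subgroup.normalizer (Y : Set G) := fun h hh => by
    rw [Subgroup.mem_normalizer_iff]
    intro y
    refine ⟨hHY h hh y, fun hy => ?_⟩
    have h1 := hHY h⁻¹ (inv_mem hh) _ hy
    simpa [mul_assoc] using h1
  have hHZ : H ≤ Subgroup.normalizer (Z : Set G) := by
    intro h hh
    rw [Cfsg.Agent.Grp.mem_normalizer_iff_smul, hZ, Subgroup.smul_inf,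
      Cfsg.Agent.Grp.mem_normalizer_iff_smul.1 (hXH hh),
      Cfsg.Agent.Grp.conj_smul_eq_self_of_mem
        (hHYn hh)]
  set Y' := Y.subgroupOf Z with hY'
  have hY'n : Y'.Normal := (Subgroup.normal_subgroupOf_iff_le_normalizer hYZ).2 inf_le_right
  let f : H →* MulAut Z := (Subgroup.normalizerMonoidHom Z).comp (Subgroup.inclusion hHZ)
  have hfY : ∀ h : H, Y'.map (f h).toMonoidHom = Y' := by
    intro h
    ext y
    constructor
    · rintro ⟨w, hw, rfl⟩
      exact hHY h h.2 w hw
    · intro hy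
      refine ⟨(f h).symm y, ?_, (f h).apply_symm_apply y⟩
      have h1 := hHY (h : G)⁻¹ (inv_mem h.2) y hy
      rw [inv_inv] at h1
      have h2 : (f h).symm y = f h⁻¹ y := by rw [map_inv]; rfl
      rw [h2]
      show ((h⁻¹ : H) : G) * (y : G) * ((h⁻¹ : H) : G)⁻¹ ∈ Y
      simpa using h1
  let φ : H →* MulAut (Z ⧸ Y') :=
    { toFun := fun h => QuotientGroup.congr Y' Y' (f h) (hfY h)
      map_one' := MulEquiv.ext fun x => QuotientGroup.induction_on x fun a => by
        show ((f 1 a : Z) : Z ⧸ Y') = _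
        rw [map_one]; rfl
      map_mul' := fun a b => MulEquiv.ext fun x => QuotientGroup.induction_on x fun c => by
        show ((f (a * b) c : Z) : Z ⧸ Y') = _
        rw [map_mul]; rfl }
  have : Nontrivial (Z ⧸ Y') := by
    rw [QuotientGroup.nontrivial_iff]
    intro he
    exact hzY (Subgroup.mem_subgroupOf.2 (Subgroup.subgroupOf_eq_top.1 he hzZ))
  have : Nontrivial H := (Subgroup.nontrivial_iff_ne_bot H).2 hHne
  refine Cfsg.Agent.Grp.Zas.hasFpf_of_fpf_aut φ fun h hh1 k hk => ?_
  induction k using QuotientGroup.induction_on with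
  | H k =>
    have hk' : ((f h k : Z) : Z ⧸ Y') = (k : Z ⧸ Y') := hk
    set A := Subgroup.zpowers (h : G) with hA
    have hAH : A ≤ H := Subgroup.zpowers_le.2 h.2
    have hcopA : (Nat.card A).Coprime (Nat.card Z) :=
      (hO.symm.coprime_dvd_left (Subgroup.card_dvd_of_le hAH)).coprime_dvd_right
        (Subgroup.card_dvd_of_le (inf_le_left.trans hXO))
    have hfix : ∀ a ∈ A, a * (k : G) * a⁻¹ * (k : G)⁻¹ ∈ Y := by
      intro a ha
      obtain ⟨i, rfl⟩ := Subgroup.mem_zpowers_iff.1 ha
      have h1 : (φ (h ^ i)) (k : Z ⧸ Y') = (k : Z ⧸ Y') := by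
        rw [map_zpow]
        exact MulAction.mem_stabilizer_iff.1
          ((MulAction.stabilizer (MulAut (Z ⧸ Y')) (k : Z ⧸ Y')).zpow_mem
            (MulAction.mem_stabilizer_iff.2 (hk : φ h • (k : Z ⧸ Y') = _)) i)
      have h3 := QuotientGroup.eq.1 (h1.symm : (k : Z ⧸ Y') = ((f (h ^ i) k : Z) : Z ⧸ Y'))
      have h4 := hY'n.conj_mem _ h3 k
      have h5 : (k : G) * ((k : G)⁻¹ * (((h ^ i : H) : G) * (k : G) * ((h ^ i : H) : G)⁻¹)) * (k : G)⁻¹ ∈ Y := h4
      rw [mul_inv_cancel_left, Subgroup.coe_zpow] at h5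
      exact h5
    have hAZ : A ≤ Subgroup.normalizer (Z : Set G) := hAH.trans hHZ
    obtain ⟨c, hc, hkc⟩ := Cfsg.Agent.Grp.exists_fixed_rep A Z Y hAZ
      (Cfsg.Agent.Grp.inf_eq_bot_of_coprime hcopA)
      (hcopA.coprime_dvd_right (Subgroup.card_dvd_of_le hYZ))
      (Or.inr (Cfsg.Agent.Grp.isSolvable_of_le (inf_le_left.trans hXO) hOs)) hYZ inf_le_right
      (hAH.trans hHYn) k.2 hfix
    have hcN : c ∈ N := mem_normalizer_of_ti hTI h.2 (fun e => hh1 (Subtype.ext e)) (by
      have := Subgroup.mem_centralizer_iff.1 hc.2 (h : G) (Subgroup.mem_zpowers _)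
      rw [← this, mul_inv_cancel_right]
      exact h.2)
    rw [QuotientGroup.eq_one_iff]
    rw [hY', Subgroup.mem_subgroupOf]
    have hcY : c ∈ Y := ⟨hc.1.1, hcN⟩
    have := mul_mem hcY (inv_mem hkc)
    simpa using this

/-- The normalizer of the subgroup is solvable. -/
theorem normalizer_solvable (hnn : ¬ H.Normal) (hcop : (Nat.card H).Coprime H.index)
    (O : Subgroup G) [O.Normal] (hO : (Nat.card O).Coprime (Nat.card H)) (hOs : Group.IsSolvable O)
    (hmax : ∀ M : Subgroup G, M.Normal → (Nat.card M).Coprime (Nat.card H) → M ≤ O)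
    (htop : O ⊔ Subgroup.normalizer (H : Set G) = ⊤)
    (hfpf : Cfsg.Agent.Grp.Zas.HasFpf.{u, u} H) (hHs : Group.IsSolvable H) :
    Group.IsSolvable (Subgroup.normalizer (H : Set G)) := by
  classical
  set N := Subgroup.normalizer (H : Set G) with hN
  set F := Cfsg.fittingSubgroup H with hF
  set F' := F.map H.subtype with hF'
  have hHN : H ≤ N := Subgroup.le_normalizer
  -- characteristic subgroups of `H` are normalized by `N`
  have hchar : ∀ V : Subgroup H, V.Characteristic → N ≤ Subgroup.normalizer ((V.map H.subtype : Subgroup G) : Set G) := by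
    intro V hV n hn
    have e := Subgroup.characteristic_iff_map_eq.1 hV (Subgroup.normalizerMonoidHom H ⟨n, hn⟩)
    rw [Cfsg.Agent.Grp.mem_normalizer_iff_smul]
    ext y
    rw [Subgroup.mem_pointwise_smul_iff_inv_smul_mem]
    constructor
    · rintro ⟨w, hw, hwe⟩
      refine ⟨Subgroup.normalizerMonoidHom H ⟨n, hn⟩ w, e ▸ Subgroup.mem_map_of_mem _ hw, ?_⟩
      show n * (w : G) * n⁻¹ = y
      rw [show (w : G) = _ from hwe]
      simp [MulAut.smul_def, mul_assoc]
    · rintro ⟨w, hw, rfl⟩
      obtain ⟨u, hu, rfl⟩ := e.symm ▸ hw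
      refine ⟨u, hu, ?_⟩
      show (u : G) = (MulAut.conj n)⁻¹ • (n * (u : G) * n⁻¹)
      simp [MulAut.smul_def, mul_assoc]
  have hFchar : F.Characteristic := Cfsg.Agent.Grp.instCharFitting
  have hNF : N ≤ Subgroup.normalizer (F' : Set G) := hchar F hFchar
  set C : Subgroup G := N ⊓ Subgroup.centralizer (F' : Set G) with hC
  -- the centralizer is solvable
  have hCs : Group.IsSolvable C := by
    set Z₀ := C ⊓ H with hZ₀
    have hZF : Z₀ ≤ F' := by
      intro z hz
      refine ⟨⟨z, hz.2⟩, ?_, rfl⟩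
      refine Cfsg.Agent.Grp.centralizer_fittingSubgroup_le ?_
      rw [Subgroup.mem_centralizer_iff]
      intro y hy
      exact Subtype.ext (Subgroup.mem_centralizer_iff.1 hz.1.2 _ ⟨y, hy, rfl⟩)
    have hZcen : ∀ c ∈ C, ∀ z ∈ Z₀, z * c = c * z := fun c hc z hz =>
      Subgroup.mem_centralizer_iff.1 hc.2 z (hZF hz)
    set Z := Z₀.subgroupOf C with hZ
    have hZn : Z.Normal := ⟨fun z hz c => by
      have : c * z = z * c := Subtype.ext (hZcen c c.2 z hz).symm
      rwa [this, mul_inv_cancel_right]⟩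
    have hZc : Nat.card Z = Nat.card Z₀ :=
      Nat.card_congr (Subgroup.subgroupOfEquivOfLe (inf_le_left : Z₀ ≤ C)).toEquiv
    have hZi : Z.index ∣ H.index := by
      show Z₀.relIndex C ∣ H.index
      rw [hZ₀, inf_comm, Subgroup.inf_relIndex_right]
      have h1 : H.relIndex C ∣ H.relIndex N := by
        have hH' : (H.subgroupOf N).Normal := Subgroup.normal_in_normalizer
        have h2 := Subgroup.relIndex_dvd_index_of_normal (H := H.subgroupOf N) (K := C.subgroupOf N)
        exact (Subgroup.relIndex_subgroupOf (inf_le_left : C ≤ N)) ▸ h2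
      exact h1.trans (Subgroup.relIndex_dvd_index_of_le hHN)
    have hcopZ : (Nat.card Z).Coprime Z.index := by
      rw [hZc]
      exact (hcop.coprime_dvd_left (Subgroup.card_dvd_of_le inf_le_right)).coprime_dvd_right hZi
    obtain ⟨Y, hY⟩ := Subgroup.exists_right_complement'_of_coprime hcopZ
    have hYn : Y.Normal := ⟨fun y hy c => by
      obtain ⟨⟨a, b⟩, rfl⟩ := hY.2 c
      have ha : ∀ w : C, (a : C) * w = w * a := fun w => Subtype.ext (hZcen w w.2 _ a.2)
      show (a : C) * b * y * ((a : C) * b)⁻¹ ∈ Y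
      rw [show (a : C) * b * y * ((a : C) * b)⁻¹ = (a : C) * ((b : C) * y * (b : C)⁻¹) * (a : C)⁻¹ by group,
        ha, mul_inv_cancel_right]
      exact mul_mem (mul_mem b.2 hy) (inv_mem b.2)⟩
    set Y' := Y.map C.subtype with hY'
    have hYcard : Nat.card Y' ∣ H.index := by
      rw [hY', Subgroup.card_map_of_injective C.subtype_injective, ← hY.symm.index_eq_card]
      exact hZi
    have hYcop : (Nat.card Y).Coprime Y.index := by
      rw [hY.index_eq_card, ← hY.symm.index_eq_card]
      exact hcopZ.symm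
    have hNC : ∀ n ∈ N, ∀ c ∈ C, n * c * n⁻¹ ∈ C := by
      intro n hn c hc
      refine Subgroup.mem_inf.2 ⟨mul_mem (mul_mem hn hc.1) (inv_mem hn), Subgroup.mem_centralizer_iff.2 fun f hf => ?_⟩
      have h1 : n⁻¹ * f * n ∈ F' := by
        have := (Subgroup.mem_normalizer_iff.1 (hNF (inv_mem hn)) f).1 hf
        rwa [inv_inv] at this
      have h2 := Subgroup.mem_centralizer_iff.1 hc.2 _ h1
      calc f * (n * c * n⁻¹) = n * ((n⁻¹ * f * n) * c) * n⁻¹ := by group
        _ = n * (c * (n⁻¹ * f * n)) * n⁻¹ := by rw [h2]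
        _ = n * c * n⁻¹ * f := by group
    have hNY : ∀ n ∈ N, ∀ y ∈ Y', n * y * n⁻¹ ∈ Y' := by
      rintro n hn _ ⟨y, hy, rfl⟩
      refine ⟨⟨_, hNC n hn y y.2⟩, ?_, rfl⟩
      have hYi := hY.index_eq_card
      show (⟨_, hNC n hn y y.2⟩ : C) ∈ Y
      rw [← QuotientGroup.eq_one_iff, ← orderOf_eq_one_iff]
      refine Nat.eq_one_of_dvd_coprimes hYcop ?_ (orderOf_dvd_natCard _)
      refine (orderOf_map_dvd (QuotientGroup.mk' Y) _).trans ?_
      rw [← Subgroup.orderOf_coe]
      show orderOf (MulAut.conj n (y : G)) ∣ _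
      rw [MulEquiv.orderOf_eq, Subgroup.orderOf_coe]
      exact (Subgroup.orderOf_coe (⟨y, hy⟩ : Y)) ▸ orderOf_dvd_natCard _
    have hNY' : N ≤ Subgroup.normalizer (Y' : Set G) := fun n hn => by
      rw [Subgroup.mem_normalizer_iff]
      intro y
      refine ⟨hNY n hn y, fun h => ?_⟩
      have := hNY n⁻¹ (inv_mem hn) _ h
      simpa [mul_assoc] using this
    have hOY : (O ⊔ Y').Normal := by
      rw [← Subgroup.normalizer_eq_top_iff, eq_top_iff, ← htop]
      refine sup_le (le_sup_left.trans Subgroup.le_normalizer) fun n hn => ?_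
      rw [Cfsg.Agent.Grp.mem_normalizer_iff_smul, Subgroup.smul_sup,
        Cfsg.Agent.Grp.mem_normalizer_iff_smul.1 (Subgroup.le_normalizer_of_normal (H := O) hn),
        Cfsg.Agent.Grp.mem_normalizer_iff_smul.1 (hNY' hn)]
    have hYO : Y' ≤ O := by
      refine le_sup_right.trans (hmax (O ⊔ Y') hOY ?_)
      refine Nat.Coprime.coprime_dvd_left ?_ (Nat.Coprime.mul_left hO (hcop.symm.coprime_dvd_left hYcard))
      rw [sup_comm, mul_comm]
      exact Cfsg.Agent.Grp.card_sup_dvd_mul Subgroup.le_normalizer_of_normal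
    have hYs : Group.IsSolvable Y := by
      have : Group.IsSolvable Y' := Cfsg.Agent.Grp.isSolvable_of_le hYO hOs
      exact Group.isSolvable_of_isSolvable_injective
        (f := (Y.equivMapOfInjective C.subtype C.subtype_injective).toMonoidHom) (MulEquiv.injective _)
    have hZs : Group.IsSolvable Z := by
      have : Group.IsSolvable Z₀ := Cfsg.Agent.Grp.isSolvable_of_le inf_le_right hHs
      exact Group.isSolvable_of_isSolvable_injective
        (f := (Subgroup.subgroupOfEquivOfLe (inf_le_left : Z₀ ≤ C)).toMonoidHom) (MulEquiv.injective _)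
    refine (Group.isSolvable_iff_subgroup_quotient Y).2 ⟨hYs, ?_⟩
    refine Group.isSolvable_of_surjective (f := (QuotientGroup.mk' Y).comp Z.subtype) fun x => ?_
    induction x using QuotientGroup.induction_on with
    | H c =>
      obtain ⟨⟨a, b⟩, rfl⟩ := hY.2 c
      exact ⟨a, QuotientGroup.eq.2 (by simpa using b.2)⟩
  -- the action on the Sylow subgroups of `F`
  have hFnil : Group.IsNilpotent F := Cfsg.Agent.Grp.fittingSubgroup_isNilpotent
  have hnorm := (Group.isNilpotent_of_finite_tfae (G := F)).out 0 3 |>.1 hFnil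
  have hq : ∀ q ∈ (Nat.card F).primeFactors, ∃ (m : ℕ) (V : Subgroup G),
      (∃ Q : Sylow q F, V = ((Q : Subgroup F).map F.subtype).map H.subtype) ∧
      ∀ x : N, x ∈ derivedSeries N m → (x : G) ∈ Subgroup.centralizer (V : Set G) := by
    intro q hq
    have := Fact.mk (Nat.prime_of_mem_primeFactors hq)
    obtain ⟨Q⟩ := (inferInstance : Nonempty (Sylow q F))
    have hQn := hnorm q inferInstance Q
    have hQc : (Q : Subgroup F).Characteristic := Q.characteristic_of_normal hQn
    have hQH : ((Q : Subgroup F).map F.subtype).Characteristic := by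
      rw [Subgroup.characteristic_iff_map_eq]
      intro e
      let e' : F ≃* F := (e.subgroupMap F).trans
        (MulEquiv.subgroupCongr (Subgroup.characteristic_iff_map_eq.1 hFchar e))
      conv_rhs => rw [← Subgroup.characteristic_iff_map_eq.1 hQc e']
      rw [Subgroup.map_map, Subgroup.map_map]
      congr 1
    set V := ((Q : Subgroup F).map F.subtype).map H.subtype with hV
    have hNV : N ≤ Subgroup.normalizer (V : Set G) := hchar _ hQH
    let ψ : N →* MulAut V := (Subgroup.normalizerMonoidHom V).comp (Subgroup.inclusion hNV)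
    have hVp : IsPGroup q V := (Q.isPGroup'.map F.subtype).map H.subtype
    have hVH : V ≤ H := Subgroup.map_subtype_le _
    have hsol : Group.IsSolvable (MulAut V) :=
      isSolvable_mulAut_fpf.{u, u} (hfpf.of_injective (Subgroup.inclusion hVH) (Subgroup.inclusion_injective hVH)) hVp
    obtain ⟨m, hm⟩ := (Group.isSolvable_def _).1 hsol
    refine ⟨m, V, ⟨Q, rfl⟩, fun x hx => ?_⟩
    have h1 : ψ x ∈ derivedSeries (MulAut V) m := map_derivedSeries_le_derivedSeries ψ m ⟨x, hx, rfl⟩
    rw [hm, Subgroup.mem_bot] at h1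
    have h2 : Subgroup.inclusion hNV x ∈ (Subgroup.normalizerMonoidHom V).ker := MonoidHom.mem_ker.2 h1
    rw [Subgroup.normalizerMonoidHom_ker] at h2
    exact h2
  choose! m V hVQ hm using hq
  obtain ⟨k, hk⟩ := (Group.isSolvable_def _).1 hCs
  have hM : ∀ x ∈ derivedSeries N ((Nat.card F).primeFactors.sup m), (x : G) ∈ C := by
    intro x hx
    refine Subgroup.mem_inf.2 ⟨x.2, Subgroup.mem_centralizer_iff.2 ?_⟩
    rintro _ ⟨y, hy, rfl⟩
    suffices hs : (F : Subgroup H).map H.subtype ≤ Subgroup.centralizer {(x : G)} from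
      (Subgroup.mem_centralizer_singleton_iff.1 (hs ⟨y, hy, rfl⟩))
    set D : Subgroup F := (Subgroup.centralizer {(x : G)}).comap (H.subtype.comp F.subtype) with hD
    have hDtop : D = ⊤ := by
      refine Subgroup.eq_top_of_card_eq _ (Nat.dvd_antisymm (Subgroup.card_subgroup_dvd_card D) ?_)
      rw [← Nat.factorization_prime_le_iff_dvd Nat.card_pos.ne' Nat.card_pos.ne']
      intro q hq
      by_cases hqF : q ∣ Nat.card F
      · have hmem : q ∈ (Nat.card F).primeFactors := Nat.mem_primeFactors.2 ⟨hq, hqF, Nat.card_pos.ne'⟩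
        have := Fact.mk hq
        obtain ⟨Q, hQ⟩ := hVQ q hmem
        have hQD : (Q : Subgroup F) ≤ D := by
          intro w hw
          rw [hD, Subgroup.mem_comap, Subgroup.mem_centralizer_singleton_iff]
          have hx' := hm q hmem x (derivedSeries_antitone N (Finset.le_sup hmem) hx)
          exact Subgroup.mem_centralizer_iff.1 hx' _ (hQ ▸ ⟨_, ⟨w, hw, rfl⟩, rfl⟩)
        have h5 := Subgroup.card_dvd_of_le hQD
        rw [Q.card_eq_multiplicity] at h5
        exact (hq.pow_dvd_iff_le_factorization Nat.card_pos.ne').1 h5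
      · rw [Nat.factorization_eq_zero_of_not_dvd hqF]
        exact Nat.zero_le _
    rintro _ ⟨w, hw, rfl⟩
    have hwD : (⟨w, hw⟩ : F) ∈ D := hDtop ▸ Subgroup.mem_top _
    exact hwD
  set M := derivedSeries N ((Nat.card F).primeFactors.sup m) with hMdef
  have hMs : Group.IsSolvable M := by
    let ι : M →* C :=
      { toFun := fun x => ⟨((x : N) : G), hM x x.2⟩
        map_one' := rfl
        map_mul' := fun _ _ => rfl }
    exact Group.isSolvable_of_isSolvable_injective (f := ι) fun a b hab =>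
      Subtype.ext (Subtype.ext (congrArg (fun c : C => (c : G)) hab))
  refine (Group.isSolvable_iff_subgroup_quotient M).2 ⟨hMs, ?_⟩
  rw [Group.isSolvable_def]
  refine ⟨(Nat.card F).primeFactors.sup m, eq_bot_iff.2 ?_⟩
  rw [← map_derivedSeries_eq (QuotientGroup.mk'_surjective M), ← hMdef]
  exact (le_of_eq (QuotientGroup.map_mk'_self M))

end main

/-- Let G be a finite group and H a non-normal subgroup meeting each of its conjugates by elements outside N_G(H) trivially, with the order of H coprime to its index in N_G(H); let π be the set of primes dividing the order of H and suppose G is π-separable (it has a chain of normal subgroups from 1 to G each of whose factors has order divisible only by primes in π or coprime to the order of H). Let O be the largest normal subgroup of G of order coprime to the order of H. Then G = O·N_G(H), O·H is normal in G, and G is solvable if and only if O is solvable and H has no subgroup isomorphic to SL₂(5). -/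
theorem result {G : Type*} [Group G] [Finite G] (H : Subgroup G)
    (hTI : Cfsg.IsTISubset (H : Set G)) (hnn : ¬ H.Normal)
    (hHall : (Nat.card H).Coprime (H.subgroupOf (Subgroup.normalizer (H : Set G))).index)
    (hsep : ∃ (n : ℕ) (M : Fin (n + 1) → Subgroup G), M 0 = ⊥ ∧ M (Fin.last n) = ⊤ ∧ Monotone M ∧ (∀ i, (M i).Normal) ∧
      ∀ i : Fin n, (∀ q : ℕ, q.Prime → q ∣ (M i.castSucc).relIndex (M i.succ) → q ∣ Nat.card H) ∨
        ((M i.castSucc).relIndex (M i.succ)).Coprime (Nat.card H))
    (O : Subgroup G) (hO : O = sSup {K : Subgroup G | K.Normal ∧ (Nat.card K).Coprime (Nat.card H)}) :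
    O ⊔ Subgroup.normalizer (H : Set G) = ⊤ ∧ (O ⊔ H).Normal ∧
    (Group.IsSolvable G ↔ Group.IsSolvable O ∧
      ∀ K : Subgroup G, K ≤ H → ¬ Nonempty (K ≃* Matrix.SpecialLinearGroup (Fin 2) (ZMod 5))) := by

  set N := Subgroup.normalizer (H : Set G) with hN
  have hHne := ne_bot_of_not_normal hnn
  have hcop := hall hTI hHall
  set S := {K : Subgroup G | K.Normal ∧ (Nat.card K).Coprime (Nat.card H)} with hS
  have hOmem : O ∈ S := hO ▸ Cfsg.Agent.Grp.sSup_mem_of_closed S
    ⟨⊥, inferInstance, by rw [Subgroup.card_bot]; exact Nat.coprime_one_left _⟩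
    (by
      rintro a ⟨ha, ha'⟩ b ⟨hb, hb'⟩
      exact ⟨inferInstance, Nat.Coprime.coprime_dvd_left
        (Cfsg.Agent.Grp.card_sup_dvd_mul Subgroup.le_normalizer_of_normal) (Nat.Coprime.mul_left ha' hb')⟩)
  have hOn : O.Normal := hOmem.1
  have hmax : ∀ M : Subgroup G, M.Normal → (Nat.card M).Coprime (Nat.card H) → M ≤ O :=
    fun M h1 h2 => hO ▸ le_sSup ⟨h1, h2⟩
  have htop : O ⊔ N = ⊤ := by
    obtain ⟨n, M, hM0, hMl, hMm, hMn, hMf⟩ := hsep
    obtain ⟨i, hi, hi'⟩ : ∃ i : Fin n, M i.castSucc ≤ O ∧ ¬ M i.succ ≤ O := by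
      by_contra hc
      push Not at hc
      have hall' : ∀ i, M i ≤ O := Fin.induction (by rw [hM0]; exact bot_le) fun i hi => hc i hi
      have hOtop : O = ⊤ := top_unique (hMl ▸ hall' (Fin.last n))
      refine hHne (Subgroup.card_eq_one.1 ?_)
      exact Nat.eq_one_of_dvd_coprimes hOmem.2 (hOtop ▸ Subgroup.card_dvd_of_le le_top) dvd_rfl
    have := hMn i.succ
    have hmono : M i.castSucc ≤ M i.succ := hMm (Fin.castSucc_le_succ i)
    have hr : O.relIndex (O ⊔ M i.succ) ∣ (M i.castSucc).relIndex (M i.succ) := by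
      rw [Subgroup.relIndex_sup_left]
      exact Subgroup.relIndex_dvd_of_le_left _ hi
    have hr1 : O.relIndex (O ⊔ M i.succ) ≠ 1 := fun h => hi' (le_sup_right.trans (Subgroup.relIndex_eq_one.1 h))
    rcases hMf i with hπ | hc
    · refine sup_normalizer_eq_top hTI hcop O (O ⊔ M i.succ) le_sup_left hOmem.2 ?_ hr1
      refine Nat.Coprime.dvd_of_dvd_mul_right (m := Nat.card H) (n := H.index) ?_ ?_
      · refine Nat.coprime_of_dvd fun q hq h1 h2 => ?_
        exact hq.one_lt.ne' (Nat.eq_one_of_dvd_coprimes hcop (hπ q hq (h1.trans hr)) h2)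
      · rw [H.card_mul_index]
        exact (Subgroup.index_dvd_card _).trans (Subgroup.card_subgroup_dvd_card _)
    · refine absurd (hmax (M i.succ) inferInstance ?_) hi'
      have h1 := ((M i.castSucc).subgroupOf (M i.succ)).card_mul_index
      rw [Nat.card_congr (Subgroup.subgroupOfEquivOfLe hmono).toEquiv] at h1
      rw [← h1]
      exact Nat.Coprime.mul_left (hOmem.2.coprime_dvd_left (Subgroup.card_dvd_of_le hi)) hc
  refine ⟨htop, ?_, fun hG => ⟨inferInstance, fun K _ ⟨e⟩ => ?_⟩, fun ⟨hOs, hno⟩ => ?_⟩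
  · rw [← Subgroup.normalizer_eq_top_iff, eq_top_iff, ← htop]
    refine sup_le (le_sup_left.trans Subgroup.le_normalizer) fun n hn => ?_
    rw [Cfsg.Agent.Grp.mem_normalizer_iff_smul, Subgroup.smul_sup,
      Cfsg.Agent.Grp.mem_normalizer_iff_smul.1 (Subgroup.le_normalizer_of_normal (H := O) hn),
      Cfsg.Agent.Grp.mem_normalizer_iff_smul.1 hn]
  · exact Cfsg.Agent.Grp.Zas.not_isSolvable_of_binaryIco Cfsg.Agent.Grp.Zas.binaryIco_SL25
      (Group.isSolvable_of_isSolvable_injective (f := K.subtype.comp e.symm.toMonoidHom)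
        (K.subtype_injective.comp e.symm.injective))
  · have hfpf := hasFpf hTI hnn O hOmem.2 hOs htop
    have hHs : Group.IsSolvable H := by
      by_contra hns
      obtain ⟨-, -, -, ⟨e⟩⟩ := hfpf.structure_nonsolvable hns
      exact hno _ (Subgroup.map_subtype_le (Cfsg.Agent.Grp.Zas.threeCore H))
        ⟨((Subgroup.equivMapOfInjective _ H.subtype H.subtype_injective).symm).trans e⟩
    have hNs := normalizer_solvable hnn hcop O hOmem.2 hOs hmax htop hfpf hHs
    refine (Group.isSolvable_iff_subgroup_quotient O).2 ⟨hOs, ?_⟩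
    refine Group.isSolvable_of_surjective (f := (QuotientGroup.mk' O).comp N.subtype) fun x => ?_
    induction x using QuotientGroup.induction_on with
    | H g =>
      obtain ⟨o, ho, n, hn, rfl⟩ := Subgroup.mem_sup_of_normal_left.1 (htop ▸ Subgroup.mem_top g : g ∈ O ⊔ N)
      refine ⟨⟨n, hn⟩, QuotientGroup.eq.2 ?_⟩
      show n⁻¹ * (o * n) ∈ O
      simpa [mul_assoc] using hOn.conj_mem o ho n⁻¹

end Cfsg.Agent.S4118
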