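import Cfsg.Statements.S4125
import Cfsg.Agent.Lib.Transfer.QBaer.Main

set_option autoImplicit false
open Cfsg

open scoped Classical

namespace Cfsg.Agent.S4125

open Cfsg.Agent.QBaer in
theorem solvable_quot {G : Type*} [Group G] [Finite G] {q p : ℕ} [Fact q.Prime] [Fact p.Prime] (hpq : p ≠ q)
    (hB : IsQBaer q G) (Q : Sylow q G) (hQ : ∀ u ∈ (Q : Subgroup G), ∀ v ∈ (Q : Subgroup G), Commute u v)
    (hp : ∀ x ∈ (Q : Subgroup G), ∃ a : ℕ, cidx x = p ^ a) : Group.IsSolvable (G ⧸ pPrimeCore q G) := by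
  set R := pPrimeCore q G with hR
  set D := G ⧸ R with hD
  set U := pCore q D with hU
  haveI : U.Normal := Cfsg.Agent.Grp.pCore_isNormal
  have hmapQ : (Q : Subgroup G).map (QuotientGroup.mk' R) = U := map_sylow Q hB
  let S : Sylow q D := Q.mapSurjective (QuotientGroup.mk'_surjective R)
  have hS : (S : Subgroup D) = U := (Sylow.coe_mapSurjective _ Q).trans hmapQ
  have hUp : IsPGroup q U := Cfsg.Agent.Grp.pCore_isPGroup
  have hqidx : ¬ q ∣ U.index := hS ▸ S.not_dvd_index
  have hUmem : ∀ d ∈ U, ∃ x ∈ (Q : Subgroup G), (x : D) = d := fun d hd => by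
    rw [← hmapQ] at hd; exact hd
  have hUc : ∀ u ∈ U, ∀ v ∈ U, Commute u v := by
    intro u hu v hv
    obtain ⟨u', hu', rfl⟩ := hUmem u hu
    obtain ⟨v', hv', rfl⟩ := hUmem v hv
    exact (hQ u' hu' v' hv').map (QuotientGroup.mk' R)
  -- the elements of exponent `q`
  let E : Subgroup D :=
    { carrier := {u | u ∈ U ∧ u ^ q = 1}
      one_mem' := ⟨one_mem U, one_pow q⟩
      mul_mem' := fun {x y} hx hy => ⟨mul_mem hx.1 hy.1, by rw [(hUc x hx.1 y hy.1).mul_pow, hx.2, hy.2, one_mul]⟩
      inv_mem' := fun {x} hx => ⟨inv_mem hx.1, by rw [inv_pow, hx.2, inv_one]⟩ }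
  haveI hEn : E.Normal := ⟨fun u hu g => ⟨Subgroup.Normal.conj_mem inferInstance u hu.1 g,
    by rw [conj_pow, hu.2, mul_one, mul_inv_cancel]⟩⟩
  letI : CommGroup E := { (inferInstance : Group E) with mul_comm := fun u v => Subtype.ext (hUc u u.2.1 v v.2.1).eq }
  haveI : Finite (Additive E) := inferInstanceAs (Finite E)
  have hq0 : ∀ v : Additive E, q • v = 0 := fun v => by
    show Additive.ofMul ((Additive.toMul v) ^ q) = 0
    rw [show (Additive.toMul v) ^ q = 1 from Subtype.ext (Additive.toMul v).2.2]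
    rfl
  haveI : Module (ZMod q) (Additive E) := AddCommGroup.zmodModule hq0
  let F : D → (Additive E ≃ₗ[ZMod q] Additive E) := fun d =>
    (MulEquiv.toAdditive (MulAut.conjNormal (H := E) d)).toLinearEquiv
      (fun c v => ZMod.map_smul (MulEquiv.toAdditive (MulAut.conjNormal (H := E) d)).toAddMonoidHom c v)
  have hF : ∀ d v, (((Additive.toMul (F d v) : E)) : D) = d * ((Additive.toMul v : E) : D) * d⁻¹ := fun d v =>
    MulAut.conjNormal_apply d (Additive.toMul v)
  let ρ : D →* (Additive E ≃ₗ[ZMod q] Additive E) :=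
    { toFun := F
      map_one' := LinearEquiv.ext fun v => Additive.toMul.injective (Subtype.ext (by
        rw [hF, one_mul, inv_one, mul_one]; rfl))
      map_mul' := fun d e => LinearEquiv.ext fun v => Additive.toMul.injective (Subtype.ext (by
        rw [LinearEquiv.mul_apply, hF, hF, hF]; group)) }
  have hρ : ∀ d (u : E), ρ d (Additive.ofMul u) = Additive.ofMul u ↔ d * (u : D) = (u : D) * d := by
    intro d u
    rw [← Additive.toMul.injective.eq_iff, Subtype.ext_iff, show ρ d = F d from rfl, hF, toMul_ofMul,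
      mul_inv_eq_iff_eq_mul]
  have hrange : ¬ q ∣ Nat.card ρ.range := by
    intro hd
    rw [← Subgroup.index_ker] at hd
    refine hqidx (hd.trans (Subgroup.index_dvd_of_le fun u hu => ?_))
    refine MonoidHom.mem_ker.mpr (LinearEquiv.ext fun v => ?_)
    exact (hρ u (Additive.toMul v)).mpr (hUc u hu _ (Additive.toMul v).2.1).eq
  haveI hker : Group.IsSolvable ρ.ker := by
    have hKU : ∀ k ∈ ρ.ker, ∀ (n : ℕ), ∀ u ∈ U, u ^ q ^ n = 1 → (orderOf k).Coprime q → Commute k u := by
      intro k hk n
      induction n with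
      | zero => intro u _ hu _; rw [pow_zero, pow_one] at hu; rw [hu]; exact Commute.one_right k
      | succ n ih =>
        intro u hu hun hcop
        have hw : k * u * k⁻¹ * u⁻¹ ∈ U :=
          mul_mem (Subgroup.Normal.conj_mem inferInstance u hu k) (inv_mem hu)
        have hq1 : Commute k (u ^ q) := ih _ (pow_mem hu q) (by rw [← pow_mul, ← pow_succ']; exact hun) hcop
        have hwq : (k * u * k⁻¹ * u⁻¹) ^ q = 1 := by
          rw [(hUc _ (Subgroup.Normal.conj_mem inferInstance u hu k) _ (inv_mem hu)).mul_pow, conj_pow, hq1.eq,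
            mul_inv_cancel_right, inv_pow, mul_inv_cancel]
        set w := k * u * k⁻¹ * u⁻¹ with hwdef
        have hkw : k * w = w * k := (hρ k ⟨w, hw, hwq⟩).mp (by rw [MonoidHom.mem_ker.mp hk]; rfl)
        have hiter : ∀ m : ℕ, k ^ m * u * (k ^ m)⁻¹ = w ^ m * u := by
          intro m
          induction m with
          | zero => simp
          | succ m ihm =>
            rw [pow_succ', show k * k ^ m * u * (k * k ^ m)⁻¹ = k * (k ^ m * u * (k ^ m)⁻¹) * k⁻¹ by group, ihm]
            calc k * (w ^ m * u) * k⁻¹ = (k * w ^ m) * u * k⁻¹ := by group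
              _ = (w ^ m * k) * u * k⁻¹ := by rw [((show Commute k w from hkw).pow_right m).eq]
              _ = w ^ m * (k * u * k⁻¹ * u⁻¹) * u := by group
              _ = w ^ (m + 1) * u := by rw [← hwdef, ← pow_succ]
        have h1 := hiter (orderOf k)
        rw [pow_orderOf_eq_one, one_mul, inv_one, mul_one, right_eq_mul] at h1
        have hw1 : w = 1 := orderOf_eq_one_iff.mp (Nat.eq_one_of_dvd_coprimes hcop (orderOf_dvd_of_pow_eq_one h1)
          (orderOf_dvd_of_pow_eq_one hwq))
        rw [hwdef, mul_inv_eq_one, mul_inv_eq_iff_eq_mul] at hw1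
        exact hw1
    -- the centralizer of `U` has a normal complement to `U`
    set C := Subgroup.centralizer (U : Set D) with hC
    have hUC : U ≤ C := fun u hu => Subgroup.mem_centralizer_iff.mpr fun v hv => (hUc v hv u hu).eq
    obtain ⟨nU, hnU⟩ := hUp.exists_card_eq
    have hcopU : ∀ d ∈ C, (orderOf d).Coprime q → d = 1 := by
      have hcop : (Nat.card (U.subgroupOf C)).Coprime (U.subgroupOf C).index := by
        rw [Nat.card_congr (Subgroup.subgroupOfEquivOfLe hUC).toEquiv, hnU]
        exact (((Fact.out : q.Prime).coprime_iff_not_dvd).mpr fun hd => hqidx (hd.trans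
          (Subgroup.relIndex_dvd_index_of_normal U C))).pow_left nU
      obtain ⟨H, hH⟩ := Subgroup.exists_right_complement'_of_coprime hcop
      have hHq : (Nat.card H).Coprime q := by
        rw [← hH.symm.index_eq_card]
        exact (((Fact.out : q.Prime).coprime_iff_not_dvd).mpr fun hd => hqidx (hd.trans
          (Subgroup.relIndex_dvd_index_of_normal U C))).symm
      have hmem : ∀ d : C, (orderOf d).Coprime q → d ∈ H := by
        intro d hd
        obtain ⟨⟨⟨u, hu⟩, ⟨h, hh⟩⟩, hdu⟩ := hH.2 d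
        replace hdu : u * h = d := hdu
        obtain ⟨j, hj⟩ := hUp ⟨(u : D), hu⟩
        replace hj : (u : D) ^ q ^ j = 1 := congrArg Subtype.val hj
        have huq : u ^ q ^ j = 1 := Subtype.ext (by simpa using hj)
        have hcm : Commute u h := Subtype.ext (Subgroup.mem_centralizer_iff.mp h.2 u hu)
        have h1 : u ^ (orderOf d * Nat.card H) = 1 := by
          have h2 : (u * h) ^ (orderOf d * Nat.card H) = 1 := by rw [hdu, pow_mul, pow_orderOf_eq_one, one_pow]
          rw [hcm.mul_pow, show h ^ (orderOf d * Nat.card H) = 1 by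
            rw [mul_comm, pow_mul, show h ^ Nat.card H = 1 from
              orderOf_dvd_iff_pow_eq_one.mp (Subgroup.orderOf_dvd_natCard H hh), one_pow], mul_one] at h2
          exact h2
        have hu1 : u = 1 := orderOf_eq_one_iff.mp (Nat.eq_one_of_dvd_coprimes
          ((hd.mul_left hHq).pow_right j) (orderOf_dvd_of_pow_eq_one h1) (orderOf_dvd_of_pow_eq_one huq))
        rw [← hdu, hu1, one_mul]
        exact hh
      have hle : H.map C.subtype ≤ pPrimeCore q D := by
        refine Cfsg.Agent.Grp.le_pPrimeCore ⟨?_⟩ ?_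
        · rintro _ ⟨d, hd, rfl⟩ g
          haveI : C.Normal := by rw [hC]; infer_instance
          refine ⟨⟨g * (d : D) * g⁻¹, Subgroup.Normal.conj_mem inferInstance _ d.2 g⟩, hmem _ ?_, rfl⟩
          refine (hHq.coprime_dvd_left (Subgroup.orderOf_dvd_natCard H hd)).coprime_dvd_left (dvd_of_eq ?_)
          rw [← Subgroup.orderOf_coe, ← Subgroup.orderOf_coe d]
          exact orderOf_injective (MulAut.conj g).toMonoidHom (MulAut.conj g).injective (d : D)
        · rw [Subgroup.card_map_of_injective C.subtype_injective]; exact hHq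
      rw [pPrimeCore_quot_bot, le_bot_iff, Subgroup.map_eq_bot_iff_of_injective _ C.subtype_injective] at hle
      intro d hd hdq
      have := hmem ⟨d, hd⟩ (by rwa [← Subgroup.orderOf_coe])
      rw [hle, Subgroup.mem_bot] at this
      exact congrArg Subtype.val this
    have hKp : IsPGroup q ρ.ker := by
      intro k
      obtain ⟨i, m, hm, hmo⟩ := Nat.exists_eq_pow_mul_and_not_dvd (orderOf_pos (k : D)).ne' q (Fact.out : q.Prime).ne_one
      have hcop : (orderOf ((k : D) ^ q ^ i)).Coprime q := by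
        rw [orderOf_pow_of_dvd (pow_ne_zero _ (Fact.out : q.Prime).ne_zero) ⟨m, hmo⟩, hmo,
          Nat.mul_div_cancel_left _ (pow_pos (Fact.out : q.Prime).pos _)]
        exact ((Fact.out : q.Prime).coprime_iff_not_dvd.mpr hm).symm
      refine ⟨i, Subtype.ext (hcopU _ (Subgroup.mem_centralizer_iff.mpr fun u hu => ?_) hcop)⟩
      obtain ⟨n, hn⟩ := hUp ⟨u, hu⟩
      exact (hKU _ (pow_mem k.2 _) n u hu (congrArg Subtype.val hn) hcop).symm.eq
    haveI := hKp.isNilpotent
    infer_instance
  haveI : Group.IsSolvable ρ.range := by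
    refine Cfsg.Agent.PrimePowOrbit.isSolvable_range hpq ρ hrange fun v => ?_
    have heq : (MulAction.stabilizer (Additive E ≃ₗ[ZMod q] Additive E) v).comap ρ =
        Subgroup.centralizer ({((Additive.toMul v : E) : D)} : Set D) := by
      ext d
      rw [Subgroup.mem_comap, MulAction.mem_stabilizer_iff, Subgroup.mem_centralizer_singleton_iff]
      exact hρ d (Additive.toMul v)
    obtain ⟨x, hx, hxv⟩ := hUmem _ (Additive.toMul v).2.1
    obtain ⟨a, ha⟩ := hp x hx
    obtain ⟨j, -, hj⟩ := (Nat.dvd_prime_pow Fact.out).mp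
      (ha ▸ cidx_map_dvd (QuotientGroup.mk' R) (QuotientGroup.mk'_surjective R) x)
    exact ⟨j, by rw [heq, ← hxv]; exact hj⟩
  exact Group.isSolvable_of_ker_le_range ρ.ker.subtype ρ.rangeRestrict fun d hd =>
    ⟨⟨d, by rwa [MonoidHom.ker_rangeRestrict] at hd⟩, rfl⟩

/-- Let G be a finite group and q a prime dividing its order such that every element of q-power order has a conjugacy class of prime-power size. Then G is q-solvable of q-length 1: there are normal subgroups K ≤ L of G with K of order prime to q, L/K a q-group and L of index prime to q. Moreover there is a prime p such that every element of q-power order has a class of p-power size (one prime serving for all of them), and for a Sylow q-subgroup Q: if p = q then Q is normal with a normal complement (a direct factor), while if p ≠ q then Q is abelian, the product of Q with the largest normal p-subgroup O_p(G) is normal in G, and G/O_{q'}(G) is solvable, where O_{q'}(G) is the largest normal subgroup of order prime to q. -/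
theorem result {G : Type*} [Group G] [Finite G] (q : ℕ) [Fact q.Prime] (hq : q ∣ Nat.card G)
    (hBaer : ∀ x : G, (∃ k : ℕ, orderOf x = q ^ k) → ∃ (r : ℕ) (a : ℕ), r.Prime ∧ (Subgroup.centralizer ({x} : Set G)).index = r ^ a) (Q : Sylow q G) :
    (∃ K L : Subgroup G, K.Normal ∧ L.Normal ∧ K ≤ L ∧ (Nat.card K).Coprime q ∧ (∃ m : ℕ, K.relIndex L = q ^ m) ∧ L.index.Coprime q) ∧
    ∃ p : ℕ, p.Prime ∧ (∀ x : G, (∃ k : ℕ, orderOf x = q ^ k) → ∃ a : ℕ, (Subgroup.centralizer ({x} : Set G)).index = p ^ a) ∧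
      (p = q → (Q : Subgroup G).Normal ∧ ∃ N : Subgroup G, N.Normal ∧ N.IsComplement' (Q : Subgroup G)) ∧
      (p ≠ q → IsMulCommutative (Q : Subgroup G) ∧ (Cfsg.pCore p G ⊔ (Q : Subgroup G)).Normal ∧
        ∀ _h : (Cfsg.pPrimeCore q G).Normal, Group.IsSolvable (G ⧸ Cfsg.pPrimeCore q G)) := by
  classical
  open Cfsg.Agent.QBaer in
  · have hB : IsQBaer q G := hBaer
    haveI hRn : (pPrimeCore q G).Normal := Cfsg.Agent.Grp.pPrimeCore_isNormal
    refine ⟨?_, ?_⟩
    · -- `q`-length one
      haveI : (pCore q (G ⧸ pPrimeCore q G)).Normal := Cfsg.Agent.Grp.pCore_isNormal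
      set L := (pCore q (G ⧸ pPrimeCore q G)).comap (QuotientGroup.mk' (pPrimeCore q G)) with hL
      have hRL : pPrimeCore q G ≤ L := fun g hg => by
        rw [hL, Subgroup.mem_comap, QuotientGroup.mk'_apply, (QuotientGroup.eq_one_iff g).mpr hg]
        exact one_mem _
      refine ⟨pPrimeCore q G, L, hRn, Subgroup.Normal.comap inferInstance _, hRL, Cfsg.Agent.Grp.pPrimeCore_coprime, ?_, ?_⟩
      · obtain ⟨m, hm⟩ := (Cfsg.Agent.Grp.pCore_isPGroup (p := q) (G := G ⧸ pPrimeCore q G)).exists_card_eq
        refine ⟨m, ?_⟩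
        rw [← hm, ← Subgroup.relIndex_bot_left, hL]
        have h1 : pPrimeCore q G = (⊥ : Subgroup (G ⧸ pPrimeCore q G)).comap (QuotientGroup.mk' (pPrimeCore q G)) := by
          rw [MonoidHom.comap_bot, QuotientGroup.ker_mk']
        refine (congrArg (fun K : Subgroup G =>
          K.relIndex ((pCore q (G ⧸ pPrimeCore q G)).comap (QuotientGroup.mk' (pPrimeCore q G)))) h1).trans ?_
        rw [Subgroup.relIndex_comap, Subgroup.map_comap_eq_self_of_surjective (QuotientGroup.mk'_surjective _)]
      · have hQL : (Q : Subgroup G) ≤ L := fun x hx => mk_mem_pCore hB (exists_order_pow Q hx)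
        exact ((Fact.out : q.Prime).coprime_iff_not_dvd.mpr fun hd =>
          Q.not_dvd_index (hd.trans (Subgroup.index_dvd_of_le hQL))).symm
    have hconj : ∀ x : G, (∃ k, orderOf x = q ^ k) → ∃ y ∈ (Q : Subgroup G), cidx y = cidx x := fun x hx => by
      obtain ⟨g, hg⟩ := exists_conj_mem Q hx
      exact ⟨_, hg, cidx_conj g x⟩
    by_cases hall : ∀ x ∈ (Q : Subgroup G), ∃ b, cidx x = q ^ b
    · -- one prime, equal to `q`
      have hq' : ∀ x : G, (∃ k, orderOf x = q ^ k) → ∃ b, cidx x = q ^ b := fun x hx => by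
        obtain ⟨y, hy, he⟩ := hconj x hx
        exact he ▸ hall y hy
      refine ⟨q, Fact.out, hq', fun _ => ?_, fun h => absurd rfl h⟩
      have hQn : (Q : Subgroup G).Normal := ⟨fun x hx g => by
        obtain ⟨b, hb⟩ := hall x hx
        obtain ⟨s, hs, hsg⟩ := Transfer.Kazarin.exists_sylow_mem _ hb Q g
        rw [Transfer.Kazarin.conj_eq_of_mem_centralizer hsg]
        exact mul_mem (mul_mem hs hx) (inv_mem hs)⟩
      obtain ⟨P, N, hN, hNP⟩ := Cfsg.Agent.S4126.result (G := G) q fun x hx => hq' x (by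
        rcases hx with h | ⟨rfl, h⟩
        · exact ⟨1, by rw [pow_one, h]⟩
        · exact ⟨2, by rw [h]; norm_num⟩)
      have hPQ : (P : Subgroup G) = (Q : Subgroup G) := by
        haveI := hQn
        haveI := Sylow.unique_of_normal Q hQn
        rw [Subsingleton.elim P Q]
      exact ⟨hQn, N, hN, hPQ ▸ hNP⟩
    -- the abelian case
    push Not at hall
    obtain ⟨x₁, hx₁, hx₁q⟩ := hall
    obtain ⟨p, a, hp, ha⟩ := hB x₁ (exists_order_pow Q hx₁)
    haveI := Fact.mk hp
    replace ha : cidx x₁ = p ^ a := ha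
    have ha0 : a ≠ 0 := fun h => hx₁q 0 (by rw [ha, h, pow_zero, pow_zero])
    have hpq : p ≠ q := fun h => hx₁q a (h ▸ ha)
    have hQc : ∀ u ∈ (Q : Subgroup G), ∀ v ∈ (Q : Subgroup G), Commute u v := by
      by_contra hnc
      push Not at hnc
      obtain ⟨b, hb⟩ := pow_of_not_comm Q hB hnc x₁ hx₁
      exact hx₁q b hb
    have hpQ : ∀ x ∈ (Q : Subgroup G), ∃ e : ℕ, cidx x = p ^ e := by
      intro x hx
      obtain ⟨r, e, hr, he⟩ := hB x (exists_order_pow Q hx)
      by_cases he0 : e = 0
      · exact ⟨0, by rw [show cidx x = r ^ e from he, he0, pow_zero, pow_zero]⟩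
      · exact ⟨e, by rw [one_prime Q hB hQc hx₁ hx hp hr ha he ha0 he0]; exact he⟩
    have hp' : ∀ x : G, (∃ k, orderOf x = q ^ k) → ∃ e, cidx x = p ^ e := fun x hx => by
      obtain ⟨y, hy, he⟩ := hconj x hx
      exact he ▸ hpQ y hy
    refine ⟨p, hp, hp', fun h => absurd h hpq, fun _ => ⟨⟨⟨fun u v => Subtype.ext (hQc u u.2 v v.2).eq⟩⟩, ?_, ?_⟩⟩
    · haveI : (pCore p G).Normal := Cfsg.Agent.Grp.pCore_isNormal
      set K := pCore p G with hK
      set f := QuotientGroup.mk' K with hf
      haveI : (pCore q (G ⧸ K)).Normal := Cfsg.Agent.Grp.pCore_isNormal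
      have hF : ∀ x ∈ (Q : Subgroup G), f x ∈ pCore q (G ⧸ K) := by
        intro x hx
        obtain ⟨e, he⟩ := hpQ x hx
        obtain ⟨j, -, hj⟩ := (Nat.dvd_prime_pow hp).mp (he ▸ cidx_map_dvd f (QuotientGroup.mk'_surjective K) x)
        have hxF : f x ∈ fittingSubgroup (G ⧸ K) := Transfer.Kazarin.mem_fitting pCore_quot_self_bot (a := j) hj
        haveI := Cfsg.Agent.Grp.fittingSubgroup_isNormal (G := G ⧸ K)
        haveI := Cfsg.Agent.Grp.fittingSubgroup_isNilpotent (G := G ⧸ K)
        set F := fittingSubgroup (G ⧸ K) with hFdef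
        obtain ⟨T⟩ : Nonempty (Sylow q F) := inferInstance
        have hTn : (T : Subgroup F).Normal := Cfsg.Agent.Grp.isNilpotent_iff_sylow_normal.1 inferInstance q inferInstance T
        haveI := T.characteristic_of_normal hTn
        have h1 : (T : Subgroup F).map F.subtype ≤ pCore q (G ⧸ K) :=
          Cfsg.Agent.Grp.le_pCore ConjAct.normal_of_characteristic_of_normal (T.isPGroup'.map _)
        haveI := hTn
        refine h1 ⟨⟨f x, hxF⟩, ?_, rfl⟩
        obtain ⟨k, hk⟩ := exists_order_pow Q hx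
        have hxp : IsPGroup q (Subgroup.zpowers (⟨f x, hxF⟩ : F)) := by
          obtain ⟨i, -, hi⟩ := (Nat.dvd_prime_pow Fact.out).mp (hk ▸ orderOf_map_dvd f x)
          exact IsPGroup.of_card (n := i) (by rw [Nat.card_zpowers, ← Subgroup.orderOf_coe]; exact hi)
        obtain ⟨T', hT'⟩ := hxp.exists_le_sylow
        haveI := Sylow.unique_of_normal T hTn
        rw [Subsingleton.elim T T']
        exact hT' (Subgroup.mem_zpowers _)
      have hmap : (Q : Subgroup G).map f = pCore q (G ⧸ K) := by
        refine le_antisymm (Subgroup.map_le_iff_le_comap.mpr hF) ?_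
        have := Cfsg.Agent.Grp.pCore_le_sylow (Q.mapSurjective (QuotientGroup.mk'_surjective K))
        rwa [Sylow.coe_mapSurjective] at this
      have heq : K ⊔ (Q : Subgroup G) = (pCore q (G ⧸ K)).comap f := by
        rw [← hmap, Subgroup.comap_map_eq, hf, QuotientGroup.ker_mk', sup_comm]
      rw [heq]
      infer_instance
    · intro _
      exact solvable_quot hpq hB Q hQc hpQ

end Cfsg.Agent.S4125
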