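import Cfsg.Statements.S4127
import Cfsg.Agent.Lib.Grp.Cores
import Cfsg.Agent.Lib.Grp.Real
import Cfsg.Agent.Lib.Transfer.PLengthOne
import Cfsg.Agent.Lib.Transfer.NormalComplement
import Cfsg.Agent.Lib.Transfer.PiClasses
import Mathlib

set_option maxHeartbeats 1000000
set_option maxRecDepth 8000

set_option autoImplicit false
open Cfsg

namespace Cfsg.Agent.S4127

/-- Let G be a finite group, p a prime and p^a the largest power of p dividing the size of any conjugacy class of G. If some element of p-power order has a conjugacy class of size exactly p^a, then G has a normal p-complement. -/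
theorem result {G : Type*} [Group G] [Finite G] (p : ℕ) [Fact p.Prime]
    (a : ℕ) (hmax : ∀ y : G, ¬ p ^ (a + 1) ∣ (Subgroup.centralizer ({y} : Set G)).index)
    (hx : ∃ x : G, (∃ k : ℕ, orderOf x = p ^ k) ∧ (Subgroup.centralizer ({x} : Set G)).index = p ^ a) :
    Cfsg.HasNormalPComplement p G := by
  classical
  have hp : p.Prime := Fact.out
  obtain ⟨x, ⟨k, hk⟩, hxa⟩ := hx
  set C := Subgroup.centralizer ({x} : Set G) with hC
  -- every `p'`-element of `C` centralizes a Sylow subgroup of `C`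
  have hcent : ∀ y : G, y ∈ C → (orderOf y).Coprime p → ∃ S : Sylow p C, ∀ s ∈ (S : Subgroup C), (s : G) * y = y * s := by
    intro y hy hyp
    have hcomm : Commute y x := Subgroup.mem_centralizer_singleton_iff.1 hy
    set D := Subgroup.centralizer ({x * y} : Set G) with hD
    have hxmem : x ∈ Subgroup.zpowers (x * y) := by
      have h1 : (x * y) ^ orderOf y = x ^ orderOf y := by rw [hcomm.symm.mul_pow, pow_orderOf_eq_one, mul_one]
      have h2 : (orderOf y).Coprime (orderOf x) := by rw [hk]; exact hyp.pow_right k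
      obtain ⟨m, hm⟩ := exists_pow_eq_self_of_coprime h2
      have := (Subgroup.zpowers (x * y)).pow_mem ((Subgroup.zpowers (x * y)).pow_mem (Subgroup.mem_zpowers (x * y)) (orderOf y)) m
      rwa [h1, hm] at this
    have hDC : D ≤ C := fun g hg => by
      rw [Subgroup.mem_centralizer_singleton_iff] at hg ⊢
      obtain ⟨i, hi⟩ := hxmem
      simp only at hi
      rw [← hi]
      exact ((show Commute g (x * y) from hg).zpow_right i).eq
    obtain ⟨S₁⟩ : Nonempty (Sylow p D) := inferInstance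
    have hS1 : IsPGroup p ((S₁ : Subgroup D).map D.subtype) := S₁.2.map _
    set S' := ((S₁ : Subgroup D).map D.subtype).subgroupOf C with hS'
    have hle : (S₁ : Subgroup D).map D.subtype ≤ C := (Subgroup.map_subtype_le _).trans hDC
    have hidx : ¬ p ∣ S'.index := by
      intro hd
      have h1 : S'.index * p ^ a ∣ (S₁ : Subgroup D).index * D.index := by
        have e : ((S₁ : Subgroup D).map D.subtype).index = (S₁ : Subgroup D).index * D.index := Subgroup.index_map_subtype _
        rw [← e, ← Subgroup.relIndex_mul_index hle, hxa]; rfl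
      have h2 : p ^ (a + 1) ∣ (S₁ : Subgroup D).index * D.index :=
        (by rw [pow_succ']; exact mul_dvd_mul_right hd _ : p ^ (a + 1) ∣ S'.index * p ^ a).trans h1
      exact hmax (x * y) (((hp.coprime_iff_not_dvd.2 S₁.not_dvd_index).pow_left (a + 1)).dvd_of_dvd_mul_left h2)
    refine ⟨(hS1.comap_subtype (K := C)).toSylow hidx, fun s hs => ?_⟩
    obtain ⟨d, -, hds⟩ := Subgroup.mem_subgroupOf.1 (show s ∈ S' from hs)
    have h4 : Commute (s : G) (x * y) := by
      have := Subgroup.mem_centralizer_singleton_iff.1 d.2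
      rwa [show ((d : D) : G) = (s : G) from hds] at this
    have h5 : Commute (s : G) x := Subgroup.mem_centralizer_singleton_iff.1 s.2
    have h6 := h5.inv_right.mul_right h4
    rwa [inv_mul_cancel_left] at h6
  -- the Sylow subgroup of `C` is normal
  obtain ⟨P₀⟩ : Nonempty (Sylow p C) := inferInstance
  have hnorm : Subgroup.normalizer ((P₀ : Subgroup C) : Set C) = ⊤ := by
    refine Cfsg.Agent.Grp.eq_top_of_conj_cover _ fun g => ?_
    obtain ⟨v, u, hv, hu, hvu, hvp, hup⟩ := Cfsg.Agent.Transfer.PiClasses.exists_decomp ({p} : Set ℕ) g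
    have huc : (orderOf (u : G)).Coprime p := by
      rw [Subgroup.orderOf_coe]
      exact (hp.coprime_iff_not_dvd.2 fun h => hup p hp h rfl).symm
    obtain ⟨S, hS⟩ := hcent u u.2 huc
    -- move `v` into a Sylow subgroup centralized by `u`
    set B := Subgroup.centralizer ({u} : Set C) with hB
    have hSB : (S : Subgroup C) ≤ B := fun s hs =>
      Subgroup.mem_centralizer_singleton_iff.2 (Subtype.ext (hS s hs))
    have hvB : v ∈ B := by
      obtain ⟨i, hi⟩ := hv
      obtain ⟨j, hj⟩ := hu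
      simp only at hi hj
      rw [hB, Subgroup.mem_centralizer_singleton_iff, ← hi, ← hj]
      exact ((Commute.refl g).zpow_zpow i j).eq
    have hvpg : IsPGroup p (Subgroup.zpowers (⟨v, hvB⟩ : B)) := by
      refine IsPGroup.of_card (n := (orderOf v).primeFactorsList.length) ?_
      rw [Nat.card_zpowers, ← Subgroup.orderOf_coe]
      exact Nat.eq_prime_pow_of_unique_prime_dvd (orderOf_pos v).ne' fun {r} hr hd => hvp r hr hd
    obtain ⟨T, hT⟩ := hvpg.exists_le_sylow
    obtain ⟨b, hb⟩ := MulAction.exists_smul_eq B T (S.subtype hSB)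
    obtain ⟨c, hc⟩ := MulAction.exists_smul_eq C S P₀
    refine ⟨c * b, ?_⟩
    have hmem : ∀ w ∈ (S : Subgroup C), c * w * c⁻¹ ∈ (P₀ : Subgroup C) := fun w hw => by
      rw [← hc]; exact ⟨w, hw, rfl⟩
    have hbv : (b : C) * v * (b : C)⁻¹ ∈ (S : Subgroup C) := by
      have : b * ⟨v, hvB⟩ * b⁻¹ ∈ (S.subtype hSB : Sylow p B).toSubgroup := by
        rw [← hb]; exact ⟨_, hT (Subgroup.mem_zpowers _), rfl⟩
      exact this
    have hbu : (b : C) * u * (b : C)⁻¹ = u := by
      rw [Subgroup.mem_centralizer_singleton_iff.1 b.2, mul_inv_cancel_right]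
    rw [← hvu, show c * (b : C) * (v * u) * (c * (b : C))⁻¹ = (c * ((b : C) * v * (b : C)⁻¹) * c⁻¹) * (c * ((b : C) * u * (b : C)⁻¹) * c⁻¹) by group, hbu]
    refine Subgroup.mul_mem _ (Subgroup.le_normalizer (hmem _ hbv)) (Subgroup.centralizer_le_normalizer _ ?_)
    refine Subgroup.mem_centralizer_iff.2 fun w hw => ?_
    have hw' : c⁻¹ * w * c ∈ (S : Subgroup C) := by
      rw [← hc] at hw
      obtain ⟨w', hw', rfl⟩ := hw
      have e : c⁻¹ * (c * w' * c⁻¹) * c = w' := by group
      show c⁻¹ * (MulAut.conj c w') * c ∈ (S : Subgroup C)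
      rw [MulAut.conj_apply, e]
      exact hw'
    have h1 : (c⁻¹ * w * c) * u = u * (c⁻¹ * w * c) := Subtype.ext (hS _ hw')
    calc w * (c * u * c⁻¹) = c * ((c⁻¹ * w * c) * u) * c⁻¹ := by group
      _ = c * (u * (c⁻¹ * w * c)) * c⁻¹ := by rw [h1]
      _ = c * u * c⁻¹ * w := by group
  haveI hP₀n : (P₀ : Subgroup C).Normal := Subgroup.normalizer_eq_top_iff.1 hnorm
  haveI : Subsingleton (Sylow p C) := by
    have := P₀.unique_of_normal hP₀n
    infer_instance
  -- the complement in `C`
  obtain ⟨K₀, hK₀⟩ := Subgroup.exists_right_complement'_of_coprime (N := (P₀ : Subgroup C)) P₀.card_coprime_index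
  have hKcard : ¬ p ∣ Nat.card K₀ := by rw [← hK₀.symm.index_eq_card]; exact P₀.not_dvd_index
  have hKcent : ∀ u ∈ K₀, ∀ w ∈ (P₀ : Subgroup C), w * u = u * w := fun u hu w hw => by
    obtain ⟨S, hS⟩ := hcent u u.2 (by
      rw [Subgroup.orderOf_coe]
      exact Nat.Coprime.coprime_dvd_left (K₀.orderOf_dvd_natCard hu) (hp.coprime_iff_not_dvd.2 hKcard).symm)
    rw [Subsingleton.elim P₀ S] at hw
    exact Subtype.ext (hS w hw)
  haveI hK₀n : K₀.Normal := by
    rw [← Subgroup.normalizer_eq_top_iff, eq_top_iff, ← hK₀.sup_eq_top]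
    refine sup_le (fun w hw => Subgroup.centralizer_le_normalizer _ ?_) Subgroup.le_normalizer
    exact Subgroup.mem_centralizer_iff.2 fun u hu => (hKcent u hu w hw).symm
  obtain ⟨n₀, hn₀⟩ := IsPGroup.iff_card.1 P₀.2
  -- `x` lies in `O_p(G)`
  obtain ⟨P, hP⟩ := (P₀.2.map C.subtype).exists_le_sylow
  have hxP₀ : (⟨x, Subgroup.mem_centralizer_singleton_iff.2 rfl⟩ : C) ∈ (P₀ : Subgroup C) := by
    have hxp : IsPGroup p (Subgroup.zpowers (⟨x, Subgroup.mem_centralizer_singleton_iff.2 rfl⟩ : C)) :=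
      IsPGroup.of_card (n := k) (by rw [Nat.card_zpowers, ← Subgroup.orderOf_coe, hk])
    obtain ⟨T, hT⟩ := hxp.exists_le_sylow
    exact Subsingleton.elim T P₀ ▸ hT (Subgroup.mem_zpowers _)
  have hxP : x ∈ (P : Subgroup G) := hP ⟨_, hxP₀, rfl⟩
  have hcos : ∀ g : G, ∃ q ∈ (P : Subgroup G), q⁻¹ * g ∈ C := by
    intro g
    let φ : (P : Subgroup G) ⧸ C.subgroupOf (P : Subgroup G) → G ⧸ C :=
      Quotient.map' (fun q => (q : G)) fun q q' h => by
        rw [QuotientGroup.leftRel_apply] at h ⊢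
        exact h
    have hφ : Function.Injective φ := by
      intro q q'
      induction q using Quotient.inductionOn' with
      | h q =>
        induction q' using Quotient.inductionOn' with
        | h q' =>
          intro h
          exact QuotientGroup.eq.2 (QuotientGroup.eq.1 h : (q : G)⁻¹ * q' ∈ C)
    have hsurj : Function.Surjective φ := by
      refine (hφ.bijective_of_nat_card_le ?_).2
      show C.index ≤ C.relIndex (P : Subgroup G)
      have h1 : Nat.card ↥(C ⊓ (P : Subgroup G)) ∣ Nat.card (P₀ : Subgroup C) := by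
        obtain ⟨j, hj⟩ := IsPGroup.iff_card.1 (P.2.to_le (inf_le_right : C ⊓ (P : Subgroup G) ≤ P))
        rw [hj]
        refine ((hp.coprime_iff_not_dvd.2 P₀.not_dvd_index).pow_left j).dvd_of_dvd_mul_right ?_
        rw [(P₀ : Subgroup C).card_mul_index, ← hj]
        exact Subgroup.card_dvd_of_le inf_le_left
      have h2 := Subgroup.card_mul_index ((P : Subgroup G))
      have h3 : (P : Subgroup G).index * Nat.card (P : Subgroup G) = (P₀ : Subgroup C).index * Nat.card (P₀ : Subgroup C) * p ^ a := by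
        rw [mul_comm, h2, mul_comm (P₀ : Subgroup C).index, (P₀ : Subgroup C).card_mul_index, ← hxa, Subgroup.card_mul_index]
      have h4 : p ^ a * Nat.card (P₀ : Subgroup C) ∣ Nat.card (P : Subgroup G) := by
        rw [hn₀, ← pow_add]
        refine ((hp.coprime_iff_not_dvd.2 P.not_dvd_index).pow_left (a + n₀)).dvd_of_dvd_mul_left ?_
        rw [h3, hn₀, pow_add]
        exact ⟨(P₀ : Subgroup C).index, by ring⟩
      rw [hxa]
      refine Nat.le_of_mul_le_mul_right ?_ (Nat.card_pos : 0 < Nat.card ↥(C ⊓ (P : Subgroup G)))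
      calc p ^ a * Nat.card ↥(C ⊓ (P : Subgroup G)) ≤ p ^ a * Nat.card (P₀ : Subgroup C) :=
            Nat.mul_le_mul_left _ (Nat.le_of_dvd Nat.card_pos h1)
        _ ≤ Nat.card (P : Subgroup G) := Nat.le_of_dvd Nat.card_pos h4
        _ = C.relIndex (P : Subgroup G) * Nat.card ↥(C ⊓ (P : Subgroup G)) := by
            rw [← Subgroup.inf_relIndex_right, mul_comm]
            have e := Subgroup.relIndex_mul_relIndex ⊥ (C ⊓ (P : Subgroup G)) (P : Subgroup G) bot_le inf_le_right
            rw [Subgroup.relIndex_bot_left, Subgroup.relIndex_bot_left] at e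
            exact e.symm
    obtain ⟨q, hq⟩ := hsurj (g : G ⧸ C)
    obtain ⟨q, rfl⟩ := QuotientGroup.mk_surjective q
    exact ⟨q, q.2, QuotientGroup.eq.1 hq⟩
  set Q := Cfsg.pCore p G with hQ
  haveI : Q.Normal := Cfsg.Agent.Grp.pCore_isNormal
  have hxQ : x ∈ Q := by
    rw [hQ, Cfsg.Agent.Grp.pCore_eq_iInf_sylow, Subgroup.mem_iInf]
    intro T
    obtain ⟨g, hg⟩ := MulAction.exists_smul_eq G P T
    obtain ⟨q, hq, hc⟩ := hcos g⁻¹
    have hgx : g⁻¹ * x * g = q * x * q⁻¹ := by
      have h := Subgroup.mem_centralizer_singleton_iff.1 hc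
      calc g⁻¹ * x * g = q * ((q⁻¹ * g⁻¹) * x * (q⁻¹ * g⁻¹)⁻¹) * q⁻¹ := by group
        _ = q * x * q⁻¹ := by rw [h, mul_inv_cancel_right]
    rw [← hg, Sylow.coe_subgroup_smul]
    refine ⟨q * x * q⁻¹, (P : Subgroup G).mul_mem ((P : Subgroup G).mul_mem hq hxP) ((P : Subgroup G).inv_mem hq), ?_⟩
    show g * (q * x * q⁻¹) * g⁻¹ = x
    rw [← hgx]; group
  -- `K` centralizes `O_p(G)`
  set K := K₀.map C.subtype with hK
  have hQp : IsPGroup p Q := Cfsg.Agent.Grp.pCore_isPGroup
  have hKQ : ∀ u ∈ K₀, ∀ w ∈ Q, w * (u : G) = (u : G) * w := by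
    intro u hu w hw
    let b : MulAut Q := MulAut.conjNormal (u : G)
    set Hh := C.subgroupOf Q with hHh
    have hCH : Subgroup.centralizer (Hh : Set Q) ≤ Hh := fun z hz => by
      refine Subgroup.mem_subgroupOf.2 (Subgroup.mem_centralizer_singleton_iff.2 ?_)
      have := Subgroup.mem_centralizer_iff.1 hz ⟨x, hxQ⟩ (Subgroup.mem_subgroupOf.2 (Subgroup.mem_centralizer_singleton_iff.2 rfl))
      exact (congrArg Subtype.val this).symm
    have hb : (orderOf b).Coprime p := Nat.Coprime.coprime_dvd_left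
      ((orderOf_map_dvd _ _).trans (by rw [Subgroup.orderOf_coe]; exact K₀.orderOf_dvd_natCard hu))
      (hp.coprime_iff_not_dvd.2 hKcard).symm
    have hfix : ∀ z ∈ Hh, b z = z := fun z hz => by
      have hzC : (z : G) ∈ C := Subgroup.mem_subgroupOf.1 hz
      have hzP : (⟨(z : G), hzC⟩ : C) ∈ (P₀ : Subgroup C) := by
        obtain ⟨j, hj⟩ := IsPGroup.iff_orderOf.1 hQp z
        have hzp : IsPGroup p (Subgroup.zpowers (⟨(z : G), hzC⟩ : C)) := IsPGroup.of_card (n := j)
          (by rw [Nat.card_zpowers, ← hj, ← Subgroup.orderOf_coe, ← Subgroup.orderOf_coe z])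
        obtain ⟨T, hT⟩ := hzp.exists_le_sylow
        exact Subsingleton.elim T P₀ ▸ hT (Subgroup.mem_zpowers _)
      apply Subtype.ext
      have h1 : (z : G) * u = u * z := congrArg Subtype.val (hKcent u hu _ hzP)
      rw [MulAut.conjNormal_apply, ← h1, mul_inv_cancel_right]
    have h1 := congrArg (fun b : MulAut Q => ((b ⟨w, hw⟩ : Q) : G))
      (Cfsg.Agent.Transfer.PLengthOne.aut_eq_one_of_fixed_self_centralizing hQp hCH hb hfix)
    simp only [b, MulAut.conjNormal_apply, MulAut.one_apply] at h1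
    exact (mul_inv_eq_iff_eq_mul.1 h1).symm
  have hKn : K.Normal := by
    refine ⟨fun y hy g => ?_⟩
    obtain ⟨u, hu, rfl⟩ := hy
    have hL : (u : G) ∈ Subgroup.centralizer (Q : Set G) := Subgroup.mem_centralizer_iff.2 fun w hw => hKQ u hu w hw
    haveI : (Subgroup.centralizer (Q : Set G)).Normal := Subgroup.normal_centralizer
    have hgC : g * (u : G) * g⁻¹ ∈ C := Subgroup.mem_centralizer_singleton_iff.2
      (Subgroup.mem_centralizer_iff.1 (Subgroup.Normal.conj_mem inferInstance _ hL g) x hxQ).symm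
    refine ⟨⟨_, hgC⟩, ?_, rfl⟩
    refine SetLike.mem_coe.2 ((QuotientGroup.eq_one_iff _).1 (orderOf_eq_one_iff.1 (Nat.eq_one_of_dvd_coprimes
      (a := Nat.card K₀) (b := Nat.card (P₀ : Subgroup C)) ?_ ?_ ?_)))
    · rw [hn₀]; exact ((hp.coprime_iff_not_dvd.2 hKcard).pow_left n₀).symm
    · refine (orderOf_map_dvd (QuotientGroup.mk' K₀) _).trans ?_
      rw [← Subgroup.orderOf_coe]
      show orderOf (g * (u : G) * g⁻¹) ∣ _
      rw [← MulAut.conj_apply, MulEquiv.orderOf_eq, Subgroup.orderOf_coe]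
      exact K₀.orderOf_dvd_natCard hu
    · refine (orderOf_dvd_natCard _).trans (dvd_of_eq ?_)
      rw [← Subgroup.index_eq_card, hK₀.index_eq_card]
  refine Cfsg.Agent.Transfer.hasNormalPComplement_iff_exists.2 ⟨K, hKn, ?_, n₀ + a, ?_⟩
  · rwa [hK, Subgroup.card_map_of_injective C.subtype_injective]
  · rw [hK, Subgroup.index_map_subtype, hK₀.index_eq_card, hn₀, hxa, pow_add]

end Cfsg.Agent.S4127
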