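import Cfsg.Statements.S4130
import Cfsg.Agent.Lib.Transfer.SquareFree.Commutator

set_option maxHeartbeats 1000000
set_option maxRecDepth 8000

set_option autoImplicit false
open Cfsg

namespace Cfsg.Agent.S4130

open Cfsg.Agent.Transfer Cfsg.Agent.Transfer.SquareFree Subgroup
open scoped commutatorElement

/-- Let G be a finite group all of whose conjugacy class sizes are square-free. Then G is supersolvable, G/F(G) and the derived subgroup G′ are cyclic of square-free order (F(G) the Fitting subgroup, which is normal), F(G) has nilpotency class at most 2, and G is metabelian. -/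
theorem result {G : Type*} [Group G] [Finite G]
    (h : ∀ x : G, Squarefree (Subgroup.centralizer ({x} : Set G)).index) :
    Cfsg.IsSupersolvable G ∧ (Cfsg.fittingSubgroup G).Normal ∧
    (∀ _h : (Cfsg.fittingSubgroup G).Normal, IsCyclic (G ⧸ Cfsg.fittingSubgroup G) ∧ Squarefree (Cfsg.fittingSubgroup G).index) ∧
    IsCyclic (commutator G) ∧ Squarefree (Nat.card (commutator G)) ∧
    Subgroup.upperCentralSeries ↥(Cfsg.fittingSubgroup G) 2 = ⊤ ∧ commutator ↥(commutator G) = ⊥ := by

  have hsf : SFClasses G := h
  have hss := SFClasses.isSupersolvable (Nat.card G) rfl hsf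
  set F := Cfsg.fittingSubgroup G with hFdef
  haveI hFn : F.Normal := fittingSubgroup_normal' G
  have hnil : Group.IsNilpotent (_root_.commutator G) := Cfsg.Agent.S0526.result hss
  haveI := hnil
  have hsq : Squarefree (Nat.card (_root_.commutator G)) := by
    rw [Nat.squarefree_iff_prime_squarefree]
    intro p hp hd
    exact SFClasses.not_sq_dvd_commutator (Nat.card G) rfl hsf p hp (by rwa [pow_two])
  haveI : IsZGroup (_root_.commutator G) := IsZGroup.of_squarefree hsq
  haveI hcyc : IsCyclic (_root_.commutator G) := inferInstance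
  obtain ⟨d, hd⟩ := hcyc.exists_generator
  have hC : Subgroup.centralizer ({(d : G)} : Set G) = F := by
    refine le_antisymm ?_ ?_
    · set C := Subgroup.centralizer ({(d : G)} : Set G) with hCdef
      have hcen : ∀ t ∈ C, ∀ z ∈ _root_.commutator G, t * z = z * t := by
        intro t ht z hz
        obtain ⟨i, hi⟩ := hd ⟨z, hz⟩
        have h1 : (d : G) ^ i = z := congrArg Subtype.val hi
        rw [← h1]
        exact (show Commute t (d : G) from mem_centralizer_singleton_iff.1 ht).zpow_right i
      have hGC : _root_.commutator G ≤ C := fun z hz => by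
        obtain ⟨i, hi⟩ := hd ⟨z, hz⟩
        have h1 : (d : G) ^ i = z := congrArg Subtype.val hi
        rw [← h1]
        exact mem_centralizer_singleton_iff.2 (Commute.zpow_self (d : G) i).eq
      haveI hCn : C.Normal := Subgroup.Normal.of_commutator_le (h := hGC)
      refine le_sSup ⟨hCn, Cfsg.Agent.Grp.isNilpotent_of_commutator_le_center ?_⟩
      rw [_root_.commutator_def, commutator_le]
      intro a _ b _
      rw [mem_center_iff]
      intro t
      apply Subtype.ext
      exact hcen t t.2 _ (_root_.commutator_def G ▸ commutator_mem_commutator (mem_top (a : G)) (mem_top (b : G)))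
    · intro t ht
      have hGF : _root_.commutator G ≤ F := le_sSup ⟨inferInstance, hnil⟩
      have hdF : (d : G) ∈ F := hGF d.2
      have hprim : ∀ e : G, e ∈ _root_.commutator G → (∃ (q : ℕ) (k : ℕ), q.Prime ∧ orderOf e = q ^ k) →
          t * e = e * t := by
        rintro e he ⟨q, k, hq, hk⟩
        haveI := Fact.mk hq
        rcases Nat.eq_zero_or_pos k with rfl | hk0
        · rw [pow_zero, orderOf_eq_one_iff] at hk
          subst hk
          simp
        have hk1 : k = 1 := by
          by_contra hne
          have h2 : q ^ 2 ∣ Nat.card (_root_.commutator G) :=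
            ((pow_dvd_pow q (by omega)).trans hk.symm.dvd).trans
              ((_root_.commutator G).orderOf_dvd_natCard he)
          exact hq.ne_one (Nat.isUnit_iff.1 (hsq q (by rwa [← pow_two])))
        subst hk1
        rw [pow_one] at hk
        have hen : (Subgroup.zpowers e).Normal := by
          have hchar : (Subgroup.zpowers (⟨e, he⟩ : _root_.commutator G)).Characteristic := by
            rw [Subgroup.characteristic_iff_map_le]
            rintro φ _ ⟨x, hx, rfl⟩
            obtain ⟨i, rfl⟩ := hx
            obtain ⟨m, hm⟩ := MonoidHom.map_cyclic φ.toMonoidHom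
            exact ⟨m * i, show (⟨e, he⟩ : _root_.commutator G) ^ (m * i) =
              φ.toMonoidHom ((⟨e, he⟩ : _root_.commutator G) ^ i) by rw [map_zpow, hm, ← zpow_mul]⟩
          haveI := hchar
          have : ((Subgroup.zpowers (⟨e, he⟩ : _root_.commutator G)).map (_root_.commutator G).subtype).Normal :=
            inferInstance
          rwa [MonoidHom.map_zpowers] at this
        have heF : Subgroup.zpowers e ≤ F := Subgroup.zpowers_le.2 (hGF he)
        haveI := hen
        haveI hFnil : Group.IsNilpotent F := fittingSubgroup_isNilpotent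
        have hcard : Nat.card ((Subgroup.zpowers e).subgroupOf F) = q := by
          rw [Nat.card_congr (subgroupOfEquivOfLe heF).toEquiv, Nat.card_zpowers, hk]
        have hne : (Subgroup.zpowers e).subgroupOf F ≠ ⊥ := fun h1 => by
          rw [h1, card_bot] at hcard
          exact hq.ne_one hcard.symm
        have hmeet : (Subgroup.zpowers e).subgroupOf F ⊓ Subgroup.center F ≠ ⊥ :=
          Cfsg.Agent.Grp.inf_center_ne_bot _ hne
        have hle : (Subgroup.zpowers e).subgroupOf F ≤ Subgroup.center F := by
          rcases (Nat.dvd_prime hq).1 (hcard ▸ Subgroup.card_dvd_of_le (inf_le_left :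
              (Subgroup.zpowers e).subgroupOf F ⊓ Subgroup.center F ≤ _)) with h1 | h1
          · exact absurd (card_eq_one.1 h1) hmeet
          · exact inf_eq_left.1 (eq_of_le_of_card_ge inf_le_left (by rw [h1, hcard]))
        exact congrArg Subtype.val (mem_center_iff.1 (hle (x := ⟨e, hGF he⟩)
          (Subgroup.mem_subgroupOf.2 (mem_zpowers e))) ⟨t, ht⟩)
      rw [mem_centralizer_singleton_iff]
      have hmem : (d : G) ∈ Subgroup.centralizer ({t} : Set G) ⊓ _root_.commutator G := by
        refine prime_parts (d : G) _ fun q hq y hy hyz => ?_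
        obtain ⟨k, hk⟩ := hy
        have hyC : y ∈ _root_.commutator G := (Subgroup.zpowers_le.2 d.2) hyz
        exact ⟨mem_centralizer_singleton_iff.2 (hprim y hyC ⟨q, k, hq, hk⟩).symm, hyC⟩
      exact (mem_centralizer_singleton_iff.1 hmem.1).symm
  have hGF : _root_.commutator G ≤ F := le_sSup ⟨inferInstance, hnil⟩
  have hidx : Squarefree F.index := hC ▸ hsf (d : G)
  have hcenF : ∀ t ∈ F, ∀ z ∈ _root_.commutator G, t * z = z * t := by
    intro t ht z hz
    obtain ⟨i, hi⟩ := hd ⟨z, hz⟩
    have h1 : (d : G) ^ i = z := congrArg Subtype.val hi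
    rw [← hC] at ht
    rw [← h1]
    exact (show Commute t (d : G) from mem_centralizer_singleton_iff.1 ht).zpow_right i
  refine ⟨hss, hFn, fun _ => ⟨?_, hidx⟩, hcyc, hsq, ?_, ?_⟩
  · haveI : IsZGroup (G ⧸ F) := IsZGroup.of_squarefree (by rw [← Subgroup.index_eq_card]; exact hidx)
    haveI : IsMulCommutative (G ⧸ F) := by
      rw [← commutator_eq_bot_iff, _root_.commutator_def, ← Subgroup.map_top_of_surjective
        (QuotientGroup.mk' F) (QuotientGroup.mk'_surjective F), ← Subgroup.map_commutator,
        ← _root_.commutator_def, Subgroup.map_eq_bot_iff, QuotientGroup.ker_mk']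
      exact hGF
    letI : CommGroup (G ⧸ F) := { (inferInstance : Group (G ⧸ F)) with mul_comm := mul_comm' }
    exact inferInstance
  · refine eq_top_iff.2 fun a _ => ?_
    rw [show (2 : ℕ) = 1 + 1 from rfl, Subgroup.mem_upperCentralSeries_succ_iff]
    intro b
    rw [Subgroup.upperCentralSeries_one, Subgroup.mem_center_iff]
    intro t
    apply Subtype.ext
    exact hcenF t t.2 _ (_root_.commutator_def G ▸ commutator_mem_commutator (mem_top (a : G)) (mem_top (b : G)))
  · exact (commutator_eq_bot_iff _).2 (inferInstance : IsMulCommutative (_root_.commutator G))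

end Cfsg.Agent.S4130
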