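import Cfsg.Statements.S4133
import Cfsg.Agent.Lib.Transfer.AbelianTwoFactor
import Cfsg.Agent.Lib.Grp.Real
import Cfsg.Agent.S0089
import Cfsg.Agent.S0205
-- import your own Cfsg.Agent.* helpers here

set_option autoImplicit false
open Cfsg

namespace Cfsg.Agent.S4133

open Cfsg.Agent.Transfer

universe u

theorem abelian_sylows_subgroup {G : Type u} [Group G] [Finite G]
    (hA : ∀ (p : ℕ) [Fact p.Prime] (P : Sylow p G), IsMulCommutative (P : Subgroup G)) (E : Subgroup G)
    (p : ℕ) [Fact p.Prime] (P : Sylow p ↥E) : IsMulCommutative (P : Subgroup ↥E) := by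
  obtain ⟨Q, hQ⟩ := (P.isPGroup'.map E.subtype).exists_le_sylow
  haveI := hA p Q
  refine ⟨⟨fun a b => Subtype.ext (Subtype.ext ?_)⟩⟩
  simp only [Subgroup.coe_mul]
  exact congrArg (Subtype.val : ↥(Q : Subgroup G) → G) (mul_comm' (⟨(a : ↥E).1, hQ ⟨a.1, a.2, rfl⟩⟩ : (Q : Subgroup G))
    ⟨(b : ↥E).1, hQ ⟨b.1, b.2, rfl⟩⟩)

/-- A perfect group with commutative Sylow subgroups has trivial centre. -/
theorem center_eq_bot {G : Type u} [Group G] [Finite G]
    (hA : ∀ (p : ℕ) [Fact p.Prime] (P : Sylow p G), IsMulCommutative (P : Subgroup G))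
    (hperf : commutator G = ⊤) : Subgroup.center G = ⊥ := by
  have h := Cfsg.Agent.S0089.result (G := G) (fun p hp P => @hA p ⟨hp⟩ P)
  rwa [hperf, top_inf_eq] at h

/-- In a nontrivial perfect group with commutative Sylow subgroups some class has even size. -/
theorem exists_even_class {G : Type u} [Group G] [Finite G] [Nontrivial G]
    (hA : ∀ (p : ℕ) [Fact p.Prime] (P : Sylow p G), IsMulCommutative (P : Subgroup G))
    (hperf : commutator G = ⊤) :
    ∃ d : G, ∀ S : Sylow 2 G, ¬ (S : Subgroup G) ≤ Subgroup.centralizer ({d} : Set G) := by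
  haveI : Fact (Nat.Prime 2) := ⟨Nat.prime_two⟩
  by_contra h
  push Not at h
  obtain ⟨S⟩ := (inferInstance : Nonempty (Sylow 2 G))
  have htop : Subgroup.centralizer ((S : Subgroup G) : Set G) = ⊤ := by
    refine Cfsg.Agent.Grp.eq_top_of_conj_cover _ fun x => ?_
    obtain ⟨Q, hQ⟩ := h x
    obtain ⟨g, rfl⟩ := MulAction.exists_smul_eq G S Q
    refine ⟨g⁻¹, Subgroup.mem_centralizer_iff.2 fun s hs => ?_⟩
    have h1 := Subgroup.mem_centralizer_singleton_iff.1 (hQ (x := g * s * g⁻¹)
      (by rw [Sylow.coe_subgroup_smul]; exact ⟨s, hs, rfl⟩))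
    calc s * (g⁻¹ * x * g⁻¹⁻¹) = g⁻¹ * ((g * s * g⁻¹) * x) * g := by group
      _ = g⁻¹ * (x * (g * s * g⁻¹)) * g := by rw [h1]
      _ = g⁻¹ * x * g⁻¹⁻¹ * s := by group
  have hS : (S : Subgroup G) = ⊥ := by
    rw [← le_bot_iff, ← center_eq_bot hA hperf]
    intro s hs
    exact Subgroup.mem_center_iff.2 fun g => (Subgroup.mem_centralizer_iff.1 (htop ▸ Subgroup.mem_top g :
      g ∈ Subgroup.centralizer ((S : Subgroup G) : Set G)) s hs).symm
  have hodd : Odd (Nat.card G) := by
    rw [← Nat.not_even_iff_odd, even_iff_two_dvd]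
    exact fun hd => S.ne_bot_of_dvd_card hd hS
  haveI := Cfsg.Agent.S0205.result hodd
  have hp : Group.IsPerfect G := Group.isPerfect_def.2 hperf
  exact Group.IsPerfect.not_isSolvable G inferInstance

/-- A non-solvable finite group has a nontrivial normal perfect subgroup. -/
theorem exists_perfect {G : Type u} [Group G] [Finite G] {D : Subgroup G} [D.Normal]
    (hD : ¬ Group.IsSolvable ↥D) :
    ∃ E : Subgroup G, E.Normal ∧ E ≤ D ∧ Nontrivial ↥E ∧ commutator ↥E = ⊤ := by
  obtain ⟨n, hn⟩ : ∃ n, derivedSeries ↥D (n + 1) = derivedSeries ↥D n := by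
    by_contra h
    push Not at h
    have hlt : ∀ n, derivedSeries ↥D (n + 1) < derivedSeries ↥D n := fun n =>
      lt_of_le_of_ne (derivedSeries_antitone _ (Nat.le_succ n)) (h n)
    have hcard : ∀ n, Nat.card (derivedSeries ↥D n) + n ≤ Nat.card ↥D := by
      intro n
      induction n with
      | zero => simp
      | succ n ihn =>
        have h1 : Nat.card (derivedSeries ↥D (n + 1)) < Nat.card (derivedSeries ↥D n) := by
          refine lt_of_le_of_ne (Subgroup.card_le_of_le (hlt n).le) fun e => (hlt n).ne ?_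
          exact Subgroup.eq_of_le_of_card_ge (hlt n).le e.ge
        omega
    have := hcard (Nat.card ↥D + 1)
    omega
  haveI := derivedSeries_characteristic ↥D n
  refine ⟨(derivedSeries ↥D n).map D.subtype, inferInstance, Subgroup.map_subtype_le _, ?_, ?_⟩
  · rw [Subgroup.nontrivial_iff_ne_bot]
    intro h
    refine hD ((Group.isSolvable_def ↥D).2 ⟨n, ?_⟩)
    exact (Subgroup.map_eq_bot_iff_of_injective _ D.subtype_injective).1 h
  · set E := (derivedSeries ↥D n).map D.subtype
    apply Subgroup.map_injective E.subtype_injective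
    rw [commutator_def, Subgroup.map_commutator, ← MonoidHom.range_eq_map, Subgroup.range_subtype]
    show ⁅E, E⁆ = E
    rw [← Subgroup.map_commutator]
    exact congrArg (Subgroup.map D.subtype) hn

/-- Let G be a finite group all of whose Sylow subgroups are abelian, and let 2^a be the largest power of 2 dividing the size of any conjugacy class of G. If some element has a conjugacy class of size exactly 2^a, then G is solvable. -/
theorem result {G : Type*} [Group G] [Finite G]
    (hA : ∀ (p : ℕ) [Fact p.Prime] (P : Sylow p G), IsMulCommutative (P : Subgroup G))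
    (a : ℕ) (hmax : ∀ y : G, ¬ 2 ^ (a + 1) ∣ (Subgroup.centralizer ({y} : Set G)).index) (hx : ∃ x : G, (Subgroup.centralizer ({x} : Set G)).index = 2 ^ a) :
    Group.IsSolvable G := by
  haveI : Fact (Nat.Prime 2) := ⟨Nat.prime_two⟩
  obtain ⟨x, hx⟩ := hx
  set C := Subgroup.centralizer ({x} : Set G) with hC
  set D := C.normalCore with hD
  have hDC : D ≤ C := Subgroup.normalCore_le C
  -- every 2-element of `C` lies in `D`
  have hAb : AbTwoFactor.AbTwo G := AbTwoFactor.abTwo_of_sylow fun P => hA 2 P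
  have htwo : ∀ (K : Subgroup G), IsPGroup 2 K → K ≤ C → K ≤ D := by
    intro K hK hKC q hq b
    obtain ⟨P, hP⟩ := hK.exists_le_sylow
    obtain ⟨s, hs, h, hh, e⟩ := AbTwoFactor.coset_factor P hx b⁻¹
    have eb : b = h⁻¹ * s⁻¹ := by rw [← inv_inv b, e, mul_inv_rev]
    have h1 : s⁻¹ * q * s = q := by
      rw [mul_assoc, hAb _ P.isPGroup' q (hP hq) s hs, inv_mul_cancel_left]
    have h2 : b * q * b⁻¹ = h⁻¹ * q * h := by
      rw [eb]
      calc h⁻¹ * s⁻¹ * q * (h⁻¹ * s⁻¹)⁻¹ = h⁻¹ * (s⁻¹ * q * s) * h := by group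
        _ = _ := by rw [h1]
    rw [h2]
    exact mul_mem (mul_mem (inv_mem hh) (hKC hq)) hh
  have hodd : ¬ 2 ∣ D.relIndex C := by
    obtain ⟨P⟩ := (inferInstance : Nonempty (Sylow 2 ↥C))
    intro hd
    refine P.not_dvd_index (hd.trans (Subgroup.index_dvd_of_le fun q hq => ?_))
    rw [Subgroup.mem_subgroupOf]
    exact htwo ((P : Subgroup ↥C).map C.subtype) (P.isPGroup'.map _) (Subgroup.map_subtype_le _) ⟨q, hq, rfl⟩
  by_cases hsD : Group.IsSolvable ↥D
  · haveI := hsD
    have hs := QuotientGroup.mk'_surjective D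
    have hH : Odd (Nat.card (C.map (QuotientGroup.mk' D))) := by
      rw [← Subgroup.relIndex_ker, QuotientGroup.ker_mk', ← Nat.not_even_iff_odd, even_iff_two_dvd]
      exact hodd
    obtain ⟨j, -, hj⟩ := (Nat.dvd_prime_pow Nat.prime_two).1 (hx ▸ C.index_map_dvd hs)
    haveI := AbTwoFactor.solvable_of_odd_twoPower_index (hAb.of_surjective _ hs) _ hH hj
    exact Group.isSolvable_of_ker_le_range D.subtype (QuotientGroup.mk' D)
      (by rw [QuotientGroup.ker_mk', Subgroup.range_subtype])
  exfalso
  obtain ⟨E, hEn, hED, hEnt, hperf⟩ := exists_perfect hsD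
  haveI := hEn
  haveI := hEnt
  obtain ⟨d, hd⟩ := exists_even_class (fun p _ P => abelian_sylows_subgroup hA E p P) hperf
  set y := x * (d : G) with hy
  obtain ⟨T⟩ := (inferInstance : Nonempty (Sylow 2 ↥(Subgroup.centralizer ({y} : Set G))))
  set T' := (T : Subgroup _).map (Subgroup.centralizer ({y} : Set G)).subtype with hT'
  have hT'p : IsPGroup 2 T' := T.isPGroup'.map _
  have hTy : T' ≤ Subgroup.centralizer ({y} : Set G) := Subgroup.map_subtype_le _
  have hTx : T' ≤ C := by
    intro g hg
    have h1 := Subgroup.mem_centralizer_singleton_iff.1 (hTy hg)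
    set z := x⁻¹ * (g * x * g⁻¹) with hz
    have hzE : z ∈ E := by
      have h2 : z = (d : G) * (g * (d : G) * g⁻¹)⁻¹ := by
        calc z = x⁻¹ * (g * y * g⁻¹) * (g * (d : G) * g⁻¹)⁻¹ := by rw [hz, hy]; group
          _ = _ := by rw [h1, hy]; group
      rw [h2]
      exact mul_mem d.2 (inv_mem (hEn.conj_mem _ d.2 g))
    have hzc : ∀ e ∈ E, e * z = z * e := by
      intro e he
      have h2 : Commute e x := Subgroup.mem_centralizer_singleton_iff.1 (hDC (hED he))
      have h3 : Commute (g⁻¹ * e * g) x := Subgroup.mem_centralizer_singleton_iff.1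
        (hDC (hED (by simpa using hEn.conj_mem e he g⁻¹)))
      have h4 : Commute e (g * x * g⁻¹) := by
        have h5 := h3.map (MulAut.conj g).toMonoidHom
        simpa [mul_assoc] using h5
      exact (h2.inv_right.mul_right h4).eq
    have hz1 : (⟨z, hzE⟩ : ↥E) ∈ Subgroup.center ↥E :=
      Subgroup.mem_center_iff.2 fun e => Subtype.ext (hzc e.1 e.2)
    rw [center_eq_bot (fun p _ P => abelian_sylows_subgroup hA E p P) hperf, Subgroup.mem_bot] at hz1
    have hz2 : z = 1 := congrArg Subtype.val hz1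
    rw [hz, inv_mul_eq_one, eq_mul_inv_iff_mul_eq] at hz2
    exact Subgroup.mem_centralizer_singleton_iff.2 hz2.symm
  have hTD : T' ≤ D := htwo T' hT'p hTx
  have hTd : T' ≤ Subgroup.centralizer ({(d : G)} : Set G) := by
    intro g hg
    have h1 : Commute g y := Subgroup.mem_centralizer_singleton_iff.1 (hTy hg)
    have h2 : Commute g x := Subgroup.mem_centralizer_singleton_iff.1 (hTx hg)
    refine Subgroup.mem_centralizer_singleton_iff.2 ?_
    have h3 := h2.inv_right.mul_right h1
    rwa [hy, inv_mul_cancel_left] at h3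
  -- count 2-parts
  let v : Subgroup G → ℕ := fun K => (Nat.card K).factorization 2
  have hmono : ∀ {K L : Subgroup G}, K ≤ L → v K ≤ v L := fun {K L} h =>
    (Nat.factorization_le_iff_dvd Nat.card_pos.ne' Nat.card_pos.ne').2 (Subgroup.card_dvd_of_le h) 2
  have hlt : v T' < v D := by
    by_contra hle
    push Not at hle
    have e := Cfsg.Agent.Grp.card_sup_mul_card_inf_normal (H := T') (N := E)
    have e2 := congrArg (fun n => n.factorization 2) e
    simp only [Nat.factorization_mul Nat.card_pos.ne' Nat.card_pos.ne', Finsupp.coe_add, Pi.add_apply] at e2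
    have h1 : v (T' ⊔ E) ≤ v D := hmono (sup_le hTD hED)
    have hR : IsPGroup 2 (T'.subgroupOf E) := hT'p.comap_of_injective E.subtype E.subtype_injective
    obtain ⟨S, hS⟩ := hR.exists_le_sylow
    have hcard : Nat.card (T'.subgroupOf E) = Nat.card ↥(T' ⊓ E) := by
      rw [← Subgroup.card_map_of_injective (K := T'.subgroupOf E) E.subtype_injective,
        Subgroup.subgroupOf_map_subtype]
    have h2 : Nat.card (S : Subgroup ↥E) ≤ Nat.card (T'.subgroupOf E) := by
      rw [S.card_eq_multiplicity, hcard]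
      refine le_trans (Nat.pow_le_pow_right (by norm_num) ?_) (Nat.ordProj_le 2 Nat.card_pos.ne')
      simp only [v] at h1 hle
      omega
    refine hd S ?_
    rw [← Subgroup.eq_of_le_of_card_ge hS h2]
    intro g hg
    exact Subgroup.mem_centralizer_singleton_iff.2 (Subtype.ext
      (Subgroup.mem_centralizer_singleton_iff.1 (hTd (Subgroup.mem_subgroupOf.1 hg))))
  refine hmax y ((Nat.prime_two.pow_dvd_iff_le_factorization Subgroup.index_ne_zero_of_finite).2 ?_)
  have hTv : (Nat.card (Subgroup.centralizer ({y} : Set G))).factorization 2 = v T' := by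
    show _ = (Nat.card T').factorization 2
    rw [hT', Subgroup.card_map_of_injective (Subgroup.subtype_injective _), T.card_eq_multiplicity,
      Nat.Prime.factorization_pow Nat.prime_two, Finsupp.single_eq_same]
  have e1 := congrArg (fun n => n.factorization 2) (Subgroup.centralizer ({y} : Set G)).card_mul_index
  have e2 := congrArg (fun n => n.factorization 2) C.card_mul_index
  simp only [Nat.factorization_mul Nat.card_pos.ne' Subgroup.index_ne_zero_of_finite, Finsupp.coe_add,
    Pi.add_apply] at e1 e2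
  rw [hx, Nat.Prime.factorization_pow Nat.prime_two, Finsupp.single_eq_same] at e2
  have h3 := hmono hDC
  simp only [v] at hlt hTv h3
  omega

end Cfsg.Agent.S4133
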