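import Cfsg.Statements.S4135
import Cfsg.Agent.Lib.Grp.CoprimeAbelian
import Cfsg.Agent.Lib.Grp.Frattini
import Cfsg.Agent.Lib.Grp.Coprime
import Cfsg.Agent.Lib.Invol.Transvection
import Cfsg.Agent.Lib.Transfer.CharAutomizer

set_option maxHeartbeats 1000000
set_option maxRecDepth 8000

set_option autoImplicit false
open Cfsg

namespace Cfsg.Agent.S4135

open Cfsg.Agent Cfsg.Agent.Transfer Subgroup
open scoped commutatorElement Pointwise

set_option maxHeartbeats 1000000

section
universe u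
variable {G : Type u} [Group G] [Finite G]

theorem mem_cs {x g : G} : g ∈ centralizer ({x} : Set G) ↔ g * x = x * g := by
  rw [mem_centralizer_iff]
  exact ⟨fun h => (h x rfl).symm, fun h y hy => by rw [Set.mem_singleton_iff.1 hy]; exact h.symm⟩

theorem cs_eq_top_iff {x : G} : centralizer ({x} : Set G) = ⊤ ↔ x ∈ center G :=
  ⟨fun h => mem_center_iff.2 fun g => mem_cs.1 (h.ge (mem_top g)),
   fun h => eq_top_iff.2 fun g _ => mem_cs.2 (mem_center_iff.1 h g)⟩

theorem cs_conj (g x : G) (c : G) :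
    c ∈ centralizer ({g * x * g⁻¹} : Set G) ↔ g⁻¹ * c * g ∈ centralizer ({x} : Set G) := by
  rw [mem_cs, mem_cs]
  constructor
  · intro h
    calc g⁻¹ * c * g * x = g⁻¹ * (c * (g * x * g⁻¹)) * g := by group
      _ = x * (g⁻¹ * c * g) := by rw [h]; group
  · intro h
    calc c * (g * x * g⁻¹) = g * (g⁻¹ * c * g * x) * g⁻¹ := by group
      _ = g * x * g⁻¹ * c := by rw [h]; group

theorem parts (ℓ : ℕ) [hl : Fact ℓ.Prime] (n : G) :
    ∃ u ∈ zpowers n, ∃ v ∈ zpowers n, u * v = n ∧ (∃ i, orderOf u = ℓ ^ i) ∧ ¬ ℓ ∣ orderOf v := by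
  set m := orderOf n with hm
  have hm0 : m ≠ 0 := (orderOf_pos n).ne'
  set a := ℓ ^ m.factorization ℓ
  set b := m / a with hb
  have hab : a * b = m := Nat.ordProj_mul_ordCompl_eq_self m ℓ
  have hb0 : 0 < b := Nat.pos_of_ne_zero fun e => hm0 (by rw [← hab, e, mul_zero])
  have ha0 : 0 < a := pow_pos hl.out.pos _
  have hub : orderOf (n ^ b) = a := by
    rw [orderOf_pow' _ hb0.ne', ← hm, Nat.gcd_eq_right ⟨a, by rw [mul_comm]; exact hab.symm⟩,
      Nat.div_eq_of_eq_mul_left hb0 hab.symm]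
  have hva : orderOf (n ^ a) = b := by
    rw [orderOf_pow' _ ha0.ne', ← hm, Nat.gcd_eq_right ⟨b, hab.symm⟩]
  obtain ⟨x, y, hxy⟩ := Nat.isCoprime_iff_coprime.2 ((Nat.coprime_ordCompl hl.out hm0).pow_left (m.factorization ℓ))
  refine ⟨(n ^ b) ^ y, zpow_mem (pow_mem (mem_zpowers n) b) y, (n ^ a) ^ x, zpow_mem (pow_mem (mem_zpowers n) a) x,
    ?_, ?_, fun hd => ?_⟩
  · rw [← zpow_natCast n a, ← zpow_natCast n b, ← zpow_mul, ← zpow_mul, ← zpow_add, mul_comm (b : ℤ) y,
      mul_comm (a : ℤ) x, add_comm, hxy, zpow_one]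
  · obtain ⟨i, -, hi⟩ := (Nat.dvd_prime_pow hl.out).1 ((orderOf_dvd_of_mem_zpowers
      (zpow_mem_zpowers (n ^ b) y)).trans hub.dvd)
    exact ⟨i, hi⟩
  · exact Nat.not_dvd_ordCompl hl.out hm0 (hd.trans ((orderOf_dvd_of_mem_zpowers
      (zpow_mem_zpowers (n ^ a) x)).trans hva.dvd))

theorem eq_top_of_conj {K : Type u} [Group K] [Finite K] (M : Subgroup K)
    (h : ∀ g : K, ∃ c : K, c⁻¹ * g * c ∈ M) : M = ⊤ := by
  classical
  have hex : ∀ g : {g : K // g ≠ 1}, ∃ q : (K ⧸ M) × {m : M // m ≠ 1}, q.1.out * (q.2.1 : K) * q.1.out⁻¹ = g.1 := by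
    rintro ⟨g, hg⟩
    obtain ⟨c, hc⟩ := h g
    set r := (c : K ⧸ M).out with hr
    have hcr : c⁻¹ * r ∈ M := by
      rw [← QuotientGroup.eq, hr, QuotientGroup.out_eq']
    have hm : r⁻¹ * g * r ∈ M := by
      have := M.mul_mem (M.mul_mem (M.inv_mem hcr) hc) hcr
      rwa [show (c⁻¹ * r)⁻¹ * (c⁻¹ * g * c) * (c⁻¹ * r) = r⁻¹ * g * r by group] at this
    refine ⟨((c : K ⧸ M), ⟨⟨_, hm⟩, fun e => hg ?_⟩), ?_⟩
    · have e' : r⁻¹ * g * r = 1 := congrArg Subtype.val e
      calc g = r * (r⁻¹ * g * r) * r⁻¹ := by group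
        _ = 1 := by rw [e']; group
    · show r * (r⁻¹ * g * r) * r⁻¹ = g
      group
  choose f hf using hex
  have hcard := Nat.card_le_card_of_injective f fun a b e => Subtype.ext (by rw [← hf a, ← hf b, e])
  rw [Nat.card_prod, ← Subgroup.index_eq_card] at hcard
  have h1 : ∀ (α : Type u) [Finite α] (a : α), Nat.card {x : α // x ≠ a} + 1 = Nat.card α := fun α _ a => by
    haveI := Fintype.ofFinite α
    rw [Nat.card_eq_fintype_card, Nat.card_eq_fintype_card, Fintype.card_subtype_compl, Fintype.card_subtype_eq]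
    have := Fintype.card_pos (α := α) (h := ⟨a⟩)
    omega
  have hK := h1 K 1
  have hM := h1 M 1
  have hmul := M.card_mul_index
  refine index_eq_one.1 ?_
  have hi : 0 < M.index := Nat.pos_of_ne_zero index_ne_zero_of_finite
  rw [← hM, add_mul, one_mul, mul_comm] at hmul
  omega

variable {N : Subgroup G} {m : ℕ}
  (h : ∀ x ∈ N, (centralizer ({x} : Set G)).index = 1 ∨ (centralizer ({x} : Set G)).index = m)
include h

theorem index_eq {x : G} (hx : x ∈ N) (hxc : x ∉ center G) : (centralizer ({x} : Set G)).index = m :=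
  (h x hx).resolve_left fun e => hxc (cs_eq_top_iff.1 (index_eq_one.1 e))

theorem card_eq {x y : G} (hx : x ∈ N) (hxc : x ∉ center G) (hy : y ∈ N) (hyc : y ∉ center G) :
    Nat.card (centralizer ({x} : Set G)) = Nat.card (centralizer ({y} : Set G)) := by
  have h1 := (centralizer ({x} : Set G)).card_mul_index
  rw [← (centralizer ({y} : Set G)).card_mul_index, index_eq h hx hxc, index_eq h hy hyc] at h1
  exact Nat.eq_of_mul_eq_mul_right (Nat.pos_of_ne_zero fun e => index_ne_zero_of_finite ((index_eq h hy hyc).trans e)) h1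

theorem cs_eq_of_le {x y : G} (hx : x ∈ N) (hxc : x ∉ center G) (hy : y ∈ N) (hyc : y ∉ center G)
    (hle : centralizer ({x} : Set G) ≤ centralizer ({y} : Set G)) :
    centralizer ({x} : Set G) = centralizer ({y} : Set G) :=
  Subgroup.eq_of_le_of_card_ge hle (card_eq h hy hyc hx hxc).le

theorem cs_coprime {x y : G} (hx : x ∈ N) (hxc : x ∉ center G) (hy : y ∈ N) (hxy : x * y = y * x)
    (hco : (orderOf x).Coprime (orderOf y)) :
    centralizer ({x} : Set G) ≤ centralizer ({y} : Set G) := by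
  by_cases hyc : y ∈ center G
  · rw [cs_eq_top_iff.2 hyc]; exact le_top
  have hle : ∀ c, c ∈ centralizer ({x * y} : Set G) → c ∈ centralizer ({x} : Set G) ∧ c ∈ centralizer ({y} : Set G) := by
    intro c hc
    have hz : zpowers (x * y) ≤ centralizer ({c} : Set G) := zpowers_le.2 (mem_cs.2 (mem_cs.1 hc).symm)
    have hpow : ∀ a b : G, a * b = b * a → (orderOf a).Coprime (orderOf b) → a ∈ zpowers (a * b) := by
      intro a b hab hc'
      obtain ⟨k, hk⟩ := exists_pow_eq_self_of_coprime (x := a) hc'.symm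
      have key : a ^ orderOf b ∈ zpowers (a * b) := by
        have h2 : (a * b) ^ orderOf b = a ^ orderOf b := by
          rw [(Commute.mul_pow (hab : Commute a b)), pow_orderOf_eq_one, mul_one]
        exact h2 ▸ pow_mem (mem_zpowers (a * b)) (orderOf b)
      have h3 := pow_mem key k
      rwa [hk] at h3
    refine ⟨(mem_cs (x := x)).2 ((mem_cs (x := c)).1 (hz (hpow x y hxy hco))).symm,
      (mem_cs (x := y)).2 ((mem_cs (x := c)).1 (hz ?_)).symm⟩
    rw [hxy]
    exact hpow y x hxy.symm hco.symm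
  have hxyN : x * y ∈ N := N.mul_mem hx hy
  have hxyc : x * y ∉ center G := fun e => hxc (cs_eq_top_iff.1 (eq_top_iff.2 fun c _ =>
    (hle c (cs_eq_top_iff.2 e ▸ mem_top c)).1))
  rw [← cs_eq_of_le h hxyN hxyc hx hxc (fun c hc => (hle c hc).1)]
  exact fun c hc => (hle c hc).2

/-- A noncentral `ℓ'`-element has, in its centraliser, a noncentral `ℓ`-element of a Sylow `ℓ`-subgroup in `N`. -/
theorem exists_sylow_noncentral [hN : N.Normal] {r : ℕ} [hr : Fact r.Prime] (R : Sylow r G)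
    (hR : ¬ (R : Subgroup G) ≤ center G) (hRN : (R : Subgroup G) ≤ N) {y : G} (hy : y ∈ N) (hyc : y ∉ center G)
    (S : Sylow r (centralizer ({y} : Set G))) :
    ∃ x ∈ ((S : Subgroup (centralizer ({y} : Set G))).map (centralizer ({y} : Set G)).subtype),
      x ∈ N ∧ x ∉ center G := by
  set S' := (S : Subgroup (centralizer ({y} : Set G))).map (centralizer ({y} : Set G)).subtype with hS'
  have hS'p : IsPGroup r S' := S.isPGroup'.map _
  obtain ⟨R', hR'⟩ := hS'p.exists_le_sylow
  obtain ⟨g, hg⟩ := MulAction.exists_smul_eq G R R'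
  have hR'N : (R' : Subgroup G) ≤ N := by
    rw [← hg]
    rintro _ ⟨z, hz, rfl⟩
    exact hN.conj_mem z (hRN hz) g
  by_contra hne
  push Not at hne
  have hSZ : S' ≤ (R : Subgroup G) ⊓ center G := fun z hz => by
    have hzc : z ∈ center G := hne z hz (hR'N (hR' hz))
    refine ⟨?_, hzc⟩
    have := hR' hz
    rw [← hg] at this
    obtain ⟨w, hw, e⟩ := this
    change g * w * g⁻¹ = z at e
    have : w = z := by
      calc w = g⁻¹ * (g * w * g⁻¹) * g := by group
        _ = z := by rw [e, mem_center_iff.1 hzc g⁻¹, inv_mul_cancel_right]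
    rwa [← this]
  obtain ⟨x₀, hx₀, hx₀c⟩ := SetLike.not_le_iff_exists.1 hR
  set Q := ((R : Subgroup G) ⊓ center G) ⊔ zpowers x₀ with hQ
  have hQR : Q ≤ (R : Subgroup G) := sup_le inf_le_left (zpowers_le.2 hx₀)
  have hQC : Q ≤ centralizer ({x₀} : Set G) := sup_le (fun z hz => center_le_centralizer _ hz.2)
    (zpowers_le.2 (mem_cs.2 rfl))
  obtain ⟨S₀, hS₀⟩ := ((R.isPGroup'.to_le hQR).comap_subtype (K := centralizer ({x₀} : Set G))).exists_le_sylow
  have hcard : Nat.card Q ≤ Nat.card S' := by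
    rw [hS', Subgroup.card_map_of_injective (subtype_injective _), ← Nat.card_congr (subgroupOfEquivOfLe hQC).toEquiv]
    refine (Subgroup.card_le_of_le hS₀).trans ?_
    show Nat.card S₀ ≤ Nat.card S
    rw [S₀.card_eq_multiplicity, S.card_eq_multiplicity, card_eq h (hRN hx₀) hx₀c hy hyc]
  have hlt : Nat.card ↥((R : Subgroup G) ⊓ center G) < Nat.card Q :=
    lt_of_le_of_ne (Subgroup.card_le_of_le le_sup_left) fun e => hx₀c (by
      have := Subgroup.eq_of_le_of_card_ge (le_sup_left : (R : Subgroup G) ⊓ center G ≤ Q) e.ge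
      exact ((this.ge (mem_sup_right (mem_zpowers x₀))) : x₀ ∈ (R : Subgroup G) ⊓ center G).2)
  exact absurd (hcard.trans (Subgroup.card_le_of_le hSZ)) (not_le.2 hlt)

/-- If every noncentral element has centraliser conjugate in `N` to one fixed centraliser, `N` is inside it. -/
theorem le_of_conj [hN : N.Normal] {y : G} (hy : y ∈ N) (hyc : y ∉ center G)
    (hcov : ∀ n ∈ N, n ∉ center G → ∃ g ∈ N, centralizer ({n} : Set G) = centralizer ({g * y * g⁻¹} : Set G)) :
    N ≤ centralizer ({y} : Set G) := by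
  have htop : (centralizer ({y} : Set G)).subgroupOf N = ⊤ := eq_top_of_conj _ fun n => by
    by_cases hn : (n : G) ∈ center G
    · exact ⟨1, by
        show (((1 : N)⁻¹ * n * 1 : N) : G) ∈ centralizer ({y} : Set G)
        rw [inv_one, one_mul, mul_one]
        exact center_le_centralizer _ hn⟩
    · obtain ⟨g, hg, e⟩ := hcov n n.2 hn
      refine ⟨⟨g, hg⟩, ?_⟩
      show g⁻¹ * (n : G) * g ∈ centralizer ({y} : Set G)
      rw [← cs_conj, ← e]
      exact mem_cs.2 rfl
  exact subgroupOf_eq_top.1 htop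

/-- Centralisers of noncentral `r'`-elements. -/
theorem cs_structure [hN : N.Normal] {r : ℕ} [hr : Fact r.Prime] (R : Sylow r G)
    (hR : ¬ (R : Subgroup G) ≤ center G) (hRN : (R : Subgroup G) ≤ N) {y : G} (hy : y ∈ N) (hyc : y ∉ center G)
    (hyr : ¬ r ∣ orderOf y) (S : Sylow r (centralizer ({y} : Set G))) :
    ∀ a : G, a ∈ centralizer ({y} : Set G) → a ∈ N → ∀ c ∈ centralizer ({y} : Set G), a * c = c * a := by
  set C := centralizer ({y} : Set G) with hC
  set S' := (S : Subgroup C).map C.subtype with hS'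
  have hord : ∀ z ∈ S', ∃ i, orderOf z = r ^ i := fun z hz => by
    obtain ⟨i, hi⟩ := IsPGroup.iff_orderOf.1 (S.isPGroup'.map C.subtype) ⟨z, hz⟩
    exact ⟨i, by rw [← hi, Subgroup.orderOf_mk]⟩
  have hco : ∀ (u v : G), (∃ i, orderOf u = r ^ i) → ¬ r ∣ orderOf v → (orderOf u).Coprime (orderOf v) := by
    rintro u v ⟨i, hi⟩ hv
    rw [hi]
    exact (hr.out.coprime_iff_not_dvd.2 hv).pow_left i
  have hS'C : S' ≤ C := map_subtype_le _
  have hS'N : ∀ z : G, (∃ i, orderOf z = r ^ i) → z ∈ N := fun z hz => by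
    obtain ⟨i, hi⟩ := hz
    obtain ⟨R', hR'⟩ := (IsPGroup.of_card (n := i) (by rw [Nat.card_zpowers, hi]) : IsPGroup r (zpowers z)).exists_le_sylow
    obtain ⟨g, hg⟩ := MulAction.exists_smul_eq G R R'
    have := hR' (mem_zpowers z)
    rw [← hg] at this
    obtain ⟨w, hw, e⟩ := this
    rw [← e]
    exact hN.conj_mem w (hRN hw) g
  -- elements of the Sylow subgroup are central in `C`
  have hSc : ∀ z : G, z ∈ C → (∃ i, orderOf z = r ^ i) → ∀ c ∈ C, z * c = c * z := by
    intro z hz hzr c hc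
    by_cases hzc : z ∈ center G
    · exact (mem_center_iff.1 hzc c).symm
    have h1 := cs_coprime h (hS'N z hzr) hzc hy (mem_cs.1 hz) (hco z y hzr hyr)
    have h2 := cs_eq_of_le h (hS'N z hzr) hzc hy hyc h1
    exact (mem_cs.1 (h2.ge hc)).symm
  obtain ⟨x, hxS, hxN, hxc⟩ := exists_sylow_noncentral h R hR hRN hy hyc S
  have hCx : centralizer ({x} : Set G) = C :=
    cs_eq_of_le h hxN hxc hy hyc (cs_coprime h hxN hxc hy (mem_cs.1 (hS'C hxS)) (hco x y (hord x hxS) hyr))
  intro a ha haN c hc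
  obtain ⟨u, hu, v, hv, huv, hur, hvr⟩ := parts r a
  have huC : u ∈ C := zpowers_le.2 ha hu
  have hvC : v ∈ C := zpowers_le.2 ha hv
  have hvN : v ∈ N := zpowers_le.2 haN hv
  have h2 : v * c = c * v := by
    have h3 := cs_coprime h hxN hxc hvN ((hSc x (hS'C hxS) (hord x hxS) v hvC)) (hco x v (hord x hxS) hvr)
    exact (mem_cs.1 (h3 (hCx.ge hc))).symm
  rw [← huv, mul_assoc, h2, ← mul_assoc, hSc u huC hur c hc, mul_assoc]

/-- A noncentral element commuting with a Sylow `ℓ`-subgroup of `N` inside a known centraliser. -/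
theorem cover [hN : N.Normal] {l : ℕ} [hl : Fact l.Prime] {y : G} (P : Subgroup N) (hP : IsPGroup l P)
    (hPi : ¬ l ∣ P.index) {x : G} (hxP : x ∈ P.map N.subtype) (hxc : x ∉ center G)
    (hPc : ∀ z ∈ P.map N.subtype, z ∉ center G → centralizer ({z} : Set G) = centralizer ({y} : Set G))
    (hm : ¬ l ∣ m) {n : G} (hn : n ∈ N) (hnc : n ∉ center G) :
    ∃ g ∈ N, centralizer ({n} : Set G) = centralizer ({g * y * g⁻¹} : Set G) := by
  set C := centralizer ({n} : Set G) with hC
  obtain ⟨Q⟩ : Nonempty (Sylow l C) := inferInstance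
  have hQi : ¬ l ∣ ((Q : Subgroup C).map C.subtype).index := by
    rw [Subgroup.index_map_subtype]
    intro hd
    rcases hl.out.dvd_mul.1 hd with hd | hd
    · exact Q.not_dvd_index hd
    · exact hm ((index_eq h hn hnc) ▸ hd)
  set Q' : Sylow l G := (Q.isPGroup'.map C.subtype).toSylow hQi with hQ'
  have hQ'C : (Q' : Subgroup G) ≤ C := map_subtype_le _
  -- `Q' ⊓ N` is a conjugate of `P`
  have hQN : ¬ l ∣ ((Q' : Subgroup G).subgroupOf N).index := by
    show ¬ l ∣ (Q' : Subgroup G).relIndex N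
    exact Grp.sylow_inf_normal_relIndex Q' N
  set QN : Sylow l N := (Q'.isPGroup'.comap_subtype (K := N)).toSylow hQN
  obtain ⟨g, hg⟩ := MulAction.exists_smul_eq N (hP.toSylow hPi) QN
  have hmemQ : ∀ z ∈ P.map N.subtype, (g : G) * z * (g : G)⁻¹ ∈ (Q' : Subgroup G) := by
    rintro _ ⟨z, hz, rfl⟩
    have : g * z * g⁻¹ ∈ (QN : Subgroup N) := by rw [← hg]; exact ⟨z, hz, rfl⟩
    exact this
  have hmemP : ∀ w : G, w ∈ N → w ∈ (Q' : Subgroup G) → ∃ z ∈ P.map N.subtype, (g : G) * z * (g : G)⁻¹ = w := by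
    intro w hwN hw
    have : (⟨w, hwN⟩ : N) ∈ (QN : Subgroup N) := hw
    rw [← hg] at this
    obtain ⟨z, hz, e⟩ := this
    exact ⟨z, ⟨z, hz, rfl⟩, congrArg Subtype.val e⟩
  refine ⟨g, g.2, ?_⟩
  have hconj : ∀ z ∈ P.map N.subtype, z ∉ center G →
      centralizer ({(g : G) * z * (g : G)⁻¹} : Set G) = centralizer ({(g : G) * y * (g : G)⁻¹} : Set G) := by
    intro z hz hzc
    ext c
    rw [cs_conj, cs_conj, hPc z hz hzc]
  have hxg : (g : G) * x * (g : G)⁻¹ ∉ center G := fun e => hxc (by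
    have : x = g * x * (g : G)⁻¹ := by
      calc x = (g : G)⁻¹ * (g * x * (g : G)⁻¹) * g := by group
        _ = g * x * (g : G)⁻¹ := by rw [mem_center_iff.1 e (g : G)⁻¹, inv_mul_cancel_right]
    rw [this]; exact e)
  have hxN : (g : G) * x * (g : G)⁻¹ ∈ N := by
    obtain ⟨z, -, rfl⟩ := hxP
    exact hN.conj_mem _ z.2 g
  obtain ⟨u, hu, v, hv, huv, ⟨i, hi⟩, hvr⟩ := parts l n
  have huN : u ∈ N := zpowers_le.2 hn hu
  have hvN : v ∈ N := zpowers_le.2 hn hv
  have hnu : C ≤ centralizer ({u} : Set G) := fun c hc => mem_cs.2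
    ((mem_cs.1 ((zpowers_le (H := centralizer ({c} : Set G))).2 (mem_cs.2 (mem_cs.1 hc).symm) hu)).symm)
  have hnv : C ≤ centralizer ({v} : Set G) := fun c hc => mem_cs.2
    ((mem_cs.1 ((zpowers_le (H := centralizer ({c} : Set G))).2 (mem_cs.2 (mem_cs.1 hc).symm) hv)).symm)
  by_cases hvc : v ∈ center G
  · have huc : u ∉ center G := fun e => hnc (huv ▸ mul_mem e hvc)
    have huQ : u ∈ (Q' : Subgroup G) := by
      have hp : IsPGroup l ↥((Q' : Subgroup G) ⊔ zpowers u) := by
        refine Q'.isPGroup'.to_sup_of_normal_left' (IsPGroup.of_card (n := i) (by rw [Nat.card_zpowers, hi])) ?_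
        refine (zpowers_le.2 ?_)
        exact Subgroup.mem_normalizer_fintype fun q hq => by
          rw [show u * q * u⁻¹ = q by rw [← mem_cs.1 (hnu (hQ'C hq)), mul_inv_cancel_right]]
          exact hq
      exact (Q'.is_maximal' hp le_sup_left).le (mem_sup_right (mem_zpowers u))
    obtain ⟨z, hz, e⟩ := hmemP u huN huQ
    have hzc : z ∉ center G := fun hzc => huc (by
      rw [← e, mem_center_iff.1 hzc (g : G), mul_inv_cancel_right]; exact hzc)
    rw [show C = centralizer ({u} : Set G) from cs_eq_of_le h hn hnc huN huc hnu, ← e, hconj z hz hzc]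
  · have hxQ := hmemQ x hxP
    obtain ⟨j, hj⟩ := IsPGroup.iff_orderOf.1 Q'.isPGroup' ⟨_, hxQ⟩
    rw [Subgroup.orderOf_mk] at hj
    have hcomm := mem_cs.1 (hnv (hQ'C hxQ))
    have h1 := cs_coprime h hxN hxg hvN hcomm (by rw [hj]; exact (hl.out.coprime_iff_not_dvd.2 hvr).pow_left j)
    rw [show C = centralizer ({v} : Set G) from cs_eq_of_le h hn hnc hvN hvc hnv, ← cs_eq_of_le h hxN hxg hvN hvc h1, hconj x hxP hxc]

theorem main [hN : N.Normal] {r : ℕ} [hr : Fact r.Prime] (R : Sylow r G)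
    (hR : ¬ (R : Subgroup G) ≤ center G) (hRN : (R : Subgroup G) ≤ N) : Group.IsNilpotent N := by
  by_cases hex : ∃ y ∈ N, y ∉ center G ∧ ¬ r ∣ orderOf y
  swap
  · push Not at hex
    haveI : (center G).subgroupOf N |>.Normal := inferInstance
    have hp : IsPGroup r (N ⧸ (center G).subgroupOf N) := by
      intro x
      obtain ⟨n, rfl⟩ := QuotientGroup.mk_surjective x
      obtain ⟨u, hu, v, hv, huv, ⟨i, hi⟩, hvr⟩ := parts r (n : G)
      refine ⟨i, ?_⟩
      rw [← QuotientGroup.mk_pow, QuotientGroup.eq_one_iff]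
      show ((n ^ r ^ i : N) : G) ∈ center G
      have hvc : v ∈ center G := by
        by_contra hvc
        exact hvr (hex v (zpowers_le.2 n.2 hv) hvc)
      rw [SubgroupClass.coe_pow, ← huv, (show Commute u v from (mem_center_iff.1 hvc u)).mul_pow,
        ← hi, pow_orderOf_eq_one, one_mul]
      exact pow_mem hvc _
    haveI := hp.isNilpotent
    refine Subgroup.isNilpotent_of_ker_le_center (QuotientGroup.mk' ((center G).subgroupOf N)) ?_
    rw [QuotientGroup.ker_mk']
    exact fun z hz => mem_center_iff.2 fun g => Subtype.ext (mem_center_iff.1 hz g)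
  obtain ⟨y₀, hy₀, hy₀c, hy₀r⟩ := hex
  -- a noncentral element of prime power order
  obtain ⟨s, hs, y, hy, hyc, hys, hsr⟩ : ∃ s : ℕ, s.Prime ∧ ∃ y ∈ N, y ∉ center G ∧ (∃ i, orderOf y = s ^ i) ∧ s ≠ r := by
    suffices ∀ k : ℕ, ∀ y ∈ N, orderOf y = k → y ∉ center G → ¬ r ∣ orderOf y →
        ∃ s : ℕ, s.Prime ∧ ∃ y ∈ N, y ∉ center G ∧ (∃ i, orderOf y = s ^ i) ∧ s ≠ r from this _ y₀ hy₀ rfl hy₀c hy₀r
    intro k
    induction k using Nat.strong_induction_on with
    | _ k ih =>
      intro y hy hk hyc hyr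
      have hk1 : k ≠ 1 := fun e => hyc (by rw [orderOf_eq_one_iff.1 (hk.trans e)]; exact one_mem _)
      set l := k.minFac
      haveI := Fact.mk (Nat.minFac_prime hk1)
      have hlk : l ∣ orderOf y := hk ▸ Nat.minFac_dvd k
      obtain ⟨u, hu, v, hv, huv, hul, hvl⟩ := parts l y
      by_cases huc : u ∈ center G
      · have hvc : v ∉ center G := fun e => hyc (huv ▸ mul_mem huc e)
        have hdvd := orderOf_dvd_of_mem_zpowers hv
        refine ih _ ?_ v (zpowers_le.2 hy hv) rfl hvc fun e => hyr (e.trans hdvd)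
        exact hk ▸ lt_of_le_of_ne (Nat.le_of_dvd (orderOf_pos y) hdvd) fun e => hvl (e ▸ hlk)
      · exact ⟨l, Nat.minFac_prime hk1, u, zpowers_le.2 hy hu, huc, hul, fun e => hyr (e ▸ hlk)⟩
  haveI := Fact.mk hs
  have hyr : ¬ r ∣ orderOf y := by
    obtain ⟨i, hi⟩ := hys
    rw [hi]
    exact hr.out.coprime_iff_not_dvd.1 (((Nat.coprime_primes hr.out hs).2 hsr.symm).pow_right i)
  set C := centralizer ({y} : Set G) with hC
  obtain ⟨SC⟩ : Nonempty (Sylow r C) := inferInstance
  obtain ⟨x, hxS, hxN, hxc⟩ := exists_sylow_noncentral h R hR hRN hy hyc SC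
  set S := (SC : Subgroup C).map C.subtype with hS
  have hSC : S ≤ C := map_subtype_le _
  have hSp : IsPGroup r S := SC.isPGroup'.map _
  have hstr := cs_structure h R hR hRN hy hyc hyr SC
  have hord : ∀ z ∈ S, ∃ i, orderOf z = r ^ i := fun z hz => by
    obtain ⟨i, hi⟩ := IsPGroup.iff_orderOf.1 hSp ⟨z, hz⟩
    exact ⟨i, by rw [← hi, Subgroup.orderOf_mk]⟩
  have hrN : ∀ z : G, (∃ i, orderOf z = r ^ i) → z ∈ N := fun z hz => by
    obtain ⟨i, hi⟩ := hz
    obtain ⟨R', hR'⟩ := (IsPGroup.of_card (n := i) (by rw [Nat.card_zpowers, hi]) : IsPGroup r (zpowers z)).exists_le_sylow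
    obtain ⟨g, hg⟩ := MulAction.exists_smul_eq G R R'
    have := hR' (mem_zpowers z)
    rw [← hg] at this
    obtain ⟨w, hw, e⟩ := this
    rw [← e]
    exact hN.conj_mem w (hRN hw) g
  have hSN : S ≤ N := fun z hz => hrN z (hord z hz)
  have hsame : ∀ z ∈ C, z ∈ N → z ∉ center G → centralizer ({z} : Set G) = C := fun z hz hzN hzc =>
    (cs_eq_of_le h hy hyc hzN hzc fun c hc => mem_cs.2 (hstr z hz hzN c hc).symm).symm
  -- final step for a covered group
  have hfin : (∀ n ∈ N, n ∉ center G → ∃ g ∈ N, centralizer ({n} : Set G) = centralizer ({g * y * g⁻¹} : Set G)) →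
      Group.IsNilpotent N := fun hcov => by
    have hle := le_of_conj h hy hyc hcov
    haveI : IsMulCommutative N := ⟨⟨fun a b => Subtype.ext (hstr a (hle a.2) a.2 b (hle b.2))⟩⟩
    exact Subgroup.isNilpotent_of_ker_le_center (1 : N →* Unit)
      (fun z _ => mem_center_iff.2 fun g => IsMulCommutative.is_comm.comm g z)
  -- the normaliser of `C` in `N`
  set H := N ⊓ normalizer (C : Set G) with hH
  have hSH : S ≤ H := fun z hz => ⟨hSN hz, le_normalizer (hSC hz)⟩
  obtain ⟨T0, hT0⟩ := (hSp.comap_subtype (K := H)).exists_le_sylow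
  set T := (T0 : Subgroup H).map H.subtype with hT
  have hTp : IsPGroup r T := T0.isPGroup'.map _
  have hTH : T ≤ H := map_subtype_le _
  have hST : S ≤ T := fun z hz => ⟨⟨z, hSH hz⟩, hT0 hz, rfl⟩
  obtain ⟨R0, hTR⟩ := hTp.exists_le_sylow
  have hRN' : ∀ z ∈ (R0 : Subgroup G), z ∈ N := fun z hz => by
    obtain ⟨i, hi⟩ := IsPGroup.iff_orderOf.1 R0.isPGroup' ⟨z, hz⟩
    exact hrN z ⟨i, by rw [← hi, Subgroup.orderOf_mk]⟩
  have hR0N : ¬ r ∣ (R0 : Subgroup G).relIndex N := by
    exact Grp.sylow_inf_normal_relIndex R0 N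
  have hRH : ∀ g ∈ (R0 : Subgroup G), g ∈ normalizer (C : Set G) → g ∈ T := by
    intro g hg hgn
    have hp : IsPGroup r ↥((T0 : Subgroup H) ⊔ zpowers (⟨g, hRN' g hg, hgn⟩ : H)) := by
      refine (R0.isPGroup'.comap_subtype (K := H)).to_le (sup_le ?_ (zpowers_le.2 hg))
      intro t ht
      exact hTR ⟨t, ht, rfl⟩
    exact ⟨_, (T0.is_maximal' hp le_sup_left).le (mem_sup_right (mem_zpowers _)), rfl⟩
  have hconjN : ∀ g : G, (∀ z ∈ S, g * z * g⁻¹ ∈ C) → g ∈ normalizer (C : Set G) := fun g hg => by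
    refine Subgroup.mem_normalizer_fintype fun c hc => ?_
    have hgx : g * x * g⁻¹ ∉ center G := fun e => hxc (by
      have : x = g * x * g⁻¹ := by
        calc x = g⁻¹ * (g * x * g⁻¹) * g := by group
          _ = g * x * g⁻¹ := by rw [mem_center_iff.1 e g⁻¹, inv_mul_cancel_right]
      rw [this]; exact e)
    rw [← hsame _ (hg x hxS) (hN.conj_mem x hxN g) hgx, SetLike.mem_coe, cs_conj, show g⁻¹ * (g * c * g⁻¹) * g = c by group,
      hsame x (hSC hxS) hxN hxc]
    exact hc
  have hSnorm : ∀ g ∈ normalizer (C : Set G), ∀ z ∈ S, g * z * g⁻¹ ∈ S := by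
    intro g hg z hz
    have hzC : g * z * g⁻¹ ∈ C := (mem_normalizer_iff.1 hg z).1 (hSC hz)
    -- `S` is the only Sylow subgroup of `C`
    have hp : IsPGroup r ↥((SC : Subgroup C) ⊔ zpowers (⟨g * z * g⁻¹, hzC⟩ : C)) := by
      obtain ⟨i, hi⟩ := hord z hz
      refine SC.isPGroup'.to_sup_of_normal_left' (IsPGroup.of_card (n := i) (by
        rw [Nat.card_zpowers, Subgroup.orderOf_mk, ← hi]
        exact MulEquiv.orderOf_eq (MulAut.conj g) z)) (zpowers_le.2 ?_)
      exact Subgroup.mem_normalizer_fintype fun q hq => by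
        rw [show (⟨g * z * g⁻¹, hzC⟩ : C) * q * (⟨g * z * g⁻¹, hzC⟩ : C)⁻¹ = q from by
          rw [show (⟨g * z * g⁻¹, hzC⟩ : C) * q = q * ⟨g * z * g⁻¹, hzC⟩ from Subtype.ext
            (hstr (q : G) q.2 (hSN ⟨q, hq, rfl⟩) (g * z * g⁻¹) hzC).symm, mul_inv_cancel_right]]
        exact hq
    exact ⟨⟨g * z * g⁻¹, hzC⟩, (SC.is_maximal' hp le_sup_left).le (mem_sup_right (mem_zpowers _)), rfl⟩
  -- conjugacy into `S` gives the covering
  have hxr := hord x hxS
  have hcov1 : (∀ u ∈ N, u ∉ center G → (∃ i, orderOf u = r ^ i) → ∃ g ∈ N, g⁻¹ * u * g ∈ S) →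
      ∀ n ∈ N, n ∉ center G → ∃ g ∈ N, centralizer ({n} : Set G) = centralizer ({g * y * g⁻¹} : Set G) := by
    intro hcon n hn hnc
    -- a noncentral `r`-element with the same centraliser
    obtain ⟨u, huN, huc, hur, hu⟩ : ∃ u ∈ N, u ∉ center G ∧ (∃ i, orderOf u = r ^ i) ∧
        centralizer ({n} : Set G) = centralizer ({u} : Set G) := by
      obtain ⟨u, hu, v, hv, huv, hur, hvr⟩ := parts r n
      have hle : ∀ w ∈ zpowers n, centralizer ({n} : Set G) ≤ centralizer ({w} : Set G) := fun w hw c hc => mem_cs.2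
        ((mem_cs.1 ((zpowers_le (H := centralizer ({c} : Set G))).2 (mem_cs.2 (mem_cs.1 hc).symm) hw)).symm)
      by_cases hvc : v ∈ center G
      · have huc : u ∉ center G := fun e => hnc (huv ▸ mul_mem e hvc)
        exact ⟨u, zpowers_le.2 hn hu, huc, hur, cs_eq_of_le h hn hnc (zpowers_le.2 hn hu) huc (hle u hu)⟩
      · have hvN := zpowers_le.2 hn hv
        obtain ⟨Sv⟩ : Nonempty (Sylow r (centralizer ({v} : Set G))) := inferInstance
        obtain ⟨w, hw, hwN, hwc⟩ := exists_sylow_noncentral h R hR hRN hvN hvc Sv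
        obtain ⟨i, hi⟩ := IsPGroup.iff_orderOf.1 (Sv.isPGroup'.map (centralizer ({v} : Set G)).subtype) ⟨w, hw⟩
        rw [Subgroup.orderOf_mk] at hi
        have h1 := cs_coprime h hwN hwc hvN (mem_cs.1 (map_subtype_le _ hw))
          (by rw [hi]; exact (hr.out.coprime_iff_not_dvd.2 hvr).pow_left i)
        exact ⟨w, hwN, hwc, ⟨i, hi⟩, (cs_eq_of_le h hn hnc hvN hvc (hle v hv)).trans
          (cs_eq_of_le h hwN hwc hvN hvc h1).symm⟩
    obtain ⟨g, hg, hgu⟩ := hcon u huN huc hur
    refine ⟨g, hg, ?_⟩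
    have hc' : g⁻¹ * u * g ∉ center G := fun e => huc (by
      have : u = g⁻¹ * u * g := by
        calc u = g * (g⁻¹ * u * g) * g⁻¹ := by group
          _ = g⁻¹ * u * g := by rw [mem_center_iff.1 e g, mul_inv_cancel_right]
      rw [this]; exact e)
    ext c
    rw [hu, cs_conj, show u = g * (g⁻¹ * u * g) * g⁻¹ by group, cs_conj, hsame _ (hSC hgu) (hSN hgu) hc']
  by_cases hSR : (R0 : Subgroup G) ≤ S
  · refine hfin (hcov1 fun u hu huc ⟨i, hi⟩ => ?_)
    obtain ⟨Q, hQ⟩ := (IsPGroup.of_card (n := i) (by rw [Nat.card_zpowers, Subgroup.orderOf_mk, hi]) :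
      IsPGroup r (zpowers (⟨u, hu⟩ : N))).exists_le_sylow
    obtain ⟨g, hg⟩ := MulAction.exists_smul_eq N ((R0.isPGroup'.comap_subtype (K := N)).toSylow hR0N) Q
    have := hQ (mem_zpowers _)
    rw [← hg] at this
    obtain ⟨w, hw, e⟩ := this
    refine ⟨g, g.2, ?_⟩
    have e' : (g : G) * w * (g : G)⁻¹ = u := congrArg Subtype.val e
    rw [← e', show (g : G)⁻¹ * ((g : G) * w * (g : G)⁻¹) * g = w by group]
    exact hSR hw
  -- `S` is proper in `T`
  have hSRle : S ≤ (R0 : Subgroup G) := hST.trans hTR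
  have hSTlt : ¬ T ≤ S := by
    intro hle
    haveI := R0.isPGroup'.isNilpotent
    have hlt : S.subgroupOf R0 < ⊤ := lt_top_iff_ne_top.2 fun e => hSR (subgroupOf_eq_top.1 e)
    obtain ⟨g, hg, hgS⟩ := SetLike.exists_of_lt (Group.normalizerCondition_of_isNilpotent _ hlt)
    refine hgS (hle (hRH g g.2 (hconjN g fun z hz => hSC ?_)))
    exact (mem_normalizer_iff.1 hg ⟨z, hSRle hz⟩).1 hz
  obtain ⟨t₀, ht₀, ht₀S⟩ := SetLike.not_le_iff_exists.1 hSTlt
  have hTn : ∀ t ∈ T, t ∈ normalizer (C : Set G) := fun t ht => (hTH ht).2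
  have hTCS : ∀ t ∈ T, t ∈ C → t ∈ S := by
    intro t ht htC
    have hp : IsPGroup r ↥((SC : Subgroup C) ⊔ zpowers (⟨t, htC⟩ : C)) := by
      refine (hTp.comap_subtype (K := C)).to_le (sup_le ?_ (zpowers_le.2 ht))
      intro z hz
      exact hST ⟨z, hz, rfl⟩
    exact ⟨_, (SC.is_maximal' hp le_sup_left).le (mem_sup_right (mem_zpowers _)), rfl⟩
  -- the `s`-part of `C ⊓ N`
  set A : Subgroup G :=
    { carrier := {a | a ∈ C ∧ a ∈ N ∧ ∃ i : ℕ, a ^ s ^ i = 1}
      one_mem' := ⟨one_mem _, one_mem _, 0, one_pow _⟩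
      mul_mem' := fun {a b} ha hb => by
        obtain ⟨ha1, ha2, i, hi⟩ := ha
        obtain ⟨hb1, hb2, j, hj⟩ := hb
        refine ⟨mul_mem ha1 hb1, mul_mem ha2 hb2, i + j, ?_⟩
        rw [(show Commute a b from hstr a ha1 ha2 b hb1).mul_pow, pow_add, pow_mul, hi, one_pow, one_mul,
          mul_comm, pow_mul, hj, one_pow]
      inv_mem' := fun {a} ⟨ha1, ha2, i, hi⟩ => ⟨inv_mem ha1, inv_mem ha2, i, by rw [inv_pow, hi, inv_one]⟩ } with hA
  have hAs : IsPGroup s A := fun a => by
    obtain ⟨-, -, i, hi⟩ := a.2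
    exact ⟨i, Subtype.ext (by rw [SubgroupClass.coe_pow]; exact hi)⟩
  have hAC : A ≤ C := fun a ha => ha.1
  have hAN : A ≤ N := fun a ha => ha.2.1
  have hyA : y ∈ A := ⟨mem_cs.2 rfl, hy, by
    obtain ⟨i, hi⟩ := hys
    exact ⟨i, hi ▸ pow_orderOf_eq_one y⟩⟩
  have hAn : normalizer (C : Set G) ≤ normalizer (A : Set G) := fun g hg =>
    Subgroup.mem_normalizer_fintype fun a ⟨ha1, ha2, i, hi⟩ => ⟨(mem_normalizer_iff.1 hg a).1 ha1, hN.conj_mem a ha2 g, i, by
      rw [conj_pow, hi, mul_one, mul_inv_cancel]⟩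
  have hnA : normalizer (A : Set G) ≤ normalizer (C : Set G) := fun g hg => Subgroup.mem_normalizer_fintype fun c hc => by
    have hgy : g * y * g⁻¹ ∉ center G := fun e => hyc (by
      have : y = g * y * g⁻¹ := by
        calc y = g⁻¹ * (g * y * g⁻¹) * g := by group
          _ = g * y * g⁻¹ := by rw [mem_center_iff.1 e g⁻¹, inv_mul_cancel_right]
      rw [this]; exact e)
    rw [← hsame _ (hAC ((mem_normalizer_iff.1 hg y).1 hyA)) (hN.conj_mem y hy g) hgy, SetLike.mem_coe, cs_conj,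
      show g⁻¹ * (g * c * g⁻¹) * g = c by group]
    exact hc
  have hTA : T ≤ normalizer (A : Set G) := fun t ht => hAn (hTn t ht)
  haveI : IsMulCommutative A := ⟨⟨fun a b => Subtype.ext (hstr a (hAC a.2) (hAN a.2) b (hAC b.2))⟩⟩
  have hcopTA : (Nat.card T).Coprime (Nat.card A) := by
    obtain ⟨i, hi⟩ := IsPGroup.iff_card.1 hTp
    obtain ⟨j, hj⟩ := IsPGroup.iff_card.1 hAs
    rw [hi, hj]
    exact ((Nat.coprime_primes hr.out hs).2 hsr.symm).pow _ _
  -- `[A, T]`
  set A1 := ⁅A, T⁆ with hA1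
  have hA1A : A1 ≤ A := Grp.commutator_le_left_of_le_normalizer hTA
  have hA1c : ∀ a ∈ A1, a ≠ 1 → a ∉ center G := by
    intro a ha ha1 hac
    have hmem : a ∈ (A ⊓ centralizer (T : Set G)) ⊓ ⁅A, T⁆ :=
      ⟨⟨hA1A ha, center_le_centralizer _ hac⟩, ha⟩
    rw [Grp.abelian_commutator_inf_fixed T A hTA hcopTA, mem_bot] at hmem
    exact ha1 hmem
  have hA1ne : A1 ≠ ⊥ := fun e => ht₀S (hTCS t₀ ht₀ (by
    have h1 := commutator_mem_commutator hyA ht₀ (H₁ := A) (H₂ := T)
    rw [← hA1, e, mem_bot, commutatorElement_eq_one_iff_mul_comm] at h1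
    exact mem_cs.2 h1.symm))
  have hA1C : ∀ a ∈ A1, a ≠ 1 → centralizer ({a} : Set G) = C := fun a ha ha1 =>
    hsame a (hAC (hA1A ha)) (hAN (hA1A ha)) (hA1c a ha ha1)
  -- an `s`-group normalising `A` and `T` lies in `C`
  have hfix : ∀ W : Subgroup G, IsPGroup s W → W ≤ normalizer (A : Set G) → W ≤ normalizer (T : Set G) → W ≤ C := by
    intro W hW hWA hWT
    have hW1 : W ≤ normalizer (A1 : Set G) := fun g hg => Grp.mem_normalizer_iff_smul.2 (by
      show (⁅A, T⁆ : Subgroup G).map (MulAut.conj g).toMonoidHom = ⁅A, T⁆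
      have e1 : A.map (MulAut.conj g).toMonoidHom = A := Grp.mem_normalizer_iff_smul.1 (hWA hg)
      have e2 : T.map (MulAut.conj g).toMonoidHom = T := Grp.mem_normalizer_iff_smul.1 (hWT hg)
      rw [Subgroup.map_commutator, e1, e2])
    let φ : W →* MulAut A1 := (normalizerMonoidHom A1).comp (inclusion hW1)
    haveI : Nontrivial A1 := (nontrivial_iff_ne_bot _).2 hA1ne
    letI : CommGroup A1 := { (inferInstance : Group A1) with
      mul_comm := fun a b => Subtype.ext (hstr a (hAC (hA1A a.2)) (hAN (hA1A a.2)) b (hAC (hA1A b.2))) }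
    have hinv : ∀ f ∈ φ.range, ∀ v ∈ (⊤ : Subgroup A1), f v ∈ (⊤ : Subgroup A1) := fun _ _ _ _ => Subgroup.mem_top _
    obtain ⟨a, -, ha1, ha⟩ := Invol.exists_fixed_ne_one (hAs.to_le hA1A) (hW.of_surjective φ.rangeRestrict φ.rangeRestrict_surjective)
      (P := φ.range) (D := (⊤ : Subgroup A1)) top_ne_bot hinv
    intro g hg
    rw [← hA1C a a.2 (fun e => ha1 (Subtype.ext e))]
    have h1 : g * a * g⁻¹ = a := congrArg Subtype.val (ha (φ ⟨g, hg⟩) ⟨⟨g, hg⟩, rfl⟩)
    exact mem_cs.2 (mul_inv_eq_iff_eq_mul.1 h1)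
  -- a fixed element modulo the centre
  have hTnS : ∀ t ∈ T, ∀ z ∈ S, t * z * t⁻¹ ∈ S := fun t ht => hSnorm t (hTn t ht)
  obtain ⟨w, hwS, hwc, hw⟩ : ∃ w ∈ S, w ∉ center G ∧ ∀ t ∈ T, ⁅t, w⁆ ∈ center G := by
    haveI : ((center G).subgroupOf T).Normal := inferInstance
    set f := QuotientGroup.mk' ((center G).subgroupOf T)
    have hST' : (S.subgroupOf T).Normal := ⟨fun z hz t => hTnS (t : G) t.2 (z : G) hz⟩
    haveI : ((S.subgroupOf T).map f).Normal := hST'.map f (QuotientGroup.mk'_surjective _)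
    haveI : Group.IsNilpotent (T ⧸ (center G).subgroupOf T) :=
      (hTp.of_surjective f (QuotientGroup.mk'_surjective _)).isNilpotent
    obtain ⟨q, hq, hq1⟩ := ((S.subgroupOf T).map f ⊓ center _).bot_or_exists_ne_one.resolve_left
      (Grp.inf_center_ne_bot _ (fun e => by
        rw [Subgroup.map_eq_bot_iff, QuotientGroup.ker_mk'] at e
        exact hxc (e (show (⟨x, hST hxS⟩ : T) ∈ S.subgroupOf T from hxS))))
    obtain ⟨⟨w, hwS, rfl⟩, hwz⟩ := hq
    refine ⟨w, hwS, fun e => hq1 ((QuotientGroup.eq_one_iff w).2 e), fun t ht => ?_⟩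
    have h1 : f ⁅(⟨t, ht⟩ : T), w⁆ = 1 := by
      rw [map_commutatorElement, commutatorElement_eq_one_iff_mul_comm]
      exact mem_center_iff.1 hwz _
    exact ((QuotientGroup.eq_one_iff (N := (center G).subgroupOf T) ⁅(⟨t, ht⟩ : T), w⁆).1 h1 : ⁅(⟨t, ht⟩ : T), w⁆ ∈ (center G).subgroupOf T)
  let ψ : T →* G :=
    { toFun := fun t => ⁅(t : G), w⁆
      map_one' := commutatorElement_one_left w
      map_mul' := fun a b => by
        rw [Subgroup.coe_mul, commutatorElement_mul_left_eq_conj_mul, mem_center_iff.1 (hw b b.2) (a : G),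
          mul_inv_cancel_right, mem_center_iff.1 (hw b b.2) ⁅(a : G), w⁆] }
  have hψker : ψ.ker = S.subgroupOf T := by
    ext t
    rw [MonoidHom.mem_ker, mem_subgroupOf]
    show ⁅(t : G), w⁆ = 1 ↔ _
    rw [commutatorElement_eq_one_iff_mul_comm]
    refine ⟨fun e => hTCS t t.2 ?_, fun hz => hstr (t : G) (hSC hz) (hSN hz) w (hSC hwS)⟩
    rw [← hsame w (hSC hwS) (hSN hwS) hwc]
    exact mem_cs.2 e
  -- the range of `ψ` is cyclic
  let τ : T →* MulAut A1 := (normalizerMonoidHom A1).comp (inclusion (fun t ht => by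
    rw [hA1]; exact Grp.right_le_normalizer_commutator T A ht))
  have hτker : τ.ker = ψ.ker := by
    rw [hψker]
    ext t
    constructor
    · intro ht
      obtain ⟨a, ha, ha1⟩ := A1.bot_or_exists_ne_one.resolve_left hA1ne
      refine hTCS t t.2 ?_
      rw [← hA1C a ha ha1]
      have h1 : (t : G) * a * (t : G)⁻¹ = a := congrArg Subtype.val (DFunLike.congr_fun (MonoidHom.mem_ker.1 ht) (⟨a, ha⟩ : A1))
      exact mem_cs.2 (mul_inv_eq_iff_eq_mul.1 h1)
    · intro ht
      refine MonoidHom.mem_ker.2 (MulEquiv.ext fun a => Subtype.ext ?_)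
      show (t : G) * a * (t : G)⁻¹ = a
      rw [hstr (t : G) (hSC ht) (hSN ht) a (hAC (hA1A a.2)), mul_inv_cancel_right]
  have hcyc : IsCyclic ψ.range := by
    let e : τ.range ≃* ψ.range := (QuotientGroup.quotientKerEquivRange τ).symm.trans
      ((QuotientGroup.quotientMulEquivOfEq hτker).trans (QuotientGroup.quotientKerEquivRange ψ))
    haveI : IsMulCommutative ψ.range := ⟨⟨fun a b => by
      obtain ⟨t, ht⟩ := a.2
      exact Subtype.ext (mem_center_iff.1 (show (a : G) ∈ center G by rw [← ht]; exact hw t t.2) b).symm⟩⟩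
    haveI : IsMulCommutative τ.range := ⟨⟨fun a b => e.injective (by
      rw [map_mul, map_mul]; exact IsMulCommutative.is_comm.comm _ _)⟩⟩
    haveI : IsMulCommutative A1 := ⟨⟨fun a b => Subtype.ext (hstr a (hAC (hA1A a.2)) (hAN (hA1A a.2)) b (hAC (hA1A b.2)))⟩⟩
    suffices IsCyclic τ.range from isCyclic_of_surjective e.toMonoidHom e.surjective
    set Γ := A1 ⋊[τ.range.subtype] τ.range
    haveI : Finite Γ := Finite.of_equiv (A1 × τ.range) SemidirectProduct.equivProd.symm
    set V' := (SemidirectProduct.inl : A1 →* Γ).range with hV'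
    set A' := (SemidirectProduct.inr : τ.range →* Γ).range with hA'
    haveI : IsMulCommutative V' := ⟨⟨fun a b => by
      obtain ⟨a', ha⟩ := a.2; obtain ⟨b', hb⟩ := b.2
      exact Subtype.ext (by
        show (a : Γ) * b = b * a
        rw [← ha, ← hb, ← map_mul, ← map_mul, IsMulCommutative.is_comm.comm a' b'])⟩⟩
    haveI : IsMulCommutative A' := ⟨⟨fun a b => by
      obtain ⟨a', ha⟩ := a.2; obtain ⟨b', hb⟩ := b.2
      exact Subtype.ext (by
        show (a : Γ) * b = b * a
        rw [← ha, ← hb, ← map_mul, ← map_mul, IsMulCommutative.is_comm.comm a' b'])⟩⟩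
    haveI : IsCyclic A' := by
      refine Grp.exists_centralizer_ne_bot_aux A' V' (fun e => hA1ne (eq_bot_iff.2 fun a ha => ?_)) ?_ ?_
      · have : (SemidirectProduct.inl (⟨a, ha⟩ : A1) : Γ) ∈ V' := ⟨_, rfl⟩
        rw [e, mem_bot, ← map_one (SemidirectProduct.inl (φ := τ.range.subtype))] at this
        exact congrArg Subtype.val (SemidirectProduct.inl_injective this)
      · rintro _ ⟨f, rfl⟩
        refine Subgroup.mem_normalizer_fintype ?_
        rintro _ ⟨a, rfl⟩
        exact ⟨_, (SemidirectProduct.inl_aut f a).trans (by rw [map_inv])⟩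
      · rintro _ ⟨f, rfl⟩ hf1
        rw [eq_bot_iff]
        rintro _ ⟨⟨a, rfl⟩, ha⟩
        rw [mem_bot]
        by_contra hne
        obtain ⟨t, ht⟩ := f.2
        apply hf1
        have h1 : (f : MulAut A1) a = a := by
          have h2 := mem_cs.1 ha
          apply SemidirectProduct.inl_injective (φ := τ.range.subtype)
          rw [show (f : MulAut A1) a = τ.range.subtype f a from rfl, SemidirectProduct.inl_aut, ← h2,
            map_inv, mul_inv_cancel_right]
        have h3 : τ t = 1 := by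
          rw [← MonoidHom.mem_ker, hτker, hψker, mem_subgroupOf]
          refine hTCS t t.2 ?_
          rw [← hA1C a a.2 fun e => hne (by rw [show a = 1 from Subtype.ext e, map_one])]
          rw [← ht] at h1
          exact mem_cs.2 (mul_inv_eq_iff_eq_mul.1 (congrArg Subtype.val h1))
        rw [show f = 1 from Subtype.ext (ht.symm.trans h3), map_one]
    let e' : τ.range ≃* A' := MonoidHom.ofInjective SemidirectProduct.inr_injective
    exact isCyclic_of_surjective e'.symm.toMonoidHom e'.symm.surjective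
  -- `T` centralises `S` modulo the centre
  set Z := S ⊓ center G with hZ
  have hindex : (S.subgroupOf T).index = Nat.card ψ.range := by
    rw [← hψker, Subgroup.index_ker]
  obtain ⟨k, hk⟩ : ∃ k : ℕ, 0 < k ∧ w ^ k ∈ Z ∧ (∀ j : ℕ, w ^ j ∈ Z → k ∣ j) := by
    refine ⟨orderOf (QuotientGroup.mk (⟨w, hwS⟩ : S) : S ⧸ (center G).subgroupOf S), orderOf_pos _, ?_, fun j hj => ?_⟩
    · refine ⟨pow_mem hwS _, ?_⟩
      have := pow_orderOf_eq_one (QuotientGroup.mk (⟨w, hwS⟩ : S) : S ⧸ (center G).subgroupOf S)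
      rw [← QuotientGroup.mk_pow, QuotientGroup.eq_one_iff] at this
      exact this
    · refine orderOf_dvd_of_pow_eq_one ?_
      rw [← QuotientGroup.mk_pow, QuotientGroup.eq_one_iff]
      exact hj.2
  have hdvd : Nat.card ψ.range ∣ k := by
    obtain ⟨⟨ζ, t, rfl⟩, hgen⟩ := hcyc.exists_generator
    rw [← orderOf_eq_card_of_forall_mem_zpowers hgen]
    refine (dvd_of_eq (Subgroup.orderOf_coe _).symm).trans ?_
    refine orderOf_dvd_of_pow_eq_one ?_
    have hz : ∀ j : ℕ, (t : G) * w ^ j * (t : G)⁻¹ = ⁅(t : G), w⁆ ^ j * w ^ j := fun j => by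
      rw [← (show Commute ⁅(t : G), w⁆ w from (mem_center_iff.1 (hw t t.2) w).symm).mul_pow, ← conj_pow]
      congr 1
      rw [commutatorElement_def]; group
    have := hz k
    rw [mem_center_iff.1 hk.2.1.2 (t : G), mul_inv_cancel_right] at this
    exact mul_eq_right.1 this.symm
  -- a second centraliser in `R0`
  obtain ⟨P₂, hP₂R, hP₂c, hP₂S, hP₂d⟩ : ∃ P₂ : Subgroup G, P₂ ≤ T ∧ Nat.card P₂ = Nat.card S ∧
      P₂ ⊓ S ≤ Z ∧ True := by
    by_cases hTR' : T = (R0 : Subgroup G)
    · -- some noncentral `r`-element avoids the conjugates of `S`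
      by_cases hcon : ∀ u ∈ N, u ∉ center G → (∃ i, orderOf u = r ^ i) → ∃ g ∈ N, g⁻¹ * u * g ∈ S
      · exact absurd (le_of_conj h hy hyc (hcov1 hcon)) fun hle => by
          have : (R0 : Subgroup G) ≤ S := fun z hz => hTCS z (hTR'.ge hz) (hle (hRN' z hz))
          exact hSR this
      push Not at hcon
      obtain ⟨u, huN, huc, ⟨i, hi⟩, hu⟩ := hcon
      obtain ⟨Su, hSu⟩ := ((IsPGroup.of_card (n := i) (by rw [Nat.card_zpowers, hi]) :
        IsPGroup r (zpowers u)).comap_subtype (K := centralizer ({u} : Set G))).exists_le_sylow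
      set Su' := (Su : Subgroup (centralizer ({u} : Set G))).map (centralizer ({u} : Set G)).subtype with hSu'
      have hSu'N : Su' ≤ N := fun z hz => by
        obtain ⟨j, hj⟩ := IsPGroup.iff_orderOf.1 (Su.isPGroup'.map (centralizer ({u} : Set G)).subtype) ⟨z, hz⟩
        exact hrN z ⟨j, by rw [← hj, Subgroup.orderOf_mk]⟩
      obtain ⟨Q, hQ⟩ := ((Su.isPGroup'.map (centralizer ({u} : Set G)).subtype).comap_subtype (K := N)).exists_le_sylow
      obtain ⟨g, hg⟩ := MulAction.exists_smul_eq N ((R0.isPGroup'.comap_subtype (K := N)).toSylow hR0N) Q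
      refine ⟨Su'.map (MulAut.conj (g : G)⁻¹).toMonoidHom, ?_, ?_, ?_, trivial⟩
      · rintro _ ⟨z, hz, rfl⟩
        have := hQ (show (⟨z, hSu'N hz⟩ : N) ∈ Su'.subgroupOf N from hz)
        rw [← hg] at this
        obtain ⟨w', hw', e⟩ := this
        have e' : (g : G) * w' * (g : G)⁻¹ = z := congrArg Subtype.val e
        rw [hTR', ← e']
        show (g : G)⁻¹ * ((g : G) * w' * (g : G)⁻¹) * (g : G)⁻¹⁻¹ ∈ (R0 : Subgroup G)
        rw [show (g : G)⁻¹ * ((g : G) * w' * (g : G)⁻¹) * (g : G)⁻¹⁻¹ = w' by group]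
        exact hw'
      · rw [Subgroup.card_map_of_injective (MulAut.conj (g : G)⁻¹).injective, hSu', hS,
          Subgroup.card_map_of_injective (subtype_injective _), Subgroup.card_map_of_injective (subtype_injective _)]
        show Nat.card Su = Nat.card SC
        rw [Su.card_eq_multiplicity, SC.card_eq_multiplicity, card_eq h huN huc hy hyc]
      · rintro a ⟨⟨z, hz, e⟩, haS⟩
        refine ⟨haS, ?_⟩
        by_contra hac
        apply hu g g.2
        change (g : G)⁻¹ * z * (g : G)⁻¹⁻¹ = a at e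
        have hgu : (g : G)⁻¹ * u * g ∈ C := by
          rw [← hsame a (hSC haS) (hSN haS) hac, ← e]
          have hzu : z ∈ centralizer ({u} : Set G) := map_subtype_le _ hz
          have h3 : u ∈ centralizer ({z} : Set G) := mem_cs.2 (mem_cs.1 hzu).symm
          rw [cs_conj]
          simpa [mul_assoc] using h3
        have hguT : (g : G)⁻¹ * u * g ∈ T := by
          have huS : u ∈ Su' := ⟨⟨u, mem_cs.2 rfl⟩, hSu (mem_zpowers u), rfl⟩
          have := hQ (show (⟨u, huN⟩ : N) ∈ Su'.subgroupOf N from huS)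
          rw [← hg] at this
          obtain ⟨w', hw', e'⟩ := this
          have e'' : (g : G) * w' * (g : G)⁻¹ = u := congrArg Subtype.val e'
          rw [hTR', ← e'', show (g : G)⁻¹ * ((g : G) * w' * (g : G)⁻¹) * g = w' by group]
          exact hw'
        exact hTCS _ hguT hgu
    · -- a conjugate of `S` inside `T`
      haveI := R0.isPGroup'.isNilpotent
      have hlt : T.subgroupOf R0 < ⊤ := lt_top_iff_ne_top.2 fun e => hTR' (le_antisymm hTR (subgroupOf_eq_top.1 e))
      obtain ⟨g, hg, hgT⟩ := SetLike.exists_of_lt (Group.normalizerCondition_of_isNilpotent _ hlt)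
      refine ⟨S.map (MulAut.conj (g : G)).toMonoidHom, ?_, Subgroup.card_map_of_injective (MulAut.conj (g : G)).injective, ?_, trivial⟩
      · rintro _ ⟨z, hz, rfl⟩
        exact (mem_normalizer_iff.1 hg ⟨z, hSRle hz⟩).1 (hST hz)
      · rintro _ ⟨⟨z, hz, rfl⟩, haS⟩
        refine ⟨haS, ?_⟩
        by_contra hac
        refine hgT (hRH g g.2 ?_)
        change (g : G) * z * (g : G)⁻¹ ∈ S at haS
        refine Subgroup.mem_normalizer_fintype fun c hc => ?_
        have hzc : z ∉ center G := fun e => hac (by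
          show (g : G) * z * (g : G)⁻¹ ∈ center G
          rw [mem_center_iff.1 e (g : G), mul_inv_cancel_right]; exact e)
        rw [← hsame _ (hSC haS) (hSN haS) hac]
        show (g : G) * c * (g : G)⁻¹ ∈ centralizer ({(g : G) * z * (g : G)⁻¹} : Set G)
        rw [cs_conj, show (g : G)⁻¹ * ((g : G) * c * (g : G)⁻¹) * g = c by group, hsame z (hSC hz) (hSN hz) hzc]
        exact hc
  have hbound : Nat.card S ≤ Nat.card ψ.range * Nat.card Z := by
    have h1 : S.relIndex P₂ ≤ S.relIndex T :=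
      Nat.le_of_dvd (Nat.pos_of_ne_zero index_ne_zero_of_finite) (by
        haveI : (S.subgroupOf T).Normal := ⟨fun z hz t => hTnS t t.2 z hz⟩
        have := Subgroup.relIndex_dvd_index_of_normal (S.subgroupOf T) (P₂.subgroupOf T)
        rwa [Subgroup.relIndex_subgroupOf hP₂R] at this)
    have h2 := relIndex_mul_relIndex (⊥ : Subgroup G) (P₂ ⊓ S) P₂ bot_le inf_le_left
    rw [relIndex_bot_left, relIndex_bot_left, hP₂c, Subgroup.inf_relIndex_left] at h2
    rw [← h2, mul_comm]
    exact Nat.mul_le_mul (h1.trans hindex.le) (Subgroup.card_le_of_le hP₂S)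
  have hcent : ∀ t ∈ T, ∀ z ∈ S, ⁅t, z⁆ ∈ center G := by
    set S₁ := Z ⊔ zpowers w with hS₁
    have hS₁S : S₁ ≤ S := sup_le inf_le_left (zpowers_le.2 hwS)
    have hk' : k ∣ Z.relIndex S₁ := by
      haveI : (Z.subgroupOf S₁).Normal := ⟨fun z hz g => by
        show (g : G) * z * (g : G)⁻¹ ∈ Z
        have hz' : (z : G) ∈ Z := hz
        rw [mem_center_iff.1 hz'.2 (g : G), mul_inv_cancel_right]
        exact hz'⟩
      refine hk.2.2 _ ?_
      exact Subgroup.pow_index_mem (Z.subgroupOf S₁) (⟨w, mem_sup_right (mem_zpowers w)⟩ : S₁)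
    have h2 := relIndex_mul_relIndex (⊥ : Subgroup G) Z S₁ bot_le le_sup_left
    rw [relIndex_bot_left, relIndex_bot_left] at h2
    have hpos : 0 < Z.relIndex S₁ := Nat.pos_of_ne_zero index_ne_zero_of_finite
    have hS₁eq : S₁ = S := Subgroup.eq_of_le_of_card_ge hS₁S (by
      rw [← h2, mul_comm]
      exact hbound.trans (Nat.mul_le_mul_right _ ((Nat.le_of_dvd hk.1 hdvd).trans (Nat.le_of_dvd hpos hk'))))
    intro t ht z hz
    rw [← hS₁eq] at hz
    have hle : S₁ ≤ (center G).comap (MulAut.conj t).toMonoidHom ⊔ zpowers w := sup_le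
      (fun a ha => mem_sup_left (by
        show t * a * t⁻¹ ∈ center G
        rw [mem_center_iff.1 ha.2 t, mul_inv_cancel_right]; exact ha.2)) le_sup_right
    rw [hS₁, ← SetLike.mem_coe, Subgroup.coe_mul_of_right_le_normalizer_left _ _ (fun g _ =>
      Subgroup.mem_normalizer_fintype fun a ha => by
        rw [mem_center_iff.1 ha.2 g, mul_inv_cancel_right]; exact ha)] at hz
    obtain ⟨a, ha, _, ⟨j, rfl⟩, rfl⟩ := hz
    show ⁅t, a * w ^ j⁆ ∈ center G
    rw [commutatorElement_mul_right_eq_mul_conj,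
      commutatorElement_eq_one_iff_mul_comm.2 (mem_center_iff.1 ha.2 t), one_mul]
    refine (inferInstance : (center G).Normal).conj_mem _ ?_ a
    have e : t * w ^ j * t⁻¹ = ⁅t, w⁆ ^ j * w ^ j := by
      rw [← (show Commute ⁅t, w⁆ w from (mem_center_iff.1 (hw t ht) w).symm).mul_zpow, ← conj_zpow]
      congr 1
      rw [commutatorElement_def]; group
    rw [commutatorElement_def, e, mul_inv_cancel_right]
    exact zpow_mem (hw t ht) j
  -- the kernel on `S` modulo the centre
  let K1 : Subgroup H :=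
    { carrier := {g | ∀ z ∈ S, ⁅(g : G), z⁆ ∈ center G}
      one_mem' := fun z _ => by rw [Subgroup.coe_one, commutatorElement_one_left]; exact one_mem _
      mul_mem' := fun {a b} ha hb z hz => by
        rw [Subgroup.coe_mul, commutatorElement_mul_left_eq_conj_mul]
        exact mul_mem ((inferInstance : (center G).Normal).conj_mem _ (hb z hz) _) (ha z hz)
      inv_mem' := fun {a} ha z hz => by
        have := (inferInstance : (center G).Normal).conj_mem _ (inv_mem (ha z hz)) (a : G)⁻¹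
        rw [Subgroup.coe_inv]
        rwa [show (a : G)⁻¹ * ⁅(a : G), z⁆⁻¹ * (a : G)⁻¹⁻¹ = ⁅(a : G)⁻¹, z⁆ by group] at this }
  haveI hK1n : K1.Normal := ⟨fun a ha g z hz => by
    have h1 := ha _ (hSnorm _ (inv_mem g.2.2) z hz)
    rw [inv_inv] at h1
    have := (inferInstance : (center G).Normal).conj_mem _ h1 (g : G)
    rwa [show (g : G) * ⁅(a : G), (g : G)⁻¹ * z * g⁆ * (g : G)⁻¹ = ⁅((g * a * g⁻¹ : H) : G), z⁆ by
      simp only [Subgroup.coe_mul, Subgroup.coe_inv]; group] at this⟩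
  have hT0K : (T0 : Subgroup H) ≤ K1 := fun t ht z hz => hcent t ⟨t, ht, rfl⟩ z hz
  have hK1C : ∀ g : H, g ∈ K1 → ¬ r ∣ orderOf g → (g : G) ∈ C := by
    intro g hg hgr
    rw [← hsame x (hSC hxS) hxN hxc, mem_cs, ← commutatorElement_eq_one_iff_mul_comm]
    have hz : ⁅(g : G), x⁆ ∈ S := by
      rw [commutatorElement_def]
      exact mul_mem (hSnorm g g.2.2 x hxS) (inv_mem hxS)
    obtain ⟨i, hi⟩ := hord _ hz
    have hc := hg x hxS
    have hp : ∀ j : ℕ, (g : G) ^ j * x * ((g : G) ^ j)⁻¹ = ⁅(g : G), x⁆ ^ j * x := by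
      intro j
      induction j with
      | zero => simp
      | succ j ih =>
        rw [pow_succ', mul_inv_rev, show (g : G) * (g : G) ^ j * x * (((g : G) ^ j)⁻¹ * (g : G)⁻¹) =
          (g : G) * ((g : G) ^ j * x * ((g : G) ^ j)⁻¹) * (g : G)⁻¹ by group, ih,
          show (g : G) * (⁅(g : G), x⁆ ^ j * x) * (g : G)⁻¹ = ((g : G) * ⁅(g : G), x⁆ ^ j * (g : G)⁻¹) * ⁅(g : G), x⁆ * x by
            rw [commutatorElement_def]; group,
          mem_center_iff.1 (pow_mem hc j) (g : G), mul_inv_cancel_right, ← pow_succ]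
    have := hp (orderOf g)
    rw [← SubgroupClass.coe_pow, pow_orderOf_eq_one, Subgroup.coe_one, one_mul, inv_one, mul_one] at this
    exact orderOf_eq_one_iff.1 (Nat.eq_one_of_dvd_coprimes (hi ▸ (hr.out.coprime_iff_not_dvd.2 hgr).pow_left i)
      dvd_rfl (orderOf_dvd_of_pow_eq_one (mul_eq_right.1 this.symm)))
  set T1 : Sylow r K1 := T0.subtype hT0K with hT1
  have hfratt := Sylow.normalizer_sup_eq_top T1
  rw [show ((T1 : Subgroup K1).map K1.subtype : Subgroup H) = (T0 : Subgroup H) from by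
    rw [hT1, Sylow.coe_subtype, Subgroup.subgroupOf_map_subtype]; exact inf_eq_left.2 hT0K] at hfratt
  set M : Subgroup H := C.subgroupOf H with hM
  haveI : M.Normal := ⟨fun a ha g => (mem_normalizer_iff.1 g.2.2 a).1 ha⟩
  -- `s` does not divide the index of `C` in `H`
  have hHs : ¬ s ∣ M.index := by
    intro hd
    have hnorm : normalizer ((T0 : Subgroup H) : Set H) ⊔ K1 = ⊤ := hfratt
    rw [Subgroup.index_eq_card] at hd
    obtain ⟨g, hg⟩ := exists_prime_orderOf_dvd_card' (G := H ⧸ M) s hd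
    obtain ⟨g, rfl⟩ := QuotientGroup.mk_surjective g
    -- the image of `K₁` is an `r`-group
    have hKimg : IsPGroup r (K1.map (QuotientGroup.mk' M)) := by
      rintro ⟨_, a, ha, rfl⟩
      obtain ⟨u, hu, v, hv, huv, ⟨i, hi⟩, hvr⟩ := parts r a
      refine ⟨i, Subtype.ext ?_⟩
      show (QuotientGroup.mk' M a) ^ r ^ i = 1
      rw [← huv, map_mul, show QuotientGroup.mk' M v = 1 from (QuotientGroup.eq_one_iff v).2
        (hK1C v (zpowers_le.2 ha hv) hvr), mul_one, ← map_pow, ← hi, pow_orderOf_eq_one, map_one]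
    have hgsup : g ∈ normalizer ((T0 : Subgroup H) : Set H) ⊔ K1 := hnorm.ge (mem_top g)
    rw [← SetLike.mem_coe, Subgroup.mul_normal] at hgsup
    obtain ⟨a, ha, b, hb, hab⟩ := hgsup
    change a * b = g at hab
    set X := (normalizer ((T0 : Subgroup H) : Set H)).map (QuotientGroup.mk' M) with hX
    haveI : (K1.map (QuotientGroup.mk' M)).Normal := hK1n.map _ (QuotientGroup.mk'_surjective M)
    -- an `s`-element of `N_H(T)` outside `C`
    obtain ⟨u, hu, v, hv, huv, hus, hvs⟩ := parts s a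
    have huT : u ∈ normalizer ((T0 : Subgroup H) : Set H) := zpowers_le.2 ha hu
    have huC : (u : G) ∈ C := by
      obtain ⟨i, hi⟩ := hus
      refine hfix (zpowers (u : G)) (IsPGroup.of_card (n := i) (by rw [Nat.card_zpowers, Subgroup.orderOf_coe, hi]))
        (zpowers_le.2 (hAn u.2.2)) (zpowers_le.2 ?_) (mem_zpowers _)
      refine Subgroup.mem_normalizer_fintype ?_
      rintro _ ⟨t, ht, rfl⟩
      exact ⟨u * t * u⁻¹, (mem_normalizer_iff.1 huT t).1 ht, rfl⟩
    set qm := QuotientGroup.mk' M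
    set qk := QuotientGroup.mk' (K1.map qm)
    have hga : qk (qm g) = qk (qm v) := by
      have h1 : qk (qm b) = 1 := (QuotientGroup.eq_one_iff _).2 (mem_map_of_mem qm hb)
      have h2 : qm u = 1 := (QuotientGroup.eq_one_iff _).2 huC
      rw [← hab, ← huv, map_mul, map_mul, map_mul, map_mul, h1, h2, map_one, one_mul, mul_one]
    have h1 : orderOf (qk (qm g)) ∣ s := (orderOf_map_dvd qk (qm g)).trans hg.dvd
    have h2 : orderOf (qk (qm g)) ∣ orderOf v := by
      rw [hga]; exact (orderOf_map_dvd qk (qm v)).trans (orderOf_map_dvd qm v)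
    have h3 : qm g ∈ K1.map qm := (QuotientGroup.eq_one_iff _).1 (orderOf_eq_one_iff.1
      (Nat.eq_one_of_dvd_coprimes (hs.coprime_iff_not_dvd.2 hvs) h1 h2))
    obtain ⟨j, hj⟩ := IsPGroup.iff_orderOf.1 hKimg ⟨_, h3⟩
    rw [Subgroup.orderOf_mk] at hj
    have h4 : s = r ^ j := hg.symm.trans hj
    exact hsr ((Nat.prime_dvd_prime_iff_eq hs hr.out).1 (hs.dvd_of_dvd_pow h4.dvd))
  -- `A` is a Sylow subgroup of `H`, hence of `N`
  have hAH : A ≤ H := fun a ha => ⟨hAN ha, le_normalizer (hAC ha)⟩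
  have hAHi : ¬ s ∣ A.relIndex H := by
    have hle : A.subgroupOf H ≤ M := fun a ha => hAC ha
    show ¬ s ∣ (A.subgroupOf H).index
    rw [← relIndex_mul_index hle]
    intro hd
    rcases hs.dvd_mul.1 hd with hd | hd
    · haveI : ((A.subgroupOf H).subgroupOf M).Normal := ⟨fun a ha g => by
        show ((g : H) : G) * ((a : H) : G) * ((g : H) : G)⁻¹ ∈ A
        have ha' : ((a : H) : G) ∈ A := ha
        rw [← hstr ((a : H) : G) (hAC ha') (hAN ha') ((g : H) : G) (g.2 : ((g : H) : G) ∈ C), mul_inv_cancel_right]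
        exact ha'⟩
      obtain ⟨q, hq⟩ := exists_prime_orderOf_dvd_card' (G := M ⧸ (A.subgroupOf H).subgroupOf M) s hd
      obtain ⟨g, rfl⟩ := QuotientGroup.mk_surjective q
      obtain ⟨u, hu, v, hv, huv, ⟨i, hi⟩, hvs⟩ := parts s g
      set f := QuotientGroup.mk' ((A.subgroupOf H).subgroupOf M)
      have huA : f u = 1 := (QuotientGroup.eq_one_iff u).2
        ⟨u.2, (u : H).2.1, i, by rw [← map_pow, ← map_pow, ← hi, pow_orderOf_eq_one, map_one, map_one]⟩
      have : orderOf (f g) ∣ orderOf v := by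
        rw [← huv, map_mul, huA, one_mul]; exact orderOf_map_dvd f v
      exact hvs (hq ▸ this)
    · exact hHs hd
  have hANi : ¬ s ∣ (A.subgroupOf N).index := by
    intro hd
    obtain ⟨Q, hQ⟩ := (hAs.comap_subtype (K := N)).exists_le_sylow
    haveI := Q.isPGroup'.isNilpotent
    have hlt : (A.subgroupOf N).subgroupOf Q < ⊤ := lt_top_iff_ne_top.2 fun e => Q.not_dvd_index
      ((congrArg Subgroup.index (le_antisymm hQ (subgroupOf_eq_top.1 e))) ▸ hd)
    obtain ⟨g, hg, hgA⟩ := SetLike.exists_of_lt (Group.normalizerCondition_of_isNilpotent _ hlt)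
    have hgn : ((g : N) : G) ∈ normalizer (A : Set G) := Subgroup.mem_normalizer_fintype fun a ha => by
      have := (mem_normalizer_iff.1 hg (⟨⟨a, hAN ha⟩, hQ (show (⟨a, hAN ha⟩ : N) ∈ A.subgroupOf N from ha)⟩ : (Q : Subgroup N))).1 ha
      exact this
    have hgH : ((g : N) : G) ∈ H := ⟨(g : N).2, hnA hgn⟩
    set QH := ((Q : Subgroup N).map N.subtype).subgroupOf H
    have hQH : IsPGroup s QH := (Q.isPGroup'.map N.subtype).comap_subtype
    have hle : A.subgroupOf H ≤ QH := fun a ha =>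
      ⟨⟨(a : G), hAN ha⟩, hQ (show (⟨(a : G), hAN ha⟩ : N) ∈ A.subgroupOf N from ha), rfl⟩
    have h1 := ((hAs.comap_subtype (K := H)).toSylow hAHi).is_maximal' hQH hle
    exact hgA (h1.le (show (⟨_, hgH⟩ : H) ∈ QH from ⟨(g : N), g.2, rfl⟩))
  -- `s` does not divide `m`
  have hms : ¬ s ∣ m := by
    rw [← index_eq h hy hyc]
    set L := normalizer (A : Set G) with hL
    have hNL : N ⊓ L = H := le_antisymm (fun g hg => ⟨hg.1, hnA hg.2⟩) fun g hg => ⟨hg.1, hAn hg.2⟩
    set QA : Sylow s N := (hAs.comap_subtype (K := N)).toSylow hANi with hQA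
    have hf1 := Sylow.normalizer_sup_eq_top QA
    rw [show ((QA : Subgroup N).map N.subtype : Subgroup G) = A from by
      show (A.subgroupOf N).map N.subtype = A
      rw [Subgroup.subgroupOf_map_subtype]; exact inf_eq_left.2 hAN] at hf1
    have hLi : ¬ s ∣ L.index := by
      intro hd
      have h1 : L.index ∣ A.relIndex N := by
        have h2 : L.relIndex (L ⊔ N) = L.index := by rw [hf1, relIndex_top_right]
        have h3 : L.relIndex N = L.index := by
          rw [← h2]
          have h4 := relIndex_mul_relIndex (⊥ : Subgroup G) L (L ⊔ N) bot_le le_sup_left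
          have h5 := relIndex_mul_relIndex (⊥ : Subgroup G) N (L ⊔ N) bot_le le_sup_right
          have h6 := relIndex_mul_relIndex (⊥ : Subgroup G) (N ⊓ L) N bot_le inf_le_left
          have h7 := relIndex_mul_relIndex (⊥ : Subgroup G) (N ⊓ L) L bot_le inf_le_right
          rw [Subgroup.relIndex_sup_right, Subgroup.relIndex_bot_left, Subgroup.relIndex_bot_left] at h5
          rw [Subgroup.relIndex_bot_left, Subgroup.relIndex_bot_left] at h4 h6 h7
          rw [Subgroup.inf_relIndex_left] at h6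
          rw [Subgroup.inf_relIndex_right] at h7
          have h8 : Nat.card L * L.relIndex N = Nat.card L * L.relIndex (L ⊔ N) := by
            rw [h4, ← h5, ← h6]
            conv_lhs => rw [← h7]
            ring
          exact Nat.eq_of_mul_eq_mul_left Nat.card_pos h8
        rw [← h3]
        exact Subgroup.relIndex_dvd_of_le_left N (le_normalizer : A ≤ L)
      exact hANi (hd.trans h1)
    set H' := H.subgroupOf L with hH'
    have hH'N : H' = N.subgroupOf L := by
      rw [hH', ← hNL, Subgroup.inf_subgroupOf_right]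
    haveI : H'.Normal := hH'N ▸ hN.subgroupOf L
    have hHL : H ≤ L := fun g hg => hAn hg.2
    have hTi : ¬ r ∣ ((T.subgroupOf L).subgroupOf H').index := by
      show ¬ r ∣ (T.subgroupOf L).relIndex H'
      rw [hH', Subgroup.relIndex_subgroupOf hHL]
      show ¬ r ∣ (T.subgroupOf H).index
      rw [show T.subgroupOf H = (T0 : Subgroup H) from Subgroup.comap_map_eq_self_of_injective H.subtype_injective _]
      exact T0.not_dvd_index
    set T' : Sylow r H' := ((hTp.comap_subtype (K := L)).comap_subtype (K := H')).toSylow hTi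
    have hf2 := Sylow.normalizer_sup_eq_top T'
    rw [show ((T' : Subgroup H').map H'.subtype : Subgroup L) = T.subgroupOf L from by
      show ((T.subgroupOf L).subgroupOf H').map H'.subtype = _
      rw [Subgroup.subgroupOf_map_subtype]
      exact inf_eq_left.2 fun t ht => hTH ht] at hf2
    set MC := C.subgroupOf L with hMC
    haveI hMn : MC.Normal := ⟨fun c hc g => (mem_normalizer_iff.1 (hnA g.2) c).1 hc⟩
    have hdvd : C.index ∣ MC.index * L.index := by
      show C.index ∣ C.relIndex L * L.index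
      rw [← Subgroup.inf_relIndex_right, relIndex_mul_index inf_le_right]
      exact index_dvd_of_le inf_le_left
    intro hd
    rcases hs.dvd_mul.1 (hd.trans hdvd) with hd | hd
    swap
    · exact hLi hd
    rw [Subgroup.index_eq_card] at hd
    obtain ⟨g, hg⟩ := exists_prime_orderOf_dvd_card' (G := L ⧸ MC) s hd
    obtain ⟨g, rfl⟩ := QuotientGroup.mk_surjective g
    have hgsup : g ∈ normalizer ((T.subgroupOf L : Subgroup L) : Set L) ⊔ H' := hf2.ge (mem_top g)
    rw [← SetLike.mem_coe, Subgroup.mul_normal] at hgsup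
    obtain ⟨a, ha, b, hb, hab⟩ := hgsup
    change a * b = g at hab
    obtain ⟨u, hu, v, hv, huv, ⟨i, hi⟩, hvs⟩ := parts s a
    have huC : (u : G) ∈ C := by
      refine hfix (zpowers (u : G)) (IsPGroup.of_card (n := i) (by rw [Nat.card_zpowers, Subgroup.orderOf_coe, hi]))
        (zpowers_le.2 u.2) (zpowers_le.2 ?_) (mem_zpowers _)
      refine Subgroup.mem_normalizer_fintype fun t ht => ?_
      exact (mem_normalizer_iff.1 (zpowers_le.2 ha hu) ⟨t, hHL (hTH ht)⟩).1 ht
    set qm := QuotientGroup.mk' MC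
    haveI : (H'.map qm).Normal := (inferInstance : H'.Normal).map _ (QuotientGroup.mk'_surjective MC)
    set qk := QuotientGroup.mk' (H'.map qm)
    have hga : qk (qm g) = qk (qm v) := by
      have h1 : qk (qm b) = 1 := (QuotientGroup.eq_one_iff _).2 (mem_map_of_mem qm hb)
      have h2 : qm u = 1 := (QuotientGroup.eq_one_iff _).2 huC
      rw [← hab, ← huv, map_mul, map_mul, map_mul, map_mul, h1, h2, map_one, one_mul, mul_one]
    have h1 : orderOf (qk (qm g)) ∣ s := (orderOf_map_dvd qk (qm g)).trans hg.dvd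
    have h2 : orderOf (qk (qm g)) ∣ orderOf v := by
      rw [hga]; exact (orderOf_map_dvd qk (qm v)).trans (orderOf_map_dvd qm v)
    have h3 : qm g ∈ H'.map qm := (QuotientGroup.eq_one_iff _).1 (orderOf_eq_one_iff.1
      (Nat.eq_one_of_dvd_coprimes (hs.coprime_iff_not_dvd.2 hvs) h1 h2))
    obtain ⟨c, hc, hcg⟩ := h3
    -- transfer to `H`
    obtain ⟨u', hu', v', hv', huv', ⟨i', hi'⟩, hvs'⟩ := parts s (⟨(c : G), hc⟩ : H)
    let ι : H →* L := inclusion hHL
    have hι : qm c = qm (ι u') * qm (ι v') := by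
      rw [← map_mul, ← map_mul, huv']; rfl
    have hu1 : qm (ι u') = 1 := by
      refine (QuotientGroup.eq_one_iff _).2 ?_
      show (u' : G) ∈ C
      have hu'M : (QuotientGroup.mk' M) u' = 1 := orderOf_eq_one_iff.1 (Nat.eq_one_of_dvd_coprimes
        ((hs.coprime_iff_not_dvd.2 hHs).pow_left i') ((orderOf_map_dvd _ u').trans hi'.dvd)
        (Subgroup.index_eq_card M ▸ _root_.orderOf_dvd_natCard _))
      exact ((QuotientGroup.eq_one_iff (N := M) u').1 hu'M : u' ∈ M)
    rw [hu1, one_mul] at hι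
    refine hvs' ?_
    have : orderOf (qm c) ∣ orderOf v' := by
      rw [hι]; exact (orderOf_map_dvd qm (ι v')).trans (orderOf_map_dvd ι v')
    rwa [hcg, show orderOf (qm g) = s from hg] at this
  refine hfin fun n hn hnc => cover h (A.subgroupOf N) hAs.comap_subtype hANi
    (x := y) ⟨⟨y, hy⟩, hyA, rfl⟩ hyc ?_ hms hn hnc
  rintro _ ⟨z, hz, rfl⟩ hzc
  exact hsame _ (hAC hz) z.2 hzc

end


/-- Let G be a finite group, r a prime and R a Sylow r-subgroup of G that is not central, N a normal subgroup of G containing R, and m a natural number such that every element of N has a conjugacy class in G of size 1 or m. Then N is nilpotent. -/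
theorem result {G : Type*} [Group G] [Finite G] (r : ℕ) [Fact r.Prime]
    (R : Sylow r G) (hR : ¬ (R : Subgroup G) ≤ Subgroup.center G) (N : Subgroup G) [N.Normal] (hRN : (R : Subgroup G) ≤ N)
    (m : ℕ) (h : ∀ x ∈ N, (Subgroup.centralizer ({x} : Set G)).index = 1 ∨ (Subgroup.centralizer ({x} : Set G)).index = m) : Group.IsNilpotent N := by

  exact main h R hR hRN

end Cfsg.Agent.S4135
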