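import Cfsg.Statements.S4139
import Cfsg.Agent.Lib.Fus.ClassSizeNilpotent
-- import your own Cfsg.Agent.* helpers here

set_option autoImplicit false
open Cfsg

namespace Cfsg.Agent.S4139

/-- Let G and H be finite groups such that for every natural number k, G and H have the same number of conjugacy classes of size k. If H is nilpotent then G is nilpotent. -/
theorem result {G H : Type*} [Group G] [Finite G] [Group H] [Finite H]
    (hH : Group.IsNilpotent H)
    (h : ∀ k : ℕ, Nat.card {C : ConjClasses G // Nat.card C.carrier = k} = Nat.card {C : ConjClasses H // Nat.card C.carrier = k}) :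
    Group.IsNilpotent G := by
  classical
  obtain ⟨e, he⟩ := Cfsg.Agent.Fus.exists_equiv_index_centralizer h
  have htfae := (Group.isNilpotent_of_finite_tfae (G := G)).out 0 3
  refine htfae.mpr ?_
  intro p hp P
  refine Cfsg.Agent.Fus.sylow_normal_of_card_primeIdxSet P ?_
  have hcard : Nat.card G = Nat.card H := Nat.card_congr e
  have hX : Nat.card (Cfsg.Agent.Fus.primeIdxSet G p)
      = Nat.card (Cfsg.Agent.Fus.primeIdxSet H p) :=
    Nat.card_congr (e.subtypeEquiv fun x => by
      show ¬ _ ↔ ¬ _
      rw [he])
  have hZ' : Nat.card (Subgroup.center G) = Nat.card (Subgroup.center H) := by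
    rw [Cfsg.Agent.Fus.card_center_eq, Cfsg.Agent.Fus.card_center_eq]
    exact Nat.card_congr (e.subtypeEquiv fun x => by rw [he])
  rw [hX, hZ', hcard]
  exact Cfsg.Agent.Fus.card_primeIdxSet_of_isNilpotent hH

end Cfsg.Agent.S4139
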