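import Cfsg.Statements.S4142

set_option maxHeartbeats 1000000
set_option maxRecDepth 8000

set_option autoImplicit false
open Cfsg

namespace Cfsg.Agent.S4142

/-- Let G be a finite group and N a normal subgroup. Then the conjugacy class of every element g outside N is a union of cosets of N (gn is conjugate to g for all n ∈ N) if and only if for every g outside N the centralizer of g in G has the same order as the centralizer of gN in G/N. -/
theorem result {G : Type*} [Group G] [Finite G] (N : Subgroup G) [N.Normal] :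
    (∀ g : G, g ∉ N → ∀ n ∈ N, ∃ x : G, x * g * x⁻¹ = g * n) ↔
      ∀ g : G, g ∉ N → Nat.card (Subgroup.centralizer ({g} : Set G)) =
        Nat.card (Subgroup.centralizer ({(QuotientGroup.mk g : G ⧸ N)} : Set (G ⧸ N))) := by
  classical
  have hstab : ∀ {H : Type _} [Group H] [Finite H] (h : H),
      Nat.card (Subgroup.centralizer ({h} : Set H)) * (MulAction.orbit (ConjAct H) h).ncard = Nat.card H := by
    intro H _ _ h
    rw [← Nat.card_coe_set_eq, mul_comm]
    have h1 := (MulAction.stabilizer (ConjAct H) h).index_mul_card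
    rw [MulAction.index_stabilizer, ← Nat.card_coe_set_eq, ConjAct.stabilizer_eq_centralizer] at h1
    exact h1
  refine forall_congr' fun g => ?_
  refine imp_congr_right fun _ => ?_
  have h1 := hstab g
  have h2 := hstab (QuotientGroup.mk g : G ⧸ N)
  set A := MulAction.orbit (ConjAct G) g
  set B := MulAction.orbit (ConjAct (G ⧸ N)) (QuotientGroup.mk g : G ⧸ N)
  have hB : (QuotientGroup.mk ⁻¹' B : Set G).ncard = Nat.card N * B.ncard := by
    rw [← Nat.card_coe_set_eq, ← Nat.card_coe_set_eq,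
      Nat.card_congr (QuotientGroup.preimageMkEquivSubgroupProdSet N B), Nat.card_prod]
  have hmemA : ∀ y, y ∈ A ↔ ∃ x : G, x * g * x⁻¹ = y := fun y =>
    ⟨fun ⟨x, hx⟩ => ⟨ConjAct.ofConjAct x, hx⟩, fun ⟨x, hx⟩ => ⟨ConjAct.toConjAct x, hx⟩⟩
  have hsub : A ⊆ QuotientGroup.mk ⁻¹' B := fun y hy => by
    obtain ⟨x, rfl⟩ := (hmemA y).mp hy
    exact ⟨ConjAct.toConjAct (QuotientGroup.mk x : G ⧸ N), rfl⟩
  have hN : Nat.card G = Nat.card (G ⧸ N) * Nat.card N := N.card_eq_card_quotient_mul_card_subgroup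
  have hApos : 0 < A.ncard := (Set.ncard_pos (Set.toFinite _)).mpr ⟨g, MulAction.mem_orbit_self g⟩
  have heq : (Nat.card (Subgroup.centralizer ({g} : Set G)) =
      Nat.card (Subgroup.centralizer ({(QuotientGroup.mk g : G ⧸ N)} : Set (G ⧸ N)))) ↔
      A = QuotientGroup.mk ⁻¹' B := by
    constructor
    · intro h
      refine Set.eq_of_subset_of_ncard_le hsub (le_of_eq ?_) (Set.toFinite _)
      rw [hB]
      rw [hN, ← h2, h] at h1
      refine Nat.eq_of_mul_eq_mul_left (Nat.card_pos
        (α := Subgroup.centralizer ({(QuotientGroup.mk g : G ⧸ N)} : Set (G ⧸ N)))) ?_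
      rw [h1]; ring
    · intro h
      rw [h, hB, hN, ← h2] at h1
      refine Nat.eq_of_mul_eq_mul_right (Nat.mul_pos (Nat.card_pos (α := N))
        ((Set.ncard_pos (Set.toFinite _)).mpr ⟨_, MulAction.mem_orbit_self _⟩ : 0 < B.ncard)) ?_
      rw [h1]; ring
  rw [heq]
  constructor
  · intro h
    refine Set.Subset.antisymm hsub fun y hy => ?_
    obtain ⟨c, hc⟩ := hy
    obtain ⟨x, hx⟩ := QuotientGroup.mk_surjective (ConjAct.ofConjAct c)
    have hc' : (QuotientGroup.mk (x * g * x⁻¹) : G ⧸ N) = QuotientGroup.mk y := by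
      rw [QuotientGroup.mk_mul, QuotientGroup.mk_mul, QuotientGroup.mk_inv, hx]
      exact hc
    have hn : g⁻¹ * (x⁻¹ * y * x) ∈ N := by
      have h0 := (inferInstance : N.Normal).conj_mem _ (QuotientGroup.eq.mp hc') x⁻¹
      simpa [mul_assoc] using h0
    obtain ⟨z, hz⟩ := h _ hn
    refine (hmemA y).mpr ⟨x * z, ?_⟩
    calc x * z * g * (x * z)⁻¹ = x * (z * g * z⁻¹) * x⁻¹ := by group
      _ = y := by rw [hz]; group
  · intro h n hn
    refine (hmemA _).mp (h ▸ ?_)
    refine ⟨1, ?_⟩
    simp [hn]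

end Cfsg.Agent.S4142
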