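import Cfsg.Statements.S4144
import Mathlib
import Cfsg.Agent.Lib.Transfer.MaxClassExponent
import Cfsg.Agent.Lib.Grp.Basic
import Cfsg.Agent.Lib.Fus.MaxClassCentraliser

set_option maxHeartbeats 1000000
set_option maxRecDepth 8000

set_option autoImplicit false
open Cfsg

namespace Cfsg.Agent.S4144

open Cfsg.Agent
open Cfsg.Agent.Fus.MC (lc lc_anti lc_comm)
open Cfsg.Agent.Grp.Uni

section
variable {X : Type*} [Group X] [Finite X] {p n : ℕ} [hp : Fact p.Prime]

/-- The `p`-th powers of a subgroup. -/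
abbrev agemo (p : ℕ) (H : Subgroup X) : Subgroup X := Subgroup.closure {y : X | ∃ h ∈ H, y = h ^ p}

theorem pow_prime_card {A : Subgroup X} (hA : ∀ g ∈ A, g ^ p ^ n = 1) : ∃ j, Nat.card A = p ^ j := by
  refine (IsPGroup.iff_card (p := p)).1 fun g => ⟨n, Subtype.ext ?_⟩
  exact hA g g.2

theorem exists_pow_not_mem (hm : MaxCl X p n) (hn : p + 1 ≤ n) : ∃ g : X, g ^ p ∉ lc X p := by
  by_contra h
  push Not at h
  set N := lc X p
  set π := QuotientGroup.mk' N
  have hπ : ∀ k, (lc X k).map π = lc (X ⧸ N) k := fun k =>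
    (Subgroup.map_lowerCentralSeries _ _ _).trans (congrArg (fun S => Subgroup.lowerCentralSeries S _)
      (Subgroup.map_top_of_surjective _ (QuotientGroup.mk'_surjective _)))
  have hbot : lc (X ⧸ N) p = ⊥ := by
    rw [← hπ, eq_bot_iff]
    rintro _ ⟨z, hz, rfl⟩
    exact (QuotientGroup.eq_one_iff z).2 hz
  have h2 := hp.out.two_le
  have hm' : MaxCl (X ⧸ N) p (p + 1) := by
    refine ⟨?_, by omega, ?_⟩
    · rw [← Subgroup.index_eq_card]
      exact lc_index hm (by omega) (by omega)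
    · haveI : Group.IsNilpotent X := (IsPGroup.of_card hm.card).isNilpotent
      refine le_antisymm (Subgroup.lowerCentralSeries_eq_bot_iff_nilpotencyClass_le.1 (by
        show lc _ (p + 1 - 1) = ⊥
        rw [Nat.add_sub_cancel]; exact hbot)) ?_
      by_contra hlt
      have hb : lc (X ⧸ N) (p - 1) = ⊥ :=
        Subgroup.lowerCentralSeries_eq_bot_iff_nilpotencyClass_le.2 (by omega)
      rw [← hπ, eq_bot_iff] at hb
      obtain ⟨a, ha, ha'⟩ := exists_depth hm (k := p - 1) (by omega) (by omega)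
      rw [show p - 1 + 1 = p by omega] at ha'
      exact ha' ((QuotientGroup.eq_one_iff a).1 (hb (Subgroup.mem_map_of_mem π ha)))
  obtain ⟨g, hg⟩ := Transfer.MCExp.exists_pow_ne_one hm' rfl
  obtain ⟨g, rfl⟩ := QuotientGroup.mk'_surjective N g
  exact hg (by rw [← map_pow]; exact (QuotientGroup.eq_one_iff _).2 (h g))

theorem layers (hm : MaxCl X p n) {x : X} (hx : Uniform X p n x) (H : Subgroup X) :
    ∀ r k, 1 ≤ k → n ≤ k + r →
      Nat.card ↥(H ⊓ lc X k) ≤ p ^ (p - 1) * Nat.card ↥(agemo p H ⊓ lc X (k + (p - 1))) := by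
  intro r
  induction r with
  | zero =>
    intro k h1 hk
    rw [show H ⊓ lc X k = ⊥ by rw [lc_eq_bot hm (by omega), inf_bot_eq], Subgroup.card_bot]
    exact Nat.mul_pos (pow_pos hp.out.pos _) Nat.card_pos
  | succ r ih =>
    intro k h1 hk
    have h2 := hp.out.two_le
    by_cases hsmall : n < k + (p - 1) + 2
    · refine ((Subgroup.card_le_of_le inf_le_right).trans (le_of_eq (card_lc hm h1))).trans ?_
      exact (Nat.pow_le_pow_right hp.out.pos (by omega)).trans (Nat.le_mul_of_pos_right _ Nat.card_pos)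
    push Not at hsmall
    have ih' := ih (k + 1) (by omega) (by omega)
    rw [show k + 1 + (p - 1) = k + (p - 1) + 1 by omega] at ih'
    by_cases hjump : H ⊓ lc X k ≤ lc X (k + 1)
    · refine (Subgroup.card_le_of_le (le_inf inf_le_left hjump)).trans (ih'.trans ?_)
      exact Nat.mul_le_mul_left _ (Subgroup.card_le_of_le (inf_le_inf_left _ (lc_anti (by omega))))
    obtain ⟨g, hg, hg'⟩ := SetLike.not_le_iff_exists.1 hjump
    set A := agemo p H ⊓ lc X (k + (p - 1))
    set B := agemo p H ⊓ lc X (k + (p - 1) + 1)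
    have hBA : B ≤ A := inf_le_inf_left _ (lc_anti (by omega))
    have hlt : p * Nat.card B ≤ Nat.card A := by
      obtain ⟨i, -, hi⟩ := (Nat.dvd_prime_pow hp.out).1 (hm.card ▸ A.card_subgroup_dvd_card)
      obtain ⟨j, -, hj⟩ := (Nat.dvd_prime_pow hp.out).1 (hm.card ▸ B.card_subgroup_dvd_card)
      have hgp : g ^ p ∈ A := ⟨Subgroup.subset_closure ⟨g, hg.1, rfl⟩, pow_mem_lc hx h1 hg.2⟩
      have hgB : g ^ p ∉ B := fun h => pow_not_mem hx h1 hg.2 hg' (by omega) h.2
      have hcard : Nat.card B < Nat.card A := lt_of_le_of_ne (Subgroup.card_le_of_le hBA)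
        fun e => hgB ((Subgroup.eq_of_le_of_card_ge hBA e.ge).ge hgp)
      rw [hi, hj, Nat.pow_lt_pow_iff_right hp.out.one_lt] at hcard
      rw [hi, hj, ← pow_succ']
      exact Nat.pow_le_pow_right hp.out.pos hcard
    have hup : Nat.card ↥(H ⊓ lc X k) ≤ p * Nat.card ↥(H ⊓ lc X (k + 1)) := by
      have e : H ⊓ lc X (k + 1) = (H ⊓ lc X k) ⊓ lc X (k + 1) := by
        rw [inf_assoc, inf_eq_right.2 (lc_anti (Nat.le_succ k))]
      have hrel : (lc X (k + 1)).relIndex (lc X k) = p := by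
        refine Nat.eq_of_mul_eq_mul_left (Nat.card_pos (α := lc X (k + 1))) ?_
        rw [Grp.card_mul_relIndex (lc_anti (Nat.le_succ k)), card_lc hm h1, card_lc hm (by omega), ← pow_succ]
        congr 1
        omega
      rw [e, ← Grp.relIndex_mul_card_inf (H ⊓ lc X k) (lc X (k + 1)), mul_comm]
      refine Nat.mul_le_mul_right _ ?_
      rw [← hrel]
      exact Subgroup.relIndex_le_of_le_right inf_le_right (by rw [hrel]; exact hp.out.pos.ne')
    calc Nat.card ↥(H ⊓ lc X k) ≤ p * Nat.card ↥(H ⊓ lc X (k + 1)) := hup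
      _ ≤ p * (p ^ (p - 1) * Nat.card B) := Nat.mul_le_mul_left _ ih'
      _ = p ^ (p - 1) * (p * Nat.card B) := by ring
      _ ≤ _ := Nat.mul_le_mul_left _ hlt

theorem card_le (hm : MaxCl X p n) (H : Subgroup X) :
    Nat.card H ≤ p ^ p * Nat.card (agemo p H) := by
  have h2 := hp.out.two_le
  by_cases hsmall : n ≤ p
  · refine (Subgroup.card_le_card_group H).trans ?_
    rw [hm.card]
    exact (Nat.pow_le_pow_right hp.out.pos hsmall).trans (Nat.le_mul_of_pos_right _ Nat.card_pos)
  push Not at hsmall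
  haveI : Nontrivial X := Finite.one_lt_card_iff_nontrivial.1
    (by rw [hm.card]; exact Nat.one_lt_pow (by omega) hp.out.one_lt)
  obtain ⟨x, -, hx⟩ := exists_uniform_outside n hm ⊥ bot_ne_top
  have h1 := layers hm hx H n 1 le_rfl (by omega)
  rw [show 1 + (p - 1) = p by omega] at h1
  have hidx : (lc X 1).index = p ^ 2 := lc_index hm le_rfl (by omega)
  have hA := Grp.relIndex_mul_card_inf H (lc X 1)
  by_cases hH : H = ⊤
  · subst hH
    obtain ⟨g, hg⟩ := exists_pow_not_mem hm hsmall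
    set A := agemo p (⊤ : Subgroup X)
    set B := A ⊓ lc X p
    have hlt : p * Nat.card B ≤ Nat.card A := by
      obtain ⟨i, -, hi⟩ := (Nat.dvd_prime_pow hp.out).1 (hm.card ▸ A.card_subgroup_dvd_card)
      obtain ⟨j, -, hj⟩ := (Nat.dvd_prime_pow hp.out).1 (hm.card ▸ B.card_subgroup_dvd_card)
      have hgA : g ^ p ∈ A := Subgroup.subset_closure ⟨g, Subgroup.mem_top g, rfl⟩
      have hcard : Nat.card B < Nat.card A := lt_of_le_of_ne (Subgroup.card_le_of_le inf_le_left)
        fun e => hg ((Subgroup.eq_of_le_of_card_ge (inf_le_left : B ≤ A) e.ge).ge hgA).2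
      rw [hi, hj, Nat.pow_lt_pow_iff_right hp.out.one_lt] at hcard
      rw [hi, hj, ← pow_succ']
      exact Nat.pow_le_pow_right hp.out.pos hcard
    rw [Subgroup.relIndex_top_right, hidx] at hA
    calc Nat.card (⊤ : Subgroup X) = Nat.card ↥((⊤ : Subgroup X) ⊓ lc X 1) * p ^ 2 := hA.symm
      _ ≤ p ^ (p - 1) * Nat.card B * p ^ 2 := Nat.mul_le_mul_right _ h1
      _ = p ^ (p - 1 + 1) * (p * Nat.card B) := by ring
      _ ≤ _ := by rw [Nat.sub_add_cancel (by omega)]; exact Nat.mul_le_mul_left _ hlt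
  · have hrel : (lc X 1).relIndex H ≤ p := by
      have hd : (lc X 1).relIndex H ∣ p ^ 2 := hidx ▸ Subgroup.relIndex_dvd_index_of_normal (lc X 1) H
      obtain ⟨i, hi2, hi⟩ := (Nat.dvd_prime_pow hp.out).1 hd
      rw [hi]
      refine (Nat.pow_le_pow_right hp.out.pos (?_ : i ≤ 1)).trans (pow_one p).le
      by_contra hlt
      refine hH (Fus.MC.lc_one_le_of_sup ?_ (IsPGroup.of_card hm.card))
      refine Subgroup.eq_top_of_card_eq _ ?_
      have h3 := Grp.card_sup_mul_card_inf_normal (H := H) (N := lc X 1)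
      have hi' : i = 2 := by omega
      subst hi'
      rw [sup_comm]
      refine Nat.eq_of_mul_eq_mul_right (Nat.card_pos (α := ↥(H ⊓ lc X 1))) ?_
      rw [h3, ← (lc X 1).card_mul_index, hidx, ← hA, hi]
      ring
    calc Nat.card H = Nat.card ↥(H ⊓ lc X 1) * (lc X 1).relIndex H := hA.symm
      _ ≤ p ^ (p - 1) * Nat.card ↥(agemo p H ⊓ lc X p) * p := Nat.mul_le_mul h1 hrel
      _ = p ^ (p - 1 + 1) * Nat.card ↥(agemo p H ⊓ lc X p) := by ring
      _ ≤ _ := by
        rw [Nat.sub_add_cancel (by omega)]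
        exact Nat.mul_le_mul_left _ (Subgroup.card_le_of_le inf_le_left)

end

/-- Let X be a finite p-group of order p^n, n ≥ 2, of nilpotency class n − 1 (maximal class), and H any subgroup of X. Then the index in H of the subgroup generated by the p-th powers of elements of H is at most p^p. -/
theorem result {X : Type*} [Group X] [Finite X] {p : ℕ} [Fact p.Prime] (n : ℕ) (hn : 2 ≤ n) (hX : Nat.card X = p ^ n)
    (hmax : Group.nilpotencyClass X = n - 1) (H : Subgroup X) :
    (Subgroup.closure {y : X | ∃ h ∈ H, y = h ^ p}).relIndex H ≤ p ^ p := by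

  have hp := (Fact.out : p.Prime)
  have h2 := hp.two_le
  set A := Subgroup.closure {y : X | ∃ h ∈ H, y = h ^ p}
  have hAH : A ≤ H := Subgroup.closure_le _ |>.2 (by rintro _ ⟨h, hh, rfl⟩; exact H.pow_mem hh p)
  have hle : Nat.card H ≤ p ^ p * Nat.card A := by
    rcases (show n = 2 ∨ 3 ≤ n by omega) with rfl | h3
    · refine (Subgroup.card_le_card_group H).trans ?_
      rw [hX]
      exact (Nat.pow_le_pow_right hp.pos h2).trans (Nat.le_mul_of_pos_right _ Nat.card_pos)
    · exact card_le ⟨hX, h3, hmax⟩ H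
  rw [← Grp.card_mul_relIndex hAH, mul_comm (p ^ p)] at hle
  exact Nat.le_of_mul_le_mul_left hle Nat.card_pos

end Cfsg.Agent.S4144
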