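import Cfsg.Statements.S4145
import Cfsg.Agent.Lib.Grp.Cores
import Cfsg.Agent.Lib.Grp.PComponents
import Cfsg.Agent.Lib.Transfer.NormalComplement

set_option maxHeartbeats 1000000
set_option maxRecDepth 8000

set_option autoImplicit false
open Cfsg
open scoped Pointwise

namespace Cfsg.Agent.S4145

/-- Burnside's criterion for an abelian Sylow subgroup on which its normalizer acts by powers `≡ 1 (mod p)`. -/
theorem npc_of_powers {X : Type*} [Group X] [Finite X] {p : ℕ} [hp : Fact p.Prime] (P : Sylow p X)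
    (hab : ∀ a ∈ (P : Subgroup X), ∀ b ∈ (P : Subgroup X), a * b = b * a)
    (h : ∀ x ∈ Subgroup.normalizer ((P : Subgroup X) : Set X), ∃ r : ℤ, (p : ℤ) ∣ r - 1 ∧
      ∀ q ∈ (P : Subgroup X), x * q * x⁻¹ = q ^ r) : Cfsg.HasNormalPComplement p X := by
  classical
  have hle : Subgroup.normalizer ((P : Subgroup X) : Set X) ≤ Subgroup.centralizer ((P : Subgroup X) : Set X) := by
    set N := Subgroup.normalizer ((P : Subgroup X) : Set X) with hN
    set C := Subgroup.centralizer ((P : Subgroup X) : Set X) with hC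
    have hCn : (C.subgroupOf N).Normal := by
      rw [Subgroup.normal_subgroupOf_iff (Subgroup.centralizer_le_normalizer _)]
      intro c n hc hn
      refine Subgroup.mem_centralizer_iff.2 fun q hq => ?_
      have hq' : n⁻¹ * q * n ∈ (P : Subgroup X) := by
        simpa using (Subgroup.mem_normalizer_iff.1 (N.inv_mem hn) q).1 hq
      have h1 := Subgroup.mem_centralizer_iff.1 hc _ hq'
      calc q * (n * c * n⁻¹) = n * ((n⁻¹ * q * n) * c) * n⁻¹ := by group
        _ = n * (c * (n⁻¹ * q * n)) * n⁻¹ := by rw [h1]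
        _ = n * c * n⁻¹ * q := by group
    have hPC : (P : Subgroup X) ≤ C := fun a ha => Subgroup.mem_centralizer_iff.2 fun b hb => hab b hb a ha
    obtain ⟨t, ht⟩ := IsPGroup.iff_card.1 P.2
    intro x hx
    obtain ⟨r, hr, hrq⟩ := h x hx
    have hpow : ∀ m : ℕ, ∀ q ∈ (P : Subgroup X), x ^ m * q * (x ^ m)⁻¹ = q ^ r ^ m := fun m => by
      induction m with
      | zero => intro q _; simp
      | succ m ih =>
        intro q hq
        rw [pow_succ', mul_inv_rev, show x * x ^ m * q * ((x ^ m)⁻¹ * x⁻¹) = x * (x ^ m * q * (x ^ m)⁻¹) * x⁻¹ by group,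
          ih q hq, hrq _ ((P : Subgroup X).zpow_mem hq _), pow_succ, zpow_mul]
    have hxt : x ^ p ^ t ∈ C := Subgroup.mem_centralizer_iff.2 fun q hq => by
      have h1 : ((p : ℤ) ^ (t + 1)) ∣ r ^ p ^ t - 1 := by
        have := dvd_sub_pow_of_dvd_sub (R := ℤ) (p := p) (a := r) (b := 1) hr t
        rwa [one_pow] at this
      have h2 : q ^ (r ^ p ^ t - 1) = 1 := by
        rw [← orderOf_dvd_iff_zpow_eq_one]
        refine dvd_trans ?_ h1
        have h3 : orderOf q ∣ p ^ t := ht ▸ (P : Subgroup X).orderOf_dvd_natCard hq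
        exact (Int.natCast_dvd_natCast.2 (h3.trans (pow_dvd_pow p t.le_succ))).trans (by push_cast; rfl)
      rw [zpow_sub, zpow_one, mul_inv_eq_one, ← hpow _ q hq, mul_inv_eq_iff_eq_mul] at h2
      exact h2.symm
    let f := QuotientGroup.mk' (C.subgroupOf N)
    have h4 : orderOf (f ⟨x, hx⟩) ∣ p ^ t := orderOf_dvd_of_pow_eq_one (by
      rw [← map_pow]; exact (QuotientGroup.eq_one_iff _).2 (by simpa [Subgroup.mem_subgroupOf] using hxt))
    have h5 : orderOf (f ⟨x, hx⟩) ∣ C.relIndex N := orderOf_dvd_natCard _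
    have h6 : C.relIndex N ∣ (P : Subgroup X).index :=
      (Subgroup.relIndex_dvd_of_le_left N hPC).trans (Subgroup.relIndex_dvd_index_of_le Subgroup.le_normalizer)
    have h7 := orderOf_eq_one_iff.1 (Nat.eq_one_of_dvd_coprimes
      ((hp.out.coprime_iff_not_dvd.2 P.not_dvd_index).pow_left t) h4 (h5.trans h6))
    simpa [Subgroup.mem_subgroupOf] using (QuotientGroup.eq_one_iff _).1 h7
  exact ⟨P, _, MonoidHom.normal_ker _, MonoidHom.ker_transferSylow_isComplement' P hle⟩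


/-- Let G be a finite group with a cyclic Sylow p-subgroup and H a normal subgroup such that p divides both the order of H and the index of H. Then H has a normal p-complement and G is p-solvable. -/
theorem result {G : Type*} [Group G] [Finite G] (p : ℕ) [Fact p.Prime]
    (P : Sylow p G) (hP : IsCyclic (P : Subgroup G)) (H : Subgroup G) [H.Normal] (h1 : p ∣ Nat.card H) (h2 : p ∣ H.index) :
    Cfsg.HasNormalPComplement p H ∧ Cfsg.IsPSolvable p G := by

  classical
  have hp : p.Prime := Fact.out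
  obtain ⟨g, hg⟩ := (Subgroup.isCyclic_iff_exists_zpowers_eq_top _).1 hP
  have hPab : ∀ a ∈ (P : Subgroup G), ∀ b ∈ (P : Subgroup G), a * b = b * a := fun a ha b hb => by
    rw [← hg] at ha hb
    obtain ⟨i, rfl⟩ := ha; obtain ⟨j, rfl⟩ := hb
    exact ((Commute.refl g).zpow_zpow i j).eq
  -- part 1
  let Q : Sylow p H := (P.2.comap_subtype (K := H)).toSylow (Cfsg.Agent.Grp.sylow_inf_normal_relIndex P H)
  have hQc : ∀ q : H, q ∈ (Q : Subgroup H) ↔ (q : G) ∈ (P : Subgroup G) := fun q => Iff.rfl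
  have hH : Cfsg.HasNormalPComplement p H := by
    refine npc_of_powers Q (fun a ha b hb => Subtype.ext (hPab _ ((hQc a).1 ha) _ ((hQc b).1 hb))) fun x hx => ?_
    set CQ := Subgroup.centralizer (((P : Subgroup G) ⊓ H : Subgroup G) : Set G) with hCQ
    have hxn : ∀ q ∈ (P : Subgroup G) ⊓ H, (x : G) * q * (x : G)⁻¹ ∈ (P : Subgroup G) ⊓ H ∧
        (x : G)⁻¹ * q * (x : G) ∈ (P : Subgroup G) ⊓ H := fun q hq =>
      ⟨⟨(hQc _).1 ((Subgroup.mem_normalizer_iff.1 hx ⟨q, hq.2⟩).1 ((hQc _).2 hq.1)),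
        H.mul_mem (H.mul_mem x.2 hq.2) (H.inv_mem x.2)⟩,
       ⟨by
        have := (hQc _).1 ((Subgroup.mem_normalizer_iff.1 ((Subgroup.normalizer _).inv_mem hx) ⟨q, hq.2⟩).1
          ((hQc _).2 hq.1))
        simp only [Subgroup.coe_mul, Subgroup.coe_inv, inv_inv] at this
        exact this, H.mul_mem (H.mul_mem (H.inv_mem x.2) hq.2) x.2⟩⟩
    set CH := CQ ⊓ H with hCH
    have hPCH : (P : Subgroup G) ≤ Subgroup.normalizer (CH : Set G) := fun a ha => Subgroup.mem_normalizer_iff.2 fun c => by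
      have haC : a ∈ CQ := Subgroup.mem_centralizer_iff.2 fun q hq => hPab q hq.1 a ha
      constructor
      · exact fun hc => ⟨CQ.mul_mem (CQ.mul_mem haC hc.1) (CQ.inv_mem haC), Subgroup.Normal.conj_mem inferInstance c hc.2 a⟩
      · intro hc
        have h := (⟨CQ.mul_mem (CQ.mul_mem (CQ.inv_mem haC) hc.1) haC,
          Subgroup.Normal.conj_mem' inferInstance _ hc.2 a⟩ : a⁻¹ * (a * c * a⁻¹) * a ∈ CH)
        simpa [hCH, Subgroup.mem_inf, mul_assoc] using h
    set K := CH ⊔ (P : Subgroup G) with hKdef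
    have hxP : ((MulAut.conj (x : G)) • P : Sylow p G).toSubgroup ≤ K := by
      rintro _ ⟨a, ha, rfl⟩
      have haC : ∀ q ∈ (P : Subgroup G) ⊓ H, a * q = q * a := fun q hq => hPab a ha q hq.1
      have h1 : (x : G) * a * (x : G)⁻¹ * a⁻¹ ∈ CH := by
        refine ⟨Subgroup.mem_centralizer_iff.2 fun q hq => ?_, ?_⟩
        · have h3 : q * ((x : G) * a * (x : G)⁻¹) = ((x : G) * a * (x : G)⁻¹) * q := by
            calc q * ((x : G) * a * (x : G)⁻¹) = (x : G) * (((x : G)⁻¹ * q * (x : G)) * a) * (x : G)⁻¹ := by group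
              _ = (x : G) * (a * ((x : G)⁻¹ * q * (x : G))) * (x : G)⁻¹ := by rw [haC _ (hxn q hq).2]
              _ = ((x : G) * a * (x : G)⁻¹) * q := by group
          calc q * ((x : G) * a * (x : G)⁻¹ * a⁻¹) = (x : G) * a * (x : G)⁻¹ * (q * a⁻¹) := by
                rw [← mul_assoc, h3, mul_assoc]
            _ = (x : G) * a * (x : G)⁻¹ * (a⁻¹ * q) := by rw [(Commute.inv_left (haC q hq)).eq]
            _ = (x : G) * a * (x : G)⁻¹ * a⁻¹ * q := by group
        · rw [mul_assoc, mul_assoc, ← mul_assoc a]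
          exact H.mul_mem x.2 (Subgroup.Normal.conj_mem inferInstance _ (H.inv_mem x.2) a)
      have := K.mul_mem (Subgroup.mem_sup_left h1) (Subgroup.mem_sup_right ha : a ∈ K)
      rw [inv_mul_cancel_right] at this
      simpa [MulAut.conj_apply, MulDistribMulAction.toMonoidEnd_apply] using this
    obtain ⟨⟨k, hkK⟩, hk⟩ := MulAction.exists_smul_eq K (((MulAut.conj (x : G)) • P).subtype hxP) (P.subtype le_sup_right)
    have hmem : k ∈ ((P : Subgroup G) : Set G) * (CH : Set G) := by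
      rw [← Subgroup.coe_mul_of_left_le_normalizer_right _ _ hPCH, sup_comm]; exact hkK
    obtain ⟨a, ha, c, hc, rfl⟩ := Set.mem_mul.1 hmem
    set n := c * (x : G) with hn
    have hnP : ∀ b ∈ (P : Subgroup G), n * b * n⁻¹ ∈ (P : Subgroup G) := by
      intro b hb
      have hb' : (x : G) * b * (x : G)⁻¹ ∈ ((MulAut.conj (x : G)) • P : Sylow p G).toSubgroup := ⟨b, hb, rfl⟩
      have h2 : (⟨a * c, hkK⟩ : K) * ⟨_, hxP hb'⟩ * (⟨a * c, hkK⟩ : K)⁻¹ ∈ (P.subtype le_sup_right : Sylow p K).toSubgroup := by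
        rw [← hk]; exact ⟨⟨_, hxP hb'⟩, hb', rfl⟩
      have h3 : a * c * ((x : G) * b * (x : G)⁻¹) * (a * c)⁻¹ ∈ (P : Subgroup G) := h2
      have h4 := (P : Subgroup G).mul_mem ((P : Subgroup G).mul_mem ((P : Subgroup G).inv_mem ha) h3) ha
      simpa [hn, mul_assoc] using h4
    obtain ⟨r, hr⟩ := (hg.symm ▸ hnP g (hg ▸ Subgroup.mem_zpowers g) : n * g * n⁻¹ ∈ Subgroup.zpowers g)
    simp only at hr
    have hgP : g ∈ (P : Subgroup G) := hg ▸ Subgroup.mem_zpowers g
    refine ⟨r, ?_, fun q hq => Subtype.ext ?_⟩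
    · by_contra hcon
      apply P.not_dvd_index
      refine h2.trans (Subgroup.index_dvd_of_le ?_)
      have hgr : g ^ (r - 1) ∈ H := by
        rw [zpow_sub, zpow_one, hr, show n * g * n⁻¹ * g⁻¹ = n * (g * n⁻¹ * g⁻¹) by group]
        exact H.mul_mem (H.mul_mem hc.2 x.2)
          (Subgroup.Normal.conj_mem inferInstance _ (H.inv_mem (H.mul_mem hc.2 x.2)) g)
      obtain ⟨j, hj⟩ := IsPGroup.iff_orderOf.1 P.2 ⟨g, hgP⟩
      rw [Subgroup.orderOf_mk] at hj
      have hco : IsCoprime (r - 1) ((p : ℤ) ^ j) :=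
        ((Nat.prime_iff_prime_int.1 hp).coprime_iff_not_dvd.2 hcon).symm.pow_right
      obtain ⟨u, v, huv⟩ := hco
      rw [← hg, Subgroup.zpowers_le]
      have h6 : g = (g ^ (r - 1)) ^ u := by
        conv_lhs => rw [← zpow_one g, ← huv, zpow_add, mul_comm u, zpow_mul, mul_comm v, zpow_mul]
        rw [show g ^ ((p : ℤ) ^ j) = 1 by rw [← Nat.cast_pow, zpow_natCast, ← hj, pow_orderOf_eq_one],
          one_zpow, mul_one]
      rw [h6]
      exact H.zpow_mem hgr u
    · rw [Subgroup.coe_mul, Subgroup.coe_mul, Subgroup.coe_inv, Subgroup.coe_zpow]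
      obtain ⟨i, hi⟩ := (hg.symm ▸ (hQc q).1 hq : (q : G) ∈ Subgroup.zpowers g)
      simp only at hi
      have h7 : c * ((x : G) * q * (x : G)⁻¹) * c⁻¹ = (x : G) * q * (x : G)⁻¹ := by
        rw [← Subgroup.mem_centralizer_iff.1 hc.1 _ (hxn q ⟨(hQc q).1 hq, q.2⟩).1, mul_inv_cancel_right]
      calc (x : G) * q * (x : G)⁻¹ = n * q * n⁻¹ := by rw [← h7, hn]; group
        _ = (n * g * n⁻¹) ^ i := by rw [← hi]; exact (map_zpow (MulAut.conj n).toMonoidHom g i)
        _ = (q : G) ^ r := by rw [← hr, ← zpow_mul, mul_comm, zpow_mul, hi]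
  refine ⟨hH, ?_⟩
  -- part 2
  haveI hKn : (Cfsg.pPrimeCore p G).Normal := Cfsg.Agent.Grp.pPrimeCore_isNormal
  set K := Cfsg.pPrimeCore p G with hK
  set f := QuotientGroup.mk' K with hf
  have hfs : Function.Surjective f := QuotientGroup.mk'_surjective K
  haveI hbn : (H.map f).Normal := Subgroup.Normal.map inferInstance f hfs
  obtain ⟨N, hNn, hNd, k, hNk⟩ := Cfsg.Agent.Transfer.hasNormalPComplement_iff_exists.1 hH
  have hNK : N ≤ (K ⊓ H).subgroupOf H := by
    intro x hx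
    refine Subgroup.mem_subgroupOf.2 ?_
    rw [← Cfsg.Agent.Grp.pPrimeCore_map_eq]
    exact ⟨x, Cfsg.Agent.Grp.le_pPrimeCore hNn (hp.coprime_iff_not_dvd.2 hNd).symm hx, rfl⟩
  have hbp : IsPGroup p (H.map f) := by
    obtain ⟨j, -, hj⟩ := (Nat.dvd_prime_pow hp).1 (hNk ▸ Subgroup.index_dvd_of_le hNK)
    have h8 : Nat.card (H.map f) = ((K ⊓ H).subgroupOf H).index := by
      rw [show H.map f = (f.domRestrict H).range from (f.domRestrict_range H).symm, ← Subgroup.index_ker]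
      congr 1
      ext x
      simp [f, Subgroup.mem_subgroupOf, MonoidHom.mem_ker, QuotientGroup.eq_one_iff]
    exact IsPGroup.of_card (h8.trans hj)
  have hbne : Nontrivial (H.map f) := by
    rw [Subgroup.nontrivial_iff_ne_bot, Ne, Subgroup.map_eq_bot_iff, hf, QuotientGroup.ker_mk']
    exact fun hle => Cfsg.Agent.Grp.pPrimeCore_not_dvd (h1.trans (Subgroup.card_dvd_of_le hle))
  let Pb : Sylow p (G ⧸ K) := P.mapSurjective hfs
  set gb := f g with hgb
  have hPb : ∀ a ∈ (Pb : Subgroup (G ⧸ K)), ∃ i : ℤ, gb ^ i = a := by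
    rintro _ ⟨a, ha, rfl⟩
    rw [← hg] at ha
    obtain ⟨i, rfl⟩ := ha
    exact ⟨i, (map_zpow f g i).symm⟩
  have hbP : H.map f ≤ (Pb : Subgroup (G ⧸ K)) :=
    (Cfsg.Agent.Grp.le_pCore hbn hbp).trans (Cfsg.Agent.Grp.pCore_le_sylow Pb)
  set C := Subgroup.centralizer ((H.map f : Subgroup (G ⧸ K)) : Set (G ⧸ K)) with hC
  haveI hCn : C.Normal := Subgroup.normal_centralizer
  have hPbab : ∀ a ∈ (Pb : Subgroup (G ⧸ K)), ∀ b ∈ (Pb : Subgroup (G ⧸ K)), a * b = b * a := by
    intro a ha b hb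
    obtain ⟨i, rfl⟩ := hPb a ha
    obtain ⟨j, rfl⟩ := hPb b hb
    exact ((Commute.refl gb).zpow_zpow i j).eq
  have hPC : (Pb : Subgroup (G ⧸ K)) ≤ C := fun a ha =>
    Subgroup.mem_centralizer_iff.2 fun b hb => hPbab b (hbP hb) a ha
  have hCnpc : Cfsg.HasNormalPComplement p C := by
    refine npc_of_powers (Pb.subtype hPC) (fun a ha b hb => Subtype.ext (hPbab _ ha _ hb)) fun x hx => ?_
    have hgbP : gb ∈ (Pb : Subgroup (G ⧸ K)) := ⟨g, hg ▸ Subgroup.mem_zpowers g, rfl⟩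
    obtain ⟨r, hr⟩ := hPb _ ((Subgroup.mem_normalizer_iff.1 hx ⟨gb, hPC hgbP⟩).1 hgbP)
    have hconj : ∀ a ∈ (Pb : Subgroup (G ⧸ K)), (x : G ⧸ K) * a * (x : G ⧸ K)⁻¹ = a ^ r := by
      intro a ha
      obtain ⟨i, rfl⟩ := hPb a ha
      rw [← zpow_mul, mul_comm, zpow_mul, hr]
      exact (map_zpow (MulAut.conj (x : G ⧸ K)).toMonoidHom gb i)
    refine ⟨r, ?_, fun q hq => Subtype.ext (by simpa using hconj q hq)⟩
    obtain ⟨⟨b, hb⟩, hne⟩ := exists_ne (1 : H.map f)
    have h9 : b ^ (r - 1) = 1 := by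
      rw [zpow_sub, zpow_one, ← hconj b (hbP hb), ← Subgroup.mem_centralizer_iff.1 x.2 b hb]
      group
    refine dvd_trans ?_ (orderOf_dvd_iff_zpow_eq_one.2 h9)
    obtain ⟨j, hj⟩ := IsPGroup.iff_orderOf.1 hbp ⟨b, hb⟩
    rw [Subgroup.orderOf_mk] at hj
    refine Int.natCast_dvd_natCast.2 (hj ▸ dvd_pow_self p ?_)
    rintro rfl
    exact hne (Subtype.ext (orderOf_eq_one_iff.1 (by rw [hj, pow_zero])))
  obtain ⟨M, hMn, hMd, i, hMi⟩ := Cfsg.Agent.Transfer.hasNormalPComplement_iff_exists.1 hCnpc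
  haveI hKbn : (Cfsg.pPrimeCore p (G ⧸ K)).Normal := Cfsg.Agent.Grp.pPrimeCore_isNormal
  set L := Cfsg.pPrimeCore p (G ⧸ K) ⊓ C with hL
  have hLC : L.relIndex C ∣ p ^ i := by
    rw [← hMi]
    refine Subgroup.index_dvd_of_le fun y hy => Subgroup.mem_subgroupOf.2 ?_
    rw [hL, ← Cfsg.Agent.Grp.pPrimeCore_map_eq]
    exact ⟨y, Cfsg.Agent.Grp.le_pPrimeCore hMn (hp.coprime_iff_not_dvd.2 hMd).symm hy, rfl⟩
  obtain ⟨j, -, hj⟩ := (Nat.dvd_prime_pow hp).1 hLC
  refine ⟨4, ![⊥, K, L.comap f, C.comap f, ⊤], rfl, rfl, ?_, ?_, ?_⟩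
  · refine Fin.monotone_iff_le_succ.2 fun i => ?_
    fin_cases i
    · exact bot_le
    · exact (QuotientGroup.ker_mk' K).ge.trans (MonoidHom.ker_le_comap f L)
    · exact Subgroup.comap_mono inf_le_right
    · exact le_top
  · intro i
    fin_cases i
    · exact Subgroup.normal_bot
    · exact hKn
    · exact Subgroup.Normal.comap inferInstance f
    · exact hCn.comap f
    · exact Subgroup.normal_top
  · intro i
    fin_cases i
    · refine Or.inr ?_
      show ((⊥ : Subgroup G).relIndex K).Coprime p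
      rw [Subgroup.relIndex_bot_left]
      exact Cfsg.Agent.Grp.pPrimeCore_coprime
    · refine Or.inr ?_
      show (K.relIndex (L.comap f)).Coprime p
      rw [show K.relIndex (L.comap f) = f.ker.relIndex (L.comap f) by rw [hf, QuotientGroup.ker_mk'],
        ← MonoidHom.comap_bot, Subgroup.relIndex_comap,
        Subgroup.map_comap_eq_self_of_surjective hfs, Subgroup.relIndex_bot_left]
      exact (Cfsg.Agent.Grp.pPrimeCore_coprime (p := p) (G := G ⧸ K)).coprime_dvd_left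
        (Subgroup.card_dvd_of_le inf_le_left)
    · refine Or.inl ⟨j, ?_⟩
      show (L.comap f).relIndex (C.comap f) = p ^ j
      rw [Subgroup.relIndex_comap, Subgroup.map_comap_eq_self_of_surjective hfs, hj]
    · refine Or.inr ?_
      show ((C.comap f).relIndex ⊤).Coprime p
      rw [Subgroup.relIndex_top_right, Subgroup.index_comap_of_surjective _ hfs]
      exact (hp.coprime_iff_not_dvd.2 fun hd => Pb.not_dvd_index (hd.trans (Subgroup.index_dvd_of_le hPC))).symm

end Cfsg.Agent.S4145
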