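import Cfsg.Statements.S4149
import Cfsg.Agent.Lib.Transfer.NormalComplement
import Cfsg.Agent.Lib.Fus.ClassSizeNilpotent
import Cfsg.Agent.Lib.Grp.Basic

set_option maxHeartbeats 1000000
set_option maxRecDepth 8000

set_option autoImplicit false
open Cfsg

namespace Cfsg.Agent.S4149

section
open Subgroup

/-- For a prime without normal `p`-complement, at most half of the elements have class size prime to `p`. -/
theorem two_mul_card_primeIdxSet_le {G : Type*} [Group G] [Finite G] {p : ℕ} [Fact p.Prime]
    (h : ¬ Cfsg.HasNormalPComplement p G) :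
    2 * (Cfsg.Agent.Fus.primeIdxSet G p).ncard ≤ Nat.card G := by
  classical
  obtain ⟨P⟩ : Nonempty (Sylow p G) := inferInstance
  set C := Subgroup.centralizer ((P : Subgroup G) : Set G) with hC
  set N := Subgroup.normalizer ((P : Subgroup G) : Set G) with hN
  have hCN : C ≤ N := Subgroup.centralizer_le_normalizer _
  have hne : C.relIndex N ≠ 1 := fun h1 => by
    have hle : N ≤ C := relIndex_eq_one.1 h1
    exact h ⟨P, _, inferInstance, MonoidHom.ker_transferSylow_isComplement' P hle⟩
  have h2 : 2 ≤ C.relIndex N := by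
    have : C.relIndex N ≠ 0 := Nat.pos_iff_ne_zero.1 (Nat.pos_of_dvd_of_pos (relIndex_dvd_card C N) Nat.card_pos)
    omega
  have hcard : 2 * (Nat.card C * N.index) ≤ Nat.card G := by
    have h3 : Nat.card C * C.relIndex N = Nat.card N := Cfsg.Agent.Grp.card_mul_relIndex hCN
    rw [← N.card_mul_index, ← h3]
    calc 2 * (Nat.card C * N.index) = Nat.card C * 2 * N.index := by ring
      _ ≤ _ := Nat.mul_le_mul_right _ (Nat.mul_le_mul_left _ h2)
  refine le_trans (Nat.mul_le_mul_left 2 ?_) hcard
  let f : G ⧸ N → Set G := fun q => (fun c => q.out * c * q.out⁻¹) '' (C : Set G)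
  have hsub : Cfsg.Agent.Fus.primeIdxSet G p ⊆ ⋃ q, f q := by
    intro x hx
    obtain ⟨Q, hQ⟩ := Cfsg.Agent.Fus.exists_sylow_of_mem x hx
    obtain ⟨g, hg⟩ := MulAction.exists_smul_eq G P Q
    set q : G ⧸ N := (g : G ⧸ N)
    obtain ⟨n, hn⟩ : ∃ n : N, q.out = g * n := by
      obtain ⟨n, hn⟩ := QuotientGroup.mk_out_eq_mul N g
      exact ⟨n, hn⟩
    refine Set.mem_iUnion.2 ⟨q, q.out⁻¹ * x * q.out, ?_, by group⟩
    rw [SetLike.mem_coe, hC, mem_centralizer_iff]
    intro a ha
    have ha' : q.out * a * q.out⁻¹ ∈ (Q : Subgroup G) := by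
      rw [← hg, Sylow.coe_subgroup_smul, Cfsg.Agent.Grp.mem_smul_conj, hn]
      have := (mem_normalizer_iff.1 n.2 a).1 ha
      simpa [mul_assoc] using this
    have hcomm := mem_centralizer_iff.1 hQ _ ha'
    calc a * (q.out⁻¹ * x * q.out) = q.out⁻¹ * ((q.out * a * q.out⁻¹) * x) * q.out := by group
      _ = q.out⁻¹ * (x * (q.out * a * q.out⁻¹)) * q.out := by rw [hcomm]
      _ = q.out⁻¹ * x * q.out * a := by group
  haveI := Fintype.ofFinite (G ⧸ N)
  calc (Cfsg.Agent.Fus.primeIdxSet G p).ncard ≤ (⋃ q, f q).ncard := Set.ncard_le_ncard hsub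
    _ ≤ ∑ q, (f q).ncard := Set.ncard_iUnion_le_of_fintype f
    _ ≤ ∑ _q : G ⧸ N, Nat.card C := Finset.sum_le_sum fun q _ =>
        (Set.ncard_image_le).trans (Nat.card_coe_set_eq _).ge
    _ = Nat.card C * N.index := by
        rw [Finset.sum_const, Finset.card_univ, smul_eq_mul, Subgroup.index_eq_card,
          Nat.card_eq_fintype_card (α := G ⧸ N), mul_comm]

end

/-- Let G be a finite group that has a normal p-complement for at most one prime p dividing its order, and let σ be a natural number such that every conjugacy class size of G has at most σ distinct prime divisors. Then the number of primes dividing at least one conjugacy class size of G is at most 2σ. -/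
theorem result {G : Type*} [Group G] [Finite G] (σ : ℕ)
    (hσ : ∀ x : G, ((Subgroup.centralizer ({x} : Set G)).index).primeFactors.card ≤ σ)
    (hnil : ∀ p q : ℕ, p.Prime → q.Prime → p ∣ Nat.card G → q ∣ Nat.card G →
      Cfsg.HasNormalPComplement p G → Cfsg.HasNormalPComplement q G → p = q) :
    Nat.card {p : ℕ | p.Prime ∧ ∃ x : G, p ∣ (Subgroup.centralizer ({x} : Set G)).index} ≤ 2 * σ := by

  classical
  haveI := Fintype.ofFinite G
  set A : Finset ℕ := (Nat.card G).primeFactors.filter
    (fun p => ∃ x : G, p ∣ (Subgroup.centralizer ({x} : Set G)).index) with hA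
  have hset : {p : ℕ | p.Prime ∧ ∃ x : G, p ∣ (Subgroup.centralizer ({x} : Set G)).index} = (A : Set ℕ) := by
    ext p
    simp only [hA, Finset.coe_filter, Nat.mem_primeFactors, Set.mem_ofPred_eq]
    refine ⟨fun ⟨hp, x, hx⟩ => ⟨⟨hp, hx.trans (Subgroup.index_dvd_card _), Nat.card_pos.ne'⟩, x, hx⟩,
      fun ⟨⟨hp, _⟩, hx⟩ => ⟨hp, hx⟩⟩
  rw [hset, Nat.card_coe_set_eq, Set.ncard_coe_finset]
  rcases A.eq_empty_or_nonempty with he | ⟨p₀, hp₀⟩
  · simp [he]
  have hσ1 : 1 ≤ σ := by
    obtain ⟨hp, x, hx⟩ := Finset.mem_filter.1 hp₀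
    refine le_trans (Finset.card_pos.2 ⟨p₀, ?_⟩) (hσ x)
    exact Nat.mem_primeFactors.2 ⟨Nat.prime_of_mem_primeFactors hp, hx, Subgroup.index_ne_zero_of_finite⟩
  set T := A.filter (fun p => Cfsg.HasNormalPComplement p G) with hT
  set S := A.filter (fun p => ¬ Cfsg.HasNormalPComplement p G) with hS
  have hsplit : T.card + S.card = A.card := Finset.card_filter_add_card_filter_not _
  have hT1 : T.card ≤ 1 := by
    refine Finset.card_le_one.2 fun p hp q hq => ?_
    obtain ⟨hpA, hpn⟩ := Finset.mem_filter.1 hp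
    obtain ⟨hqA, hqn⟩ := Finset.mem_filter.1 hq
    have hpA' := (Finset.mem_filter.1 hpA).1
    have hqA' := (Finset.mem_filter.1 hqA).1
    exact hnil p q (Nat.prime_of_mem_primeFactors hpA') (Nat.prime_of_mem_primeFactors hqA')
      (Nat.dvd_of_mem_primeFactors hpA') (Nat.dvd_of_mem_primeFactors hqA') hpn hqn
  set B : ℕ → Finset G := fun p => Finset.univ.filter
    (fun g => p ∣ (Subgroup.centralizer ({g} : Set G)).index) with hB
  have hhalf : ∀ p ∈ S, Fintype.card G ≤ 2 * (B p).card := by
    intro p hp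
    obtain ⟨hpA, hpn⟩ := Finset.mem_filter.1 hp
    haveI := Fact.mk (Nat.prime_of_mem_primeFactors (Finset.mem_filter.1 hpA).1)
    have h1 := two_mul_card_primeIdxSet_le hpn
    rw [Nat.card_eq_fintype_card] at h1
    have h2 : (Cfsg.Agent.Fus.primeIdxSet G p).ncard = (Finset.univ \ B p).card := by
      rw [← Set.ncard_coe_finset]
      congr 1
      ext g
      simp [Cfsg.Agent.Fus.primeIdxSet, hB]
    rw [h2, Finset.card_univ_diff] at h1
    omega
  have hsum : ∑ p ∈ S, (B p).card ≤ σ * (Fintype.card G - 1) := by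
    calc ∑ p ∈ S, (B p).card = ∑ p ∈ S, ∑ g : G, (if p ∣ (Subgroup.centralizer ({g} : Set G)).index then 1 else 0) := by
          refine Finset.sum_congr rfl fun p _ => ?_
          rw [hB, Finset.card_filter]
      _ = ∑ g : G, (S.filter fun p => p ∣ (Subgroup.centralizer ({g} : Set G)).index).card := by
          rw [Finset.sum_comm]
          exact Finset.sum_congr rfl fun g _ => (Finset.card_filter _ _).symm
      _ ≤ ∑ g : G, (if g = 1 then 0 else σ) := by
          refine Finset.sum_le_sum fun g _ => ?_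
          by_cases hg : g = 1
          · subst hg
            rw [if_pos rfl, Nat.le_zero, Finset.card_eq_zero, Finset.filter_eq_empty_iff]
            intro p hp hd
            have htop : Subgroup.centralizer ({(1 : G)} : Set G) = ⊤ := by
              simp [Subgroup.centralizer_eq_top_iff_subset]
            rw [htop, Subgroup.index_top, Nat.dvd_one] at hd
            exact (Nat.prime_of_mem_primeFactors (Finset.mem_filter.1 (Finset.mem_filter.1 hp).1).1).ne_one hd
          · rw [if_neg hg]
            refine le_trans (Finset.card_le_card ?_) (hσ g)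
            intro p hp
            obtain ⟨hpS, hd⟩ := Finset.mem_filter.1 hp
            exact Nat.mem_primeFactors.2
              ⟨Nat.prime_of_mem_primeFactors (Finset.mem_filter.1 (Finset.mem_filter.1 hpS).1).1, hd,
                Subgroup.index_ne_zero_of_finite⟩
      _ = σ * (Fintype.card G - 1) := by
          rw [Finset.sum_ite, Finset.sum_const_zero, zero_add, Finset.sum_const, smul_eq_mul,
            Finset.filter_ne', Finset.card_erase_of_mem (Finset.mem_univ _), Finset.card_univ, mul_comm]
  have h3 : S.card * Fintype.card G ≤ ∑ p ∈ S, 2 * (B p).card := by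
    have := Finset.card_nsmul_le_sum S (fun p => 2 * (B p).card) (Fintype.card G) hhalf
    simpa [smul_eq_mul] using this
  rw [← Finset.mul_sum] at h3
  have hG : 0 < Fintype.card G := Fintype.card_pos
  have h4 : S.card * Fintype.card G < 2 * σ * Fintype.card G := by
    calc S.card * Fintype.card G ≤ 2 * (σ * (Fintype.card G - 1)) :=
          h3.trans (Nat.mul_le_mul_left 2 hsum)
      _ = 2 * σ * (Fintype.card G - 1) := by ring
      _ < _ := Nat.mul_lt_mul_of_pos_left (by omega) (by omega)
  have h5 := Nat.lt_of_mul_lt_mul_right h4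
  omega

end Cfsg.Agent.S4149
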