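import Cfsg.Statements.S4150
import Cfsg.Agent.Lib.Transfer.ThreePrimes
import Cfsg.Agent.Lib.Transfer.Thirteen

set_option maxHeartbeats 1000000
set_option maxRecDepth 8000

set_option autoImplicit false
open Cfsg

namespace Cfsg.Agent.S4150

open scoped Pointwise
open Equiv Equiv.Perm MulAction

/-- Two large prime elements generate a primitive group on their joint support. -/
theorem primitive_closure {β : Type} [Fintype β] [DecidableEq β] {x y : Perm β} {p q : ℕ} (hp : p.Prime)
    (hq : q.Prime) (hxo : orderOf x = p) (hyo : orderOf y = q) (hβ2 : Fintype.card β ≤ 2 * p)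
    (hpq : p < q) (hmoved : ∀ z, x z ≠ z ∨ y z ≠ z) :
    y.IsCycle ∧ y.support.card = q ∧ IsPreprimitive ↥(Subgroup.closure ({x, y} : Set (Perm β))) β := by
  classical
  set G := Subgroup.closure ({x, y} : Set (Perm β))
  have hxG : x ∈ G := Subgroup.subset_closure (by simp)
  have hyG : y ∈ G := Subgroup.subset_closure (by simp)
  have hyc : y.IsCycle := isCycle_of_prime_order' (hyo ▸ hq) (by omega)
  have hys : y.support.card = q := hyc.orderOf.symm.trans hyo
  obtain ⟨a, ha⟩ := hyc.nonempty_support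
  have hQ : ∀ t ∈ y.support, ∃ g : G, g • a = t := by
    intro t ht
    obtain ⟨i, hi⟩ := hyc.sameCycle (Equiv.Perm.mem_support.mp ha) (Equiv.Perm.mem_support.mp ht)
    exact ⟨⟨y ^ i, zpow_mem hyG i⟩, hi⟩
  -- every point is connected to the support of `y`
  have hreach : ∀ z : β, ∃ g : G, g • a = z := by
    intro z
    by_cases hz : z ∈ y.support
    · exact hQ z hz
    have hxz : x z ≠ z := (hmoved z).resolve_right (fun h => hz (Equiv.Perm.mem_support.mpr h))
    obtain ⟨k, hk⟩ : ∃ k : ℕ, (x ^ k) z ∈ y.support := by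
      by_contra! hno
      have hc : (x.cycleOf z).support.card = p := by
        obtain ⟨j, hj⟩ := Equiv.Perm.cycleType_prime_order (σ := x) (hxo ▸ hp)
        refine (Multiset.eq_of_mem_replicate (a := orderOf x) (n := j + 1) ?_).trans hxo
        rw [← hj, Equiv.Perm.cycleType_def, Multiset.mem_map]
        exact ⟨x.cycleOf z, Equiv.Perm.cycleOf_mem_cycleFactorsFinset_iff.mpr
          (Equiv.Perm.mem_support.mpr hxz), rfl⟩
      have hdis : Disjoint (x.cycleOf z).support y.support := Finset.disjoint_left.mpr fun t ht hty => by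
        rw [Equiv.Perm.mem_support_cycleOf_iff' hxz] at ht
        obtain ⟨k, -, hk⟩ := ht.exists_pow_eq'
        exact hno k (hk ▸ hty)
      have := Finset.card_le_univ ((x.cycleOf z).support ∪ y.support)
      rw [Finset.card_union_of_disjoint hdis, hc, hys] at this
      omega
    obtain ⟨g, hg⟩ := hQ _ hk
    refine ⟨⟨(x ^ k)⁻¹, inv_mem (pow_mem hxG k)⟩ * g, ?_⟩
    rw [mul_smul, hg]
    show (x ^ k)⁻¹ ((x ^ k) z) = z
    rw [Equiv.Perm.inv_def, Equiv.symm_apply_apply]
  haveI htrans : IsPretransitive G β := ⟨fun u v => by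
    obtain ⟨g, rfl⟩ := hreach u
    obtain ⟨h, rfl⟩ := hreach v
    exact ⟨h * g⁻¹, by rw [mul_smul, inv_smul_smul]⟩⟩
  refine ⟨hyc, hys, IsPreprimitive.of_isTrivialBlock_base a fun {B} haB hB => ?_⟩
  by_contra hnt
  rw [MulAction.IsTrivialBlock, not_or] at hnt
  obtain ⟨hns, hnu⟩ := hnt
  set Y : G := ⟨y, hyG⟩
  have hBf : B.Finite := Set.toFinite _
  have hB2 : 2 ≤ B.ncard := by
    rw [Set.not_subsingleton_iff] at hns
    exact (Set.one_lt_ncard_iff_nontrivial).mpr hns
  have hdvd : B.ncard ∣ Fintype.card β := by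
    rw [← Nat.card_eq_fintype_card]
    exact hB.ncard_dvd_card ⟨a, haB⟩
  have hlt : B.ncard < Fintype.card β := by
    rw [← Nat.card_eq_fintype_card]
    exact Set.ncard_lt_card hnu
  obtain ⟨t, ht⟩ := hdvd
  have ht2 : 2 ≤ t := by
    by_contra h
    interval_cases t <;> omega
  have hfix : Y • B = B := by
    by_contra hne
    -- the translates of `B` by powers of `y` are disjoint
    have hpd : ∀ i : ℕ, i < q → i ≠ 0 → (Y ^ i) • B ≠ B := by
      intro i hi hi0 he
      obtain ⟨m, hm⟩ := exists_pow_eq_self_of_coprime (x := Y) (n := i) (by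
        rw [← Subgroup.orderOf_coe, show orderOf ((Y : G) : Perm β) = q from hyo]
        exact ((hq.coprime_iff_not_dvd).mpr fun h => by
          have := Nat.le_of_dvd (by omega) h
          omega).symm)
      apply hne
      rw [← hm]
      exact MulAction.mem_stabilizer_iff.mp (pow_mem (MulAction.mem_stabilizer_iff.mpr he) m)
    have hdisj : ∀ i j : ℕ, i < j → j < q → Disjoint ((Y ^ i) • B) ((Y ^ j) • B) := by
      intro i j hij hj
      refine hB fun he => hpd (j - i) (by omega) (by omega) ?_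
      calc (Y ^ (j - i)) • B = (Y ^ i)⁻¹ • (Y ^ j) • B := by
            rw [← mul_smul]; congr 1
            rw [eq_inv_mul_iff_mul_eq, ← pow_add]; congr 1; omega
        _ = B := by rw [← he, inv_smul_smul]
    have key : ∀ j : ℕ, j ≤ q → (⋃ i ∈ Finset.range j, (Y ^ i) • B).ncard = j * B.ncard := by
      intro j
      induction j with
      | zero => simp
      | succ j ih =>
        intro hj
        rw [Finset.range_add_one, Finset.set_biUnion_insert, Set.ncard_union_eq ?_ (Set.toFinite _) (Set.toFinite _),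
          ih (by omega), Set.ncard_smul_set]
        · ring
        · rw [Set.disjoint_iUnion₂_right]
          exact fun i hi => (hdisj i j (Finset.mem_range.mp hi) (by omega)).symm
    have h1 := key q le_rfl
    have h2 : (⋃ i ∈ Finset.range q, (Y ^ i) • B).ncard ≤ Fintype.card β := by
      rw [← Nat.card_eq_fintype_card]; exact Set.ncard_le_card _
    nlinarith
  have hsub : (y.support : Set β) ⊆ B := by
    intro u hu
    obtain ⟨i, hi⟩ := hyc.sameCycle (Equiv.Perm.mem_support.mp ha) (Equiv.Perm.mem_support.mp hu)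
    have : (Y ^ i) • B = B :=
      MulAction.mem_stabilizer_iff.mp (zpow_mem (MulAction.mem_stabilizer_iff.mpr hfix) i)
    rw [← this]
    exact ⟨a, haB, hi⟩
  have := Set.ncard_le_ncard hsub hBf
  rw [Set.ncard_coe_finset, hys] at this
  nlinarith

/-- The core: two elements of orders `p` and `q`. -/
theorem core {β : Type} [Fintype β] [DecidableEq β] {x y : Perm β} {p q m : ℕ} (hp : p.Prime)
    (hq : q.Prime) (hxe : sign x = 1) (hye : sign y = 1) (hxo : orderOf x = p) (hyo : orderOf y = q)
    (hβm : Fintype.card β ≤ m) (hmoved : ∀ z, x z ≠ z ∨ y z ≠ z)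
    (hcase : Agent.Transfer.ThreePrimes.Pair m p q ∨ (p = 3 ∧ q = 5 ∧ m ≤ 6) ∨
      (p = 5 ∧ q = 7 ∧ m ≤ 10) ∨ (p = 11 ∧ q = 13 ∧ m ≤ 16)) :
    ∃ d : ℕ, 5 ≤ d ∧ Nonempty (↥(Subgroup.closure ({x, y} : Set (Perm β))) ≃* alternatingGroup (Fin d)) := by
  classical
  have hm2 : m ≤ 2 * p ∧ p < q := by
    rcases hcase with h | h | h | h
    · exact ⟨h.2.2.1, by have := h.2.2.2.1; omega⟩
    all_goals omega
  obtain ⟨hyc, hys, hprim⟩ := primitive_closure hp hq hxo hyo (hβm.trans hm2.1) hm2.2 hmoved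
  set G := Subgroup.closure ({x, y} : Set (Perm β))
  have hxG : x ∈ G := Subgroup.subset_closure (by simp)
  have hyG : y ∈ G := Subgroup.subset_closure (by simp)
  have hle : G ≤ alternatingGroup β := by
    rw [Subgroup.closure_le]
    rintro z (rfl | rfl)
    · exact hxe
    · exact hye
  have hqβ : q ≤ Fintype.card β := hys ▸ Finset.card_le_univ _
  have fin : alternatingGroup β ≤ G → ∃ d : ℕ, 5 ≤ d ∧ Nonempty (G ≃* alternatingGroup (Fin d)) := fun h =>
    ⟨Fintype.card β, by have := hp.two_le; rcases hcase with hc | hc | hc | hc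
                        · have := hc.2.2.2.1; omega
                        all_goals omega,
      ⟨(MulEquiv.subgroupCongr (le_antisymm hle h)).trans (Equiv.altCongrHom (Fintype.equivFin β))⟩⟩
  by_cases hcyc : x.support.card < 2 * p
  · have hxc : x.IsCycle := isCycle_of_prime_order (hxo ▸ hp) (by rw [hxo]; exact hcyc)
    have hxs : x.support.card = p := hxc.orderOf.symm.trans hxo
    by_cases hjor : p + 3 ≤ Fintype.card β
    · exact fin (Agent.Transfer.JordanPrimeCycle.alternatingGroup_le_of_cycle hprim hp hjor hxc hxs hxG)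
    rcases hcase with hc | ⟨rfl, rfl, hm⟩ | ⟨rfl, rfl, hm⟩ | ⟨rfl, rfl, hm⟩
    · have := hc.2.2.2.1; omega
    · exact fin (Equiv.Perm.alternatingGroup_le_of_isPreprimitive_of_isThreeCycle_mem hprim
        (card_support_eq_three_iff.mp hxs) hxG)
    · exact fin (Agent.Transfer.SmallDegree.seven (by omega) hle hxG hxo hyG hyo).ge
    · exact fin (Agent.Transfer.Thirteen.thirteen (by omega) hle hprim hxG hxo)
  · have h2p : Fintype.card β = 2 * p := by
      have := Finset.card_le_univ x.support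
      omega
    have hjq : ∀ h : q + 3 ≤ Fintype.card β, ∃ d : ℕ, 5 ≤ d ∧ Nonempty (G ≃* alternatingGroup (Fin d)) :=
      fun h => fin (Agent.Transfer.JordanPrimeCycle.alternatingGroup_le_of_cycle hprim hq h hyc hys hyG)
    rcases hcase with hc | ⟨rfl, rfl, hm⟩ | ⟨rfl, rfl, hm⟩ | ⟨rfl, rfl, hm⟩
    · rcases hc.2.2.2.2.2 with h | h
      · omega
      · exact hjq (by omega)
    · exact Agent.Transfer.SmallDegree.six (by omega) hle hxG hxo hyG hyo
    · exact hjq (by omega)
    · omega

/-- Let m ≥ 5. Then there are primes p < q with m/2 ≤ p and q ≤ m such that any two elements x, y of the alternating group of degree m with x of order p and y of order q generate a subgroup isomorphic to an alternating group of some degree d ≥ 5. -/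
theorem result (m : ℕ) (hm : 5 ≤ m) :
    ∃ p q : ℕ, p.Prime ∧ q.Prime ∧ m ≤ 2 * p ∧ p < q ∧ q ≤ m ∧
      ∀ x y : alternatingGroup (Fin m), orderOf x = p → orderOf y = q →
        ∃ d : ℕ, 5 ≤ d ∧ Nonempty (Subgroup.closure ({x, y} : Set (alternatingGroup (Fin m))) ≃* alternatingGroup (Fin d)) := by

  classical
  obtain ⟨p, q, hp, hq, hpm, hpq, hqm, hcase⟩ : ∃ p q : ℕ, p.Prime ∧ q.Prime ∧ m ≤ 2 * p ∧ p < q ∧ q ≤ m ∧
      (Agent.Transfer.ThreePrimes.Pair m p q ∨ (p = 3 ∧ q = 5 ∧ m ≤ 6) ∨
      (p = 5 ∧ q = 7 ∧ m ≤ 10) ∨ (p = 11 ∧ q = 13 ∧ m ≤ 16)) := by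
    rcases Nat.lt_or_ge m 7 with h | h
    · exact ⟨3, 5, Nat.prime_three, Nat.prime_five, by omega, by omega, hm, Or.inr (Or.inl ⟨rfl, rfl, by omega⟩)⟩
    rcases Nat.lt_or_ge m 11 with h' | h'
    · exact ⟨5, 7, Nat.prime_five, by norm_num, by omega, by omega, h,
        Or.inr (Or.inr (Or.inl ⟨rfl, rfl, by omega⟩))⟩
    by_cases h15 : m = 15 ∨ m = 16
    · exact ⟨11, 13, by norm_num, by norm_num, by omega, by omega, by omega,
        Or.inr (Or.inr (Or.inr ⟨rfl, rfl, by omega⟩))⟩
    · obtain ⟨p, q, hpair⟩ := Agent.Transfer.ThreePrimes.exists_pair h' (by omega) (by omega)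
      obtain ⟨hp, hq, h1, h2, h3, -⟩ := id hpair
      exact ⟨p, q, hp, hq, h1, by omega, h3, Or.inl hpair⟩
  refine ⟨p, q, hp, hq, hpm, hpq, hqm, fun x y hxo hyo => ?_⟩
  set P : Fin m → Prop := fun z => (x : Perm (Fin m)) z ≠ z ∨ (y : Perm (Fin m)) z ≠ z
  have hx : ∀ z, P ((x : Perm (Fin m)) z) ↔ P z := by
    intro z
    by_cases h : (x : Perm (Fin m)) z = z
    · rw [h]
    · exact iff_of_true (Or.inl fun e => h ((x : Perm (Fin m)).injective e)) (Or.inl h)
  have hy : ∀ z, P ((y : Perm (Fin m)) z) ↔ P z := by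
    intro z
    by_cases h : (y : Perm (Fin m)) z = z
    · rw [h]
    · exact iff_of_true (Or.inr fun e => h ((y : Perm (Fin m)).injective e)) (Or.inr h)
  set x' := (x : Perm (Fin m)).subtypePerm hx
  set y' := (y : Perm (Fin m)).subtypePerm hy
  have hox : Equiv.Perm.ofSubtype x' = (x : Perm (Fin m)) :=
    Equiv.Perm.ofSubtype_subtypePerm hx fun z hz => Or.inl hz
  have hoy : Equiv.Perm.ofSubtype y' = (y : Perm (Fin m)) :=
    Equiv.Perm.ofSubtype_subtypePerm hy fun z hz => Or.inr hz
  obtain ⟨d, hd, ⟨e⟩⟩ := core (β := {z // P z}) (x := x') (y := y') (m := m) hp hq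
    (by rw [← Equiv.Perm.sign_ofSubtype, hox]; exact x.2)
    (by rw [← Equiv.Perm.sign_ofSubtype, hoy]; exact y.2)
    (by rw [← orderOf_injective _ Equiv.Perm.ofSubtype_injective, hox, Subgroup.orderOf_coe, hxo])
    (by rw [← orderOf_injective _ Equiv.Perm.ofSubtype_injective, hoy, Subgroup.orderOf_coe, hyo])
    ((Fintype.card_subtype_le P).trans (Fintype.card_fin m).le)
    (fun z => z.2.imp (fun h e => h (congrArg Subtype.val e)) (fun h e => h (congrArg Subtype.val e)))
    hcase
  have himg : (Subgroup.closure ({x, y} : Set (alternatingGroup (Fin m)))).map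
      (alternatingGroup (Fin m)).subtype =
      (Subgroup.closure ({x', y'} : Set (Perm {z // P z}))).map Equiv.Perm.ofSubtype := by
    rw [MonoidHom.map_closure, MonoidHom.map_closure, Set.image_pair, Set.image_pair, hox, hoy]
    rfl
  exact ⟨d, hd, ⟨(((Subgroup.equivMapOfInjective _ _ (Subgroup.subtype_injective _)).trans
    (MulEquiv.subgroupCongr himg)).trans
    (Subgroup.equivMapOfInjective _ _ Equiv.Perm.ofSubtype_injective).symm).trans e⟩⟩

end Cfsg.Agent.S4150
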