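import Cfsg.Statements.S4151
import Cfsg.Agent.Lib.Grp.Coprime
import Cfsg.Agent.Lib.Grp.CoprimeAbelian
import Cfsg.Agent.Lib.Grp.SchurZassenhaus
import Cfsg.Agent.Lib.Grp.Signalizer
import Cfsg.Agent.Lib.Transfer.RankOneCyclic
import Cfsg.Agent.Lib.Transfer.NormalSteps

set_option maxHeartbeats 1000000
set_option maxRecDepth 8000

set_option autoImplicit false
open Cfsg

namespace Cfsg.Agent.S4151

open scoped commutatorElement Pointwise

universe u

/-- A `Q`-invariant subgroup with a `Q`-centralized Sylow subgroup centralized by its normalizer. -/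
theorem commutator_pprime {G : Type u} [Group G] [Finite G] {r : ℕ} [Fact r.Prime]
    (L Q R : Subgroup G) (hR : Agent.Grp.IsSylowIn r R L) (hQL : Q ≤ Subgroup.normalizer (L : Set G))
    (hQR : Q ≤ Subgroup.centralizer (R : Set G))
    (hN : L ⊓ Subgroup.normalizer (R : Set G) ≤ Subgroup.centralizer (R : Set G)) :
    ¬ r ∣ Nat.card ↥⁅L, Q⁆ := by
  obtain ⟨P, rfl⟩ := Agent.Grp.isSylowIn_iff.mp hR
  have hP : Subgroup.normalizer (P : Set L) ≤ Subgroup.centralizer (P : Set L) := by
    intro a ha
    have h1 : (a : G) ∈ Subgroup.normalizer (((P : Subgroup L).map L.subtype : Subgroup G) : Set G) :=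
      Subgroup.le_normalizer_map L.subtype (Subgroup.mem_map_of_mem L.subtype ha)
    have h2 := hN ⟨a.2, h1⟩
    refine Subgroup.mem_centralizer_iff.mpr fun b hb => Subtype.ext ?_
    exact Subgroup.mem_centralizer_iff.mp h2 b (Subgroup.mem_map_of_mem L.subtype hb)
  set K := (MonoidHom.transferSylow P hP).ker
  have hKP : K.IsComplement' (P : Subgroup L) := MonoidHom.ker_transferSylow_isComplement' P hP
  set K' := K.map L.subtype
  have hK'c : Nat.card K' = (P : Subgroup L).index := by
    rw [Subgroup.card_map_of_injective L.subtype_injective]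
    exact hKP.index_eq_card.symm
  have hQK : ∀ q ∈ Q, ∀ k ∈ K', q * k * q⁻¹ ∈ K' := by
    intro q hq k hk
    have hle : MulAut.conj q • K' ≤ L := by
      intro w hw
      rw [Agent.Grp.mem_smul_conj] at hw
      obtain ⟨l, hl, hle⟩ := hw
      have := Agent.Grp.mem_conj_normalizer (hQL hq) l.2
      rw [show (l : G) = q⁻¹ * w * q from hle] at this
      simpa [mul_assoc] using this
    have hle' : (MulAut.conj q • K').subgroupOf L ≤ K := by
      refine Agent.Grp.le_of_coprime_index ?_
      rw [Nat.card_congr (Subgroup.subgroupOfEquivOfLe hle).toEquiv, Agent.Grp.card_conj_smul, hK'c,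
        hKP.symm.index_eq_card]
      exact P.card_coprime_index.symm
    have hmem : q * k * q⁻¹ ∈ MulAut.conj q • K' := by
      rw [Agent.Grp.mem_smul_conj]; simpa [mul_assoc] using hk
    exact ⟨⟨_, hle hmem⟩, hle' (Subgroup.mem_subgroupOf.mpr hmem), rfl⟩
  have hsub : ⁅L, Q⁆ ≤ K' := by
    refine Subgroup.commutator_le.mpr fun l hl q hq => ?_
    obtain ⟨⟨⟨k, hk⟩, ⟨x, hx⟩⟩, hkx : k * x = ⟨l, hl⟩⟩ := hKP.2 ⟨l, hl⟩
    have hxq : (x : G) * q = q * x :=
      Subgroup.mem_centralizer_iff.mp (hQR hq) x (Subgroup.mem_map_of_mem L.subtype hx)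
    have hl' : l = (k : G) * x := (congrArg Subtype.val hkx).symm
    have hk' : (k : G) ∈ K' := Subgroup.mem_map_of_mem L.subtype hk
    have e : ⁅l, q⁆ = (k : G) * (q * (k : G)⁻¹ * q⁻¹) := by
      rw [commutatorElement_def, hl', mul_inv_rev, mul_assoc (k : G) x q, hxq]; group
    rw [e]
    exact K'.mul_mem hk' (hQK q hq _ (K'.inv_mem hk'))
  intro h
  have := h.trans (Subgroup.card_dvd_of_le hsub)
  rw [hK'c] at this
  exact P.not_dvd_index this

/-- Let G be a finite group and H a non-normal subgroup meeting each of its conjugates by elements outside N_G(H) trivially, with the order of H coprime to its index in N_G(H), such that G is π-separable for π the set of primes dividing the order of H (G has a chain of normal subgroups from 1 to G each of whose factors has order divisible only by primes dividing the order of H or coprime to it). Suppose a Sylow 2-subgroup of H is abelian and Q is a complement of H in N_G(H). Then C_H(Q), the subgroup of elements of H commuting with Q, has order coprime to its index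 in G and has a normal complement in G. -/
theorem result {G : Type*} [Group G] [Finite G] (H : Subgroup G)
    (hTI : Cfsg.IsTISubset (H : Set G)) (hnn : ¬ H.Normal)
    (hHall : (Nat.card H).Coprime (H.subgroupOf (Subgroup.normalizer (H : Set G))).index)
    (hsep : ∃ (n : ℕ) (M : Fin (n + 1) → Subgroup G), M 0 = ⊥ ∧ M (Fin.last n) = ⊤ ∧ Monotone M ∧ (∀ i, (M i).Normal) ∧
      ∀ i : Fin n, (∀ q : ℕ, q.Prime → q ∣ (M i.castSucc).relIndex (M i.succ) → q ∣ Nat.card H) ∨
        ((M i.castSucc).relIndex (M i.succ)).Coprime (Nat.card H))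
    (h2 : ∀ P : Sylow 2 H, IsMulCommutative (P : Subgroup H))
    (Q : Subgroup G) (hQ : Q ≤ Subgroup.normalizer (H : Set G)) (hQH : Q ⊓ H = ⊥) (hQH' : Q ⊔ H = Subgroup.normalizer (H : Set G)) :
    (Nat.card ↥(H ⊓ Subgroup.centralizer (Q : Set G))).Coprime (H ⊓ Subgroup.centralizer (Q : Set G)).index ∧
    ∃ N : Subgroup G, N.Normal ∧ N.IsComplement' (H ⊓ Subgroup.centralizer (Q : Set G)) := by

  classical
  set π := Nat.card H
  set NH := Subgroup.normalizer (H : Set G) with hNH
  have hHN : H ≤ NH := Subgroup.le_normalizer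
  have hH1 : H ≠ ⊥ := by
    rintro rfl
    exact hnn inferInstance
  have hti : ∀ g : G, ∀ x ∈ H, x ≠ 1 → g * x * g⁻¹ ∈ H → g ∈ NH := fun g x hx hx1 hgx => by
    by_contra hg
    exact hx1 (hTI g hg x hx hgx)
  have hrel : H.relIndex NH = (H.subgroupOf NH).index := rfl
  -- a Sylow subgroup of `H` is one of `G`
  have hnorm : ∀ R : Subgroup G, R ≤ H → R ≠ ⊥ → Subgroup.normalizer (R : Set G) ≤ NH := by
    intro R hR hR1 g hg
    obtain ⟨⟨x, hx⟩, hx1⟩ := Subgroup.ne_bot_iff_exists_ne_one.mp hR1
    exact hti g x (hR hx) (fun e => hx1 (Subtype.ext e)) (hR ((Subgroup.mem_normalizer_iff.mp hg x).mp hx))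
  have hHallG : (Nat.card H).Coprime H.index := by
    refine Nat.coprime_of_dvd' fun r hr hr1 hr2 => ?_
    exfalso
    haveI := Fact.mk hr
    obtain ⟨P⟩ : Nonempty (Sylow r H) := inferInstance
    set R := (P : Subgroup H).map H.subtype
    have hRp : IsPGroup r R := P.isPGroup'.map _
    have hRH : R ≤ H := Subgroup.map_subtype_le _
    obtain ⟨S, hRS⟩ := hRp.exists_le_sylow
    have hR1 : R ≠ ⊥ := by
      rw [Ne, Subgroup.map_eq_bot_iff_of_injective _ H.subtype_injective]
      exact P.ne_bot_of_dvd_card hr1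
    by_cases he : R = S
    · refine S.not_dvd_index ?_
      rw [← he, ← Subgroup.relIndex_mul_index hRH]
      exact dvd_mul_of_dvd_right hr2 _
    · have hlt : R.subgroupOf S < ⊤ := lt_top_iff_ne_top.mpr fun e =>
        he (le_antisymm hRS (Subgroup.subgroupOf_eq_top.mp e))
      haveI := S.isPGroup'.isNilpotent
      obtain ⟨w, hw, hwR⟩ := SetLike.exists_of_lt
        (Group.normalizerCondition_of_isNilpotent (G := (S : Subgroup G)) (R.subgroupOf S) hlt)
      have hwN : (w : G) ∈ Subgroup.normalizer (R : Set G) := by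
        refine Subgroup.mem_normalizer_iff.mpr fun y => ⟨fun hy => ?_, fun hy => ?_⟩
        · exact (Subgroup.mem_normalizer_iff.mp hw ⟨y, hRS hy⟩).mp hy
        · have hy' : y ∈ (S : Subgroup G) := by
            have := (S : Subgroup G).mul_mem ((S : Subgroup G).mul_mem ((S : Subgroup G).inv_mem w.2)
              (hRS hy)) w.2
            simpa [mul_assoc] using this
          exact (Subgroup.mem_normalizer_iff.mp hw ⟨y, hy'⟩).mpr hy
      set X := R ⊔ Subgroup.zpowers (w : G)
      have hXp : IsPGroup r X := S.isPGroup'.to_le (sup_le hRS (Subgroup.zpowers_le.mpr w.2))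
      have hXN : X ≤ NH := sup_le (hRH.trans hHN) (Subgroup.zpowers_le.mpr (hnorm R hRH hR1 hwN))
      have hnd : ¬ r ∣ R.relIndex NH := by
        rw [← Subgroup.relIndex_mul_relIndex R H NH hRH hHN]
        intro h
        rcases hr.dvd_mul.mp h with h | h
        · exact (Agent.Grp.isSylowIn_iff.mpr ⟨P, rfl⟩ : Agent.Grp.IsSylowIn r R H).2.2 h
        · exact hr.not_dvd_one ((Nat.Coprime.gcd_eq_one hHall) ▸ Nat.dvd_gcd hr1 (hrel ▸ h))
      have := Agent.Grp.IsSylowIn.eq_of_le (⟨hRH.trans hHN, hRp, hnd⟩ : Agent.Grp.IsSylowIn r R NH)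
        (le_sup_left : R ≤ X) hXN hXp
      exact hwR (show (w : G) ∈ R by rw [this]; exact Subgroup.mem_sup_right (Subgroup.mem_zpowers _))
  -- the core of order prime to `|H|`
  set T := {K : Subgroup G | K.Normal ∧ (Nat.card K).Coprime (Nat.card H)}
  obtain ⟨hOn, hOc⟩ : sSup T ∈ T := Agent.Grp.sSup_mem_of_closed T
    ⟨⊥, inferInstance, by simp⟩ (fun A hA B hB => by
      haveI := hA.1; haveI := hB.1
      exact ⟨inferInstance, Agent.Grp.card_sup_coprime_to
        (by rw [Subgroup.normalizer_eq_top]; exact le_top) hA.2 hB.2⟩)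
  set O := sSup T
  haveI := hOn
  obtain ⟨n, M, hM0, hMl, hMm, hMn, hMstep⟩ := hsep
  obtain ⟨i, hi1, hi2⟩ : ∃ i : Fin n, M i.castSucc ≤ O ∧ ¬ M i.succ ≤ O := by
    by_contra! hno
    have hall : ∀ i : Fin (n + 1), M i ≤ O := fun i => by
      induction i using Fin.induction with
      | zero => rw [hM0]; exact bot_le
      | succ j ihj => exact hno j ihj
    have := hall (Fin.last n)
    rw [hMl, top_le_iff] at this
    rw [this, Subgroup.card_top] at hOc
    exact hH1 (Subgroup.card_eq_one.mp (Nat.eq_one_of_dvd_coprimes hOc H.card_subgroup_dvd_card dvd_rfl))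
  haveI := hMn i.succ
  set Y := O ⊔ M i.succ with hY
  haveI : Y.Normal := inferInstance
  have hrelY : O.relIndex Y ∣ (M i.castSucc).relIndex (M i.succ) := by
    rw [hY, sup_comm, Subgroup.relIndex_sup_right]
    exact Subgroup.relIndex_dvd_of_le_left _ hi1
  have hOY : O ≤ Y := le_sup_left
  have hcardY : Nat.card O * O.relIndex Y = Nat.card Y := Agent.Grp.card_mul_relIndex hOY
  have hYO : ¬ Y ≤ O := fun h => hi2 (le_sup_right.trans h)
  have hπY : ∀ q : ℕ, q.Prime → q ∣ O.relIndex Y → q ∣ Nat.card H := by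
    intro q hq hqY
    rcases hMstep i with h | h
    · exact h q hq (hqY.trans hrelY)
    · exfalso
      refine hYO (le_sSup ⟨inferInstance, ?_⟩)
      rw [← hcardY]
      exact hOc.mul_left (h.coprime_dvd_left hrelY)
  set H0 := Y ⊓ H
  have hH0c : Nat.card H0 = O.relIndex Y := by
    have hco : (H0.relIndex Y).Coprime (Nat.card H) := by
      have hd : H0.relIndex Y ∣ H.index := by
        have h1 := Agent.Grp.card_sup_mul_card_inf_normal (H := H) (N := Y)
        rw [← Agent.Grp.card_mul_relIndex (le_sup_left : H ≤ H ⊔ Y),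
          ← Agent.Grp.card_mul_relIndex (inf_le_left : H0 ≤ Y),
          show H ⊓ Y = H0 from inf_comm _ _] at h1
        have h2 : H.relIndex (H ⊔ Y) = H0.relIndex Y :=
          Nat.eq_of_mul_eq_mul_left (Nat.mul_pos (Nat.card_pos (α := H)) (Nat.card_pos (α := H0)))
            (by linarith)
        rw [← h2, ← Subgroup.relIndex_mul_index (le_sup_left : H ≤ H ⊔ Y)]
        exact dvd_mul_right _ _
      exact (hHallG.coprime_dvd_right hd).symm
    have h0 := Agent.Grp.card_mul_relIndex (inf_le_left : H0 ≤ Y)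
    rw [← hcardY] at h0
    have hd0 : Nat.card H0 ∣ Nat.card H := Subgroup.card_dvd_of_le inf_le_right
    refine Nat.dvd_antisymm ?_ ?_
    · exact ((hOc.coprime_dvd_right hd0).symm).dvd_of_dvd_mul_left ⟨_, h0.symm⟩
    · refine Nat.Coprime.dvd_of_dvd_mul_right ?_ ⟨Nat.card O, by rw [h0, mul_comm]⟩
      refine Nat.coprime_of_dvd' fun q hq hq1 hq2 => ?_
      exact absurd (hπY q hq hq1) fun h => hq.not_dvd_one (hco ▸ Nat.dvd_gcd hq2 h)
  have hYeq : H0 ⊔ O = Y := Subgroup.eq_of_le_of_card_ge (sup_le inf_le_left hOY) (by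
    rw [Agent.Grp.card_sup_coprime (by rw [Subgroup.normalizer_eq_top]; exact le_top)
      ((hOc.coprime_dvd_right (Subgroup.card_dvd_of_le inf_le_right)).symm), hH0c, mul_comm, hcardY])
  have hH01 : H0 ≠ ⊥ := fun e => hYO (by rw [← hYeq, e, bot_sup_eq])
  have htop : NH ⊔ O = ⊤ := by
    obtain ⟨r, hr, hrd⟩ := Nat.exists_prime_and_dvd
      (fun e => hH01 (Subgroup.card_eq_one.mp e) : Nat.card H0 ≠ 1)
    haveI := Fact.mk hr
    obtain ⟨R, hR⟩ := Agent.Grp.exists_isSylowIn r H0
    have hrO : ¬ r ∣ Nat.card O := fun h => hr.not_dvd_one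
      (hOc ▸ Nat.dvd_gcd h (hrd.trans (Subgroup.card_dvd_of_le inf_le_right)))
    have hRY : Agent.Grp.IsSylowIn r R Y := by
      refine ⟨hR.1.trans inf_le_left, hR.2.1, ?_⟩
      rw [← Subgroup.relIndex_mul_relIndex R H0 Y hR.1 inf_le_left]
      intro h
      rcases hr.dvd_mul.mp h with h | h
      · exact hR.2.2 h
      · apply hrO
        have h0 := Agent.Grp.card_mul_relIndex (inf_le_left : H0 ≤ Y)
        rw [← hcardY, ← hH0c, mul_comm (Nat.card O)] at h0
        rwa [← Nat.eq_of_mul_eq_mul_left Nat.card_pos h0]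
    obtain ⟨S, hS⟩ := Agent.Grp.isSylowIn_iff.mp hRY
    have hfr := Sylow.normalizer_sup_eq_top S
    rw [hS] at hfr
    have hR1 : R ≠ ⊥ := by
      intro e
      apply hR.2.2
      rwa [e, Subgroup.relIndex_bot_left]
    refine top_le_iff.mp (hfr.symm.le.trans ?_)
    refine sup_le ((hnorm R (hR.1.trans inf_le_right) hR1).trans le_sup_left) ?_
    rw [← hYeq]
    exact sup_le ((inf_le_right.trans hHN).trans le_sup_left) le_sup_right
  have hHO : H ⊓ O = ⊥ := Agent.Grp.inf_eq_bot_of_coprime hOc.symm
  have hONH : ¬ O ≤ NH := fun h => by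
    rw [sup_eq_left.mpr h] at htop
    exact hnn (Subgroup.normalizer_eq_top_iff.mp htop)
  have hHnO : H ≤ Subgroup.normalizer (O : Set G) := by rw [Subgroup.normalizer_eq_top]; exact le_top
  have hfix : ∀ h ∈ H, h ≠ 1 → O ⊓ Subgroup.centralizer {h} ≤ NH := by
    rintro h hh hh1 c ⟨hc, hch⟩
    refine hti c h hh hh1 ?_
    rwa [Subgroup.mem_centralizer_singleton_iff.mp hch, mul_inv_cancel_right]
  have hcyc : ∀ A : Subgroup G, A ≤ H → IsMulCommutative A → IsCyclic A := by
    intro A hAH hA
    by_contra hAc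
    haveI := hA
    apply hONH
    rw [← Agent.Grp.generated_by_centralizers A O hAc (hAH.trans hHnO)
      (hOc.coprime_dvd_right (Subgroup.card_dvd_of_le hAH)).symm]
    exact iSup₂_le fun a ha => hfix a (hAH ha.1) ha.2
  haveI hZ : IsZGroup H := ⟨fun r hr P => by
    haveI := Fact.mk hr
    have hsub : ∀ A : Subgroup (P : Subgroup H), IsMulCommutative A → IsCyclic A := fun A hA => by
      have h1 : IsMulCommutative ((A.map (P : Subgroup H).subtype).map H.subtype) := by
        haveI := hA
        haveI : IsMulCommutative (A.map (P : Subgroup H).subtype) := Subgroup.map_isMulCommutative _ _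
        exact Subgroup.map_isMulCommutative _ _
      have := hcyc _ (Subgroup.map_subtype_le _) h1
      exact ((Subgroup.equivMapOfInjective A _ (P : Subgroup H).subtype_injective).trans
        (Subgroup.equivMapOfInjective _ _ H.subtype_injective)).isCyclic.mpr this
    by_cases h2' : r = 2
    · subst h2'
      haveI := h2 P
      have := hsub ⊤ inferInstance
      exact Subgroup.topEquiv.isCyclic.mp this
    · exact Agent.Transfer.RankOneCyclic.isCyclic_of_abelian_cyclic h2' P.isPGroup' hsub⟩
  have hHs : Group.IsSolvable H := inferInstance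
  -- the complement `Q`
  have hQc : (Nat.card Q).Coprime (Nat.card H) := by
    have h1 := Agent.Grp.card_sup_mul_card_inf (hQ : Q ≤ Subgroup.normalizer (H : Set G))
    rw [hQH, Subgroup.card_bot, mul_one, hQH', ← Agent.Grp.card_mul_relIndex hHN, mul_comm (Nat.card Q)] at h1
    rw [← Nat.eq_of_mul_eq_mul_left Nat.card_pos h1, hrel]
    exact hHall.symm
  set C := H ⊓ Subgroup.centralizer (Q : Set G) with hC
  set U := ⁅H, Q⁆ with hU
  have hUH : U ≤ H := Agent.Grp.commutator_le_left_of_le_normalizer hQ
  have hUC : U ⊔ C = H := Agent.Grp.commutator_sup_fixed Q H hQ hQc (Or.inr hHs)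
  have hUc : (Nat.card U).Coprime (Nat.card C) := by
    refine Nat.coprime_of_dvd' fun r hr hrU hrC => ?_
    exfalso
    haveI := Fact.mk hr
    obtain ⟨⟨c, hc⟩, hco⟩ := exists_prime_orderOf_dvd_card' (G := C) r hrC
    rw [Subgroup.orderOf_mk] at hco
    obtain ⟨hcH, hcQ⟩ := Subgroup.mem_inf.mp hc
    have hzQ : Q ≤ Subgroup.centralizer ((Subgroup.zpowers c : Subgroup G) : Set G) := by
      rw [← Agent.Grp.centralizer_singleton_eq_zpowers]
      exact fun q hq => Subgroup.mem_centralizer_singleton_iff.mpr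
        (Subgroup.mem_centralizer_iff.mp hcQ q hq)
    obtain ⟨R, hR, hRQ, hzR⟩ := Agent.Grp.exists_invariant_sylow_ge Q H hQ hQc (Or.inr hHs)
      (Subgroup.zpowers_le.mpr hcH)
      (IsPGroup.of_card (n := 1) (by rw [Nat.card_zpowers, hco, pow_one]))
      (hzQ.trans (Subgroup.centralizer_le_normalizer _))
    obtain ⟨P, hP⟩ := Agent.Grp.isSylowIn_iff.mp hR
    haveI : IsCyclic R := by
      subst hP
      exact ((P : Subgroup H).equivMapOfInjective _ H.subtype_injective).isCyclic.mp inferInstance
    have hQcR : (Nat.card R).Coprime (Nat.card Q) :=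
      (hQc.coprime_dvd_right (Subgroup.card_dvd_of_le hR.1)).symm
    have hQR : Q ≤ Subgroup.centralizer (R : Set G) := by
      rcases hR.2.1.commutator_eq_bot_or_commutator_eq_self hRQ hQcR with h | h
      · exact Subgroup.commutator_eq_bot_iff_le_centralizer.mp h
      · exfalso
        have hcR : c ∈ R ⊓ Subgroup.centralizer (Q : Set G) :=
          ⟨hzR (Subgroup.mem_zpowers c), hcQ⟩
        have hmem : c ∈ (R ⊓ Subgroup.centralizer (Q : Set G)) ⊓ ⁅R, Q⁆ :=
          ⟨hcR, by rw [Subgroup.commutator_comm, h]; exact hzR (Subgroup.mem_zpowers c)⟩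
        rw [Agent.Grp.abelian_commutator_inf_fixed Q R hRQ hQcR.symm, Subgroup.mem_bot] at hmem
        rw [hmem, orderOf_one] at hco
        exact hr.ne_one hco.symm
    haveI : IsCyclic (P : Subgroup H) := inferInstance
    rcases P.normalizer_le_centralizer_or_le_commutator with hN | hcm
    · refine commutator_pprime H Q R hR hQ hQR ?_ hrU
      rintro g ⟨hgH, hgN⟩
      have hg' : (⟨g, hgH⟩ : H) ∈ Subgroup.normalizer (P : Set H) := by
        refine Subgroup.mem_normalizer_iff.mpr fun y => ?_
        have key : ∀ z : H, z ∈ (P : Subgroup H) ↔ (z : G) ∈ R := fun z => by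
          rw [← hP]
          exact (Subgroup.mem_map_iff_mem H.subtype_injective).symm
        rw [key, key]
        exact Subgroup.mem_normalizer_iff.mp hgN y
      have := hN hg'
      refine Subgroup.mem_centralizer_iff.mpr fun y hy => ?_
      rw [← hP] at hy
      obtain ⟨z, hz, rfl⟩ := hy
      exact congrArg Subtype.val (Subgroup.mem_centralizer_iff.mp this z hz)
    · haveI : IsCyclic (commutator H) := IsZGroup.isCyclic_commutator H
      have hPn : (P : Subgroup H).Normal := by
        refine ⟨fun x hx g => ?_⟩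
        obtain ⟨e, he⟩ := (MulAut.conjNormal (H := commutator H) g).toMonoidHom.map_cyclic
        have h1 : g * x * g⁻¹ = x ^ e := congrArg Subtype.val (he ⟨x, hcm hx⟩)
        rw [h1]
        exact zpow_mem hx e
      have hHR : H ≤ Subgroup.normalizer (R : Set G) := by
        have := Subgroup.le_normalizer_map (H := (P : Subgroup H)) H.subtype
        rw [Subgroup.normalizer_eq_top, ← MonoidHom.range_eq_map, Subgroup.range_subtype, hP] at this
        exact this
      set L := H ⊓ Subgroup.centralizer (R : Set G)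
      have hQL : Q ≤ Subgroup.normalizer (L : Set G) :=
        Agent.Grp.le_normalizer_inf' hQ (by
          intro q hq
          refine Subgroup.mem_normalizer_iff.mpr fun y => ?_
          have hqn := Subgroup.mem_normalizer_iff.mp (hRQ hq)
          constructor
          · refine fun hy => Subgroup.mem_centralizer_iff.mpr fun z hz => ?_
            have := Subgroup.mem_centralizer_iff.mp hy (q⁻¹ * z * q) ((hqn _).mpr (by simpa [mul_assoc] using hz))
            calc z * (q * y * q⁻¹) = q * ((q⁻¹ * z * q) * y) * q⁻¹ := by group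
              _ = q * y * q⁻¹ * z := by rw [this]; group
          · refine fun hy => Subgroup.mem_centralizer_iff.mpr fun z hz => ?_
            have := Subgroup.mem_centralizer_iff.mp hy _ ((hqn z).mp hz)
            calc z * y = q⁻¹ * ((q * z * q⁻¹) * (q * y * q⁻¹)) * q := by group
              _ = y * z := by rw [this]; group)
      have hRc : IsMulCommutative R := inferInstance
      have hRL : Agent.Grp.IsSylowIn r R L := by
        refine ⟨le_inf hR.1 (Subgroup.le_centralizer R), hR.2.1, fun h => hR.2.2 ?_⟩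
        exact h.trans ⟨_, (Subgroup.relIndex_mul_relIndex R L H
          (le_inf hR.1 (Subgroup.le_centralizer R)) inf_le_left).symm⟩
      have hUL : U ≤ L := by
        refine le_inf hUH (Subgroup.commutator_eq_bot_iff_le_centralizer.mp ?_)
        refine Subgroup.commutator_commutator_eq_bot_of_rotate ?_ ?_
        · rw [Subgroup.commutator_eq_bot_iff_le_centralizer.mpr hQR, Subgroup.commutator_bot_left]
        · refine Subgroup.commutator_eq_bot_iff_le_centralizer.mpr ?_
          refine le_trans (Subgroup.le_normalizer_iff_commutator_le_left.mp hHR) ?_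
          exact Subgroup.le_centralizer_iff.mp hQR
      apply commutator_pprime L Q R hRL hQL hQR (inf_le_left.trans inf_le_right)
      have : U ≤ ⁅L, Q⁆ := by
        rw [hU, ← Agent.Grp.commutator_commutator_eq Q H hQ hQc (Or.inr hHs)]
        exact Subgroup.commutator_mono hUL le_rfl
      exact hrU.trans (Subgroup.card_dvd_of_le this)
  -- the normal complement
  have hQU : Q ≤ Subgroup.normalizer (U : Set G) := Agent.Grp.right_le_normalizer_commutator Q H
  have hHU : H ≤ Subgroup.normalizer (U : Set G) := Agent.Grp.left_le_normalizer_commutator Q H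
  have hnO : ∀ X : Subgroup G, X ≤ Subgroup.normalizer (O : Set G) := fun X => by
    rw [Subgroup.normalizer_eq_top]; exact le_top
  have hQOU : Q ≤ Subgroup.normalizer ((U ⊔ O : Subgroup G) : Set G) :=
    Agent.Grp.le_normalizer_sup' hQU (hnO _)
  set N := Q ⊔ (U ⊔ O)
  have hCN : C ≤ Subgroup.normalizer (N : Set G) :=
    Agent.Grp.le_normalizer_sup'
      (inf_le_right.trans (Subgroup.centralizer_le_normalizer _))
      (Agent.Grp.le_normalizer_sup' (inf_le_left.trans hHU) (hnO _))
  have hNn : N.Normal := by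
    rw [← Subgroup.normalizer_eq_top_iff, eq_top_iff, ← htop, ← hQH', ← hUC]
    refine sup_le (sup_le ?_ (sup_le ?_ hCN)) ?_
    · exact (le_sup_left : Q ≤ N).trans Subgroup.le_normalizer
    · exact ((le_sup_left : U ≤ U ⊔ O).trans (le_sup_right : U ⊔ O ≤ N)).trans Subgroup.le_normalizer
    · exact ((le_sup_right : O ≤ U ⊔ O).trans (le_sup_right : U ⊔ O ≤ N)).trans Subgroup.le_normalizer
  have hCH : Nat.card C ∣ Nat.card H := Subgroup.card_dvd_of_le inf_le_left
  have hcop : (Nat.card N).Coprime (Nat.card C) :=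
    Agent.Grp.card_sup_coprime_to hQOU (hQc.coprime_dvd_right hCH)
      (Agent.Grp.card_sup_coprime_to (hnO _) hUc (hOc.coprime_dvd_right hCH))
  haveI := hNn
  have hNC : N.IsComplement' C := by
    refine Subgroup.isComplement'_of_disjoint_and_mul_eq_univ
      (disjoint_iff.mpr (Agent.Grp.inf_eq_bot_of_coprime hcop)) ?_
    rw [← Subgroup.normal_mul]
    refine Set.eq_univ_of_forall fun g => ?_
    have : N ⊔ C = ⊤ := by
      rw [eq_top_iff, ← htop, ← hQH', ← hUC]
      refine sup_le (sup_le ?_ (sup_le ?_ le_sup_right)) ?_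
      · exact le_sup_of_le_left le_sup_left
      · exact le_sup_of_le_left (le_sup_of_le_right le_sup_left)
      · exact le_sup_of_le_left (le_sup_of_le_right le_sup_right)
    rw [this]; trivial
  refine ⟨?_, N, hNn, hNC⟩
  rw [hNC.index_eq_card]
  exact hcop.symm

end Cfsg.Agent.S4151
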