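import Cfsg.Statements.S4153
import Mathlib

set_option maxHeartbeats 1000000
set_option maxRecDepth 8000

set_option autoImplicit false
open Cfsg

namespace Cfsg.Agent.S4153

/-- Let G be a finite group, p a prime, N a normal subgroup, P a Sylow p-subgroup of G and P̄ a Sylow p-subgroup of G/N. Count the elements of p-power order, the identity included. Then (number of such elements of G/N)/#P̄ ≤ (number of such elements of G)/#P, stated as a cross-multiplied inequality, with equality when N is central. -/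
theorem result {G : Type*} [Group G] [Finite G] (p : ℕ) [Fact p.Prime] (N : Subgroup G) [N.Normal]
    (P : Sylow p G) (Pbar : Sylow p (G ⧸ N)) :
    Nat.card {g : (G ⧸ N) // ∃ k : ℕ, orderOf g = p ^ k} * Nat.card (P : Subgroup G) ≤ Nat.card {g : G // ∃ k : ℕ, orderOf g = p ^ k} * Nat.card (Pbar : Subgroup (G ⧸ N)) ∧
    (N ≤ Subgroup.center G → Nat.card {g : (G ⧸ N) // ∃ k : ℕ, orderOf g = p ^ k} * Nat.card (P : Subgroup G) = Nat.card {g : G // ∃ k : ℕ, orderOf g = p ^ k} * Nat.card (Pbar : Subgroup (G ⧸ N))) := by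
  classical
  set q := QuotientGroup.mk' N with hq
  have hqs : Function.Surjective q := QuotientGroup.mk'_surjective N
  set S := {g : G // ∃ k : ℕ, orderOf g = p ^ k}
  set T := {g : G ⧸ N // ∃ k : ℕ, orderOf g = p ^ k}
  have hpow : ∀ {X : Type _} [Group X] (g : X), (∃ k : ℕ, g ^ p ^ k = 1) → ∃ k : ℕ, orderOf g = p ^ k := fun g ⟨k, hk⟩ => by
    obtain ⟨j, -, hj⟩ := (Nat.dvd_prime_pow (Fact.out : p.Prime)).1 (orderOf_dvd_of_pow_eq_one hk)
    exact ⟨j, hj⟩
  let f : S → T := fun s => ⟨q s.1, by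
    obtain ⟨k, hk⟩ := s.2
    obtain ⟨j, -, hj⟩ := (Nat.dvd_prime_pow (Fact.out : p.Prime)).1 (hk ▸ orderOf_map_dvd q s.1)
    exact ⟨j, hj⟩⟩
  -- each fibre contains a coset of a Sylow intersection
  set m := Nat.card ↥((P : Subgroup G) ⊓ N) with hm
  have hmP : ∀ Q : Sylow p G, Nat.card ↥((Q : Subgroup G) ⊓ N) * Nat.card (Pbar : Subgroup (G ⧸ N)) = Nat.card (P : Subgroup G) := by
    intro Q
    let r : (Q : Subgroup G) →* (Q : Subgroup G).map q := q.subgroupMap _
    have h1 := r.ker.card_mul_index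
    rw [Subgroup.index_ker, MonoidHom.range_eq_top.2 (q.subgroupMap_surjective _), Subgroup.card_top] at h1
    have h2 : Nat.card ((Q : Subgroup G).map q) = Nat.card (Pbar : Subgroup (G ⧸ N)) := by
      rw [← Sylow.coe_mapSurjective hqs, Sylow.card_eq_multiplicity, Sylow.card_eq_multiplicity]
    have h3 : Nat.card r.ker = Nat.card ↥((Q : Subgroup G) ⊓ N) :=
      Nat.card_congr
        { toFun := fun u => ⟨((u : (Q : Subgroup G)) : G), (u : (Q : Subgroup G)).2,
            (QuotientGroup.eq_one_iff _).1 (congrArg Subtype.val (MonoidHom.mem_ker.1 u.2))⟩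
          invFun := fun u => ⟨⟨u.1, u.2.1⟩, MonoidHom.mem_ker.2 (Subtype.ext ((QuotientGroup.eq_one_iff _).2 u.2.2))⟩
          left_inv := fun u => rfl
          right_inv := fun u => rfl }
    rw [h2, h3] at h1
    rw [h1, Sylow.card_eq_multiplicity, Sylow.card_eq_multiplicity]
  have hmQ : ∀ Q : Sylow p G, Nat.card ↥((Q : Subgroup G) ⊓ N) = m := fun Q =>
    Nat.eq_of_mul_eq_mul_right Nat.card_pos ((hmP Q).trans (hmP P).symm)
  have hlift : ∀ y : T, ∃ (Q : Sylow p G) (g : G), g ∈ (Q : Subgroup G) ∧ q g = y.1 := fun ⟨y, k, hk⟩ => by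
    obtain ⟨R, hR⟩ := (IsPGroup.of_card (p := p) (n := k) (by rw [Nat.card_zpowers, hk]) : IsPGroup p (Subgroup.zpowers y)).exists_le_sylow
    obtain ⟨Q, rfl⟩ := Sylow.mapSurjective_surjective hqs p R
    obtain ⟨g, hg, hgy⟩ := hR (Subgroup.mem_zpowers y)
    exact ⟨Q, g, hg, hgy⟩
  have hfib : ∀ y : T, m ≤ Nat.card {s : S // f s = y} ∧ (N ≤ Subgroup.center G → Nat.card {s : S // f s = y} = m) := by
    intro y
    obtain ⟨Q, g, hgQ, hgy⟩ := hlift y
    have hmem : ∀ u : ↥((Q : Subgroup G) ⊓ N), ∃ k : ℕ, orderOf (g * (u : G)) = p ^ k := fun u => by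
      obtain ⟨k, hk⟩ := Q.isPGroup' ⟨g * u, mul_mem hgQ u.2.1⟩
      exact hpow _ ⟨k, congrArg Subtype.val hk⟩
    let e : ↥((Q : Subgroup G) ⊓ N) → {s : S // f s = y} := fun u => ⟨⟨g * u, hmem u⟩, Subtype.ext (by
      show q (g * (u : G)) = y.1
      rw [map_mul, hgy, show q (u : G) = 1 from (QuotientGroup.eq_one_iff _).2 u.2.2, mul_one])⟩
    have heinj : Function.Injective e := fun u v h => Subtype.ext (mul_left_cancel (congrArg (fun s : {s : S // f s = y} => (s.1.1 : G)) h))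
    refine ⟨hmQ Q ▸ Nat.card_le_card_of_injective e heinj, fun hc => ?_⟩
    rw [← hmQ Q]
    refine (Nat.card_congr (Equiv.ofBijective e ⟨heinj, fun ⟨⟨s, k, hk⟩, hs⟩ => ?_⟩)).symm
    have hsy : q s = y.1 := congrArg Subtype.val hs
    have hn : g⁻¹ * s ∈ N := (QuotientGroup.eq_one_iff _).1 (show q (g⁻¹ * s) = 1 by rw [map_mul, map_inv, hgy, hsy, inv_mul_cancel])
    refine ⟨⟨g⁻¹ * s, ?_, hn⟩, Subtype.ext (Subtype.ext (mul_inv_cancel_left g s))⟩
    -- a central p-element lies in every Sylow subgroup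
    have hcn : Commute (g⁻¹ * s) g := (Subgroup.mem_center_iff.1 (hc hn) g).symm
    obtain ⟨i, hi⟩ := Q.isPGroup' ⟨g, hgQ⟩
    have hi' : g ^ p ^ i = 1 := congrArg Subtype.val hi
    have hpn : (g⁻¹ * s) ^ p ^ (i + k) = 1 := by
      have h1 : Commute g⁻¹ s := by
        have := hcn.symm.inv_left
        simpa [Commute, SemiconjBy, mul_assoc] using this
      rw [h1.mul_pow, inv_pow, pow_add, pow_mul g, hi', one_pow, inv_one, one_mul, mul_comm, pow_mul,
        ← hk, pow_orderOf_eq_one, one_pow]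
    obtain ⟨j, hj⟩ := hpow _ ⟨_, hpn⟩
    set n := g⁻¹ * s
    haveI : (Subgroup.zpowers n).Normal := ⟨fun z hz w => by
      rw [Subgroup.mem_center_iff.1 (Subgroup.zpowers_le.2 (hc hn) hz) w, mul_inv_cancel_right]
      exact hz⟩
    exact (IsPGroup.of_card (p := p) (n := j) (by rw [Nat.card_zpowers, hj]) : IsPGroup p (Subgroup.zpowers n)).le_sylow_of_normal Q (Subgroup.mem_zpowers n)
  haveI := Fintype.ofFinite T
  have hsum : Nat.card S = ∑ y : T, Nat.card {s : S // f s = y} := by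
    rw [← Nat.card_sigma]; exact Nat.card_congr (Equiv.sigmaFiberEquiv f).symm
  rw [← hmP P, hsum]
  refine ⟨?_, fun hc => ?_⟩
  · calc Nat.card T * (m * Nat.card (Pbar : Subgroup (G ⧸ N))) = (∑ _y : T, m) * Nat.card (Pbar : Subgroup (G ⧸ N)) := by
          rw [Finset.sum_const, Finset.card_univ, ← Nat.card_eq_fintype_card, smul_eq_mul, mul_assoc]
      _ ≤ _ := Nat.mul_le_mul_right _ (Finset.sum_le_sum fun y _ => (hfib y).1)
  · rw [Finset.sum_congr rfl fun y _ => (hfib y).2 hc, Finset.sum_const, Finset.card_univ,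
      ← Nat.card_eq_fintype_card, smul_eq_mul, mul_assoc]

end Cfsg.Agent.S4153
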