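import Cfsg.Statements.S4154
import Mathlib

set_option maxHeartbeats 1000000
set_option maxRecDepth 8000

set_option autoImplicit false
open Cfsg

namespace Cfsg.Agent.S4154

/-- Let G be a finite group and α an automorphism of G such that every element of G is the product of an element fixed by α and an element of the form g⁻¹α(g). If N is a normal α-invariant subgroup, then the automorphism ᾱ induced on G/N has the same property, and every coset fixed by ᾱ contains an element fixed by α (so the fixed points of ᾱ are the images of the fixed points of α). -/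
theorem result {G : Type*} [Group G] [Finite G] (α : MulAut G)
    (hccp : ∀ x : G, ∃ c g : G, α c = c ∧ x = c * (g⁻¹ * α g))
    (N : Subgroup G) [N.Normal] (hN : ∀ n ∈ N, α n ∈ N) :
    (∀ x : G, ∃ c g : G, c⁻¹ * α c ∈ N ∧ x⁻¹ * (c * (g⁻¹ * α g)) ∈ N) ∧
    (∀ x : G, x⁻¹ * α x ∈ N → ∃ c : G, α c = c ∧ c⁻¹ * x ∈ N) := by
  classical
  refine ⟨fun x => ?_, fun x hx => ?_⟩
  · obtain ⟨c, g, hc, hx⟩ := hccp x
    exact ⟨c, g, by rw [hc, inv_mul_cancel]; exact N.one_mem, by rw [← hx, inv_mul_cancel]; exact N.one_mem⟩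
  let C : Subgroup G :=
    { carrier := {c | α c = c}
      one_mem' := map_one α
      mul_mem' := fun {a b} (ha : α a = a) (hb : α b = b) => show α (a * b) = a * b by rw [map_mul, ha, hb]
      inv_mem' := fun {a} (ha : α a = a) => show α a⁻¹ = a⁻¹ by rw [map_inv, ha] }
  let f := QuotientGroup.mk' N
  let D : Subgroup (G ⧸ N) := Subgroup.map f
    { carrier := {y | y⁻¹ * α y ∈ N}
      one_mem' := by simp
      mul_mem' := fun {a b} (ha : a⁻¹ * α a ∈ N) (hb : b⁻¹ * α b ∈ N) => show (a * b)⁻¹ * α (a * b) ∈ N by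
        rw [map_mul, show (a * b)⁻¹ * (α a * α b) = b⁻¹ * (a⁻¹ * α a) * b⁻¹⁻¹ * (b⁻¹ * α b) by group]
        exact N.mul_mem ((inferInstance : N.Normal).conj_mem _ ha b⁻¹) hb
      inv_mem' := fun {a} (ha : a⁻¹ * α a ∈ N) => show a⁻¹⁻¹ * α a⁻¹ ∈ N by
        rw [map_inv, show a⁻¹⁻¹ * (α a)⁻¹ = a * (a⁻¹ * α a)⁻¹ * a⁻¹ by group]
        exact (inferInstance : N.Normal).conj_mem _ (N.inv_mem ha) a }
  set Cb := C.map f
  have hCD : Cb ≤ D := Subgroup.map_mono fun c (hc : α c = c) => by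
    show c⁻¹ * α c ∈ N
    rw [hc, inv_mul_cancel]; exact N.one_mem
  -- the twisted commutator map on cosets of `D`
  have hwell : ∀ g h : G, f g⁻¹ * f h ∈ D → f (g * α g⁻¹) = f (h * α h⁻¹) := by
    intro g h hgh
    rw [← map_mul] at hgh
    obtain ⟨y, hy, hye⟩ := hgh
    obtain ⟨n, hn⟩ : ∃ n : N, h = g * y * n := by
      have := QuotientGroup.eq.mp hye
      exact ⟨⟨y⁻¹ * (g⁻¹ * h), this⟩, by simp [mul_assoc]⟩
    apply QuotientGroup.eq.mpr
    have hαn : α (n : G) ∈ N := hN _ n.2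
    have key : (g * α g⁻¹)⁻¹ * (h * α h⁻¹) = α g * ((y * n) * (α (n : G))⁻¹ * (α y)⁻¹) * (α g)⁻¹ := by
      rw [hn, map_inv, map_inv, map_mul, map_mul]; group
    rw [key]
    refine (inferInstance : N.Normal).conj_mem _ ?_ _
    rw [show y * ↑n * (α (n : G))⁻¹ * (α y)⁻¹ = (y * (↑n * (α (n : G))⁻¹) * y⁻¹) * (y * (y⁻¹ * α y)⁻¹ * y⁻¹) by
      group]
    exact N.mul_mem ((inferInstance : N.Normal).conj_mem _ (N.mul_mem n.2 (N.inv_mem hαn)) y)
      ((inferInstance : N.Normal).conj_mem _ (N.inv_mem hy) y)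
  let τ : (G ⧸ N) ⧸ D → G ⧸ N := fun q => f (q.out.out * α (q.out.out)⁻¹)
  have hout : ∀ g : G, τ (QuotientGroup.mk (f g) : (G ⧸ N) ⧸ D) = f (g * α g⁻¹) := fun g => by
    apply hwell
    set q := (QuotientGroup.mk (f g) : (G ⧸ N) ⧸ D)
    have h1 : f q.out.out = q.out := QuotientGroup.out_eq' q.out
    rw [map_inv, h1]
    exact QuotientGroup.eq.mp (QuotientGroup.out_eq' q)
  have hsurj : Function.Surjective (fun p : Cb × ((G ⧸ N) ⧸ D) => (p.1 : G ⧸ N) * τ p.2) := by
    intro q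
    obtain ⟨z, rfl⟩ := QuotientGroup.mk'_surjective N q
    obtain ⟨c, g, hc, hz⟩ := hccp z
    refine ⟨(⟨f c, Subgroup.mem_map_of_mem f (show c ∈ C from hc)⟩, QuotientGroup.mk (f g⁻¹)), ?_⟩
    show f c * τ _ = f z
    rw [hout, hz, inv_inv, map_mul f c]
  have hle := Nat.card_le_card_of_surjective _ hsurj
  rw [Nat.card_prod, show Nat.card ((G ⧸ N) ⧸ D) = D.index from rfl, ← D.card_mul_index] at hle
  have heq : Cb = D := Subgroup.eq_of_le_of_card_ge hCD
    (Nat.le_of_mul_le_mul_right hle (Nat.pos_of_ne_zero Subgroup.index_ne_zero_of_finite))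
  have hxD : f x ∈ Cb := by rw [heq]; exact Subgroup.mem_map_of_mem f hx
  obtain ⟨c, hc, hce⟩ := hxD
  exact ⟨c, hc, QuotientGroup.eq.mp hce⟩

end Cfsg.Agent.S4154
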