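import Cfsg.Statements.S4155
import Mathlib
import Cfsg.Agent.Lib.Grp.Zassenhaus.Basics
import Cfsg.Agent.Lib.Grp.FpfDual
import Cfsg.Agent.Lib.Grp.Cores

set_option maxHeartbeats 1000000
set_option maxRecDepth 8000

set_option autoImplicit false
open Cfsg

namespace Cfsg.Agent.S4155

open Cfsg.Agent

variable {G : Type*} [Group G] [Finite G] (N : Subgroup G)

theorem fixed_eq_one (heq : ∀ x : G, x ∉ N → ∀ n ∈ N, orderOf (x * n) = orderOf x) {q r : ℕ} [Fact q.Prime] [Fact r.Prime]
    (hqr : q ≠ r) {x k : G} {i j : ℕ} (hx : x ∉ N) (hk : k ∈ N) (hxq : x ^ q ^ i = 1) (hkr : k ^ r ^ j = 1)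
    (hc : x * k = k * x) : k = 1 := by
  have hco : (orderOf x).Coprime (orderOf k) :=
    ((Nat.coprime_primes (Fact.out : q.Prime) (Fact.out : r.Prime)).2 hqr).pow i j |>.coprime_dvd_left (orderOf_dvd_of_pow_eq_one hxq)
      |>.coprime_dvd_right (orderOf_dvd_of_pow_eq_one hkr)
  have := heq x hx k hk
  rw [Commute.orderOf_mul_eq_mul_orderOf_of_coprime hc hco] at this
  exact orderOf_eq_one_iff.1 (Nat.eq_of_mul_eq_mul_left (orderOf_pos x) (by rw [this, mul_one]))

theorem exists_other_prime (hN1 : N ≠ ⊥) (hnpp : ¬ IsPrimePow (Nat.card N)) (q : ℕ) [hq : Fact q.Prime] :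
    ∃ r : ℕ, r.Prime ∧ q ≠ r ∧ r ∣ Nat.card N := by
  by_contra h
  push Not at h
  have h1 : ∀ r : ℕ, r.Prime → r ∣ Nat.card N → r = q := fun r hr hd => by
    by_contra hne
    exact h r hr (Ne.symm hne) hd
  have h2 := Nat.eq_prime_pow_of_unique_prime_dvd Nat.card_pos.ne' (p := q) (fun {r} hr hd => h1 r hr hd)
  refine hnpp ?_
  rw [isPrimePow_nat_iff]
  refine ⟨q, (Nat.card N).primeFactorsList.length, hq.out, Nat.pos_of_ne_zero fun e => ?_, h2.symm⟩
  rw [e, pow_zero] at h2
  exact hN1 (Subgroup.card_eq_one.1 h2)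

/-- Let G be a finite group and N a proper non-trivial normal nilpotent subgroup whose order is not a prime power, such that for every x outside N all elements of the coset xN have the same order as x. Then N is the Fitting subgroup of G, and for every prime q every Sylow q-subgroup of G/N is cyclic or generalized quaternion. -/
theorem result {G : Type*} [Group G] [Finite G] (N : Subgroup G) [N.Normal] (hN1 : N ≠ ⊥) (hN2 : N ≠ ⊤)
    (heq : ∀ x : G, x ∉ N → ∀ n ∈ N, orderOf (x * n) = orderOf x)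
    (hnil : Group.IsNilpotent N) (hnpp : ¬ IsPrimePow (Nat.card N)) :
    N = Cfsg.fittingSubgroup G ∧
    ∀ (q : ℕ) [Fact q.Prime] (Q : Sylow q (G ⧸ N)), IsCyclic (Q : Subgroup (G ⧸ N)) ∨ ∃ n : ℕ, Nonempty ((Q : Subgroup (G ⧸ N)) ≃* QuaternionGroup (2 ^ n)) := by

  haveI := hnil
  haveI := Grp.fittingSubgroup_isNormal (G := G)
  refine ⟨le_antisymm (le_sSup ⟨inferInstance, hnil⟩) ?_, fun q _ Qb => ?_⟩
  · set F := Cfsg.fittingSubgroup G
    have hFn : Group.IsNilpotent F := Grp.fittingSubgroup_isNilpotent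
    intro x hxF
    by_contra hxN
    -- some Sylow subgroup of F is not in N
    obtain ⟨q, hq, Q, hQ⟩ : ∃ (q : ℕ) (_ : Fact q.Prime) (Q : Sylow q F), ¬ (Q : Subgroup F) ≤ N.subgroupOf F := by
      by_contra h
      push Not at h
      have hdvd : Nat.card F ∣ Nat.card (N.subgroupOf F) := by
        refine Nat.dvd_iff_prime_pow_dvd_dvd _ _ |>.2 fun r k hr hrk => ?_
        haveI := Fact.mk hr
        refine Dvd.dvd.trans ?_ (Subgroup.card_dvd_of_le (h r ⟨hr⟩ default))
        rw [Sylow.card_eq_multiplicity]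
        exact pow_dvd_pow r ((hr.pow_dvd_iff_le_factorization Nat.card_pos.ne').1 hrk)
      have htop : N.subgroupOf F = ⊤ := Subgroup.eq_top_of_le_card _ (Nat.le_of_dvd Nat.card_pos hdvd)
      exact hxN (Subgroup.subgroupOf_eq_top.1 htop hxF)
    obtain ⟨y, hy, hyN⟩ := SetLike.not_le_iff_exists.1 hQ
    obtain ⟨i, hi⟩ := Q.isPGroup' ⟨y, hy⟩
    have hyi : y ^ q ^ i = 1 := congrArg Subtype.val hi
    obtain ⟨r, hr, hqr, hrN⟩ := exists_other_prime N hN1 hnpp q
    haveI := Fact.mk hr
    obtain ⟨k, hk⟩ := exists_prime_orderOf_dvd_card' r hrN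
    have hkF : (k : G) ∈ F := (le_sSup ⟨inferInstance, hnil⟩ : N ≤ F) k.2
    have hkr : (k : G) ^ r ^ 1 = 1 := by rw [pow_one, ← hk, ← Subgroup.orderOf_coe, pow_orderOf_eq_one]
    have hcomm := Grp.commute_of_nilpotent_coprime hFn hqr hyi (y := (⟨k, hkF⟩ : F)) (j := 1) (Subtype.ext hkr)
    have := fixed_eq_one N heq hqr (x := (y : G)) (k := (k : G)) (i := i) (j := 1) hyN k.2 (by
      rw [← Subgroup.coe_pow, hyi]; rfl) hkr (congrArg Subtype.val hcomm)
    rw [← Subgroup.orderOf_coe, this, orderOf_one] at hk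
    exact hr.one_lt.ne hk
  · classical
    have hmk : Function.Surjective (QuotientGroup.mk' N) := QuotientGroup.mk'_surjective N
    obtain ⟨Q, rfl⟩ := Sylow.mapSurjective_surjective hmk q Qb
    let g : (Q : Subgroup G) →* G ⧸ N := (QuotientGroup.mk' N).comp (Q : Subgroup G).subtype
    have hrange : g.range = ((Q.mapSurjective hmk : Sylow q (G ⧸ N)) : Subgroup (G ⧸ N)) := by
      rw [MonoidHom.range_comp, Subgroup.range_subtype]; rfl
    rcases subsingleton_or_nontrivial g.range with hs | hs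
    · haveI : IsCyclic g.range := inferInstance
      exact Or.inl (hrange ▸ (inferInstance : IsCyclic g.range))
    obtain ⟨r, hr, hqr, hrN⟩ := exists_other_prime N hN1 hnpp q
    haveI := Fact.mk hr
    obtain ⟨R0⟩ : Nonempty (Sylow r N) := inferInstance
    haveI hR0n : (R0 : Subgroup N).Normal := Sylow.normal_of_normalizerCondition Group.normalizerCondition_of_isNilpotent R0
    haveI : (R0 : Subgroup N).Characteristic := R0.characteristic_of_normal hR0n
    let R : Subgroup G := (R0 : Subgroup N).map N.subtype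
    haveI : R.Normal := inferInstance
    haveI : Nontrivial R := by
      rw [Subgroup.nontrivial_iff_ne_bot]
      intro e
      rw [Subgroup.map_eq_bot_iff_of_injective _ N.subtype_injective] at e
      exact R0.ne_bot_of_dvd_card hrN e
    let φ₀ : (Q : Subgroup G) →* MulAut R := (MulAut.conjNormal : G →* MulAut R).comp (Q : Subgroup G).subtype
    have hRN : ∀ k : R, ∃ j, (k : G) ^ r ^ j = 1 ∧ (k : G) ∈ N := by
      rintro ⟨_, u, hu, rfl⟩
      obtain ⟨j, hj⟩ := R0.isPGroup' ⟨u, hu⟩
      exact ⟨j, congrArg (fun z : (R0 : Subgroup N) => ((z : N) : G)) hj, u.2⟩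
    have hfix : ∀ x : (Q : Subgroup G), (x : G) ∉ N → ∀ k : R, φ₀ x k = k → k = 1 := by
      intro x hx k hk
      obtain ⟨i, hi⟩ := Q.isPGroup' x
      obtain ⟨j, hj, hkN⟩ := hRN k
      have h1 : (x : G) * k * (x : G)⁻¹ = k := congrArg Subtype.val hk
      exact Subtype.ext (fixed_eq_one N heq hqr hx hkN (congrArg Subtype.val hi) hj (mul_inv_eq_iff_eq_mul.1 h1))
    have hker : φ₀.ker = g.ker := by
      ext x
      have hg : x ∈ g.ker ↔ (x : G) ∈ N := by
        rw [MonoidHom.mem_ker]; exact QuotientGroup.eq_one_iff _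
      rw [hg]
      constructor
      · intro hx
        by_contra hxN
        obtain ⟨k, hk⟩ := exists_ne (1 : R)
        exact hk (hfix x hxN k (by rw [MonoidHom.mem_ker.1 hx]; rfl))
      · intro hxN
        refine MulEquiv.ext fun k => Subtype.ext ?_
        obtain ⟨i, hi⟩ := Q.isPGroup' x
        obtain ⟨j, hj, hkN⟩ := hRN k
        have := Grp.commute_of_nilpotent_coprime hnil hqr (x := (⟨x, hxN⟩ : N)) (y := ⟨k, hkN⟩) (i := i) (j := j)
          (Subtype.ext (congrArg Subtype.val hi :)) (Subtype.ext hj)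
        show (x : G) * k * (x : G)⁻¹ = k
        rw [show (x : G) * k = k * x from congrArg Subtype.val this, mul_inv_cancel_right]
    let e : φ₀.range ≃* g.range := (QuotientGroup.quotientKerEquivRange φ₀).symm.trans
      ((QuotientGroup.quotientMulEquivOfEq hker).trans (QuotientGroup.quotientKerEquivRange g))
    haveI : Nontrivial φ₀.range := e.toEquiv.nontrivial
    haveI : Finite (MulAut R) := Finite.of_injective (fun e : MulAut R => (e : R → R)) DFunLike.coe_injective
    have hf : Grp.Zas.HasFpf φ₀.range := Grp.Zas.hasFpf_of_fpf_aut φ₀.range.subtype (by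
      rintro ⟨_, x, rfl⟩ hne k hk
      refine hfix x (fun hxN => hne ?_) k hk
      have : x ∈ φ₀.ker := hker ▸ (QuotientGroup.eq_one_iff _).2 hxN
      exact Subtype.ext this)
    have hp : IsPGroup q φ₀.range := Q.isPGroup'.of_surjective φ₀.rangeRestrict φ₀.rangeRestrict_surjective
    have hp' : IsPGroup q (⊤ : Subgroup φ₀.range) := hp.to_subgroup ⊤
    obtain ⟨P, hP⟩ := hp'.exists_le_sylow
    have htop : (P : Subgroup φ₀.range) = ⊤ := top_le_iff.1 hP
    · rw [← hrange]
      rcases hf.sylow_cases P with hc | ⟨-, n, ⟨hn⟩⟩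
      · left
        haveI := hc
        exact isCyclic_of_surjective ((e.toMonoidHom).comp (P : Subgroup φ₀.range).subtype) fun y => by
          obtain ⟨z, rfl⟩ := e.surjective y
          exact ⟨⟨z, hP (Subgroup.mem_top z)⟩, rfl⟩
      · exact Or.inr ⟨n, ⟨e.symm.trans (Subgroup.topEquiv.symm.trans ((MulEquiv.subgroupCongr htop.symm).trans hn))⟩⟩

end Cfsg.Agent.S4155
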