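import Cfsg.Statements.S4156
import Mathlib

set_option maxHeartbeats 1000000
set_option maxRecDepth 8000

set_option autoImplicit false
open Cfsg

namespace Cfsg.Agent.S4156

/-- The matrix of a permutation on the vectors of coordinate sum zero. -/
def delMat {n : ℕ} (F : Type*) [Field F] (σ : Equiv.Perm (Fin (n + 1))) : Matrix (Fin n) (Fin n) F :=
  Matrix.of fun i j => (if σ j.castSucc = i.castSucc then 1 else 0) - (if σ (Fin.last n) = i.castSucc then 1 else 0)

theorem delMat_mul {n : ℕ} (F : Type*) [Field F] (σ τ : Equiv.Perm (Fin (n + 1))) :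
    delMat F σ * delMat F τ = delMat F (σ * τ) := by
  ext i k
  let g : Fin (n + 1) → F := fun j => (if σ j = i.castSucc then 1 else 0) - (if σ (Fin.last n) = i.castSucc then 1 else 0)
  let h : Fin (n + 1) → F := fun j => (if τ k.castSucc = j then 1 else 0) - (if τ (Fin.last n) = j then 1 else 0)
  have h1 : (delMat F σ * delMat F τ) i k = ∑ j : Fin (n + 1), g j * h j := by
    rw [Fin.sum_univ_castSucc, show g (Fin.last n) = 0 from sub_self _, zero_mul, add_zero]
    rfl
  rw [h1]
  simp only [h, mul_sub, Finset.sum_sub_distrib, mul_ite, mul_one, mul_zero, Finset.sum_ite_eq, Finset.mem_univ, if_true]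
  simp [g, delMat, Equiv.Perm.mul_apply]
  congr

theorem delMat_one {n : ℕ} (F : Type*) [Field F] : delMat F (1 : Equiv.Perm (Fin (n + 1))) = 1 := by
  ext i j
  have h2 : Fin.last n ≠ i.castSucc := (Fin.castSucc_lt_last i).ne'
  simp [delMat, h2, Matrix.one_apply, eq_comm]


/-- Let n ≥ 5 and F a finite field. Then the projective special linear group PSL_n(F) contains a subgroup isomorphic to the alternating group of degree n + 1. -/
theorem result (n : ℕ) (hn : 5 ≤ n) (F : Type*) [Field F] [Finite F] :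
    ∃ f : alternatingGroup (Fin (n + 1)) →* Matrix.ProjectiveSpecialLinearGroup (Fin n) F, Function.Injective f := by

  classical
  set A := alternatingGroup (Fin (n + 1))
  haveI : IsSimpleGroup A := alternatingGroup.isSimpleGroup (by simp; omega)
  let d : A →* F :=
    { toFun := fun σ => (delMat F (σ : Equiv.Perm (Fin (n + 1)))).det
      map_one' := by rw [OneMemClass.coe_one, delMat_one, Matrix.det_one]
      map_mul' := fun σ τ => by rw [Subgroup.coe_mul, ← delMat_mul, Matrix.det_mul] }
  -- a three-cycle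
  set a : Fin (n + 1) := ⟨0, by omega⟩
  set b : Fin (n + 1) := ⟨1, by omega⟩
  set c : Fin (n + 1) := ⟨2, by omega⟩
  have hab : a ≠ b := by simp [a, b, Fin.ext_iff]
  have hac : a ≠ c := by simp [a, c, Fin.ext_iff]
  have hbc : b ≠ c := by simp [b, c, Fin.ext_iff]
  let σ : A := ⟨Equiv.swap a b * Equiv.swap a c, Equiv.Perm.mem_alternatingGroup.2 (by simp [hab, hac])⟩
  let τ : A := ⟨Equiv.swap a b * Equiv.swap c ⟨3, by omega⟩, Equiv.Perm.mem_alternatingGroup.2 (by simp [hab, c, Fin.ext_iff])⟩
  have hd : ∀ x, d x = 1 := by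
    have hker : d.toHomUnits.ker = ⊤ := by
      refine (IsSimpleGroup.eq_bot_or_eq_top_of_normal _ inferInstance).resolve_left fun h => ?_
      have hinj := (MonoidHom.ker_eq_bot_iff _).1 h
      have h1 : σ * τ = τ * σ := hinj (by rw [map_mul, map_mul, mul_comm])
      have h2 := congrArg (fun x : A => (x : Equiv.Perm (Fin (n + 1))) a) h1
      simp [σ, τ, Equiv.Perm.mul_apply, Equiv.swap_apply_def, a, b, c, Fin.ext_iff] at h2
    intro x
    have hx : x ∈ d.toHomUnits.ker := hker ▸ Subgroup.mem_top x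
    exact congrArg Units.val hx
  let f : A →* Matrix.SpecialLinearGroup (Fin n) F :=
    { toFun := fun σ => ⟨delMat F (σ : Equiv.Perm (Fin (n + 1))), hd σ⟩
      map_one' := Subtype.ext (delMat_one F)
      map_mul' := fun σ τ => Subtype.ext (delMat_mul F _ _).symm }
  refine ⟨(QuotientGroup.mk' _).comp f, (MonoidHom.ker_eq_bot_iff _).1 ?_⟩
  refine (IsSimpleGroup.eq_bot_or_eq_top_of_normal _ inferInstance).resolve_right fun h => ?_
  have hσ : σ ∈ ((QuotientGroup.mk' (Subgroup.center (Matrix.SpecialLinearGroup (Fin n) F))).comp f).ker := h ▸ Subgroup.mem_top σ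
  have hσc : f σ ∈ Subgroup.center (Matrix.SpecialLinearGroup (Fin n) F) := (QuotientGroup.eq_one_iff _).1 hσ
  obtain ⟨r, -, hr⟩ := Matrix.SpecialLinearGroup.mem_center_iff.1 hσc
  have h3 := congrFun (congrFun hr (⟨2, by omega⟩ : Fin n)) (⟨0, by omega⟩ : Fin n)
  have e1 : (σ : Equiv.Perm (Fin (n + 1))) a = c := by
    show Equiv.swap a b (Equiv.swap a c a) = c
    rw [Equiv.swap_apply_left, Equiv.swap_apply_of_ne_of_ne hac.symm hbc.symm]
  have e2 : (σ : Equiv.Perm (Fin (n + 1))) (Fin.last n) = Fin.last n := by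
    show Equiv.swap a b (Equiv.swap a c (Fin.last n)) = Fin.last n
    have na : Fin.last n ≠ a := by simp [a, Fin.ext_iff]; omega
    have nb : Fin.last n ≠ b := by simp [b, Fin.ext_iff]; omega
    have nc : Fin.last n ≠ c := by simp [c, Fin.ext_iff]; omega
    rw [Equiv.swap_apply_of_ne_of_ne na nc, Equiv.swap_apply_of_ne_of_ne na nb]
  have e3 : (f σ : Matrix (Fin n) (Fin n) F) ⟨2, by omega⟩ ⟨0, by omega⟩ = 1 := by
    show (if (σ : Equiv.Perm (Fin (n + 1))) a = c then (1 : F) else 0) -
      (if (σ : Equiv.Perm (Fin (n + 1))) (Fin.last n) = c then 1 else 0) = 1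
    rw [if_pos e1, if_neg (by rw [e2]; simp [c, Fin.ext_iff]; omega), sub_zero]
  rw [e3, Matrix.scalar_apply, Matrix.diagonal_apply_ne _ (by simp [Fin.ext_iff])] at h3
  exact zero_ne_one h3

end Cfsg.Agent.S4156
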