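import Cfsg.Statements.S4160
import Mathlib
import Cfsg.Agent.Lib.Transfer.NormalComplement

set_option maxHeartbeats 1000000
set_option maxRecDepth 8000

set_option autoImplicit false
open Cfsg

namespace Cfsg.Agent.S4160

open Subgroup in
theorem npc_or_half {G : Type*} [Group G] [Finite G] (p : ℕ) [Fact p.Prime] :
    Cfsg.HasNormalPComplement p G ∨ ∀ P : Sylow p G,
      2 * (Nat.card (Sylow p G) * Nat.card (Subgroup.centralizer ((P : Subgroup G) : Set G))) ≤ Nat.card G := by
  by_cases hne : ∃ P : Sylow p G, Subgroup.normalizer ((P : Subgroup G) : Set G) ≤ Subgroup.centralizer ((P : Subgroup G) : Set G)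
  · obtain ⟨P, hP⟩ := hne
    exact Or.inl ⟨P, _, inferInstance, MonoidHom.ker_transferSylow_isComplement' P hP⟩
  · right
    intro P
    have hlt : Subgroup.centralizer ((P : Subgroup G) : Set G) < Subgroup.normalizer ((P : Subgroup G) : Set G) :=
      lt_of_le_not_ge (Subgroup.centralizer_le_normalizer _) fun h => hne ⟨P, h⟩
    set C := Subgroup.centralizer ((P : Subgroup G) : Set G)
    set N := Subgroup.normalizer ((P : Subgroup G) : Set G)
    obtain ⟨k, hk⟩ := Subgroup.card_dvd_of_le hlt.le
    have hk2 : 2 ≤ k := by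
      rcases k with _ | _ | k
      · exact absurd hk (by simp [Nat.card_pos.ne'])
      · exact absurd (Subgroup.eq_of_le_of_card_ge hlt.le (by simp [hk])) hlt.ne
      · omega
    have hN : N.index * Nat.card N = Nat.card G := N.index_mul_card
    rw [← hN, Sylow.card_eq_index_normalizer P]
    show 2 * (N.index * Nat.card C) ≤ N.index * Nat.card N
    rw [hk]
    calc 2 * (N.index * Nat.card C) = N.index * (Nat.card C * 2) := by ring
      _ ≤ N.index * (Nat.card C * k) := Nat.mul_le_mul_left _ (Nat.mul_le_mul_left _ hk2)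

theorem exists_sylow_le {G : Type*} [Group G] [Finite G] (p : ℕ) [hp : Fact p.Prime] {x : G}
    (h : ¬ p ∣ (Subgroup.centralizer ({x} : Set G)).index) :
    ∃ P : Sylow p G, x ∈ Subgroup.centralizer ((P : Subgroup G) : Set G) := by
  set C := Subgroup.centralizer ({x} : Set G) with hC
  obtain ⟨Q⟩ : Nonempty (Sylow p C) := inferInstance
  have hcard : Nat.card ((Q : Subgroup C).map C.subtype) = p ^ (Nat.card G).factorization p := by
    rw [Subgroup.card_map_of_injective C.subtype_injective, Q.card_eq_multiplicity, ← C.card_mul_index,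
      Nat.factorization_mul Nat.card_pos.ne' Subgroup.index_ne_zero_of_finite]
    simp [Nat.factorization_eq_zero_of_not_dvd h]
  refine ⟨Sylow.ofCard _ hcard, ?_⟩
  rw [Subgroup.mem_centralizer_iff]
  intro y hy
  rw [Sylow.coe_ofCard] at hy
  obtain ⟨z, -, rfl⟩ := hy
  exact Subgroup.mem_centralizer_singleton_iff.1 z.2


/-- Let G be a finite group and p ≠ q primes each dividing the size of some conjugacy class of G, such that no conjugacy class size is divisible by pq. Then G has a normal p-complement or a normal q-complement. -/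
theorem result {G : Type*} [Group G] [Finite G] (p q : ℕ) (hp : p.Prime) (hq : q.Prime) (hpq : p ≠ q)
    (hp' : ∃ x : G, p ∣ (Subgroup.centralizer ({x} : Set G)).index) (hq' : ∃ x : G, q ∣ (Subgroup.centralizer ({x} : Set G)).index) (h : ∀ x : G, ¬ p * q ∣ (Subgroup.centralizer ({x} : Set G)).index) :
    Cfsg.HasNormalPComplement p G ∨ Cfsg.HasNormalPComplement q G := by

  classical
  haveI : Fact p.Prime := ⟨hp⟩
  haveI : Fact q.Prime := ⟨hq⟩
  rcases npc_or_half (G := G) p with h1 | h1
  · exact Or.inl h1
  rcases npc_or_half (G := G) q with h2 | h2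
  · exact Or.inr h2
  exfalso
  cases nonempty_fintype G
  let U : ∀ r : ℕ, Finset G := fun r => Finset.univ.biUnion fun R : Sylow r G =>
    (Finset.univ.filter fun x : G => x ∈ Subgroup.centralizer ((R : Subgroup G) : Set G)).erase 1
  have hU : ∀ r : ℕ, Fact r.Prime → (∀ R : Sylow r G,
      2 * (Nat.card (Sylow r G) * Nat.card (Subgroup.centralizer ((R : Subgroup G) : Set G))) ≤ Nat.card G) →
      2 * ((U r).card + 1) ≤ Nat.card G := by
    intro r hr hh
    haveI := hr
    obtain ⟨R₀⟩ : Nonempty (Sylow r G) := inferInstance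
    set c := Finset.univ.sup fun R : Sylow r G => Nat.card (Subgroup.centralizer ((R : Subgroup G) : Set G))
    obtain ⟨R₁, -, hR₁⟩ := Finset.exists_mem_eq_sup Finset.univ Finset.univ_nonempty
      fun R : Sylow r G => Nat.card (Subgroup.centralizer ((R : Subgroup G) : Set G))
    have hb : (U r).card ≤ (Finset.univ : Finset (Sylow r G)).card * (c - 1) := by
      refine Finset.card_biUnion_le_card_mul _ _ _ fun R _ => ?_
      rw [Finset.card_erase_of_mem (by simp), ← Fintype.card_subtype, ← Nat.card_eq_fintype_card]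
      exact Nat.sub_le_sub_right (Finset.le_sup (f := fun R : Sylow r G =>
        Nat.card (Subgroup.centralizer ((R : Subgroup G) : Set G))) (Finset.mem_univ R)) 1
    have hc : 0 < c := by
      rw [show c = _ from hR₁]; exact Nat.card_pos
    have hn : 0 < (Finset.univ : Finset (Sylow r G)).card := Finset.card_pos.2 Finset.univ_nonempty
    have h3 := hh R₁
    rw [← show c = _ from hR₁, Nat.card_eq_fintype_card (α := Sylow r G), ← Finset.card_univ] at h3
    have h4 : (Finset.univ : Finset (Sylow r G)).card * (c - 1) + (Finset.univ : Finset (Sylow r G)).card =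
        (Finset.univ : Finset (Sylow r G)).card * c := by
      rw [← Nat.mul_succ, Nat.succ_eq_add_one, Nat.sub_add_cancel hc]
    omega
  have hcover : (Finset.univ : Finset G).erase 1 ⊆ U p ∪ U q := by
    intro x hx
    have hx1 : x ≠ 1 := (Finset.mem_erase.1 hx).1
    have : ¬ p ∣ (Subgroup.centralizer ({x} : Set G)).index ∨ ¬ q ∣ (Subgroup.centralizer ({x} : Set G)).index := by
      by_contra hc
      push Not at hc
      exact h x (((Nat.coprime_primes hp hq).2 hpq).mul_dvd_of_dvd_of_dvd hc.1 hc.2)
    rw [Finset.mem_union]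
    rcases this with hh | hh
    · obtain ⟨R, hR⟩ := exists_sylow_le p hh
      exact Or.inl (Finset.mem_biUnion.2 ⟨R, Finset.mem_univ _, Finset.mem_erase.2 ⟨hx1, Finset.mem_filter.2 ⟨Finset.mem_univ _, hR⟩⟩⟩)
    · obtain ⟨R, hR⟩ := exists_sylow_le q hh
      exact Or.inr (Finset.mem_biUnion.2 ⟨R, Finset.mem_univ _, Finset.mem_erase.2 ⟨hx1, Finset.mem_filter.2 ⟨Finset.mem_univ _, hR⟩⟩⟩)
  have h5 := (Finset.card_le_card hcover).trans (Finset.card_union_le _ _)
  rw [Finset.card_erase_of_mem (Finset.mem_univ _), Finset.card_univ, ← Nat.card_eq_fintype_card] at h5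
  have h6 := hU p inferInstance h1
  have h7 := hU q inferInstance h2
  omega

end Cfsg.Agent.S4160
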