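import Cfsg.Statements.S4168
import Mathlib

-- import your own Cfsg.Agent.* helpers here

set_option autoImplicit false
set_option linter.style.haveILetI false
open Cfsg

namespace Cfsg.Agent.S4168

/-- Let L be a finite quasisimple group (perfect with L/Z(L) simple). Then every prime dividing the order of the centre Z(L) also divides the order of L/Z(L). -/
theorem result {L : Type*} [Group L] [Finite L] (hL : Cfsg.IsQuasisimple L)
    (p : ℕ) (hp : p.Prime) (hdiv : p ∣ Nat.card (Subgroup.center L)) : p ∣ (Subgroup.center L).index := by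
  haveI := Fact.mk hp
  haveI hperf : Group.IsPerfect L := hL.1
  by_contra hnd
  obtain ⟨P⟩ : Nonempty (Sylow p L) := inferInstance
  have hle : (P : Subgroup L) ≤ Subgroup.center L := by
    intro x hx
    obtain ⟨k, hk⟩ := IsPGroup.iff_orderOf.1 P.isPGroup' ⟨x, hx⟩
    rw [Subgroup.orderOf_mk] at hk
    have h1 : orderOf (QuotientGroup.mk' (Subgroup.center L) x) ∣ p ^ k := hk ▸ orderOf_map_dvd _ x
    have h2 : orderOf (QuotientGroup.mk' (Subgroup.center L) x) ∣ (Subgroup.center L).index :=
      orderOf_dvd_natCard _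
    have h3 := Nat.dvd_one.1 ((((hp.coprime_iff_not_dvd.2 hnd).pow_left k) : Nat.gcd _ _ = 1) ▸ Nat.dvd_gcd h1 h2)
    rw [orderOf_eq_one_iff, QuotientGroup.mk'_apply, QuotientGroup.eq_one_iff] at h3
    exact h3
  have hN : Subgroup.normalizer ((P : Subgroup L) : Set L) ≤ Subgroup.centralizer ((P : Subgroup L) : Set L) :=
    fun g _ => Subgroup.mem_centralizer_iff.2 fun a ha => (Subgroup.mem_center_iff.1 (hle ha) g).symm
  have hc := MonoidHom.ker_transferSylow_isComplement' P hN
  have htop : (MonoidHom.transferSylow P hN).ker = ⊤ := by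
    haveI : IsMulCommutative (P : Subgroup L) := ⟨⟨fun a b => Subtype.ext
      ((Subgroup.mem_center_iff.1 (hle a.2) (b : L)).symm)⟩⟩
    rw [eq_top_iff, ← hperf.commutator_eq_top]
    open scoped IsMulCommutative in
      exact Abelianization.commutator_subset_ker _
  rw [htop, Subgroup.isComplement'_top_left] at hc
  exact P.ne_bot_of_dvd_card (hdiv.trans (Subgroup.card_subgroup_dvd_card _)) hc

end Cfsg.Agent.S4168
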