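import Cfsg.Statements.S4169
import Mathlib
import Cfsg.Agent.Lib.Transfer.SmallClasses
import Cfsg.Agent.Lib.Invol.OneInvol

set_option maxHeartbeats 1000000
set_option maxRecDepth 8000

set_option autoImplicit false
open Cfsg
open scoped commutatorElement

namespace Cfsg.Agent.S4169

/-- Let P be a finite p-group whose conjugacy classes have exactly two sizes (1 and one other value). Then P has nilpotency class at most 3. -/
theorem result {P : Type*} [Group P] [Finite P] {p : ℕ} [Fact p.Prime] (hP : IsPGroup p P)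
    (m : ℕ) (hm : 1 < m) (h : ∀ x : P, (Subgroup.centralizer ({x} : Set P)).index = 1 ∨ (Subgroup.centralizer ({x} : Set P)).index = m) :
    upperCentralSeries P 3 = ⊤ := by
  haveI := hP.isNilpotent
  obtain ⟨A, hAn, hAab, hAs⟩ := Cfsg.Agent.OneInvol.exists_selfCentralizing_abelian (R := P)
  haveI := hAn
  have hA : IsMulCommutative A := ⟨⟨fun a b => Subtype.ext (hAab a a.2 b b.2).eq⟩⟩
  have hCA : Subgroup.centralizer (A : Set P) = A := by
    refine le_antisymm (fun x hx => hAs x fun a ha => (Subgroup.mem_centralizer_iff.1 hx a ha)) fun a ha => ?_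
    exact Subgroup.mem_centralizer_iff.2 fun b hb => (hAab b hb a ha).eq
  have h3 := Cfsg.Agent.Transfer.SmallClasses.upperCentralSeries_three A hA hCA (m := m)
    (fun g hg => ((h g).resolve_left (by omega)).ge) Set.univ (fun x _ => by rcases h x with h1 | h1 <;> omega)
  show Subgroup.upperCentralSeries P (2 + 1) = ⊤
  rw [eq_top_iff]
  intro g _
  rw [Subgroup.mem_upperCentralSeries_succ_iff]
  intro g'
  rw [Subgroup.mem_upperCentralSeries_succ_iff]
  intro k
  rw [Subgroup.upperCentralSeries_one, Subgroup.mem_center_iff]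
  intro l
  have hm' : ∀ x : P, x ∈ Subgroup.closure (Set.univ : Set P) := fun x => Subgroup.subset_closure (Set.mem_univ x)
  have h4 : (⟨g, hm' g⟩ : Subgroup.closure (Set.univ : Set P)) ∈ Subgroup.upperCentralSeries _ 3 := h3 ▸ Subgroup.mem_top _
  have h5 := (Subgroup.mem_upperCentralSeries_succ_iff.1 ((Subgroup.mem_upperCentralSeries_succ_iff.1 h4) ⟨g', hm' g'⟩)) ⟨k, hm' k⟩
  rw [Subgroup.upperCentralSeries_one, Subgroup.mem_center_iff] at h5
  exact congrArg Subtype.val (h5 ⟨l, hm' l⟩)

end Cfsg.Agent.S4169
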