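import Cfsg.Statements.S4170
import Cfsg.Agent.Lib.Invol.SylowFixBound

set_option autoImplicit false
open scoped Pointwise
open scoped Pointwise
open Cfsg

namespace Cfsg.Agent.S4170

/-- Let p be an odd prime and G a nontrivial group of permutations of a finite set Ω that is generated by its elements of p-power order. Then Ω has two disjoint nonempty subsets Δ₁ and Δ₂ such that the index in G of the subgroup of elements mapping Δ₁ onto Δ₁ and Δ₂ onto Δ₂ (and hence also the complement of their union onto itself) is divisible by p. -/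
theorem result {Ω : Type*} [Fintype Ω] (p : ℕ) [Fact p.Prime] (hp : p ≠ 2) (G : Subgroup (Equiv.Perm Ω)) (hG : G ≠ ⊥) (hgen : Subgroup.closure {g : G | ∃ k : ℕ, orderOf g = p ^ k} = ⊤) :
    ∃ Δ₁ Δ₂ : Set Ω, Δ₁.Nonempty ∧ Δ₂.Nonempty ∧ Disjoint Δ₁ Δ₂ ∧ p ∣ (MulAction.stabilizer G Δ₁ ⊓ MulAction.stabilizer G Δ₂).index := by
  classical
  have hprime := (Fact.out : p.Prime)
  obtain ⟨g, ⟨k, hk⟩, hg1⟩ : ∃ g : G, (∃ k : ℕ, orderOf g = p ^ k) ∧ g ≠ 1 := by
    by_contra hcon
    push Not at hcon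
    apply hG
    have h1 : (⊤ : Subgroup G) = ⊥ := by
      rw [← hgen, Subgroup.closure_eq_bot_iff]
      rintro g ⟨k, hk⟩
      exact hcon g ⟨k, hk⟩
    rw [Subgroup.eq_bot_iff_forall]
    intro x hx
    exact congrArg Subtype.val ((Subgroup.eq_bot_iff_forall _).1 h1 ⟨x, hx⟩ trivial)
  obtain ⟨a, ha⟩ : ∃ a : Ω, (g : Equiv.Perm Ω) a ≠ a := by
    by_contra hcon
    push Not at hcon
    exact hg1 (Subtype.ext (Equiv.ext hcon))
  have hex : ∃ j, g ^ p ^ j • a = a := ⟨k, by rw [← hk, pow_orderOf_eq_one, one_smul]⟩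
  have hspec := Nat.find_spec hex
  cases hj : Nat.find hex with
  | zero => rw [hj, pow_zero, pow_one] at hspec; exact absurd hspec ha
  | succ j =>
  set x := g ^ p ^ j with hx
  have hxa : x • a ≠ a := Nat.find_min hex (by omega)
  have hxp : x ^ p • a = a := by rw [hx, ← pow_mul, ← pow_succ, ← hj]; exact hspec
  set T : Set Ω := {y | ∃ i, 1 ≤ i ∧ i < p ∧ x ^ i • a = y} with hT
  refine ⟨{a}, T, ⟨a, rfl⟩, ⟨x • a, 1, le_rfl, hprime.one_lt, by rw [pow_one]⟩, ?_, ?_⟩
  · rw [Set.disjoint_singleton_left]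
    rintro ⟨i, hi1, hip, hia⟩
    apply hxa
    have hcop : (i : ℕ).Coprime p := (Nat.coprime_of_lt_prime (by omega) hip hprime).symm
    obtain ⟨u, v, huv⟩ := Int.isCoprime_iff_nat_coprime.2 (show Nat.Coprime (i : ℤ).natAbs (p : ℤ).natAbs by simpa using hcop)
    have h1 : x ^ i ∈ MulAction.stabilizer G a := hia
    have h2 : x ^ p ∈ MulAction.stabilizer G a := hxp
    have h3 := mul_mem (zpow_mem h1 u) (zpow_mem h2 v)
    rw [← zpow_natCast, ← zpow_natCast x p, ← zpow_mul, ← zpow_mul, ← zpow_add, mul_comm (i : ℤ),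
      mul_comm ((p : ℕ) : ℤ) v, huv, zpow_one] at h3
    exact h3
  by_contra hnd
  set S := MulAction.stabilizer G ({a} : Set Ω) ⊓ MulAction.stabilizer G T with hS
  obtain ⟨P0⟩ := (inferInstance : Nonempty (Sylow p ↥S))
  have hP : IsPGroup p ((P0 : Subgroup ↥S).map S.subtype) := P0.2.map _
  obtain ⟨Q, hQ⟩ := hP.exists_le_sylow
  have hQS : (Q : Subgroup G) ≤ S := by
    have hidx : ¬ p ∣ ((P0 : Subgroup ↥S).map S.subtype).index := by
      rw [Subgroup.index_map_subtype]
      exact fun hd => (hprime.dvd_mul.1 hd).elim P0.not_dvd_index hnd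
    exact ((hP.toSylow hidx).3 Q.2 hQ).le.trans (Subgroup.map_subtype_le _)
  set M : Subgroup G := ⨅ i : Fin p, MulAction.stabilizer G (x ^ (i : ℕ) • a) with hM
  have hQM : (Q : Subgroup G) ≤ M := by
    intro q hq
    rw [hM, Subgroup.mem_iInf]
    intro i
    obtain ⟨hqa, hqT⟩ := hQS hq
    rcases Nat.eq_zero_or_pos (i : ℕ) with h0 | h0
    · rw [h0, pow_zero, one_smul]
      have hqa' : q • ({a} : Set Ω) = {a} := hqa
      rw [Set.smul_set_singleton, Set.singleton_eq_singleton_iff] at hqa'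
      exact hqa'
    · set b := x ^ (i : ℕ) • a
      have horb : MulAction.orbit ↥(Q : Subgroup G) b ⊆ T := by
        rintro _ ⟨⟨r, hr⟩, rfl⟩
        have hrT : r • T = T := (hQS hr).2
        rw [← hrT]
        exact Set.smul_mem_smul_set ⟨i, h0, i.2, rfl⟩
      have hTcard : T.ncard < p := by
        calc T.ncard ≤ ((fun i => x ^ i • a) '' Set.Ico 1 p).ncard :=
              Set.ncard_le_ncard (fun y ⟨i, h1, h2, e⟩ => ⟨i, ⟨h1, h2⟩, e⟩) (Set.toFinite _)
          _ ≤ (Set.Ico 1 p).ncard := Set.ncard_image_le (Set.toFinite _)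
          _ < p := by rw [← Finset.coe_Ico, Set.ncard_coe_finset, Nat.card_Ico]; omega
      obtain ⟨m, hm⟩ := Q.2.card_orbit (α := Ω) b
      have hm0 : m = 0 := by
        by_contra hne
        have h1 := Set.ncard_le_ncard horb (Set.toFinite _)
        rw [← Nat.card_coe_set_eq, hm] at h1
        have := Nat.le_self_pow hne p
        omega
      rw [hm0, pow_zero] at hm
      haveI := (Nat.card_eq_one_iff_unique.1 hm).1
      exact congrArg Subtype.val (Subsingleton.elim
        (⟨(⟨q, hq⟩ : ↥(Q : Subgroup G)) • b, MulAction.mem_orbit _ _⟩ : MulAction.orbit ↥(Q : Subgroup G) b)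
        ⟨b, MulAction.mem_orbit_self _⟩)
  have hcyc : ∀ i : ℕ, ∀ m ∈ M, m • (x ^ i • a) = x ^ i • a := by
    intro i
    have hmod : x ^ i • a = x ^ (i % p) • a := by
      conv_lhs => rw [← Nat.mod_add_div i p, pow_add, mul_smul]
      congr 1
      induction i / p with
      | zero => simp
      | succ q ih => rw [Nat.mul_succ, pow_add, mul_smul, hxp, ih]
    intro m hm
    rw [hmod]
    rw [hM, Subgroup.mem_iInf] at hm
    exact hm ⟨i % p, Nat.mod_lt _ hprime.pos⟩
  have hiff : ∀ m : G, m ∈ M ↔ ∀ i : ℕ, m • (x ^ i • a) = x ^ i • a := fun m =>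
    ⟨fun hm i => hcyc i m hm, fun h => by rw [hM, Subgroup.mem_iInf]; exact fun i => h i⟩
  have hxN : x ∈ Subgroup.normalizer (M : Set G) := by
    rw [Subgroup.mem_normalizer_iff]
    intro m
    rw [hiff, hiff]
    constructor
    · intro h i
      have h1 : x⁻¹ • (x ^ i • a) = x ^ (i + (p - 1)) • a := by
        rw [inv_smul_eq_iff, ← mul_smul, ← pow_succ', show i + (p - 1) + 1 = i + p by have := hprime.pos; omega,
          pow_add, mul_smul, hxp]
      rw [mul_smul, mul_smul, h1, h, ← h1, smul_inv_smul]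
    · intro h i
      have := h (i + 1)
      rw [mul_smul, mul_smul, pow_succ', mul_smul, inv_smul_smul] at this
      exact smul_left_cancel x this
  have hxM : x ∈ M := Cfsg.Agent.Invol.SylowFix.mem_of_normalizes hQM
    ⟨k, by rw [hx, ← pow_mul, mul_comm, pow_mul, ← hk, pow_orderOf_eq_one, one_pow]⟩ hxN
  exact hxa (by simpa using (hiff x).1 hxM 0)

end Cfsg.Agent.S4170
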