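import Cfsg.Statements.S4172
import Mathlib
import Cfsg.Agent.Lib.Transfer.Tate
import Cfsg.Agent.Lib.Transfer.NormalComplement
import Cfsg.Agent.Lib.Grp.Components
import Cfsg.Agent.Lib.Grp.Basic
import Cfsg.Agent.Lib.Grp.Frattini
import Cfsg.Agent.Lib.Grp.Cores

set_option maxHeartbeats 1000000
set_option maxRecDepth 8000

set_option autoImplicit false
open Cfsg
open scoped Pointwise commutatorElement

namespace Cfsg.Agent.S4172

open Cfsg.Agent

variable {G : Type*} [Group G] [Finite G] {p : ℕ} [hp : Fact p.Prime]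

theorem frattini_map_le {X Y : Type*} [Group X] [Group Y] (e : X ≃* Y) {x : X} (hx : x ∈ frattini X) : e x ∈ frattini Y :=
  frattini_le_comap_frattini_of_surjective (φ := e.toMonoidHom) e.surjective hx

/-- If `P` normalizes `M`, which has no normal `p`-complement, then `P ∩ M` is not in `Φ(P)`. -/
theorem exists_not_mem_frattini (P : Sylow p G) (M : Subgroup G) (hPM : (P : Subgroup G) ≤ Subgroup.normalizer (M : Set G))
    (hno : ¬ Cfsg.HasNormalPComplement p M) :
    ∃ x : (P : Subgroup G), (x : G) ∈ M ∧ x ∉ frattini (P : Subgroup G) := by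
  by_contra h
  push Not at h
  set X := (P : Subgroup G) ⊔ M
  haveI : (M.subgroupOf X).Normal := Subgroup.normal_subgroupOf_of_le_normalizer (sup_le hPM Subgroup.le_normalizer)
  let P' : Sylow p X := P.subtype le_sup_left
  have key := Transfer.hasNormalPComplement_of_inf_le_frattini P' (M.subgroupOf X) (fun z hz => by
    let e : (P' : Subgroup X) ≃* (P : Subgroup G) := Subgroup.subgroupOfEquivOfLe le_sup_left
    have h1 := frattini_map_le e.symm (h (e ⟨z, hz.2⟩) hz.1)
    rw [MulEquiv.symm_apply_apply] at h1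
    exact ⟨_, h1, rfl⟩)
  exact hno ((Transfer.hasNormalPComplement_congr (Subgroup.subgroupOfEquivOfLe (le_sup_right : M ≤ X))).1 key)

/-- A subgroup meeting a two-generator `P` outside `Φ(P)` has cyclic index in it. -/
theorem exists_gen_mod (P : Sylow p G) (hgen : (frattini ↥(P : Subgroup G)).index = p ^ 2) (M : Subgroup G)
    (hPM : (P : Subgroup G) ≤ Subgroup.normalizer (M : Set G))
    {x : (P : Subgroup G)} (hxM : (x : G) ∈ M) (hx : x ∉ frattini (P : Subgroup G)) :
    ∃ y ∈ (P : Subgroup G), ∀ u ∈ (P : Subgroup G), ∃ k : ℤ, u * (y ^ k)⁻¹ ∈ M := by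
  set Φ := frattini (P : Subgroup G)
  set f := QuotientGroup.mk' Φ
  have hcard : Nat.card ((P : Subgroup G) ⧸ Φ) = p ^ 2 := hgen
  have hxo : orderOf (f x) = p := orderOf_eq_prime (by
    rw [← map_pow]; exact (QuotientGroup.eq_one_iff _).2 (Grp.pGroup_pow_mem_frattini P.isPGroup' x))
    (fun e => hx ((QuotientGroup.eq_one_iff _).1 e))
  obtain ⟨yb, hyb⟩ : ∃ yb, yb ∉ Subgroup.zpowers (f x) := by
    by_contra h
    push Not at h
    have : Subgroup.zpowers (f x) = ⊤ := eq_top_iff.2 fun z _ => h z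
    have h2 := congrArg (fun H : Subgroup ((P : Subgroup G) ⧸ Φ) => Nat.card H) this
    simp only [Nat.card_zpowers, hxo, Subgroup.card_top, hcard] at h2
    nlinarith [hp.out.two_le]
  obtain ⟨y, rfl⟩ := QuotientGroup.mk'_surjective Φ yb
  have htop : Subgroup.closure ({x, y} : Set (P : Subgroup G)) ⊔ Φ = ⊤ := by
    set W := Subgroup.closure ({x, y} : Set (P : Subgroup G))
    have hlt : Subgroup.zpowers (f x) < W.map f := lt_of_le_of_ne
      (Subgroup.zpowers_le.2 ⟨x, Subgroup.subset_closure (Or.inl rfl), rfl⟩)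
      (fun e => hyb (e ▸ ⟨y, Subgroup.subset_closure (Or.inr rfl), rfl⟩))
    have hW : W.map f = ⊤ := by
      refine Subgroup.eq_top_of_card_eq _ ?_
      have h1 : Nat.card (Subgroup.zpowers (f x)) < Nat.card (W.map f) := lt_of_le_of_ne (Subgroup.card_le_of_le hlt.le)
        fun e => hlt.ne (Subgroup.eq_of_le_of_card_ge hlt.le e.ge)
      obtain ⟨i, hi, hi'⟩ := (Nat.dvd_prime_pow hp.out).1 (hcard ▸ Subgroup.card_subgroup_dvd_card (W.map f))
      rw [Nat.card_zpowers, hxo, hi'] at h1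
      have : 1 < i := by
        by_contra h
        push Not at h
        have := Nat.pow_le_pow_right hp.out.one_le h
        rw [pow_one] at this
        omega
      rw [hi', hcard, show i = 2 by omega]
    have := congrArg (Subgroup.comap f) hW
    rwa [Subgroup.comap_map_eq, QuotientGroup.ker_mk', Subgroup.comap_top] at this
  have hcl := frattini_nongenerating htop
  refine ⟨(y : G), y.2, fun u hu => ?_⟩
  haveI : (M.subgroupOf (P : Subgroup G)).Normal := Subgroup.normal_subgroupOf_of_le_normalizer hPM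
  set q := QuotientGroup.mk' (M.subgroupOf (P : Subgroup G))
  have hle : Subgroup.closure ({x, y} : Set (P : Subgroup G)) ≤ (Subgroup.zpowers (q y)).comap q := by
    rw [Subgroup.closure_le]
    rintro z (rfl | rfl)
    · show q z ∈ Subgroup.zpowers (q y)
      rw [show q z = 1 from (QuotientGroup.eq_one_iff _).2 hxM]
      exact one_mem _
    · exact Subgroup.mem_zpowers _
  rw [hcl] at hle
  obtain ⟨k, hk⟩ := Subgroup.mem_zpowers_iff.1 (hle (Subgroup.mem_top ⟨u, hu⟩))
  refine ⟨k, ?_⟩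
  have h3 : (⟨u, hu⟩ : (P : Subgroup G)) * (y ^ k)⁻¹ ∈ M.subgroupOf (P : Subgroup G) := by
    rw [← QuotientGroup.eq_one_iff, ← QuotientGroup.mk'_apply]
    simp only [map_mul, map_inv, map_zpow]
    exact mul_inv_eq_one.2 hk.symm
  simpa [Subgroup.mem_subgroupOf] using h3

theorem commutator_mem (P : Sylow p G) (M : Subgroup G) (hPM : (P : Subgroup G) ≤ Subgroup.normalizer (M : Set G))
    {y : G} (hy : y ∈ (P : Subgroup G)) (hgen : ∀ u ∈ (P : Subgroup G), ∃ k : ℤ, u * (y ^ k)⁻¹ ∈ M)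
    {a b : G} (ha : a ∈ (P : Subgroup G)) (hb : b ∈ (P : Subgroup G)) : a * b * a⁻¹ * b⁻¹ ∈ M := by
  haveI : (M.subgroupOf (P : Subgroup G)).Normal := Subgroup.normal_subgroupOf_of_le_normalizer hPM
  set q := QuotientGroup.mk' (M.subgroupOf (P : Subgroup G))
  have h : ∀ u (hu : u ∈ (P : Subgroup G)), ∃ k : ℤ, q ⟨u, hu⟩ = q ⟨y, hy⟩ ^ k := fun u hu => by
    obtain ⟨k, hk⟩ := hgen u hu
    refine ⟨k, ?_⟩
    rw [← map_zpow, ← mul_inv_eq_one, ← map_inv, ← map_mul]
    refine (QuotientGroup.eq_one_iff _).2 ?_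
    simpa [Subgroup.mem_subgroupOf] using hk
  obtain ⟨i, hi⟩ := h a ha
  obtain ⟨j, hj⟩ := h b hb
  have : q (⟨a, ha⟩ * ⟨b, hb⟩ * (⟨a, ha⟩ : (P : Subgroup G))⁻¹ * (⟨b, hb⟩ : (P : Subgroup G))⁻¹) = 1 := by
    simp only [map_mul, map_inv, hi, hj]
    group
  have h2 := (QuotientGroup.eq_one_iff _).1 this
  exact h2

/-- A `p`-element in the centre of a perfect group with abelian Sylow `p`-subgroup is trivial. -/
theorem center_pElement_eq_one {X : Type*} [Group X] [Finite X] (hperf : commutator X = ⊤) (S : Sylow p X)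
    (hS : ∀ a b : (S : Subgroup X), a * b = b * a) {z : X}
    (hz : z ∈ Subgroup.center X) {j : ℕ} (hzj : z ^ p ^ j = 1) : z = 1 := by
  letI : CommGroup (S : Subgroup X) := { (inferInstance : Group (S : Subgroup X)) with mul_comm := hS }
  have key : ∀ (k : ℕ) (g₀ : X), g₀⁻¹ * z ^ k * g₀ ∈ (S : Subgroup X) → g₀⁻¹ * z ^ k * g₀ = z ^ k := fun k g₀ _ => by
    rw [mul_assoc, ← Subgroup.mem_center_iff.1 (pow_mem hz k) g₀, inv_mul_cancel_left]
  have h1 : MonoidHom.transfer (MonoidHom.id (S : Subgroup X)) z = 1 := by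
    have : commutator X ≤ (MonoidHom.transfer (MonoidHom.id (S : Subgroup X))).ker := Abelianization.commutator_subset_ker _
    exact this (hperf ▸ Subgroup.mem_top z)
  rw [MonoidHom.transfer_eq_pow _ z key] at h1
  have h2 : z ^ (S : Subgroup X).index = 1 := congrArg Subtype.val h1
  have h3 : orderOf z ∣ 1 := by
    have hc : Nat.Coprime (p ^ j) (S : Subgroup X).index :=
      Nat.Coprime.pow_left j ((Nat.Prime.coprime_iff_not_dvd hp.out).2 S.not_dvd_index)
    rw [← hc.gcd_eq_one]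
    exact Nat.dvd_gcd (orderOf_dvd_of_pow_eq_one hzj) (orderOf_dvd_of_pow_eq_one h2)
  exact orderOf_eq_one_iff.1 (Nat.dvd_one.1 h3)

theorem conj_mem_bot_imp {A : Subgroup G} [A.Normal] (M : Subgroup G) [M.Normal] (h : A ⊓ M = ⊥) :
    A ≤ Subgroup.centralizer (M : Set G) := fun a ha => Subgroup.mem_centralizer_iff.2 fun m hm =>
  (Subgroup.commute_of_normal_of_disjoint A M inferInstance inferInstance (disjoint_iff.2 h) a m ha hm).eq.symm

variable (P : Sylow p G) (hna : ¬ IsMulCommutative (P : Subgroup G)) (hgen : (frattini ↥(P : Subgroup G)).index = p ^ 2)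
  (hcore : Cfsg.pPrimeCore p G = ⊥) (hfrat : ((frattini ↥(P : Subgroup G)).map (P : Subgroup G).subtype).normalCore = ⊥)

theorem normal_le_sylow {N : Subgroup G} [N.Normal] (hN : IsPGroup p N) : N ≤ (P : Subgroup G) := by
  obtain ⟨T, hT⟩ := hN.exists_le_sylow
  obtain ⟨g, hg⟩ := MulAction.exists_smul_eq G T P
  intro n hn
  rw [← hg, Sylow.coe_subgroup_smul, Subgroup.mem_pointwise_smul_iff_inv_smul_mem]
  refine hT ?_
  simpa [MulAut.smul_def, mul_assoc] using (‹N.Normal›).conj_mem n hn g⁻¹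

include hgen hcore hfrat in
theorem gen_mod_normal {N : Subgroup G} [hN : N.Normal] (hN1 : N ≠ ⊥) :
    ∃ y ∈ (P : Subgroup G), ∀ u ∈ (P : Subgroup G), ∃ k : ℤ, u * (y ^ k)⁻¹ ∈ N := by
  have hPN : (P : Subgroup G) ≤ Subgroup.normalizer (N : Set G) := by rw [Subgroup.normalizer_eq_top]; exact le_top
  obtain ⟨x, hxM, hx⟩ : ∃ x : (P : Subgroup G), (x : G) ∈ N ∧ x ∉ frattini (P : Subgroup G) := by
    by_cases hno : Cfsg.HasNormalPComplement p N
    · obtain ⟨S, K, hKn, hK⟩ := hno
      haveI := hKn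
      have hKbot : K = ⊥ := by
        have hc : (Nat.card (K.map N.subtype)).Coprime p := by
          rw [Subgroup.card_map_of_injective N.subtype_injective, ← hK.index_eq_card]
          exact ((Nat.Prime.coprime_iff_not_dvd hp.out).2 S.not_dvd_index).symm
        have hsn : (K.map N.subtype).IsSubnormal := hKn.isSubnormal.trans' hN.isSubnormal
        have h1 := Grp.le_pPrimeCore_of_isSubnormal hsn hc
        rw [hcore, le_bot_iff, Subgroup.map_eq_bot_iff_of_injective _ N.subtype_injective] at h1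
        exact h1
      rw [hKbot, Subgroup.isComplement'_bot_left] at hK
      have hNp : IsPGroup p N := fun n => by
        obtain ⟨i, hi⟩ := S.isPGroup' ⟨n, hK ▸ Subgroup.mem_top n⟩
        exact ⟨i, congrArg Subtype.val hi⟩
      by_contra h
      push Not at h
      have hle : N ≤ ((frattini ↥(P : Subgroup G)).map (P : Subgroup G).subtype).normalCore :=
        Subgroup.normal_le_normalCore.2 fun n hn => ⟨⟨n, normal_le_sylow P hNp hn⟩, h _ hn, rfl⟩
      rw [hfrat, le_bot_iff] at hle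
      exact hN1 hle
    · exact exists_not_mem_frattini P N hPN hno
  exact exists_gen_mod P hgen N hPN hxM hx

include hna in
theorem exists_commutator : ∃ a ∈ (P : Subgroup G), ∃ b ∈ (P : Subgroup G), a * b * a⁻¹ * b⁻¹ ≠ 1 := by
  by_contra h
  push Not at h
  exact hna ⟨⟨fun a b => Subtype.ext (by
    have := h a a.2 b b.2
    rw [mul_inv_eq_one, mul_inv_eq_iff_eq_mul] at this
    exact this)⟩⟩

include hna hgen hcore hfrat in
theorem unique_minimal :
    ∃ N : Subgroup G, N.Normal ∧ N ≠ ⊥ ∧ ∀ K : Subgroup G, K.Normal → K ≠ ⊥ → N ≤ K := by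
  obtain ⟨a, ha, b, hb, hab⟩ := exists_commutator P hna
  have hmem : ∀ K : Subgroup G, K.Normal → K ≠ ⊥ → a * b * a⁻¹ * b⁻¹ ∈ K := fun K hK hK1 => by
    haveI := hK
    obtain ⟨y, hy, h⟩ := gen_mod_normal P hgen hcore hfrat hK1
    exact commutator_mem P K (by rw [Subgroup.normalizer_eq_top]; exact le_top) hy h ha hb
  obtain ⟨N, hNn, hN1, -, hmin⟩ := Grp.exists_minimal_normal_le (G := G) (N := ⊤) (fun e => hab (by
    have : a * b * a⁻¹ * b⁻¹ ∈ (⊥ : Subgroup G) := e ▸ Subgroup.mem_top _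
    exact Subgroup.mem_bot.1 this))
  refine ⟨N, hNn, hN1, fun K hK hK1 => ?_⟩
  haveI := hNn
  haveI := hK
  rcases hmin (N ⊓ K) inferInstance inf_le_left with e | e
  · have : a * b * a⁻¹ * b⁻¹ ∈ N ⊓ K := ⟨hmem N hNn hN1, hmem K hK hK1⟩
    rw [e, Subgroup.mem_bot] at this
    exact absurd this hab
  · exact e ▸ inf_le_right

include hna hgen hcore hfrat in
theorem layer_eq_bot_of_comm {N : Subgroup G} [hNn : N.Normal] (hN1 : N ≠ ⊥) (hmin : ∀ K : Subgroup G, K.Normal → K ≠ ⊥ → N ≤ K)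
    (hcomm : ∀ a ∈ N, ∀ b ∈ N, a * b = b * a) : Cfsg.layer G = ⊥ ∧ IsPGroup p N := by
  obtain ⟨y, hy, hyg⟩ := gen_mod_normal P hgen hcore hfrat hN1
  have hsolv : Group.IsSolvable N := Group.isSolvable_of_comm fun a b => Subtype.ext (hcomm a a.2 b b.2)
  haveI : Group.IsNilpotent N := @CommGroup.isNilpotent N { (inferInstance : Group N) with mul_comm := fun a b => Subtype.ext (hcomm a a.2 b b.2) }
  have hNp : IsPGroup p N := by
    obtain ⟨S⟩ : Nonempty (Sylow p N) := inferInstance
    haveI hSn : (S : Subgroup N).Normal := Sylow.normal_of_normalizerCondition Group.normalizerCondition_of_isNilpotent S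
    haveI : (S : Subgroup N).Characteristic := S.characteristic_of_normal hSn
    by_cases hS : (S : Subgroup N) = ⊥
    · exfalso
      refine hN1 (le_bot_iff.1 (hcore ▸ Grp.le_pPrimeCore hNn ?_))
      refine ((Nat.Prime.coprime_iff_not_dvd hp.out).2 fun hd => ?_).symm
      exact S.ne_bot_of_dvd_card hd hS
    · have h1 : N ≤ (S : Subgroup N).map N.subtype := hmin _ inferInstance (by
        rwa [Ne, Subgroup.map_eq_bot_iff_of_injective _ N.subtype_injective])
      intro n
      obtain ⟨m, hm, e⟩ := h1 n.2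
      obtain ⟨i, hi⟩ := S.isPGroup' ⟨m, hm⟩
      exact ⟨i, by rw [← Subtype.ext e]; exact congrArg Subtype.val hi⟩
  refine ⟨?_, hNp⟩
  by_contra hE
  set E := Cfsg.layer G
  have hNE : N ≤ E := hmin E inferInstance hE
  have hEc : E ≤ Subgroup.centralizer (N : Set G) := Grp.layer_le_centralizer_solvable N hsolv
  -- P ∩ E is abelian
  have habel : ∀ u ∈ (P : Subgroup G) ⊓ E, ∀ v ∈ (P : Subgroup G) ⊓ E, u * v = v * u := by
    intro u hu v hv
    obtain ⟨i, hi⟩ := hyg u hu.1
    obtain ⟨j, hj⟩ := hyg v hv.1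
    have hc : ∀ {w : G} (_ : w ∈ E) {k : ℤ} (_ : w * (y ^ k)⁻¹ ∈ N), ∀ n ∈ N, Commute n (y ^ k) := by
      intro w hw k hk n hn
      have h1 : Commute n w := Subgroup.mem_centralizer_iff.1 (hEc hw) n hn
      have h2 : Commute n (w * (y ^ k)⁻¹) := hcomm n hn _ hk
      have h3 := (h2.inv_right).mul_right h1
      rwa [mul_inv_rev, inv_inv, inv_mul_cancel_right] at h3
    have ci := hc hu.2 hi _ hj
    have cj := hc hv.2 hj _ hi
    have e1 : u = (u * (y ^ i)⁻¹) * y ^ i := by group
    have e2 : v = (v * (y ^ j)⁻¹) * y ^ j := by group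
    rw [e1, e2]
    have c1 : Commute (u * (y ^ i)⁻¹) (v * (y ^ j)⁻¹) := hcomm _ hi _ hj
    have c2 : Commute (y ^ i) (y ^ j) := (Commute.refl y).zpow_zpow i j
    exact ((c1.mul_right cj).mul_left (ci.symm.mul_right c2)).eq
  obtain ⟨S⟩ : Nonempty (Sylow p E) := inferInstance
  have hSab : ∀ s t : (S : Subgroup E), s * t = t * s := by
    obtain ⟨T, hT⟩ := (S.isPGroup'.map E.subtype).exists_le_sylow
    obtain ⟨g, hg⟩ := MulAction.exists_smul_eq G T P
    intro s t
    have hc : ∀ r : (S : Subgroup E), g * ((r : E) : G) * g⁻¹ ∈ (P : Subgroup G) ⊓ E := fun r => by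
      refine ⟨?_, (inferInstance : E.Normal).conj_mem _ (r : E).2 g⟩
      rw [← hg]
      show _ ∈ ((g • T : Sylow p G) : Subgroup G)
      rw [Sylow.coe_subgroup_smul, Subgroup.mem_pointwise_smul_iff_inv_smul_mem]
      simpa [MulAut.smul_def, mul_assoc] using hT ⟨_, r.2, rfl⟩
    have := habel _ (hc s) _ (hc t)
    refine Subtype.ext (Subtype.ext ?_)
    show ((s : E) : G) * ((t : E) : G) = ((t : E) : G) * ((s : E) : G)
    calc ((s : E) : G) * ((t : E) : G) = g⁻¹ * ((g * ((s : E) : G) * g⁻¹) * (g * ((t : E) : G) * g⁻¹)) * g := by group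
      _ = _ := by rw [this]; group
  have hperf : commutator E = ⊤ := by
    apply Subgroup.map_injective E.subtype_injective
    rw [commutator_def, Subgroup.map_commutator, ← MonoidHom.range_eq_map, Subgroup.range_subtype]
    exact Grp.layer_perfect
  obtain ⟨⟨n, hn⟩, hn1⟩ := Subgroup.ne_bot_iff_exists_ne_one.1 hN1
  obtain ⟨i, hi⟩ := hNp ⟨n, hn⟩
  have hz : (⟨n, hNE hn⟩ : E) ∈ Subgroup.center E := Subgroup.mem_center_iff.2 fun e => Subtype.ext
    (Subgroup.mem_centralizer_iff.1 (hEc e.2) n hn).symm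
  exact hn1 (Subtype.ext (congrArg (fun z : E => (z : G))
    (center_pElement_eq_one hperf S hSab hz (j := i) (Subtype.ext (congrArg Subtype.val hi :)))))

include hna hgen hcore hfrat in
theorem fitting_eq {N : Subgroup G} [hNn : N.Normal] (hN1 : N ≠ ⊥) (hmin : ∀ K : Subgroup G, K.Normal → K ≠ ⊥ → N ≤ K)
    (hcomm : ∀ a ∈ N, ∀ b ∈ N, a * b = b * a) (hE : Cfsg.layer G = ⊥) (hNp : IsPGroup p N) :
    Cfsg.fittingSubgroup G = N := by
  obtain ⟨y, hy, hyg⟩ := gen_mod_normal P hgen hcore hfrat hN1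
  set F := Cfsg.fittingSubgroup G
  haveI : F.Normal := Grp.fittingSubgroup_isNormal
  have hFnil : Group.IsNilpotent F := Grp.fittingSubgroup_isNilpotent
  have hNF : N ≤ F := le_sSup ⟨hNn, hNp.isNilpotent⟩
  refine le_antisymm ?_ hNF
  have hFp : IsPGroup p F := by
    intro f
    obtain ⟨S⟩ : Nonempty (Sylow p F) := inferInstance
    haveI := hFnil
    haveI hSn : (S : Subgroup F).Normal := Sylow.normal_of_normalizerCondition Group.normalizerCondition_of_isNilpotent S
    have hidx : (S : Subgroup F).index = 1 := by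
      by_contra hne
      obtain ⟨r, hr, hrd⟩ := Nat.exists_prime_and_dvd hne
      haveI := Fact.mk hr
      obtain ⟨R⟩ : Nonempty (Sylow r F) := inferInstance
      haveI hRn : (R : Subgroup F).Normal := Sylow.normal_of_normalizerCondition Group.normalizerCondition_of_isNilpotent R
      haveI : (R : Subgroup F).Characteristic := R.characteristic_of_normal hRn
      have hrp : r ≠ p := fun e => S.not_dvd_index (e ▸ hrd)
      have hc : (Nat.card ((R : Subgroup F).map F.subtype)).Coprime p := by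
        rw [Subgroup.card_map_of_injective F.subtype_injective, R.card_eq_multiplicity]
        exact Nat.Coprime.pow_left _ ((Nat.coprime_primes hr hp.out).2 hrp)
      have h1 := Grp.le_pPrimeCore (inferInstance : ((R : Subgroup F).map F.subtype).Normal) hc
      rw [hcore, le_bot_iff, Subgroup.map_eq_bot_iff_of_injective _ F.subtype_injective] at h1
      exact R.ne_bot_of_dvd_card (hrd.trans (Subgroup.index_dvd_card _)) h1
    obtain ⟨i, hi⟩ := S.isPGroup' ⟨f, Subgroup.index_eq_one.1 hidx ▸ Subgroup.mem_top f⟩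
    exact ⟨i, congrArg Subtype.val hi⟩
  have hFP : F ≤ (P : Subgroup G) := normal_le_sylow P hFp
  -- F is elementary abelian
  have hFfrat : frattini F = ⊥ := by
    have hchar : ((frattini F).map F.subtype).Normal := inferInstance
    by_contra h
    have hle : (frattini F).map F.subtype ≤ ((frattini ↥(P : Subgroup G)).map (P : Subgroup G).subtype) := by
      rw [Subgroup.map_le_iff_le_comap]
      intro z hz
      refine ⟨⟨z, hFP z.2⟩, ?_, rfl⟩
      refine Subgroup.mem_iInf.2 fun W => Subgroup.mem_iInf.2 fun hW => ?_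
      by_contra hzW
      haveI : Group.IsNilpotent (P : Subgroup G) := P.isPGroup'.isNilpotent
      haveI : W.Normal := Grp.coatom_normal_of_nilpotent hW
      have hidx := (Grp.coatom_index_eq_of_pGroup P.isPGroup' hW).2
      have hVidx : (W.comap (Subgroup.inclusion hFP)).index = p := by
        have hd : (W.comap (Subgroup.inclusion hFP)).index ∣ p := by
          rw [Subgroup.index_comap]
          exact (Subgroup.relIndex_dvd_index_of_normal _ _).trans (dvd_of_eq hidx)
        refine (hp.out.eq_one_or_self_of_dvd _ hd).resolve_left fun e => hzW ?_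
        have := Subgroup.index_eq_one.1 e ▸ Subgroup.mem_top z
        exact this
      obtain ⟨V, hV, hVle⟩ := (eq_top_or_exists_le_coatom (W.comap (Subgroup.inclusion hFP))).resolve_left
        fun e => hzW (e ▸ Subgroup.mem_top z : z ∈ W.comap (Subgroup.inclusion hFP))
      have hVe : W.comap (Subgroup.inclusion hFP) = V := by
        refine Subgroup.eq_of_le_of_card_ge hVle ?_
        have h1 := (Grp.coatom_index_eq_of_pGroup hFp hV).2
        have h2 := V.card_mul_index
        have h3 := (W.comap (Subgroup.inclusion hFP)).card_mul_index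
        rw [h1] at h2
        rw [hVidx, ← h2] at h3
        exact le_of_eq (Nat.eq_of_mul_eq_mul_right hp.out.pos h3).symm
      exact hzW (show z ∈ W.comap (Subgroup.inclusion hFP) from hVe ▸ frattini_le_coatom hV hz)
    have hne : (frattini F).map F.subtype ≠ ⊥ := by
      rwa [Ne, Subgroup.map_eq_bot_iff_of_injective _ F.subtype_injective]
    exact hne (le_bot_iff.1 (hfrat ▸ Subgroup.normal_le_normalCore.2 hle))
  have hFpow : ∀ f ∈ F, f ^ p = 1 := fun f hf => by
    have := Grp.pGroup_pow_mem_frattini hFp ⟨f, hf⟩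
    rw [hFfrat, Subgroup.mem_bot] at this
    exact congrArg Subtype.val this
  have hFcomm : ∀ a ∈ F, ∀ b ∈ F, a * b = b * a := fun a ha b hb => by
    have := Grp.pGroup_commutator_le_frattini hFp (Subgroup.commutator_mem_commutator (Subgroup.mem_top (⟨a, ha⟩ : F)) (Subgroup.mem_top ⟨b, hb⟩))
    rw [hFfrat, Subgroup.mem_bot] at this
    exact congrArg Subtype.val (commutatorElement_eq_one_iff_mul_comm.1 this)
  by_contra hFN
  obtain ⟨f₀, hf₀, hf₀N⟩ := SetLike.not_le_iff_exists.1 hFN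
  set q := QuotientGroup.mk' N
  obtain ⟨k₀, hk₀⟩ := hyg f₀ (hFP hf₀)
  -- powers of y modulo N
  obtain ⟨c, hc⟩ : ∃ c, orderOf (q y) = p ^ c := by
    obtain ⟨i, hi⟩ := P.isPGroup' ⟨y, hy⟩
    obtain ⟨c, -, hc⟩ := (Nat.dvd_prime_pow hp.out).1 ((orderOf_map_dvd q y).trans (orderOf_dvd_of_pow_eq_one (congrArg Subtype.val hi)))
    exact ⟨c, hc⟩
  have hq0 : q f₀ = q y ^ k₀ := by
    rw [← map_zpow, ← mul_inv_eq_one, ← map_inv, ← map_mul]
    exact (QuotientGroup.eq_one_iff _).2 hk₀
  have hqf0 : q f₀ ≠ 1 := fun e => hf₀N ((QuotientGroup.eq_one_iff _).1 e)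
  have hc0 : c ≠ 0 := fun e => hqf0 (by
    rw [hq0, show q y = 1 from orderOf_eq_one_iff.1 (by rw [hc, e, pow_zero]), one_zpow])
  set f := y ^ p ^ (c - 1)
  have hfo : orderOf (q f) = p := by
    rw [map_pow, orderOf_pow' _ (pow_ne_zero _ hp.out.ne_zero), hc, Nat.gcd_eq_right (pow_dvd_pow p (Nat.sub_le c 1)),
      Nat.pow_div (Nat.sub_le c 1) hp.out.pos, show c - (c - 1) = 1 by omega, pow_one]
  -- the image of F is generated by that of f
  have hFimg : ∀ u ∈ F, ∃ m : ℤ, q u = q f ^ m := by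
    intro u hu
    obtain ⟨k, hk⟩ := hyg u (hFP hu)
    have e : q u = q y ^ k := by
      rw [← map_zpow, ← mul_inv_eq_one, ← map_inv, ← map_mul]
      exact (QuotientGroup.eq_one_iff _).2 hk
    have h1 : (q y) ^ (k * p) = 1 := by
      rw [zpow_mul, zpow_natCast, ← e, ← map_pow, hFpow u hu, map_one]
    rw [← orderOf_dvd_iff_zpow_eq_one, hc] at h1
    have hpc : ((p ^ c : ℕ) : ℤ) = (p ^ (c - 1) : ℕ) * (p : ℤ) := by
      rw [← Nat.cast_mul, ← pow_succ, show c - 1 + 1 = c by omega]
    rw [hpc] at h1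
    obtain ⟨m, rfl⟩ := Int.dvd_of_mul_dvd_mul_right (by exact_mod_cast hp.out.ne_zero) h1
    exact ⟨m, by rw [e, zpow_mul, zpow_natCast, map_pow]⟩
  have hfF : f ∈ F := by
    obtain ⟨m, hm⟩ := hFimg f₀ hf₀
    have hm' : ¬ (p : ℤ) ∣ m := fun hd => hqf0 (by
      rw [hm, ← orderOf_dvd_iff_zpow_eq_one, hfo]; exact hd)
    obtain ⟨u, v, huv⟩ := (Nat.prime_iff_prime_int.1 hp.out).coprime_iff_not_dvd.2 hm'
    have e : q f = q (f₀ ^ v) := by
      rw [map_zpow, hm, ← zpow_mul]
      conv_lhs => rw [← zpow_one (q f), ← huv, zpow_add, mul_comm u, zpow_mul, zpow_natCast, ← hfo, pow_orderOf_eq_one, one_zpow, one_mul, mul_comm]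
    have h1 : f * (f₀ ^ v)⁻¹ ∈ N := by
      rw [← QuotientGroup.eq_one_iff, ← QuotientGroup.mk'_apply N]
      show q _ = 1
      rw [map_mul, map_inv, e, mul_inv_cancel]
    have h2 := mul_mem (hNF h1) (F.zpow_mem hf₀ v)
    rwa [inv_mul_cancel_right] at h2
  have hfP : ∀ u ∈ (P : Subgroup G), u * f * u⁻¹ = f := by
    intro u hu
    obtain ⟨k, hk⟩ := hyg u hu
    have c1 : Commute (u * (y ^ k)⁻¹) f := hFcomm _ (hNF hk) _ hfF
    have c2 : Commute (y ^ k) f := ((Commute.refl y).zpow_left k).pow_right _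
    have c3 := c1.mul_left c2
    rw [inv_mul_cancel_right] at c3
    rw [c3.eq, mul_inv_cancel_right]
  -- scalar action modulo N
  have hsc : ∀ g : G, ∃ m : ℕ, q ((g * f * g⁻¹) ^ m) = q f := by
    intro g
    have hgf : g * f * g⁻¹ ∈ F := (inferInstance : F.Normal).conj_mem f hfF g
    obtain ⟨l, hl⟩ := hFimg _ hgf
    have hl' : ¬ (p : ℤ) ∣ l := fun hd => by
      have h1 : q (g * f * g⁻¹) = 1 := by rw [hl, ← orderOf_dvd_iff_zpow_eq_one, hfo]; exact hd
      have h3 : q f = 1 := by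
        rw [map_mul, map_mul, map_inv] at h1
        have h4 := mul_inv_eq_one.1 h1
        exact mul_eq_left.1 h4
      rw [h3, orderOf_one] at hfo
      exact hp.out.one_lt.ne hfo
    obtain ⟨u, v, huv⟩ := (Nat.prime_iff_prime_int.1 hp.out).coprime_iff_not_dvd.2 hl'
    refine ⟨(v % p).toNat, ?_⟩
    rw [map_pow, hl, ← zpow_natCast, ← zpow_mul, Int.toNat_of_nonneg (Int.emod_nonneg _ (by exact_mod_cast hp.out.ne_zero))]
    conv_rhs => rw [← zpow_one (q f)]
    rw [zpow_eq_zpow_iff_modEq, hfo, Int.modEq_iff_dvd]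
    exact ⟨u + l * (v / p), by
      have hdiv := Int.emod_add_mul_ediv v p
      linear_combination -huv - l * hdiv⟩
  choose m hm using hsc
  classical
  haveI : Fintype (G ⧸ (P : Subgroup G)) := Fintype.ofFinite _
  letI : CommGroup F := { (inferInstance : Group F) with mul_comm := fun a b => Subtype.ext (hFcomm a a.2 b b.2) }
  let term : G ⧸ (P : Subgroup G) → F := fun z =>
    ⟨z.out * f * z.out⁻¹, (inferInstance : F.Normal).conj_mem f hfF _⟩ ^ m z.out
  let w : F := ∏ z, term z
  let qF : F →* G ⧸ N := q.comp F.subtype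
  have hterm : ∀ z, qF (term z) = q f := fun z => by
    show q ((z.out * f * z.out⁻¹) ^ m z.out) = q f
    exact hm _
  have hwq : qF w = q f ^ (P : Subgroup G).index := by
    let g : Multiplicative ℤ →* G ⧸ N := zpowersHom _ (q f)
    have h1 : qF w = ((List.ofFn fun i => term ((Fintype.equivFin _).symm i)).map qF).prod := by
      rw [← map_list_prod, List.prod_ofFn]
      exact congrArg qF (Fintype.prod_equiv (Fintype.equivFin _) _ _ fun z => by simp)
    rw [h1, List.map_ofFn]
    have h2 : (qF ∘ fun i => term ((Fintype.equivFin _).symm i)) = fun _ => q f := funext fun i => hterm _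
    rw [h2, List.ofFn_const, List.prod_replicate, Subgroup.index, Nat.card_eq_fintype_card]
  have hw1 : qF w ≠ 1 := by
    rw [hwq]
    intro e
    rw [← orderOf_dvd_iff_pow_eq_one, hfo] at e
    exact P.not_dvd_index e
  -- w spans a normal subgroup
  have hnorm : ∀ h : G, ∃ j : ℕ, h * (w : G) * h⁻¹ = (w : G) ^ j := by
    intro h
    obtain ⟨l, hl⟩ := hFimg _ ((inferInstance : F.Normal).conj_mem f hfF h)
    have hj : q (h * f * h⁻¹) = q f ^ (l % p).toNat := by
      rw [hl, ← zpow_natCast, Int.toNat_of_nonneg (Int.emod_nonneg _ (by exact_mod_cast hp.out.ne_zero)), zpow_eq_zpow_iff_modEq, hfo]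
      exact (Int.mod_modEq l p).symm
    refine ⟨(l % p).toNat, ?_⟩
    generalize (l % p).toNat = j at hj ⊢
    let cF : F →* F := ((MulAut.conjNormal (H := F) : G →* MulAut F) h).toMonoidHom
    suffices e : cF w = w ^ j by exact congrArg Subtype.val e
    rw [map_prod, ← Finset.prod_pow]
    refine Fintype.prod_equiv (MulAction.toPerm h) _ _ fun z => ?_
    set g := z.out
    set z' : G ⧸ (P : Subgroup G) := h • z
    obtain ⟨u, hu⟩ : ∃ u ∈ (P : Subgroup G), z'.out = h * g * u := by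
      refine ⟨(h * g)⁻¹ * z'.out, ?_, by group⟩
      have : ((h * g : G) : G ⧸ (P : Subgroup G)) = (z'.out : G ⧸ (P : Subgroup G)) := by
        rw [QuotientGroup.out_eq']
        show _ = h • z
        conv_rhs => rw [← QuotientGroup.out_eq' z]
        rfl
      exact QuotientGroup.eq.1 this
    apply Subtype.ext
    show h * ((g * f * g⁻¹) ^ m g) * h⁻¹ = ((z'.out * f * z'.out⁻¹) ^ m z'.out) ^ j
    have e1 : z'.out * f * z'.out⁻¹ = h * (g * f * g⁻¹) * h⁻¹ := by
      rw [hu.2, show h * g * u * f * (h * g * u)⁻¹ = h * g * (u * f * u⁻¹) * g⁻¹ * h⁻¹ by group, hfP u hu.1]; group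
    set v := h * (g * f * g⁻¹) * h⁻¹
    rw [← conj_pow, e1, ← pow_mul]
    change v ^ m g = v ^ (m z'.out * j)
    have hvF : v ∈ F := (inferInstance : F.Normal).conj_mem _ ((inferInstance : F.Normal).conj_mem f hfF g) h
    rw [pow_eq_pow_iff_modEq]
    by_cases hv1 : v = 1
    · rw [hv1, orderOf_one]; exact Nat.modEq_one
    rw [orderOf_eq_prime (hFpow v hvF) hv1]
    have hvimg : q v ^ m g = q f ^ j := by
      rw [← map_pow, conj_pow, map_mul, map_mul, map_inv, hm, ← hj, map_mul, map_mul, map_inv]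
    have hm' : q v ^ m z'.out = q f := by rw [← map_pow, ← e1]; exact hm _
    have hvo : orderOf (q v) = p := by
      refine orderOf_eq_prime (by rw [← map_pow, hFpow v hvF, map_one]) fun e => ?_
      rw [e, one_pow] at hm'
      rw [← hm', orderOf_one] at hfo
      exact hp.out.one_lt.ne hfo
    rw [← hm', ← pow_mul] at hvimg
    have := pow_eq_pow_iff_modEq.1 hvimg
    rwa [hvo] at this
  have hZn : (Subgroup.zpowers (w : G)).Normal := ⟨fun x hx g => by
    obtain ⟨i, rfl⟩ := Subgroup.mem_zpowers_iff.1 hx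
    obtain ⟨j, hj⟩ := hnorm g
    rw [← conj_zpow, hj]
    exact Subgroup.zpow_mem _ (Subgroup.pow_mem _ (Subgroup.mem_zpowers _) j) i⟩
  have hwN : (w : G) ∉ N := fun h => hw1 ((QuotientGroup.eq_one_iff _).2 h)
  have hle := hmin _ hZn (fun e => hwN (by rw [Subgroup.zpowers_eq_bot] at e; rw [e]; exact one_mem N))
  have hwo : orderOf (w : G) = p := orderOf_eq_prime (hFpow _ w.2) fun e => hwN (e ▸ one_mem N)
  rcases hp.out.eq_one_or_self_of_dvd _ (hwo ▸ Nat.card_zpowers (w : G) ▸ Subgroup.card_dvd_of_le hle) with h1 | h1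
  · exact hN1 (Subgroup.card_eq_one.1 h1)
  · exact hwN (Subgroup.eq_of_le_of_card_ge hle (by rw [Nat.card_zpowers, hwo, h1]) ▸ Subgroup.mem_zpowers _)

include hna hgen hcore hfrat in
theorem gfitting_eq : ∃ N : Subgroup G, N.Normal ∧ N ≠ ⊥ ∧ (∀ K : Subgroup G, K.Normal → K ≠ ⊥ → N ≤ K) ∧
    Cfsg.generalizedFittingSubgroup G = N ∧ ((∀ a ∈ N, ∀ b ∈ N, a * b = b * a) ∨ Cfsg.fittingSubgroup G = ⊥) := by
  obtain ⟨N, hNn, hN1, hmin⟩ := unique_minimal P hna hgen hcore hfrat
  refine ⟨N, hNn, hN1, hmin, ?_⟩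
  haveI := hNn
  by_cases hcomm : ∀ a ∈ N, ∀ b ∈ N, a * b = b * a
  · obtain ⟨hE, hNp⟩ := layer_eq_bot_of_comm P hna hgen hcore hfrat hN1 hmin hcomm
    refine ⟨?_, Or.inl hcomm⟩
    rw [Cfsg.generalizedFittingSubgroup, hE, bot_sup_eq]
    exact fitting_eq P hna hgen hcore hfrat hN1 hmin hcomm hE hNp
  have hperf : ⁅N, N⁆ = N := by
    by_contra hne
    refine hcomm fun a ha b hb => ?_
    have h0 : ⁅N, N⁆ = ⊥ := by
      by_contra h1
      exact hne (le_antisymm (Subgroup.commutator_le_self N) (hmin _ inferInstance h1))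
    exact commutatorElement_eq_one_iff_mul_comm.1 (Subgroup.mem_bot.1 (h0 ▸ Subgroup.commutator_mem_commutator ha hb))
  have hns : ¬ Group.IsSolvable N := fun h => hN1 (Grp.eq_bot_of_perfect_of_solvable hperf h)
  have hCN : Subgroup.centralizer (N : Set G) = ⊥ := by
    by_contra h
    have hle := hmin _ inferInstance h
    exact hcomm fun a ha b hb => Subgroup.mem_centralizer_iff.1 (hle hb) a ha
  have hF : Cfsg.fittingSubgroup G = ⊥ := by
    haveI := Grp.fittingSubgroup_isNormal (G := G)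
    by_contra h
    haveI : Group.IsNilpotent (Cfsg.fittingSubgroup G) := Grp.fittingSubgroup_isNilpotent
    exact hns (Grp.isSolvable_of_le (hmin _ inferInstance h) inferInstance)
  refine ⟨le_antisymm (sup_le (sSup_le fun L hL => ?_) (hF ▸ bot_le)) (hmin _ (by
      rw [Cfsg.generalizedFittingSubgroup]
      haveI := Grp.fittingSubgroup_isNormal (G := G)
      infer_instance) ?_), Or.inr hF⟩
  · rcases Grp.component_le_or_commute hL hNn.isSubnormal with e | e
    · exact e
    · exact absurd (le_bot_iff.1 (hCN ▸ Subgroup.commutator_eq_bot_iff_le_centralizer.1 e)) (Grp.IsComponent.ne_bot hL)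
  · obtain ⟨L, hL, -⟩ := Grp.exists_component_le hNn.isSubnormal (by
      rw [hF]; intro x _; rw [Subgroup.mem_centralizer_iff]; intro y hy
      rw [Subgroup.mem_bot.1 hy, one_mul, mul_one]) hns
    intro e
    exact Grp.IsComponent.ne_bot hL (le_bot_iff.1 (e ▸ (Grp.IsComponent.le_layer hL).trans le_sup_left))

include hgen hcore in
theorem orbit_gen (M : Subgroup G) (hPM : (P : Subgroup G) ≤ Subgroup.normalizer (M : Set G)) (hperf : ⁅M, M⁆ = M)
    {L : Subgroup G} (hL : Cfsg.IsComponent L) (hLM : L ≤ M) :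
    ∃ y ∈ (P : Subgroup G), ∀ u ∈ (P : Subgroup G), ∃ k : ℤ, u * (y ^ k)⁻¹ ∈ M := by
  have hno : ¬ Cfsg.HasNormalPComplement p M := by
    rintro ⟨S, O, hOn, hO⟩
    haveI := hOn
    have htop : O = ⊤ := by
      have hc : commutator M = ⊤ := by
        apply Subgroup.map_injective M.subtype_injective
        rw [commutator_def, Subgroup.map_commutator, ← MonoidHom.range_eq_map, Subgroup.range_subtype]
        exact hperf
      have hQp : IsPGroup p (M ⧸ O) := by
        obtain ⟨i, hi⟩ := IsPGroup.iff_card.1 S.isPGroup'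
        exact IsPGroup.of_card (n := i) (by rw [← Subgroup.index, hO.symm.index_eq_card, hi])
      by_contra hne
      haveI : Nontrivial (M ⧸ O) := QuotientGroup.nontrivial_iff.2 hne
      haveI := hQp.isNilpotent
      have hlt := Group.IsSolvable.commutator_lt_top_of_nontrivial (M ⧸ O)
      refine hlt.ne ?_
      rw [commutator_def, ← Subgroup.map_top_of_surjective (QuotientGroup.mk' O) (QuotientGroup.mk'_surjective O),
        ← Subgroup.map_commutator, ← commutator_def, hc, Subgroup.map_top_of_surjective _ (QuotientGroup.mk'_surjective O)]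
    refine Grp.IsComponent.ne_bot hL (le_bot_iff.1 (hcore ▸ Grp.le_pPrimeCore_of_isSubnormal hL.1 ?_))
    have h1 : ¬ p ∣ Nat.card M := by
      rw [← Subgroup.card_top (G := M), ← htop, ← hO.index_eq_card]; exact S.not_dvd_index
    exact ((Nat.Prime.coprime_iff_not_dvd hp.out).2 fun hd => h1 (hd.trans (Subgroup.card_dvd_of_le hLM))).symm
  obtain ⟨x, hxM, hx⟩ := exists_not_mem_frattini P M hPM hno
  exact exists_gen_mod P hgen M hPM hxM hx

include hna hgen hcore in
theorem transitive (hF : Cfsg.fittingSubgroup G = ⊥) (K L : Subgroup G) (hK : Cfsg.IsComponent K) (hL : Cfsg.IsComponent L) :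
    ∃ x ∈ (P : Subgroup G), L = K.map (MulAut.conj x).toMonoidHom := by
  by_contra h
  push Not at h
  let O : Set (Subgroup G) := {C | ∃ x ∈ (P : Subgroup G), C = K.map (MulAut.conj x).toMonoidHom}
  set M₁ := sSup {C : Subgroup G | Cfsg.IsComponent C ∧ C ∈ O}
  set M₂ := sSup {C : Subgroup G | Cfsg.IsComponent C ∧ C ∉ O}
  have hcc : ∀ (C : Subgroup G) (a : G) (b : G), (C.map (MulAut.conj b).toMonoidHom).map (MulAut.conj a).toMonoidHom = C.map (MulAut.conj (a * b)).toMonoidHom := by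
    intro C a b
    rw [Subgroup.map_map]; congr 1; ext z; simp [mul_assoc]
  have hinv : ∀ x ∈ (P : Subgroup G), ∀ C, Cfsg.IsComponent C → (C.map (MulAut.conj x).toMonoidHom ∈ O ↔ C ∈ O) := by
    intro x hx C _
    constructor
    · rintro ⟨y, hy, e⟩
      refine ⟨x⁻¹ * y, mul_mem (inv_mem hx) hy, ?_⟩
      rw [← hcc, ← e, hcc, inv_mul_cancel]
      ext z; simp
    · rintro ⟨y, hy, rfl⟩
      exact ⟨x * y, mul_mem hx hy, hcc _ _ _⟩
  have hnorm : ∀ (S : Set (Subgroup G)), (∀ x ∈ (P : Subgroup G), ∀ C ∈ S, C.map (MulAut.conj x).toMonoidHom ∈ S) →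
      (P : Subgroup G) ≤ Subgroup.normalizer ((sSup S : Subgroup G) : Set G) := by
    intro S hS x hx
    have hle : ∀ x ∈ (P : Subgroup G), (sSup S).map (MulAut.conj x).toMonoidHom ≤ sSup S := fun x hx => by
      rw [Subgroup.map_le_iff_le_comap]
      exact sSup_le fun C hC => Subgroup.map_le_iff_le_comap.1 (le_sSup (hS x hx C hC))
    rw [Subgroup.mem_normalizer_iff]
    intro z
    refine ⟨fun hz => hle x hx ⟨z, hz, rfl⟩, fun hz => ?_⟩
    have := hle x⁻¹ (inv_mem hx) ⟨_, hz, rfl⟩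
    simpa [mul_assoc] using this
  have hconj : ∀ (x : G) {C : Subgroup G}, Cfsg.IsComponent C → Cfsg.IsComponent (C.map (MulAut.conj x).toMonoidHom) :=
    fun x C hC => Grp.IsComponent.map_iso (MulAut.conj x) hC
  have hperf : ∀ S : Set (Subgroup G), (∀ C ∈ S, Cfsg.IsComponent C) → ⁅sSup S, sSup S⁆ = sSup S := fun S hS =>
    le_antisymm (Subgroup.commutator_le_self _) (sSup_le fun C hC => by
      calc C = ⁅C, C⁆ := (Grp.IsComponent.perfect (hS C hC)).symm
        _ ≤ _ := Subgroup.commutator_mono (le_sSup hC) (le_sSup hC))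
  have hK1 : K ≤ M₁ := le_sSup ⟨hK, 1, one_mem _, by ext z; simp⟩
  have hL2 : L ≤ M₂ := le_sSup ⟨hL, fun ⟨x, hx, e⟩ => h x hx e⟩
  have n1 : (P : Subgroup G) ≤ Subgroup.normalizer (M₁ : Set G) :=
    hnorm _ fun x hx C hC => ⟨hconj x hC.1, (hinv x hx C hC.1).2 hC.2⟩
  have n2 : (P : Subgroup G) ≤ Subgroup.normalizer (M₂ : Set G) :=
    hnorm _ fun x hx C hC => ⟨hconj x hC.1, fun hh => hC.2 ((hinv x hx C hC.1).1 hh)⟩
  obtain ⟨y₁, hy₁, g₁⟩ := orbit_gen P hgen hcore M₁ n1 (hperf _ fun C hC => hC.1) hK hK1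
  obtain ⟨y₂, hy₂, g₂⟩ := orbit_gen P hgen hcore M₂ n2 (hperf _ fun C hC => hC.1) hL hL2
  obtain ⟨a, ha, b, hb, hab⟩ := exists_commutator P hna
  have hm : a * b * a⁻¹ * b⁻¹ ∈ M₁ ⊓ M₂ := ⟨commutator_mem P M₁ n1 hy₁ g₁ ha hb, commutator_mem P M₂ n2 hy₂ g₂ ha hb⟩
  have h12 : M₁ ≤ Subgroup.centralizer (M₂ : Set G) := sSup_le fun C hC => Subgroup.le_centralizer_iff.1 (sSup_le fun D hD =>
    Grp.IsComponent.commute hD.1 hC.1 fun e => hD.2 (e ▸ hC.2))
  have hlay : Cfsg.layer G ≤ M₁ ⊔ M₂ := sSup_le fun C hC => by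
    by_cases hCO : C ∈ O
    · exact (le_sSup ⟨hC, hCO⟩ : C ≤ M₁).trans le_sup_left
    · exact (le_sSup ⟨hC, hCO⟩ : C ≤ M₂).trans le_sup_right
  have hle : M₁ ⊓ M₂ ≤ Cfsg.layer G ⊓ Subgroup.centralizer (Cfsg.layer G : Set G) := by
    refine le_inf (inf_le_left.trans (sSup_le fun C hC => Grp.IsComponent.le_layer hC.1)) ?_
    refine le_trans ?_ (Subgroup.centralizer_le (SetLike.coe_subset_coe.2 hlay))
    rw [Subgroup.le_centralizer_iff]
    refine sup_le ?_ ?_
    · exact Subgroup.le_centralizer_iff.1 (inf_le_right.trans (Subgroup.le_centralizer_iff.1 h12))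
    · exact Subgroup.le_centralizer_iff.1 (inf_le_left.trans h12)
  have := Grp.layer_center_le_fitting (hle hm)
  rw [hF, Subgroup.mem_bot] at this
  exact hab this

/-- Let p be a prime and G a finite group with a non-commutative Sylow p-subgroup P whose Frattini subgroup has index p² in P (P is generated by two elements). Suppose G has no nontrivial normal subgroup of order prime to p and the Frattini subgroup of P contains no nontrivial normal subgroup of G. Then the generalized Fitting subgroup F*(G) is the unique minimal normal subgroup of G, the image of P in G/F*(G) is cyclic, and if F*(G) is not commutative then P permutes the components of G transitively by conjugation. -/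
theorem result {G : Type*} [Group G] [Finite G] (p : ℕ) [Fact p.Prime] (P : Sylow p G) (hna : ¬ IsMulCommutative (P : Subgroup G)) (hgen : (frattini ↥(P : Subgroup G)).index = p ^ 2) (hcore : Cfsg.pPrimeCore p G = ⊥) (hfrat : ((frattini ↥(P : Subgroup G)).map (P : Subgroup G).subtype).normalCore = ⊥) [hFn : (Cfsg.generalizedFittingSubgroup G).Normal] :
    (Cfsg.generalizedFittingSubgroup G ≠ ⊥ ∧ ∀ K : Subgroup G, K.Normal → K ≠ ⊥ → Cfsg.generalizedFittingSubgroup G ≤ K) ∧
      IsCyclic ↥((P : Subgroup G).map (QuotientGroup.mk' (Cfsg.generalizedFittingSubgroup G))) ∧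
      (¬ IsMulCommutative (Cfsg.generalizedFittingSubgroup G) → ∀ K L : Subgroup G, Cfsg.IsComponent K → Cfsg.IsComponent L → ∃ x ∈ (P : Subgroup G), L = K.map (MulAut.conj x).toMonoidHom) := by

  obtain ⟨N, hNn, hN1, hmin, hFN, hcase⟩ := gfitting_eq P hna hgen hcore hfrat
  haveI := hNn
  refine ⟨⟨hFN ▸ hN1, fun K hK hK1 => hFN ▸ hmin K hK hK1⟩, ?_, fun hnc K L hK hL => ?_⟩
  · haveI : (Cfsg.generalizedFittingSubgroup G).Normal := hFn
    have hne : Cfsg.generalizedFittingSubgroup G ≠ ⊥ := hFN ▸ hN1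
    obtain ⟨y, hy, hg⟩ := gen_mod_normal P hgen hcore hfrat hne
    refine (Subgroup.isCyclic_iff_exists_zpowers_eq_top _).2 ⟨QuotientGroup.mk' _ y, le_antisymm (Subgroup.zpowers_le.2 ⟨y, hy, rfl⟩) ?_⟩
    rintro _ ⟨u, hu, rfl⟩
    obtain ⟨k, hk⟩ := hg u hu
    refine ⟨k, ?_⟩
    show QuotientGroup.mk' _ y ^ k = _
    rw [← map_zpow]
    exact (mul_inv_eq_one.1 (by rw [← map_inv, ← map_mul]; exact (QuotientGroup.eq_one_iff _).2 hk)).symm
  · rcases hcase with hc | hc
    · exact absurd (⟨⟨fun a b => Subtype.ext (hc a (hFN.le a.2) b (hFN.le b.2))⟩⟩) hnc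
    · exact transitive P hna hgen hcore hc K L hK hL

end Cfsg.Agent.S4172
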