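import Cfsg.Statements.S4177
import Mathlib

set_option maxHeartbeats 1000000
set_option maxRecDepth 8000

set_option autoImplicit false
open Cfsg

namespace Cfsg.Agent.S4177

/-- Let k be a field whose characteristic does not divide the order of the finite group H (for instance a field of characteristic zero), and ρ a k-linear representation of H on V. Let a be a vector whose H-orbit spans V. Then the space of H-fixed vectors has dimension at most 1, and every vector b whose H-orbit has size coprime to the size of the orbit of a is fixed by H. -/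
theorem result {k V H : Type*} [Field k] [AddCommGroup V] [Module k V] [Group H] [Finite H]
    (hchar : ¬ ringChar k ∣ Nat.card H) (ρ : Representation k H V) (a : V)
    (hspan : Submodule.span k {u : V | ∃ h : H, ρ h a = u} = ⊤) :
    Module.finrank k ρ.invariants ≤ 1 ∧
    ∀ b : V, (Nat.card {u : V | ∃ h : H, ρ h a = u}).Coprime (Nat.card {u : V | ∃ h : H, ρ h b = u}) → ∀ h : H, ρ h b = b := by
  classical
  haveI := Fintype.ofFinite H
  have hne : ∀ n : ℕ, n ∣ Nat.card H → (n : k) ≠ 0 := fun n hn h0 =>
    hchar (((ringChar.spec k n).1 h0).trans hn)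
  let P : Subgroup H → V →ₗ[k] V := fun B => ∑ β : B, ρ (β : H)
  have hPρ : ∀ (B : Subgroup H) (b : B) (v : V), P B (ρ (b : H) v) = P B v := fun B b v => by
    simp only [P, LinearMap.sum_apply]
    refine Fintype.sum_equiv (Equiv.mulRight b) _ _ fun β => ?_
    show ρ (β : H) (ρ (b : H) v) = ρ ((β : H) * (b : H)) v
    rw [map_mul]; rfl
  have hPfix : ∀ (B : Subgroup H) (v : V), (∀ β ∈ B, ρ β v = v) → P B v = (Nat.card B : k) • v := fun B v hv => by
    simp only [P, LinearMap.sum_apply]
    rw [Finset.sum_congr rfl (fun (β : B) _ => hv β β.2), Finset.sum_const, Finset.card_univ, Nat.card_eq_fintype_card,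
      Nat.cast_smul_eq_nsmul]
  have hmain : ∀ B : Subgroup H, (∀ h : H, ∃ β ∈ B, ρ h a = ρ β a) →
      ∀ v, P B v ∈ Submodule.span k {P B a} := by
    intro B hB v
    have hv : v ∈ Submodule.span k {u : V | ∃ h : H, ρ h a = u} := by rw [hspan]; trivial
    refine Submodule.span_induction ?_ ?_ ?_ ?_ hv
    · rintro _ ⟨h, rfl⟩
      obtain ⟨β, hβ, e⟩ := hB h
      rw [e, hPρ B ⟨β, hβ⟩]
      exact Submodule.mem_span_singleton_self _
    · simp
    · intro u w _ _ hu hw; rw [map_add]; exact add_mem hu hw
    · intro c u _ hu; rw [map_smul]; exact Submodule.smul_mem _ c hu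
  constructor
  · have hle : ρ.invariants ≤ Submodule.span k {P ⊤ a} := fun v hv => by
      have h1 := hmain ⊤ (fun h => ⟨h, trivial, rfl⟩) v
      rw [hPfix ⊤ v (fun β _ => hv β)] at h1
      exact (Submodule.smul_mem_iff _ (hne _ (Subgroup.card_subgroup_dvd_card _))).1 h1
    refine (Submodule.finrank_mono hle).trans ?_
    exact (finrank_span_le_card ({P ⊤ a} : Set V)).trans (by simp)
  · intro b hcop
    letI : MulAction H V :=
      { smul := fun h v => ρ h v
        one_smul := fun v => by show ρ 1 v = v; rw [map_one]; rfl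
        mul_smul := fun g h v => by show ρ (g * h) v = ρ g (ρ h v); rw [map_mul]; rfl }
    set A := MulAction.stabilizer H a
    set B := MulAction.stabilizer H b
    have horb : ∀ v : V, Nat.card {u : V | ∃ h : H, ρ h v = u} = (MulAction.stabilizer H v).index := fun v => by
      rw [MulAction.index_stabilizer]
      rfl
    rw [horb a, horb b] at hcop
    have hrel : A.relIndex B = A.index := by
      have h1 : (A ⊓ B).index = A.relIndex B * B.index := by
        rw [← Subgroup.inf_relIndex_right, Subgroup.relIndex_mul_index inf_le_right]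
      have h2 : A.index ∣ A.relIndex B :=
        hcop.dvd_of_dvd_mul_right (h1 ▸ Subgroup.index_dvd_of_le inf_le_left)
      have h3 : A.relIndex B ≤ A.index := by
        have := Subgroup.relIndex_le_of_le_right (H := A) (le_top : B ≤ ⊤) (by rw [Subgroup.relIndex_top_right]; exact Subgroup.FiniteIndex.index_ne_zero)
        rwa [Subgroup.relIndex_top_right] at this
      exact le_antisymm h3 (Nat.le_of_dvd (Nat.pos_of_ne_zero Subgroup.FiniteIndex.index_ne_zero) h2)
    have htrans : ∀ h : H, ∃ β ∈ B, ρ h a = ρ β a := by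
      let φ : B ⧸ A.subgroupOf B → H ⧸ A := Quotient.map' (fun β : B => (β : H)) (fun x y hxy => by
        rw [QuotientGroup.leftRel_apply] at hxy ⊢
        exact hxy)
      have hinj : Function.Injective φ := fun q r => Quotient.inductionOn₂' q r fun x y hxy =>
        QuotientGroup.eq.2 ((QuotientGroup.eq (s := A) (a := (x : H)) (b := (y : H))).1 hxy)
      have hbij : Function.Bijective φ := hinj.bijective_of_nat_card_le (le_of_eq hrel.symm)
      intro h
      obtain ⟨q, hq⟩ := hbij.2 (h : H ⧸ A)
      obtain ⟨β, rfl⟩ := QuotientGroup.mk_surjective q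
      have h4 : (β : H)⁻¹ * h ∈ A := QuotientGroup.eq.1 hq
      refine ⟨β, β.2, ?_⟩
      have h5 : ρ ((β : H)⁻¹ * h) a = a := h4
      calc ρ h a = ρ ((β : H) * ((β : H)⁻¹ * h)) a := by rw [mul_inv_cancel_left]
        _ = ρ (β : H) a := by rw [map_mul, Module.End.mul_apply, h5]
    obtain ⟨c, hc⟩ := Submodule.mem_span_singleton.1 (hmain B htrans b)
    rw [hPfix B b (fun β hβ => hβ)] at hc
    -- the `B`-sum of `a` is a multiple of the `H`-sum
    have hS : ∀ h : H, ρ h (P ⊤ a) = P ⊤ a := fun h => by
      simp only [P, LinearMap.sum_apply, map_sum]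
      refine Fintype.sum_equiv (Equiv.mulLeft (⟨h, trivial⟩ : (⊤ : Subgroup H))) _ _ fun β => ?_
      show ρ h (ρ (β : H) a) = ρ (h * (β : H)) a
      rw [map_mul]; rfl
    have hSB : (Nat.card B : k) • P ⊤ a = (Nat.card H : k) • P B a := by
      rw [← hPfix B (P ⊤ a) (fun β _ => hS β)]
      rw [show P ⊤ a = ∑ h : (⊤ : Subgroup H), ρ (h : H) a from LinearMap.sum_apply _ _ _, map_sum]
      rw [Finset.sum_congr rfl (fun (h : (⊤ : Subgroup H)) _ => show P B (ρ (h : H) a) = P B a by
        obtain ⟨β, hβ, e⟩ := htrans h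
        rw [e, hPρ B ⟨β, hβ⟩])]
      rw [Finset.sum_const, Finset.card_univ, Nat.cast_smul_eq_nsmul, ← Nat.card_eq_fintype_card, Subgroup.card_top]
    intro h
    have hPB : ρ h (P B a) = P B a := by
      apply smul_right_injective V (hne _ dvd_rfl)
      show (Nat.card H : k) • _ = (Nat.card H : k) • _
      rw [← map_smul, ← hSB, map_smul, hS]
    apply smul_right_injective V (hne _ (Subgroup.card_subgroup_dvd_card B))
    show (Nat.card B : k) • _ = (Nat.card B : k) • _
    rw [← map_smul, ← hc, map_smul, hPB]

end Cfsg.Agent.S4177
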