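import Cfsg.Statements.S4178
import Mathlib

set_option maxHeartbeats 1000000
set_option maxRecDepth 8000

set_option autoImplicit false
open Cfsg

namespace Cfsg.Agent.S4178

theorem index_le {F V : Type*} [Field F] [AddCommGroup V] [Module F V] [Finite V]
    (H : Subgroup (V ≃ₗ[F] V)) (W U : Submodule F V) (hW : ∀ h ∈ H, ∀ w ∈ W, h w ∈ W) (hU : ∀ h ∈ H, ∀ u ∈ U, h u ∈ U)
    (hUW : W ≤ U) {v : V} (hvU : v ∈ U) (hvW : v ∉ W) :
    (Subgroup.closure {h : ↥H | ∃ v : V, v ≠ 0 ∧ (h : V ≃ₗ[F] V) v = v}).index * Nat.card W + Nat.card W ≤ Nat.card U := by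
  classical
  haveI : Finite (V ≃ₗ[F] V) := Finite.of_injective (fun e : V ≃ₗ[F] V => (e : V → V)) DFunLike.coe_injective
  set R := Subgroup.closure {h : ↥H | ∃ v : V, v ≠ 0 ∧ (h : V ≃ₗ[F] V) v = v}
  -- elements fixing `v` modulo `W` have a fixed vector
  have key : ∀ h : H, (h : V ≃ₗ[F] V) v - v ∈ W → h ∈ R := by
    intro h hh
    refine Subgroup.subset_closure ?_
    by_contra hc
    simp only [Set.mem_ofPred_eq, not_exists, not_and] at hc
    let f : W → W := fun w => ⟨(h : V ≃ₗ[F] V) w - w, W.sub_mem (hW _ h.2 _ w.2) w.2⟩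
    have hf : Function.Injective f := by
      intro a b hab
      have h1 := congrArg Subtype.val hab
      by_contra hne
      refine hc ((a : V) - b) (sub_ne_zero.2 fun e => hne (Subtype.ext e)) ?_
      rw [map_sub]
      exact sub_eq_sub_iff_sub_eq_sub.1 h1
    obtain ⟨w, hw⟩ := (Finite.injective_iff_surjective.1 hf) ⟨_, hh⟩
    have h2 : (h : V ≃ₗ[F] V) w - w = (h : V ≃ₗ[F] V) v - v := congrArg Subtype.val hw
    refine hc (v - w) (sub_ne_zero.2 fun e => hvW (e ▸ w.2)) ?_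
    rw [map_sub]
    exact sub_eq_sub_iff_sub_eq_sub.1 h2.symm
  -- choose coset representatives
  let g : (H ⧸ R) → U := fun q => ⟨((q.out : H) : V ≃ₗ[F] V) v, hU _ (q.out : H).2 _ hvU⟩
  have hg : ∀ q q' : H ⧸ R, ((g q : U) : V) - (g q' : U) ∈ W → q = q' := by
    intro q q' hh
    rw [← QuotientGroup.out_eq' q, ← QuotientGroup.out_eq' q', QuotientGroup.eq]
    refine R.inv_mem_iff.1 ?_
    rw [mul_inv_rev, inv_inv]
    refine key _ ?_
    have h3 := hW _ ((q'.out : H)⁻¹).2 _ hh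
    have e : (((q'.out : H)⁻¹ * q.out : H) : V ≃ₗ[F] V) v =
        (((q'.out : H)⁻¹ : H) : V ≃ₗ[F] V) (((q.out : H) : V ≃ₗ[F] V) v) := rfl
    rw [e]
    rw [map_sub] at h3
    have e2 : (((q'.out : H)⁻¹ : H) : V ≃ₗ[F] V) (((q'.out : H) : V ≃ₗ[F] V) v) = v := by
      show (((q'.out : H)⁻¹ * q'.out : H) : V ≃ₗ[F] V) v = v
      rw [inv_mul_cancel]; rfl
    rwa [e2] at h3
  have hgW : ∀ q, ((g q : U) : V) ∉ W := by
    intro q hh
    refine hvW ?_
    have h3 := hW _ ((q.out : H)⁻¹).2 _ hh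
    rwa [show (((q.out : H)⁻¹ : H) : V ≃ₗ[F] V) ((g q : U) : V) = v by
      show (((q.out : H)⁻¹ * q.out : H) : V ≃ₗ[F] V) v = v
      rw [inv_mul_cancel]; rfl] at h3
  let Φ : (H ⧸ R) × W ⊕ W → U := Sum.elim (fun a => ⟨((g a.1 : U) : V) + a.2, U.add_mem (g a.1).2 (hUW a.2.2)⟩)
    (fun w => ⟨w, hUW w.2⟩)
  have hΦ : Function.Injective Φ := by
    rintro (⟨q, w⟩ | w) (⟨q', w'⟩ | w') hab
    · have h1 : ((g q : U) : V) + w = (g q' : U) + w' := congrArg Subtype.val hab
      have hq : q = q' := hg q q' (by rw [sub_eq_sub_iff_add_eq_add.2 (show ((g q : U) : V) + w = w' + (g q' : U) by rw [h1]; abel)]; exact W.sub_mem w'.2 w.2)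
      subst hq
      rw [Subtype.ext (add_left_cancel h1)]
    · have h1 : ((g q : U) : V) + w = w' := congrArg Subtype.val hab
      exact absurd (eq_sub_of_add_eq h1 ▸ W.sub_mem w'.2 w.2) (hgW q)
    · have h1 : (w : V) = ((g q' : U) : V) + w' := congrArg Subtype.val hab
      exact absurd (eq_sub_of_add_eq h1.symm ▸ W.sub_mem w.2 w'.2) (hgW q')
    · rw [show w = w' from Subtype.ext (congrArg (fun u : U => (u : V)) hab : (w : V) = w')]
  have := Nat.card_le_card_of_injective Φ hΦ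
  rwa [Nat.card_sum, Nat.card_prod, ← Subgroup.index_eq_card] at this


/-- Let F be a finite field with q elements, V a non-zero finite-dimensional F-space of dimension d, H a group of invertible linear maps of V, and R the subgroup of H generated by the elements of H that fix some non-zero vector (have eigenvalue 1). Then the index of R in H is at most q^d − 1; and if H leaves invariant some proper non-zero subspace, the index is at most q^(d/2) − 1. -/
theorem result {F V : Type*} [Field F] [Fintype F] [AddCommGroup V] [Module F V] [FiniteDimensional F V] [Nontrivial V]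
    (H : Subgroup (V ≃ₗ[F] V)) :
    (Subgroup.closure {h : ↥H | ∃ v : V, v ≠ 0 ∧ (h : V ≃ₗ[F] V) v = v}).index ≤ Fintype.card F ^ Module.finrank F V - 1 ∧
    ((∃ W : Submodule F V, W ≠ ⊥ ∧ W ≠ ⊤ ∧ ∀ h ∈ H, ∀ w ∈ W, h w ∈ W) →
      ((Subgroup.closure {h : ↥H | ∃ v : V, v ≠ 0 ∧ (h : V ≃ₗ[F] V) v = v}).index : ℝ) ≤ Real.sqrt ((Fintype.card F : ℝ) ^ Module.finrank F V) - 1) := by

  haveI : Finite V := Module.finite_of_finite F
  have hV : Nat.card V = Fintype.card F ^ Module.finrank F V := by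
    rw [Module.natCard_eq_pow_finrank (K := F), Nat.card_eq_fintype_card]
  obtain ⟨v, hv⟩ := exists_ne (0 : V)
  have h0 := index_le H ⊥ ⊤ (fun h _ w hw => by rw [Submodule.mem_bot] at hw ⊢; rw [hw, map_zero])
    (fun _ _ _ _ => trivial) bot_le (v := v) trivial (by rwa [Submodule.mem_bot])
  have hb : Nat.card (⊥ : Submodule F V) = 1 := Nat.card_unique
  have ht : Nat.card (⊤ : Submodule F V) = Nat.card V := Nat.card_congr Submodule.topEquiv.toEquiv
  rw [hb, mul_one, ht, hV] at h0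
  refine ⟨by omega, fun ⟨W, hW0, hWt, hW⟩ => ?_⟩
  set R := Subgroup.closure {h : ↥H | ∃ v : V, v ≠ 0 ∧ (h : V ≃ₗ[F] V) v = v}
  obtain ⟨w, hw, hwne⟩ := Submodule.exists_mem_ne_zero_of_ne_bot hW0
  obtain ⟨u, hu⟩ : ∃ u, u ∉ W := by
    by_contra hc
    push Not at hc
    exact hWt (eq_top_iff.2 fun x _ => hc x)
  have h1 := index_le H ⊥ W (fun h _ w hw => by rw [Submodule.mem_bot] at hw ⊢; rw [hw, map_zero])
    hW bot_le (v := w) hw (by rwa [Submodule.mem_bot])
  have h2 := index_le H W ⊤ hW (fun _ _ _ _ => trivial) le_top (v := u) trivial hu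
  rw [hb, mul_one] at h1
  rw [ht] at h2
  have h3 : (R.index + 1) ^ 2 ≤ Fintype.card F ^ Module.finrank F V := by
    rw [← hV]
    calc (R.index + 1) ^ 2 = (R.index + 1) * (R.index + 1) := sq _
      _ ≤ (R.index + 1) * Nat.card W := Nat.mul_le_mul_left _ h1
      _ = R.index * Nat.card W + Nat.card W := by ring
      _ ≤ Nat.card V := h2
  have h4 : ((R.index : ℝ) + 1) ^ 2 ≤ (Fintype.card F : ℝ) ^ Module.finrank F V := by exact_mod_cast h3
  have h5 := Real.sqrt_le_sqrt h4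
  rw [Real.sqrt_sq (by positivity)] at h5
  linarith

end Cfsg.Agent.S4178
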