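import Cfsg.Statements.S4181
import Cfsg.Agent.Lib.Invol.SylowFixBound

set_option autoImplicit false
open scoped Pointwise
open Cfsg

namespace Cfsg.Agent.S4181

/-- Let p be a prime and G a finite group generated by its elements of p-power order, and let H be a proper subgroup of G containing a Sylow p-subgroup of G. Then 2p − 1 times the number of Sylow p-subgroups of H is at most p − 1 times the number of Sylow p-subgroups of G. -/
theorem result {G : Type*} [Group G] [Finite G] (p : ℕ) [Fact p.Prime] (hgen : Subgroup.closure {g : G | ∃ k : ℕ, orderOf g = p ^ k} = ⊤)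
    (H : Subgroup G) (hH : H ≠ ⊤) (P : Sylow p G) (hP : (P : Subgroup G) ≤ H) :
    (2 * p - 1) * Nat.card (Sylow p ↥H) ≤ (p - 1) * Nat.card (Sylow p G) := by
  classical
  have hp := (Fact.out : p.Prime)
  let X := Cfsg.Agent.Invol.SylowFix.gen p H
  have hsub : ∀ Q : Sylow p G, (Q : Subgroup G) ≤ X ↔ (Q : Subgroup G) ≤ H :=
    fun Q => Cfsg.Agent.Invol.SylowFix.le_gen_iff
  have htop : Cfsg.Agent.Invol.SylowFix.gen p (⊤ : Subgroup G) = ⊤ := by
    refine top_le_iff.1 ?_
    conv_lhs => rw [← hgen]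
    rw [Subgroup.closure_le]
    rintro g ⟨k, hk⟩
    have hz : IsPGroup p (Subgroup.zpowers g) := IsPGroup.of_card (n := k) (by rw [Nat.card_zpowers, hk])
    obtain ⟨Q, hQ⟩ := hz.exists_le_sylow
    exact Cfsg.Agent.Invol.SylowFix.le_gen (le_top (a := (Q : Subgroup G))) (hQ (Subgroup.mem_zpowers g))
  have hgood : Cfsg.Agent.Invol.SylowFix.Good p ⊤ X :=
    ⟨Cfsg.Agent.Invol.SylowFix.gen_gen H, ⟨P, Cfsg.Agent.Invol.SylowFix.le_gen hP⟩, le_top,
      fun he => hH (top_le_iff.1 ((htop.symm.trans he).le.trans (Cfsg.Agent.Invol.SylowFix.gen_le H)))⟩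
  let O := Cfsg.Agent.Invol.SylowFix.orb ⊤ X
  haveI := Fintype.ofFinite (Sylow p G)
  let c := (O.filter fun Z => (P : Subgroup G) ≤ Z).card
  let σ := Nat.card (Sylow p ↥H)
  have hσ : ∀ Z ∈ O, (Finset.univ.filter fun Q : Sylow p G => (Q : Subgroup G) ≤ Z).card = σ := by
    intro Z hZ
    obtain ⟨g, -, rfl⟩ := Cfsg.Agent.Invol.SylowFix.mem_orb.1 hZ
    rw [← Fintype.card_subtype, ← Nat.card_eq_fintype_card]
    let e : {Q : Sylow p G // (Q : Subgroup G) ≤ MulAut.conj g • X} ≃ {Q : Sylow p G // (Q : Subgroup G) ≤ H} :=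
      (MulAction.toPerm (g⁻¹ : G)).subtypeEquiv fun Q => by
        rw [← hsub]
        show _ ↔ ((g⁻¹ • Q : Sylow p G) : Subgroup G) ≤ X
        rw [Sylow.coe_subgroup_smul, map_inv, Subgroup.subset_pointwise_smul_iff]
    rw [Nat.card_congr e]
    refine Nat.card_congr (Equiv.ofBijective
      (fun Q => (Q.1.subtype Q.2 : Sylow p ↥H)) ⟨fun a b h => Subtype.ext (Sylow.subtype_injective h), ?_⟩)
    intro R
    obtain ⟨h, hh⟩ := MulAction.exists_smul_eq ↥H (P.subtype hP) R
    exact ⟨⟨h • P, Sylow.smul_le hP h⟩, by rw [← hh, Sylow.smul_subtype hP h]⟩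
  have hc : ∀ Q : Sylow p G, (O.filter fun Z => (Q : Subgroup G) ≤ Z).card = c := by
    intro Q
    have h := Cfsg.Agent.Invol.SylowFix.slack_indep (H := ⊤) (X := X) Q P le_top le_top
    simp only [Cfsg.Agent.Invol.SylowFix.slack, Cfsg.Agent.Invol.SylowFix.wt, Finset.sum_sub_distrib,
      Finset.sum_ite, Finset.sum_const_zero, add_zero, Finset.sum_const, nsmul_eq_mul] at h
    have h2 : (2 * (p : ℤ) - 1) ≠ 0 := by have := hp.two_le; omega
    have h3 : ((O.filter fun Z => (Q : Subgroup G) ≤ Z).card : ℤ) = c := by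
      apply mul_right_cancel₀ h2
      linarith
    exact_mod_cast h3
  have hdc := Finset.sum_card_bipartiteAbove_eq_sum_card_bipartiteBelow
    (r := fun (Z : Subgroup G) (Q : Sylow p G) => (Q : Subgroup G) ≤ Z) (s := O) (t := Finset.univ)
  simp only [Finset.bipartiteAbove, Finset.bipartiteBelow] at hdc
  rw [Finset.sum_congr rfl hσ, Finset.sum_congr rfl fun Q _ => hc Q, Finset.sum_const,
    Finset.sum_const, smul_eq_mul, smul_eq_mul, Finset.card_univ, ← Nat.card_eq_fintype_card] at hdc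
  have hs := Cfsg.Agent.Invol.SylowFix.slack_nonneg (P := P) le_top hgood
  simp only [Cfsg.Agent.Invol.SylowFix.slack, Cfsg.Agent.Invol.SylowFix.wt, Finset.sum_sub_distrib,
    Finset.sum_ite, Finset.sum_const_zero, add_zero, Finset.sum_const, nsmul_eq_mul] at hs
  have hs' : (2 * p - 1) * c ≤ (p - 1) * O.card := by
    have h1 := hp.two_le
    have : (((2 * p - 1) * c : ℕ) : ℤ) ≤ (((p - 1) * O.card : ℕ) : ℤ) := by
      push_cast [Nat.cast_sub (show 1 ≤ 2 * p by omega), Nat.cast_sub (show 1 ≤ p by omega)]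
      linarith
    exact_mod_cast this
  have hO : 0 < O.card := Finset.card_pos.2 ⟨X, Cfsg.Agent.Invol.SylowFix.self_mem_orb ⊤ X⟩
  refine Nat.le_of_mul_le_mul_left ?_ hO
  calc O.card * ((2 * p - 1) * σ) = (2 * p - 1) * c * Nat.card (Sylow p G) := by
        rw [mul_left_comm, hdc]; ring
    _ ≤ (p - 1) * O.card * Nat.card (Sylow p G) := Nat.mul_le_mul_right _ hs'
    _ = O.card * ((p - 1) * Nat.card (Sylow p G)) := by ring

end Cfsg.Agent.S4181
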