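import Cfsg.Statements.S4182
import Mathlib

set_option maxHeartbeats 1000000
set_option maxRecDepth 8000

set_option autoImplicit false
open Cfsg

namespace Cfsg.Agent.S4182

universe u

/-- `E` is generated by elements of `p`-power order. -/
def PGen {G : Type*} [Group G] (p : ℕ) (E : Subgroup G) : Prop :=
  ∃ S : Set G, (∀ g ∈ S, ∃ k : ℕ, orderOf g = p ^ k) ∧ Subgroup.closure S = E

theorem core (p : ℕ) [hp : Fact p.Prime] {ι : Type*} [Fintype ι] (hι : Fintype.card ι ≤ p) :
    ∀ (n : ℕ) {G : Type u} [Group G] [Finite G], Nat.card G = n → Subgroup.closure {g : G | ∃ k : ℕ, orderOf g = p ^ k} = ⊤ →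
      ∀ K : ι → Subgroup G, (∀ i, K i ≠ ⊤) → (∀ g : G, (∃ k : ℕ, orderOf g = p ^ k) → ∃ i, g ∈ K i) → False := by
  intro n
  induction n using Nat.strong_induction_on with
  | _ n ih =>
    intro G _ _ hn hgen K hK hcov
    have hsub : ∀ E : Subgroup G, PGen p E → E ≠ ⊤ → ∃ i, E ≤ K i := by
      rintro E ⟨S, hS, rfl⟩ hE
      by_contra hno
      push Not at hno
      have hlt : Nat.card (Subgroup.closure S) < n := by
        rw [← hn]
        refine lt_of_le_of_ne (Subgroup.card_le_card_group _) fun e => hE (Subgroup.eq_top_of_card_eq _ e)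
      refine ih _ hlt rfl ?_ (fun i => (K i).subgroupOf _) (fun i h => hno i (Subgroup.subgroupOf_eq_top.1 h))
        (fun g hg => hcov g (by simpa [Subgroup.orderOf_coe] using hg))
      refine top_unique ?_
      rw [← Subgroup.closure_closure_coe_preimage (k := S)]
      exact Subgroup.closure_mono fun g hg => by simpa [Subgroup.orderOf_coe] using hS _ hg
    have hpow : ∀ g : G, (∃ k : ℕ, orderOf g = p ^ k) → IsPGroup p (Subgroup.zpowers g) := fun g ⟨k, hk⟩ =>
      IsPGroup.of_card (n := k) (by rw [Nat.card_zpowers, hk])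
    obtain ⟨P⟩ : Nonempty (Sylow p G) := inferInstance
    have hPgen : PGen p (P : Subgroup G) := ⟨(P : Subgroup G), fun g hg => by
      obtain ⟨k, hk⟩ := IsPGroup.iff_orderOf.1 P.isPGroup' ⟨g, hg⟩
      exact ⟨k, by rwa [← Subgroup.orderOf_coe] at hk⟩, Subgroup.closure_eq _⟩
    by_cases hP : (P : Subgroup G) = ⊤
    · -- a `p`-group is no union of `p` proper subgroups
      classical
      letI := Fintype.ofFinite G
      have hG : IsPGroup p G := by
        have := P.isPGroup'
        rw [hP] at this
        exact this.of_equiv Subgroup.topEquiv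
      have hsmall : ∀ i, Nat.card (K i) * p ≤ Nat.card G := fun i => by
        rw [← Subgroup.card_mul_index (K i)]
        refine Nat.mul_le_mul_left _ ?_
        obtain ⟨k, hk⟩ := hG.index (K i)
        rw [hk]
        refine Nat.le_self_pow (fun hk0 => hK i (Subgroup.index_eq_one.1 ?_)) p
        rw [hk, hk0, pow_zero]
      have hunion : (Finset.univ : Finset G).erase 1 ⊆ Finset.univ.biUnion fun i => (Finset.univ.filter (· ∈ K i)).erase 1 := by
        intro g hg
        obtain ⟨i, hi⟩ := hcov g (IsPGroup.iff_orderOf.1 hG g)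
        simp only [Finset.mem_biUnion, Finset.mem_erase, Finset.mem_filter, Finset.mem_univ, true_and, and_true] at hg ⊢
        exact ⟨i, hg, hi⟩
      have h1 := (Finset.card_le_card hunion).trans Finset.card_biUnion_le
      rw [Finset.card_erase_of_mem (Finset.mem_univ _), Finset.card_univ, ← Nat.card_eq_fintype_card] at h1
      have h2 : ∀ i, (((Finset.univ.filter (· ∈ K i)).erase 1).card + 1) * p ≤ Nat.card G := fun i => by
        refine le_trans (le_of_eq ?_) (hsmall i)
        rw [Finset.card_erase_of_mem (by simp [one_mem]), Nat.sub_add_cancel (Finset.card_pos.2 ⟨1, by simp [one_mem]⟩)]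
        congr 1
        rw [Nat.card_eq_fintype_card, Fintype.card_subtype]
      have h3 : (∑ i, ((Finset.univ.filter (· ∈ K i)).erase 1).card) * p + Fintype.card ι * p ≤ Fintype.card ι * Nat.card G := by
        have h4 : ∑ i, (((Finset.univ.filter (· ∈ K i)).erase 1).card + 1) * p ≤ ∑ _i : ι, Nat.card G :=
          Finset.sum_le_sum fun i _ => h2 i
        simpa [add_mul, Finset.sum_add_distrib, Finset.sum_mul] using h4
      obtain ⟨i⟩ : Nonempty ι := ⟨(hcov 1 ⟨0, by rw [orderOf_one, pow_zero]⟩).choose⟩
      have hpG : p ≤ Nat.card G := le_trans (Nat.le_mul_of_pos_left p Nat.card_pos) (hsmall i)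
      have hp2 := hp.out.two_le
      obtain ⟨m, hm⟩ : ∃ m, Nat.card G = m + p := ⟨Nat.card G - p, by omega⟩
      rw [hm] at h1 h3
      have h5 := Nat.mul_le_mul_right p h1
      have h6 : (m + p - 1) * p + p = (m + p) * p := by
        rw [← Nat.succ_mul]; congr 1; omega
      have h7 : Fintype.card ι * m ≤ p * m := Nat.mul_le_mul_right m hι
      have h8 : 2 * p ≤ p * p := Nat.mul_le_mul_right p hp2
      simp only [add_mul, mul_add] at h3 h6 ⊢
      have h9 : m * p = p * m := mul_comm _ _
      omega
    · -- a maximal proper generated subgroup above the Sylow subgroup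
      have hfin : {E : Subgroup G | PGen p E ∧ E ≠ ⊤ ∧ (P : Subgroup G) ≤ E}.Finite := Set.toFinite _
      obtain ⟨E₀, ⟨hE₀, hE₀t, hPE⟩, hmax⟩ := hfin.exists_maximal ⟨_, hPgen, hP, le_rfl⟩
      let N := Subgroup.normalizer (E₀ : Set G)
      have hconj : ∀ (g : G) (E : Subgroup G), PGen p E → PGen p (E.map (MulAut.conj g).toMonoidHom) := by
        rintro g E ⟨S, hS, rfl⟩
        refine ⟨(MulAut.conj g).toMonoidHom '' S, ?_, (MonoidHom.map_closure _ _).symm⟩
        rintro _ ⟨s, hs, rfl⟩
        obtain ⟨k, hk⟩ := hS s hs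
        exact ⟨k, by rw [← hk]; exact MulEquiv.orderOf_eq (MulAut.conj g) s⟩
      have hjoin : ∀ E F : Subgroup G, PGen p E → PGen p F → PGen p (E ⊔ F) := by
        rintro E F ⟨S, hS, rfl⟩ ⟨T, hT, rfl⟩
        exact ⟨S ∪ T, fun g hg => hg.elim (hS g) (hT g), Subgroup.closure_union S T⟩
      have hne : ∀ g : G, E₀.map (MulAut.conj g).toMonoidHom ≠ ⊤ := fun g e =>
        hE₀t (Subgroup.map_injective (MulEquiv.injective (MulAut.conj g)) (e.trans
          (Subgroup.map_top_of_surjective _ (MulEquiv.surjective (MulAut.conj g))).symm))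
      choose f hf using fun g : G => hsub _ (hconj g E₀ hE₀) (hne g)
      -- two conjugates in the same member coincide
      have hkey : ∀ g h : G, f g = f h → h⁻¹ * g ∈ N := by
        intro g h e
        let F := (E₀.map (MulAut.conj g).toMonoidHom ⊔ E₀.map (MulAut.conj h).toMonoidHom).map (MulAut.conj h⁻¹).toMonoidHom
        have hFK : F ≤ (K (f g)).map (MulAut.conj h⁻¹).toMonoidHom :=
          Subgroup.map_mono (sup_le (hf g) (by rw [e]; exact hf h))
        have hFt : F ≠ ⊤ := fun et => hK (f g) (Subgroup.map_injective (MulEquiv.injective (MulAut.conj h⁻¹))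
          ((top_unique (et ▸ hFK)).trans (Subgroup.map_top_of_surjective _ (MulEquiv.surjective (MulAut.conj h⁻¹))).symm))
        have hEF : E₀ ≤ F := fun v hv => ⟨_, Subgroup.mem_sup_right ⟨v, hv, rfl⟩, by
          simp [MulAut.conj_apply, mul_assoc]⟩
        have hle : F ≤ E₀ := hmax ⟨hconj _ _ (hjoin _ _ (hconj _ _ hE₀) (hconj _ _ hE₀)), hFt, hPE.trans hEF⟩ hEF
        refine Subgroup.mem_normalizer_fintype fun v hv => hle ⟨_, Subgroup.mem_sup_left ⟨v, hv, rfl⟩, ?_⟩
        simp [MulAut.conj_apply, mul_assoc]
      have hidx : N.index ≤ p := by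
        refine le_trans ?_ hι
        rw [← Nat.card_eq_fintype_card]
        refine Nat.card_le_card_of_injective (fun c : G ⧸ N => f c.out) fun a b e => ?_
        rw [← QuotientGroup.out_eq' a, ← QuotientGroup.out_eq' b]
        exact (QuotientGroup.eq.2 (hkey _ _ e)).symm
      have hndvd : ¬ p ∣ N.index := fun hd => P.not_dvd_index
        (hd.trans (Subgroup.index_dvd_of_le (hPE.trans Subgroup.le_normalizer)))
      have hlt : N.index < p := lt_of_le_of_ne hidx fun e => hndvd (e ▸ dvd_rfl)
      have hN : N = ⊤ := by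
        refine top_unique ?_
        rw [← hgen, Subgroup.closure_le]
        intro x hx
        have hi := (hpow x hx).index (N.subgroupOf (Subgroup.zpowers x))
        obtain ⟨k, hk⟩ := hi
        have hle : N.relIndex (Subgroup.zpowers x) ≤ N.index := by
          rw [← Subgroup.relIndex_top_right]
          exact Subgroup.relIndex_le_of_le_right le_top
            (by rw [Subgroup.relIndex_top_right]; exact Subgroup.index_ne_zero_of_finite)
        rcases k with _ | k
        · rw [pow_zero, Subgroup.index_eq_one, Subgroup.subgroupOf_eq_top] at hk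
          exact hk (Subgroup.mem_zpowers x)
        · exfalso
          have : N.relIndex (Subgroup.zpowers x) = p ^ (k + 1) := hk
          have h' : p ≤ p ^ (k + 1) := Nat.le_self_pow (Nat.succ_ne_zero k) p
          omega
      refine hE₀t (top_unique ?_)
      rw [← hgen, Subgroup.closure_le]
      intro x hx
      obtain ⟨Q, hQ⟩ := (hpow x hx).exists_le_sylow
      obtain ⟨g, hg⟩ := MulAction.exists_smul_eq G P Q
      have hxQ : x ∈ Q := hQ (Subgroup.mem_zpowers x)
      rw [← hg] at hxQ
      obtain ⟨v, hv, rfl⟩ := hxQ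
      have hgN : g ∈ N := hN.symm ▸ Subgroup.mem_top g
      exact (Subgroup.mem_normalizer_iff.1 hgN v).1 (hPE hv)

/-- Let p be a prime and G a finite group generated by its p-elements. If a finite family of proper subgroups of G covers the set of p-elements of G (every element of p-power order lies in one of them), then the family has at least p + 1 members. -/
theorem result {G : Type*} [Group G] [Finite G] (p : ℕ) [Fact p.Prime] (hgen : Subgroup.closure {g : G | ∃ k : ℕ, orderOf g = p ^ k} = ⊤)
    {ι : Type*} [Fintype ι] (K : ι → Subgroup G) (hK : ∀ i, K i ≠ ⊤)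
    (hcov : ∀ g : G, (∃ k : ℕ, orderOf g = p ^ k) → ∃ i, g ∈ K i) :
    p + 1 ≤ Fintype.card ι := by

  by_contra h
  exact core p (by omega) _ rfl hgen K hK hcov

end Cfsg.Agent.S4182
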