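import Cfsg.Statements.S4186

set_option maxHeartbeats 1000000
set_option maxRecDepth 8000

set_option autoImplicit false
open Cfsg

namespace Cfsg.Agent.S4186

/-- Let T and X be subgroups of a group with T a finite 2-group normalizing X but not centralizing it. Then some element of T inverts some non-identity element of X under conjugation. -/
theorem result {G : Type*} [Group G] (T X : Subgroup G) [Finite ↥T] (hT : IsPGroup 2 ↥T) (hTN : T ≤ Subgroup.normalizer (X : Set G)) (hTC : ¬ T ≤ Subgroup.centralizer (X : Set G)) : ∃ t ∈ T, ∃ x ∈ X, x ≠ 1 ∧ t * x * t⁻¹ = x⁻¹ := by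
  classical
  obtain ⟨t₀, ht₀, ht₀C⟩ := SetLike.not_le_iff_exists.mp hTC
  obtain ⟨k, hk⟩ := hT ⟨t₀, ht₀⟩
  have hex : ∃ j, t₀ ^ 2 ^ j ∈ Subgroup.centralizer (X : Set G) := ⟨k, by
    have h1 : t₀ ^ 2 ^ k = 1 := congrArg Subtype.val hk
    rw [h1]
    exact one_mem _⟩
  have h0 : Nat.find hex ≠ 0 := fun e => by
    have := Nat.find_spec hex
    rw [e, pow_zero, pow_one] at this
    exact ht₀C this
  obtain ⟨j, hj⟩ := Nat.exists_eq_succ_of_ne_zero h0
  set t := t₀ ^ 2 ^ j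
  have htC : t ∉ Subgroup.centralizer (X : Set G) := Nat.find_min hex (by omega)
  have ht2 : t ^ 2 ∈ Subgroup.centralizer (X : Set G) := by
    rw [← pow_mul, ← pow_succ, ← Nat.succ_eq_add_one, ← hj]
    exact Nat.find_spec hex
  have htT : t ∈ T := pow_mem ht₀ _
  obtain ⟨x, hx, hne⟩ : ∃ x ∈ X, x * t ≠ t * x := by
    by_contra! hall
    exact htC (Subgroup.mem_centralizer_iff.mpr hall)
  have htx : t * x * t⁻¹ ∈ X := (Subgroup.mem_normalizer_iff.mp (hTN htT) x).mp hx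
  refine ⟨t, htT, x⁻¹ * (t * x * t⁻¹), X.mul_mem (X.inv_mem hx) htx, fun e => hne ?_, ?_⟩
  · rw [inv_mul_eq_one] at e
    calc x * t = t * x * t⁻¹ * t := by rw [← e]
      _ = t * x := by group
  · have h2 : t * (t * x * t⁻¹) * t⁻¹ = x := by
      have := Subgroup.mem_centralizer_iff.mp ht2 x hx
      calc t * (t * x * t⁻¹) * t⁻¹ = (t ^ 2 * x) * (t ^ 2)⁻¹ := by rw [pow_two]; group
        _ = (x * t ^ 2) * (t ^ 2)⁻¹ := by rw [this]
        _ = x := by group
    calc t * (x⁻¹ * (t * x * t⁻¹)) * t⁻¹ = (t * x⁻¹ * t⁻¹) * (t * (t * x * t⁻¹) * t⁻¹) := by group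
      _ = (x⁻¹ * (t * x * t⁻¹))⁻¹ := by rw [h2]; group

end Cfsg.Agent.S4186
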