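import Cfsg.Statements.S4188
import Mathlib
import Cfsg.Agent.Lib.Grp.Frattini
import Cfsg.Agent.Lib.Recog.NormalAbelianCyclic
import Cfsg.Agent.Lib.Fus.RankTwoExtra

set_option maxHeartbeats 1000000
set_option maxRecDepth 8000

set_option autoImplicit false
open Cfsg

namespace Cfsg.Agent.S4188

universe u

/-- The subgroup generated by the squares. -/
def sq (X : Type*) [Group X] : Subgroup X := Subgroup.closure (Set.range fun x : X => x ^ 2)

/-- An upper bound for the index of the Frattini subgroup of a `2`-group. -/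
noncomputable def b (X : Type*) [Group X] : ℕ := (sq X).index

def Q (n v : ℕ) : Prop := n = 1 ∨ (v = 3 ∧ n ≤ 2) ∨ 2 * n ≤ v

theorem sq_normal (X : Type*) [Group X] : (sq X).Normal :=
  by
    refine ⟨fun y hy g => ?_⟩
    have : y ∈ (sq X).comap (MulAut.conj g).toMonoidHom := by
      refine (Subgroup.closure_le _).2 ?_ hy
      rintro _ ⟨x, rfl⟩
      exact Subgroup.subset_closure ⟨g * x * g⁻¹, by simp [conj_pow]⟩
    simpa using this

theorem b_pos (X : Type*) [Group X] [Finite X] : 0 < b X := Nat.pos_of_ne_zero Subgroup.index_ne_zero_of_finite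

theorem b_trivial (X : Type*) [Group X] [Subsingleton X] : b X = 1 :=
  Subgroup.index_eq_one.2 (Subsingleton.elim _ _)

theorem b_of_hom {X Y : Type*} [Group X] [Finite X] [Group Y] (f : X →* Y) :
    b X ≤ b f.range * b f.ker := by
  haveI := sq_normal X
  have h1 : (sq X ⊔ f.ker).index = b f.range := by
    have hmap : (sq X).map f.rangeRestrict = sq f.range := by
      rw [sq, sq, MonoidHom.map_closure, ← Set.range_comp]
      congr 1
      ext y
      constructor
      · rintro ⟨x, rfl⟩; exact ⟨f.rangeRestrict x, by simp⟩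
      · rintro ⟨z, rfl⟩
        obtain ⟨x, rfl⟩ := f.rangeRestrict_surjective z
        exact ⟨x, by simp⟩
    rw [b, ← hmap, Subgroup.index_map, MonoidHom.ker_rangeRestrict, MonoidHom.range_eq_top.2 f.rangeRestrict_surjective,
      Subgroup.index_top, mul_one]
  have h2 : (sq X).relIndex (sq X ⊔ f.ker) ≤ b f.ker := by
    rw [Subgroup.relIndex_sup_left]
    refine Nat.le_of_dvd (b_pos _) (Subgroup.index_dvd_of_le ?_)
    rw [sq, Subgroup.closure_le]
    rintro _ ⟨y, rfl⟩
    exact Subgroup.subset_closure ⟨(y : X), rfl⟩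
  calc b X = (sq X).relIndex (sq X ⊔ f.ker) * (sq X ⊔ f.ker).index := (Subgroup.relIndex_mul_index le_sup_left).symm
    _ ≤ b f.ker * b f.range := by rw [h1]; exact Nat.mul_le_mul_right _ h2
    _ = _ := mul_comm _ _

theorem b_le_index_mul {X : Type*} [Group X] [Finite X] (M : Subgroup X) : b X ≤ M.index * b M := by
  calc b X ≤ (sq X ⊓ M).index := Nat.le_of_dvd (Nat.pos_of_ne_zero Subgroup.index_ne_zero_of_finite) (Subgroup.index_dvd_of_le inf_le_left)
    _ = (sq X).relIndex M * M.index := by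
        rw [← Subgroup.relIndex_mul_index (inf_le_right : sq X ⊓ M ≤ M), Subgroup.inf_relIndex_right]
    _ ≤ b M * M.index := by
        refine Nat.mul_le_mul_right _ (Nat.le_of_dvd (b_pos _) (Subgroup.index_dvd_of_le ?_))
        rw [sq, Subgroup.closure_le]
        rintro _ ⟨y, rfl⟩
        exact Subgroup.subset_closure ⟨(y : X), rfl⟩
    _ = _ := mul_comm _ _

theorem b_le_two {X : Type*} [Group X] [Finite X] [IsCyclic X] : b X ≤ 2 := by
  haveI := sq_normal X
  obtain ⟨g, hg⟩ := IsCyclic.exists_generator (α := X)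
  have hgen : ∀ y : X ⧸ sq X, y ∈ Subgroup.zpowers (QuotientGroup.mk' (sq X) g) := by
    intro y
    obtain ⟨x, rfl⟩ := QuotientGroup.mk'_surjective (sq X) y
    obtain ⟨i, rfl⟩ := hg x
    exact ⟨i, (map_zpow _ _ _).symm⟩
  rw [b, Subgroup.index_eq_card, ← orderOf_eq_card_of_forall_mem_zpowers hgen]
  refine orderOf_le_of_pow_eq_one two_pos ?_
  rw [← map_pow]
  exact (QuotientGroup.eq_one_iff _).2 (Subgroup.subset_closure ⟨g, rfl⟩)

theorem b_le_four {X : Type*} [Group X] [Finite X] (a : X) (h : Nat.card X = 2 * orderOf a) : b X ≤ 4 := by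
  have h1 : (Subgroup.zpowers a).index = 2 := by
    have := (Subgroup.zpowers a).index_mul_card
    rw [Nat.card_zpowers, h] at this
    exact Nat.eq_of_mul_eq_mul_right (orderOf_pos a) this
  have := (b_le_index_mul (Subgroup.zpowers a)).trans (Nat.mul_le_mul_left _ b_le_two)
  rw [h1] at this
  exact this

theorem Q_mono {m n v : ℕ} (hm : 0 < m) (h : m ≤ n) (hQ : Q n v) : Q m v := by
  rcases hQ with h' | ⟨h1, h2⟩ | h'
  · exact Or.inl (by omega)
  · exact Or.inr (Or.inl ⟨h1, by omega⟩)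
  · exact Or.inr (Or.inr (by omega))

theorem Q_mul {m n u w : ℕ} (hm0 : 0 < m) (hn0 : 0 < n) (hu : Odd u) (hw : Odd w) (hm : Q m u) (hn : Q n w) :
    Q (m * n) (u * w) := by
  obtain ⟨i, hi⟩ := hu
  obtain ⟨k, hk⟩ := hw
  rcases Nat.eq_zero_or_pos i with hi0 | hi0
  · have h1 : m = 1 := by rcases hm with h | ⟨h, -⟩ | h <;> omega
    rw [h1, hi, hi0]; simpa using hn
  rcases Nat.eq_zero_or_pos k with hk0 | hk0
  · have h1 : n = 1 := by rcases hn with h | ⟨h, -⟩ | h <;> omega
    rw [h1, hk, hk0]; simpa using hm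
  have ha : 2 * m ≤ u + 1 := by rcases hm with h | ⟨h, h'⟩ | h <;> omega
  have hb : 2 * n ≤ w + 1 := by rcases hn with h | ⟨h, h'⟩ | h <;> omega
  refine Or.inr (Or.inr ?_)
  have := Nat.mul_le_mul ha hb
  nlinarith

/-- Two actions with trivial common kernel. -/
theorem pair {P U W : Type u} [Group P] [Finite P] [CommGroup U] [CommGroup W]
    (hP : IsPGroup 2 P) (f : P →* MulAut U) (g : P →* MulAut W) (hfg : ∀ x, f x = 1 → g x = 1 → x = 1)
    (ihU : ∀ {R : Type u} [Group R] [Finite R] (ψ : R →* MulAut U), Function.Injective ψ → IsPGroup 2 R →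
      Q (b R) (Nat.card U))
    (ihW : ∀ {R : Type u} [Group R] [Finite R] (ψ : R →* MulAut W), Function.Injective ψ → IsPGroup 2 R →
      Q (b R) (Nat.card W)) :
    ∃ m n, 0 < m ∧ 0 < n ∧ b P ≤ m * n ∧ Q m (Nat.card U) ∧ Q n (Nat.card W) :=
  haveI := Finite.of_surjective _ f.rangeRestrict_surjective
  ⟨b f.range, b f.ker, b_pos _, b_pos _, b_of_hom f,
    ihU f.range.subtype (Subgroup.subtype_injective _) (hP.of_surjective f.rangeRestrict f.rangeRestrict_surjective),
    ihW (g.comp f.ker.subtype) ((injective_iff_map_eq_one _).2 fun x hx => Subtype.ext (hfg x x.2 hx)) (hP.to_subgroup _)⟩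

theorem comm_of_cyclic {V : Type*} [Group V] [Finite V] [IsCyclic V] (s t : MulAut V) : s * t = t * s := by
  apply (IsCyclic.mulAutMulEquiv V).injective
  rw [map_mul, map_mul, mul_comm]

/-- The restriction of an action to an invariant subgroup. -/
def restrict {P V : Type*} [Group P] [Group V] (φ : P →* MulAut V) (U : Subgroup V)
    (hU : ∀ p : P, ∀ x ∈ U, φ p x ∈ U) : P →* MulAut U where
  toFun p :=
    { toFun := fun x => ⟨φ p x, hU p x x.2⟩
      invFun := fun x => ⟨φ p⁻¹ x, hU p⁻¹ x x.2⟩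
      left_inv := fun x => Subtype.ext (by simp)
      right_inv := fun x => Subtype.ext (by simp)
      map_mul' := fun x y => Subtype.ext (by simp) }
  map_one' := by ext x; simp
  map_mul' p q := by ext x; simp

theorem main : ∀ (k : ℕ) {P V : Type u} [Group P] [Finite P] [CommGroup V] [Finite V] (φ : P →* MulAut V),
    Function.Injective φ → IsPGroup 2 P → Odd (Nat.card V) → Nat.card V ≤ k → Q (b P) (Nat.card V) := by
  intro k
  induction k with
  | zero => intro P V _ _ _ _ φ _ _ _ h; exact absurd h (not_le.2 Nat.card_pos)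
  | succ k ih =>
  intro P V _ _ _ _ φ hφ hP hodd hk
  rcases subsingleton_or_nontrivial P with hs | hnt
  · exact Or.inl (b_trivial P)
  haveI : Nontrivial V := by
    by_contra h
    rw [not_nontrivial_iff_subsingleton] at h
    obtain ⟨x, hx⟩ := exists_ne (1 : P)
    exact hx (hφ (by ext v; exact Subsingleton.elim _ _))
  have hfix : ∀ v : V, v ^ 2 = 1 → v = 1 := fun v hv => by
    have h1 := Nat.eq_one_of_dvd_coprimes (Nat.coprime_two_left.2 hodd) (orderOf_dvd_of_pow_eq_one hv) (orderOf_dvd_natCard v)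
    exact orderOf_eq_one_iff.1 h1
  have hv3 : 3 ≤ Nat.card V := by
    have := Finite.one_lt_card (α := V)
    obtain ⟨j, hj⟩ := hodd
    omega
  by_cases hred : ∃ U : Subgroup V, (∀ p : P, ∀ x ∈ U, φ p x ∈ U) ∧ U ≠ ⊥ ∧ U ≠ ⊤
  · obtain ⟨U, hU, hU0, hU1⟩ := hred
    haveI : Fact (Nat.Prime 2) := ⟨Nat.prime_two⟩
    have hmap : ∀ p : P, U.map (φ p).toMonoidHom = U := fun p => le_antisymm
      (by rintro _ ⟨x, hx, rfl⟩; exact hU p x hx)
      fun x hx => ⟨φ p⁻¹ x, hU p⁻¹ x hx, by simp⟩
    let g : P →* MulAut (V ⧸ U) :=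
      { toFun := fun p => QuotientGroup.congr U U (φ p) (hmap p)
        map_one' := by ext x; induction x using QuotientGroup.induction_on with | _ x => simp
        map_mul' := fun p q => by ext x; induction x using QuotientGroup.induction_on with | _ x => simp; rfl }
    have hc := U.card_mul_index
    rw [Subgroup.index_eq_card] at hc
    have hu1 : 1 < Nat.card U := (Subgroup.one_lt_card_iff_ne_bot U).2 hU0
    have hw1 : 1 < Nat.card (V ⧸ U) := by
      rw [← Subgroup.index_eq_card]; exact Subgroup.one_lt_index_of_ne_top hU1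
    have ho1 : Odd (Nat.card U) := hodd.of_dvd_nat (Subgroup.card_subgroup_dvd_card U)
    have ho2 : Odd (Nat.card (V ⧸ U)) := hodd.of_dvd_nat (Subgroup.card_quotient_dvd_card U)
    have hltU : Nat.card U ≤ k := by nlinarith
    have hltW : Nat.card (V ⧸ U) ≤ k := by nlinarith
    obtain ⟨m, n, hm, hn, hle, hQm, hQn⟩ := pair hP (restrict φ U hU) g (fun x h1 h2 => hφ (by
      rw [map_one]
      ext v
      set d := φ x v * v⁻¹ with hd
      have hdU : d ∈ U := by
        rw [hd, ← QuotientGroup.eq_one_iff, QuotientGroup.mk_mul, QuotientGroup.mk_inv, mul_inv_eq_one]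
        exact DFunLike.congr_fun h2 (v : V ⧸ U)
      have hdfix : φ x d = d := congrArg Subtype.val (DFunLike.congr_fun h1 (⟨d, hdU⟩ : ↥U))
      have hpow : ∀ i : ℕ, (φ x ^ i : MulAut V) v = d ^ i * v := fun i => by
        induction i with
        | zero => simp
        | succ i ih' =>
          rw [pow_succ', MulAut.mul_apply, ih', map_mul, map_pow, hdfix, pow_succ, mul_assoc, hd, inv_mul_cancel_right]
      obtain ⟨j, hj⟩ := hP x
      have h3 := hpow (2 ^ j)
      rw [← map_pow, hj, map_one, MulAut.one_apply, right_eq_mul] at h3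
      have h4 : d = 1 := orderOf_eq_one_iff.1 (Nat.eq_one_of_dvd_coprimes ((Nat.coprime_two_left.2 hodd).pow_left j)
        (orderOf_dvd_of_pow_eq_one h3) (orderOf_dvd_natCard d))
      rw [hd, mul_inv_eq_one] at h4
      simpa using h4))
      (fun ψ hψ hR => ih ψ hψ hR ho1 hltU) (fun ψ hψ hR => ih ψ hψ hR ho2 hltW)
    rw [← hc]
    exact Q_mono (b_pos P) hle (Q_mul hm hn ho1 ho2 hQm hQn)
  haveI : Fact (Nat.Prime 2) := ⟨Nat.prime_two⟩
  by_cases hall : ∀ A : Subgroup P, A.Normal → IsMulCommutative A → IsCyclic A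
  · have hcyc : IsCyclic P → Q (b P) (Nat.card V) := fun _ => by
      have := b_le_two (X := P)
      rcases eq_or_ne (Nat.card V) 3 with h | h
      · exact Or.inr (Or.inl ⟨h, this⟩)
      · obtain ⟨j, hj⟩ := hodd
        exact Or.inr (Or.inr (by omega))
    rcases Cfsg.Agent.NAC.classify hP hall with hc | ⟨-, hsh⟩
    · exact hcyc hc
    by_cases h8 : 8 ≤ Nat.card V
    · have h4 : b P ≤ 4 := by
        rcases hsh with ⟨q, ⟨e⟩⟩ | ⟨q, hq, ⟨e⟩⟩ | ⟨q, -, hq, x, y, hx, -, -⟩
        · haveI : NeZero q := ⟨fun h => by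
            subst h
            haveI : Finite (QuaternionGroup 0) := Finite.of_equiv P e.toEquiv
            exact not_finite_iff_infinite.2 (Infinite.of_injective (fun i : ℤ => QuaternionGroup.a (n := 0) i) fun a b h => QuaternionGroup.a.inj h) ‹_›⟩
          refine b_le_four (e.symm (QuaternionGroup.a 1)) ?_
          rw [MulEquiv.orderOf_eq, QuaternionGroup.orderOf_a_one, Nat.card_congr e.toEquiv, Nat.card_eq_fintype_card,
            QuaternionGroup.card]
          ring
        · haveI : NeZero q := ⟨by omega⟩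
          refine b_le_four (e.symm (DihedralGroup.r 1)) ?_
          rw [MulEquiv.orderOf_eq, DihedralGroup.orderOf_r_one, Nat.card_congr e.toEquiv, DihedralGroup.nat_card]
        · exact b_le_four x (by rw [hx, hq, pow_succ']; )
      exact Or.inr (Or.inr (by omega))
    · haveI : IsCyclic V := by
        have hp : (Nat.card V).Prime := by
          obtain ⟨j, hj⟩ := hodd
          rcases (show Nat.card V = 3 ∨ Nat.card V = 5 ∨ Nat.card V = 7 by omega) with h | h | h <;> rw [h] <;> norm_num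
        haveI := Fact.mk hp
        exact isCyclic_of_prime_card rfl
      have hcm : IsMulCommutative (⊤ : Subgroup P) :=
        ⟨⟨fun x y => Subtype.ext (hφ (by simp only [Subgroup.coe_mul, map_mul]; exact comm_of_cyclic _ _))⟩⟩
      haveI := hall ⊤ inferInstance hcm
      exact hcyc (isCyclic_of_surjective (Subgroup.topEquiv (G := P)).toMonoidHom Subgroup.topEquiv.surjective)
  push Not at hall
  obtain ⟨A, hA, hAc, hAn⟩ := hall
  haveI := hA
  letI : CommGroup ↥A := { (inferInstance : Group ↥A) with mul_comm := fun a b => hAc.is_comm.comm a b }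
  -- the involutions of `A`
  let E : Subgroup P := (powMonoidHom 2 : A →* A).ker.map A.subtype
  have hmemE : ∀ x, x ∈ E ↔ x ∈ A ∧ x ^ 2 = 1 := fun x => by
    constructor
    · rintro ⟨a, ha, rfl⟩
      exact ⟨a.2, congrArg Subtype.val (show a ^ 2 = 1 from ha)⟩
    · rintro ⟨hxA, hx⟩
      exact ⟨⟨x, hxA⟩, Subtype.ext hx, rfl⟩
  haveI : E.Normal := ⟨fun x hx g => by
    rw [hmemE] at hx ⊢
    exact ⟨hA.conj_mem _ hx.1 g, by rw [conj_pow, hx.2, mul_one, mul_inv_cancel]⟩⟩
  have hE2 : 2 < Nat.card E := by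
    rw [Subgroup.card_map_of_injective A.subtype_injective]
    by_contra h
    exact hAn (Cfsg.Agent.Fus.RankTwo.isCyclic_of_omega (hP.to_subgroup A) (not_lt.1 h))
  haveI := hP.isNilpotent
  obtain ⟨z, hzE, hz1⟩ := (Subgroup.ne_bot_iff_exists_ne_one).1
    (Cfsg.Agent.Grp.inf_center_ne_bot E (fun h => by rw [h] at hE2; simp at hE2)) |> fun ⟨z, hz⟩ =>
      (⟨z, z.2, fun h => hz (Subtype.ext h)⟩ : ∃ z, z ∈ E ⊓ Subgroup.center P ∧ z ≠ 1)
  have hzc := Subgroup.mem_center_iff.1 hzE.2
  have hz2 : z ^ 2 = 1 := ((hmemE z).1 hzE.1).2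
  have hzz : φ z * φ z = 1 := by rw [← map_mul, ← pow_two, hz2, map_one]
  -- it inverts the module
  have hzinv : ∀ v, φ z v = v⁻¹ := by
    by_contra hne
    push Not at hne
    obtain ⟨v, hv⟩ := hne
    refine hred ⟨MonoidHom.eqLocus (φ z).toMonoidHom (MonoidHom.id V), fun p x hx => ?_, fun hbot => ?_, fun htop => ?_⟩
    · show φ z (φ p x) = φ p x
      rw [← MulAut.mul_apply, ← map_mul, ← hzc p, map_mul, MulAut.mul_apply, show φ z x = x from hx]
    · have h1 : v * φ z v ∈ MonoidHom.eqLocus (φ z).toMonoidHom (MonoidHom.id V) := by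
        show φ z (v * φ z v) = v * φ z v
        rw [map_mul, ← MulAut.mul_apply, hzz, MulAut.one_apply, mul_comm]
      rw [hbot, Subgroup.mem_bot] at h1
      exact hv (eq_inv_of_mul_eq_one_right h1)
    · refine hz1 (hφ ?_)
      rw [map_one]
      ext x
      exact htop.ge (Subgroup.mem_top x)
  -- an involution central modulo `z`
  haveI : (Subgroup.zpowers z).Normal := ⟨fun x hx g => by
    obtain ⟨i, rfl⟩ := hx
    rw [show g * z ^ i * g⁻¹ = z ^ i by rw [← conj_zpow, hzc g, mul_inv_cancel_right]]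
    exact ⟨i, rfl⟩⟩
  set π := QuotientGroup.mk' (Subgroup.zpowers z) with hπ
  haveI : (E.map π).Normal := Subgroup.Normal.map inferInstance π (QuotientGroup.mk'_surjective _)
  have hEbar : E.map π ≠ ⊥ := by
    rw [Ne, Subgroup.map_eq_bot_iff, hπ, QuotientGroup.ker_mk']
    intro hle
    have := Subgroup.card_le_of_le hle
    rw [Nat.card_zpowers] at this
    have := orderOf_le_of_pow_eq_one two_pos hz2
    omega
  haveI := (hP.to_quotient (Subgroup.zpowers z)).isNilpotent
  obtain ⟨⟨ab, habE, habC⟩, hab1⟩ := Subgroup.ne_bot_iff_exists_ne_one.1 (Cfsg.Agent.Grp.inf_center_ne_bot (E.map π) hEbar)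
  obtain ⟨a, haE, rfl⟩ := habE
  have ha2 : a ^ 2 = 1 := ((hmemE a).1 haE).2
  have haz : a * z = z * a := hzc a
  have hazne : a ≠ 1 ∧ a ≠ z := by
    constructor <;> intro h <;> apply hab1 <;> apply Subtype.ext <;> show π a = 1 <;> rw [h]
    · exact map_one π
    · exact (QuotientGroup.eq_one_iff _).2 (Subgroup.mem_zpowers z)
  have hconj : ∀ p : P, p * a * p⁻¹ = a ∨ p * a * p⁻¹ = a * z := fun p => by
    have h := Subgroup.mem_center_iff.1 habC (π p)
    rw [← map_mul, ← map_mul, hπ, QuotientGroup.mk'_eq_mk'] at h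
    obtain ⟨w, hw0, hw⟩ := h
    obtain ⟨i, rfl⟩ := Subgroup.mem_zpowers_iff.1 hw0
    rcases Int.even_or_odd i with ⟨j, rfl⟩ | ⟨j, rfl⟩
    · left
      rw [show z ^ (j + j) = 1 by rw [← two_mul, zpow_mul, zpow_ofNat, hz2, one_zpow], mul_one] at hw
      rw [hw, mul_inv_cancel_right]
    · right
      rw [show z ^ (2 * j + 1) = z by rw [zpow_add_one, zpow_mul, zpow_ofNat, hz2, one_zpow, one_mul]] at hw
      -- p * a * z = a * p
      calc p * a * p⁻¹ = p * a * z * z * p⁻¹ := by rw [mul_assoc (p * a) z z, ← pow_two, hz2, mul_one]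
        _ = a * (p * z) * p⁻¹ := by rw [hw]; group
        _ = a * z := by rw [hzc p]; group
  let U : Subgroup V := MonoidHom.eqLocus (φ a).toMonoidHom (MonoidHom.id V)
  let W : Subgroup V := MonoidHom.eqLocus (φ (a * z)).toMonoidHom (MonoidHom.id V)
  have hWiff : ∀ v, v ∈ W ↔ φ a v = v⁻¹ := fun v => by
    show φ (a * z) v = v ↔ _
    rw [map_mul, MulAut.mul_apply, hzinv, map_inv, inv_eq_iff_eq_inv]
  have haa : ∀ v, φ a (φ a v) = v := fun v => by
    rw [← MulAut.mul_apply, ← map_mul, ← pow_two, ha2, map_one, MulAut.one_apply]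
  let M : Subgroup P := Subgroup.centralizer {a}
  have hMmem : ∀ p, p ∈ M ↔ p * a = a * p := fun p => by
    rw [Subgroup.mem_centralizer_singleton_iff]
  have hinvM : ∀ p ∈ M, (∀ x ∈ U, φ p x ∈ U) ∧ (∀ x ∈ W, φ p x ∈ W) := fun p hp => by
    have hp' := (hMmem p).1 hp
    constructor
    · intro x hx
      show φ a (φ p x) = φ p x
      rw [← MulAut.mul_apply, ← map_mul, ← hp', map_mul, MulAut.mul_apply, show φ a x = x from hx]
    · intro x hx
      rw [hWiff] at hx ⊢
      rw [← MulAut.mul_apply, ← map_mul, ← hp', map_mul, MulAut.mul_apply, hx, map_inv]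
  obtain ⟨t, ht⟩ : ∃ t : P, t * a * t⁻¹ = a * z := by
    by_contra hne
    push Not at hne
    have hM : ∀ p, p ∈ M := fun p => (hMmem p).2 (mul_inv_eq_iff_eq_mul.1 ((hconj p).resolve_right (hne p)))
    refine hred ⟨U, fun p => (hinvM p (hM p)).1, fun hbot => ?_, fun htop => ?_⟩
    · refine hazne.2 (hφ ?_)
      ext v
      have h1 : v * φ a v ∈ U := by
        show φ a (v * φ a v) = v * φ a v
        rw [map_mul, haa, mul_comm]
      rw [hbot, Subgroup.mem_bot] at h1
      rw [hzinv]
      exact eq_inv_of_mul_eq_one_right h1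
    · refine hazne.1 (hφ ?_)
      rw [map_one]
      ext v
      exact htop.ge (Subgroup.mem_top v)
  have hMidx : M.index ≤ 2 := by
    rw [Subgroup.index_eq_card]
    classical
    let F : P ⧸ M → Bool := fun q => decide (q.out * a * q.out⁻¹ = a)
    have hF : Function.Injective F := fun q r h => by
      rw [← q.out_eq', ← r.out_eq', QuotientGroup.eq, hMmem]
      have h' : (q.out * a * q.out⁻¹ = a) ↔ (r.out * a * r.out⁻¹ = a) := by simpa [F] using h
      have he : q.out * a * q.out⁻¹ = r.out * a * r.out⁻¹ := by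
        rcases hconj q.out with h1 | h1 <;> rcases hconj r.out with h2 | h2
        · rw [h1, h2]
        · rw [h1, h'.1 h1]
        · rw [h2, h'.2 h2]
        · rw [h1, h2]
      calc q.out⁻¹ * r.out * a = q.out⁻¹ * (r.out * a * r.out⁻¹) * r.out := by group
        _ = a * (q.out⁻¹ * r.out) := by rw [← he]; group
    exact (Nat.card_le_card_of_injective F hF).trans (by simp)
  have hsq : ∀ p : P, φ a (φ p (φ a 1)) = 1 := fun p => by simp
  have hcard : Nat.card U = Nat.card W := by
    refine Nat.card_congr ((φ t).toEquiv.subtypeEquiv fun x => ?_)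
    show φ a x = x ↔ φ (a * z) (φ t x) = φ t x
    rw [← ht, ← MulAut.mul_apply, ← map_mul, inv_mul_cancel_right, map_mul, MulAut.mul_apply]
    exact (φ t).injective.eq_iff.symm
  -- the module is the product of the two eigenspaces
  have hdec : Function.Bijective fun x : U × W => (x.1 : V) * (x.2 : V) := by
    constructor
    · rintro ⟨x, y⟩ ⟨x', y'⟩ (h : (x : V) * y = x' * y')
      have he : (x' : V)⁻¹ * x = y' * (y : V)⁻¹ := by
        rw [eq_mul_inv_iff_mul_eq, mul_assoc, h, inv_mul_cancel_left]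
      have hdU : (x' : V)⁻¹ * x ∈ U := U.mul_mem (U.inv_mem x'.2) x.2
      have hdW : (x' : V)⁻¹ * x ∈ W := he ▸ W.mul_mem y'.2 (W.inv_mem y.2)
      rw [hWiff, show φ a ((x' : V)⁻¹ * x) = (x' : V)⁻¹ * x from hdU, eq_inv_iff_mul_eq_one, ← pow_two] at hdW
      have h4 : x = x' := Subtype.ext (inv_mul_eq_one.1 (hfix _ hdW)).symm
      subst h4
      rw [mul_right_inj] at h
      exact Prod.ext rfl (Subtype.ext h)
    · intro v
      obtain ⟨i, hi⟩ := hodd
      have hh : ∀ w : V, (w ^ (i + 1)) ^ 2 = w := fun w => by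
        have h1 : w ^ (2 * i + 1) = 1 := hi ▸ pow_card_eq_one'
        rw [← pow_mul, show (i + 1) * 2 = (2 * i + 1) + 1 by ring, pow_succ, h1, one_mul]
      refine ⟨(⟨(v * φ a v) ^ (i + 1), ?_⟩, ⟨(v * (φ a v)⁻¹) ^ (i + 1), ?_⟩), ?_⟩
      · show φ a _ = _
        rw [map_pow, map_mul, haa, mul_comm]
        rfl
      · rw [hWiff, map_pow, map_mul, map_inv, haa, ← inv_pow, mul_inv_rev, inv_inv]
      · show (v * φ a v) ^ (i + 1) * (v * (φ a v)⁻¹) ^ (i + 1) = v
        rw [← mul_pow, mul_mul_mul_comm, mul_inv_cancel, mul_one, ← pow_two, ← pow_mul, mul_comm, pow_mul]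
        exact hh v
  have hV : Nat.card V = Nat.card U * Nat.card W := by rw [← Nat.card_prod, Nat.card_eq_of_bijective _ hdec]
  have hu : 3 ≤ Nat.card U := by
    obtain ⟨j, hj⟩ := hodd.of_dvd_nat (Subgroup.card_subgroup_dvd_card U)
    rcases Nat.eq_zero_or_pos j with h | h
    · rw [← hcard, hj, h] at hV; omega
    · omega
  have hUk : Nat.card U ≤ k := by nlinarith
  have hWk : Nat.card W ≤ k := hcard ▸ hUk
  let f : M →* MulAut U := restrict (φ.comp M.subtype) U fun p => (hinvM p p.2).1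
  let g : M →* MulAut W := restrict (φ.comp M.subtype) W fun p => (hinvM p p.2).2
  have hfg : ∀ x, f x = 1 → g x = 1 → x = 1 := fun x h1 h2 => by
    refine Subtype.ext (hφ ?_)
    rw [Subgroup.coe_one, map_one]
    ext v
    obtain ⟨⟨y, w⟩, rfl⟩ := hdec.2 v
    rw [map_mul, MulAut.one_apply]
    exact congrArg₂ (· * ·) (congrArg Subtype.val (DFunLike.congr_fun h1 y) :)
      (congrArg Subtype.val (DFunLike.congr_fun h2 w) :)
  rcases eq_or_ne (Nat.card U) 3 with h3 | h3
  · -- tiny case
    haveI : Fact (Nat.Prime 3) := ⟨Nat.prime_three⟩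
    haveI : IsCyclic U := isCyclic_of_prime_card h3
    haveI : IsCyclic W := isCyclic_of_prime_card (hcard.symm.trans h3)
    have hM4 : Nat.card M ≤ 4 := by
      have h1 := Nat.card_le_card_of_injective (f.prod g) ((injective_iff_map_eq_one _).2 fun x hx =>
        hfg x (Prod.ext_iff.1 hx).1 (Prod.ext_iff.1 hx).2)
      rw [Nat.card_prod, Nat.card_congr (IsCyclic.mulAutMulEquiv U).toEquiv, Nat.card_congr (IsCyclic.mulAutMulEquiv W).toEquiv,
        ← hcard, h3, show Nat.card (ZMod 3)ˣ = 2 by rw [Nat.card_eq_fintype_card, ZMod.card_units]] at h1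
      exact h1
    have h4 : b P ≤ 4 := by
      have hne : sq P ≠ ⊥ := fun h => by
        have h2 : ∀ p : P, p * p = 1 := fun p => by
          rw [← pow_two]; exact Subgroup.mem_bot.1 (h ▸ Subgroup.subset_closure ⟨p, rfl⟩)
        have hinv : ∀ p : P, p⁻¹ = p := fun p => inv_eq_of_mul_eq_one_right (h2 p)
        refine hz1 ?_
        have h5 : a = a * z := by
          rw [← ht, hinv t, mul_assoc, show a * t = t * a by rw [← hinv (a * t), mul_inv_rev, hinv, hinv], ← mul_assoc, h2, one_mul]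
        simpa using h5
      have h1 := (sq P).index_mul_card
      have h2 := (Subgroup.one_lt_card_iff_ne_bot _).2 hne
      have h5 := M.index_mul_card
      have h6 : Nat.card P ≤ 8 := h5 ▸ (Nat.mul_le_mul hMidx hM4)
      show (sq P).index ≤ 4
      nlinarith
    rw [hV, ← hcard, h3]
    exact Or.inr (Or.inr (by omega))
  obtain ⟨m, n, hm, hn, hle, hQm, hQn⟩ := pair (hP.to_subgroup M) f g hfg
    (fun ψ hψ hR => ih ψ hψ hR (hodd.of_dvd_nat (Subgroup.card_subgroup_dvd_card U)) hUk)
    (fun ψ hψ hR => ih ψ hψ hR (hodd.of_dvd_nat (Subgroup.card_subgroup_dvd_card W)) hWk)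
  obtain ⟨j, hj⟩ := hodd.of_dvd_nat (Subgroup.card_subgroup_dvd_card U)
  have hm2 : 2 * m ≤ Nat.card U := by rcases hQm with h | ⟨h, -⟩ | h <;> omega
  have hn2 : 2 * n ≤ Nat.card U := by rw [← hcard] at hQn; rcases hQn with h | ⟨h, -⟩ | h <;> omega
  refine Or.inr (Or.inr ?_)
  have := (b_le_index_mul M).trans (Nat.mul_le_mul hMidx hle)
  rw [hV, ← hcard]
  nlinarith

/-- Let G be a finite group that is the semidirect product of a normal abelian subgroup N of odd order by a 2-subgroup P, and suppose N is the unique minimal normal subgroup of G. Then the index of the Frattini subgroup of P in P is at most #N − 1. -/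
theorem result {G : Type*} [Group G] [Finite G] (N P : Subgroup G) (hN : N.Normal) (hNab : IsMulCommutative ↥N) (hNodd : Odd (Nat.card ↥N)) (hP : IsPGroup 2 ↥P) (hdisj : N ⊓ P = ⊥) (hprod : N ⊔ P = ⊤) (hmin : N ≠ ⊥ ∧ ∀ M : Subgroup G, M.Normal → M ≠ ⊥ → N ≤ M) : (frattini ↥P).index ≤ Nat.card ↥N - 1 := by

  classical
  haveI := hN
  haveI := hNab
  letI : CommGroup ↥N := { (inferInstance : Group ↥N) with mul_comm := fun a b => IsMulCommutative.is_comm.comm a b }
  set φ : ↥P →* MulAut ↥N := MulAut.conjNormal.comp P.subtype with hφdef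
  have hφ : Function.Injective φ := by
    rw [injective_iff_map_eq_one]
    intro x hx
    have hxC : (x : G) ∈ P ⊓ Subgroup.centralizer (N : Set G) := by
      refine ⟨x.2, Subgroup.mem_centralizer_iff.2 fun y hy => ?_⟩
      have h : φ x ⟨y, hy⟩ = ⟨y, hy⟩ := by rw [hx]; rfl
      have h' : (x : G) * y * (x : G)⁻¹ = y := congrArg Subtype.val h
      exact (mul_inv_eq_iff_eq_mul.1 h').symm
    set C := P ⊓ Subgroup.centralizer (N : Set G) with hC
    haveI : C.Normal := ⟨fun c hc g => by
      obtain ⟨n, hn, y, hy, rfl⟩ := Subgroup.mem_sup_of_normal_left.1 (hprod.ge (Subgroup.mem_top g))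
      have hc2 : y * c * y⁻¹ ∈ C := ⟨P.mul_mem (P.mul_mem hy hc.1) (P.inv_mem hy),
        (Subgroup.normal_centralizer.conj_mem c hc.2 y)⟩
      rw [show n * y * c * (n * y)⁻¹ = n * (y * c * y⁻¹) * n⁻¹ by group,
        Subgroup.mem_centralizer_iff.1 hc2.2 n hn, mul_inv_cancel_right]
      exact hc2⟩
    by_contra hx1
    have hCbot : C ≠ ⊥ := fun h => hx1 (Subtype.ext (Subgroup.mem_bot.1 (h ▸ hxC)))
    have hNC : N ≤ P := (hmin.2 C inferInstance hCbot).trans inf_le_left
    exact hmin.1 (by rw [← hdisj, inf_eq_left.2 hNC])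
  have h := main (Nat.card ↥N) φ hφ hP hNodd le_rfl
  have hle : (frattini ↥P).index ≤ b ↥P := by
    refine Nat.le_of_dvd (Nat.pos_of_ne_zero Subgroup.index_ne_zero_of_finite) (Subgroup.index_dvd_of_le ?_)
    haveI : Fact (Nat.Prime 2) := ⟨Nat.prime_two⟩
    rw [sq, Subgroup.closure_le]
    rintro _ ⟨y, rfl⟩
    exact Grp.pGroup_pow_mem_frattini hP y
  have hN1 : 1 < Nat.card ↥N := Finite.one_lt_card_iff_nontrivial.2 ((Subgroup.nontrivial_iff_ne_bot N).2 hmin.1)
  obtain ⟨j, hj⟩ := hNodd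
  rcases h with h | ⟨h1, h2⟩ | h <;> omega

end Cfsg.Agent.S4188
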