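import Cfsg.Statements.S4189
import Cfsg.Agent.Lib.Transfer.MaxClass
import Cfsg.Agent.Lib.Fus.DihedralAut

set_option maxHeartbeats 1000000
set_option maxRecDepth 8000

set_option autoImplicit false
open Cfsg
open scoped commutatorElement

namespace Cfsg.Agent.S4189

/-- Let P be a finite non-abelian 2-group whose commutator subgroup has index 4 and whose automorphism group is not a 2-group (some automorphism has order that is not a power of 2). Then P is isomorphic to the quaternion group of order 8. -/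
theorem result {P : Type*} [Group P] [Finite P] (hP : IsPGroup 2 P) (hna : ¬ IsMulCommutative P) (h4 : (commutator P).index = 4) (haut : ¬ IsPGroup 2 (MulAut P)) : Nonempty (P ≃* QuaternionGroup 2) := by
  haveI : Fact (Nat.Prime 2) := ⟨Nat.prime_two⟩
  have hne : commutator P ≠ ⊥ := fun hb => hna ⟨⟨fun a b => by
    have h := Subgroup.commutator_mem_commutator (Subgroup.mem_top a) (Subgroup.mem_top b)
    rw [← commutator_def, hb, Subgroup.mem_bot, commutatorElement_eq_one_iff_mul_comm] at h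
    exact h⟩⟩
  obtain ⟨k, a, x, ha, hidx, hx, hfix, hcase⟩ := Cfsg.Agent.Transfer.MaxClass.shape hP h4 hne
  by_cases hq : k = 0 ∧ x * x = a ^ 2 ^ (k + 1) ∧ x * a * x⁻¹ = a⁻¹
  · obtain ⟨rfl, h1, h2⟩ := hq
    exact Cfsg.Agent.Transfer.MaxClass.nonempty_quaternion (by norm_num) (by rw [ha]; norm_num) hidx hx h1 h2
  refine absurd ?_ haut
  haveI := Subgroup.normal_of_index_eq_two hidx
  have hcov : ∀ g : P, g ∈ Subgroup.zpowers a ∨ x⁻¹ * g ∈ Subgroup.zpowers a := fun g => by
    by_cases hg : g ∈ Subgroup.zpowers a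
    · exact Or.inl hg
    · exact Or.inr ((Subgroup.mul_mem_iff_of_index_two hidx).2 (by
        simp only [inv_mem_iff]; exact iff_of_false hx hg))
  refine Cfsg.Agent.Fus.isPGroup_mulAut_of_cyclic_index_two ha (fun g hg => ?_) hx hcov
  by_contra hgA
  obtain ⟨i, hi⟩ := Subgroup.mem_zpowers_iff.1 ((hcov g).resolve_left hgA)
  -- the square of `g` is fixed by `x`
  have hgg : g * g ∈ Subgroup.zpowers a := Subgroup.mul_self_mem_of_index_two hidx g
  have hfg : x * (g * g) * x⁻¹ = g * g := by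
    obtain ⟨j, hj⟩ := Subgroup.mem_zpowers_iff.1 hgg
    have hg' : g = x * a ^ i := by rw [hi, mul_inv_cancel_left]
    have hA : a ^ i * (g * g) * (a ^ i)⁻¹ = g * g := by
      rw [← hj, ← zpow_add, ← zpow_neg, ← zpow_add]; congr 1; omega
    calc x * (g * g) * x⁻¹ = x * (a ^ i * (g * g) * (a ^ i)⁻¹) * x⁻¹ := by rw [hA]
      _ = (x * a ^ i) * (g * g) * (x * a ^ i)⁻¹ := by group
      _ = g * (g * g) * g⁻¹ := by rw [← hg']
      _ = g * g := by group
  have hg4 : g ^ 4 = 1 := by
    have hzz : (a ^ 2 ^ (k + 1)) ^ 2 = 1 := by rw [← pow_mul, ← pow_succ, ← ha, pow_orderOf_eq_one]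
    rw [show (4 : ℕ) = 2 * 2 from rfl, pow_mul, pow_two g]
    rcases hfix _ hgg hfg with h | h <;> rw [h]
    · rw [one_pow]
    · exact hzz
  have hk : k = 0 := by
    have h1 := orderOf_le_of_pow_eq_one (by norm_num) hg4
    rw [hg] at h1
    by_contra hk0
    have : 2 ^ 3 ≤ 2 ^ (k + 2) := Nat.pow_le_pow_right two_pos (by omega)
    omega
  subst hk
  rcases hcase with ⟨hinv, hxx⟩ | ⟨hinv, hxx⟩ | ⟨hk1, -, -⟩
  · have hg' : g = x * a ^ i := by rw [hi, mul_inv_cancel_left]
    have hg2 : g ^ 2 = 1 := by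
      have h2 : x * a ^ i * x⁻¹ = a ^ (-i) := by rw [← conj_zpow, hinv, inv_zpow']
      calc g ^ 2 = (x * a ^ i * x⁻¹) * (x * x) * a ^ i := by rw [hg', pow_two]; group
        _ = 1 := by rw [h2, hxx, mul_one, ← zpow_add, neg_add_cancel, zpow_zero]
    have := orderOf_le_of_pow_eq_one (by norm_num) hg2
    rw [hg] at this
    norm_num at this
  · exact hq ⟨rfl, hxx, hinv⟩
  · omega

end Cfsg.Agent.S4189
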