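import Cfsg.Statements.S4192
import Cfsg.Agent.Lib.Block.RealClassGraph.Residual
-- import your own Cfsg.Agent.* helpers here

set_option autoImplicit false
open Cfsg

namespace Cfsg.Agent.S4192

/-- Let G be a finite group; call an element real when it is conjugate to its inverse, and say that the real-class-size graph of a group is disconnected when the primes dividing its real class sizes split into two non-empty disjoint parts with no real class size divisible by a prime from each part. If the real-class-size graph of G is disconnected, then some real class size of G is even, and either the Sylow 2-subgroups of G are normal, or the subgroup K generated by the 2-elements of G (the smallest normal subgroup of odd index) again has a disconnected real-class-size graph and every real class size of K is odd or a power of 2. -/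
theorem result {G : Type*} [Group G] [Finite G] (h : (∃ π₁ π₂ : Set ℕ, π₁.Nonempty ∧ π₂.Nonempty ∧ Disjoint π₁ π₂ ∧ (∀ q ∈ π₁ ∪ π₂, q.Prime ∧ ∃ n ∈ {n : ℕ | ∃ x : G, IsConj x x⁻¹ ∧ (Subgroup.centralizer ({x} : Set G)).index = n}, q ∣ n) ∧ (∀ q : ℕ, q.Prime → (∃ n ∈ {n : ℕ | ∃ x : G, IsConj x x⁻¹ ∧ (Subgroup.centralizer ({x} : Set G)).index = n}, q ∣ n) → q ∈ π₁ ∨ q ∈ π₂) ∧ ∀ a ∈ π₁, ∀ b ∈ π₂, ∀ n ∈ {n : ℕ | ∃ x : G, IsConj x x⁻¹ ∧ (Subgroup.centralizer ({x} : Set G)).index = n}, ¬ (a ∣ n ∧ b ∣ n))) : (∃ n ∈ {n : ℕ | ∃ x : G, IsConj x x⁻¹ ∧ (Subgroup.centralizer ({x} : Set G)).index = n}, 2 ∣ n) ∧ ((∀ P : Sylow 2 G, (P : Subgroup G).Normal) ∨ ((∃ π₁ π₂ : Set ℕ, π₁.Nonempty ∧ π₂.Nonempty ∧ Disjoint π₁ π₂ ∧ (∀ q ∈ π₁ ∪ π₂, q.Prime ∧ ∃ n ∈ {n : ℕ | ∃ x : ↥(Subgroup.closure {g : G | ∃ k : ℕ, orderOf g = 2 ^ k}), IsConj x x⁻¹ ∧ (Subgroup.centralizer ({x} : Set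 ↥(Subgroup.closure {g : G | ∃ k : ℕ, orderOf g = 2 ^ k}))).index = n}, q ∣ n) ∧ (∀ q : ℕ, q.Prime → (∃ n ∈ {n : ℕ | ∃ x : ↥(Subgroup.closure {g : G | ∃ k : ℕ, orderOf g = 2 ^ k}), IsConj x x⁻¹ ∧ (Subgroup.centralizer ({x} : Set ↥(Subgroup.closure {g : G | ∃ k : ℕ, orderOf g = 2 ^ k}))).index = n}, q ∣ n) → q ∈ π₁ ∨ q ∈ π₂) ∧ ∀ a ∈ π₁, ∀ b ∈ π₂, ∀ n ∈ {n : ℕ | ∃ x : ↥(Subgroup.closure {g : G | ∃ k : ℕ, orderOf g = 2 ^ k}), IsConj x x⁻¹ ∧ (Subgroup.centralizer ({x} : Set ↥(Subgroup.closure {g : G | ∃ k : ℕ, orderOf g = 2 ^ k}))).index = n}, ¬ (a ∣ n ∧ b ∣ n)) ∧ ∀ n ∈ {n : ℕ | ∃ x : ↥(Subgroup.closure {g : G | ∃ k : ℕ, orderOf g = 2 ^ k}), IsConj x x⁻¹ ∧ (Subgroup.centralizer ({x} : Set ↥(Subgroup.closure {g : G | ∃ k : ℕ, orderOf g = 2 ^ k}))).index = n}, Odd n ∨ ∃ j : ℕ, n = 2 ^ j)) := by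
  obtain ⟨π₁, π₂, h₁, h₂, hdisj, hsub, hcover, hnoedge⟩ := h
  refine ⟨RealClassGraph.exists_even π₁ π₂ h₁ h₂ hsub hdisj hcover hnoedge, ?_⟩
  by_cases hS : ∃ x : G, x ≠ 1 ∧ Odd (orderOf x) ∧ RealClassGraph.Real x
  swap
  · push Not at hS
    exact Or.inl fun S => (Cfsg.Agent.S3861.result S).1 fun x hx ho hr =>
      hS x hx ho (RealClassGraph.real_iff.1 hr)
  rcases RealClassGraph.exists_disc_or_normal π₁ π₂ h₁ h₂ hcover hsub hdisj hnoedge with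
    ⟨P, hP⟩ | ⟨-, hn⟩
  swap
  · exact Or.inl hn
  obtain ⟨hall, ⟨a, har, had⟩, b, hbr, q, hq, hq2, hqd⟩ := RealClassGraph.residual hP hS
  refine Or.inr ⟨⟨{2}, {q : ℕ | q.Prime ∧ q ≠ 2 ∧
      ∃ x : RealClassGraph.twoGen G, RealClassGraph.Real x ∧ q ∣ RealClassGraph.csize x},
    ⟨2, rfl⟩, ⟨q, hq, hq2, b, hbr, hqd⟩, Set.disjoint_left.2 fun s hs h2 => h2.2.1 hs, ?_, ?_, ?_⟩, ?_⟩
  · rintro s (rfl | ⟨hs, -, x, hx, hd⟩)
    · exact ⟨Nat.prime_two, _, ⟨a, RealClassGraph.real_iff.2 har, rfl⟩, had⟩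
    · exact ⟨hs, _, ⟨x, RealClassGraph.real_iff.2 hx, rfl⟩, hd⟩
  · rintro s hs ⟨n, ⟨x, hx, rfl⟩, hd⟩
    by_cases h2 : s = 2
    · exact Or.inl h2
    · exact Or.inr ⟨hs, h2, x, RealClassGraph.real_iff.1 hx, hd⟩
  · rintro s rfl t ⟨ht, ht2, -⟩ n ⟨x, hx, rfl⟩ ⟨hd2, hdt⟩
    rcases hall x (RealClassGraph.real_iff.1 hx) with ho | ⟨j, hj⟩
    · exact Nat.not_even_iff_odd.2 ho (even_iff_two_dvd.2 hd2)
    · exact ht2 ((Nat.prime_dvd_prime_iff_eq ht Nat.prime_two).1 (ht.dvd_of_dvd_pow (hdt.trans (dvd_of_eq hj))))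
  · rintro n ⟨x, hx, rfl⟩
    exact hall x (RealClassGraph.real_iff.1 hx)

end Cfsg.Agent.S4192
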