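import Cfsg.Statements.S4196
import Mathlib
import Cfsg.Agent.Lib.Transfer.TwoCentral

-- import your own Cfsg.Agent.* helpers here

set_option autoImplicit false
set_option linter.style.haveILetI false
open Cfsg Cfsg.Agent.Transfer

namespace Cfsg.Agent.S4196

/-- A finite group G has elementary abelian Sylow 2-subgroups (commutative with every element squaring to the identity) if and only if every 2-element of G has a Sylow 2-subgroup in its centralizer and is conjugate to its inverse. -/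
theorem result {G : Type*} [Group G] [Finite G] (P : Sylow 2 G) :
    (IsMulCommutative (P : Subgroup G) ∧ ∀ x ∈ (P : Subgroup G), x ^ 2 = 1) ↔
      ∀ x : G, (∃ k : ℕ, orderOf x = 2 ^ k) → (∃ Q : Sylow 2 G, (Q : Subgroup G) ≤ Subgroup.centralizer ({x} : Set G)) ∧ IsConj x x⁻¹ := by
  constructor
  · rintro ⟨hab, hsq⟩ x hx
    obtain ⟨k, hk⟩ := hx
    obtain ⟨Q, hQ⟩ := IsPGroup.exists_le_sylow (IsPGroup.of_card (n := k) (by rw [Nat.card_zpowers, hk]) :
      IsPGroup 2 (Subgroup.zpowers x))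
    have hxQ : x ∈ (Q : Subgroup G) := hQ (Subgroup.mem_zpowers x)
    let e := P.equiv Q
    have hc : ∀ a b : (Q : Subgroup G), a * b = b * a := fun a b => by
      apply e.symm.injective
      rw [map_mul, map_mul]
      exact hab.is_comm.comm _ _
    refine ⟨⟨Q, fun q hq => ?_⟩, ?_⟩
    · rw [Subgroup.mem_centralizer_singleton_iff]
      exact congrArg Subtype.val (hc ⟨q, hq⟩ ⟨x, hxQ⟩)
    · have h2 : (e.symm ⟨x, hxQ⟩) ^ 2 = 1 := Subtype.ext (hsq _ (e.symm ⟨x, hxQ⟩).2)
      rw [← map_pow, MulEquiv.map_eq_one_iff] at h2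
      have h3 : x * x = 1 := by rw [← pow_two]; exact congrArg Subtype.val h2
      rw [inv_eq_of_mul_eq_one_right h3]
  · intro h
    have hsq : ∀ x ∈ (P : Subgroup G), x ^ 2 = 1 := by
      intro x hx
      obtain ⟨k, hk⟩ := IsPGroup.iff_orderOf.1 P.isPGroup' ⟨x, hx⟩
      obtain ⟨⟨Q, hQ⟩, hr⟩ := h x ⟨k, by rw [← hk, Subgroup.orderOf_mk]⟩
      exact sq_eq_one_of_real_two_central Q hQ hr
    refine ⟨⟨⟨fun a b => ?_⟩⟩, hsq⟩
    have hi : ∀ a : (P : Subgroup G), a⁻¹ = a := fun a =>
      inv_eq_of_mul_eq_one_right (Subtype.ext (by simpa [pow_two] using hsq a a.2))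
    calc a * b = (a * b)⁻¹ := (hi _).symm
      _ = b * a := by rw [mul_inv_rev, hi, hi]

end Cfsg.Agent.S4196
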