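import Cfsg.Statements.S4198
import Mathlib

set_option maxHeartbeats 1000000
set_option maxRecDepth 8000

set_option autoImplicit false
open Cfsg

namespace Cfsg.Agent.S4198

open Equiv Equiv.Perm in
/-- Replacing one odd cycle length by the preceding number. -/
theorem exists_shift {n : ℕ} (hn : 5 ≤ n) {g : Perm (Fin n)} (h : Subgroup.centralizer {g} ≤ alternatingGroup (Fin n)) :
    ∃ (s : Perm (Fin n)) (l : ℕ), l ∈ g.cycleType ∧ 3 ≤ l ∧ s.cycleType = (l - 1) ::ₘ g.cycleType.erase l ∧ sign s = -1 := by
  obtain ⟨hodd, hfix, hcnt⟩ := centralizer_le_alternating_iff.1 h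
  rw [Fintype.card_fin] at hfix
  have hne : g.cycleType ≠ 0 := fun e => by rw [e, Multiset.sum_zero] at hfix; omega
  obtain ⟨l, hl⟩ := Multiset.exists_mem_of_ne_zero hne
  obtain ⟨c, rfl⟩ := hodd l hl
  have h2 := two_le_of_mem_cycleType hl
  have hsum : 2 * c + 1 + (g.cycleType.erase (2 * c + 1)).sum = g.cycleType.sum := by
    rw [← Multiset.sum_cons, Multiset.cons_erase hl]
  have hle : g.cycleType.sum ≤ n := by
    rw [sum_cycleType]; simpa using g.support.card_le_univ
  obtain ⟨s, hs⟩ := (exists_with_cycleType_iff (α := Fin n) (m := (2 * c) ::ₘ g.cycleType.erase (2 * c + 1))).2 ⟨by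
    rw [Multiset.sum_cons, Fintype.card_fin]; omega, fun a ha => by
    rcases Multiset.mem_cons.1 ha with rfl | ha
    · omega
    · exact two_le_of_mem_cycleType (Multiset.mem_of_mem_erase ha)⟩
  refine ⟨s, 2 * c + 1, hl, by omega, by simpa using hs, ?_⟩
  have hge : sign g = 1 := mem_alternatingGroup.1 (h (Subgroup.mem_centralizer_singleton_iff.2 rfl))
  rw [sign_of_cycleType] at hge ⊢
  rw [hs, Multiset.sum_cons, Multiset.card_cons, Multiset.card_erase_add_one hl]
  rw [← hsum] at hge
  rw [show 2 * c + 1 + (g.cycleType.erase (2 * c + 1)).sum + Multiset.card g.cycleType =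
    (2 * c + (g.cycleType.erase (2 * c + 1)).sum + Multiset.card g.cycleType) + 1 by ring, pow_succ] at hge
  rcases Int.units_eq_one_or ((-1 : ℤˣ) ^ (2 * c + (g.cycleType.erase (2 * c + 1)).sum + Multiset.card g.cycleType)) with e | e
  · rw [e] at hge; exact absurd hge (by decide)
  · exact e

open Equiv Equiv.Perm in
theorem card_lt (n : ℕ) (hn : 5 ≤ n) :
    Nat.card (ConjClasses (alternatingGroup (Fin n))) < Nat.card (ConjClasses (Perm (Fin n))) := by
  classical
  let A := alternatingGroup (Fin n)
  let ι : ConjClasses A → ConjClasses (Perm (Fin n)) := ConjClasses.map A.subtype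
  let sh : Perm (Fin n) → Perm (Fin n) := fun g =>
    if h : Subgroup.centralizer {g} ≤ alternatingGroup (Fin n) then (exists_shift hn h).choose else 1
  let rep : ConjClasses (Perm (Fin n)) → Perm (Fin n) := fun x => (ConjClasses.exists_rep x).choose
  have hrep : ∀ x, ConjClasses.mk (rep x) = x := fun x => (ConjClasses.exists_rep x).choose_spec
  let rA : ConjClasses A → A := fun x => (ConjClasses.exists_rep x).choose
  have hrA : ∀ x, ConjClasses.mk (rA x) = x := fun x => (ConjClasses.exists_rep x).choose_spec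
  let good : A → Prop := fun a => ∃ π : A, (π : Perm (Fin n)) * a * (π : Perm (Fin n))⁻¹ = rep (ConjClasses.mk (a : Perm (Fin n)))
  let F : ConjClasses A → ConjClasses (Perm (Fin n)) := fun x =>
    if good (rA x) then ConjClasses.mk (rA x : Perm (Fin n)) else ConjClasses.mk (sh (rA x))
  have hconj : ∀ a : A, ∃ π : Perm (Fin n), π * a * π⁻¹ = rep (ConjClasses.mk (a : Perm (Fin n))) := fun a =>
    isConj_iff.1 (ConjClasses.mk_eq_mk_iff_isConj.1 (hrep _).symm)
  -- the bad elements have centraliser in the alternating group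
  have hbad : ∀ a : A, ¬ good a → Subgroup.centralizer {(a : Perm (Fin n))} ≤ alternatingGroup (Fin n) ∧
      ∀ π : Perm (Fin n), π * a * π⁻¹ = rep (ConjClasses.mk (a : Perm (Fin n))) → sign π = -1 := by
    intro a ha
    have hodd : ∀ π : Perm (Fin n), π * a * π⁻¹ = rep (ConjClasses.mk (a : Perm (Fin n))) → sign π = -1 := fun π hπ => by
      rcases Int.units_eq_one_or (sign π) with e | e
      · exact absurd ⟨⟨π, mem_alternatingGroup.2 e⟩, hπ⟩ ha
      · exact e
    refine ⟨fun c hc => ?_, hodd⟩
    obtain ⟨π, hπ⟩ := hconj a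
    have h2 : sign (π * c) = -1 := hodd _ (by
      rw [← hπ, mul_inv_rev, show π * c * (a : Perm (Fin n)) * (c⁻¹ * π⁻¹) = π * (c * a * c⁻¹) * π⁻¹ by group,
        Subgroup.mem_centralizer_singleton_iff.1 hc, mul_inv_cancel_right])
    rw [map_mul, hodd π hπ] at h2
    exact mem_alternatingGroup.2 (mul_left_cancel (h2.trans (mul_one _).symm))
  have hshsign : ∀ a : A, ¬ good a → sign (sh a) = -1 ∧ ∃ l ∈ (a : Perm (Fin n)).cycleType, 3 ≤ l ∧
      (sh a).cycleType = (l - 1) ::ₘ (a : Perm (Fin n)).cycleType.erase l := by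
    intro a ha
    obtain ⟨l, hl, hl3, hct, hs⟩ := (exists_shift hn (hbad a ha).1).choose_spec
    simp only [sh, dif_pos (hbad a ha).1]
    exact ⟨hs, l, hl, hl3, hct⟩
  have hinj : Function.Injective F := by
    intro x y hxy
    rw [← hrA x, ← hrA y]
    simp only [F] at hxy
    have key : ∀ a b : A, ∀ π : Perm (Fin n), π * a * π⁻¹ = b → sign π = 1 → ConjClasses.mk a = ConjClasses.mk b :=
      fun a b π h hs => ConjClasses.mk_eq_mk_iff_isConj.2 (isConj_iff.2 ⟨⟨π, mem_alternatingGroup.2 hs⟩, Subtype.ext h⟩)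
    by_cases hx : good (rA x) <;> by_cases hy : good (rA y)
    · rw [if_pos hx, if_pos hy] at hxy
      obtain ⟨π, hπ⟩ := hx
      obtain ⟨σ, hσ⟩ := hy
      rw [hxy] at hπ
      rw [← hσ] at hπ
      refine key _ _ ((σ : Perm (Fin n))⁻¹ * π) ?_ (by
        rw [map_mul, map_inv, mem_alternatingGroup.1 σ.2, mem_alternatingGroup.1 π.2, inv_one, one_mul])
      rw [mul_inv_rev, inv_inv, show (σ : Perm (Fin n))⁻¹ * π * rA x * ((π : Perm (Fin n))⁻¹ * σ) =
        (σ : Perm (Fin n))⁻¹ * (π * rA x * (π : Perm (Fin n))⁻¹) * σ by group, hπ]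
      group
    · rw [if_pos hx, if_neg hy] at hxy
      obtain ⟨π, hπ⟩ := isConj_iff.1 (ConjClasses.mk_eq_mk_iff_isConj.1 hxy)
      have h1 := congrArg sign hπ
      rw [map_mul, map_mul, map_inv, mul_comm, inv_mul_cancel_left, mem_alternatingGroup.1 (rA x).2, (hshsign _ hy).1] at h1
      exact absurd h1 (by decide)
    · rw [if_neg hx, if_pos hy] at hxy
      obtain ⟨π, hπ⟩ := isConj_iff.1 (ConjClasses.mk_eq_mk_iff_isConj.1 hxy)
      have h1 := congrArg sign hπ
      rw [map_mul, map_mul, map_inv, mul_comm, inv_mul_cancel_left, mem_alternatingGroup.1 (rA y).2, (hshsign _ hx).1] at h1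
      exact absurd h1 (by decide)
    · rw [if_neg hx, if_neg hy] at hxy
      have hct := isConj_iff_cycleType_eq.1 (ConjClasses.mk_eq_mk_iff_isConj.1 hxy)
      obtain ⟨-, l, hl, hl3, e1⟩ := hshsign _ hx
      obtain ⟨-, k, hk, hk3, e2⟩ := hshsign _ hy
      rw [e1, e2] at hct
      have hoddx := (centralizer_le_alternating_iff.1 (hbad _ hx).1).1
      have hoddy := (centralizer_le_alternating_iff.1 (hbad _ hy).1).1
      have hlk : l = k := by
        have h3 : l - 1 ∈ (k - 1) ::ₘ (rA y : Perm (Fin n)).cycleType.erase k := hct ▸ Multiset.mem_cons_self _ _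
        rcases Multiset.mem_cons.1 h3 with e | e
        · omega
        · exfalso
          obtain ⟨c, hc⟩ := hoddx l hl
          obtain ⟨d, hd⟩ := hoddy _ (Multiset.mem_of_mem_erase e)
          omega
      subst hlk
      rw [Multiset.cons_inj_right] at hct
      have hct2 : (rA x : Perm (Fin n)).cycleType = (rA y : Perm (Fin n)).cycleType := by
        rw [← Multiset.cons_erase hl, hct, Multiset.cons_erase hk]
      have heq : ConjClasses.mk (rA x : Perm (Fin n)) = ConjClasses.mk (rA y : Perm (Fin n)) :=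
        ConjClasses.mk_eq_mk_iff_isConj.2 (isConj_iff_cycleType_eq.2 hct2)
      obtain ⟨π, hπ⟩ := hconj (rA x)
      obtain ⟨σ, hσ⟩ := hconj (rA y)
      have s1 := (hbad _ hx).2 π hπ
      have s2 := (hbad _ hy).2 σ hσ
      rw [heq, ← hσ] at hπ
      refine key _ _ (σ⁻¹ * π) ?_ (by rw [map_mul, map_inv, s1, s2, inv_mul_cancel])
      rw [mul_inv_rev, inv_inv, show σ⁻¹ * π * rA x * (π⁻¹ * σ) = σ⁻¹ * (π * rA x * π⁻¹) * σ by group, hπ]
      group
  obtain ⟨τ, hτ⟩ := (exists_with_cycleType_iff (α := Fin n) (m := {2})).2 ⟨by simp; omega, by simp⟩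
  have hsurj : ¬ Function.Surjective F := by
    intro hF
    obtain ⟨x, hx⟩ := hF (ConjClasses.mk τ)
    simp only [F] at hx
    have hτs : sign τ = -1 := by rw [sign_of_cycleType, hτ]; decide
    by_cases hg : good (rA x)
    · rw [if_pos hg] at hx
      obtain ⟨π, hπ⟩ := isConj_iff.1 (ConjClasses.mk_eq_mk_iff_isConj.1 hx)
      have h1 := congrArg sign hπ
      rw [map_mul, map_mul, map_inv, mul_comm, inv_mul_cancel_left, mem_alternatingGroup.1 (rA x).2, hτs] at h1
      exact absurd h1 (by decide)
    · rw [if_neg hg] at hx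
      obtain ⟨-, l, hl, hl3, e1⟩ := hshsign _ hg
      have h2 := isConj_iff_cycleType_eq.1 (ConjClasses.mk_eq_mk_iff_isConj.1 hx)
      rw [e1, hτ, ← Multiset.cons_zero, Multiset.cons_eq_cons] at h2
      have hfix := (centralizer_le_alternating_iff.1 (hbad _ hg).1).2.1
      rw [Fintype.card_fin, ← Multiset.cons_erase hl, Multiset.sum_cons] at hfix
      rcases h2 with ⟨e, e'⟩ | ⟨-, cs, -, e'⟩
      · rw [e', Multiset.sum_zero] at hfix; omega
      · exact Multiset.zero_ne_cons e'
  rcases lt_or_eq_of_le (Nat.card_le_card_of_injective F hinj) with h | h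
  · exact h
  · exact absurd (hinj.bijective_of_nat_card_le h.ge).2 hsurj

/-- The step map for partitions. -/
theorem partition_succ (n : ℕ) : Fintype.card (Nat.Partition (n + 1)) ≤ 2 * Fintype.card (Nat.Partition n) := by
  classical
  have hne : ∀ p : Nat.Partition (n + 1), p.parts.toFinset.Nonempty := fun p => by
    rw [Multiset.toFinset_nonempty]
    intro h
    have := p.parts_sum
    rw [h, Multiset.sum_zero] at this
    omega
  let g : Nat.Partition (n + 1) → Bool × Multiset ℕ := fun p =>
    if 1 ∈ p.parts then (true, p.parts.erase 1)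
    else (false, (p.parts.toFinset.min' (hne p) - 1) ::ₘ p.parts.erase (p.parts.toFinset.min' (hne p)))
  have hg : ∀ p, ∃ r : Nat.Partition n, r.parts = (g p).2 := by
    intro p
    simp only [g]
    split_ifs with h
    · refine ⟨⟨p.parts.erase 1, fun {i} hi => p.parts_pos (Multiset.mem_of_mem_erase hi), ?_⟩, rfl⟩
      have := p.parts_sum
      rw [← Multiset.cons_erase h, Multiset.sum_cons] at this
      omega
    · set s := p.parts.toFinset.min' (hne p)
      have hs : s ∈ p.parts := Multiset.mem_toFinset.1 (Finset.min'_mem _ _)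
      have hs2 : 2 ≤ s := by
        have := p.parts_pos hs
        by_contra hlt
        have e : s = 1 := by omega
        exact h (Eq.subst (motive := fun t => t ∈ p.parts) e hs)
      refine ⟨⟨(s - 1) ::ₘ p.parts.erase s, fun {i} hi => ?_, ?_⟩, rfl⟩
      · rcases Multiset.mem_cons.1 hi with rfl | hi
        · omega
        · exact p.parts_pos (Multiset.mem_of_mem_erase hi)
      · have := p.parts_sum
        rw [← Multiset.cons_erase hs, Multiset.sum_cons] at this
        rw [Multiset.sum_cons]
        omega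
  choose r hr using hg
  have hinj : Function.Injective (fun p => ((g p).1, r p)) := by
    intro p p' h
    simp only [Prod.mk.injEq] at h
    obtain ⟨hb, hr'⟩ := h
    have h2 : (g p).2 = (g p').2 := by rw [← hr, ← hr, hr']
    simp only [g] at hb h2
    apply Nat.Partition.ext
    by_cases hp : 1 ∈ p.parts <;> by_cases hp' : 1 ∈ p'.parts
    · simp only [if_pos hp, if_pos hp'] at h2
      rw [← Multiset.cons_erase hp, ← Multiset.cons_erase hp', h2]
    · simp [if_pos hp, if_neg hp'] at hb
    · simp [if_neg hp, if_pos hp'] at hb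
    · simp only [if_neg hp, if_neg hp'] at h2
      set s := p.parts.toFinset.min' (hne p)
      set s' := p'.parts.toFinset.min' (hne p')
      have hs : s ∈ p.parts := Multiset.mem_toFinset.1 (Finset.min'_mem _ _)
      have hs' : s' ∈ p'.parts := Multiset.mem_toFinset.1 (Finset.min'_mem _ _)
      have key : s = s' := by
        have h3 : s - 1 ∈ (s' - 1) ::ₘ p'.parts.erase s' := h2 ▸ Multiset.mem_cons_self _ _
        have h4 : s' - 1 ∈ (s - 1) ::ₘ p.parts.erase s := h2.symm ▸ Multiset.mem_cons_self _ _
        have e3 : s - 1 = s' - 1 ∨ s' ≤ s - 1 := (Multiset.mem_cons.1 h3).imp id fun h =>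
          Finset.min'_le _ _ (Multiset.mem_toFinset.2 (Multiset.mem_of_mem_erase h))
        have e4 : s' - 1 = s - 1 ∨ s ≤ s' - 1 := (Multiset.mem_cons.1 h4).imp id fun h =>
          Finset.min'_le _ _ (Multiset.mem_toFinset.2 (Multiset.mem_of_mem_erase h))
        have := p.parts_pos hs
        have := p'.parts_pos hs'
        omega
      rw [← key, Multiset.cons_inj_right] at h2
      rw [← Multiset.cons_erase hs, ← Multiset.cons_erase hs', h2, key]
  calc Fintype.card (Nat.Partition (n + 1)) ≤ Fintype.card (Bool × Nat.Partition n) := Fintype.card_le_of_injective _ hinj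
    _ = _ := by rw [Fintype.card_prod, Fintype.card_bool]

theorem partition_five : Fintype.card (Nat.Partition 5) ≤ 8 := by
  classical
  have hle : ∀ (p : Nat.Partition 5) (i : ℕ), i * p.parts.count i ≤ 5 := fun p i => by
    have h := Multiset.le_count_iff_replicate_le.1 (le_refl (p.parts.count i))
    obtain ⟨t, ht⟩ := Multiset.le_iff_exists_add.1 h
    have := p.parts_sum
    rw [ht, Multiset.sum_add, Multiset.sum_replicate, smul_eq_mul] at this
    rw [mul_comm]; omega
  have hb : ∀ (p : Nat.Partition 5) (i k : ℕ), 5 < i * k → p.parts.count i < k := fun p i k h => by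
    by_contra hlt
    push Not at hlt
    have := Nat.mul_le_mul_left i hlt
    have := hle p i
    omega
  let f : Nat.Partition 5 → Fin 6 × Fin 3 × Fin 2 × Fin 2 × Fin 2 := fun p =>
    (⟨_, hb p 1 6 (by norm_num)⟩, ⟨_, hb p 2 3 (by norm_num)⟩, ⟨_, hb p 3 2 (by norm_num)⟩,
      ⟨_, hb p 4 2 (by norm_num)⟩, ⟨_, hb p 5 2 (by norm_num)⟩)
  have hmem : ∀ p, f p ∈ (Finset.univ : Finset (Fin 6 × Fin 3 × Fin 2 × Fin 2 × Fin 2)).filter
      (fun c => (c.1 : ℕ) + 2 * c.2.1 + 3 * c.2.2.1 + 4 * c.2.2.2.1 + 5 * c.2.2.2.2 = 5) := by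
    intro p
    rw [Finset.mem_filter]
    refine ⟨Finset.mem_univ _, ?_⟩
    have hsub : p.parts.toFinset ⊆ Finset.Icc 1 5 := fun i hi => Finset.mem_Icc.2
      ⟨p.parts_pos (Multiset.mem_toFinset.1 hi), Nat.Partition.le_of_mem_parts (Multiset.mem_toFinset.1 hi)⟩
    have hsum := p.parts_sum
    rw [Finset.sum_multiset_count, Finset.sum_subset hsub (fun i _ hi => by
      rw [Multiset.count_eq_zero.2 (fun h => hi (Multiset.mem_toFinset.2 h)), zero_smul])] at hsum
    rw [show Finset.Icc 1 5 = ({1, 2, 3, 4, 5} : Finset ℕ) by decide] at hsum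
    simp at hsum
    simp only [f]
    omega
  calc Fintype.card (Nat.Partition 5) = (Finset.univ.image f).card := by
        rw [Finset.card_image_of_injective _ (fun p p' h => Nat.Partition.ext (Multiset.ext.2 fun i => ?_)), Finset.card_univ]
        simp only [f, Prod.mk.injEq, Fin.mk.injEq] at h
        obtain ⟨h1, h2, h3, h4, h5⟩ := h
        rcases le_or_gt i 5 with hi | hi
        · interval_cases i
          · rw [Multiset.count_eq_zero.2 fun h => (p.parts_pos h).false, Multiset.count_eq_zero.2 fun h => (p'.parts_pos h).false]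
          all_goals assumption
        · rw [Multiset.count_eq_zero.2 fun h => (Nat.Partition.le_of_mem_parts h).not_gt hi,
            Multiset.count_eq_zero.2 fun h => (Nat.Partition.le_of_mem_parts h).not_gt hi]
    _ ≤ _ := Finset.card_le_card (Finset.image_subset_iff.2 fun p _ => hmem p)
    _ ≤ 8 := by decide


/-- For n ≥ 5 the alternating group of degree n has strictly fewer conjugacy classes than the symmetric group of degree n, and the symmetric group of degree n (whose classes correspond to the partitions of n) has at most 2^(n−2) conjugacy classes. -/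
theorem result (n : ℕ) (hn : 5 ≤ n) : Nat.card (ConjClasses (alternatingGroup (Fin n))) < Nat.card (ConjClasses (Equiv.Perm (Fin n))) ∧ Nat.card (ConjClasses (Equiv.Perm (Fin n))) ≤ 2 ^ (n - 2) := by

  refine ⟨card_lt n hn, ?_⟩
  classical
  have h1 : Nat.card (ConjClasses (Equiv.Perm (Fin n))) ≤ Fintype.card (Nat.Partition (Fintype.card (Fin n))) := by
    rw [← Nat.card_eq_fintype_card]
    refine Nat.card_le_card_of_injective
      (Quotient.lift Equiv.Perm.partition fun a b h => Equiv.Perm.partition_eq_of_isConj.1 h) ?_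
    intro x y
    refine Quotient.inductionOn₂ x y fun a b h => Quotient.sound (Equiv.Perm.partition_eq_of_isConj.2 h)
  refine h1.trans ?_
  rw [Fintype.card_fin]
  clear h1
  induction n, hn using Nat.le_induction with
  | base => exact partition_five
  | succ n hn ih =>
    refine (partition_succ n).trans ?_
    rw [show n + 1 - 2 = (n - 2) + 1 by omega, pow_succ]
    omega

end Cfsg.Agent.S4198
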