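import Cfsg.Statements.S4201
import Mathlib

set_option maxHeartbeats 1000000
set_option maxRecDepth 8000

set_option autoImplicit false
open Cfsg

namespace Cfsg.Agent.S4201

/-- If N is a normal subgroup of the finite group X then k(X) ≤ k(N)·k(X ⧸ N), where k denotes the number of conjugacy classes. -/
theorem result {X : Type*} [Group X] [Finite X] (N : Subgroup X) [N.Normal] : Nat.card (ConjClasses X) ≤ Nat.card (ConjClasses N) * Nat.card (ConjClasses (X ⧸ N)) := by
  classical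
  letI := Fintype.ofFinite X
  have key : Nat.card {p : X × X // Commute p.1 p.2} ≤
      Nat.card {p : (X ⧸ N) × (X ⧸ N) // Commute p.1 p.2} * Nat.card {p : N × N // Commute p.1 p.2} := by
    let f : {p : X × X // Commute p.1 p.2} → {p : (X ⧸ N) × (X ⧸ N) // Commute p.1 p.2} := fun p =>
      ⟨(QuotientGroup.mk' N p.1.1, QuotientGroup.mk' N p.1.2), Commute.map p.2 (QuotientGroup.mk' N)⟩
    rw [← Nat.card_prod]
    -- each fibre injects into the commuting pairs of `N`
    suffices h : ∀ q, Nat.card {p // f p = q} ≤ Nat.card {p : N × N // Commute p.1 p.2} by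
      letI := Fintype.ofFinite {p : (X ⧸ N) × (X ⧸ N) // Commute p.1 p.2}
      rw [Nat.card_congr (Equiv.sigmaFiberEquiv f).symm, Nat.card_sigma, Nat.card_prod]
      refine (Finset.sum_le_sum fun q _ => h q).trans ?_
      rw [Finset.sum_const, Finset.card_univ, smul_eq_mul, ← Nat.card_eq_fintype_card]
    intro q
    obtain ⟨⟨a, b⟩, hab⟩ := q
    -- a chosen second coordinate for each first coordinate, and a chosen first one for each `n`
    let Y : X → X := fun x => if h : ∃ y, Commute x y ∧ QuotientGroup.mk' N y = b then h.choose else 1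
    let Z : N → X := fun n => if h : ∃ x, Commute x (n : X) ∧ QuotientGroup.mk' N x = a then h.choose else 1
    have hf : ∀ p : {p // f p = ⟨(a, b), hab⟩}, QuotientGroup.mk' N p.1.1.1 = a ∧
        QuotientGroup.mk' N p.1.1.2 = b ∧ Commute p.1.1.1 p.1.1.2 := fun p => by
      have := congrArg Subtype.val p.2
      exact ⟨congrArg Prod.fst this, congrArg Prod.snd this, p.1.2⟩
    have hY : ∀ p : {p // f p = ⟨(a, b), hab⟩},
        (Y p.1.1.1)⁻¹ * p.1.1.2 ∈ N ∧ Commute p.1.1.1 ((Y p.1.1.1)⁻¹ * p.1.1.2) := fun p => by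
      obtain ⟨h1, h2, h3⟩ := hf p
      have hex : ∃ y, Commute p.1.1.1 y ∧ QuotientGroup.mk' N y = b := ⟨p.1.1.2, h3, h2⟩
      have hYv : Y p.1.1.1 = hex.choose := dif_pos hex
      rw [hYv]
      refine ⟨?_, (Commute.inv_right hex.choose_spec.1).mul_right h3⟩
      rw [← QuotientGroup.eq_one_iff]
      show QuotientGroup.mk' N _ = 1
      rw [map_mul, map_inv, hex.choose_spec.2, h2, inv_mul_cancel]
    have hZ : ∀ p : {p // f p = ⟨(a, b), hab⟩}, ∀ n : N, (n : X) = (Y p.1.1.1)⁻¹ * p.1.1.2 →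
        (Z n)⁻¹ * p.1.1.1 ∈ N ∧ Commute ((Z n)⁻¹ * p.1.1.1) (n : X) := fun p n hn => by
      obtain ⟨h1, h2, h3⟩ := hf p
      have hc : Commute p.1.1.1 (n : X) := hn ▸ (hY p).2
      have hex : ∃ x, Commute x (n : X) ∧ QuotientGroup.mk' N x = a := ⟨p.1.1.1, hc, h1⟩
      have hZv : Z n = hex.choose := dif_pos hex
      rw [hZv]
      refine ⟨?_, (Commute.inv_left hex.choose_spec.1).mul_left hc⟩
      rw [← QuotientGroup.eq_one_iff]
      show QuotientGroup.mk' N _ = 1
      rw [map_mul, map_inv, hex.choose_spec.2, h1, inv_mul_cancel]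
    let g : {p // f p = ⟨(a, b), hab⟩} → {p : N × N // Commute p.1 p.2} := fun p =>
      ⟨(⟨_, (hZ p ⟨_, (hY p).1⟩ rfl).1⟩, ⟨_, (hY p).1⟩),
        Subtype.ext (hZ p ⟨_, (hY p).1⟩ rfl).2⟩
    refine Nat.card_le_card_of_injective g fun p p' h => ?_
    have e2 : (⟨_, (hY p).1⟩ : N) = ⟨_, (hY p').1⟩ := congrArg Prod.snd (congrArg Subtype.val h)
    have e1 : (Z ⟨_, (hY p).1⟩)⁻¹ * p.1.1.1 = (Z ⟨_, (hY p').1⟩)⁻¹ * p'.1.1.1 :=
      congrArg (fun t : {p : N × N // Commute p.1 p.2} => (t.1.1 : X)) h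
    rw [e2] at e1
    have hx : p.1.1.1 = p'.1.1.1 := mul_left_cancel e1
    have e3 : (Y p.1.1.1)⁻¹ * p.1.1.2 = (Y p'.1.1.1)⁻¹ * p'.1.1.2 := congrArg Subtype.val e2
    rw [hx] at e3
    exact Subtype.ext (Subtype.ext (Prod.ext hx (mul_left_cancel e3)))
  rw [card_comm_eq_card_conjClasses_mul_card, card_comm_eq_card_conjClasses_mul_card,
    card_comm_eq_card_conjClasses_mul_card] at key
  refine Nat.le_of_mul_le_mul_right ?_ (Nat.card_pos (α := X))
  calc Nat.card (ConjClasses X) * Nat.card X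
      ≤ Nat.card (ConjClasses (X ⧸ N)) * Nat.card (X ⧸ N) * (Nat.card (ConjClasses N) * Nat.card N) := key
    _ = Nat.card (ConjClasses N) * Nat.card (ConjClasses (X ⧸ N)) * Nat.card X := by
        rw [Subgroup.card_eq_card_quotient_mul_card_subgroup N]; ring

end Cfsg.Agent.S4201
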