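import Cfsg.Statements.S4203
import Mathlib
import Cfsg.Agent.S0144
import Cfsg.Agent.Lib.Grp.SylowMaximal
-- import your own Cfsg.Agent.* helpers here

set_option autoImplicit false
open Cfsg

namespace Cfsg.Agent.S4203

/-- A finite group in which every maximal subgroup has index a prime or the square of a prime is solvable. -/
theorem result {G : Type*} [Group G] [Finite G] (h : ∀ M : Subgroup G, IsCoatom M → ∃ p : ℕ, p.Prime ∧ (M.index = p ∨ M.index = p ^ 2)) : Group.IsSolvable G := by
  exact Cfsg.Agent.Grp.SylMax.isSolvable_of_coatom_index (fun i => ∃ q : ℕ, q.Prime ∧ (i = q ∨ i = q ^ 2))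
    (fun p i hp hi hmod _ h1 hlt => by
      obtain ⟨q, hq, hi⟩ := hi
      have h := hlt q hq (by rcases hi with rfl | rfl <;> simp)
      have h2 := hq.two_le
      rcases hi with rfl | rfl
      · rw [Nat.ModEq, Nat.mod_eq_of_lt h, Nat.mod_eq_of_lt hp.one_lt] at hmod
        omega
      · have hd : p ∣ q ^ 2 - 1 := (Nat.modEq_iff_dvd' (by omega)).1 hmod.symm
        rw [show q ^ 2 - 1 = (q + 1) * (q - 1) by
          rw [← Nat.sq_sub_sq, one_pow]] at hd
        rcases hp.dvd_mul.1 hd with hd | hd
        · have h3 : q + 1 = p := by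
            obtain ⟨c, hc⟩ := hd
            have : c = 1 := by nlinarith
            subst this; omega
          rcases hq.eq_two_or_odd with rfl | ho
          · omega
          · rcases hp.eq_two_or_odd with hp2 | hpo <;> omega
        · have := Nat.le_of_dvd (by omega) hd
          omega) _ G rfl h (fun Y _ _ a b e => Cfsg.Agent.S0144.result 2 3 a b Nat.prime_two Nat.prime_three e)

end Cfsg.Agent.S4203
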