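import Cfsg.Statements.S4204
import Mathlib

set_option maxHeartbeats 1000000
set_option maxRecDepth 8000

set_option autoImplicit false
open Cfsg

namespace Cfsg.Agent.S4204

/-- The lower central series shifted by one, starting from the whole group. -/
def T {G : Type*} [Group G] (H : Subgroup G) : ℕ → Subgroup G
  | 0 => ⊤
  | i + 1 => H.lowerCentralSeries i

instance T_normal {G : Type*} [Group G] (H : Subgroup G) [H.Normal] (i : ℕ) : (T H i).Normal := by
  cases i <;> simp only [T] <;> infer_instance

theorem commutator_T_le {G : Type*} [Group G] (H : Subgroup G) [H.Normal] (i : ℕ) :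
    ⁅T H i, H⁆ ≤ T H (i + 1) := by
  cases i with
  | zero =>
    show ⁅(⊤ : Subgroup G), H⁆ ≤ H
    exact Subgroup.commutator_le_right _ _
  | succ i => exact le_of_eq rfl

theorem lcs_sup_le {G : Type*} [Group G] (H K : Subgroup G) [H.Normal] [K.Normal] (n : ℕ) :
    ∀ X : Subgroup G, X.Normal → (∀ i j, i + j = n + 1 → T H i ⊓ T K j ≤ X) →
      (H ⊔ K).lowerCentralSeries n ≤ X := by
  induction n with
  | zero =>
    intro X _ hX
    rw [Subgroup.lowerCentralSeries_zero]
    exact sup_le (le_trans (le_inf le_rfl le_top) (hX 1 0 rfl))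
      (le_trans (le_inf le_top le_rfl) (hX 0 1 rfl))
  | succ n ih =>
    intro X hXn hX
    set π := QuotientGroup.mk' X with hπ
    have hker : ∀ A B : Subgroup G, ⁅A, B⁆ ≤ X ↔
        A.map π ≤ Subgroup.centralizer ((B.map π : Subgroup (G ⧸ X)) : Set (G ⧸ X)) := by
      intro A B
      rw [← Subgroup.commutator_eq_bot_iff_le_centralizer, ← Subgroup.map_commutator,
        Subgroup.map_eq_bot_iff, QuotientGroup.ker_mk']
    have : ((H ⊔ K).map π).Normal :=
      Subgroup.Normal.map inferInstance π (QuotientGroup.mk'_surjective X)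
    rw [Subgroup.lowerCentralSeries_succ, hker, Subgroup.map_le_iff_le_comap]
    refine ih _ inferInstance fun i j hij => ?_
    rw [← Subgroup.map_le_iff_le_comap]
    have h1 : (T H i ⊓ T K j).map π ≤ Subgroup.centralizer ((H.map π : Subgroup _) : Set (G ⧸ X)) :=
      (hker _ _).1 (le_trans (le_inf ((Subgroup.commutator_mono inf_le_left le_rfl).trans
          (commutator_T_le H i)) ((Subgroup.commutator_mono inf_le_right le_rfl).trans
          (Subgroup.commutator_le_left _ _))) (hX (i + 1) j (by omega)))
    have h2 : (T H i ⊓ T K j).map π ≤ Subgroup.centralizer ((K.map π : Subgroup _) : Set (G ⧸ X)) :=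
      (hker _ _).1 (le_trans (le_inf ((Subgroup.commutator_mono inf_le_left le_rfl).trans
          (Subgroup.commutator_le_left _ _)) ((Subgroup.commutator_mono inf_le_right le_rfl).trans
          (commutator_T_le K j))) (hX i (j + 1) (by omega)))
    rw [Subgroup.le_centralizer_iff] at h1 h2 ⊢
    rw [Subgroup.map_sup]
    exact sup_le h1 h2

/-- If `H` and `K` are normal subgroups of a finite group with `H` nilpotent of class at most `c` and `K` nilpotent of class at most `d` (the terms with index `c`, respectively `d`, of their lower central series are trivial, indices starting at `0`), then `HK` is nilpotent of class at most `c + d`. -/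
theorem result {G : Type*} [Group G] [Finite G] (H K : Subgroup G) [H.Normal] [K.Normal] (c d : ℕ) (hH : H.lowerCentralSeries c = ⊥) (hK : K.lowerCentralSeries d = ⊥) : (H ⊔ K).lowerCentralSeries (c + d) = ⊥ := by

  rw [eq_bot_iff]
  refine lcs_sup_le H K (c + d) ⊥ inferInstance fun i j hij => ?_
  rcases Nat.lt_or_ge i (c + 1) with hi | hi
  · obtain ⟨k, rfl⟩ : ∃ k, j = k + 1 := ⟨j - 1, by omega⟩
    refine inf_le_right.trans ?_
    show K.lowerCentralSeries k ≤ ⊥
    rw [← hK]
    exact K.lowerCentralSeries_antitone (by omega)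
  · obtain ⟨k, rfl⟩ : ∃ k, i = k + 1 := ⟨i - 1, by omega⟩
    refine inf_le_left.trans ?_
    show H.lowerCentralSeries k ≤ ⊥
    rw [← hH]
    exact H.lowerCentralSeries_antitone (by omega)

end Cfsg.Agent.S4204
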