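import Cfsg.Statements.S4205

set_option maxHeartbeats 1000000
set_option maxRecDepth 8000

set_option autoImplicit false
open Cfsg
open scoped commutatorElement

namespace Cfsg.Agent.S4205

/-- In a finite group whose upper central series reaches the whole group at step `c` (nilpotent of class at most `c`), starting from any subgroup and taking normalizers `c` times reaches the whole group. -/
theorem result {G : Type*} [Group G] [Finite G] (c : ℕ) (hG : Subgroup.upperCentralSeries G c = ⊤) (H : Subgroup G) : (fun K : Subgroup G => Subgroup.normalizer (K : Set G))^[c] H = ⊤ := by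
  suffices h : ∀ i, Subgroup.upperCentralSeries G i ≤
      (fun K : Subgroup G => Subgroup.normalizer (K : Set G))^[i] H by
    exact top_le_iff.mp (hG ▸ h c)
  intro i
  induction i with
  | zero => simp
  | succ i ih =>
    intro x hx
    rw [Function.iterate_succ_apply']
    set K := (fun K : Subgroup G => Subgroup.normalizer (K : Set G))^[i] H
    show x ∈ Subgroup.normalizer (K : Set G)
    refine Subgroup.mem_normalizer_iff.mpr fun y => ?_
    have key : ∀ y, ⁅x, y⁆ ∈ K := fun y => ih (Subgroup.mem_upperCentralSeries_succ_iff.mp hx y)
    rw [show x * y * x⁻¹ = ⁅x, y⁆ * y by rw [commutatorElement_def]; group]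
    exact (K.mul_mem_cancel_left (key y)).symm

end Cfsg.Agent.S4205
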