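import Cfsg.Statements.S4207
import Mathlib
import Cfsg.Agent.Lib.Transfer.BurnsideBasis

set_option maxHeartbeats 1000000
set_option maxRecDepth 8000

set_option autoImplicit false
open Cfsg

namespace Cfsg.Agent.S4207

/-- Let `P` be a group of order `p^n` whose Frattini subgroup has index `p^r`. Then any group of automorphisms of `P` each of which induces the identity on the Frattini quotient has order dividing `p^(r(n-r))`; in particular it is a `p`-group. -/
theorem result {P : Type*} [Group P] [Finite P] {p n r : ℕ} [Fact p.Prime] (hP : Nat.card P = p ^ n) (hr : (frattini P).index = p ^ r) (A : Subgroup (MulAut P)) (hA : ∀ α ∈ A, ∀ x : P, α x * x⁻¹ ∈ frattini P) : Nat.card A ∣ p ^ (r * (n - r)) := by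
  obtain ⟨B, ⟨b, hb⟩, -, hΦ, -, hgen⟩ := Cfsg.Agent.Transfer.BurnsideBasis.exists_tuples hP hr
  set T : Set (Fin r → P) := {y | ∀ i, (b i)⁻¹ * y i ∈ frattini P} with hT
  have hTc : Nat.card T = p ^ (r * (n - r)) := by
    let e : T ≃ (Fin r → frattini P) :=
      { toFun := fun y i => ⟨(b i)⁻¹ * (y : Fin r → P) i, y.2 i⟩
        invFun := fun f => ⟨fun i => b i * f i, fun i => by simp⟩
        left_inv := fun y => Subtype.ext (funext fun i => mul_inv_cancel_left _ _)
        right_inv := fun f => funext fun i => Subtype.ext (inv_mul_cancel_left _ _) }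
    rw [Nat.card_congr e, Nat.card_fun, hΦ, Nat.card_fin, ← pow_mul, mul_comm]
  rw [← hTc]
  refine Cfsg.Agent.Transfer.BurnsideBasis.card_dvd_of_generating A T (fun α hα y hy i => ?_)
    fun y hy => Cfsg.Agent.Transfer.BurnsideBasis.closure_eq_top_of_modFrattini (hgen b hb) hy
  have h1 := (frattini P).mul_mem (hy i) (Subgroup.Normal.conj_mem inferInstance _ (hA α hα (y i)) (y i)⁻¹)
  simpa [mul_assoc] using h1

end Cfsg.Agent.S4207
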