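import Cfsg.Statements.S4212
import Mathlib
import Cfsg.Agent.Lib.Grp.PowerCount
-- import your own Cfsg.Agent.* helpers here

set_option autoImplicit false
open Cfsg

namespace Cfsg.Agent.S4212

universe w

theorem roots_dvd_case_one {G : Type w} [Group G] [Finite G] (c : G) (n q f : ℕ) (hq : q.Prime)
    (hfn : q ^ f ∣ n) (hf : ¬ q ^ (f + 1) ∣ n) (hc : q ∣ orderOf c) :
    q ^ f ∣ Nat.card {x : G // x ^ n = c} := by
  classical
  haveI := Fintype.ofFinite G
  rw [Nat.card_eq_fintype_card, Fintype.card_subtype,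
    Finset.card_eq_sum_card_image (fun x : G => (Subgroup.zpowers x, x ^ q ^ f))]
  refine Finset.dvd_sum fun C hC => ?_
  obtain ⟨x, hx, rfl⟩ := Finset.mem_image.1 hC
  have hxn : x ^ n = c := (Finset.mem_filter.1 hx).2
  set o := orderOf x with ho
  obtain ⟨n', rfl⟩ := hfn
  have hn' : ¬ q ∣ n' := fun h => hf (by rw [pow_succ]; exact Nat.mul_dvd_mul_left _ h)
  obtain ⟨b, R', hR', hoe⟩ := Nat.exists_eq_pow_mul_and_not_dvd (orderOf_pos x).ne' q hq.ne_one
  have hbf : f < b := by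
    by_contra hle
    push_neg at hle
    have h1 : (c : G) ^ R' = 1 := by
      rw [← hxn, ← pow_mul, ← orderOf_dvd_iff_pow_eq_one, hoe]
      exact Nat.mul_dvd_mul ((pow_dvd_pow q hle).trans (dvd_mul_right _ _)) dvd_rfl
    exact hR' (hc.trans (orderOf_dvd_of_pow_eq_one h1))
  set R := q ^ (b - f) * R' with hR
  have hoR : o = q ^ f * R := by
    rw [ho, hoe, hR, ← mul_assoc, ← pow_add]
    congr 2
    omega
  have hqR : q ∣ R := dvd_mul_of_dvd_left (dvd_pow_self q (by omega)) _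
  have hRpos : 0 < R := Nat.pos_of_ne_zero fun h => (orderOf_pos x).ne' (by rw [← ho, hoR, h, mul_zero])
  have hcop : ∀ j : ℕ, (1 + j * R).Coprime o := by
    intro j
    refine Nat.coprime_of_dvd fun r hr hr1 hr2 => ?_
    have hrR : r ∣ R := by
      rw [hoR] at hr2
      rcases hr.dvd_mul.1 hr2 with h | h
      · exact ((Nat.prime_dvd_prime_iff_eq hr hq).1 (hr.dvd_of_dvd_pow h)) ▸ hqR
      · exact h
    exact hr.not_dvd_one ((Nat.dvd_add_left (dvd_mul_of_dvd_right hrR j)).1 hr1)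
  refine dvd_of_eq (Eq.symm ?_)
  conv_rhs => rw [← Finset.card_range (q ^ f)]
  symm
  refine Finset.card_bij (fun j _ => x ^ (1 + j * R)) ?_ ?_ ?_
  · intro j _
    have hpow : (x ^ (1 + j * R)) ^ q ^ f = x ^ q ^ f := by
      rw [← pow_mul, show (1 + j * R) * q ^ f = q ^ f + o * j by rw [hoR]; ring, pow_add, pow_mul,
        pow_orderOf_eq_one, one_pow, mul_one]
    rw [Finset.mem_filter, Finset.mem_filter]
    refine ⟨⟨Finset.mem_univ _, ?_⟩, ?_⟩
    · rw [pow_mul, hpow, ← pow_mul, hxn]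
    · rw [Prod.mk.injEq]
      refine ⟨?_, hpow⟩
      refine Subgroup.eq_of_le_of_card_ge (Subgroup.zpowers_le.2 (pow_mem (Subgroup.mem_zpowers x) _)) ?_
      rw [Nat.card_zpowers, Nat.card_zpowers, Nat.Coprime.orderOf_pow (hcop j).symm]
  · intro j hj k hk he
    rw [Finset.mem_range] at hj hk
    rw [pow_eq_pow_iff_modEq, ← ho, hoR] at he
    have h' : j * R ≡ k * R [MOD q ^ f * R] := Nat.ModEq.add_left_cancel' 1 he
    exact (Nat.ModEq.mul_right_cancel' hRpos.ne' h').eq_of_lt_of_lt hj hk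
  · intro y hy
    rw [Finset.mem_filter, Prod.mk.injEq] at hy
    obtain ⟨-, hz, hp⟩ := hy
    have hyx : y ∈ Subgroup.zpowers x := hz ▸ Subgroup.mem_zpowers y
    rw [← mem_powers_iff_mem_zpowers, Submonoid.mem_powers_iff] at hyx
    obtain ⟨i, rfl⟩ := hyx
    rw [← pow_mul, pow_eq_pow_iff_modEq, ← ho, hoR] at hp
    have hi : i ≡ 1 [MOD R] := by
      refine Nat.ModEq.mul_left_cancel' (pow_pos hq.pos f).ne' ?_
      rw [mul_one, mul_comm (q ^ f) i]
      exact hp
    set i' := i + (q ^ f * R) with hi'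
    have hi'1 : 1 ≤ i' := le_add_left (Nat.mul_pos (pow_pos hq.pos f) hRpos)
    have hi'R : i' ≡ 1 [MOD R] := by
      rw [hi']
      unfold Nat.ModEq at hi ⊢
      rw [Nat.add_mul_mod_self_right]
      exact hi
    obtain ⟨t, ht⟩ := (Nat.modEq_iff_dvd' hi'1).1 hi'R.symm
    refine ⟨t % q ^ f, Finset.mem_range.2 (Nat.mod_lt _ (pow_pos hq.pos f)), ?_⟩
    rw [pow_eq_pow_iff_modEq, ← ho, hoR]
    have h1 : t % q ^ f * R ≡ t * R [MOD q ^ f * R] := (Nat.mod_modEq t _).mul_right' R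
    refine (h1.add_left 1).trans ?_
    have h2 : 1 + t * R = i' := by rw [mul_comm, ← ht]; omega
    rw [h2, hi']
    unfold Nat.ModEq
    exact Nat.add_mod_right _ _

theorem roots_dvd_central {G : Type w} [Group G] [Finite G] (c : G)
    (hcz : c ∈ Subgroup.center G) (n : ℕ) :
    Nat.gcd n (Nat.card G) ∣ Nat.card {x : G // x ^ n = c} := by
  classical
  haveI := Fintype.ofFinite G
  rw [Nat.dvd_iff_prime_pow_dvd_dvd]
  intro q k hq hk
  rcases Nat.eq_zero_or_pos n with hn | hn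
  · subst hn
    by_cases hc : (1 : G) = c
    · refine hk.trans ?_
      rw [Nat.gcd_zero_left]
      exact dvd_of_eq (Nat.card_congr (Equiv.subtypeUnivEquiv fun x => by rw [pow_zero]; exact hc)).symm
    · haveI : IsEmpty {x : G // x ^ 0 = c} := ⟨fun x => hc (by rw [← pow_zero x.1]; exact x.2)⟩
      rw [Nat.card_of_isEmpty]
      exact dvd_zero _
  obtain ⟨f, n', hn', hne⟩ := Nat.exists_eq_pow_mul_and_not_dvd hn.ne' q hq.ne_one
  have hkn : k ≤ f := by
    have h1 : q ^ k ∣ n := hk.trans (Nat.gcd_dvd_left _ _)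
    rw [hne] at h1
    exact (Nat.pow_dvd_pow_iff_le_right hq.one_lt).1
      ((((hq.coprime_iff_not_dvd).2 hn').pow_left k).dvd_of_dvd_mul_right h1)
  by_cases hqc : q ∣ orderOf c
  · refine (pow_dvd_pow q hkn).trans (roots_dvd_case_one c n q f hq (hne ▸ dvd_mul_right _ _) ?_ hqc)
    rw [hne, pow_succ]
    exact fun h => hn' (Nat.dvd_of_mul_dvd_mul_left (pow_pos hq.pos f) h)
  obtain ⟨a, M, hM', hG⟩ := Nat.exists_eq_pow_mul_and_not_dvd (Nat.card_pos (α := G)).ne' q hq.ne_one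
  set A := q ^ a with hA'
  have hAM : A.Coprime M := ((hq.coprime_iff_not_dvd).2 hM').pow_left a
  set e := Nat.gcd n A with he
  have hke : q ^ k ∣ e := Nat.dvd_gcd (hk.trans (Nat.gcd_dvd_left _ _)) ((((hq.coprime_iff_not_dvd).2 hM').pow_left k).dvd_of_dvd_mul_right (hG ▸ hk.trans (Nat.gcd_dvd_right _ _)))
  refine hke.trans ?_
  obtain ⟨α, hα1, hα2⟩ := Nat.chineseRemainder hAM 1 0
  obtain ⟨β, hβ1, hβ2⟩ := Nat.chineseRemainder hAM 0 1
  have hpow : ∀ g : G, g ^ (A * M) = 1 := fun g => hG ▸ pow_card_eq_one'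
  have hA : ∀ u : G, u ^ A = 1 → u ^ α = u ∧ u ^ β = 1 := fun u hu => by
    refine ⟨?_, ?_⟩
    · conv_rhs => rw [← pow_one u]
      exact pow_eq_pow_iff_modEq.2 (hα1.of_dvd (orderOf_dvd_of_pow_eq_one hu))
    · rw [← orderOf_dvd_iff_pow_eq_one]
      exact (orderOf_dvd_of_pow_eq_one hu).trans (Nat.modEq_zero_iff_dvd.1 hβ1)
  have hM : ∀ v : G, v ^ M = 1 → v ^ β = v ∧ v ^ α = 1 := fun v hv => by
    refine ⟨?_, ?_⟩
    · conv_rhs => rw [← pow_one v]
      exact pow_eq_pow_iff_modEq.2 (hβ2.of_dvd (orderOf_dvd_of_pow_eq_one hv))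
    · rw [← orderOf_dvd_iff_pow_eq_one]
      exact (orderOf_dvd_of_pow_eq_one hv).trans (Nat.modEq_zero_iff_dvd.1 hα2)
  have hsum : ∀ g : G, g ^ α * g ^ β = g := fun g => by
    rw [← pow_add]
    conv_rhs => rw [← pow_one g]
    refine pow_eq_pow_iff_modEq.2 (Nat.ModEq.of_dvd (orderOf_dvd_of_pow_eq_one (hpow g)) ?_)
    exact (Nat.modEq_and_modEq_iff_modEq_mul hAM).1
      ⟨by simpa using hα1.add hβ1, by simpa using hα2.add hβ2⟩
  have hcM : c ^ M = 1 := by
    rw [← orderOf_dvd_iff_pow_eq_one]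
    refine (((hq.coprime_iff_not_dvd).2 hqc).pow_left a).symm.dvd_of_dvd_mul_left ?_
    rw [← hA', ← hG]
    exact orderOf_dvd_natCard c
  let P : Type w := {v : G // v ^ M = 1 ∧ v ^ n = c}
  let S : G → Type w := fun v => {u : G // u ^ e = 1 ∧ Commute u v}
  have heA : ∀ u : G, u ^ e = 1 → u ^ A = 1 ∧ u ^ n = 1 := fun u hu => by
    have := orderOf_dvd_of_pow_eq_one hu
    exact ⟨orderOf_dvd_iff_pow_eq_one.1 (this.trans (Nat.gcd_dvd_right _ _)),
      orderOf_dvd_iff_pow_eq_one.1 (this.trans (Nat.gcd_dvd_left _ _))⟩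
  have hBeq : Nat.card {g : G // g ^ n = c} = ∑ v : P, Nat.card (S v.1) := by
    rw [← Nat.card_sigma]
    have hpα : ∀ g : G, (g ^ α) ^ A = 1 := fun g => by
      obtain ⟨d, hd⟩ := Nat.modEq_zero_iff_dvd.1 hα2
      rw [← pow_mul, hd, show M * d * A = A * M * d by ring, pow_mul, hpow, one_pow]
    have hpβ : ∀ g : G, (g ^ β) ^ M = 1 := fun g => by
      obtain ⟨d, hd⟩ := Nat.modEq_zero_iff_dvd.1 hβ1
      rw [← pow_mul, hd, show A * d * M = A * M * d by ring, pow_mul, hpow, one_pow]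
    refine Nat.card_congr
      { toFun := fun g => ⟨⟨g.1 ^ β, hpβ g.1, ?_⟩, ⟨g.1 ^ α, ?_, (Commute.refl g.1).pow_pow _ _⟩⟩
        invFun := fun w => ⟨w.2.1 * w.1.1, by
          rw [w.2.2.2.mul_pow, (heA _ w.2.2.1).2, one_mul, w.1.2.2]⟩
        left_inv := fun g => Subtype.ext (hsum g.1)
        right_inv := fun w => ?_ }
    · rw [← pow_mul, mul_comm, pow_mul, g.2, (hM c hcM).1]
    · rw [← orderOf_dvd_iff_pow_eq_one]
      refine Nat.dvd_gcd (orderOf_dvd_of_pow_eq_one ?_) (orderOf_dvd_of_pow_eq_one (hpα _))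
      rw [← pow_mul, mul_comm, pow_mul, g.2, (hM c hcM).2]
    · obtain ⟨⟨v, hv, hv'⟩, u, hu, hc⟩ := w
      have e1 : (u * v) ^ β = v := by rw [hc.mul_pow, (hA u (heA u hu).1).2, (hM v hv).1, one_mul]
      refine Sigma.subtype_ext (Subtype.ext e1) ?_
      show (u * v) ^ α = u
      rw [hc.mul_pow, (hA u (heA u hu).1).1, (hM v hv).2, mul_one]
  rw [hBeq, ← Finset.sum_fiberwise Finset.univ (fun u : P => ConjClasses.mk u.1)]
  refine Finset.dvd_sum fun K _ => ?_
  by_cases hne : (Finset.univ.filter fun u : P => ConjClasses.mk u.1 = K).Nonempty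
  swap
  · rw [Finset.not_nonempty_iff_eq_empty.1 hne, Finset.sum_empty]; exact dvd_zero _
  obtain ⟨u₀, hu₀⟩ := hne
  rw [Finset.mem_filter] at hu₀
  have hconst : ∀ u ∈ (Finset.univ.filter fun u : P => ConjClasses.mk u.1 = K),
      Nat.card (S u.1) = Nat.card (S u₀.1) := by
    intro u hu
    obtain ⟨g, hg⟩ := isConj_iff.1 (ConjClasses.mk_eq_mk_iff_isConj.1
      (hu₀.2.trans (Finset.mem_filter.1 hu).2.symm))
    refine (Nat.card_congr ((MulAut.conj g).toEquiv.subtypeEquiv fun v => ?_)).symm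
    simp only [MulEquiv.toEquiv_eq_coe, EquivLike.coe_coe, ← map_pow, ← hg]
    refine and_congr (by simp) ?_
    rw [show g * u₀.1 * g⁻¹ = (MulAut.conj g) u₀.1 from rfl, commute_iff_eq, commute_iff_eq, ← map_mul,
      ← map_mul, (MulAut.conj g).injective.eq_iff]
  rw [Finset.sum_congr rfl hconst, Finset.sum_const, smul_eq_mul]
  set C := Subgroup.centralizer ({u₀.1} : Set G) with hC
  have hcl : (Finset.univ.filter fun u : P => ConjClasses.mk u.1 = K).card = C.index := by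
    rw [← Cfsg.Agent.Char.card_conjClass u₀.1, ← Fintype.card_subtype, ← Nat.card_eq_fintype_card]
    refine Nat.card_congr
      { toFun := fun u => ⟨u.1.1, ConjClasses.mk_eq_mk_iff_isConj.1 (hu₀.2.trans u.2.symm)⟩
        invFun := fun x => ⟨⟨x.1, ?_, ?_⟩, ?_⟩
        left_inv := fun u => rfl
        right_inv := fun x => rfl }
    · obtain ⟨g, hg⟩ := isConj_iff.1 x.2
      rw [← hg, show g * u₀.1 * g⁻¹ = MulAut.conj g u₀.1 from rfl, ← map_pow, u₀.2.1, map_one]
    · obtain ⟨g, hg⟩ := isConj_iff.1 x.2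
      rw [← hg, show g * u₀.1 * g⁻¹ = MulAut.conj g u₀.1 from rfl, ← map_pow, u₀.2.2, MulAut.conj_apply,
        Subgroup.mem_center_iff.1 hcz g, mul_inv_cancel_right]
    · exact (ConjClasses.mk_eq_mk_iff_isConj.2 x.2).symm.trans hu₀.2
  rw [hcl]
  have e2 : Nat.card (S u₀.1) = Nat.card {v : C // v ^ Nat.gcd e (Nat.card C) = 1} := by
    refine Nat.card_congr
      { toFun := fun v => ⟨⟨v.1, Subgroup.mem_centralizer_singleton_iff.2 v.2.2.eq⟩, ?_⟩
        invFun := fun v => ⟨v.1.1, ?_, Subgroup.mem_centralizer_singleton_iff.1 v.1.2⟩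
        left_inv := fun v => rfl
        right_inv := fun v => rfl }
    · rw [← orderOf_dvd_iff_pow_eq_one]
      refine Nat.dvd_gcd (orderOf_dvd_of_pow_eq_one (Subtype.ext ?_)) (orderOf_dvd_natCard _)
      simpa using v.2.1
    · rw [← orderOf_dvd_iff_pow_eq_one, Subgroup.orderOf_coe]
      exact (orderOf_dvd_of_pow_eq_one v.2).trans (Nat.gcd_dvd_left _ _)
  rw [e2]
  refine dvd_trans ?_ (Nat.mul_dvd_mul_left C.index
    (Cfsg.Agent.Grp.PowCount.dvd_card_sol _ C rfl _ (Nat.gcd_dvd_right e (Nat.card C))))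
  rw [← Nat.gcd_mul_left]
  refine Nat.dvd_gcd (dvd_mul_left _ _) ?_
  rw [mul_comm, C.card_mul_index, hG]
  exact (Nat.gcd_dvd_right _ _).trans (dvd_mul_right _ _)

/-- Let `G` be a finite group of order `g`, `c` an element whose conjugacy class has `h` elements, and `n` a natural number. Then the number of elements `x` of `G` with `x^n` conjugate to `c` is a multiple of `gcd(hn, g)`. -/
theorem result {G : Type*} [Group G] [Finite G] (c : G) (n : ℕ) : Nat.gcd (Nat.card {y : G // IsConj c y} * n) (Nat.card G) ∣ Nat.card {x : G // IsConj c (x ^ n)} := by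
  classical
  haveI := Fintype.ofFinite G
  set C := Subgroup.centralizer ({c} : Set G) with hC
  have hcC : c ∈ C := Subgroup.mem_centralizer_singleton_iff.2 rfl
  have hh : Nat.card {y : G // IsConj c y} = C.index := Cfsg.Agent.Char.card_conjClass c
  have hfib : ∀ y : {y : G // IsConj c y},
      Nat.card {x : G // x ^ n = y.1} = Nat.card {x : C // x ^ n = ⟨c, hcC⟩} := by
    rintro ⟨y, hy⟩
    obtain ⟨g, hg⟩ := isConj_iff.1 hy
    show Nat.card {x : G // x ^ n = y} = _
    refine Nat.card_congr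
      { toFun := fun x => ⟨⟨g⁻¹ * x.1 * g, ?_⟩, Subtype.ext ?_⟩
        invFun := fun x => ⟨g * x.1.1 * g⁻¹, by
          rw [conj_pow, ← hg]
          exact congrArg (fun z => g * z * g⁻¹) (congrArg Subtype.val x.2)⟩
        left_inv := fun x => Subtype.ext (by simp [mul_assoc])
        right_inv := fun x => Subtype.ext (Subtype.ext (by simp [mul_assoc])) }
    · rw [Subgroup.mem_centralizer_singleton_iff]
      have hc' : c = (g⁻¹ * x.1 * g) ^ n := by
        have := conj_pow (a := g⁻¹) (b := x.1) (i := n)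
        rw [inv_inv, x.2] at this
        rw [this]
        show c = g⁻¹ * y * g
        rw [← hg]; group
      conv_lhs => rw [hc']
      conv_rhs => rw [hc']
      exact ((Commute.refl _).pow_right n).eq
    · have := conj_pow (a := g⁻¹) (b := x.1) (i := n)
      rw [inv_inv, x.2] at this
      show (g⁻¹ * x.1 * g) ^ n = c
      rw [this]
      show g⁻¹ * y * g = c
      rw [← hg]; group
  have htot : Nat.card {x : G // IsConj c (x ^ n)} =
      C.index * Nat.card {x : C // x ^ n = ⟨c, hcC⟩} := by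
    rw [← hh, show Nat.card {x : G // IsConj c (x ^ n)} =
      Nat.card (Σ y : {y : G // IsConj c y}, {x : G // x ^ n = y.1}) from Nat.card_congr
        { toFun := fun x => ⟨⟨x.1 ^ n, x.2⟩, ⟨x.1, rfl⟩⟩
          invFun := fun w => ⟨w.2.1, by rw [w.2.2]; exact w.1.2⟩
          left_inv := fun x => rfl
          right_inv := fun ⟨⟨y, hy⟩, ⟨x, (hx : x ^ n = y)⟩⟩ => by subst hx; rfl },
      Nat.card_sigma, Finset.sum_congr rfl (fun y _ => hfib y), Finset.sum_const, Finset.card_univ,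
      smul_eq_mul, ← Nat.card_eq_fintype_card]
  rw [hh, htot]
  have hz : (⟨c, hcC⟩ : C) ∈ Subgroup.center C := Subgroup.mem_center_iff.2 fun z =>
    Subtype.ext (Subgroup.mem_centralizer_singleton_iff.1 z.2)
  have h := Nat.mul_dvd_mul_left C.index (roots_dvd_central (⟨c, hcC⟩ : C) hz n)
  rwa [← Nat.gcd_mul_left, mul_comm C.index (Nat.card C), C.card_mul_index] at h

end Cfsg.Agent.S4212
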