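import Cfsg.Statements.S4213
import Cfsg.Agent.S4212
import Cfsg.Agent.Lib.Grp.Solvable
import Mathlib

set_option maxHeartbeats 1000000
set_option maxRecDepth 8000

set_option autoImplicit false
open Cfsg

namespace Cfsg.Agent.S4213

universe uG

/-- Frobenius: the number of solutions of `x ^ n = 1` is a multiple of `n` for `n` dividing the order. -/
theorem frobenius_dvd {G : Type uG} [Group G] [Finite G] {n : ℕ} (hn : n ∣ Nat.card G) :
    n ∣ Nat.card {x : G // x ^ n = 1} := by
  have h := Cfsg.Agent.S4212.result (1 : G) n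
  have e1 : Nat.card {y : G // IsConj 1 y} = 1 :=
    Nat.card_eq_one_iff_unique.2 ⟨⟨fun a b => Subtype.ext ((isConj_one_right.1 a.2).trans (isConj_one_right.1 b.2).symm)⟩,
      ⟨⟨1, IsConj.refl 1⟩⟩⟩
  rw [e1, one_mul, Nat.gcd_eq_left hn] at h
  rwa [Nat.card_congr (Equiv.subtypeEquivRight fun x : G => (isConj_one_right (a := x ^ n)))] at h

theorem frobenius_solvable : ∀ (m : ℕ) {G : Type uG} [Group G] [Finite G], Nat.card G = m → Group.IsSolvable G →
    ∀ n, n ∣ Nat.card G → Nat.card {x : G // x ^ n = 1} = n →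
    ∃ H : Subgroup G, H.Normal ∧ (H : Set G) = {x : G | x ^ n = 1} := by
  intro m
  induction m using Nat.strong_induction_on with
  | _ m ih =>
  intro G _ _ hm hsol n hn hcount
  classical
  haveI := hsol
  rcases subsingleton_or_nontrivial G with hs | hnt
  · exact ⟨⊥, inferInstance, Set.ext fun x => by simp [Subsingleton.elim x 1]⟩
  -- it is enough to find a subgroup
  suffices hsuff : ∃ H : Subgroup G, (H : Set G) = {x : G | x ^ n = 1} by
    obtain ⟨H, hH⟩ := hsuff
    refine ⟨H, ⟨fun x hx g => ?_⟩, hH⟩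
    rw [← SetLike.mem_coe, hH] at hx ⊢
    show (g * x * g⁻¹) ^ n = 1
    rw [conj_pow, show x ^ n = 1 from hx, mul_one, mul_inv_cancel]
  obtain ⟨N, hNn, hNne, hmin⟩ : ∃ N : Subgroup G, N.Normal ∧ N ≠ ⊥ ∧ ∀ M : Subgroup G, M.Normal → M ≤ N → M = ⊥ ∨ M = N := by
    haveI : Nonempty {N : Subgroup G // N.Normal ∧ N ≠ ⊥} := ⟨⟨⊤, inferInstance, top_ne_bot⟩⟩
    obtain ⟨⟨N, hN⟩, hNmin⟩ := Finite.exists_min (fun N : {N : Subgroup G // N.Normal ∧ N ≠ ⊥} => Nat.card N.1)
      (α := {N : Subgroup G // N.Normal ∧ N ≠ ⊥})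
    refine ⟨N, hN.1, hN.2, fun M hMn hMN => ?_⟩
    by_contra h
    push Not at h
    exact h.2 (Subgroup.eq_of_le_of_card_ge hMN (hNmin ⟨M, hMn, h.1⟩))
  haveI := hNn
  obtain ⟨-, p, hp, hpow⟩ := Cfsg.Agent.Grp.minimal_normal_solvable (N := N) inferInstance hNne hmin
  haveI := Fact.mk hp
  obtain ⟨i, hi⟩ := IsPGroup.iff_card.1 (fun x : N => ⟨1, Subtype.ext (by simpa using hpow x x.2)⟩ : IsPGroup p N)
  have hi0 : i ≠ 0 := fun h0 => hNne (Subgroup.card_eq_one.1 (by rw [hi, h0, pow_zero]))
  have hcard := Subgroup.card_eq_card_quotient_mul_card_subgroup N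
  have hlt : Nat.card (G ⧸ N) < m := by
    rw [← hm, hcard, hi]
    exact lt_mul_of_one_lt_right Nat.card_pos (Nat.one_lt_pow hi0 hp.one_lt)
  set q := QuotientGroup.mk' N
  have hsolq : Group.IsSolvable (G ⧸ N) := inferInstance
  -- a preimage has as many elements as a coset
  have hpre : ∀ s : Subgroup (G ⧸ N), Nat.card (s.comap q) = Nat.card s * p ^ i := fun s => by
    have h1 := (s.comap q).card_mul_index
    rw [Subgroup.index_comap_of_surjective _ (QuotientGroup.mk'_surjective N), hcard, hi, ← s.card_mul_index,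
      mul_right_comm] at h1
    exact Nat.eq_of_mul_eq_mul_right (Nat.pos_of_ne_zero Subgroup.index_ne_zero_of_finite) h1
  have hfinish : ∀ K : Subgroup G, (∀ x ∈ K, x ^ n = 1) → Nat.card K = n →
      ∃ H : Subgroup G, (H : Set G) = {x : G | x ^ n = 1} := fun K hK hKn => by
    refine ⟨K, Set.eq_of_subset_of_ncard_le (fun x hx => hK x hx) ?_ (Set.toFinite _)⟩
    rw [← Nat.card_coe_set_eq, ← Nat.card_coe_set_eq]
    exact (hcount.trans hKn.symm).le
  by_cases hpn : p ∣ n
  · obtain ⟨k, n1, hn1, rfl⟩ := Nat.exists_eq_pow_mul_and_not_dvd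
      (fun h0 : n = 0 => by rw [h0, zero_dvd_iff] at hn; exact Nat.card_pos.ne' hn) p hp.ne_one
    have hk : 1 ≤ k := by
      by_contra hk0
      obtain rfl : k = 0 := by omega
      rw [pow_zero, one_mul] at hpn
      exact hn1 hpn
    set n' := p ^ (k - i) * n1 with hn'
    have hn'dvd : n' ∣ Nat.card (G ⧸ N) := by
      rw [hcard, hi] at hn
      have h1 : p ^ (k - i) * n1 * p ^ i ∣ Nat.card (G ⧸ N) * p ^ i ∨ k < i := by
        by_cases hki : i ≤ k
        · left
          rw [mul_right_comm, ← pow_add, Nat.sub_add_cancel hki]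
          exact hn
        · right; omega
      rcases h1 with h1 | h1
      · exact Nat.dvd_of_mul_dvd_mul_right (pow_pos hp.pos i) h1
      · rw [hn', show k - i = 0 by omega, pow_zero, one_mul]
        exact (((hp.coprime_iff_not_dvd.2 hn1).pow_left i).symm).dvd_of_dvd_mul_right ((dvd_mul_left n1 _).trans hn)
    have hlift : ∀ g : G, q g ^ n' = 1 → g ^ (p ^ k * n1) = 1 := fun g hg => by
      have hgN : g ^ n' ∈ N := (QuotientGroup.eq_one_iff _).1 (by rw [← map_pow] at hg; exact hg)
      have h1 : g ^ (n' * p) = 1 := by rw [pow_mul, hpow _ hgN]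
      obtain ⟨d, hd⟩ : n' * p ∣ p ^ k * n1 := by
        rw [hn', mul_right_comm, ← pow_succ]
        exact mul_dvd_mul_right (pow_dvd_pow p (by omega)) n1
      rw [hd, pow_mul, h1, one_pow]
    have hcnt : Nat.card {y : G ⧸ N // y ^ n' = 1} * p ^ i ≤ p ^ k * n1 := by
      refine le_of_le_of_eq ?_ hcount
      rw [← hi, ← Nat.card_prod]
      refine Nat.card_le_card_of_injective
        (fun v : {y : G ⧸ N // y ^ n' = 1} × N => (⟨v.1.1.out * v.2, hlift _ (by
          rw [map_mul, show q (v.2 : G) = 1 from (QuotientGroup.eq_one_iff _).2 v.2.2, mul_one]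
          show (QuotientGroup.mk v.1.1.out : G ⧸ N) ^ n' = 1
          rw [QuotientGroup.out_eq']; exact v.1.2)⟩ : {x : G // x ^ (p ^ k * n1) = 1})) ?_
      rintro ⟨a, b⟩ ⟨c, d⟩ h
      have h1 : a.1.out * (b : G) = c.1.out * (d : G) := congrArg Subtype.val h
      have h2 : a.1 = c.1 := by
        have h3 := congrArg q h1
        rw [map_mul, map_mul, show q (b : G) = 1 from (QuotientGroup.eq_one_iff _).2 b.2,
          show q (d : G) = 1 from (QuotientGroup.eq_one_iff _).2 d.2, mul_one, mul_one] at h3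
        rw [← QuotientGroup.out_eq' a.1, ← QuotientGroup.out_eq' c.1]; exact h3
      have h4 : a = c := Subtype.ext h2
      subst h4
      exact Prod.ext rfl (Subtype.ext (mul_left_cancel h1))
    have hfr := Nat.le_of_dvd (by
      haveI : Nonempty {y : G ⧸ N // y ^ n' = 1} := ⟨⟨1, one_pow _⟩⟩
      exact Nat.card_pos) (frobenius_dvd hn'dvd)
    have hki : i ≤ k := by
      by_contra hlt'
      have h1 := le_trans (Nat.mul_le_mul_right (p ^ i) hfr) hcnt
      rw [hn', show k - i = 0 by omega, pow_zero, one_mul, mul_comm (p ^ k)] at h1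
      have h2 := Nat.le_of_mul_le_mul_left h1 (Nat.pos_of_ne_zero fun h0 => by simp [h0] at hn1)
      have h3 := Nat.pow_lt_pow_right hp.one_lt (show k < i by omega)
      omega
    have heq : n' * p ^ i = p ^ k * n1 := by rw [hn', mul_right_comm, ← pow_add, Nat.sub_add_cancel hki]
    rw [← heq] at hcnt
    obtain ⟨H, -, hH⟩ := ih _ hlt rfl hsolq n' hn'dvd (le_antisymm (Nat.le_of_mul_le_mul_right hcnt (pow_pos hp.pos i)) hfr)
    refine hfinish (H.comap q) (fun x hx => hlift x ?_) ?_
    · have : q x ∈ (H : Set (G ⧸ N)) := hx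
      rwa [hH] at this
    · rw [hpre, ← heq]
      congr 1
      calc Nat.card H = Nat.card {y : G ⧸ N // y ^ n' = 1} := Nat.card_congr (Equiv.setCongr hH)
        _ = n' := le_antisymm (Nat.le_of_mul_le_mul_right hcnt (pow_pos hp.pos i)) hfr
  · have hcop : Nat.Coprime p n := hp.coprime_iff_not_dvd.2 hpn
    have hnq : n ∣ Nat.card (G ⧸ N) := by
      rw [hcard, hi] at hn
      exact ((hcop.pow_left i).symm).dvd_of_dvd_mul_right hn
    obtain ⟨a, ha⟩ : ∃ a : ℕ, p * a % n = 1 % n := by
      obtain ⟨a, -, ha⟩ := Nat.exists_mul_mod_eq_of_coprime (r := 1) hcop (fun h0 => by simp [h0] at hpn)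
      exact ⟨a, ha⟩
    have hle : Nat.card {y : G ⧸ N // y ^ n = 1} ≤ n := by
      refine le_of_le_of_eq ?_ hcount
      refine Nat.card_le_card_of_surjective (fun x : {x : G // x ^ n = 1} =>
        (⟨q x.1, by rw [← map_pow, x.2, map_one]⟩ : {y : G ⧸ N // y ^ n = 1})) ?_
      rintro ⟨y, hy⟩
      obtain ⟨g, rfl⟩ := QuotientGroup.mk'_surjective N y
      have hgN : g ^ n ∈ N := (QuotientGroup.eq_one_iff _).1 (by rw [← map_pow] at hy; exact hy)
      refine ⟨⟨g ^ (p * a), by rw [← pow_mul, mul_comm, pow_mul, pow_mul, hpow _ hgN, one_pow]⟩, Subtype.ext ?_⟩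
      show q (g ^ (p * a)) = q g
      rw [map_pow]
      conv_rhs => rw [← pow_one (q g)]
      rw [pow_eq_pow_iff_modEq]
      exact (Nat.ModEq.of_dvd (orderOf_dvd_of_pow_eq_one hy) ha)
    have hfr := Nat.le_of_dvd (by
      haveI : Nonempty {y : G ⧸ N // y ^ n = 1} := ⟨⟨1, one_pow _⟩⟩
      exact Nat.card_pos) (frobenius_dvd hnq)
    obtain ⟨H, -, hH⟩ := ih _ hlt rfl hsolq n hnq (le_antisymm hle hfr)
    have hHn : Nat.card H = n := by
      calc Nat.card H = Nat.card {y : G ⧸ N // y ^ n = 1} := Nat.card_congr (Equiv.setCongr hH)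
        _ = n := le_antisymm hle hfr
    set M := H.comap q
    have hNM : N ≤ M := fun x hx => by
      show q x ∈ H
      rw [show q x = 1 from (QuotientGroup.eq_one_iff x).2 hx]; exact one_mem _
    have hidx : (N.subgroupOf M).index = n := by
      have h1 := (N.subgroupOf M).card_mul_index
      rw [Nat.card_congr (Subgroup.subgroupOfEquivOfLe hNM).toEquiv, hi, hpre, hHn, mul_comm n] at h1
      exact Nat.eq_of_mul_eq_mul_left (pow_pos hp.pos i) h1
    obtain ⟨K, hK⟩ := Subgroup.exists_right_complement'_of_coprime (N := N.subgroupOf M) (by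
      rw [Nat.card_congr (Subgroup.subgroupOfEquivOfLe hNM).toEquiv, hi, hidx]
      exact hcop.pow_left i)
    have hKn : Nat.card K = n := by rw [← hidx, hK.symm.index_eq_card]
    refine hfinish (K.map M.subtype) ?_ (by rw [Subgroup.card_map_of_injective M.subtype_injective, hKn])
    rintro _ ⟨x, hx, rfl⟩
    have h1 : (⟨x, hx⟩ : K) ^ n = 1 := by rw [← hKn]; exact pow_card_eq_one'
    exact congrArg (fun v : K => ((v : M) : G)) h1

/-- If `G` is a finite solvable group and `n` divides the order of `G` and exactly `n` elements `x` of `G` satisfy `x^n = 1`, then these elements form a normal subgroup. -/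
theorem result {G : Type*} [Group G] [Finite G] [Group.IsSolvable G] (n : ℕ) (hn : n ∣ Nat.card G) (hcount : Nat.card {x : G // x ^ n = 1} = n) : ∃ H : Subgroup G, H.Normal ∧ (H : Set G) = {x : G | x ^ n = 1} := by

  exact frobenius_solvable _ rfl inferInstance n hn hcount

end Cfsg.Agent.S4213
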