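import Cfsg.Statements.S4214
import Mathlib
import Cfsg.Agent.Lib.Grp.Hall
import Cfsg.Agent.Lib.Grp.Basic
import Cfsg.Agent.Lib.Grp.Solvable

set_option maxHeartbeats 1000000
set_option maxRecDepth 8000

set_option autoImplicit false
open Cfsg
open scoped Pointwise

namespace Cfsg.Agent.S4214

open Cfsg.Agent
universe u

/-- Orbit decomposition for a solvable group `H` normalizing a subgroup `W` of coprime order. -/
theorem core {G : Type u} [Group G] [Finite G] {N : Subgroup G} {H : Subgroup G} (hH : Group.IsSolvable H)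
    (hcop : (Nat.card H).Coprime (Nat.card N)) : ∀ (c : ℕ) (W : Subgroup G), Nat.card W = c → W ≤ N →
      H ≤ Subgroup.normalizer (W : Set G) → N ⊓ Subgroup.centralizer (H : Set G) ≤ W →
      ∃ l : List ℕ, l.prod * Nat.card ↥(N ⊓ Subgroup.centralizer (H : Set G)) = Nat.card W ∧
        ∀ f ∈ l, f ∣ Nat.card N ∧ ∃ r : ℕ, r.Prime ∧ r ∣ Nat.card H ∧ f ≡ 1 [MOD r] := by
  intro c
  induction c using Nat.strong_induction_on with
  | _ c ih =>
  intro W hc hWN hHW hCW
  subst hc
  by_cases hcen : H ≤ Subgroup.centralizer (W : Set G)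
  · have : W = N ⊓ Subgroup.centralizer (H : Set G) :=
      le_antisymm (le_inf hWN (Subgroup.le_centralizer_iff.1 hcen)) hCW
    exact ⟨[], by rw [List.prod_nil, one_mul, ← this], by simp⟩
  have hnormW : ∀ h ∈ H, ∀ w ∈ W, h * w * h⁻¹ ∈ W := fun h hh w hw =>
    (Subgroup.mem_normalizer_iff.1 (hHW hh) w).1 hw
  set D : Subgroup H := (Subgroup.centralizer (W : Set G)).subgroupOf H
  haveI hDn : D.Normal := by
    refine ⟨fun d hd h => ?_⟩
    rw [Subgroup.mem_subgroupOf, Subgroup.mem_centralizer_iff] at hd ⊢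
    intro w hw
    have := hd ((h : G)⁻¹ * w * (h : G)) (by simpa using hnormW _ (inv_mem h.2) w hw)
    simp only [Subgroup.coe_mul, Subgroup.coe_inv]
    calc w * ((h : G) * d * (h : G)⁻¹) = (h : G) * (((h : G)⁻¹ * w * (h : G)) * d) * (h : G)⁻¹ := by group
      _ = (h : G) * (d * ((h : G)⁻¹ * w * (h : G))) * (h : G)⁻¹ := by rw [this]
      _ = _ := by group
  have hDt : D ≠ ⊤ := fun e => hcen fun h hh => by
    have : (⟨h, hh⟩ : H) ∈ D := e ▸ Subgroup.mem_top _
    exact this
  haveI : Nontrivial (H ⧸ D) := QuotientGroup.nontrivial_iff.2 hDt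
  haveI := hH
  haveI : Group.IsSolvable (H ⧸ D) := inferInstance
  obtain ⟨Rb, hRn, hR1, -, hRmin⟩ := Grp.exists_minimal_normal_le (G := H ⧸ D) (N := ⊤) top_ne_bot
  obtain ⟨r, hr, hRr⟩ := Grp.minimal_normal_solvable_isPGroup inferInstance hR1 hRmin
  haveI := hRn
  haveI := Fact.mk hr
  set π := QuotientGroup.mk' D
  set R : Subgroup H := Rb.comap π
  have hDR : D ≤ R := fun d hd => by
    show π d ∈ Rb
    rw [show π d = 1 from (QuotientGroup.eq_one_iff d).2 hd]
    exact one_mem _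
  have hRD : ¬ R ≤ D := fun h => hR1 (by
    rw [← Subgroup.map_comap_eq_self_of_surjective (QuotientGroup.mk'_surjective D) Rb, Subgroup.map_eq_bot_iff,
      QuotientGroup.ker_mk']
    exact h)
  -- an r-subgroup covering R modulo D
  obtain ⟨S⟩ : Nonempty (Sylow r R) := inferInstance
  have hSD : (S : Subgroup R) ⊔ D.subgroupOf R = ⊤ := by
    refine Subgroup.index_eq_one.1 (Nat.eq_one_of_dvd_coprimes ?_ (Subgroup.index_dvd_of_le le_sup_left) (Subgroup.index_dvd_of_le le_sup_right))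
    obtain ⟨k, hk⟩ := IsPGroup.iff_card.1 hRr
    have he : (D.subgroupOf R).index = r ^ k := by
      rw [← hk]
      show D.relIndex R = _
      have h1 : (⊥ : Subgroup (H ⧸ D)).comap π = D := by rw [MonoidHom.comap_bot]; exact QuotientGroup.ker_mk' D
      refine (congrArg (fun X : Subgroup H => X.relIndex R) h1.symm).trans ?_
      rw [Subgroup.relIndex_comap, Subgroup.map_comap_eq_self_of_surjective (QuotientGroup.mk'_surjective D), Subgroup.relIndex_bot_left]
    rw [he]
    exact ((hr.coprime_iff_not_dvd.2 S.not_dvd_index).pow_left k).symm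
  set R' : Subgroup G := R.map H.subtype
  set W' : Subgroup G := W ⊓ Subgroup.centralizer (R' : Set G)
  have hlt : Nat.card W' < Nat.card W := by
    refine lt_of_le_of_ne (Subgroup.card_le_of_le inf_le_left) fun e => hRD fun x hx => ?_
    have h1 : W ≤ Subgroup.centralizer (R' : Set G) := (Subgroup.eq_of_le_of_card_ge inf_le_left e.ge).ge.trans inf_le_right
    exact Subgroup.mem_centralizer_iff.2 fun w hw => (Subgroup.mem_centralizer_iff.1 (h1 hw) _ ⟨x, hx, rfl⟩).symm
  have hR'H : R' ≤ H := Subgroup.map_subtype_le R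
  have hinv : H ≤ Subgroup.normalizer (W' : Set G) := by
    have hle : ∀ h ∈ H, ∀ w ∈ W', h * w * h⁻¹ ∈ W' := fun h hh w hw => by
      refine ⟨hnormW h hh w hw.1, Subgroup.mem_centralizer_iff.2 ?_⟩
      rintro _ ⟨x, hx, rfl⟩
      have hx' : (⟨h, hh⟩ : H)⁻¹ * x * ⟨h, hh⟩ ∈ R := by
        simpa using (inferInstance : R.Normal).conj_mem x hx (⟨h, hh⟩ : H)⁻¹
      have := Subgroup.mem_centralizer_iff.1 hw.2 _ ⟨_, hx', rfl⟩
      simp only [Subgroup.coe_subtype, Subgroup.coe_mul, Subgroup.coe_inv] at this ⊢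
      calc (x : G) * (h * w * h⁻¹) = h * ((h⁻¹ * (x : G) * h) * w) * h⁻¹ := by group
        _ = h * (w * (h⁻¹ * (x : G) * h)) * h⁻¹ := by rw [this]
        _ = _ := by group
    intro h hh
    rw [Subgroup.mem_normalizer_iff]
    exact fun w => ⟨hle h hh w, fun hw => by simpa [mul_assoc] using hle _ (inv_mem hh) _ hw⟩
  obtain ⟨l, hl, hlf⟩ := ih _ hlt W' rfl (inf_le_left.trans hWN) hinv
    (le_inf hCW (inf_le_right.trans (Subgroup.centralizer_le (SetLike.coe_subset_coe.2 hR'H))))
  -- fixed points of S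
  set T : Subgroup G := ((S : Subgroup R).map R.subtype).map H.subtype
  have hTH : T ≤ H := Subgroup.map_subtype_le _
  have hT : IsPGroup r T := (S.isPGroup'.map _).map _
  letI : MulAction T W :=
    { smul := fun s w => ⟨s * w * (s : G)⁻¹, hnormW s (hTH s.2) w w.2⟩
      one_smul := fun w => Subtype.ext (show (1 : G) * w * (1 : G)⁻¹ = w by group)
      mul_smul := fun a b w => Subtype.ext (show (a : G) * b * w * ((a : G) * b)⁻¹ = a * (b * w * (b : G)⁻¹) * (a : G)⁻¹ by group) }
  have hfix : Nat.card (MulAction.fixedPoints T W) = Nat.card W' := by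
    refine Nat.card_congr ⟨fun w => ⟨w.1.1, w.1.2, ?_⟩, fun w => ⟨⟨w.1, w.2.1⟩, fun s => ?_⟩, fun w => rfl, fun w => rfl⟩
    · refine Subgroup.mem_centralizer_iff.2 ?_
      rintro _ ⟨x, hx, rfl⟩
      have hle : (⊤ : Subgroup R) ≤ (Subgroup.centralizer {(w.1 : G)}).comap (H.subtype.comp R.subtype) := by
        rw [← hSD]
        refine sup_le (fun s hs => ?_) (fun d hd => ?_)
        · rw [Subgroup.mem_comap, Subgroup.mem_centralizer_singleton_iff]
          have := congrArg Subtype.val (w.2 ⟨_, ⟨_, ⟨s, hs, rfl⟩, rfl⟩⟩)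
          exact mul_inv_eq_iff_eq_mul.1 this
        · rw [Subgroup.mem_comap, Subgroup.mem_centralizer_singleton_iff]
          exact (Subgroup.mem_centralizer_iff.1 hd (w.1 : G) w.1.2).symm
      exact Subgroup.mem_centralizer_singleton_iff.1 (hle (Subgroup.mem_top ⟨x, hx⟩))
    · apply Subtype.ext
      show (s : G) * w.1 * (s : G)⁻¹ = w.1
      obtain ⟨_, ⟨x, -, rfl⟩, e⟩ := s.2
      have := Subgroup.mem_centralizer_iff.1 w.2.2 _ ⟨(x : H), x.2, rfl⟩
      rw [← e]
      exact mul_inv_eq_iff_eq_mul.2 this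
  have hmod : Nat.card W ≡ Nat.card W' [MOD r] := hfix ▸ hT.card_modEq_card_fixedPoints W
  have hrH : r ∣ Nat.card H := by
    obtain ⟨k, hk⟩ := IsPGroup.iff_card.1 hRr
    have hk0 : k ≠ 0 := fun e => hR1 (Subgroup.card_eq_one.1 (by rw [hk, e, pow_zero]))
    exact ((dvd_pow_self r hk0).trans (hk ▸ Subgroup.card_subgroup_dvd_card Rb)).trans (Subgroup.card_quotient_dvd_card D)
  have hW'N : Nat.card W' ∣ Nat.card N := Subgroup.card_dvd_of_le (inf_le_left.trans hWN)
  have hmul : Nat.card W' * W'.relIndex W = Nat.card W := Grp.card_mul_relIndex inf_le_left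
  refine ⟨W'.relIndex W :: l, by rw [List.prod_cons, mul_assoc, hl, mul_comm, hmul], ?_⟩
  intro f hf
  rcases List.mem_cons.1 hf with rfl | hf
  · refine ⟨(Dvd.intro_left _ hmul).trans (Subgroup.card_dvd_of_le hWN), r, hr, hrH, ?_⟩
    refine Nat.ModEq.cancel_left_of_coprime (c := Nat.card W') ?_ (by rw [hmul, mul_one]; exact hmod)
    exact ((hcop.coprime_dvd_left hrH).coprime_dvd_right hW'N)
  · exact hlf f hf

/-- The factors allowed in the product. -/
def Good (G : Type u) [Group G] (m f : ℕ) : Prop :=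
  (∃ q e : ℕ, q.Prime ∧ f = q ^ e) ∧
  (∃ K L : Subgroup G, K.Normal ∧ L.Normal ∧ K < L ∧
    (∀ M : Subgroup G, M.Normal → K ≤ M → M ≤ L → M = K ∨ M = L) ∧ f ∣ K.relIndex L) ∧
  (∃ q : ℕ, q.Prime ∧ q ∣ m ∧ f ≡ 1 [MOD q])

theorem Good.lift {G : Type u} [Group G] {N : Subgroup G} [N.Normal] {m m' f : ℕ} (hm : m' ∣ m)
    (h : Good (G ⧸ N) m' f) : Good G m f := by
  obtain ⟨h1, ⟨K, L, hK, hL, hKL, hmin, hd⟩, q, hq, hqm, hqf⟩ := h
  have hs := QuotientGroup.mk'_surjective N
  refine ⟨h1, ⟨K.comap (QuotientGroup.mk' N), L.comap (QuotientGroup.mk' N), inferInstance, inferInstance,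
    (Subgroup.comap_lt_comap_of_surjective hs).2 hKL, fun M hM hKM hML => ?_, ?_⟩, q, hq, hqm.trans hm, hqf⟩
  · have hNM : N ≤ M := le_trans (fun x hx => by
      show QuotientGroup.mk' N x ∈ K
      rw [show QuotientGroup.mk' N x = 1 from (QuotientGroup.eq_one_iff x).2 hx]
      exact one_mem _) hKM
    have e : (M.map (QuotientGroup.mk' N)).comap (QuotientGroup.mk' N) = M := by
      rw [Subgroup.comap_map_eq, QuotientGroup.ker_mk', sup_eq_left.2 hNM]
    rcases hmin (M.map (QuotientGroup.mk' N)) (hM.map _ hs)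
      (by rw [← Subgroup.map_comap_eq_self_of_surjective hs K]; exact Subgroup.map_mono hKM)
      (Subgroup.map_le_iff_le_comap.2 hML) with e' | e' <;> rw [e'] at e
    exacts [Or.inl e.symm, Or.inr e.symm]
  · rwa [Subgroup.relIndex_comap, Subgroup.map_comap_eq_self_of_surjective hs]

theorem index_normalizer : ∀ (c : ℕ) (G : Type u) [Group G] [Finite G] [Group.IsSolvable G], Nat.card G = c →
    ∀ (m n : ℕ) (H : Subgroup G), Nat.card G = m * n → m.Coprime n → Nat.card H = m →
      ∃ l : List ℕ, (Subgroup.normalizer (H : Set G)).index = l.prod ∧ ∀ f ∈ l, Good G m f := by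
  intro c
  induction c using Nat.strong_induction_on with
  | _ c ih =>
  intro G _ _ _ hc m n H hG hmn hH
  subst hc
  rcases subsingleton_or_nontrivial G with hs | hs
  · exact ⟨[], by rw [List.prod_nil, Subgroup.index_eq_one]; exact Subsingleton.elim _ _, by simp⟩
  obtain ⟨N, hNn, hN1, -, hNmin⟩ := Grp.exists_minimal_normal_le (G := G) (N := ⊤) top_ne_bot
  obtain ⟨q, hq, hNq⟩ := Grp.minimal_normal_solvable_isPGroup inferInstance hN1 hNmin
  haveI := hNn
  haveI := Fact.mk hq
  obtain ⟨e, he⟩ := IsPGroup.iff_card.1 hNq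
  set π := QuotientGroup.mk' N
  have hs := QuotientGroup.mk'_surjective N
  have hHcomap : (H.map π).comap π = H ⊔ N := by rw [Subgroup.comap_map_eq, QuotientGroup.ker_mk']
  have hnorm : (Subgroup.normalizer ((H.map π : Subgroup (G ⧸ N)) : Set (G ⧸ N))).index =
      (Subgroup.normalizer ((H ⊔ N : Subgroup G) : Set G)).index := by
    rw [← Subgroup.index_comap_of_surjective _ hs, ← hHcomap]
    congr 1
    exact Subgroup.comap_normalizer_eq_of_surjective _ hs
  have hNG : N.index * Nat.card N = m * n := by rw [Subgroup.index_mul_card, hG]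
  have hker : Nat.card (H.map π) * Nat.card ↥(H ⊓ N) = Nat.card H := by
    have h1 : Nat.card ↥(H ⊔ N) = Nat.card (H.map π) * Nat.card N := by
      rw [← Grp.card_mul_relIndex (le_sup_right : N ≤ H ⊔ N), mul_comm]
      congr 1
      have h2 : (⊥ : Subgroup (G ⧸ N)).comap π = N := by rw [MonoidHom.comap_bot]; exact QuotientGroup.ker_mk' N
      refine (congrArg (fun X : Subgroup G => X.relIndex (H ⊔ N)) h2.symm).trans ?_
      rw [Subgroup.relIndex_comap, Subgroup.relIndex_bot_left, Subgroup.map_sup,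
        (Subgroup.map_eq_bot_iff N).2 (le_of_eq (QuotientGroup.ker_mk' N).symm), sup_bot_eq]
    have h3 := Grp.card_sup_mul_card_inf_normal (H := H) (N := N)
    rw [h1] at h3
    refine Nat.eq_of_mul_eq_mul_right (Nat.card_pos (α := N)) ?_
    rw [← h3]; ring
  by_cases hqm : q ∣ m
  · -- N lies in H
    have hNH : N ≤ H := by
      obtain ⟨g, hg⟩ := Grp.exists_conj_le_hall hG hmn hH (K := N)
        (by rw [he]; exact (hmn.coprime_dvd_left hqm).pow_left e)
      intro x hx
      have h1 : g * x * g⁻¹ ∈ MulAut.conj g • H := hg (hNn.conj_mem x hx g)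
      rwa [Subgroup.mem_pointwise_smul_iff_inv_smul_mem, MulAut.smul_def, MulAut.conj_inv_apply,
        show g⁻¹ * (g * x * g⁻¹) * g = x by group] at h1
    rw [inf_eq_right.2 hNH] at hker
    obtain ⟨l, hl, hlf⟩ := ih N.index (Grp.card_quotient_lt hN1) (G ⧸ N) rfl (Nat.card (H.map π)) n (H.map π)
      (by
        refine Nat.eq_of_mul_eq_mul_right (Nat.card_pos (α := N)) ?_
        show N.index * _ = _
        rw [hNG, mul_right_comm, hker, hH])
      (hmn.coprime_dvd_left (hH ▸ Dvd.intro _ hker)) rfl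
    refine ⟨l, ?_, fun f hf => Good.lift (hH ▸ Dvd.intro _ hker) (hlf f hf)⟩
    rw [← hl, hnorm, sup_eq_left.2 hNH]
  have hcop : (Nat.card H).Coprime (Nat.card N) := by
    rw [hH, he]; exact ((hq.coprime_iff_not_dvd.2 hqm).pow_left e).symm
  have hinf : H ⊓ N = ⊥ := Grp.inf_eq_bot_of_coprime hcop
  rw [hinf, Subgroup.card_bot, mul_one, hH] at hker
  obtain ⟨n', hn'⟩ : Nat.card N ∣ n :=
    (hH ▸ hcop.symm).dvd_of_dvd_mul_left ⟨N.index, by rw [mul_comm _ N.index, hNG]⟩
  obtain ⟨l, hl, hlf⟩ := ih N.index (Grp.card_quotient_lt hN1) (G ⧸ N) rfl m n' (H.map π)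
    (by
      refine Nat.eq_of_mul_eq_mul_right (Nat.card_pos (α := N)) ?_
      show N.index * _ = _
      rw [hNG, hn']; ring)
    (hmn.coprime_dvd_right ⟨_, hn'.trans (mul_comm _ _)⟩) hker
  set A := Subgroup.normalizer (H : Set G)
  have hHN : H ≤ Subgroup.normalizer (N : Set G) := by rw [Subgroup.normalizer_eq_top]; exact le_top
  have hfr : Subgroup.normalizer ((H ⊔ N : Subgroup G) : Set G) = A ⊔ N := by
    refine le_antisymm (fun g hg => ?_) (sup_le (fun g hg => ?_) (le_sup_right.trans Subgroup.le_normalizer))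
    · have hle : MulAut.conj g • H ≤ N ⊔ H := by
        rw [sup_comm, ← Grp.mem_normalizer_iff_smul.1 hg]
        exact Subgroup.pointwise_smul_le_pointwise_smul_iff.2 le_sup_left
      obtain ⟨x, hx, hxe⟩ := Grp.exists_conj_of_le_sup hHN hle (Grp.card_conj_smul g H) hcop.symm (Or.inl (inferInstance))
      have hA : x⁻¹ * g ∈ A := Grp.mem_normalizer_iff_smul.2 (by
        rw [← Grp.conj_smul_conj_smul, ← hxe, Grp.conj_smul_conj_smul, inv_mul_cancel, map_one, one_smul])
      have : x * (x⁻¹ * g) ∈ A ⊔ N := mul_mem (Subgroup.mem_sup_right hx) (Subgroup.mem_sup_left hA)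
      rwa [mul_inv_cancel_left] at this
    · rw [Grp.mem_normalizer_iff_smul, Subgroup.smul_sup, Grp.mem_normalizer_iff_smul.1 hg,
        Grp.mem_normalizer_iff_smul.1 (show g ∈ Subgroup.normalizer (N : Set G) by rw [Subgroup.normalizer_eq_top]; trivial)]
  have hAN : A ⊓ N = N ⊓ Subgroup.centralizer (H : Set G) := by
    refine le_antisymm ?_ (fun x hx => ⟨Subgroup.centralizer_le_normalizer _ hx.2, hx.1⟩)
    intro x hx
    refine ⟨hx.2, ?_⟩
    apply Subgroup.mem_centralizer_iff.2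
    intro h hh
    have h1 : x * h * x⁻¹ * h⁻¹ ∈ H ⊓ N := ⟨H.mul_mem ((Subgroup.mem_normalizer_iff.1 hx.1 h).1 hh) (H.inv_mem hh), by
      rw [mul_assoc x h, mul_assoc x]
      exact N.mul_mem hx.2 (hNn.conj_mem _ (N.inv_mem hx.2) h)⟩
    rw [hinf, Subgroup.mem_bot, mul_inv_eq_one, mul_inv_eq_iff_eq_mul] at h1
    exact h1.symm
  haveI : Group.IsSolvable H := inferInstance
  obtain ⟨l', hl', hlf'⟩ := core (N := N) (H := H) inferInstance hcop _ N rfl le_rfl hHN inf_le_left
  refine ⟨l' ++ l, ?_, ?_⟩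
  · have h1 : A.relIndex N = l'.prod := by
      have := Grp.relIndex_mul_card_inf N A
      rw [inf_comm, hAN, ← hl', mul_comm] at this
      exact Nat.eq_of_mul_eq_mul_right Nat.card_pos this
    have h2 : A.relIndex (A ⊔ N) = A.relIndex N := by
      refine Nat.eq_of_mul_eq_mul_left (Nat.card_pos (α := A)) ?_
      have e1 := Grp.card_sup_mul_card_inf_normal (H := A) (N := N)
      have e2 := Grp.relIndex_mul_card_inf N A
      rw [inf_comm] at e2
      have e3 := Grp.card_mul_relIndex (le_sup_left : A ≤ A ⊔ N)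
      rw [e3]
      refine Nat.eq_of_mul_eq_mul_right (Nat.card_pos (α := ↥(A ⊓ N))) ?_
      rw [e1, mul_assoc, mul_comm (A.relIndex N), e2]
    rw [← Subgroup.relIndex_mul_index (le_sup_left : A ≤ A ⊔ N), h2, h1, ← hfr, ← hnorm, hl, List.prod_append]
  · intro f hf
    rcases List.mem_append.1 hf with hf | hf
    · obtain ⟨hd, r, hr, hrH, hfr'⟩ := hlf' f hf
      refine ⟨?_, ⟨⊥, N, inferInstance, hNn, bot_lt_iff_ne_bot.2 hN1, fun M hM _ hMN => hNmin M hM hMN, ?_⟩, r, hr, hH ▸ hrH, hfr'⟩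
      · obtain ⟨i, -, hi⟩ := (Nat.dvd_prime_pow hq).1 (he ▸ hd)
        exact ⟨q, i, hq, hi⟩
      · rwa [Subgroup.relIndex_bot_left]
    · exact Good.lift dvd_rfl (hlf f hf)

/-- Let `G` be a finite solvable group of order `mn` with `gcd(m, n) = 1`. Then the number of subgroups of order `m` is a product of natural numbers each of which is a power of a prime, divides the order of some chief factor of `G` (a quotient `L/K` of normal subgroups `K < L` of `G` with no normal subgroup of `G` strictly between them), and is congruent to `1` modulo some prime divisor of `m`. -/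
theorem result {G : Type*} [Group G] [Finite G] [Group.IsSolvable G] (m n : ℕ) (hG : Nat.card G = m * n) (hmn : Nat.Coprime m n) : ∃ (k : ℕ) (f : Fin k → ℕ), Nat.card {H : Subgroup G // Nat.card H = m} = ∏ i, f i ∧ ∀ i, (∃ q e : ℕ, q.Prime ∧ f i = q ^ e) ∧ (∃ K L : Subgroup G, K.Normal ∧ L.Normal ∧ K < L ∧ (∀ M : Subgroup G, M.Normal → K ≤ M → M ≤ L → M = K ∨ M = L) ∧ f i ∣ K.relIndex L) ∧ (∃ q : ℕ, q.Prime ∧ q ∣ m ∧ f i ≡ 1 [MOD q]) := by

  obtain ⟨H, hH⟩ := Grp.exists_hall hG hmn
  obtain ⟨l, hl, hlf⟩ := index_normalizer _ G rfl m n H hG hmn hH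
  refine ⟨l.length, fun i => l.get i, ?_, fun i => hlf _ (List.get_mem l i)⟩
  rw [← List.prod_ofFn, List.ofFn_get, ← hl]
  letI : MulAction G (Subgroup G) := MulAction.compHom (Subgroup G) (MulAut.conj : G →* MulAut G)
  have hst : MulAction.stabilizer G H = Subgroup.normalizer (H : Set G) := by
    ext g
    rw [MulAction.mem_stabilizer_iff, Grp.mem_normalizer_iff_smul]
    exact Iff.rfl
  rw [← hst, MulAction.index_stabilizer]
  refine Nat.card_congr (Equiv.subtypeEquivRight fun K => ?_)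
  constructor
  · intro hK
    obtain ⟨g, hg⟩ := Grp.hall_conj hG hmn hH hK
    exact ⟨g, hg⟩
  · rintro ⟨g, rfl⟩
    show Nat.card ↥(MulAut.conj g • H) = m
    rw [Grp.card_conj_smul, hH]

end Cfsg.Agent.S4214
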