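import Cfsg.Statements.S4216
import Cfsg.Agent.Lib.Invol.Transfer2

set_option maxHeartbeats 1000000
set_option maxRecDepth 8000

set_option autoImplicit false
open Cfsg
open scoped commutatorElement

namespace Cfsg.Agent.S4216

/-- A subgroup containing the derived subgroup of `P` gives a commutative quotient. -/
theorem exists_quotientHom {G : Type*} [Group G] {P R : Subgroup G} (hRP : R ≤ P) (hR : ⁅P, P⁆ ≤ R) :
    (R.subgroupOf P).Normal ∧ ∀ a b : P, a * b * a⁻¹ * b⁻¹ ∈ R.subgroupOf P := by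
  have h : ∀ a b : P, a * b * a⁻¹ * b⁻¹ ∈ R.subgroupOf P := fun a b =>
    hR (Subgroup.commutator_mem_commutator a.2 b.2)
  refine ⟨⟨fun n hn g => ?_⟩, h⟩
  have := mul_mem (h g n) hn
  rwa [inv_mul_cancel_right] at this

/-- Grün's first Theorem: if `P` is a Sylow `p`-subgroup of the finite group `G`, then `P ∩ G'` is the subgroup generated by `P ∩ N_G(P)'` together with the subgroups `P ∩ z P' z⁻¹` for all `z ∈ G`, where `'` denotes the derived subgroup and `N_G(P)` the normalizer of `P`. -/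
theorem result {G : Type*} [Group G] [Finite G] {p : ℕ} [Fact p.Prime] (P : Sylow p G) : (P : Subgroup G) ⊓ commutator G = ((P : Subgroup G) ⊓ ⁅Subgroup.normalizer ((P : Subgroup G) : Set G), Subgroup.normalizer ((P : Subgroup G) : Set G)⁆) ⊔ ⨆ z : G, (P : Subgroup G) ⊓ (⁅(P : Subgroup G), (P : Subgroup G)⁆).map (MulAut.conj z).toMonoidHom := by

  classical
  have hp := (Fact.out : p.Prime)
  set N := Subgroup.normalizer ((P : Subgroup G) : Set G) with hN
  set R := ((P : Subgroup G) ⊓ ⁅N, N⁆) ⊔ ⨆ z : G, (P : Subgroup G) ⊓ (⁅(P : Subgroup G), (P : Subgroup G)⁆).map (MulAut.conj z).toMonoidHom with hR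
  have hRP : R ≤ (P : Subgroup G) := sup_le inf_le_left (iSup_le fun z => inf_le_left)
  have hconjR : ∀ z c : G, c ∈ ⁅(P : Subgroup G), (P : Subgroup G)⁆ → z * c * z⁻¹ ∈ (P : Subgroup G) → z * c * z⁻¹ ∈ R :=
    fun z c hc hz => Subgroup.mem_sup_right (Subgroup.mem_iSup_of_mem z ⟨hz, ⟨c, hc, rfl⟩⟩)
  have hPR : ⁅(P : Subgroup G), (P : Subgroup G)⁆ ≤ R := fun c hc => by
    have h := hconjR 1 c hc (by simpa using (Subgroup.commutator_le_self _ hc))
    simpa using h
  refine le_antisymm ?_ (sup_le ?_ (iSup_le fun z => ?_))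
  rotate_left
  · exact inf_le_inf_left _ (Subgroup.commutator_mono le_top le_top)
  · refine inf_le_inf_left _ ?_
    rintro _ ⟨c, hc, rfl⟩
    exact (inferInstance : (commutator G).Normal).conj_mem _ (Subgroup.commutator_mono le_top le_top hc) z
  -- a counterexample of least order
  by_contra hnot
  have hexn : ∃ m, ∃ x ∈ (P : Subgroup G) ⊓ commutator G, x ∉ R ∧ orderOf x = m := by
    obtain ⟨x, hx, hxR⟩ := SetLike.not_le_iff_exists.1 hnot
    exact ⟨_, x, hx, hxR, rfl⟩
  obtain ⟨x, ⟨hxP, hxG⟩, hxR, hxord⟩ := Nat.find_spec hexn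
  have hmin : ∀ w ∈ (P : Subgroup G), w ∈ commutator G → orderOf w < orderOf x → w ∈ R := fun w h1 h2 h3 => by
    by_contra h4
    exact Nat.find_min hexn (hxord ▸ h3) ⟨w, ⟨h1, h2⟩, h4, rfl⟩
  obtain ⟨hRn, hRc⟩ := exists_quotientHom hRP hPR
  haveI := hRn
  letI : CommGroup ((P : Subgroup G) ⧸ R.subgroupOf (P : Subgroup G)) :=
    { (inferInstance : Group ((P : Subgroup G) ⧸ R.subgroupOf (P : Subgroup G))) with
      mul_comm := fun a b => by
        obtain ⟨a, rfl⟩ := QuotientGroup.mk_surjective a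
        obtain ⟨b, rfl⟩ := QuotientGroup.mk_surjective b
        rw [← QuotientGroup.mk_mul, ← QuotientGroup.mk_mul]
        exact (QuotientGroup.eq).2 (by have := hRc b⁻¹ a⁻¹; simpa [mul_assoc] using this) }
  set φ : (P : Subgroup G) →* (P : Subgroup G) ⧸ R.subgroupOf (P : Subgroup G) := QuotientGroup.mk' (R.subgroupOf (P : Subgroup G)) with hφ
  have hφ1 : ∀ (w : G) (h : w ∈ (P : Subgroup G)), w ∈ R → φ ⟨w, h⟩ = 1 := fun w h hw =>
    (QuotientGroup.eq_one_iff _).2 (Subgroup.mem_subgroupOf.2 hw)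
  have htr : MonoidHom.transfer φ x = 1 :=
    MonoidHom.mem_ker.1 (Abelianization.commutator_subset_ker _ hxG)
  haveI : Fintype (G ⧸ (P : Subgroup G)) := Fintype.ofFinite _
  -- only the fixed cosets count
  let f : G ⧸ (P : Subgroup G) → (P : Subgroup G) ⧸ R.subgroupOf (P : Subgroup G) := fun q =>
    if h : q.out⁻¹ * x * q.out ∈ (P : Subgroup G) then φ ⟨_, h⟩ else 1
  have hfixiff : ∀ q : G ⧸ (P : Subgroup G), x • q = q ↔ q.out⁻¹ * x * q.out ∈ (P : Subgroup G) := fun q => by
    rw [← Cfsg.Agent.Invol.smul_mk_eq_iff, QuotientGroup.out_eq']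
  have hfneq : ∀ q : G ⧸ (P : Subgroup G), x • q ≠ q → f q = 1 := fun q hq =>
    dif_neg fun h => hq ((hfixiff q).2 h)
  haveI := Fintype.ofFinite (Quotient (MulAction.orbitRel (Subgroup.zpowers x) (G ⧸ (P : Subgroup G))))
  have htf : MonoidHom.transfer φ x = ∏ q, f q := by
    rw [MonoidHom.transfer_eq_prod_quotient_orbitRel_zpowers_quot, ← Fintype.prod_fiberwise
      (fun q : G ⧸ (P : Subgroup G) => Quotient.mk (MulAction.orbitRel (Subgroup.zpowers x) (G ⧸ (P : Subgroup G))) q) f]
    refine Finset.prod_congr rfl fun o _ => ?_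
    have ho : Quotient.mk (MulAction.orbitRel (Subgroup.zpowers x) (G ⧸ (P : Subgroup G))) o.out = o := Quotient.out_eq o
    by_cases hfix : x • o.out = o.out
    · have hk : Function.minimalPeriod (x • ·) o.out = 1 := Function.minimalPeriod_eq_one_iff_isFixedPt.2 hfix
      haveI : Subsingleton {q : G ⧸ (P : Subgroup G) // Quotient.mk (MulAction.orbitRel (Subgroup.zpowers x) (G ⧸ (P : Subgroup G))) q = o} := ⟨fun a b => by
        have key : ∀ c : {q : G ⧸ (P : Subgroup G) // Quotient.mk (MulAction.orbitRel (Subgroup.zpowers x) (G ⧸ (P : Subgroup G))) q = o}, c.1 = o.out := fun c => by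
          obtain ⟨⟨_, n, rfl⟩, hn⟩ := MulAction.orbitRel_apply.1 (Quotient.exact (c.2.trans ho.symm))
          rw [← hn]
          exact MulAction.mem_fixedBy.mp (MulAction.mem_fixedBy_zpowers_iff_mem_fixedBy.mpr (MulAction.mem_fixedBy.mpr hfix) n)
        exact Subtype.ext ((key a).trans (key b).symm)⟩
      rw [Fintype.prod_subsingleton _ ⟨o.out, ho⟩]
      have h := (hfixiff _).1 hfix
      simp only [f, dif_pos h]
      congr 1
      exact Subtype.ext (by simp only [hk, pow_one])
    · have hR1 : ∀ c : {q : G ⧸ (P : Subgroup G) // Quotient.mk (MulAction.orbitRel (Subgroup.zpowers x) (G ⧸ (P : Subgroup G))) q = o}, f c.1 = 1 := fun c => by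
        refine hfneq _ fun hc => hfix ?_
        obtain ⟨⟨_, n, rfl⟩, hn⟩ := MulAction.orbitRel_apply.1 (Quotient.exact (ho.trans c.2.symm))
        have h1 : (x ^ n) • c.1 = c.1 :=
          MulAction.mem_fixedBy.mp (MulAction.mem_fixedBy_zpowers_iff_mem_fixedBy.mpr (MulAction.mem_fixedBy.mpr hc) n)
        rw [show o.out = c.1 from hn.symm.trans h1]
        exact hc
      rw [Finset.prod_eq_one fun c _ => hR1 c]
      refine hφ1 _ _ (hmin _ (QuotientGroup.out_conj_pow_minimalPeriod_mem _ x o.out) ?_ ?_)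
      · have := (inferInstance : (commutator G).Normal).conj_mem _ (pow_mem hxG (Function.minimalPeriod (x • ·) o.out)) o.out.out⁻¹
        simpa using this
      · set k := Function.minimalPeriod (x • ·) o.out
        have hk1 : k ≠ 1 := fun h => hfix (Function.minimalPeriod_eq_one_iff_isFixedPt.1 h)
        have hper : Function.IsPeriodicPt (x • ·) (orderOf x) o.out := by
          show (x • ·)^[orderOf x] o.out = o.out
          simp [smul_iterate, pow_orderOf_eq_one]
        have hkd : k ∣ orderOf x := hper.minimalPeriod_dvd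
        have hk0 : 0 < k := Nat.pos_of_dvd_of_pos hkd (orderOf_pos x)
        have hord : orderOf (o.out.out⁻¹ * x ^ k * o.out.out) = orderOf (x ^ k) := by
          have := orderOf_injective (MulAut.conj o.out.out⁻¹).toMonoidHom (MulEquiv.injective _) (x ^ k)
          simpa using this
        rw [hord, orderOf_pow' x hk0.ne', Nat.gcd_eq_right hkd]
        exact Nat.div_lt_self (orderOf_pos x) (by omega)
  rw [htr] at htf
  -- value at a fixed point only depends on the orbit of `P`
  have hsame : ∀ (q : G ⧸ (P : Subgroup G)) (u : G), u ∈ (P : Subgroup G) → x • q = q → x • u • q = u • q →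
      f (u • q) = f q := by
    intro q u hu h1 h2
    have e1 := (hfixiff _).1 h1
    have e2 := (hfixiff _).1 h2
    obtain ⟨w, hw⟩ := QuotientGroup.mk_out_eq_mul (P : Subgroup G) (u * q.out)
    have hout : (u • q).out = u * q.out * w := by
      rw [← hw, ← smul_eq_mul, ← MulAction.Quotient.smul_mk, QuotientGroup.out_eq']
    simp only [f, dif_pos e1, dif_pos e2]
    set c := x⁻¹ * u⁻¹ * x * u with hc
    have hcP : c ∈ ⁅(P : Subgroup G), (P : Subgroup G)⁆ := by
      have := Subgroup.commutator_mem_commutator (inv_mem hxP) (inv_mem hu)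
      simpa [hc, commutatorElement_def] using this
    have e3 : (w : G) * ((u • q).out⁻¹ * x * (u • q).out) * (w : G)⁻¹ = (q.out⁻¹ * x * q.out) * (q.out⁻¹ * c * q.out) := by
      rw [hout, hc]; group
    have e4 : q.out⁻¹ * c * q.out ∈ (P : Subgroup G) := by
      have := mul_mem (inv_mem e1) (e3 ▸ mul_mem (mul_mem w.2 e2) (inv_mem w.2))
      rwa [inv_mul_cancel_left] at this
    have e5 : φ ⟨_, e4⟩ = 1 := hφ1 _ _ (by
      have := hconjR q.out⁻¹ c hcP (by simpa using e4)
      simpa using this)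
    have e6 : w * ⟨_, e2⟩ * w⁻¹ = (⟨_, e1⟩ * ⟨_, e4⟩ : (P : Subgroup G)) := Subtype.ext e3
    have e7 := congrArg φ e6
    rw [map_mul, map_mul, map_inv, map_mul, e5, mul_one, mul_comm (φ w), mul_inv_cancel_right] at e7
    exact e7
  -- grouping by orbits of `P`
  have hPinv : ∀ q : G ⧸ (P : Subgroup G), ∀ r ∈ (P : Subgroup G), Quotient.mk (MulAction.orbitRel (P : Subgroup G) (G ⧸ (P : Subgroup G))) (r • q) = Quotient.mk _ q :=
    fun q r hr => Quotient.sound (MulAction.orbitRel_apply.2 ⟨⟨r, hr⟩, rfl⟩)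
  haveI := Fintype.ofFinite (Quotient (MulAction.orbitRel (P : Subgroup G) (G ⧸ (P : Subgroup G))))
  set xb := φ ⟨x, hxP⟩ with hxb
  let isFix : G ⧸ (P : Subgroup G) → Prop := fun q => ∀ r ∈ (P : Subgroup G), r • q = q
  have hfixval : ∀ q, isFix q → f q = xb := by
    intro q hq
    have h1 := (hfixiff q).1 (hq x hxP)
    simp only [f, dif_pos h1, hxb, hφ]
    refine QuotientGroup.eq.2 (Subgroup.mem_subgroupOf.2 ?_)
    have hn : q.out ∈ N := by
      have key : ∀ r ∈ (P : Subgroup G), q.out⁻¹ * r * q.out ∈ (P : Subgroup G) := fun r hr => by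
        rw [← Cfsg.Agent.Invol.smul_mk_eq_iff, QuotientGroup.out_eq', hq r hr]
      refine (Subgroup.inv_mem_iff N).1 ?_
      rw [hN, Subgroup.mem_normalizer_iff_map_conj_eq]
      refine Subgroup.eq_of_le_of_card_ge ?_ (Subgroup.card_map_of_injective (MulEquiv.injective _)).ge
      rintro _ ⟨r, hr, rfl⟩
      simpa using key r hr
    refine Subgroup.mem_sup_left ⟨(P : Subgroup G).mul_mem ((P : Subgroup G).inv_mem h1) hxP, ?_⟩
    show (q.out⁻¹ * x * q.out)⁻¹ * x ∈ ⁅N, N⁆
    have := Subgroup.commutator_mem_commutator (inv_mem hn) (inv_mem (show x ∈ N from Subgroup.le_normalizer hxP))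
    simpa [commutatorElement_def, mul_assoc] using this
  have horbit : ∀ O : Quotient (MulAction.orbitRel (P : Subgroup G) (G ⧸ (P : Subgroup G))),
      (∏ c : {q // Quotient.mk (MulAction.orbitRel (P : Subgroup G) (G ⧸ (P : Subgroup G))) q = O}, f c.1) =
      ∏ c : {q // Quotient.mk (MulAction.orbitRel (P : Subgroup G) (G ⧸ (P : Subgroup G))) q = O},
        if isFix c.1 then xb else 1 := by
    intro O
    set S := {q // Quotient.mk (MulAction.orbitRel (P : Subgroup G) (G ⧸ (P : Subgroup G))) q = O}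
    obtain ⟨a, rfl⟩ := Quotient.exists_rep O
    have horb : ∀ c : S, ∃ u ∈ (P : Subgroup G), u • a = c.1 := fun c => by
      obtain ⟨⟨u, hu⟩, h⟩ := MulAction.orbitRel_apply.1 (Quotient.exact c.2)
      exact ⟨u, hu, h⟩
    by_cases ha : isFix a
    · refine Finset.prod_congr rfl fun c _ => ?_
      obtain ⟨u, hu, hc⟩ := horb c
      rw [ha u hu] at hc
      rw [← hc, if_pos ha, hfixval a ha]
    · have hno : ∀ c : S, ¬ isFix c.1 := fun c hc => ha (by
        obtain ⟨u, hu, h⟩ := horb c
        have h1 := hc u⁻¹ (inv_mem hu)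
        nth_rewrite 1 [← h] at h1
        rw [inv_smul_smul] at h1
        intro r hr
        have h2 := hc r hr
        rwa [← h1] at h2)
      rw [Finset.prod_eq_one (fun c (_ : c ∈ Finset.univ) => if_neg (hno c))]
      -- the number of `x`-fixed points in the orbit is divisible by `p`
      set T := Finset.univ.filter fun c : S => x • c.1 = c.1 with hT
      have hprod : ∏ c : S, f c.1 = ∏ c ∈ T, f c.1 := (Finset.prod_filter_of_ne fun c _ hc => by
        by_contra hh; exact hc (hfneq _ hh)).symm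
      rw [hprod]
      rcases T.eq_empty_or_nonempty with hem | ⟨c0, hc0⟩
      · rw [hem, Finset.prod_empty]
      have hc0' : x • c0.1 = c0.1 := (Finset.mem_filter.1 hc0).2
      rw [Finset.prod_congr rfl (g := fun _ => f c0.1) (fun c hc => ?_), Finset.prod_const]
      swap
      · obtain ⟨u, hu, h⟩ := horb c
        obtain ⟨u0, hu0, h0⟩ := horb c0
        have h1 : c.1 = (u * u0⁻¹) • c0.1 := by rw [mul_smul, ← h0, inv_smul_smul, h]
        rw [h1]
        refine hsame _ _ (mul_mem hu (inv_mem hu0)) hc0' ?_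
        rw [← h1]
        exact (Finset.mem_filter.1 hc).2
      have hcardS : p ∣ Nat.card S := by
        obtain ⟨j, hj⟩ := (P.isPGroup').card_orbit (α := G ⧸ (P : Subgroup G)) a
        have e : Nat.card S = Nat.card (MulAction.orbit (P : Subgroup G) a) :=
          Nat.card_congr (Equiv.subtypeEquivRight fun q => Quotient.eq.trans MulAction.orbitRel_apply)
        rw [e, hj]
        refine dvd_pow_self p fun hj0 => ha fun r hr => ?_
        rw [hj0, pow_zero] at hj
        haveI := (Nat.card_eq_one_iff_unique.1 hj).1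
        exact congrArg Subtype.val (Subsingleton.elim (⟨r • a, ⟨⟨r, hr⟩, rfl⟩⟩ : MulAction.orbit (P : Subgroup G) a) ⟨a, MulAction.mem_orbit_self a⟩)
      have hmod := Cfsg.Agent.Invol.card_invariant_modEq (p := p) (P.isPGroup'.to_le (Subgroup.zpowers_le.2 hxP))
        (fun q : G ⧸ (P : Subgroup G) => Quotient.mk (MulAction.orbitRel (P : Subgroup G) (G ⧸ (P : Subgroup G))) q = Quotient.mk _ a)
        (fun r hr q hq => (hPinv q r (Subgroup.zpowers_le.2 hxP hr)).trans hq)
      have hTcard : T.card = Nat.card {q : G ⧸ (P : Subgroup G) //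
          Quotient.mk (MulAction.orbitRel (P : Subgroup G) (G ⧸ (P : Subgroup G))) q = Quotient.mk _ a ∧ ∀ r ∈ Subgroup.zpowers x, r • q = q} := by
        rw [hT, ← Fintype.card_subtype, ← Nat.card_eq_fintype_card]
        refine Nat.card_congr
          { toFun := fun c => ⟨c.1.1, c.1.2, fun r hr => ?_⟩
            invFun := fun q => ⟨⟨q.1, q.2.1⟩, q.2.2 x (Subgroup.mem_zpowers x)⟩
            left_inv := fun c => rfl
            right_inv := fun q => rfl }
        obtain ⟨n, rfl⟩ := Subgroup.mem_zpowers_iff.1 hr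
        exact MulAction.mem_fixedBy.mp (MulAction.mem_fixedBy_zpowers_iff_mem_fixedBy.mpr (MulAction.mem_fixedBy.mpr c.2) n)
      rw [← hTcard] at hmod
      obtain ⟨m, hm⟩ : p ∣ T.card := (Nat.ModEq.dvd_iff hmod dvd_rfl).1 hcardS
      rw [hm, pow_mul]
      suffices h0 : f c0.1 ^ p = 1 by rw [h0, one_pow]
      have e1 := (hfixiff _).1 hc0'
      simp only [f, dif_pos e1]
      rw [← map_pow]
      refine hφ1 _ _ ?_
      set w := c0.1.out⁻¹ * x * c0.1.out
      have hwG : w ∈ commutator G := by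
        simpa [w] using (inferInstance : (commutator G).Normal).conj_mem _ hxG c0.1.out⁻¹
      have hw : orderOf w = orderOf x := by
        simpa [w] using orderOf_injective (MulAut.conj c0.1.out⁻¹).toMonoidHom (MulEquiv.injective _) x
      refine hmin _ (pow_mem e1 p) (pow_mem hwG p) ?_
      obtain ⟨m', hm'⟩ := IsPGroup.exists_orderOf_eq_pow P.isPGroup' (⟨x, hxP⟩ : (P : Subgroup G))
      rw [Subgroup.orderOf_mk] at hm'
      have hm0 : m' ≠ 0 := fun h0 => hxR (by rw [h0, pow_zero, orderOf_eq_one_iff] at hm'; rw [hm']; exact one_mem _)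
      rw [orderOf_pow' w hp.ne_zero, hw, Nat.gcd_eq_right (hm' ▸ dvd_pow_self p hm0)]
      exact Nat.div_lt_self (orderOf_pos x) hp.one_lt
  have hsum : ∏ q, f q = ∏ q : G ⧸ (P : Subgroup G), if isFix q then xb else 1 := by
    rw [← Fintype.prod_fiberwise (fun q => Quotient.mk (MulAction.orbitRel (P : Subgroup G) (G ⧸ (P : Subgroup G))) q) f,
      ← Fintype.prod_fiberwise (fun q => Quotient.mk (MulAction.orbitRel (P : Subgroup G) (G ⧸ (P : Subgroup G))) q) (fun q => if isFix q then xb else 1)]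
    exact Finset.prod_congr rfl fun O _ => horbit O
  rw [hsum, ← Finset.prod_filter, Finset.prod_const] at htf
  have hcop : Nat.Coprime (Finset.univ.filter fun q => isFix q).card p := by
    have h := Cfsg.Agent.Invol.card_invariant_modEq (p := p) P.isPGroup' (fun _ : G ⧸ (P : Subgroup G) => True) (fun _ _ _ _ => trivial)
    rw [Nat.card_congr (Equiv.subtypeUnivEquiv fun _ => trivial)] at h
    rw [Nat.coprime_comm, hp.coprime_iff_not_dvd, ← Fintype.card_subtype, ← Nat.card_eq_fintype_card]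
    intro hd
    apply P.not_dvd_index
    rw [Subgroup.index_eq_card]
    refine (Nat.ModEq.dvd_iff h dvd_rfl).2 ?_
    rwa [Nat.card_congr (Equiv.subtypeEquivRight (q := isFix) fun q => Iff.intro (fun h => h.2) (fun h => ⟨trivial, h⟩))]
  apply hxR
  have hxb1 : xb = 1 := by
    obtain ⟨m', hm'⟩ := IsPGroup.exists_orderOf_eq_pow P.isPGroup' (⟨x, hxP⟩ : (P : Subgroup G))
    have h2 : xb ^ p ^ m' = 1 := by rw [hxb, ← map_pow, ← hm', pow_orderOf_eq_one, map_one]
    have h3 := pow_gcd_eq_one.2 ⟨htf.symm, h2⟩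
    rwa [Nat.Coprime.gcd_eq_one (hcop.pow_right m'), pow_one] at h3
  exact Subgroup.mem_subgroupOf.1 ((QuotientGroup.eq_one_iff _).1 hxb1)

end Cfsg.Agent.S4216
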