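import Cfsg.Statements.S4217
import Mathlib
import Cfsg.Agent.S0051

set_option maxHeartbeats 1000000
set_option maxRecDepth 8000

set_option autoImplicit false
open Cfsg

namespace Cfsg.Agent.S4217

universe u

/-- Local splitting at every prime. -/
def Split {G : Type u} [Group G] (A : Subgroup G) : Prop :=
  ∀ p : ℕ, p.Prime → ∃ K : Subgroup G, K ⊓ A = ⊥ ∧ ¬ p ∣ (K ⊔ A).index

theorem Split.map {G : Type u} [Group G] {A B : Subgroup G} [B.Normal] (h : Split A) (hB : B ≤ A) :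
    Split (A.map (QuotientGroup.mk' B)) := by
  intro p hp
  obtain ⟨K, hK, hi⟩ := h p hp
  refine ⟨K.map (QuotientGroup.mk' B), ?_, ?_⟩
  · rw [eq_bot_iff]
    rintro _ ⟨⟨k, hk, rfl⟩, a, ha, he⟩
    have hka : k ∈ A := by
      have h1 : a⁻¹ * k ∈ B := QuotientGroup.eq.1 he
      simpa using mul_mem ha (hB h1)
    have : k = 1 := Subgroup.mem_bot.1 (hK ▸ ⟨hk, hka⟩)
    simp [this]
  · rw [← Subgroup.map_sup, Subgroup.index_map_eq _ (QuotientGroup.mk'_surjective B)
      (by rw [QuotientGroup.ker_mk']; exact hB.trans le_sup_right)]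
    exact hi

theorem lift {G : Type u} [Group G] [Finite G] {A B : Subgroup G} [A.Normal] [B.Normal] (hB : B ≤ A)
    (h : ∃ K : Subgroup (G ⧸ B), K.IsComplement' (A.map (QuotientGroup.mk' B))) :
    ∃ L : Subgroup G, L ⊓ A ≤ B ∧ L.index * Nat.card B = Nat.card A := by
  obtain ⟨K, hK⟩ := h
  refine ⟨K.comap (QuotientGroup.mk' B), fun x hx => ?_, ?_⟩
  · have : QuotientGroup.mk' B x = 1 :=
      Subgroup.disjoint_def.1 hK.disjoint hx.1 ⟨x, hx.2, rfl⟩
    exact (QuotientGroup.eq_one_iff x).1 this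
  · rw [Subgroup.index_comap_of_surjective _ (QuotientGroup.mk'_surjective B), hK.symm.index_eq_card]
    have h1 := (A.subgroupOf A).card_mul_index
    have h2 : Nat.card (A.map (QuotientGroup.mk' B)) = B.relIndex A := by
      rw [Subgroup.relIndex, Subgroup.index_eq_card]
      refine (Nat.card_congr ?_).symm
      refine (QuotientGroup.quotientMulEquivOfEq ?_).trans
        (QuotientGroup.quotientKerEquivRange ((QuotientGroup.mk' B).comp A.subtype)) |>.trans
        (MulEquiv.subgroupCongr (by rw [MonoidHom.range_comp, Subgroup.range_subtype])) |>.toEquiv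
      rw [← MonoidHom.comap_ker, QuotientGroup.ker_mk']
      rfl
    rw [h2]
    have := (B.subgroupOf A).card_mul_index
    rw [Nat.card_congr (Subgroup.subgroupOfEquivOfLe hB).toEquiv] at this
    rw [mul_comm]
    exact this

theorem key : ∀ (n : ℕ) (G : Type u) [Group G] [Finite G] (A : Subgroup G) [A.Normal],
    Nat.card A = n → IsMulCommutative A → Split A → ∃ K : Subgroup G, K.IsComplement' A := by
  intro n
  induction n using Nat.strong_induction_on with
  | _ n ih =>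
  intro G _ _ A _ hn hA h
  subst hn
  have hcomm : ∀ x ∈ A, ∀ y ∈ A, Commute x y := fun x hx y hy =>
    congrArg Subtype.val (mul_comm' (⟨x, hx⟩ : A) ⟨y, hy⟩)
  rcases eq_or_ne A ⊥ with rfl | hAne
  · exact ⟨⊤, Subgroup.isComplement'_top_bot⟩
  obtain ⟨p, hp, hpA⟩ := Nat.exists_prime_and_dvd
    (fun h => hAne (Subgroup.card_eq_one.1 h) : Nat.card A ≠ 1)
  have := Fact.mk hp
  set m := p ^ (Nat.card A).factorization p with hm
  set r := Nat.card A / m with hr
  have hmr : m * r = Nat.card A := Nat.ordProj_mul_ordCompl_eq_self _ p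
  have hcop : Nat.Coprime m r := Nat.Coprime.pow_left _ (Nat.coprime_ordCompl hp Nat.card_pos.ne')
  have hm1 : m ≠ 1 := by
    rw [hm]
    exact (Nat.one_lt_pow (Nat.pos_iff_ne_zero.1 (hp.factorization_pos_of_dvd Nat.card_pos.ne' hpA))
      hp.one_lt).ne'
  by_cases hr1 : r = 1
  · obtain ⟨K, hK, hi⟩ := h p hp
    rw [hr1, mul_one] at hmr
    obtain ⟨H, hH⟩ := Cfsg.Agent.S0051.result A (K ⊔ A) le_sup_right
      (by rw [← hmr]; exact Nat.Coprime.pow_left _ (hp.coprime_iff_not_dvd.2 hi))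
      K le_sup_left hK (sup_comm A K)
    exact ⟨H, hH.symm⟩
  let P : ℕ → Subgroup G := fun e =>
    { carrier := {x | x ∈ A ∧ x ^ e = 1}
      one_mem' := ⟨A.one_mem, one_pow _⟩
      mul_mem' := fun {a b} ha hb => ⟨A.mul_mem ha.1 hb.1, by
        rw [(hcomm a ha.1 b hb.1).mul_pow, ha.2, hb.2, one_mul]⟩
      inv_mem' := fun {a} ha => ⟨A.inv_mem ha.1, by rw [inv_pow, ha.2, inv_one]⟩ }
  have hPn : ∀ e, (P e).Normal := fun e => ⟨fun x hx g => ⟨Subgroup.Normal.conj_mem inferInstance x hx.1 g, by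
    rw [conj_pow, hx.2, mul_one, mul_inv_cancel]⟩⟩
  have hne : ∀ a b : ℕ, a * b = Nat.card A → a.Coprime b → a ≠ 1 → P a ≠ ⊥ := by
    intro a b hab hc ha hb
    obtain ⟨q, hq, hqa⟩ := Nat.exists_prime_and_dvd ha
    have := Fact.mk hq
    obtain ⟨x, hx⟩ := exists_prime_orderOf_dvd_card' (G := A) q (hab ▸ hqa.mul_right b)
    have : (x : G) ∈ P a := ⟨x.2, by
      rw [← orderOf_dvd_iff_pow_eq_one, Subgroup.orderOf_coe, hx]; exact hqa⟩
    rw [hb, Subgroup.mem_bot] at this
    rw [show x = 1 from Subtype.ext this, orderOf_one] at hx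
    exact hq.one_lt.ne hx
  have step : ∀ e, P e ≠ ⊥ → ∃ L : Subgroup G, L ⊓ A ≤ P e ∧ L.index * Nat.card (P e) = Nat.card A := by
    intro e he
    have := hPn e
    have hle : P e ≤ A := fun x hx => hx.1
    have hmapn : (A.map (QuotientGroup.mk' (P e))).Normal :=
      Subgroup.Normal.map inferInstance _ (QuotientGroup.mk'_surjective _)
    refine lift hle (ih _ ?_ (G ⧸ P e) _ rfl ?_ (h.map hle))
    · refine lt_of_le_of_ne (Nat.le_of_dvd Nat.card_pos (Subgroup.card_map_dvd A _)) fun heq => he ?_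
      rw [eq_bot_iff]
      intro x hx
      have hf : Function.Injective ((QuotientGroup.mk' (P e)).subgroupMap A) :=
        ((Nat.bijective_iff_surjective_and_card _).2
          ⟨MonoidHom.subgroupMap_surjective _ _, heq.symm⟩).1
      have : (⟨x, hle hx⟩ : A) = 1 := hf (Subtype.ext (by
        show QuotientGroup.mk' (P e) x = QuotientGroup.mk' (P e) ((1 : A) : G)
        rw [Subgroup.coe_one, map_one]
        exact (QuotientGroup.eq_one_iff x).2 hx))
      exact congrArg Subtype.val this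
    · refine ⟨⟨?_⟩⟩
      rintro ⟨_, a, ha, rfl⟩ ⟨_, b, hb, rfl⟩
      exact Subtype.ext (by
        show QuotientGroup.mk' (P e) a * QuotientGroup.mk' (P e) b = _ * _
        rw [← map_mul, (hcomm a ha b hb).eq, map_mul])
  obtain ⟨L, hL, hLi⟩ := step m (hne m r hmr hcop hm1)
  obtain ⟨M, hM, hMi⟩ := step r (hne r m (by rw [mul_comm]; exact hmr) hcop.symm hr1)
  have hdis : L ⊓ M ⊓ A = ⊥ := by
    rw [eq_bot_iff]
    rintro x ⟨⟨h1, h2⟩, h3⟩
    have a1 := hL ⟨h1, h3⟩
    have a2 := hM ⟨h2, h3⟩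
    have : x ^ Nat.gcd m r = 1 := pow_gcd_eq_one.2 ⟨a1.2, a2.2⟩
    rw [hcop.gcd_eq_one, pow_one] at this
    exact Subgroup.mem_bot.2 this
  have hbig : Nat.card A ≤ Nat.card (P m) * Nat.card (P r) := by
    rw [← Nat.card_prod]
    let f : P m × P r → A := fun z => ⟨z.1 * z.2, A.mul_mem z.1.2.1 z.2.2.1⟩
    refine Nat.card_le_card_of_surjective f fun a => ?_
    have hbz : (1 : ℤ) = m * Nat.gcdA m r + r * Nat.gcdB m r := by
      have := Nat.gcd_eq_gcd_ab m r
      rw [hcop.gcd_eq_one] at this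
      exact_mod_cast this
    have hpow : (a : G) ^ (Nat.card A : ℤ) = 1 := by
      rw [zpow_natCast, ← orderOf_dvd_iff_pow_eq_one, Subgroup.orderOf_coe]
      exact orderOf_dvd_natCard a
    have e1 : (a : G) ^ ((r : ℤ) * Nat.gcdB m r) ∈ P m := ⟨A.zpow_mem a.2 _, by
      rw [← zpow_natCast, ← zpow_mul, show (r : ℤ) * Nat.gcdB m r * m = (Nat.card A : ℤ) * Nat.gcdB m r by
        rw [← hmr]; push_cast; ring, zpow_mul, hpow, one_zpow]⟩
    have e2 : (a : G) ^ ((m : ℤ) * Nat.gcdA m r) ∈ P r := ⟨A.zpow_mem a.2 _, by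
      rw [← zpow_natCast, ← zpow_mul, show (m : ℤ) * Nat.gcdA m r * r = (Nat.card A : ℤ) * Nat.gcdA m r by
        rw [← hmr]; push_cast; ring, zpow_mul, hpow, one_zpow]⟩
    refine ⟨(⟨_, e1⟩, ⟨_, e2⟩), Subtype.ext ?_⟩
    show (a : G) ^ ((r : ℤ) * Nat.gcdB m r) * (a : G) ^ ((m : ℤ) * Nat.gcdA m r) = a
    rw [← zpow_add, add_comm, ← hbz, zpow_one]
  refine ⟨L ⊓ M, Subgroup.isComplement'_of_card_mul_and_disjoint ?_ (disjoint_iff.2 hdis)⟩
  have h1 : (L ⊓ M).index ≤ L.index * M.index := Subgroup.index_inf_le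
  have h2 : (L ⊓ M).index ≤ Nat.card A := by
    refine h1.trans (Nat.le_of_mul_le_mul_left ?_ (Nat.card_pos (α := A)))
    calc Nat.card A * (L.index * M.index) ≤ (Nat.card (P m) * Nat.card (P r)) * (L.index * M.index) :=
          Nat.mul_le_mul_right _ hbig
      _ = (L.index * Nat.card (P m)) * (M.index * Nat.card (P r)) := by ring
      _ = Nat.card A * Nat.card A := by rw [hLi, hMi]
  have h3 := (L ⊓ M).card_mul_index
  have h4 : Nat.card A * Nat.card ↥(L ⊓ M) ≤ Nat.card G := by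
    rw [← Nat.card_prod]
    refine Nat.card_le_card_of_injective (fun z => (z.1 : G) * z.2) ?_
    rintro ⟨a, k⟩ ⟨b, l⟩ he
    simp only at he
    have hh : (b : G)⁻¹ * a = l * (k : G)⁻¹ := by
      rw [eq_mul_inv_iff_mul_eq, mul_assoc, he]; group
    have : (b : G)⁻¹ * a = 1 := Subgroup.mem_bot.1 (hdis ▸
      (⟨hh ▸ (L ⊓ M).mul_mem l.2 ((L ⊓ M).inv_mem k.2), A.mul_mem (A.inv_mem b.2) a.2⟩ : (b : G)⁻¹ * a ∈ L ⊓ M ⊓ A))
    have hab : b = a := Subtype.ext (inv_mul_eq_one.1 this)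
    subst hab
    simp only [mul_left_cancel_iff] at he
    exact Prod.ext rfl (Subtype.ext he)
  have h5 : Nat.card G ≤ Nat.card ↥(L ⊓ M) * Nat.card A := h3 ▸ Nat.mul_le_mul_left _ h2
  rw [mul_comm] at h4
  omega

/-- Let `A` be an abelian normal subgroup of the finite group `G`. Then `A` has a complement in `G` if and only if, for every prime `p` dividing the index of `A`, there are a Sylow `p`-subgroup `S` of `G/A` and a subgroup `K` of `G` with `K ∩ A = 1` and `KA` equal to the preimage of `S` (that is, `A` has a complement in the preimage of a Sylow `p`-subgroup of `G/A`). -/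
theorem result {G : Type*} [Group G] [Finite G] (A : Subgroup G) [A.Normal] (hA : IsMulCommutative A) : (∃ K : Subgroup G, K.IsComplement' A) ↔ ∀ p : ℕ, p.Prime → p ∣ A.index → ∃ (S : Sylow p (G ⧸ A)) (K : Subgroup G), K ⊓ A = ⊥ ∧ K ⊔ A = (S : Subgroup (G ⧸ A)).comap (QuotientGroup.mk' A) := by

  constructor
  · rintro ⟨K, hK⟩ p hp -
    have := Fact.mk hp
    obtain ⟨S⟩ := (inferInstance : Nonempty (Sylow p (G ⧸ A)))
    set U := (S : Subgroup (G ⧸ A)).comap (QuotientGroup.mk' A) with hU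
    have hAU : A ≤ U := fun x hx => by
      rw [hU, Subgroup.mem_comap]
      simp [(QuotientGroup.eq_one_iff x).2 hx]
    refine ⟨S, K ⊓ U, ?_, le_antisymm (sup_le inf_le_right hAU) fun x hx => ?_⟩
    · rw [eq_bot_iff]
      rintro x ⟨⟨h1, -⟩, h2⟩
      exact Subgroup.mem_bot.2 (Subgroup.disjoint_def.1 hK.disjoint h1 h2)
    · obtain ⟨⟨k, a⟩, he⟩ := hK.2 x
      have he' : (k : G) * a = x := he
      rw [← he']
      refine Subgroup.mul_mem_sup ⟨k.2, ?_⟩ a.2
      have := mul_mem hx (inv_mem (hAU a.2))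
      rwa [← he', mul_inv_cancel_right] at this
  · intro h
    refine key _ G A rfl hA fun p hp => ?_
    have := Fact.mk hp
    by_cases hd : p ∣ A.index
    · obtain ⟨S, K, hK, he⟩ := h p hp hd
      refine ⟨K, hK, ?_⟩
      rw [he, Subgroup.index_comap_of_surjective _ (QuotientGroup.mk'_surjective A)]
      exact S.not_dvd_index
    · exact ⟨⊥, bot_inf_eq _, by rwa [bot_sup_eq]⟩

end Cfsg.Agent.S4217
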