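import Cfsg.Statements.S4219
import Mathlib

set_option maxHeartbeats 1000000
set_option maxRecDepth 8000

set_option autoImplicit false
open Cfsg
open scoped Pointwise

namespace Cfsg.Agent.S4219

/-- Let a finite group `G` act `t`-fold transitively on a finite set, let `H` be the stabilizer of `t` distinct points and `P` a Sylow `p`-subgroup of `H`. Then the normalizer of `P` in `G` is `t`-fold transitive on the fixed points of `P`: any `t` distinct fixed points of `P` can be carried to any other `t` distinct fixed points of `P` by an element normalizing `P`. -/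
theorem result {G : Type*} [Group G] [Finite G] {α : Type*} [Fintype α] [MulAction G α] {t : ℕ} (hG : MulAction.IsMultiplyPretransitive G α t) (x : Fin t ↪ α) {p : ℕ} [Fact p.Prime] (P : Sylow p (MulAction.stabilizer G x)) (a b : Fin t ↪ α) (ha : ∀ i, a i ∈ MulAction.fixedPoints ((P : Subgroup (MulAction.stabilizer G x)).map (MulAction.stabilizer G x).subtype) α) (hb : ∀ i, b i ∈ MulAction.fixedPoints ((P : Subgroup (MulAction.stabilizer G x)).map (MulAction.stabilizer G x).subtype) α) : ∃ g ∈ Subgroup.normalizer ((((P : Subgroup (MulAction.stabilizer G x)).map (MulAction.stabilizer G x).subtype) : Subgroup G) : Set G), g • a = b := by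
  set Q := (P : Subgroup (MulAction.stabilizer G x)).map (MulAction.stabilizer G x).subtype with hQ
  haveI : MulAction.IsPretransitive G (Fin t ↪ α) := hG
  have hfix : ∀ c : Fin t ↪ α, (∀ i, c i ∈ MulAction.fixedPoints Q α) → Q ≤ MulAction.stabilizer G c := by
    intro c hc q hq
    rw [MulAction.mem_stabilizer_iff]
    ext i
    exact hc i ⟨q, hq⟩
  obtain ⟨g, hg⟩ := MulAction.exists_smul_eq G a b
  set B := MulAction.stabilizer G b with hB
  have hB' : B.index = (MulAction.stabilizer G x).index := by
    rw [hB, MulAction.index_stabilizer_of_transitive, MulAction.index_stabilizer_of_transitive]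
  have hcardB : Nat.card B = Nat.card (MulAction.stabilizer G x) := by
    have h1 := B.card_mul_index
    rw [hB', ← (MulAction.stabilizer G x).card_mul_index] at h1
    exact Nat.eq_of_mul_eq_mul_right (Nat.pos_of_ne_zero Subgroup.index_ne_zero_of_finite) h1
  have hQp : IsPGroup p Q := P.isPGroup'.map _
  have hQcard : Nat.card Q = Nat.card (P : Subgroup (MulAction.stabilizer G x)) := Subgroup.card_map_of_injective (Subgroup.subtype_injective _)
  have key : ∀ T : Subgroup G, T ≤ B → Nat.card T = Nat.card Q → ∃ S : Sylow p B, (S : Subgroup B).map B.subtype = T := by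
    intro T hT hc
    have hTp : IsPGroup p (T.subgroupOf B) := by
      obtain ⟨k, hk⟩ := IsPGroup.iff_card.1 hQp
      exact IsPGroup.of_card (n := k) (by rw [Nat.card_congr (Subgroup.subgroupOfEquivOfLe hT).toEquiv, hc, hk])
    have hidx : ¬ p ∣ (T.subgroupOf B).index := by
      have h1 := (T.subgroupOf B).card_mul_index
      rw [Nat.card_congr (Subgroup.subgroupOfEquivOfLe hT).toEquiv, hc, hcardB, hQcard,
        ← (P : Subgroup (MulAction.stabilizer G x)).card_mul_index] at h1
      rw [Nat.eq_of_mul_eq_mul_left Nat.card_pos h1]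
      exact P.not_dvd_index
    exact ⟨hTp.toSylow hidx, Subgroup.map_subgroupOf_eq_of_le hT⟩
  obtain ⟨S, hS⟩ := key Q (hfix b hb) rfl
  have hT : Q.map (MulAut.conj g).toMonoidHom ≤ B := by
    rintro _ ⟨q, hq, rfl⟩
    have h1 : q • a = a := hfix a ha hq
    show (g * q * g⁻¹) • b = b
    rw [← hg, smul_smul, inv_mul_cancel_right, mul_smul, h1]
  obtain ⟨T, hT'⟩ := key _ hT (Subgroup.card_map_of_injective (MulEquiv.injective _))
  obtain ⟨h, hh⟩ := MulAction.exists_smul_eq B T S
  refine ⟨(h : G) * g, Subgroup.mem_normalizer_iff_map_conj_eq.2 ?_, by rw [mul_smul, hg]; exact h.2⟩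
  refine Subgroup.eq_of_le_of_card_ge ?_ (Subgroup.card_map_of_injective (MulEquiv.injective _)).ge
  rintro _ ⟨q, hq, rfl⟩
  obtain ⟨u, hu, huq⟩ : g * q * g⁻¹ ∈ (T : Subgroup B).map B.subtype := by
    rw [hT']; exact ⟨q, hq, rfl⟩
  rw [← hS]
  refine ⟨h * u * h⁻¹, ?_, ?_⟩
  · rw [← hh, Sylow.coe_subgroup_smul]
    exact Subgroup.smul_mem_pointwise_smul u (MulAut.conj h) _ hu
  · show (h : G) * (u : G) * (h : G)⁻¹ = _
    rw [show (u : G) = g * q * g⁻¹ from huq]
    simp [MulAut.conj_apply, mul_assoc]

end Cfsg.Agent.S4219
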