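import Cfsg.Statements.S4220
import Mathlib
import Cfsg.Agent.Lib.Transfer.JordanPrimeCycle
import Cfsg.Agent.S0415
import Cfsg.Agent.S0416
import Cfsg.Agent.S0417

set_option maxHeartbeats 1000000
set_option maxRecDepth 8000

set_option autoImplicit false
open Cfsg

namespace Cfsg.Agent.S4220

open Equiv MulAction Subgroup
open scoped commutatorElement

variable {α : Type*} [Fintype α] [DecidableEq α]

theorem exists_map (G : Subgroup (Perm α)) {m : ℕ} (hG : IsMultiplyPretransitive G α m) (s : Finset α)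
    (hs : s.card = m) (f : α → α) (hf : Set.InjOn f s) : ∃ g ∈ G, ∀ x ∈ s, g x = f x := by
  classical
  let e : Fin m ≃ {x // x ∈ s} := (Fintype.equivFinOfCardEq (by rw [Fintype.card_coe, hs])).symm
  haveI := hG
  obtain ⟨g, hg⟩ := MulAction.exists_smul_eq G (⟨fun i => (e i : α), fun i j h => e.injective (Subtype.ext h)⟩ : Fin m ↪ α)
    ⟨fun i => f (e i : α), fun i j h => e.injective (Subtype.ext (hf (e i).2 (e j).2 h))⟩
  refine ⟨g, g.2, fun x hx => ?_⟩
  have := DFunLike.congr_fun hg (e.symm ⟨x, hx⟩)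
  change (g : Perm α) (e (e.symm ⟨x, hx⟩) : α) = f (e (e.symm ⟨x, hx⟩) : α) at this
  rwa [Equiv.apply_symm_apply] at this

theorem small_support (G : Subgroup (Perm α)) {r : ℕ} (hr : 1 ≤ r)
    (hG : IsMultiplyPretransitive G α (r + 1)) (hn : r + 1 < Fintype.card α) {x : Perm α}
    (hx : x ∈ G) (hx1 : x ≠ 1) (hs : x.support.card ≤ r + 1) : alternatingGroup α ≤ G := by
  classical
  haveI := hG
  have hprim : IsPreprimitive G α := by
    haveI : IsMultiplyPretransitive G α 2 :=
      MulAction.isMultiplyPretransitive_of_le (n := r + 1) (by omega) (by rw [Nat.card_eq_fintype_card]; omega)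
    exact MulAction.isPreprimitive_of_is_two_pretransitive inferInstance
  obtain ⟨a, ha⟩ := Finset.nonempty_of_ne_empty (fun h => hx1 (Perm.support_eq_empty_iff.mp h))
  obtain ⟨a', -, ha'⟩ := Finset.exists_mem_notMem_of_card_lt_card
    (show x.support.card < (Finset.univ : Finset α).card by rw [Finset.card_univ]; omega)
  obtain ⟨s, hss, hs'⟩ := Finset.exists_superset_card_eq hs (by omega) 
  obtain ⟨g, hg, hgm⟩ : ∃ g ∈ G, (∀ z ∈ x.support, z ≠ a → g z = z) ∧ g a = a' := by
    haveI : IsMultiplyPretransitive G α x.support.card :=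
      MulAction.isMultiplyPretransitive_of_le (n := r + 1) hs (by rw [Nat.card_eq_fintype_card]; omega)
    obtain ⟨g, hg, h⟩ := exists_map G inferInstance x.support rfl (fun z => if z = a then a' else z) (by
      intro u hu w hw h
      dsimp only at h
      split_ifs at h with h1 h2 h2
      · rw [h1, h2]
      · exact absurd (h ▸ hw) ha'
      · exact absurd (h ▸ hu) ha'
      · exact h)
    exact ⟨g, hg, fun z hz hza => by rw [h z hz, if_neg hza], by rw [h a ha, if_pos rfl]⟩
  obtain ⟨hgfix, hga⟩ := hgm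
  set d := x⁻¹ * (g * x * g⁻¹) with hd
  have hdG : d ∈ G := G.mul_mem (G.inv_mem hx) (G.mul_mem (G.mul_mem hg hx) (G.inv_mem hg))
  have hd1 : d ≠ 1 := by
    intro h
    rw [hd, inv_mul_eq_one] at h
    have h1 := Perm.congr_fun h a'
    rw [Perm.notMem_support.mp ha', Perm.mul_apply, Perm.mul_apply, show g⁻¹ a' = a by rw [← hga]; simp] at h1
    exact Perm.mem_support.mp ha (g.injective (by rw [← h1, hga]))
  have hsub : d.support ⊆ {a, a', x⁻¹ a} := by
    intro z hz
    by_contra hz'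
    simp only [Finset.mem_insert, Finset.mem_singleton, not_or] at hz'
    obtain ⟨za, za', zx⟩ := hz'
    refine Perm.mem_support.mp hz ?_
    rw [hd, Perm.mul_apply, Perm.mul_apply, Perm.mul_apply, Perm.inv_eq_iff_eq]
    by_cases hzs : z ∈ x.support
    · rw [show g⁻¹ z = z by rw [Perm.inv_eq_iff_eq, hgfix z hzs za]]
      exact (hgfix _ (Perm.apply_mem_support.mpr hzs) (fun h => zx (by rw [← h]; simp)))
    · have h1 : g⁻¹ z ∉ x.support := fun h => by
        by_cases h2 : g⁻¹ z = a
        · exact za' (by rw [← hga, ← h2]; simp)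
        · have := hgfix _ h h2
          rw [Perm.coe_inv, Equiv.apply_symm_apply] at this
          exact hzs (by rw [this]; exact h)
      rw [Perm.notMem_support.mp h1, Perm.notMem_support.mp hzs]
      simp
  have hsign : Perm.sign d = 1 := by
    rw [hd]
    simp only [map_mul, map_inv]
    rw [mul_comm (Perm.sign g), mul_inv_cancel_right, inv_mul_cancel]
  have h3 : d.support.card ≤ 3 := (Finset.card_le_card hsub).trans Finset.card_le_three
  have h0 : d.support.card ≠ 0 := fun h => hd1 (Perm.card_support_eq_zero.mp h)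
  have h1 : d.support.card ≠ 1 := Perm.card_support_ne_one d
  have h2 : d.support.card ≠ 2 := fun h => by
    rw [(Perm.card_support_eq_two.mp h).sign_eq] at hsign
    exact absurd hsign (by decide)
  exact Perm.alternatingGroup_le_of_isPreprimitive_of_isThreeCycle_mem hprim
    (card_support_eq_three_iff.mp (by omega)) hdG

theorem mem_of_eq_on {G : Subgroup (Perm α)} {m : ℕ} (hG : IsMultiplyPretransitive G α m)
    (hsharp : ∀ x : Fin m ↪ α, MulAction.stabilizer G x = ⊥) : ∀ g ∈ G, ∀ s : Finset α, s.card = m →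
    (∀ x ∈ s, g x = x) → g = 1 := by
  intro g hg s hs hfix
  let e : Fin m ≃ {x // x ∈ s} := (Fintype.equivFinOfCardEq (by rw [Fintype.card_coe, hs])).symm
  have : (⟨g, hg⟩ : G) ∈ MulAction.stabilizer G
      (⟨fun i => (e i : α), fun i j h => e.injective (Subtype.ext h)⟩ : Fin m ↪ α) :=
    Function.Embedding.ext fun i => hfix _ (e i).2
  rw [hsharp, Subgroup.mem_bot] at this
  exact congrArg Subtype.val this

/-- Six moved points and `r` fixed points. -/
theorem six_case (G : Subgroup (Perm α)) {r : ℕ} (hr : r = 3 ∨ r = 4) (hn : Fintype.card α = 6 + r)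
    (hG : IsMultiplyPretransitive G α (r + 1)) : alternatingGroup α ≤ G := by
  classical
  by_cases hex : ∃ g ∈ G, g ≠ 1 ∧ g.support.card ≤ 4
  · obtain ⟨g, hg, hg1, hgs⟩ := hex
    exact small_support G (by omega) hG (by omega) hg hg1 (by omega)
  push Not at hex
  exfalso
  have hfive : ∀ g ∈ G, ∀ s : Finset α, r + 2 ≤ s.card → (∀ x ∈ s, g x = x) → g = 1 := by
    intro g hg s hs hfix
    by_contra h
    have h1 := hex g hg h
    have h2 : g.support ⊆ sᶜ := fun z hz => Finset.mem_compl.mpr fun hzs => Perm.mem_support.mp hz (hfix z hzs)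
    have := Finset.card_le_card h2
    rw [Finset.card_compl] at this
    omega
  haveI := hG
  by_cases hsh : ∀ x : Fin (r + 1) ↪ α, MulAction.stabilizer G x = ⊥
  · rcases hr with rfl | rfl
    · have := Cfsg.Agent.S0415.result G (by omega) hsh; omega
    · have := Cfsg.Agent.S0416.result G (by omega) hsh; omega
  push Not at hsh
  obtain ⟨x, hx⟩ := hsh
  have htr : IsMultiplyPretransitive G α (r + 2) := by
    -- the stabiliser of `r + 1` points has order five
    obtain ⟨g, hgx, hg1⟩ := (Subgroup.bot_or_exists_ne_one _).resolve_left hx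
    have hgfix : ∀ i, ((g : G) : Perm α) (x i) = x i := fun i => DFunLike.congr_fun hgx i
    let s := Finset.univ.map x
    have hsc : s.card = r + 1 := by simp [s]
    have hfree : ∀ z ∉ s, ∀ i : ℕ, (((g : Perm α)) ^ i) z = z → ((g : Perm α)) ^ i = 1 := by
      intro z hz i hi
      refine hfive _ (G.pow_mem g.2 i) (insert z s) (by rw [Finset.card_insert_of_notMem hz, hsc]) fun w hw => ?_
      rcases Finset.mem_insert.mp hw with rfl | hw
      · exact hi
      · obtain ⟨j, -, rfl⟩ := Finset.mem_map.mp hw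
        exact Perm.pow_apply_eq_self_of_apply_eq_self (hgfix j) i
    have hgne : (g : Perm α) ≠ 1 := fun h => hg1 (Subtype.ext h)
    have hsupp : (g : Perm α).support = sᶜ := by
      ext z
      rw [Perm.mem_support, Finset.mem_compl]
      refine ⟨fun h hz => ?_, fun hz h => hgne (by simpa using hfree z hz 1 (by simpa using h))⟩
      obtain ⟨j, -, rfl⟩ := Finset.mem_map.mp hz
      exact h (hgfix j)
    obtain ⟨z, hz⟩ := Finset.nonempty_of_ne_empty (s := (g : Perm α).support)
      (fun h => hgne (Perm.support_eq_empty_iff.mp h))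
    have hcyc : ((g : Perm α).cycleOf z) = g := by
      -- a semiregular permutation of five points is one cycle
      have hzc : ∀ w ∈ (g : Perm α).support, (g : Perm α).SameCycle z w := by
        intro w hw
        by_contra hc
        have hcz := (Perm.isCycle_cycleOf _ (Perm.mem_support.mp hz)).orderOf
        have hcw := (Perm.isCycle_cycleOf _ (Perm.mem_support.mp hw)).orderOf
        have key : ∀ u ∈ (g : Perm α).support, ((g : Perm α).cycleOf u).support.card = orderOf (g : Perm α) := by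
          intro u hu
          rw [← (Perm.isCycle_cycleOf _ (Perm.mem_support.mp hu)).orderOf]
          refine Nat.dvd_antisymm (Perm.orderOf_cycleOf_dvd_orderOf _ u) (orderOf_dvd_of_pow_eq_one ?_)
          refine hfree u (Finset.mem_compl.mp (hsupp ▸ hu)) _ ?_
          rw [← Perm.cycleOf_pow_apply_self, pow_orderOf_eq_one, Perm.one_apply]
        have hdis : Disjoint ((g : Perm α).cycleOf z).support ((g : Perm α).cycleOf w).support := by
          rw [Finset.disjoint_left]
          intro u hu hu'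
          rw [Perm.mem_support_cycleOf_iff] at hu hu'
          exact hc (hu.1.trans hu'.1.symm)
        have hle := Finset.card_le_card (Finset.union_subset (Perm.support_cycleOf_le (g : Perm α) z)
          (Perm.support_cycleOf_le (g : Perm α) w))
        rw [Finset.card_union_of_disjoint hdis, key z hz, key w hw] at hle
        have hgs := hex g g.2 hgne
        have h5 : (g : Perm α).support.card = 5 := by rw [hsupp, Finset.card_compl, hsc]; omega
        have h2 : 2 ≤ orderOf (g : Perm α) := by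
          have := orderOf_pos (g : Perm α)
          have : orderOf (g : Perm α) ≠ 1 := fun h => hgne (orderOf_eq_one_iff.mp h)
          omega
        have hd : orderOf (g : Perm α) = 2 := by omega
        have hinv : ∀ u, (g : Perm α) ((g : Perm α) u) = u := fun u => by
          have := pow_orderOf_eq_one (g : Perm α)
          rw [hd, pow_two] at this
          exact Perm.congr_fun this u
        have := Perm.two_dvd_card_support (σ := (g : Perm α)) (Equiv.ext fun u => by rw [pow_two]; exact hinv u)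
        omega
      refine Equiv.ext fun w => ?_
      by_cases hw : w ∈ (g : Perm α).support
      · rw [Perm.cycleOf_apply, if_pos (hzc w hw)]
      · rw [Perm.cycleOf_apply]; split_ifs
        · rfl
        · exact (Perm.notMem_support.mp hw).symm
    have hgc : (g : Perm α).IsCycle := hcyc ▸ Perm.isCycle_cycleOf _ (Perm.mem_support.mp hz)
    refine ⟨fun u w => ?_⟩
    -- reduce both tuples to the chosen points
    suffices hnorm : ∀ u : Fin (r + 2) ↪ α, ∃ h : G, ∀ i : Fin (r + 1), h • u i.castSucc = x i ∧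
        h • u (Fin.last (r + 1)) = z by
      obtain ⟨h1, e1⟩ := hnorm u
      obtain ⟨h2, e2⟩ := hnorm w
      refine ⟨h2⁻¹ * h1, Function.Embedding.ext fun i => ?_⟩
      show (h2⁻¹ * h1) • u i = w i
      rw [mul_smul, inv_smul_eq_iff]
      refine Fin.lastCases ?_ (fun j => ?_) i
      · rw [(e1 0).2, (e2 0).2]
      · rw [(e1 j).1, (e2 j).1]
    intro u
    obtain ⟨h, hh⟩ := MulAction.exists_smul_eq G (Fin.castSuccEmb.trans u) x
    have hh' : ∀ i : Fin (r + 1), h • u i.castSucc = x i := fun i => DFunLike.congr_fun hh i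
    have hns : (h • u (Fin.last (r + 1))) ∈ (g : Perm α).support := by
      rw [hsupp, Finset.mem_compl]
      intro hm
      obtain ⟨j, -, hj⟩ := Finset.mem_map.mp hm
      rw [← hh' j, smul_left_cancel_iff] at hj
      exact (Fin.castSucc_lt_last j).ne (u.injective hj)
    obtain ⟨i, hi⟩ := hgc.exists_pow_eq (Perm.mem_support.mp hns) (Perm.mem_support.mp hz)
    refine ⟨g ^ i * h, fun j => ⟨?_, ?_⟩⟩
    · rw [mul_smul, hh' j]
      exact Perm.pow_apply_eq_self_of_apply_eq_self (hgfix j) i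
    · rw [mul_smul]; exact hi
  haveI := htr
  have hsh' : ∀ x : Fin (r + 2) ↪ α, MulAction.stabilizer G x = ⊥ := fun x => by
    rw [eq_bot_iff]
    intro g hg
    refine Subgroup.mem_bot.mpr (Subtype.ext (hfive g g.2 (Finset.univ.map x) (by simp) fun w hw => ?_))
    obtain ⟨j, -, rfl⟩ := Finset.mem_map.mp hw
    exact DFunLike.congr_fun hg j
  rcases hr with rfl | rfl
  · have := Cfsg.Agent.S0416.result G (by omega) hsh'; omega
  · have := Cfsg.Agent.S0417.result G 6 le_rfl (by omega) hsh'; omega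

theorem perm_noncentral {β : Type*} [Fintype β] [DecidableEq β] (h : 3 ≤ Fintype.card β) {s : Perm β}
    (hs : s ≠ 1) : ∃ t, s * t ≠ t * s := by
  by_contra hc
  push Not at hc
  obtain ⟨a, ha⟩ : ∃ a, s a ≠ a := by
    by_contra h'; push Not at h'; exact hs (Equiv.ext h')
  obtain ⟨c, hc'⟩ : ∃ c, c ∉ ({a, s a} : Finset β) := by
    by_contra h'; push Not at h'
    have := Finset.card_le_card (show (Finset.univ : Finset β) ⊆ {a, s a} from fun x _ => h' x)
    rw [Finset.card_univ] at this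
    have := Finset.card_le_two (a := a) (b := s a)
    omega
  simp only [Finset.mem_insert, Finset.mem_singleton, not_or] at hc'
  have := Perm.congr_fun (hc (Equiv.swap (s a) c)) a
  rw [Perm.mul_apply, Perm.mul_apply, Equiv.swap_apply_of_ne_of_ne (Ne.symm ha) (Ne.symm hc'.1),
    Equiv.swap_apply_left] at this
  exact hc'.2 this.symm


/-- Let `n = kp + r` with `p` prime, `1 ≤ k < p` and `r > k`, excluding the case `k = 1, r = 2`. Then a permutation group of degree `n` that is `(r + 1)`-fold transitive contains the alternating group. -/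
theorem result {α : Type*} [Fintype α] [DecidableEq α] (G : Subgroup (Equiv.Perm α)) {k p r : ℕ} (hp : p.Prime) (hn : Fintype.card α = k * p + r) (hk : 1 ≤ k) (hpk : k < p) (hrk : k < r) (hex : ¬ (k = 1 ∧ r = 2)) (hG : MulAction.IsMultiplyPretransitive G α (r + 1)) : alternatingGroup α ≤ G := by

  classical
  haveI := Fact.mk hp
  haveI := hG
  have hp2 := hp.two_le
  have hr3 : 3 ≤ r := by
    by_contra h
    interval_cases r <;> omega
  have hkp : p ≤ k * p := Nat.le_mul_of_pos_left p (by omega)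
  have hprim : IsPreprimitive G α := by
    haveI : IsMultiplyPretransitive G α 2 :=
      MulAction.isMultiplyPretransitive_of_le (n := r + 1) (by omega) (by rw [Nat.card_eq_fintype_card]; omega)
    exact MulAction.isPreprimitive_of_is_two_pretransitive inferInstance
  haveI hGr : IsMultiplyPretransitive G α r :=
    MulAction.isMultiplyPretransitive_of_le (n := r + 1) (by omega) (by rw [Nat.card_eq_fintype_card]; omega)
  obtain ⟨F, -, hF⟩ := Finset.exists_subset_card_eq (s := (Finset.univ : Finset α))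
    (show r ≤ (Finset.univ : Finset α).card by rw [Finset.card_univ]; omega)
  have hD : Fᶜ.card = k * p := by rw [Finset.card_compl, hF]; omega
  set H : Subgroup (Perm α) := G ⊓ fixingSubgroup (Perm α) (F : Set α) with hH
  have hmemH : ∀ h, h ∈ H ↔ h ∈ G ∧ ∀ x ∈ F, h x = x := fun h => by
    rw [hH, Subgroup.mem_inf, mem_fixingSubgroup_iff]; rfl
  have hHD : ∀ h ∈ H, ∀ x, x ∉ F → h x ∉ F := fun h hh x hx hx' =>
    hx (by rw [h.injective (((hmemH h).mp hh).2 _ hx')] at hx'; exact hx')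
  obtain ⟨S⟩ : Nonempty (Sylow p H) := Sylow.nonempty
  set P : Subgroup (Perm α) := (S : Subgroup H).map H.subtype with hP
  have hPH : P ≤ H := Subgroup.map_subtype_le _
  have hPG : P ≤ G := hPH.trans inf_le_left
  -- every orbit of `P` on the moved points has `p` points
  let orb : α → Finset α := fun a => Finset.univ.filter fun b => ∃ u ∈ P, u a = b
  have horb : ∀ a b, b ∈ orb a ↔ ∃ u ∈ P, u a = b := fun a b => by simp [orb]
  have horbD : ∀ a, a ∉ F → ∀ b ∈ orb a, b ∉ F := fun a ha b hb => by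
    obtain ⟨u, hu, rfl⟩ := (horb a b).mp hb
    exact hHD u (hPH hu) a ha
  have horb_self : ∀ a, a ∈ orb a := fun a => (horb a a).mpr ⟨1, P.one_mem, rfl⟩
  have horb_eq : ∀ a b, b ∈ orb a → orb b = orb a := fun a b hb => by
    obtain ⟨u, hu, rfl⟩ := (horb a b).mp hb
    ext c
    rw [horb, horb]
    exact ⟨fun ⟨w, hw, e⟩ => ⟨w * u, P.mul_mem hw hu, e⟩,
      fun ⟨w, hw, e⟩ => ⟨w * u⁻¹, P.mul_mem hw (P.inv_mem hu), by simpa using e⟩⟩
  have hPp : IsPGroup p P := S.isPGroup'.map _
  have hsize : ∀ a, a ∉ F → (orb a).card = p := by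
    intro a ha
    obtain ⟨i, hi⟩ := hPp.card_orbit a
    have he : Nat.card (MulAction.orbit P a) = (orb a).card := by
      rw [← Nat.card_eq_finsetCard]
      exact Nat.card_congr (Equiv.subtypeEquivRight fun b => by
        rw [horb, MulAction.mem_orbit_iff]
        exact ⟨fun ⟨u, e⟩ => ⟨u, u.2, e⟩, fun ⟨u, hu, e⟩ => ⟨⟨u, hu⟩, e⟩⟩)
    rw [he] at hi
    have hle : (orb a).card ≤ k * p := hD ▸ Finset.card_le_card fun b hb =>
      Finset.mem_compl.mpr (horbD a ha b hb)
    have hi1 : i ≤ 1 := by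
      by_contra h
      have : p ^ 2 ≤ p ^ i := Nat.pow_le_pow_right hp.pos (by omega)
      have : k * p < p * p := (Nat.mul_lt_mul_right hp.pos).mpr hpk
      rw [pow_two] at *
      omega
    have hi0 : i ≠ 0 := by
      intro h
      rw [h, pow_zero] at hi
      have hfix : ∀ u ∈ P, u a = a := fun u hu =>
        Finset.card_le_one.mp hi.le _ ((horb a _).mpr ⟨u, hu, rfl⟩) _ (horb_self a)
      letI : MulAction H {x // x ∉ F} :=
        { smul := fun h x => ⟨(h : Perm α) x, hHD h h.2 x x.2⟩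
          one_smul := fun x => Subtype.ext rfl
          mul_smul := fun h h' x => Subtype.ext rfl }
      haveI : IsPretransitive H {x // x ∉ F} := ⟨fun x y => by
        obtain ⟨g, hg, he⟩ := exists_map G hG (insert (x : α) F) (by rw [Finset.card_insert_of_notMem x.2, hF])
          (fun z => if z ∈ F then z else y) (by
          intro u hu w hw h
          dsimp only at h
          rw [Finset.coe_insert, Set.mem_insert_iff, Finset.mem_coe] at hu hw
          split_ifs at h with h1 h2 h2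
          · exact h
          · exact absurd (h ▸ h1) y.2
          · exact absurd (h ▸ h2) y.2
          · rw [hu.resolve_right h1, hw.resolve_right h2])
        exact ⟨⟨g, (hmemH g).mpr ⟨hg, fun z hz => by rw [he z (Finset.mem_insert_of_mem hz), if_pos hz]⟩⟩,
          Subtype.ext (by
            show g (x : α) = y
            rw [he _ (Finset.mem_insert_self _ _), if_neg x.2])⟩⟩
      have hle' : (S : Subgroup H) ≤ MulAction.stabilizer H (⟨a, ha⟩ : {x // x ∉ F}) := fun u hu =>
        Subtype.ext (hfix u (Subgroup.mem_map_of_mem H.subtype hu))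
      have hidx : (MulAction.stabilizer H (⟨a, ha⟩ : {x // x ∉ F})).index = k * p := by
        rw [MulAction.index_stabilizer_of_transitive, Nat.card_eq_fintype_card, Fintype.card_subtype, ← hD]
        congr 1; ext; simp
      exact S.not_dvd_index ((dvd_mul_left p k).trans (hidx ▸ Subgroup.index_dvd_of_le hle'))
    rw [hi, show i = 1 by omega, pow_one]
  have hPfix : ∀ u ∈ P, ∀ x ∈ F, u x = x := fun u hu => ((hmemH u).mp (hPH hu)).2
  -- `P` is commutative on each orbit
  have hpt : ∀ a, a ∉ F → ∀ u ∈ P, u a = a → ∀ b ∈ orb a, u b = b := by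
    intro a ha u hu hua b hb
    by_contra hne
    letI : MulAction (Subgroup.zpowers (⟨u, hu⟩ : P)) {x // x ∈ orb a} :=
      { smul := fun g x => ⟨((g : P) : Perm α) x, (horb a _).mpr (by
          obtain ⟨w, hw, e⟩ := (horb a _).mp x.2
          exact ⟨_, P.mul_mem (g : P).2 hw, by rw [Perm.mul_apply, e]⟩)⟩
        one_smul := fun x => Subtype.ext rfl
        mul_smul := fun g h x => Subtype.ext rfl }
    obtain ⟨i, hi⟩ := (hPp.to_subgroup (Subgroup.zpowers (⟨u, hu⟩ : P))).card_orbit (⟨b, hb⟩ : {x // x ∈ orb a})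
    set g0 : Subgroup.zpowers (⟨u, hu⟩ : P) := ⟨⟨u, hu⟩, Subgroup.mem_zpowers _⟩
    have hb' : (g0 • (⟨b, hb⟩ : {x // x ∈ orb a})) ≠ ⟨b, hb⟩ := fun h => hne (congrArg Subtype.val h)
    have hnot : (⟨a, horb_self a⟩ : {x // x ∈ orb a}) ∉
        MulAction.orbit (Subgroup.zpowers (⟨u, hu⟩ : P)) (⟨b, hb⟩ : {x // x ∈ orb a}) := by
      rintro ⟨g, hg⟩
      have hga : ((g : P) : Perm α) b = a := congrArg Subtype.val hg
      obtain ⟨j, hj⟩ := g.2
      have hj' : u ^ j = ((g : P) : Perm α) := congrArg Subtype.val hj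
      have : (u ^ j) a = a := Perm.zpow_apply_eq_self_of_apply_eq_self hua j
      rw [hj'] at this
      have hab : ((g : P) : Perm α) a = ((g : P) : Perm α) b := this.trans hga.symm
      exact hne (((g : P) : Perm α).injective hab ▸ hua)
    have hlt : Nat.card (MulAction.orbit (Subgroup.zpowers (⟨u, hu⟩ : P)) (⟨b, hb⟩ : {x // x ∈ orb a})) < p := by
      rw [← hsize a ha, ← Fintype.card_coe, ← Nat.card_eq_fintype_card]
      refine Finite.card_subtype_lt (x := ⟨a, horb_self a⟩) hnot
    rw [hi] at hlt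
    rcases Nat.eq_zero_or_pos i with h | h
    · rw [h, pow_zero, Nat.card_eq_one_iff_unique] at hi
      exact hb' (congrArg Subtype.val (@Subsingleton.elim _ hi.1 ⟨_, g0, rfl⟩ ⟨_, 1, one_smul _ _⟩))
    · exact absurd hlt (not_lt.mpr (Nat.le_self_pow h.ne' p))
  have hcommon : ∀ a, a ∉ F → ∀ u ∈ P, ∀ w ∈ P, u a = w a → ∀ b ∈ orb a, u b = w b := by
    intro a ha u hu w hw h b hb
    have h1 := hpt a ha (w⁻¹ * u) (P.mul_mem (P.inv_mem hw) hu) (by rw [Perm.mul_apply, h]; simp) b hb
    rw [Perm.mul_apply, Perm.inv_eq_iff_eq] at h1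
    exact h1
  have hgen : ∀ a, a ∉ F → ∀ σ ∈ P, σ a ≠ a → ∀ u ∈ P, ∃ i : ℕ, ∀ b ∈ orb a, u b = (σ ^ i) b := by
    intro a ha σ hσ hσa u hu
    have hsc : ∃ i : ℕ, u a = (σ ^ i) a := by
      by_contra hcon
      push Not at hcon
      letI : MulAction (Subgroup.zpowers (⟨σ, hσ⟩ : P)) {x // x ∈ orb a} :=
        { smul := fun g x => ⟨((g : P) : Perm α) x, (horb a _).mpr (by
            obtain ⟨w, hw, e⟩ := (horb a _).mp x.2
            exact ⟨_, P.mul_mem (g : P).2 hw, by rw [Perm.mul_apply, e]⟩)⟩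
          one_smul := fun x => Subtype.ext rfl
          mul_smul := fun g h x => Subtype.ext rfl }
      obtain ⟨i, hi⟩ := (hPp.to_subgroup (Subgroup.zpowers (⟨σ, hσ⟩ : P))).card_orbit
        (⟨a, horb_self a⟩ : {x // x ∈ orb a})
      have hnot : (⟨u a, (horb a _).mpr ⟨u, hu, rfl⟩⟩ : {x // x ∈ orb a}) ∉
          MulAction.orbit (Subgroup.zpowers (⟨σ, hσ⟩ : P)) (⟨a, horb_self a⟩ : {x // x ∈ orb a}) := by
        rintro ⟨g, hg⟩
        obtain ⟨j, hj⟩ := (isOfFinOrder_of_finite (⟨σ, hσ⟩ : P)).mem_powers_iff_mem_zpowers.mpr g.2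
        have hj' : σ ^ j = ((g : P) : Perm α) := congrArg Subtype.val hj
        refine hcon j ?_
        rw [hj']
        exact (congrArg Subtype.val hg).symm
      have hlt : Nat.card (MulAction.orbit (Subgroup.zpowers (⟨σ, hσ⟩ : P))
          (⟨a, horb_self a⟩ : {x // x ∈ orb a})) < p := by
        rw [← hsize a ha, ← Fintype.card_coe, ← Nat.card_eq_fintype_card]
        exact Finite.card_subtype_lt hnot
      rw [hi] at hlt
      rcases Nat.eq_zero_or_pos i with h | h
      · rw [h, pow_zero, Nat.card_eq_one_iff_unique] at hi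
        exact hσa (congrArg (fun z => z.1.1) (@Subsingleton.elim _ hi.1
          ⟨_, (⟨⟨σ, hσ⟩, Subgroup.mem_zpowers _⟩ : Subgroup.zpowers (⟨σ, hσ⟩ : P)), rfl⟩ ⟨_, 1, one_smul _ _⟩))
      · exact absurd hlt (not_lt.mpr (Nat.le_self_pow h.ne' p))
    obtain ⟨i, hi⟩ := hsc
    exact ⟨i, hcommon a ha u hu _ (P.pow_mem hσ i) hi⟩
  have hmove : ∀ a, a ∉ F → ∃ σ ∈ P, σ a ≠ a := fun a ha => by
    obtain ⟨b, hb, hba⟩ := Finset.exists_mem_ne (show 1 < (orb a).card by rw [hsize a ha]; omega) a
    obtain ⟨u, hu, rfl⟩ := (horb a b).mp hb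
    exact ⟨u, hu, hba⟩
  -- elements supported in a single orbit
  have hcycle : ∀ u ∈ P, u ≠ 1 → ∀ a, a ∉ F → u.support ⊆ orb a → alternatingGroup α ≤ G := by
    intro u hu hu1 a ha hsub
    obtain ⟨b, hb⟩ : ∃ b, u b ≠ b := by
      by_contra h; push Not at h; exact hu1 (Equiv.ext h)
    have hbo := hsub (Perm.mem_support.mpr hb)
    have hba := horb_eq a b hbo
    have hsupp : u.support = orb a := by
      refine Finset.Subset.antisymm hsub fun c hc => Perm.mem_support.mpr fun h => hb ?_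
      exact hpt c (horbD a ha c hc) u hu h b ((horb_eq a c hc).symm ▸ hbo)
    have hbF := horbD a ha b hbo
    have hcyc : u.IsCycle := by
      refine ⟨b, hb, fun c hc => ?_⟩
      obtain ⟨w, hw, e⟩ := (horb b c).mp (hba.symm ▸ hsub (Perm.mem_support.mpr hc))
      obtain ⟨i, hi⟩ := hgen b hbF u hu hb w hw
      exact ⟨i, by rw [zpow_natCast, ← hi b (horb_self b), e]⟩
    exact Transfer.JordanPrimeCycle.alternatingGroup_le_of_cycle hprim hp (by omega) hcyc
      (by rw [hsupp]; exact hsize a ha) (hPG hu)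
  -- the orbits
  let Q : Finset (Finset α) := Fᶜ.image orb
  have hQ : Q.card = k := by
    have h := Finset.card_eq_sum_card_image orb Fᶜ
    have hfib : ∀ O ∈ Q, (Fᶜ.filter fun x => orb x = O).card = p := by
      intro O hO
      obtain ⟨a, ha, rfl⟩ := Finset.mem_image.mp hO
      rw [Finset.mem_compl] at ha
      rw [← hsize a ha]
      congr 1
      ext x
      rw [Finset.mem_filter, Finset.mem_compl]
      exact ⟨fun hx => hx.2 ▸ horb_self x, fun hx => ⟨horbD a ha x hx, horb_eq a x hx⟩⟩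
    rw [Finset.sum_congr rfl hfib, Finset.sum_const, smul_eq_mul, hD] at h
    exact (Nat.eq_of_mul_eq_mul_right hp.pos h).symm
  rcases (show k = 1 ∨ 2 ≤ k by omega) with hk1 | hk2
  · obtain ⟨a, ha⟩ : ∃ a, a ∉ F := by
      obtain ⟨a, ha⟩ := Finset.card_pos.mp (show 0 < Fᶜ.card by omega)
      exact ⟨a, Finset.mem_compl.mp ha⟩
    obtain ⟨σ, hσ, hσa⟩ := hmove a ha
    refine hcycle σ hσ (fun h => hσa (by rw [h]; rfl)) a ha ?_
    have : orb a = Fᶜ := Finset.eq_of_subset_of_card_le (fun b hb => Finset.mem_compl.mpr (horbD a ha b hb))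
      (by rw [hD, hsize a ha, hk1, one_mul])
    rw [this]
    exact fun x hx => Finset.mem_compl.mpr fun hxF => Perm.mem_support.mp hx (hPfix σ hσ x hxF)
  by_cases hp3 : r ≤ 4 ∧ p = 3
  · obtain ⟨h4, rfl⟩ := hp3
    obtain rfl : k = 2 := by omega
    exact six_case G (by omega) (by omega) hG
  -- the normalizer
  let N : Subgroup (Perm α) := G ⊓ Subgroup.normalizer (P : Set (Perm α))
  have hnormal : ∀ n ∈ N, ∀ u ∈ P, n * u * n⁻¹ ∈ P ∧ n⁻¹ * u * n ∈ P := fun n hn u hu =>
    ⟨(Subgroup.mem_normalizer_iff.mp hn.2 u).mp hu, by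
      simpa using (Subgroup.mem_normalizer_iff.mp (inv_mem hn.2) u).mp hu⟩
  have hNF : ∀ n ∈ N, ∀ x, n x ∈ F ↔ x ∈ F := by
    intro n hn x
    constructor <;> intro hx <;> by_contra hx'
    · obtain ⟨σ, hσ, hσa⟩ := hmove x hx'
      have := hPfix _ (hnormal n hn σ hσ).1 (n x) hx
      simp only [Perm.mul_apply, Perm.coe_inv, Equiv.symm_apply_apply] at this
      exact hσa (n.injective this)
    · obtain ⟨σ, hσ, hσa⟩ := hmove (n x) hx'
      have := hPfix _ (hnormal n hn σ hσ).2 x hx
      simp only [Perm.mul_apply, Perm.coe_inv] at this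
      exact hσa (n.symm.injective (by rw [this, Equiv.symm_apply_apply]))
  have hmap : ∀ n ∈ N, ∀ a b, b ∈ orb a → n b ∈ orb (n a) := by
    intro n hn a b hb
    obtain ⟨u, hu, rfl⟩ := (horb a b).mp hb
    exact (horb _ _).mpr ⟨_, (hnormal n hn u hu).1, by simp⟩
  let ψ : N →* Perm {x // x ∈ F} :=
    { toFun := fun n => (n : Perm α).subtypePerm (hNF n n.2)
      map_one' := Equiv.ext fun x => Subtype.ext rfl
      map_mul' := fun a b => Equiv.ext fun x => Subtype.ext rfl }
  have hψ : Function.Surjective ψ := by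
    intro π
    obtain ⟨g, hg, he⟩ := exists_map G hGr F hF (fun z => if h : z ∈ F then (π ⟨z, h⟩ : α) else z) (by
      intro u hu w hw h
      rw [Finset.mem_coe] at hu hw
      simp only [hu, hw, dif_pos] at h
      exact congrArg Subtype.val (π.injective (Subtype.ext h)))
    have hgF : ∀ z (hz : z ∈ F), g z = π ⟨z, hz⟩ := fun z hz => by rw [he z hz, dif_pos hz]
    have hgH : ∀ h ∈ H, g * h * g⁻¹ ∈ H := by
      intro h hh
      refine (hmemH _).mpr ⟨G.mul_mem (G.mul_mem hg hh.1) (G.inv_mem hg), fun x hx => ?_⟩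
      have hgi : g⁻¹ x ∈ F := by
        have := hgF (π.symm ⟨x, hx⟩ : α) (π.symm ⟨x, hx⟩).2
        rw [Subtype.coe_eta, Equiv.apply_symm_apply] at this
        rw [show g⁻¹ x = (π.symm ⟨x, hx⟩ : α) by rw [Perm.inv_eq_iff_eq, this]]
        exact (π.symm ⟨x, hx⟩).2
      rw [Perm.mul_apply, Perm.mul_apply, ((hmemH h).mp hh).2 _ hgi]
      simp
    have hle : P.map (MulAut.conj g).toMonoidHom ≤ H := by
      rintro _ ⟨u, hu, rfl⟩
      exact hgH u (hPH hu)
    let S' : Sylow p H := Sylow.ofCard ((P.map (MulAut.conj g).toMonoidHom).subgroupOf H) (by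
      rw [Nat.card_congr (Subgroup.subgroupOfEquivOfLe hle).toEquiv,
        Subgroup.card_map_of_injective (MulAut.conj g).injective,
        Subgroup.card_map_of_injective H.subtype_injective, S.card_eq_multiplicity])
    obtain ⟨h, hh⟩ := MulAction.exists_smul_eq H S' S
    set n := (h : Perm α) * g with hn
    have hnP : P.map (MulAut.conj n).toMonoidHom = P := by
      refine Subgroup.eq_of_le_of_card_ge ?_ (Subgroup.card_map_of_injective (MulAut.conj n).injective).ge
      rintro _ ⟨u, hu, rfl⟩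
      have hm : (⟨_, hle ⟨u, hu, rfl⟩⟩ : H) ∈ (S' : Subgroup H) := ⟨u, hu, rfl⟩
      have := Subgroup.smul_mem_pointwise_smul _ (MulAut.conj h) _ hm
      replace this : MulAut.conj h ⟨_, hle ⟨u, hu, rfl⟩⟩ ∈ (((h • S' : Sylow p H)) : Subgroup H) := this
      rw [hh] at this
      refine ⟨_, this, ?_⟩
      simp [hn, mul_assoc]
    have hnN : n ∈ N := by
      refine ⟨G.mul_mem h.2.1 hg, Subgroup.mem_normalizer_iff.mpr fun u => ⟨fun hu => ?_, fun hu => ?_⟩⟩
      · rw [← hnP]; exact ⟨u, hu, rfl⟩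
      · rw [← hnP] at hu
        obtain ⟨w, hw, e⟩ := hu
        exact (MulAut.conj n).injective e ▸ hw
    refine ⟨⟨n, hnN⟩, Equiv.ext fun x => Subtype.ext ?_⟩
    show (h : Perm α) (g x) = π x
    rw [hgF x x.2]
    exact ((hmemH h).mp h.2).2 _ (π x).2
  let θ : N →* Perm {O // O ∈ Q} :=
    { toFun := fun n =>
        { toFun := fun O => ⟨O.1.map (n : Perm α).toEmbedding, by
            obtain ⟨a, ha, e⟩ := Finset.mem_image.mp O.2
            rw [Finset.mem_compl] at ha
            refine Finset.mem_image.mpr ⟨(n : Perm α) a, Finset.mem_compl.mpr ((hNF n n.2 a).not.mpr ha), ?_⟩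
            rw [← e]
            refine Eq.symm (Finset.eq_of_subset_of_card_le (fun z hz => ?_) ?_)
            · obtain ⟨w, hw, rfl⟩ := Finset.mem_map.mp hz
              exact hmap n n.2 a w hw
            · rw [Finset.card_map, hsize a ha, hsize _ ((hNF n n.2 a).not.mpr ha)]⟩
          invFun := fun O => ⟨O.1.map ((n⁻¹ : N) : Perm α).toEmbedding, by
            obtain ⟨a, ha, e⟩ := Finset.mem_image.mp O.2
            rw [Finset.mem_compl] at ha
            refine Finset.mem_image.mpr ⟨((n⁻¹ : N) : Perm α) a, Finset.mem_compl.mpr ((hNF _ (n⁻¹).2 a).not.mpr ha), ?_⟩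
            rw [← e]
            refine Eq.symm (Finset.eq_of_subset_of_card_le (fun z hz => ?_) ?_)
            · obtain ⟨w, hw, rfl⟩ := Finset.mem_map.mp hz
              exact hmap _ (n⁻¹).2 a w hw
            · rw [Finset.card_map, hsize a ha, hsize _ ((hNF _ (n⁻¹).2 a).not.mpr ha)]⟩
          left_inv := fun O => Subtype.ext (by
            simp only [Finset.map_map]
            convert Finset.map_refl (s := O.1) using 2
            exact Function.Embedding.ext fun z => by simp)
          right_inv := fun O => Subtype.ext (by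
            simp only [Finset.map_map]
            convert Finset.map_refl (s := O.1) using 2
            exact Function.Embedding.ext fun z => by simp) }
      map_one' := Equiv.ext fun O => Subtype.ext (by
        show O.1.map _ = O.1
        convert Finset.map_refl (s := O.1) using 2
        rfl)
      map_mul' := fun a b => Equiv.ext fun O => Subtype.ext (by
        show O.1.map _ = (O.1.map _).map _
        rw [Finset.map_map]
        rfl) }
  set K := θ.ker with hK
  have hKorb : ∀ n ∈ K, ∀ a, a ∉ F → ((n : N) : Perm α) a ∈ orb a := by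
    intro n hn a ha
    have h := congrArg Subtype.val (Equiv.ext_iff.mp (MonoidHom.mem_ker.mp hn)
      ⟨orb a, Finset.mem_image_of_mem _ (Finset.mem_compl.mpr ha)⟩)
    change (orb a).map ((n : N) : Perm α).toEmbedding = orb a at h
    rw [← h]
    exact Finset.mem_map_of_mem _ (horb_self a)
  have hψK : ∃ g ∈ K, ψ g ≠ 1 := by
    by_contra hc
    push Not at hc
    have h1 := Subgroup.index_dvd_of_le (show K ≤ ψ.ker from fun g hg => MonoidHom.mem_ker.mpr (hc g hg))
    rw [Subgroup.index_ker, Subgroup.index_ker, MonoidHom.range_eq_top_of_surjective ψ hψ, Subgroup.card_top,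
      Nat.card_perm, Nat.card_eq_fintype_card, Fintype.card_coe, hF] at h1
    have h2 := h1.trans (Subgroup.card_subgroup_dvd_card θ.range)
    rw [Nat.card_perm, Nat.card_eq_fintype_card, Fintype.card_coe, hQ] at h2
    exact absurd (Nat.le_of_dvd (Nat.factorial_pos k) h2) (not_le.mpr ((Nat.factorial_lt (by omega)).mpr hrk))
  -- the scalar on an orbit
  let E : N → α → ℕ → Prop := fun g a l => ∀ u ∈ P, ∀ b ∈ orb a,
    ((g : Perm α) * u * (g : Perm α)⁻¹) b = (u ^ l) b
  have hE1 : ∀ g ∈ K, ∀ a, a ∉ F → ∀ σ ∈ P, σ a ≠ a → ∀ l : ℕ,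
      (∀ b ∈ orb a, (((g : N) : Perm α) * σ * ((g : N) : Perm α)⁻¹) b = (σ ^ l) b) → E g a l := by
    intro g hg a ha σ hσ hσa l hl u hu b hb
    obtain ⟨i, hi⟩ := hgen a ha σ hσ hσa u hu
    have hgb : ((g : N) : Perm α)⁻¹ b ∈ orb a := by
      have := hKorb g⁻¹ (K.inv_mem hg) b (horbD a ha b hb)
      rwa [horb_eq a b hb] at this
    have hstep : ∀ j : ℕ, ∀ c ∈ orb a, ((((g : N) : Perm α) * σ * ((g : N) : Perm α)⁻¹) ^ j) c = ((σ ^ l) ^ j) c := by
      intro j
      induction j with
      | zero => intro c _; rfl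
      | succ j ih =>
        intro c hc
        rw [pow_succ, pow_succ, Perm.mul_apply, Perm.mul_apply _ (σ ^ l), hl c hc]
        refine ih _ ?_
        rw [← horb_eq a c hc]
        exact (horb c _).mpr ⟨σ ^ l, P.pow_mem hσ l, rfl⟩
    have hpowu : ∀ j : ℕ, ∀ c ∈ orb a, (u ^ j) c = ((σ ^ i) ^ j) c := by
      intro j
      induction j with
      | zero => intro c _; rfl
      | succ j ih =>
        intro c hc
        rw [pow_succ, pow_succ, Perm.mul_apply, Perm.mul_apply _ (σ ^ i), hi c hc]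
        refine ih _ ?_
        rw [← horb_eq a c hc]
        exact (horb c _).mpr ⟨σ ^ i, P.pow_mem hσ i, rfl⟩
    rw [hpowu l b hb, ← pow_mul, mul_comm, pow_mul, ← hstep i b hb, conj_pow]
    simp only [Perm.mul_apply]
    rw [hi _ hgb]
  have hEex : ∀ g ∈ K, ∀ a, a ∉ F → ∃ l, E g a l := by
    intro g hg a ha
    obtain ⟨σ, hσ, hσa⟩ := hmove a ha
    obtain ⟨l, hl⟩ := hgen a ha σ hσ hσa _ (hnormal g g.2 σ hσ).1
    exact ⟨l, hE1 g hg a ha σ hσ hσa l hl⟩
  let C : Subgroup N := K ⊓ (Subgroup.centralizer (P : Set (Perm α))).comap N.subtype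
  have hCmem : ∀ c : N, c ∈ C ↔ c ∈ K ∧ ∀ u ∈ P, (c : Perm α) * u = u * (c : Perm α) := fun c => by
    simp only [C, Subgroup.mem_inf, Subgroup.mem_comap, Subgroup.mem_centralizer_iff, Subgroup.coe_subtype]
    exact and_congr_right fun _ => ⟨fun h u hu => (h u hu).symm, fun h u hu => (h u hu).symm⟩
  have hfaith : ∀ u ∈ P, ∀ w ∈ P, (∀ a, a ∉ F → u a = w a) → u = w := fun u hu w hw h =>
    Equiv.ext fun a => if ha : a ∈ F then by rw [hPfix u hu a ha, hPfix w hw a ha] else h a ha
  have hpow : ∀ a, a ∉ F → ∀ u ∈ P, ∀ w ∈ P, (∀ b ∈ orb a, u b = w b) → ∀ j : ℕ, ∀ b ∈ orb a,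
      (u ^ j) b = (w ^ j) b := by
    intro a ha u hu w hw h j
    induction j with
    | zero => intro c _; rfl
    | succ j ih =>
      intro c hc
      rw [pow_succ, pow_succ, Perm.mul_apply, Perm.mul_apply, h c hc]
      refine ih _ ?_
      rw [← horb_eq a c hc]
      exact (horb c _).mpr ⟨w, hw, rfl⟩
  -- a commutator centralizes `P` when the two conjugations agree
  have hcent : ∀ g₁ g₂ : N, ⁅g₁, g₂⁆ ∈ K → (∀ u ∈ P, (g₁ : Perm α) * ((g₂ : Perm α) * u * (g₂ : Perm α)⁻¹) * (g₁ : Perm α)⁻¹ =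
      (g₂ : Perm α) * ((g₁ : Perm α) * u * (g₁ : Perm α)⁻¹) * (g₂ : Perm α)⁻¹) → ⁅g₁, g₂⁆ ∈ C := by
    intro g₁ g₂ hcK h
    refine (hCmem _).mpr ⟨hcK, fun u hu => ?_⟩
    have hv := (hnormal (g₂ * g₁ : N) (g₂ * g₁).2 u hu).2
    set v := ((g₂ * g₁ : N) : Perm α)⁻¹ * u * ((g₂ * g₁ : N) : Perm α) with hvdef
    have h1 := h v hv
    have h2 : (g₂ : Perm α) * ((g₁ : Perm α) * v * (g₁ : Perm α)⁻¹) * (g₂ : Perm α)⁻¹ = u := by
      rw [hvdef, Subgroup.coe_mul]; group
    rw [h2] at h1
    rw [← mul_inv_eq_iff_eq_mul]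
    conv_rhs => rw [← h1, hvdef]
    simp [commutatorElement_def, mul_assoc]
  have hcomK : ∀ g₁ ∈ K, ∀ g₂ ∈ K, ⁅g₁, g₂⁆ ∈ C := by
    intro g₁ h₁ g₂ h₂
    have hcK : ⁅g₁, g₂⁆ ∈ K := by
      rw [commutatorElement_def]
      exact K.mul_mem (K.mul_mem (K.mul_mem h₁ h₂) (K.inv_mem h₁)) (K.inv_mem h₂)
    refine hcent g₁ g₂ hcK fun u hu => hfaith _ (hnormal g₁ g₁.2 _ (hnormal g₂ g₂.2 u hu).1).1 _
      (hnormal g₂ g₂.2 _ (hnormal g₁ g₁.2 u hu).1).1 fun a ha => ?_
    obtain ⟨l₁, hl₁⟩ := hEex g₁ h₁ a ha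
    obtain ⟨l₂, hl₂⟩ := hEex g₂ h₂ a ha
    rw [hl₁ _ (hnormal g₂ g₂.2 u hu).1 a (horb_self a), hl₂ _ (hnormal g₁ g₁.2 u hu).1 a (horb_self a),
      hpow a ha _ (hnormal g₂ g₂.2 u hu).1 _ (P.pow_mem hu l₂) (hl₂ u hu) l₁ a (horb_self a),
      hpow a ha _ (hnormal g₁ g₁.2 u hu).1 _ (P.pow_mem hu l₁) (hl₁ u hu) l₂ a (horb_self a),
      ← pow_mul, ← pow_mul, mul_comm]
  have hPcomm : ∀ a, a ∉ F → ∀ u ∈ P, ∀ w ∈ P, u (w a) = w (u a) := by
    intro a ha u hu w hw
    obtain ⟨σ, hσ, hσa⟩ := hmove a ha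
    obtain ⟨i, hi⟩ := hgen a ha σ hσ hσa u hu
    obtain ⟨j, hj⟩ := hgen a ha σ hσ hσa w hw
    rw [hi _ ((horb a _).mpr ⟨w, hw, rfl⟩), hj _ (horb_self a), hj _ ((horb a _).mpr ⟨u, hu, rfl⟩),
      hi _ (horb_self a), ← Perm.mul_apply, ← Perm.mul_apply, ← pow_add, ← pow_add, add_comm]
  have hCcomm : ∀ c₁ ∈ C, ∀ c₂ ∈ C, ∀ a, a ∉ F → (c₁ : Perm α) ((c₂ : Perm α) a) = (c₂ : Perm α) ((c₁ : Perm α) a) := by
    intro c₁ h₁ c₂ h₂ a ha
    rw [hCmem] at h₁ h₂
    obtain ⟨w, hw, ew⟩ := (horb a _).mp (hKorb c₁ h₁.1 a ha)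
    obtain ⟨u, hu, eu⟩ := (horb a _).mp (hKorb c₂ h₂.1 a ha)
    conv_lhs => rw [← eu, ← Perm.mul_apply, h₁.2 u hu, Perm.mul_apply, ← ew]
    conv_rhs => rw [← ew, ← Perm.mul_apply, h₂.2 w hw, Perm.mul_apply, ← eu]
    exact hPcomm a ha u hu w hw
  have hPp' : ∀ u ∈ P, ∀ a, a ∉ F → (u ^ p) a = a := by
    intro u hu a ha
    haveI : (MulAction.stabilizer P a).Normal := ⟨fun g hg w => by
      have hg' : (g : Perm α) a = a := hg
      show (w : Perm α) ((g : Perm α) ((w : Perm α)⁻¹ a)) = a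
      rw [hpt a ha g g.2 hg' _ ((horb a _).mpr ⟨(w : Perm α)⁻¹, P.inv_mem w.2, rfl⟩)]
      exact (w : Perm α).apply_symm_apply a⟩
    have h := Subgroup.pow_index_mem (MulAction.stabilizer P a) (⟨u, hu⟩ : P)
    rw [MulAction.index_stabilizer] at h
    rw [show (MulAction.orbit P a).ncard = p by
      rw [← hsize a ha, ← Set.ncard_coe_finset]
      congr 1
      ext b
      rw [Finset.mem_coe, horb, MulAction.mem_orbit_iff]
      exact ⟨fun ⟨u, e⟩ => ⟨u, u.2, e⟩, fun ⟨u, hu, e⟩ => ⟨⟨u, hu⟩, e⟩⟩] at h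
    exact h
  have hCp : ∀ c ∈ C, ∀ a, a ∉ F → ((c : Perm α) ^ p) a = a := by
    intro c hc a ha
    rw [hCmem] at hc
    obtain ⟨u, hu, eu⟩ := (horb a _).mp (hKorb c hc.1 a ha)
    have h : ∀ j : ℕ, ((c : Perm α) ^ j) a = (u ^ j) a := by
      intro j
      induction j with
      | zero => rfl
      | succ j ih =>
        rw [pow_succ', Perm.mul_apply, ih, ← Perm.mul_apply, hc.2 _ (P.pow_mem hu j), Perm.mul_apply, ← eu,
          ← Perm.mul_apply, ← pow_succ]
    rw [h, hPp' u hu a ha]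
  -- it is enough to find an element moving only points of `F`
  have hfin : ∀ x : N, (∀ a, a ∉ F → (x : Perm α) a = a) → ψ x ≠ 1 → alternatingGroup α ≤ G := by
    intro x hx hψx
    refine small_support G (by omega) hG (by omega) x.2.1 (fun h => hψx ?_) ?_
    · rw [show x = 1 from Subtype.ext h, map_one]
    · refine (Finset.card_le_card (fun z hz => ?_ : (x : Perm α).support ⊆ F)).trans (by omega)
      by_contra hzF
      exact Perm.mem_support.mp hz (hx z hzF)
  obtain ⟨f⟩ : Nonempty (Fin r ↪ {x // x ∈ F}) :=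
    Function.Embedding.nonempty_of_card_le (by rw [Fintype.card_fin, Fintype.card_coe, hF])
  rcases Nat.lt_or_ge r 5 with hr5 | hr5
  swap
  · -- large `r`
    set A := alternatingGroup {x // x ∈ F}
    have hc5 : 5 ≤ Nat.card {x // x ∈ F} := by rw [Nat.card_eq_fintype_card, Fintype.card_coe, hF]; exact hr5
    haveI : (K.map ψ).Normal := Subgroup.Normal.map (MonoidHom.normal_ker θ) ψ hψ
    haveI : Nontrivial (K.map ψ) := by
      obtain ⟨g, hg, hg1⟩ := hψK
      exact ⟨⟨⟨_, g, hg, rfl⟩, 1, fun h => hg1 (congrArg Subtype.val h)⟩⟩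
    have hAK : A ≤ K.map ψ := Perm.alternatingGroup_le_of_normal hc5 inferInstance
    have hf : ∀ {i j : Fin r}, i ≠ j → f i ≠ f j := fun h e => h (f.injective e)
    let a := f ⟨0, by omega⟩
    let b := f ⟨1, by omega⟩
    let c := f ⟨2, by omega⟩
    let d := f ⟨3, by omega⟩
    have hab : a ≠ b := hf (by simp)
    have hac : a ≠ c := hf (by simp)
    have had : a ≠ d := hf (by simp)
    have hbc : b ≠ c := hf (by simp)
    have hbd : b ≠ d := hf (by simp)
    have hcd : c ≠ d := hf (by simp)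
    let s := Equiv.swap a b * Equiv.swap b c
    let t := Equiv.swap a b * Equiv.swap b d
    have hsA : s ∈ A := by simp [A, s, Perm.mem_alternatingGroup, hab, hbc]
    have htA : t ∈ A := by simp [A, t, Perm.mem_alternatingGroup, hab, hbd]
    have hst : s * t ≠ t * s := fun h => by
      have := Perm.congr_fun h a
      simp [s, t, Equiv.swap_apply_of_ne_of_ne, hab, hac, had, hbc, hbd, hcd, hab.symm, hac.symm, had.symm,
        hbc.symm, hbd.symm, hcd.symm] at this
    have hAA : A ≤ ⁅A, A⁆ := by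
      haveI : Nontrivial ↥⁅A, A⁆ := by
        refine ⟨⟨⟨⁅s, t⁆, Subgroup.commutator_mem_commutator hsA htA⟩, 1, fun h => hst ?_⟩⟩
        exact commutatorElement_eq_one_iff_mul_comm.mp (congrArg Subtype.val h)
      exact Perm.alternatingGroup_le_of_normal hc5 inferInstance
    have hAC : A ≤ C.map ψ := by
      refine hAA.trans ((Subgroup.commutator_mono hAK hAK).trans ?_)
      rw [← Subgroup.map_commutator]
      refine Subgroup.map_mono ?_
      rw [Subgroup.commutator_le]
      exact hcomK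
    obtain ⟨c₁, hc₁, e₁⟩ := hAC hsA
    obtain ⟨c₂, hc₂, e₂⟩ := hAC htA
    refine hfin ⁅c₁, c₂⁆ (fun z hz => ?_) fun h => hst ?_
    · have h1 := hCcomm c₁⁻¹ (C.inv_mem hc₁) c₂⁻¹ (C.inv_mem hc₂) z hz
      simp only [commutatorElement_def, Subgroup.coe_mul, Subgroup.coe_inv, Perm.mul_apply] at h1 ⊢
      rw [h1]
      simp
    · rw [map_commutatorElement, e₁, e₂] at h
      exact commutatorElement_eq_one_iff_mul_comm.mp h
  -- small `r`
  have hp5 : 5 ≤ p := by
    rcases (show p = 2 ∨ p = 3 ∨ p = 4 ∨ 5 ≤ p by omega) with h | h | h | h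
    · omega
    · exact absurd ⟨by omega, h⟩ hp3
    · rw [h] at hp; norm_num at hp
    · exact h
  have hcop : ¬ p ∣ r.factorial := fun h => by
    have := (hp.dvd_factorial).mp h
    omega
  have hfin' : ∀ c ∈ C, ψ c ≠ 1 → alternatingGroup α ≤ G := by
    intro c hc h1
    refine hfin (c ^ p) (fun a ha => by rw [SubmonoidClass.coe_pow]; exact hCp c hc a ha) fun h => h1 ?_
    rw [map_pow] at h
    rcases (Nat.dvd_prime hp).mp (orderOf_dvd_of_pow_eq_one h) with h' | h'
    · exact orderOf_eq_one_iff.mp h'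
    · refine absurd ?_ hcop
      have h2 := orderOf_dvd_natCard (ψ c)
      rwa [h', Nat.card_perm, Nat.card_eq_fintype_card, Fintype.card_coe, hF] at h2
  by_cases hnab : ∃ g₁ ∈ K, ∃ g₂ ∈ K, ψ g₁ * ψ g₂ ≠ ψ g₂ * ψ g₁
  · obtain ⟨g₁, h₁, g₂, h₂, h⟩ := hnab
    refine hfin' _ (hcomK g₁ h₁ g₂ h₂) fun h' => h ?_
    rw [map_commutatorElement] at h'
    exact commutatorElement_eq_one_iff_mul_comm.mp h'
  push Not at hnab
  obtain ⟨g, hgK, hg1⟩ := hψK
  by_cases huni : ∃ l : ℕ, ∀ a, a ∉ F → E g a l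
  · obtain ⟨l, hl⟩ := huni
    obtain ⟨t, ht⟩ := perm_noncentral (by rw [Fintype.card_coe, hF]; exact hr3) hg1
    obtain ⟨n, rfl⟩ := hψ t
    have hcK : ⁅g, n⁆ ∈ K := by
      rw [commutatorElement_def, mul_assoc, mul_assoc]
      refine K.mul_mem hgK ?_
      rw [← mul_assoc]
      exact (MonoidHom.normal_ker θ).conj_mem _ (K.inv_mem hgK) n
    have hgl : ∀ u ∈ P, ((g : N) : Perm α) * u * ((g : N) : Perm α)⁻¹ = u ^ l := fun u hu =>
      hfaith _ (hnormal g g.2 u hu).1 _ (P.pow_mem hu l) fun a ha => hl a ha u hu a (horb_self a)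
    refine hfin' _ (hcent g n hcK fun u hu => ?_) fun h' => ht ?_
    · rw [hgl u hu, hgl _ (hnormal n n.2 u hu).1, conj_pow]
    · rw [map_commutatorElement] at h'
      exact commutatorElement_eq_one_iff_mul_comm.mp h'
  push Not at huni
  obtain ⟨a, ha⟩ : ∃ a, a ∉ F := by
    obtain ⟨a, ha⟩ := Finset.card_pos.mp (show 0 < Fᶜ.card by omega)
    exact ⟨a, Finset.mem_compl.mp ha⟩
  have hoQ : ∀ x, x ∉ F → orb x ∈ Q := fun x hx => Finset.mem_image_of_mem _ (Finset.mem_compl.mpr hx)
  -- the difference element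
  let Z : Perm α → ℕ → Perm α := fun u l => ((g : N) : Perm α) * u * ((g : N) : Perm α)⁻¹ * (u ^ l)⁻¹
  have hZP : ∀ u ∈ P, ∀ l, Z u l ∈ P := fun u hu l =>
    P.mul_mem (hnormal g g.2 u hu).1 (P.inv_mem (P.pow_mem hu l))
  have hZE : ∀ x, x ∉ F → ∀ l, E g x l → ∀ u ∈ P, ∀ y ∈ orb x, Z u l y = y := by
    intro x hx l hl u hu y hy
    show (((g : N) : Perm α) * u * ((g : N) : Perm α)⁻¹) ((u ^ l)⁻¹ y) = y
    rw [hl u hu]
    · simp
    · rw [← horb_eq x y hy]; exact (horb y _).mpr ⟨_, P.inv_mem (P.pow_mem hu l), rfl⟩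
  have hZtriv : ∀ x, x ∉ F → ∀ u ∈ P, (∀ y ∈ orb x, u y = y) → ∀ l, ∀ y ∈ orb x, Z u l y = y := by
    intro x hx u hu h l y hy
    have hl' : ∀ j : ℕ, (u ^ j) y = y := fun j => Perm.pow_apply_eq_self_of_apply_eq_self (h y hy) j
    show (((g : N) : Perm α) * u * ((g : N) : Perm α)⁻¹) ((u ^ l)⁻¹ y) = y
    rw [show (u ^ l)⁻¹ y = y by rw [Perm.inv_eq_iff_eq]; exact (hl' l).symm, Perm.mul_apply, Perm.mul_apply, h]
    · simp
    · have := hKorb g⁻¹ (K.inv_mem hgK) y (horbD x hx y hy)
      rwa [horb_eq x y hy] at this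
  have hZone : ∀ u ∈ P, ∀ l, Z u l = 1 → ∀ x, x ∉ F → ¬ (∀ y ∈ orb x, u y = y) → E g x l := by
    intro u hu l h x hx hne
    push Not at hne
    obtain ⟨y, hy, hy'⟩ := hne
    have hEy : E g y l := hE1 g hgK y (horbD x hx y hy) u hu hy' l fun b _ => by
      rw [mul_inv_eq_one.mp h]
    intro w hw b hb
    exact hEy w hw b ((horb_eq x y hy).symm ▸ hb)
  have hsingle : ∀ u ∈ P, u ≠ 1 → ∀ x, x ∉ F → (∀ O ∈ Q, O ≠ orb x → ∀ y ∈ O, u y = y) →
      alternatingGroup α ≤ G := fun u hu hu1 x hx h => hcycle u hu hu1 x hx fun y hy => by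
    by_contra hyx
    have hyF : y ∉ F := fun hyF => Perm.mem_support.mp hy (hPfix u hu y hyF)
    exact Perm.mem_support.mp hy (h (orb y) (hoQ y hyF) (fun e => hyx (e ▸ horb_self y)) y (horb_self y))
  obtain ⟨la, hla⟩ := hEex g hgK a ha
  obtain ⟨b', hb', hb'E⟩ := huni la
  obtain ⟨u, hu, hZu⟩ : ∃ u ∈ P, Z u la ≠ 1 := by
    by_contra hc
    push Not at hc
    obtain ⟨σ, hσ, hσb⟩ := hmove b' hb'
    exact hb'E (hZone σ hσ la (hc σ hσ) b' hb' (fun h => hσb (h b' (horb_self b'))))
  set v := Z u la with hv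
  have hvP : v ∈ P := hZP u hu la
  have hva : ∀ y ∈ orb a, v y = y := hZE a ha la hla u hu
  obtain ⟨b, hb, hvb⟩ : ∃ b, b ∉ F ∧ v b ≠ b := by
    by_contra hc; push Not at hc
    exact hZu (Equiv.ext fun y => if hy : y ∈ F then hPfix v hvP y hy else hc y hy)
  have hob : orb b ≠ orb a := fun h => hvb (hva b (h ▸ horb_self b))
  by_cases h2 : ∀ O ∈ Q, O ≠ orb b → O = orb a
  · exact hsingle v hvP hZu b hb fun O hO hne y hy => hva y (h2 O hO hne ▸ hy)
  push Not at h2
  obtain ⟨O, hO, hOb, hOa⟩ := h2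
  obtain ⟨c, hc, rfl⟩ := Finset.mem_image.mp hO
  rw [Finset.mem_compl] at hc
  have hk3 : k = 3 := by
    have h3 : ({orb a, orb b, orb c} : Finset (Finset α)).card = 3 := by
      rw [Finset.card_insert_of_notMem (by simp [hob.symm, Ne.symm hOa]),
        Finset.card_pair (Ne.symm hOb)]
    have := Finset.card_le_card (show ({orb a, orb b, orb c} : Finset (Finset α)) ⊆ Q from fun O hO => by
      simp only [Finset.mem_insert, Finset.mem_singleton] at hO
      rcases hO with rfl | rfl | rfl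
      · exact hoQ a ha
      · exact hoQ b hb
      · exact hoQ c hc)
    omega
  have hQ3 : ∀ O ∈ Q, O = orb a ∨ O = orb b ∨ O = orb c := by
    have h := Finset.eq_of_subset_of_card_le (show ({orb a, orb b, orb c} : Finset (Finset α)) ⊆ Q from fun O hO => by
      simp only [Finset.mem_insert, Finset.mem_singleton] at hO
      rcases hO with rfl | rfl | rfl
      · exact hoQ a ha
      · exact hoQ b hb
      · exact hoQ c hc) (by
      rw [hQ, hk3, Finset.card_insert_of_notMem (by simp [hob.symm, Ne.symm hOa]),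
        Finset.card_pair (Ne.symm hOb)])
    intro O hO
    rw [← h] at hO
    simpa using hO
  by_cases hvc : ∀ y ∈ orb c, v y = y
  · refine hsingle v hvP hZu b hb fun O hO hne y hy => ?_
    rcases hQ3 O hO with rfl | rfl | rfl
    · exact hva y hy
    · exact absurd rfl hne
    · exact hvc y hy
  -- some element of the normalizer moves the first orbit
  obtain ⟨n, hn⟩ : ∃ n : N, (n : Perm α) a ∉ orb a := by
    by_contra hcon
    push Not at hcon
    have hr4 : r = 4 := by omega
    subst hr4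
    let a1 := f 0
    let a2 := f 1
    let a3 := f 2
    let a4 := f 3
    have hd : ∀ {i j : Fin 4}, i ≠ j → f i ≠ f j := fun h e => h (f.injective e)
    have h12 : a1 ≠ a2 := hd (by decide)
    have h13 : a1 ≠ a3 := hd (by decide)
    have h14 : a1 ≠ a4 := hd (by decide)
    have h23 : a2 ≠ a3 := hd (by decide)
    have h24 : a2 ≠ a4 := hd (by decide)
    have h34 : a3 ≠ a4 := hd (by decide)
    have hsq : ∀ m : N, m * m ∈ K := by
      intro m
      refine MonoidHom.mem_ker.mpr ?_
      rw [map_mul]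
      have hfix : θ m ⟨orb a, hoQ a ha⟩ = ⟨orb a, hoQ a ha⟩ := Subtype.ext (by
        show (orb a).map (m : Perm α).toEmbedding = orb a
        refine Finset.eq_of_subset_of_card_le (fun z hz => ?_) (by rw [Finset.card_map])
        obtain ⟨w, hw, rfl⟩ := Finset.mem_map.mp hz
        have := hmap m m.2 a w hw
        rwa [horb_eq a _ (hcon m)] at this)
      set σ := θ m
      set A : {O // O ∈ Q} := ⟨orb a, hoQ a ha⟩
      have hsub : σ.support ⊆ Finset.univ.erase A := fun z hz =>
        Finset.mem_erase.mpr ⟨fun h => Perm.mem_support.mp hz (h ▸ hfix), Finset.mem_univ _⟩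
      have hle := Finset.card_le_card hsub
      rw [Finset.card_erase_of_mem (Finset.mem_univ _), Finset.card_univ, Fintype.card_coe, hQ, hk3] at hle
      by_cases hσ : σ = 1
      · rw [hσ, one_mul]
      have h0 : σ.support.card ≠ 0 := fun h => hσ (Perm.card_support_eq_zero.mp h)
      have h1 := Perm.card_support_ne_one σ
      obtain ⟨x, y, -, e⟩ := Perm.card_support_eq_two.mp (show σ.support.card = 2 by omega)
      rw [e, Equiv.swap_mul_self]
    have h3c : ∀ s : Perm {x // x ∈ F}, s.IsThreeCycle → ∃ m ∈ K, ψ m = s := by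
      intro s hs
      obtain ⟨m, hm⟩ := hψ (s * s)
      refine ⟨m * m, hsq m, ?_⟩
      have h3 : s ^ 3 = 1 := hs.orderOf ▸ pow_orderOf_eq_one s
      rw [map_mul, hm, show s * s * (s * s) = s ^ 3 * s by simp only [pow_succ, pow_zero, one_mul, mul_assoc],
        h3, one_mul]
    obtain ⟨m₁, hm₁, e₁⟩ := h3c _ (Perm.isThreeCycle_swap_mul_swap_same h12 h13 h23)
    obtain ⟨m₂, hm₂, e₂⟩ := h3c _ (Perm.isThreeCycle_swap_mul_swap_same h12 h14 h24)
    have := hnab m₁ hm₁ m₂ hm₂
    rw [e₁, e₂] at this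
    have := Perm.congr_fun this a1
    simp [Equiv.swap_apply_of_ne_of_ne, h12, h13, h14, h23, h24, h34, h12.symm, h13.symm, h14.symm,
      h23.symm, h24.symm, h34.symm] at this
  set w := (n : Perm α) * v * (n : Perm α)⁻¹ with hw
  have hwP : w ∈ P := (hnormal n n.2 v hvP).1
  have hw1 : w ≠ 1 := fun h => hZu (by rwa [hw, conj_eq_one_iff] at h)
  set j := (n : Perm α) a with hj
  have hjF : j ∉ F := (hNF n n.2 a).not.mpr ha
  have hwj : ∀ y ∈ orb j, w y = y := by
    intro y hy
    have h1 := hmap _ (n⁻¹).2 j y hy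
    rw [show ((n⁻¹ : N) : Perm α) j = a by simp [hj]] at h1
    have h2 := hva _ h1
    simp only [Subgroup.coe_inv] at h2
    rw [hw, Perm.mul_apply, Perm.mul_apply, h2]
    simp
  have hja : orb j ≠ orb a := fun h => hn (h ▸ horb_self j)
  obtain ⟨l, hl, hlj, hla', hall⟩ : ∃ l, l ∉ F ∧ orb l ≠ orb j ∧ orb l ≠ orb a ∧
      ∀ O ∈ Q, O = orb a ∨ O = orb j ∨ O = orb l := by
    rcases hQ3 (orb j) (hoQ j hjF) with h | h | h
    · exact absurd h hja
    · exact ⟨c, hc, h ▸ hOb, hOa, fun O hO => h ▸ hQ3 O hO⟩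
    · exact ⟨b, hb, h ▸ Ne.symm hOb, hob, fun O hO => by
        rcases hQ3 O hO with e | e | e
        · exact Or.inl e
        · exact Or.inr (Or.inr e)
        · exact Or.inr (Or.inl (e.trans h.symm))⟩
  obtain ⟨lj, hlj⟩ := hEex g hgK j hjF
  have hvl : ¬ ∀ y ∈ orb l, v y = y := by
    rcases hQ3 (orb l) (hoQ l hl) with h | h | h
    · exact absurd h hla'
    · exact fun h' => hvb (h' b (h ▸ horb_self b))
    · rwa [h]
  by_cases hz1 : Z v lj = 1
  swap
  · refine hsingle _ (hZP v hvP lj) hz1 l hl fun O hO hne y hy => ?_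
    rcases hall O hO with rfl | rfl | rfl
    · exact hZtriv a ha v hvP hva lj y hy
    · exact hZE j hjF lj hlj v hvP y hy
    · exact absurd rfl hne
  have hEl := hZone v hvP lj hz1 l hl hvl
  by_cases hz2 : Z w lj = 1
  swap
  · refine hsingle _ (hZP w hwP lj) hz2 a ha fun O hO hne y hy => ?_
    rcases hall O hO with rfl | rfl | rfl
    · exact absurd rfl hne
    · exact hZtriv j hjF w hwP hwj lj y hy
    · exact hZE l hl lj hEl w hwP y hy
  by_cases hwa : ∀ y ∈ orb a, w y = y
  · refine hsingle w hwP hw1 l hl fun O hO hne y hy => ?_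
    rcases hall O hO with rfl | rfl | rfl
    · exact hwa y hy
    · exact hwj y hy
    · exact absurd rfl hne
  have hEa := hZone w hwP lj hz2 a ha hwa
  obtain ⟨x, hx, hxE⟩ := huni lj
  refine absurd ?_ hxE
  intro u' hu' y hy
  rcases hall (orb x) (hoQ x hx) with h | h | h
  · exact hEa u' hu' y (h ▸ hy)
  · exact hlj u' hu' y (h ▸ hy)
  · exact hEl u' hu' y (h ▸ hy)

end Cfsg.Agent.S4220
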