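import Cfsg.Statements.S4222

set_option maxHeartbeats 1000000
set_option maxRecDepth 8000

set_option autoImplicit false
open Cfsg

namespace Cfsg.Agent.S4222

/-- If a normal subgroup `N` of a finite group is complete (its centre is trivial and every automorphism of `N` is inner), then the group is the internal direct product of `N` and the centralizer of `N`: the centralizer is a complement to `N`. -/
theorem result {T : Type*} [Group T] [Finite T] (N : Subgroup T) [N.Normal] (hz : Subgroup.center ↥N = ⊥) (ha : Function.Surjective (MulAut.conj : ↥N →* MulAut ↥N)) : (Subgroup.centralizer (N : Set T)).IsComplement' N := by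
  set C := Subgroup.centralizer (N : Set T)
  have hdisj : C ⊓ N = ⊥ := by
    refine (Subgroup.eq_bot_iff_forall _).mpr fun x hx => ?_
    have : (⟨x, (Subgroup.mem_inf.mp hx).2⟩ : N) ∈ Subgroup.center N := Subgroup.mem_center_iff.mpr fun y =>
      Subtype.ext (Subgroup.mem_centralizer_iff.mp (Subgroup.mem_inf.mp hx).1 y y.2)
    rw [hz, Subgroup.mem_bot] at this
    exact congrArg Subtype.val this
  refine Subgroup.isComplement'_of_disjoint_and_mul_eq_univ (disjoint_iff.mpr hdisj) ?_
  refine Set.eq_univ_of_forall fun t => ?_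
  obtain ⟨n, hn⟩ := ha (MulAut.conjNormal t)
  refine ⟨t * (n : T)⁻¹, ?_, (n : T), n.2, by group⟩
  refine Subgroup.mem_centralizer_iff.mpr fun y hy => ?_
  have h1 := fun w : N => congrArg Subtype.val (DFunLike.congr_fun hn w)
  simp only [MulAut.conj_apply, MulAut.conjNormal_apply, Subgroup.coe_mul, Subgroup.coe_inv] at h1
  obtain ⟨w, hw⟩ : ∃ w : N, (n : T) * w * (n : T)⁻¹ = y :=
    ⟨⟨(n : T)⁻¹ * y * n, N.mul_mem (N.mul_mem (N.inv_mem n.2) hy) n.2⟩, by group⟩
  calc y * (t * (n : T)⁻¹) = ((n : T) * w * (n : T)⁻¹) * t * (n : T)⁻¹ := by rw [hw]; group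
    _ = (t * w * t⁻¹) * t * (n : T)⁻¹ := by rw [h1 w]
    _ = t * (n : T)⁻¹ * ((n : T) * w * (n : T)⁻¹) := by group
    _ = t * (n : T)⁻¹ * y := by rw [hw]

end Cfsg.Agent.S4222
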