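import Cfsg.Statements.S4223
import Mathlib

set_option maxHeartbeats 1000000
set_option maxRecDepth 8000

set_option autoImplicit false
open Cfsg

namespace Cfsg.Agent.S4223

universe u v w x

/-- Directly indecomposable and nontrivial. -/
def Indec (A : Type*) [Group A] : Prop :=
  Nontrivial A ∧ ∀ H K : Subgroup A, H.Normal → K.Normal → H ⊓ K = ⊥ → H ⊔ K = ⊤ → H = ⊥ ∨ K = ⊥

/-- An endomorphism commuting with inner automorphisms. -/
def IsNormalHom {A : Type*} [Group A] (f : A →* A) : Prop := ∀ g y : A, f (g * y * g⁻¹) = g * f y * g⁻¹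

/-- Fitting's dichotomy. -/
theorem fitting {A : Type*} [Group A] [Finite A] (hA : Indec A) (f : A →* A) (hf : IsNormalHom f) :
    Function.Injective f ∨ ∃ k, ∀ y, f^[k] y = 1 := by
  classical
  let F : ℕ → A →* A := fun k => ((show Monoid.End A from f) ^ k : Monoid.End A)
  have hF : ∀ k y, F k y = f^[k] y := fun k y => congrFun (Monoid.End.coe_pow A (show Monoid.End A from f) k) y
  have hFn : ∀ k, IsNormalHom (F k) := by
    intro k
    induction k with
    | zero => intro g y; simp only [hF, Function.iterate_zero_apply]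
    | succ k ih =>
      intro g y
      have h1 := ih g y
      simp only [hF] at h1
      simp only [hF, Function.iterate_succ_apply', h1]
      exact hf _ _
  obtain ⟨k, -, hk⟩ := ((Set.toFinite (Set.range fun k => (F k).ker)).exists_le_maximal
    (a := (F 0).ker) ⟨0, rfl⟩)
  obtain ⟨⟨k₀, rfl⟩, hmax⟩ := hk
  have hle : ∀ j, (F (k₀ + j)).ker ≤ (F k₀).ker := by
    intro j
    refine hmax ⟨k₀ + j, rfl⟩ fun y hy => ?_
    change F k₀ y = 1 at hy
    rw [hF] at hy
    show F (k₀ + j) y = 1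
    rw [hF, add_comm, Function.iterate_add_apply, hy, ← hF j, map_one]
  have hrn : (F k₀).range.Normal := ⟨by
    rintro _ ⟨y, rfl⟩ g
    exact ⟨g * y * g⁻¹, hFn k₀ g y⟩⟩
  have hinf : (F k₀).range ⊓ (F k₀).ker = ⊥ := by
    rw [eq_bot_iff]
    rintro _ ⟨⟨z, rfl⟩, hz⟩
    refine Subgroup.mem_bot.2 ?_
    change F k₀ (F k₀ z) = 1 at hz
    refine hle k₀ ?_
    show F (k₀ + k₀) z = 1
    rw [hF, Function.iterate_add_apply, ← hF k₀ z, ← hF k₀]
    exact hz
  have hsup : (F k₀).range ⊔ (F k₀).ker = ⊤ := by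
    apply Subgroup.eq_top_of_card_eq
    refine le_antisymm (Subgroup.card_le_card_group _) ?_
    have h1 : Nat.card A = Nat.card (F k₀).range * Nat.card (F k₀).ker := by
      rw [← Subgroup.index_ker, mul_comm, Subgroup.card_mul_index]
    rw [h1]
    have hd : Disjoint (F k₀).range (F k₀).ker := disjoint_iff.2 hinf
    have hcs : Nat.card ((F k₀).range × (F k₀).ker) ≤ Nat.card ↥((F k₀).range ⊔ (F k₀).ker) := by
      refine Nat.card_le_card_of_injective (fun z => ⟨(z.1 : A) * z.2, Subgroup.mul_mem_sup z.1.2 z.2.2⟩) ?_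
      intro z z' h
      exact Subgroup.mul_injective_of_disjoint hd (congrArg Subtype.val h)
    rwa [Nat.card_prod] at hcs
  rcases hA.2 _ _ hrn inferInstance hinf hsup with h | h
  · right
    refine ⟨k₀, fun y => ?_⟩
    rw [← hF]
    exact Subgroup.mem_bot.1 (h ▸ ⟨y, rfl⟩ : F k₀ y ∈ (⊥ : Subgroup A))
  · left
    rw [← MonoidHom.ker_eq_bot_iff, eq_bot_iff]
    intro y hy
    rw [← h]
    refine hle 1 ?_
    show F (k₀ + 1) y = 1
    rw [hF, Function.iterate_succ_apply, MonoidHom.mem_ker.1 hy, ← hF k₀, map_one]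

/-- If a pointwise product of two normal endomorphisms is bijective, one of them is injective. -/
theorem injective_or_injective {A : Type*} [Group A] [Finite A] (hA : Indec A) (f g : A →* A)
    (hf : IsNormalHom f) (h : ∀ y, f y * g y = y) : Function.Injective f ∨ Function.Injective g := by
  rcases fitting hA f hf with hi | ⟨k, hk⟩
  · exact Or.inl hi
  · right
    rw [injective_iff_map_eq_one]
    intro y hy
    have h1 : f y = y := by have := h y; rwa [hy, mul_one] at this
    have h2 : ∀ j, f^[j] y = y := fun j => Function.iterate_fixed h1 j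
    rw [← h2 k]; exact hk y

/-- Splitting from a retraction pair. -/
theorem split_of_retraction {A B : Type*} [Group A] [Group B] [Finite B] (a : A →* B) (b : B →* A)
    (han : a.range.Normal) (hba : Function.Injective fun y => b (a y)) [Finite A] :
    a.range ⊓ b.ker = ⊥ ∧ a.range ⊔ b.ker = ⊤ ∧
      ∃ θ : A × b.ker ≃* B, ∀ y, θ (y, 1) = a y := by
  have hinf : a.range ⊓ b.ker = ⊥ := by
    rw [eq_bot_iff]
    rintro _ ⟨⟨y, rfl⟩, hy⟩
    have : y = 1 := hba (show b (a y) = b (a 1) by simpa using hy)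
    simp [this]
  have hbij : Function.Bijective fun y => b (a y) := Finite.injective_iff_bijective.1 hba
  have hcomm : ∀ y ∈ a.range, ∀ z ∈ b.ker, Commute y z := fun y hy z hz =>
    Subgroup.commute_of_normal_of_disjoint _ _ han inferInstance (disjoint_iff.2 hinf) y z hy hz
  let θ₀ : A × b.ker →* B :=
    { toFun := fun z => a z.1 * z.2
      map_one' := by simp
      map_mul' := fun z z' => by
        show a (z.1 * z'.1) * ((z.2 * z'.2 : b.ker) : B) = _
        rw [map_mul, Subgroup.coe_mul, mul_assoc, mul_assoc, ← mul_assoc (a z'.1), ← mul_assoc (z.2 : B),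
          (hcomm (a z'.1) ⟨_, rfl⟩ (z.2 : B) z.2.2).eq] }
  have hinj : Function.Injective θ₀ := by
    rw [injective_iff_map_eq_one]
    rintro ⟨y, z⟩ h
    have h' : a y * (z : B) = 1 := h
    have hy : y = 1 := hba (show b (a y) = b (a 1) by
      have h2 := congrArg b h'
      rw [map_mul, MonoidHom.mem_ker.1 z.2, mul_one, map_one] at h2
      rw [h2, map_one, map_one])
    subst hy
    rw [map_one, one_mul] at h'
    exact Prod.ext rfl (Subtype.ext h')
  have hsurj : Function.Surjective θ₀ := by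
    intro w
    obtain ⟨y, hy⟩ := hbij.2 (b w)
    refine ⟨(y, ⟨(a y)⁻¹ * w, ?_⟩), ?_⟩
    · have hy' : b (a y) = b w := hy
      rw [MonoidHom.mem_ker, map_mul, map_inv, hy', inv_mul_cancel]
    · show a y * ((a y)⁻¹ * w) = w
      rw [mul_inv_cancel_left]
  refine ⟨hinf, ?_, MulEquiv.ofBijective θ₀ ⟨hinj, hsurj⟩, fun y => ?_⟩
  · rw [eq_top_iff]
    intro w _
    obtain ⟨⟨y, z⟩, rfl⟩ := hsurj w
    exact Subgroup.mul_mem_sup ⟨y, rfl⟩ z.2
  · show a y * ((1 : b.ker) : B) = a y
    simp

/-- Cancellation when the first components match bijectively. -/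
theorem cancel_first {A A' B C : Type*} [Group A] [Group A'] [Group B] [Group C] [Finite A] [Finite A']
    [Finite B] [Finite C] (e : A × A' ≃* B × C) (i : A ≃* B)
    (hb : Function.Injective fun y : B => (e.symm (y, 1)).1) : Nonempty (A' ≃* C) := by
  let f : A' →* C := (MonoidHom.snd B C).comp (e.toMonoidHom.comp (MonoidHom.inr A A'))
  have hinj : Function.Injective f := by
    rw [injective_iff_map_eq_one]
    intro y hy
    have h1 : e (1, y) = ((e (1, y)).1, 1) := Prod.ext rfl hy
    have h2 : (e (1, y)).1 = 1 := hb (by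
      show (e.symm ((e (1, y)).1, 1)).1 = (e.symm ((1 : B), (1 : C))).1
      rw [← h1, MulEquiv.symm_apply_apply, show ((1 : B), (1 : C)) = 1 from rfl, map_one]
      rfl)
    rw [h2] at h1
    have h3 : ((1 : A), y) = 1 := e.injective (h1.trans (map_one e).symm)
    exact congrArg Prod.snd h3
  have hc : Nat.card A' = Nat.card C := by
    have h := Nat.card_congr e.toEquiv
    rw [Nat.card_prod, Nat.card_prod, ← Nat.card_congr i.toEquiv] at h
    exact Nat.eq_of_mul_eq_mul_left Nat.card_pos h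
  exact ⟨MulEquiv.ofBijective f ⟨hinj, ((Nat.bijective_iff_injective_and_card f).2 ⟨hinj, hc⟩).2⟩⟩

/-- One step of the exchange. -/
theorem step {A : Type u} {A' : Type v} {B : Type w} {C : Type x} [Group A] [Group A'] [Group B] [Group C]
    [Finite A] [Finite A'] [Finite B] [Finite C] (hA : Indec A) (hB : Indec B) (e : A × A' ≃* B × C) :
    (Nonempty (A ≃* B) ∧ Nonempty (A' ≃* C)) ∨
      ∃ (K : Subgroup C), Nonempty (A × K ≃* C) ∧ Nonempty (A' ≃* B × K) := by
  classical
  let aB : A →* B := (MonoidHom.fst B C).comp (e.toMonoidHom.comp (MonoidHom.inl A A'))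
  let bB : B →* A := (MonoidHom.fst A A').comp (e.symm.toMonoidHom.comp (MonoidHom.inl B C))
  let aC : A →* C := (MonoidHom.snd B C).comp (e.toMonoidHom.comp (MonoidHom.inl A A'))
  let bC : C →* A := (MonoidHom.fst A A').comp (e.symm.toMonoidHom.comp (MonoidHom.inr B C))
  have hsum : ∀ y, bB (aB y) * bC (aC y) = y := by
    intro y
    show (e.symm ((e (y, 1)).1, 1)).1 * (e.symm (1, (e (y, 1)).2)).1 = y
    rw [← Prod.fst_mul, ← map_mul]
    simp
  have hAn : ∀ (D : Type (max w x)) [Group D] (π : A × A' →* D), Function.Surjective π →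
      (π.comp (MonoidHom.inl A A')).range.Normal := by
    intro D _ π hπ
    refine ⟨?_⟩
    rintro _ ⟨y, rfl⟩ g
    obtain ⟨⟨g1, g2⟩, rfl⟩ := hπ g
    refine ⟨g1 * y * g1⁻¹, ?_⟩
    show π (g1 * y * g1⁻¹, 1) = π (g1, g2) * π (y, 1) * (π (g1, g2))⁻¹
    rw [← map_inv, ← map_mul, ← map_mul]
    congr 1
    simp
  have hnB : aB.range.Normal := by
    refine ⟨?_⟩
    rintro _ ⟨y, rfl⟩ g
    refine ⟨(e.symm (g, 1)).1 * y * (e.symm (g, 1)).1⁻¹, ?_⟩
    have h1 : (((e.symm (g, 1)).1 * y * (e.symm (g, 1)).1⁻¹, 1) : A × A') =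
        e.symm (g, 1) * (y, 1) * (e.symm (g, 1))⁻¹ := by ext <;> simp
    show (e (_, 1)).1 = g * (e (y, 1)).1 * g⁻¹
    rw [h1, map_mul, map_mul, map_inv, MulEquiv.apply_symm_apply]
    rfl
  have hnC : aC.range.Normal := by
    refine ⟨?_⟩
    rintro _ ⟨y, rfl⟩ g
    refine ⟨(e.symm (1, g)).1 * y * (e.symm (1, g)).1⁻¹, ?_⟩
    have h1 : (((e.symm (1, g)).1 * y * (e.symm (1, g)).1⁻¹, 1) : A × A') =
        e.symm (1, g) * (y, 1) * (e.symm (1, g))⁻¹ := by ext <;> simp
    show (e (_, 1)).2 = g * (e (y, 1)).2 * g⁻¹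
    rw [h1, map_mul, map_mul, map_inv, MulEquiv.apply_symm_apply]
    rfl
  have hnorm : IsNormalHom (bB.comp aB) := by
    intro g y
    have h1 : ((g * y * g⁻¹, 1) : A × A') = (g, 1) * (y, 1) * (g, 1)⁻¹ := by ext <;> simp
    show (e.symm ((e (g * y * g⁻¹, 1)).1, 1)).1 = g * (e.symm ((e (y, 1)).1, 1)).1 * g⁻¹
    have h2 : (((e (g * y * g⁻¹, 1)).1, 1) : B × C) =
        e (g, 1) * ((e (y, 1)).1, 1) * (e (g, 1))⁻¹ := by
      rw [h1, map_mul, map_mul, map_inv]
      ext <;> simp
    rw [h2, map_mul, map_mul, map_inv, MulEquiv.symm_apply_apply]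
    rfl
  rcases injective_or_injective hA (bB.comp aB) (bC.comp aC) hnorm hsum with h | h
  · left
    obtain ⟨hi, hs, θ, hθ⟩ := split_of_retraction aB bB hnB h
    have haB : Function.Injective aB := fun y z hyz => h (show bB (aB y) = bB (aB z) by rw [hyz])
    rcases hB.2 _ _ hnB inferInstance hi hs with h0 | h0
    · exfalso
      obtain ⟨y, z, hyz⟩ := hA.1
      refine hyz (haB ?_)
      have : ∀ t, aB t = 1 := fun t => Subgroup.mem_bot.1 (h0 ▸ ⟨t, rfl⟩ : aB t ∈ (⊥ : Subgroup B))
      rw [this, this]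
    · have hsurj : Function.Surjective aB := by
        rw [← MonoidHom.range_eq_top, ← hs, h0, sup_bot_eq]
      let i : A ≃* B := MulEquiv.ofBijective aB ⟨haB, hsurj⟩
      exact ⟨⟨i⟩, cancel_first e i ((MonoidHom.ker_eq_bot_iff bB).1 h0)⟩
  · right
    obtain ⟨hi, hs, θ, hθ⟩ := split_of_retraction aC bC hnC h
    refine ⟨bC.ker, ⟨θ⟩, ?_⟩
    -- move the copy of `A` to the front
    let sh : B × C ≃* A × (B × bC.ker) :=
      { toFun := fun z => ((θ.symm z.2).1, (z.1, (θ.symm z.2).2))
        invFun := fun z => (z.2.1, θ (z.1, z.2.2))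
        left_inv := fun z => by simp
        right_inv := fun z => by simp
        map_mul' := fun z z' => by simp }
    refine cancel_first (e.trans sh) (MulEquiv.refl A) fun y z hyz => h ?_
    have hev : ∀ t : A, (e.symm (sh.symm (t, 1))).1 = bC (aC t) := fun t => by
      show (e.symm ((1 : B), θ (t, (1 : bC.ker)))).1 = _
      rw [hθ]; rfl
    have h' : (e.symm (sh.symm (y, 1))).1 = (e.symm (sh.symm (z, 1))).1 := hyz
    rw [hev, hev] at h'
    exact h'

/-- Splitting off the first coordinate. -/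
def consMul {n : ℕ} (B : Fin (n + 1) → Type*) [∀ i, Group (B i)] :
    ((i : Fin (n + 1)) → B i) ≃* B 0 × ((i : Fin n) → B i.succ) :=
  { toFun := fun f => (f 0, fun i => f i.succ)
    invFun := fun z => Fin.cons z.1 z.2
    left_inv := fun f => Fin.cons_self_tail f
    right_inv := fun z => by simp
    map_mul' := fun f g => rfl }

/-- Recombining after removing a successor coordinate. -/
theorem cons_succAbove {n : ℕ} {B : Fin (n + 2) → Type*} [∀ i, Group (B i)] (j : Fin (n + 1)) :
    Nonempty (B 0 × ((i : Fin n) → B (j.succAbove i).succ) ≃* ((i : Fin (n + 1)) → B (j.succ.succAbove i))) := by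
  have key : ∀ a b : Fin (n + 2), a = b → Nonempty (B a ≃* B b) := by rintro a b rfl; exact ⟨MulEquiv.refl _⟩
  obtain ⟨e0⟩ := key 0 (j.succ.succAbove 0) (Fin.succ_succAbove_zero j).symm
  let es : ∀ i : Fin n, B (j.succAbove i).succ ≃* B (j.succ.succAbove i.succ) := fun i =>
    (key _ _ (Fin.succ_succAbove_succ j i).symm).some
  exact ⟨(e0.prodCongr (MulEquiv.piCongrRight es)).trans (consMul fun i => B (j.succ.succAbove i)).symm⟩

/-- Exchange against a product of indecomposables, first factor in the universe of the product. -/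
theorem exchange_aux {A : Type u} [Group A] [Finite A] (hA : Indec A) : ∀ (n : ℕ) (B : Fin (n + 1) → Type w)
    [∀ i, Group (B i)] [∀ i, Finite (B i)], (∀ i, Indec (B i)) → ∀ (A' : Type w) [Group A'] [Finite A'],
    (A × A' ≃* ((i : Fin (n + 1)) → B i)) →
    ∃ j, Nonempty (A ≃* B j) ∧ Nonempty (A' ≃* ((i : Fin n) → B (j.succAbove i))) := by
  intro n
  induction n with
  | zero =>
    intro B _ _ hB A' _ _ e
    rcases step hA (hB 0) (e.trans (consMul B)) with ⟨h1, h2⟩ | ⟨K, ⟨θ⟩, -⟩
    · exact ⟨0, h1, h2⟩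
    · exfalso
      obtain ⟨y, z, hyz⟩ := hA.1
      exact hyz (congrArg Prod.fst (θ.injective (a₁ := (y, 1)) (a₂ := (z, 1)) (Subsingleton.elim _ _)))
  | succ n ih =>
    intro B _ _ hB A' _ _ e
    rcases step hA (hB 0) (e.trans (consMul B)) with ⟨h1, h2⟩ | ⟨K, ⟨θ⟩, ⟨e'⟩⟩
    · exact ⟨0, h1, h2⟩
    · obtain ⟨j, hj, ⟨ej⟩⟩ := ih (fun i => B i.succ) (fun i => hB i.succ) K θ
      obtain ⟨ec⟩ := cons_succAbove (B := B) j
      exact ⟨j.succ, hj, ⟨e'.trans (((MulEquiv.refl (B 0)).prodCongr ej).trans ec)⟩⟩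

/-- Exchange against a product of indecomposables. -/
theorem exchange {A : Type u} [Group A] [Finite A] (hA : Indec A) {n : ℕ} (B : Fin (n + 1) → Type w)
    [∀ i, Group (B i)] [∀ i, Finite (B i)] (hB : ∀ i, Indec (B i)) (A' : Type v) [Group A'] [Finite A']
    (e : A × A' ≃* ((i : Fin (n + 1)) → B i)) :
    ∃ j, Nonempty (A ≃* B j) ∧ Nonempty (A' ≃* ((i : Fin n) → B (j.succAbove i))) := by
  rcases step hA (hB 0) (e.trans (consMul B)) with ⟨h1, h2⟩ | ⟨K, ⟨θ⟩, ⟨e'⟩⟩
  · exact ⟨0, h1, h2⟩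
  · cases n with
    | zero =>
      exfalso
      obtain ⟨y, z, hyz⟩ := hA.1
      exact hyz (congrArg Prod.fst (θ.injective (a₁ := (y, 1)) (a₂ := (z, 1)) (Subsingleton.elim _ _)))
    | succ n =>
      obtain ⟨j, hj, ⟨ej⟩⟩ := exchange_aux hA n (fun i => B i.succ) (fun i => hB i.succ) K θ
      obtain ⟨ec⟩ := cons_succAbove (B := B) j
      exact ⟨j.succ, hj, ⟨e'.trans (((MulEquiv.refl (B 0)).prodCongr ej).trans ec)⟩⟩

theorem transport {n : ℕ} {X : Type u} [Group X] {B : Fin n → Type w} [∀ i, Group (B i)] {j j' : Fin n}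
    (h : j = j') (e : Nonempty (X ≃* B j)) : Nonempty (X ≃* B j') := by subst h; exact e

/-- Krull, Remak and Schmidt. -/
theorem krs : ∀ (m : ℕ) {n : ℕ} {A : Fin m → Type u} {B : Fin n → Type w} [∀ i, Group (A i)] [∀ j, Group (B j)]
    [∀ i, Finite (A i)] [∀ j, Finite (B j)], (∀ i, Indec (A i)) → (∀ j, Indec (B j)) →
    (((i : Fin m) → A i) ≃* ((j : Fin n) → B j)) → ∃ σ : Fin m ≃ Fin n, ∀ i, Nonempty (A i ≃* B (σ i)) := by
  classical
  intro m
  induction m with
  | zero =>
    intro n A B _ _ _ _ hA hB e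
    rcases n with _ | n
    · exact ⟨Equiv.refl _, fun i => i.elim0⟩
    · exfalso
      obtain ⟨y, z, hyz⟩ := (hB 0).1
      have := e.symm.injective (a₁ := Pi.mulSingle 0 y) (a₂ := Pi.mulSingle 0 z) (Subsingleton.elim _ _)
      exact hyz (by simpa using congrFun this 0)
  | succ m ih =>
    intro n A B _ _ _ _ hA hB e
    rcases n with _ | n
    · exfalso
      obtain ⟨y, z, hyz⟩ := (hA 0).1
      have := e.injective (a₁ := Pi.mulSingle 0 y) (a₂ := Pi.mulSingle 0 z) (Subsingleton.elim _ _)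
      exact hyz (by simpa using congrFun this 0)
    · obtain ⟨j, hj, ⟨e'⟩⟩ := exchange (hA 0) B hB _ ((consMul A).symm.trans e)
      obtain ⟨τ, hτ⟩ := ih (fun i => hA i.succ) (fun i => hB (j.succAbove i)) e'
      refine ⟨(finSuccEquiv m).trans ((Equiv.optionCongr τ).trans (finSuccEquiv' j).symm), fun i => ?_⟩
      cases i using Fin.cases with
      | zero =>
        refine transport ?_ hj
        show j = (finSuccEquiv' j).symm (Option.map τ ((finSuccEquiv m) 0))
        rw [finSuccEquiv_zero]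
        exact (finSuccEquiv'_symm_none j).symm
      | succ i =>
        refine transport (j := j.succAbove (τ i)) ?_ (hτ i)
        show j.succAbove (τ i) = (finSuccEquiv' j).symm (Option.map τ ((finSuccEquiv m) i.succ))
        rw [finSuccEquiv_succ]
        exact (finSuccEquiv'_symm_some j (τ i)).symm


/-- If a finite group is isomorphic both to a direct product of `m` directly indecomposable nontrivial groups and to a direct product of `n` such groups (a group is directly indecomposable when it is not the internal direct product of two nontrivial normal subgroups), then `m = n` and the factors are isomorphic in pairs after a suitable matching. -/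
theorem result {m n : ℕ} {A : Fin m → Type*} {B : Fin n → Type*} [∀ i, Group (A i)] [∀ j, Group (B j)] [∀ i, Finite (A i)] [∀ j, Finite (B j)] (hA : ∀ i, Nontrivial (A i) ∧ ∀ H K : Subgroup (A i), H.Normal → K.Normal → H ⊓ K = ⊥ → H ⊔ K = ⊤ → H = ⊥ ∨ K = ⊥) (hB : ∀ j, Nontrivial (B j) ∧ ∀ H K : Subgroup (B j), H.Normal → K.Normal → H ⊓ K = ⊥ → H ⊔ K = ⊤ → H = ⊥ ∨ K = ⊥) (e : ((i : Fin m) → A i) ≃* ((j : Fin n) → B j)) : ∃ σ : Fin m ≃ Fin n, ∀ i, Nonempty (A i ≃* B (σ i)) := by

  exact krs m hA hB e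

end Cfsg.Agent.S4223
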