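import Cfsg.Statements.S4224
import Cfsg.Agent.Lib.Transfer.Regular

set_option maxHeartbeats 1000000
set_option maxRecDepth 8000

set_option autoImplicit false
open Cfsg

namespace Cfsg.Agent.S4224

/-- In a regular `p`-group, for all elements `a`, `b` and every power `q = p^k`: `a^q` commutes with `b` if and only if the commutator `a⁻¹b⁻¹ab` has `q`-th power equal to `1`. -/
theorem result {G : Type*} [Group G] [Finite G] {p : ℕ} [Fact p.Prime] (hG : Cfsg.IsRegularPGroup p G) (a b : G) (k : ℕ) : a ^ p ^ k * b = b * a ^ p ^ k ↔ (a⁻¹ * b⁻¹ * a * b) ^ p ^ k = 1 := by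
  have h := Cfsg.Agent.Transfer.Regular.pow_eq_iff hG a⁻¹ (b⁻¹ * a⁻¹ * b) k
  rw [show a⁻¹ * (b⁻¹ * a⁻¹ * b)⁻¹ = a⁻¹ * b⁻¹ * a * b by group] at h
  have h1 : (b⁻¹ * a⁻¹ * b) ^ p ^ k = b⁻¹ * (a⁻¹) ^ p ^ k * b := by
    have h2 := conj_pow (i := p ^ k) (a := b⁻¹) (b := a⁻¹)
    rwa [inv_inv] at h2
  rw [← h, h1, inv_pow]
  generalize a ^ p ^ k = c
  rw [mul_assoc, eq_inv_mul_iff_mul_eq]
  constructor
  · intro hc
    exact ((show Commute c b from hc).inv_left).symm.eq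
  · intro hc
    have h2 : Commute c⁻¹ b := hc.symm
    exact (Commute.inv_left_iff.1 h2).eq

end Cfsg.Agent.S4224
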