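import Cfsg.Statements.S4227
import Mathlib
import Cfsg.Agent.Lib.Grp.Frattini
import Cfsg.Agent.Lib.Grp.Cores
import Cfsg.Agent.Lib.Grp.Solvable
import Cfsg.Agent.Lib.Grp.Coprime
import Cfsg.Agent.Lib.Grp.PSolvable
import Cfsg.Agent.Lib.Grp.PComponents
import Cfsg.Agent.S0144

set_option maxHeartbeats 1000000
set_option maxRecDepth 8000

set_option autoImplicit false
open Cfsg
open scoped commutatorElement

namespace Cfsg.Agent.S4227

open Cfsg.Agent.Grp

/-- A four-group permuted cyclically by an element with trivial norm has trivial eigenspaces. -/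
theorem eigen_trivial {X : Type*} [Group X] {x a b c v : X} (hxa : x * a * x⁻¹ = b) (hxb : x * b * x⁻¹ = c)
    (hxc : x * c * x⁻¹ = a) (ha : a * v * a⁻¹ = v) (hb : b * v * b⁻¹ = v⁻¹) (hc : c * v * c⁻¹ = v⁻¹)
    (hnorm : v * (x * v * x⁻¹) * (x * (x * v * x⁻¹) * x⁻¹) = 1) (h3 : v ^ 3 = 1)
    (hcomm : (x * v * x⁻¹) * (x * (x * v * x⁻¹) * x⁻¹) = (x * (x * v * x⁻¹) * x⁻¹) * (x * v * x⁻¹)) : v = 1 := by
  set v1 := x * v * x⁻¹ with hv1
  set v2 := x * v1 * x⁻¹ with hv2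
  have e1 : a * v1 * a⁻¹ = v1⁻¹ := by
    calc a * v1 * a⁻¹ = x * (c * v * c⁻¹) * x⁻¹ := by rw [← hxc, hv1]; group
      _ = v1⁻¹ := by rw [hc, hv1]; group
  have e2 : a * v2 * a⁻¹ = v2⁻¹ := by
    calc a * v2 * a⁻¹ = x * (x * (b * v * b⁻¹) * x⁻¹) * x⁻¹ := by rw [← hxc, ← hxb, hv2, hv1]; group
      _ = v2⁻¹ := by rw [hb, hv2, hv1]; simp [mul_assoc]
  have h : v * v1⁻¹ * v2⁻¹ = 1 := by
    calc v * v1⁻¹ * v2⁻¹ = (a * v * a⁻¹) * (a * v1 * a⁻¹) * (a * v2 * a⁻¹) := by rw [ha, e1, e2]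
      _ = a * (v * v1 * v2) * a⁻¹ := by group
      _ = 1 := by rw [hnorm]; group
  have e3 : v = v2 * v1 := by rw [mul_inv_eq_one, mul_inv_eq_iff_eq_mul] at h; exact h
  have e4 : v⁻¹ = v1 * v2 := by
    rw [mul_assoc] at hnorm; exact (eq_inv_of_mul_eq_one_right hnorm).symm
  have this : v * v = 1 := by
    conv_lhs => arg 2; rw [e3, ← hcomm, ← e4]
    exact mul_inv_cancel v
  calc v = (v * v) * v := by rw [this, one_mul]
    _ = v ^ 3 := by rw [pow_succ, pow_two]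
    _ = 1 := h3
/-- Exponent six with trivial cores forces the Sylow subgroups into the core. -/
theorem not_dvd_index_two {X : Type*} [Group X] [Finite X] [Group.IsSolvable X] (h : ∀ x : X, x ^ 6 = 1)
    (h0 : Cfsg.pPrimeCore 2 X = ⊥) : ¬ 2 ∣ (Cfsg.pCore 2 X).index := by
  have : Fact (Nat.Prime 2) := ⟨Nat.prime_two⟩
  obtain ⟨P⟩ := (inferInstance : Nonempty (Sylow 2 X))
  set R := Cfsg.pCore 2 X with hR
  have hC : Subgroup.centralizer (R : Set X) ≤ R := by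
    have := centralizer_fittingSubgroup_le (G := X)
    rwa [fitting_eq_pCore h0] at this
  have hRP : R ≤ (P : Subgroup X) := Cfsg.Agent.Grp.pCore_le_sylow P
  have hsq : ∀ y ∈ (P : Subgroup X), y * y = 1 := by
    intro y hy
    obtain ⟨k, hk⟩ := IsPGroup.iff_orderOf.1 P.isPGroup' ⟨y, hy⟩
    rw [← Subgroup.orderOf_coe] at hk
    have h6 : orderOf y ∣ 6 := orderOf_dvd_of_pow_eq_one (h y)
    have h2 : orderOf y ∣ 2 := by
      have hc : Nat.Coprime (2 ^ k) 3 := Nat.Coprime.pow_left k (by norm_num)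
      rw [hk] at h6 ⊢
      exact hc.dvd_of_dvd_mul_right (show 2 ^ k ∣ 2 * 3 from h6)
    rw [← pow_two]; exact orderOf_dvd_iff_pow_eq_one.1 h2
  have hPR : (P : Subgroup X) ≤ R := fun y hy => hC (Subgroup.mem_centralizer_iff.2 fun r hr => by
    have h1 := hsq _ (mul_mem (hRP hr) hy)
    have h2 := hsq _ (hRP hr)
    have h3 := hsq _ hy
    rw [mul_eq_one_iff_inv_eq, mul_inv_rev, mul_eq_one_iff_inv_eq.1 h2, mul_eq_one_iff_inv_eq.1 h3] at h1
    exact h1.symm)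
  intro hd
  exact P.not_dvd_index (hd.trans (Subgroup.index_dvd_of_le hPR))

theorem not_dvd_index_three {X : Type*} [Group X] [Finite X] [Group.IsSolvable X] (h : ∀ x : X, x ^ 6 = 1)
    (h0 : Cfsg.pPrimeCore 3 X = ⊥) : ¬ 3 ∣ (Cfsg.pCore 3 X).index := by
  have : Fact (Nat.Prime 2) := ⟨Nat.prime_two⟩
  have : Fact (Nat.Prime 3) := ⟨Nat.prime_three⟩
  intro hd
  set R := Cfsg.pCore 3 X with hR
  have hRn : R.Normal := pCore_isNormal
  have hRp : IsPGroup 3 R := pCore_isPGroup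
  have hCR : Subgroup.centralizer (R : Set X) ≤ R := by
    have := centralizer_fittingSubgroup_le (G := X)
    rwa [fitting_eq_pCore h0] at this
  have hord : ∀ {p : ℕ} (_ : p.Prime) {Z : Subgroup X}, IsPGroup p Z → ∀ z ∈ Z, z ^ Nat.gcd p 6 = 1 := by
    intro p hp Z hZ z hz
    obtain ⟨k, hk⟩ := hZ ⟨z, hz⟩
    have hk' : z ^ p ^ k = 1 := by simpa using congrArg Subtype.val hk
    rw [← orderOf_dvd_iff_pow_eq_one] at hk' ⊢
    have h6 := orderOf_dvd_of_pow_eq_one (h z)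
    obtain ⟨j, -, hj⟩ := (Nat.dvd_prime_pow hp).1 hk'
    rw [hj] at h6 ⊢
    refine Nat.dvd_gcd ?_ h6
    rcases Nat.lt_or_ge j 2 with hj2 | hj2
    · interval_cases j <;> simp
    · exfalso
      have h2 : p ^ 2 ∣ 6 := (pow_dvd_pow p hj2).trans h6
      have h3 := Nat.le_of_dvd (by norm_num) h2
      have := hp.two_le
      have : p ≤ 2 := by nlinarith
      obtain rfl : p = 2 := by omega
      norm_num at h2
  set π := QuotientGroup.mk' R with hπ
  have hπs : Function.Surjective π := QuotientGroup.mk'_surjective R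
  have hY6 : ∀ y : X ⧸ R, y ^ 6 = 1 := fun y => by
    obtain ⟨y, rfl⟩ := hπs y
    rw [← map_pow, h, map_one]
  have hY3 : Cfsg.pCore 3 (X ⧸ R) = ⊥ := by
    have hK : ((Cfsg.pCore 3 (X ⧸ R)).comap π) ≤ R := le_pCore (pCore_isNormal.comap π)
      (IsPGroup.comap_of_ker_isPGroup pCore_isPGroup π (by rw [hπ, QuotientGroup.ker_mk']; exact hRp))
    rw [eq_bot_iff]
    intro y hy
    obtain ⟨y, rfl⟩ := hπs y
    exact Subgroup.mem_bot.2 ((QuotientGroup.eq_one_iff y).2 (hK hy))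
  have hY2 : Cfsg.pPrimeCore 2 (X ⧸ R) = ⊥ := by
    rw [eq_bot_iff, ← hY3]
    refine le_pCore pPrimeCore_isNormal fun y => ⟨1, ?_⟩
    have h1 : orderOf y ∣ 6 := orderOf_dvd_of_pow_eq_one (Subtype.ext (by simpa using hY6 (y : X ⧸ R)))
    have h2 : (orderOf y).Coprime 2 := (pPrimeCore_coprime (p := 2)).coprime_dvd_left (orderOf_dvd_natCard y)
    rw [pow_one, ← orderOf_dvd_iff_pow_eq_one]
    exact h2.dvd_of_dvd_mul_left (show orderOf y ∣ 2 * 3 from h1)
  set E := Cfsg.pCore 2 (X ⧸ R) with hE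
  have hEn : E.Normal := pCore_isNormal
  have hCE : Subgroup.centralizer (E : Set (X ⧸ R)) ≤ E := by
    have := centralizer_fittingSubgroup_le (G := X ⧸ R)
    rwa [fitting_eq_pCore hY2] at this
  -- a Sylow subgroup of the preimage of `E`
  set K := E.comap π with hK
  have hKn : K.Normal := hEn.comap π
  obtain ⟨S⟩ := (inferInstance : Nonempty (Sylow 2 K))
  set E1 := (S : Subgroup K).map K.subtype with hE1
  have hE1p : IsPGroup 2 E1 := S.isPGroup'.map _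
  have hfr := Sylow.normalizer_sup_eq_top (N := K) S
  have himg : E1.map π = E := by
    let g : K →* E := (π.comp K.subtype).codRestrict E (fun y => y.2)
    have hg : Function.Surjective g := by
      rintro ⟨q, hq⟩
      obtain ⟨x, rfl⟩ := hπs q
      exact ⟨⟨x, hq⟩, rfl⟩
    have htop : ((S.mapSurjective hg : Sylow 2 E) : Subgroup E) = ⊤ :=
      ((S.mapSurjective hg).3 ((pCore_isPGroup (p := 2) (G := X ⧸ R)).to_subgroup ⊤) le_top).symm
    rw [Sylow.coe_mapSurjective] at htop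
    rw [hE1, Subgroup.map_map]
    have h1 : (π.comp K.subtype) = E.subtype.comp g := rfl
    rw [h1, ← Subgroup.map_map, htop, ← MonoidHom.range_eq_map, Subgroup.range_subtype]
  have hlift : ∀ y : X ⧸ R, ∃ n ∈ Subgroup.normalizer (E1 : Set X), π n = y := by
    intro y
    obtain ⟨g, rfl⟩ := hπs y
    obtain ⟨n, hn, k, hk, rfl⟩ := Subgroup.mem_sup_of_normal_right.1 (hfr ▸ Subgroup.mem_top g :
      g ∈ Subgroup.normalizer (E1 : Set X) ⊔ K)
    obtain ⟨u, hu, hue⟩ : π k ∈ E1.map π := by rw [himg]; exact hk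
    exact ⟨n * u, mul_mem hn (Subgroup.le_normalizer hu), by rw [map_mul, map_mul, hue]⟩
  have hd' : 3 ∣ Nat.card (X ⧸ R) := by rwa [← Subgroup.index_eq_card]
  obtain ⟨y, hy⟩ := exists_prime_orderOf_dvd_card' 3 hd'
  obtain ⟨n, hn, hny⟩ := hlift y
  set x := n ^ 4 with hx
  have hxn : x ∈ Subgroup.normalizer (E1 : Set X) := pow_mem hn 4
  have hx3 : x ^ 3 = 1 := by
    rw [hx, ← pow_mul, show 4 * 3 = 6 * 2 by norm_num, pow_mul, h, one_pow]
  have hxy : π x = y := by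
    have h3 : y ^ 3 = 1 := by rw [← hy]; exact pow_orderOf_eq_one y
    rw [hx, map_pow, hny, pow_succ, h3, one_mul]
  have hsq : ∀ e ∈ E1, e * e = 1 := fun e he => by
    rw [← pow_two]; simpa using hord Nat.prime_two hE1p e he
  have hEcomm : ∀ e ∈ E1, ∀ f ∈ E1, e * f = f * e := fun e he f hf => by
    have h2 := mul_eq_one_iff_inv_eq.1 (hsq _ (mul_mem he hf))
    rw [mul_inv_rev, mul_eq_one_iff_inv_eq.1 (hsq e he), mul_eq_one_iff_inv_eq.1 (hsq f hf)] at h2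
    exact h2.symm
  obtain ⟨e, he, hex⟩ : ∃ e ∈ E1, π (x * e) ≠ π (e * x) := by
    by_contra hc
    push Not at hc
    have hyC : y ∈ E := hCE (Subgroup.mem_centralizer_iff.2 fun z hz => by
      rw [← himg] at hz
      obtain ⟨e, he, rfl⟩ := hz
      rw [← hxy, ← map_mul, ← map_mul]
      exact (hc e he).symm)
    obtain ⟨k, hk⟩ := IsPGroup.iff_orderOf.1 (pCore_isPGroup (p := 2) (G := X ⧸ R)) ⟨y, hyC⟩
    have hyo : orderOf (⟨y, hyC⟩ : E) = 3 := by rw [← Subgroup.orderOf_coe]; exact hy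
    rw [hyo] at hk
    have := (Nat.prime_dvd_prime_iff_eq Nat.prime_three Nat.prime_two).1 (Nat.prime_three.dvd_of_dvd_pow hk.dvd)
    omega
  have hconjE : ∀ f ∈ E1, x * f * x⁻¹ ∈ E1 := fun f hf => (Subgroup.mem_normalizer_iff.1 hxn f).1 hf
  set e₁ := x * e * x⁻¹ with he₁
  set e₂ := x * e₁ * x⁻¹ with he₂
  have he₃ : x * e₂ * x⁻¹ = e := by
    calc x * e₂ * x⁻¹ = x ^ 3 * e * (x ^ 3)⁻¹ := by rw [he₂, he₁]; simp [pow_succ, mul_assoc]
      _ = e := by rw [hx3, one_mul, inv_one, mul_one]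
  have m1 : e₁ ∈ E1 := hconjE e he
  have m2 : e₂ ∈ E1 := hconjE e₁ m1
  set a := e₁ * e with ha_def
  set b := e₂ * e₁ with hb_def
  set c := e * e₂ with hc_def
  have hxa : x * a * x⁻¹ = b := by rw [ha_def, hb_def, he₂]; simp [he₁, mul_assoc]
  have hxb : x * b * x⁻¹ = c := by
    calc x * b * x⁻¹ = (x * e₂ * x⁻¹) * (x * e₁ * x⁻¹) := by rw [hb_def]; group
      _ = c := by rw [he₃]
  have hxc : x * c * x⁻¹ = a := by
    calc x * c * x⁻¹ = (x * e * x⁻¹) * (x * e₂ * x⁻¹) := by rw [hc_def]; group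
      _ = a := by rw [he₃]
  have hma : a ∈ E1 := mul_mem m1 he
  have hmb : b ∈ E1 := mul_mem m2 m1
  have hmc : c ∈ E1 := mul_mem he m2
  have hcab : c = a * b := by
    calc c = e * e₂ := hc_def
      _ = e₂ * e := hEcomm e he e₂ m2
      _ = e₂ * (e₁ * e₁) * e := by rw [hsq e₁ m1, mul_one]
      _ = (e₂ * e₁) * (e₁ * e) := by group
      _ = a * b := hEcomm b hmb a hma
  have ha1 : π a ≠ 1 := by
    intro h1
    apply hex
    have h2 : a = x * e * x⁻¹ * e := rfl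
    rw [h2, map_mul, mul_eq_one_iff_eq_inv, ← map_inv, show e⁻¹ = e from (eq_inv_of_mul_eq_one_left (hsq e he)).symm] at h1
    rw [map_mul, map_inv, mul_inv_eq_iff_eq_mul, ← map_mul] at h1
    exact h1
  -- the Frattini quotient of `R`
  set Φ := (frattini R).map R.subtype with hΦ
  have hΦn : Φ.Normal := by rw [hΦ]; exact ConjAct.normal_of_characteristic_of_normal
  set A := Subgroup.zpowers a with hA
  have hcard : Nat.card A ∣ 2 := by
    rw [hA, Nat.card_zpowers]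
    exact orderOf_dvd_of_pow_eq_one (by rw [pow_two]; exact hsq a hma)
  have hact : ∃ r ∈ R, a * r * a⁻¹ * r⁻¹ ∉ Φ := by
    by_contra hc
    push Not at hc
    have hcop : (Nat.card A).Coprime (Nat.card R) := by
      obtain ⟨k, hk⟩ := hRp.exists_card_eq
      rw [hk]
      exact ((show Nat.Coprime 2 3 by norm_num).coprime_dvd_left hcard).pow_right k
    have hsub : ∀ r ∈ R, ∀ g ∈ A, r * g * r⁻¹ * g⁻¹ ∈ Φ := by
      intro r hr g hg
      obtain ⟨i, rfl⟩ := Subgroup.mem_zpowers_iff.1 hg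
      have h1 : QuotientGroup.mk' Φ a * QuotientGroup.mk' Φ r = QuotientGroup.mk' Φ r * QuotientGroup.mk' Φ a := by
        have h2 := (QuotientGroup.eq_one_iff _).2 (hc r hr)
        have h3 : QuotientGroup.mk' Φ (a * r * a⁻¹ * r⁻¹) = 1 := h2
        rw [map_mul, map_mul, map_mul, map_inv, map_inv, mul_inv_eq_one, mul_inv_eq_iff_eq_mul] at h3
        exact h3
      have h4 : Commute (QuotientGroup.mk' Φ r) (QuotientGroup.mk' Φ a ^ i) := (Commute.zpow_right (Eq.symm h1) i)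
      rw [← QuotientGroup.eq_one_iff]
      show QuotientGroup.mk' Φ _ = 1
      rw [map_mul, map_mul, map_mul, map_inv, map_inv, map_zpow, h4.eq, mul_inv_cancel_right, mul_inv_cancel]
    have htop : (Subgroup.centralizer (A : Set X)).subgroupOf R = ⊤ := by
      apply frattini_nongenerating
      rw [eq_top_iff]
      rintro ⟨r, hr⟩ -
      obtain ⟨m, hm, w, hw, hmw⟩ := exists_commutator_mul_fixed A R Subgroup.le_normalizer_of_normal hcop
        (Or.inr inferInstance) hr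
      have hmΦ : m ∈ Φ := (Subgroup.commutator_le.2 fun s hs g hg => by
        rw [commutatorElement_def]; exact hsub s hs g hg) hm
      obtain ⟨m', hm', rfl⟩ := hmΦ
      have : (⟨r, hr⟩ : R) = m' * ⟨w, hw.1⟩ := Subtype.ext hmw
      rw [this]
      exact mul_mem (Subgroup.mem_sup_right hm') (Subgroup.mem_sup_left (Subgroup.mem_subgroupOf.2 hw.2))
    have haR : a ∈ R := hCR (Subgroup.mem_centralizer_iff.2 fun r hr =>
      (Subgroup.mem_centralizer_iff.1 ((Subgroup.subgroupOf_eq_top.1 htop) hr) a (Subgroup.mem_zpowers a)).symm)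
    exact ha1 ((QuotientGroup.eq_one_iff a).2 haR)
  obtain ⟨r, hr, hra⟩ := hact
  set θ := QuotientGroup.mk' Φ with hθ
  set V := R.map θ with hV
  have hVn : V.Normal := hRn.map θ (QuotientGroup.mk'_surjective Φ)
  have hVcomm : ∀ u ∈ V, ∀ w ∈ V, u * w = w * u := by
    rintro _ ⟨u, hu, rfl⟩ _ ⟨w, hw, rfl⟩
    have h1 : (⟨u, hu⟩ : R) * ⟨w, hw⟩ * (⟨u, hu⟩ : R)⁻¹ * (⟨w, hw⟩ : R)⁻¹ ∈ frattini R :=
      pGroup_commutator_le_frattini hRp (Subgroup.commutator_mem_commutator (Subgroup.mem_top _) (Subgroup.mem_top _))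
    have h2 : θ (u * w * u⁻¹ * w⁻¹) = 1 := (QuotientGroup.eq_one_iff _).2 ⟨_, h1, rfl⟩
    rw [map_mul, map_mul, map_mul, map_inv, map_inv, mul_inv_eq_one, mul_inv_eq_iff_eq_mul] at h2
    exact h2
  have hV3 : ∀ u ∈ V, u ^ 3 = 1 := by
    rintro _ ⟨u, hu, rfl⟩
    rw [← map_pow, show u ^ 3 = 1 by simpa using hord Nat.prime_three hRp u hu, map_one]
  -- the norm of `x` vanishes
  have hnorm : ∀ u ∈ V, u * (θ x * u * (θ x)⁻¹) * (θ x * (θ x * u * (θ x)⁻¹) * (θ x)⁻¹) = 1 := by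
    rintro _ ⟨u, hu, rfl⟩
    have hcube : (u * x) ^ 3 = u * (x * u * x⁻¹) * (x * (x * u * x⁻¹) * x⁻¹) := by
      calc (u * x) ^ 3 = u * (x * u * x⁻¹) * (x * (x * u * x⁻¹) * x⁻¹) * x ^ 3 := by simp [pow_succ, mul_assoc]
        _ = _ := by rw [hx3, mul_one]
    have hmem : (u * x) ^ 3 ∈ R := by
      rw [hcube]
      exact mul_mem (mul_mem hu (hRn.conj_mem u hu x)) (hRn.conj_mem _ (hRn.conj_mem u hu x) x)
    have h9 : ((u * x) ^ 3) ^ 3 = 1 := by simpa using hord Nat.prime_three hRp _ hmem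
    have h2 : ((u * x) ^ 3) ^ 2 = 1 := by rw [← pow_mul]; exact h _
    have h1 : (u * x) ^ 3 = 1 := by
      rw [pow_succ, h2, one_mul] at h9
      exact h9
    rw [← map_inv, ← map_mul, ← map_mul, ← map_mul, ← map_mul, ← map_mul, ← map_mul, ← hcube, h1, map_one]
  have hconjV : ∀ g : X, ∀ u ∈ V, θ g * u * (θ g)⁻¹ ∈ V := fun g u hu => hVn.conj_mem u hu (θ g)
  have hinvol : ∀ g : X, g * g = 1 → ∀ u : X ⧸ Φ, θ g * (θ g * u * (θ g)⁻¹) * (θ g)⁻¹ = u := by
    intro g hg u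
    calc θ g * (θ g * u * (θ g)⁻¹) * (θ g)⁻¹ = (θ g * θ g) * u * (θ g * θ g)⁻¹ := by group
      _ = u := by rw [← map_mul, hg, map_one, one_mul, inv_one, mul_one]
  -- an element inverted by `a`
  set u := θ r * (θ a * θ r * (θ a)⁻¹)⁻¹ with hu_def
  have huV : u ∈ V := mul_mem ⟨r, hr, rfl⟩ (inv_mem (hconjV a _ ⟨r, hr, rfl⟩))
  have hu1 : u ≠ 1 := by
    intro h1
    apply hra
    rw [← QuotientGroup.eq_one_iff]
    show θ _ = 1
    rw [hu_def, mul_inv_eq_one] at h1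
    rw [map_mul, map_mul, map_mul, map_inv, map_inv, ← h1, mul_inv_cancel]
  have hau : θ a * u * (θ a)⁻¹ = u⁻¹ := by
    calc θ a * u * (θ a)⁻¹ = (θ a * θ r * (θ a)⁻¹) * (θ a * (θ a * θ r * (θ a)⁻¹) * (θ a)⁻¹)⁻¹ := by
          rw [hu_def]; group
      _ = (θ a * θ r * (θ a)⁻¹) * (θ r)⁻¹ := by rw [hinvol a (hsq a hma)]
      _ = u⁻¹ := by rw [hu_def]; group
  set u' := θ b * u * (θ b)⁻¹ with hu'_def
  have hu'V : u' ∈ V := hconjV b u huV
  have hau' : θ a * u' * (θ a)⁻¹ = u'⁻¹ := by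
    have hab : θ a * θ b = θ b * θ a := by rw [← map_mul, ← map_mul, hEcomm a hma b hmb]
    calc θ a * u' * (θ a)⁻¹ = (θ a * θ b) * u * (θ a * θ b)⁻¹ := by rw [hu'_def]; group
      _ = θ b * (θ a * u * (θ a)⁻¹) * (θ b)⁻¹ := by rw [hab]; group
      _ = u'⁻¹ := by rw [hau, hu'_def]; group
  have hbu' : θ b * u' * (θ b)⁻¹ = u := hinvol b (hsq b hmb) u
  have hcconj : ∀ w, θ c * w * (θ c)⁻¹ = θ a * (θ b * w * (θ b)⁻¹) * (θ a)⁻¹ := fun w => by
    rw [hcab, map_mul]; group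
  have hθx : ∀ p q : X, x * p * x⁻¹ = q → θ x * θ p * (θ x)⁻¹ = θ q := fun p q hpq => by
    rw [← map_inv, ← map_mul, ← map_mul, hpq]
  have hfin : ∀ w ∈ V, ∀ A B C : X, x * A * x⁻¹ = B → x * B * x⁻¹ = C → x * C * x⁻¹ = A →
      θ A * w * (θ A)⁻¹ = w → θ B * w * (θ B)⁻¹ = w⁻¹ → θ C * w * (θ C)⁻¹ = w⁻¹ → w = 1 :=
    fun w hw A B C h1 h2 h3 h4 h5 h6 => eigen_trivial (hθx _ _ h1) (hθx _ _ h2) (hθx _ _ h3) h4 h5 h6
      (hnorm w hw) (hV3 w hw) (hVcomm _ (hconjV x w hw) _ (hconjV x _ (hconjV x w hw)))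
  -- the two eigenvectors
  have hcom := hVcomm u huV u' hu'V
  have hp : u * u' = 1 := by
    refine hfin _ (mul_mem huV hu'V) b c a hxb hxc hxa ?_ ?_ ?_
    · calc θ b * (u * u') * (θ b)⁻¹ = (θ b * u * (θ b)⁻¹) * (θ b * u' * (θ b)⁻¹) := by group
        _ = u' * u := by rw [hbu', ← hu'_def]
        _ = u * u' := hcom.symm
    · rw [hcconj]
      calc θ a * (θ b * (u * u') * (θ b)⁻¹) * (θ a)⁻¹
          = θ a * ((θ b * u * (θ b)⁻¹) * (θ b * u' * (θ b)⁻¹)) * (θ a)⁻¹ := by group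
        _ = θ a * (u' * u) * (θ a)⁻¹ := by rw [hbu', ← hu'_def]
        _ = (θ a * u' * (θ a)⁻¹) * (θ a * u * (θ a)⁻¹) := by group
        _ = (u * u')⁻¹ := by rw [hau, hau']; group
    · calc θ a * (u * u') * (θ a)⁻¹ = (θ a * u * (θ a)⁻¹) * (θ a * u' * (θ a)⁻¹) := by group
        _ = (u' * u)⁻¹ := by rw [hau, hau']; group
        _ = (u * u')⁻¹ := by rw [hcom]
  have hm : u * u'⁻¹ = 1 := by
    refine hfin _ (mul_mem huV (inv_mem hu'V)) c a b hxc hxa hxb ?_ ?_ ?_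
    · rw [hcconj]
      calc θ a * (θ b * (u * u'⁻¹) * (θ b)⁻¹) * (θ a)⁻¹
          = θ a * ((θ b * u * (θ b)⁻¹) * (θ b * u' * (θ b)⁻¹)⁻¹) * (θ a)⁻¹ := by group
        _ = θ a * (u' * u⁻¹) * (θ a)⁻¹ := by rw [hbu', ← hu'_def]
        _ = (θ a * u' * (θ a)⁻¹) * (θ a * u * (θ a)⁻¹)⁻¹ := by group
        _ = u'⁻¹ * u := by rw [hau, hau', inv_inv]
        _ = u * u'⁻¹ := (hVcomm u huV u'⁻¹ (inv_mem hu'V)).symm
    · calc θ a * (u * u'⁻¹) * (θ a)⁻¹ = (θ a * u * (θ a)⁻¹) * (θ a * u' * (θ a)⁻¹)⁻¹ := by group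
        _ = u⁻¹ * u' := by rw [hau, hau', inv_inv]
        _ = u' * u⁻¹ := hVcomm u⁻¹ (inv_mem huV) u' hu'V
        _ = (u * u'⁻¹)⁻¹ := by group
    · calc θ b * (u * u'⁻¹) * (θ b)⁻¹ = (θ b * u * (θ b)⁻¹) * (θ b * u' * (θ b)⁻¹)⁻¹ := by group
        _ = u' * u⁻¹ := by rw [hbu', ← hu'_def]
        _ = (u * u'⁻¹)⁻¹ := by group
  apply hu1
  rw [mul_inv_eq_one] at hm
  rw [← hm, ← pow_two] at hp
  calc u = u ^ 2 * u := by rw [hp, one_mul]
    _ = u ^ 3 := (pow_succ u 2).symm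
    _ = 1 := hV3 u huV

/-- A finite group in which every element has order dividing `6` has `2`-length at most `1` and `3`-length at most `1`. -/
theorem result {G : Type*} [Group G] [Finite G] (h : ∀ x : G, x ^ 6 = 1) : Cfsg.PLengthLE 2 1 G ∧ Cfsg.PLengthLE 3 1 G := by

  have hsol : Group.IsSolvable G := by
    have hpr : ∀ q : ℕ, q.Prime → q ∣ Nat.card G → q = 2 ∨ q = 3 := by
      intro q hq hd
      have := Fact.mk hq
      obtain ⟨g, hg⟩ := exists_prime_orderOf_dvd_card' q hd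
      have h6 : q ∣ 2 * 3 := hg ▸ orderOf_dvd_of_pow_eq_one (h g)
      rcases hq.dvd_mul.1 h6 with h' | h'
      · exact Or.inl ((Nat.prime_dvd_prime_iff_eq hq Nat.prime_two).1 h')
      · exact Or.inr ((Nat.prime_dvd_prime_iff_eq hq Nat.prime_three).1 h')
    refine Cfsg.Agent.S0144.result (p := 2) (q := 3) Nat.prime_two Nat.prime_three
      (a := (Nat.card G).factorization 2) (b := (Nat.card G).factorization 3) ?_
    refine Nat.eq_of_factorization_eq Nat.card_pos.ne' (by positivity) fun q => ?_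
    rw [Nat.factorization_mul (by positivity) (by positivity), Finsupp.add_apply,
      Nat.prime_two.factorization_pow, Nat.prime_three.factorization_pow]
    by_cases h2 : q = 2
    · subst h2; simp
    by_cases h3 : q = 3
    · subst h3; simp
    rw [Finsupp.single_eq_of_ne h2, Finsupp.single_eq_of_ne h3, Nat.zero_add]
    by_contra hne
    obtain ⟨hqp, hqd, -⟩ := Nat.mem_primeFactors.1 (Nat.support_factorization _ ▸ Finsupp.mem_support_iff.2 hne)
    rcases hpr q hqp hqd with rfl | rfl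
    · exact h2 rfl
    · exact h3 rfl
  have hq : ∀ p : ℕ, [(Cfsg.pPrimeCore p G).Normal] → ∀ y : G ⧸ Cfsg.pPrimeCore p G, y ^ 6 = 1 := by
    intro p _ y
    obtain ⟨y, rfl⟩ := QuotientGroup.mk'_surjective _ y
    rw [← map_pow, h, map_one]
  have : Fact (Nat.Prime 2) := ⟨Nat.prime_two⟩
  have : Fact (Nat.Prime 3) := ⟨Nat.prime_three⟩
  refine ⟨pLengthLE_one_of_index (p := 2) ?_, pLengthLE_one_of_index (p := 3) ?_⟩
  · intro _
    exact not_dvd_index_two (hq 2) pPrimeCore_quotient_eq_bot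
  · intro _
    exact not_dvd_index_three (hq 3) pPrimeCore_quotient_eq_bot

end Cfsg.Agent.S4227
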