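import Cfsg.Statements.S4230
import Mathlib

set_option maxHeartbeats 1000000
set_option maxRecDepth 8000

set_option autoImplicit false
open Cfsg

namespace Cfsg.Agent.S4230

/-- Let p be an odd prime, q a natural number not divisible by p, and e the multiplicative order of q modulo p. For a natural number f, p divides the value at q of the f-th cyclotomic polynomial if and only if f = e·p^j for some j ≥ 0. -/
theorem result (p q f : ℕ) (hp : p.Prime) (hp2 : p ≠ 2) (hpq : ¬ p ∣ q) :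
    ((p : ℤ) ∣ (Polynomial.cyclotomic f ℤ).eval (q : ℤ)) ↔ ∃ j : ℕ, f = orderOf (q : ZMod p) * p ^ j := by
  haveI : Fact p.Prime := ⟨hp⟩
  have hq : (q : ZMod p) ≠ 0 := by rwa [Ne, ZMod.natCast_eq_zero_iff]
  set e := orderOf (q : ZMod p) with he
  have hdvd : ((p : ℤ) ∣ (Polynomial.cyclotomic f ℤ).eval (q : ℤ)) ↔ (Polynomial.cyclotomic f (ZMod p)).IsRoot (q : ZMod p) := by
    have h1 : (Polynomial.cyclotomic f (ZMod p)).eval ((q : ℤ) : ZMod p) =
        (((Polynomial.cyclotomic f ℤ).eval (q : ℤ) : ℤ) : ZMod p) := by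
      rw [← Polynomial.map_cyclotomic_int, Polynomial.eval_intCast_map]; rfl
    rw [← ZMod.intCast_zmod_eq_zero_iff_dvd, ← h1, Int.cast_natCast]
    rfl
  have hepos : 0 < e := by
    rw [he, orderOf_pos_iff]
    exact isOfFinOrder_iff_pow_eq_one.2 ⟨p - 1, Nat.sub_pos_of_lt hp.one_lt, ZMod.pow_card_sub_one_eq_one hq⟩
  have hep : ¬ p ∣ e := by
    intro h
    have h1 : e ∣ p - 1 := orderOf_dvd_of_pow_eq_one (ZMod.pow_card_sub_one_eq_one hq)
    have h2 := Nat.le_of_dvd (Nat.sub_pos_of_lt hp.one_lt) (h.trans h1)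
    have h3 := hp.one_lt
    omega
  rw [hdvd]
  constructor
  · intro h
    rcases Nat.eq_zero_or_pos f with rfl | hf
    · simp [Polynomial.cyclotomic_zero, Polynomial.IsRoot] at h
    obtain ⟨k, m, hm, rfl⟩ := Nat.exists_eq_pow_mul_and_not_dvd hf.ne' p hp.ne_one
    haveI : NeZero (m : ZMod p) := ⟨by rwa [Ne, ZMod.natCast_eq_zero_iff]⟩
    rw [Polynomial.isRoot_cyclotomic_prime_pow_mul_iff_of_charP] at h
    exact ⟨k, by rw [he, ← h.eq_orderOf, mul_comm]⟩
  · rintro ⟨j, rfl⟩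
    haveI : NeZero (e : ZMod p) := ⟨by rwa [Ne, ZMod.natCast_eq_zero_iff]⟩
    rw [mul_comm, Polynomial.isRoot_cyclotomic_prime_pow_mul_iff_of_charP]
    exact IsPrimitiveRoot.orderOf (q : ZMod p)

end Cfsg.Agent.S4230
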