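import Cfsg.Statements.S4234
import Mathlib
import Cfsg.Agent.Lib.Classical.DicksonMain
import Cfsg.Agent.Lib.Classical.DicksonCentral
import Cfsg.Agent.Lib.Classical.DicksonGeneration
import Cfsg.Agent.Lib.Classical.DicksonOvergroups
import Cfsg.Agent.Lib.Transfer.RedundantPSL

set_option maxHeartbeats 1000000
set_option maxRecDepth 8000

set_option autoImplicit false
open Cfsg
open scoped commutatorElement Pointwise

namespace Cfsg.Agent.S4234

open Cfsg.Agent Cfsg.Agent.Dickson Cfsg.Agent.PSL2Spec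

/-- Every non-normal subgroup has a maximal normalizer. -/
def NM (K : Type*) [Group K] : Prop :=
  ∀ H : Subgroup K, ¬ H.Normal → IsCoatom (Subgroup.normalizer (H : Set K))

theorem isCoatom_comap_surj {A B : Type*} [Group A] [Group B] (f : A →* B) (hf : Function.Surjective f)
    {M : Subgroup B} (hM : IsCoatom M) : IsCoatom (M.comap f) := by
  refine ⟨fun e => hM.1 ?_, fun C hC => ?_⟩
  · rw [← Subgroup.map_comap_eq_self_of_surjective hf M, e, Subgroup.map_top_of_surjective f hf]
  · have hk : f.ker ≤ C := (Subgroup.ker_le_comap f M).trans hC.le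
    rcases eq_or_lt_of_le ((Subgroup.map_comap_eq_self_of_surjective hf M).ge.trans (Subgroup.map_mono hC.le)) with e | e
    · exfalso
      exact hC.ne (by rw [e, Subgroup.comap_map_eq, sup_of_le_left hk])
    · rw [← sup_of_le_left hk, ← Subgroup.comap_map_eq, hM.2 _ e, Subgroup.comap_top]

theorem nm_congr {A B : Type*} [Group A] [Group B] (e : A ≃* B) (h : NM B) : NM A := by
  intro H hH
  have hc : (H.map e.toMonoidHom).comap e.toMonoidHom = H :=
    Subgroup.comap_map_eq_self_of_injective e.injective H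
  have hn : ¬ (H.map e.toMonoidHom).Normal := fun hn => hH (hc ▸ hn.comap e.toMonoidHom)
  have := isCoatom_comap_surj e.toMonoidHom e.surjective (h _ hn)
  rwa [Subgroup.comap_normalizer_eq_of_surjective _ e.surjective, hc] at this

theorem nm_prod {K S : Type*} [Group K] [CommGroup S] [Finite K] [Finite S]
    (hKS : (Nat.card K).Coprime (Nat.card S)) (h : NM K) : NM (K × S) := by
  intro H hH
  set f := MonoidHom.fst K S
  have hsurj : Function.Surjective f := fun k => ⟨(k, 1), rfl⟩
  obtain ⟨a, ha, ha'⟩ : ∃ a : ℕ, a ≡ 1 [MOD Nat.card K] ∧ a ≡ 0 [MOD Nat.card S] :=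
    ⟨(Nat.chineseRemainder hKS 1 0).1, (Nat.chineseRemainder hKS 1 0).2⟩
  have hsplit : ∀ v : K × S, v ∈ H → ((v.1, (1 : S)) ∈ H ∧ ((1 : K), v.2) ∈ H) := by
    rintro ⟨k, s⟩ hv
    have h1 : (k, (1 : S)) ∈ H := by
      have e1 : k ^ a = k := by
        conv_rhs => rw [← pow_one k]
        exact pow_eq_pow_iff_modEq.2 (ha.of_dvd (orderOf_dvd_natCard k))
      have e2 : s ^ a = 1 := by
        rw [← pow_zero s]
        exact pow_eq_pow_iff_modEq.2 (ha'.of_dvd (orderOf_dvd_natCard s))
      have := H.pow_mem hv a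
      rwa [Prod.pow_mk, e1, e2] at this
    refine ⟨h1, ?_⟩
    have := H.mul_mem (H.inv_mem h1) hv
    simpa using this
  have hn : ¬ (H.map f).Normal := by
    intro hn
    refine hH ⟨fun v hv g => ?_⟩
    obtain ⟨hk, hs⟩ := hsplit v hv
    obtain ⟨w, hw, hwe⟩ := hn.conj_mem v.1 ⟨v, hv, rfl⟩ g.1
    have h1 := (hsplit w hw).1
    rw [show w.1 = g.1 * v.1 * g.1⁻¹ from hwe] at h1
    have h2 := H.mul_mem h1 hs
    have e : g * v * g⁻¹ = (g.1 * v.1 * g.1⁻¹, (1 : S)) * ((1 : K), v.2) := by
      refine Prod.ext (by simp) ?_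
      show g.2 * v.2 * g.2⁻¹ = 1 * v.2
      rw [mul_comm g.2, mul_inv_cancel_right, one_mul]
    rw [e]
    exact h2
  have hc := isCoatom_comap_surj f hsurj (h _ hn)
  have he : Subgroup.normalizer (H : Set (K × S)) = (Subgroup.normalizer ((H.map f : Subgroup K) : Set K)).comap f := by
    ext g
    rw [Subgroup.mem_comap]
    constructor
    · intro hg
      exact Subgroup.le_normalizer_map f ⟨g, hg, rfl⟩
    · intro hg
      refine Subgroup.mem_normalizer_fintype fun v hv => ?_
      obtain ⟨hk, hs⟩ := hsplit v hv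
      obtain ⟨w, hw, hwe⟩ := (Subgroup.mem_normalizer_iff.1 hg v.1).1 ⟨v, hv, rfl⟩
      have h1 := (hsplit w hw).1
      rw [show w.1 = g.1 * v.1 * g.1⁻¹ from hwe] at h1
      have h2 := H.mul_mem h1 hs
      have e : g * v * g⁻¹ = (g.1 * v.1 * g.1⁻¹, (1 : S)) * ((1 : K), v.2) := by
        refine Prod.ext (by simp) ?_
        show g.2 * v.2 * g.2⁻¹ = 1 * v.2
        rw [mul_comm g.2, mul_inv_cancel_right, one_mul]
      rw [e]
      exact h2
  rw [he]
  exact hc

section psl

variable {F : Type*} [Field F] [Fintype F] [CharP F 13] [Fact (Nat.Prime 13)]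

local notation "PSL₂" => Matrix.ProjectiveSpecialLinearGroup (Fin 2) F
local notation "SL₂" => Matrix.SpecialLinearGroup (Fin 2) F

/-- The possible orders of proper subgroups. -/
def Ord (n : ℕ) : Prop := n ∣ 6 ∨ n ∣ 7 ∨ n = 4 ∨ n = 12 ∨ n = 14 ∨ n ∣ 78

variable (hF : Fintype.card F = 13)
include hF

theorem basics : Odd (Fintype.card F) ∧ del F = 2 ∧ Nat.card PSL₂ = 1092 := by
  have hodd : Odd (Fintype.card F) := ⟨6, by rw [hF]; norm_num⟩
  have hdel := Transfer.Redundant.del_eq_two hodd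
  refine ⟨hodd, hdel, ?_⟩
  have h := card_psl (F := F)
  rw [hdel, hF] at h
  omega

theorem simple_psl : IsSimpleGroup PSL₂ := Classical.PSL_isSimple le_rfl fun _ => by omega

theorem tor_cases {a : PSL₂} (ha : a ≠ 1) (hap : a ^ 13 ≠ 1) :
    (Nat.card (tor a) = 6 ∧ Nat.card (Subgroup.normalizer (tor a : Set PSL₂)) = 12) ∨
      (Nat.card (tor a) = 7 ∧ Nat.card (Subgroup.normalizer (tor a : Set PSL₂)) = 14) := by
  rcases card_tor_semi 13 ha hap with e | e <;> rw [hF, (basics hF).2.1] at e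
  · exact Or.inl ⟨by omega, by rw [(normalizer_tor 13 ha hap).1]; omega⟩
  · exact Or.inr ⟨by omega, by rw [(normalizer_tor 13 ha hap).1]; omega⟩

theorem uni_cases {a : PSL₂} (ha : a ≠ 1) (hap : a ^ 13 = 1) :
    Nat.card (tor a) = 13 ∧ Nat.card (Subgroup.normalizer (tor a : Set PSL₂)) = 78 := by
  haveI := simple_psl hF
  set D := pslData (F := F) 13
  have hp : IsPGroup 13 (tor a) := D.isPGroup_T (Fact.out) ha hap
  have hne : tor a ≠ ⊥ := fun e => ha (Subgroup.mem_bot.1 (e ▸ D.self a))
  have hN : Nat.card PSL₂ = 1092 := (basics hF).2.2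
  obtain ⟨k, hk⟩ := IsPGroup.iff_card.1 hp
  have hd : 13 ^ k ∣ 1092 := hk ▸ hN ▸ Subgroup.card_subgroup_dvd_card (tor a)
  have hk1 : k = 1 := by
    rcases k with _ | _ | k
    · exact absurd (Subgroup.eq_bot_of_card_eq _ (hk.trans (pow_zero _))) hne
    · rfl
    · exact absurd ((pow_dvd_pow 13 (by omega : 2 ≤ k + 1 + 1)).trans hd) (by decide)
  rw [hk1, pow_one] at hk
  refine ⟨hk, ?_⟩
  let P : Sylow 13 PSL₂ := Sylow.ofCard (tor a) (by
    have h13 : (1092 : ℕ).factorization 13 = 1 := by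
      rw [show (1092 : ℕ) = 84 * 13 from rfl, Nat.factorization_mul (by norm_num) (by norm_num), Finsupp.add_apply,
        Nat.factorization_eq_zero_of_not_dvd (by norm_num), Nat.Prime.factorization_self (Fact.out)]
    rw [hk, hN, h13, pow_one])
  have h1 := card_sylow_modEq_one 13 PSL₂
  rw [Sylow.card_eq_index_normalizer P] at h1
  change (Subgroup.normalizer (tor a : Set PSL₂)).index ≡ 1 [MOD 13] at h1
  set N := Subgroup.normalizer (tor a : Set PSL₂)
  have h2 := Subgroup.card_mul_index N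
  rw [hN] at h2
  obtain ⟨m, hm⟩ : 13 ∣ Nat.card N := hk ▸ Subgroup.card_dvd_of_le Subgroup.le_normalizer
  have h3 : N.index ∣ 84 := ⟨m, by rw [hm] at h2; linarith⟩
  have h4 : N.index ≤ 84 := Nat.le_of_dvd (by norm_num) h3
  have h5 : N.index ≠ 1 := fun e => by
    have htop : N = ⊤ := Subgroup.index_eq_one.1 e
    haveI hn : (tor a).Normal := Subgroup.normalizer_eq_top_iff.1 htop
    rcases hn.eq_bot_or_eq_top with e' | e'
    · exact hne e'
    · rw [e', Subgroup.card_top, hN] at hk
      omega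
  have h6 : N.index = 14 := by
    unfold Nat.ModEq at h1
    interval_cases h : N.index <;> simp_all
  rw [h6] at h2
  omega

theorem classify_sub (M : Subgroup PSL₂) :
    Nat.card M = 1 ∨
    (∃ a ∈ M, a ≠ 1 ∧ a ^ 13 ≠ 1 ∧ M ≤ tor a) ∨
    (∃ a ∈ M, a ≠ 1 ∧ a ^ 13 ≠ 1 ∧ M ≤ Subgroup.normalizer (tor a : Set PSL₂) ∧
      Nat.card M = 2 * Nat.card (M ⊓ tor a : Subgroup PSL₂) ∧ 2 ≤ Nat.card (M ⊓ tor a : Subgroup PSL₂)) ∨
    (∃ a ∈ M, a ≠ 1 ∧ a ^ 13 = 1 ∧ M ≤ Subgroup.normalizer (tor a : Set PSL₂) ∧ tor a ≤ M) ∨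
    Nat.card M = 12 ∨ M = ⊤ := by
  set D := pslData (F := F) 13
  have hN : Nat.card PSL₂ = 1092 := (basics hF).2.2
  have hd : Nat.card M ∣ 1092 := hN ▸ Subgroup.card_subgroup_dvd_card M
  have hinf : ∀ a : M, Nat.card ((tor (a : PSL₂)).subgroupOf M) = Nat.card (M ⊓ tor (a : PSL₂) : Subgroup PSL₂) := fun a => by
    rw [← Subgroup.card_map_of_injective M.subtype_injective, Subgroup.subgroupOf_map_subtype, inf_comm]
  have hle : ∀ a : M, (a : PSL₂) ≠ 1 → (a : PSL₂) ^ 13 = 1 → tor (a : PSL₂) ≤ M := fun a ha hap => by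
    have h13 := (uni_cases hF ha hap).1
    have h2 : Nat.card (M ⊓ tor (a : PSL₂) : Subgroup PSL₂) ∣ 13 := h13 ▸ Subgroup.card_dvd_of_le inf_le_right
    rcases (Nat.dvd_prime (Fact.out)).1 h2 with e | e
    · exfalso
      have h3 := Subgroup.eq_bot_of_card_eq _ e
      exact ha (Subgroup.mem_bot.1 (h3 ▸ Subgroup.mem_inf.2 ⟨a.2, D.self _⟩))
    · exact (Subgroup.eq_of_le_of_card_ge inf_le_right (by rw [e, h13])).ge.trans inf_le_left
  have hv1 : ∀ {a : M}, a ≠ 1 → (a : PSL₂) ≠ 1 := fun ha e => ha (Subtype.ext e)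
  have hvp : ∀ {a : M}, a ^ 13 ≠ 1 → (a : PSL₂) ^ 13 ≠ 1 := fun ha e => ha (Subtype.ext (by simpa using e))
  have hvu : ∀ {a : M}, a ^ 13 = 1 → (a : PSL₂) ^ 13 = 1 := fun ha => by simpa using congrArg Subtype.val ha
  have hnorm : ∀ a : M, a ≠ 1 → Subgroup.normalizer ((D.restrict M).T a : Set M) = ⊤ →
      M ≤ Subgroup.normalizer (tor (a : PSL₂) : Set PSL₂) := fun a ha htop m hm => by
    have h := ((D.restrict M).mem_normalizer_iff ha).1 (htop.ge (Subgroup.mem_top (⟨m, hm⟩ : M)))
    exact (D.mem_normalizer_iff (hv1 ha)).2 h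
  rcases (D.restrict M).classify (Fact.out : Nat.Prime 13) with h | ⟨a, ha, hap, h⟩ | ⟨a, ha, hap, hidx, htop, -⟩ | ⟨a, ha, hap, htop⟩ | ⟨h, -, -⟩ | ⟨h, -, -⟩ | ⟨h, -, -⟩ | ⟨a, t, ha, hap, hd3, ht2, ht, -, hX⟩
  · exact Or.inl h
  · refine Or.inr (Or.inl ⟨a, a.2, hv1 ha, hvp hap, fun m hm => ?_⟩)
    exact (h.ge (Subgroup.mem_top (⟨m, hm⟩ : M)) :)
  · refine Or.inr (Or.inr (Or.inl ⟨a, a.2, hv1 ha, hvp hap, hnorm a ha htop, ?_, ?_⟩))
    · rw [← hinf a]
      have h := Subgroup.card_mul_index ((D.restrict M).T a)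
      rw [hidx, mul_comm] at h
      exact h.symm
    · haveI : Nontrivial (M ⊓ tor (a : PSL₂) : Subgroup PSL₂) :=
        ⟨⟨⟨a, a.2, D.self _⟩, 1, fun e => hv1 ha (congrArg Subtype.val e)⟩⟩
      exact Finite.one_lt_card
  · exact Or.inr (Or.inr (Or.inr (Or.inl ⟨a, a.2, hv1 ha, hvu hap, hnorm a ha htop, hle a (hv1 ha) (hvu hap)⟩)))
  · exact Or.inr (Or.inr (Or.inr (Or.inr (Or.inl h))))
  · rw [h] at hd; exact absurd hd (by decide)
  · rw [h] at hd; exact absurd hd (by decide)
  · refine Or.inr (Or.inr (Or.inr (Or.inr (Or.inr ?_))))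
    have hT : Nat.card ((D.restrict M).T a) = 13 := by
      show Nat.card ((tor (a : PSL₂)).subgroupOf M) = 13
      rw [hinf a, inf_eq_right.2 (hle a (hv1 ha) (hvu hap)), (uni_cases hF (hv1 ha) (hvu hap)).1]
    rw [hT] at ht hX
    rcases ht with e | e
    · rw [e] at hX; rw [hX] at hd; exact absurd hd (by decide)
    · refine Subgroup.eq_top_of_card_eq _ ?_
      rw [hX, hN, show t = 6 by omega]

theorem ord_of_ne_top {M : Subgroup PSL₂} (hM : M ≠ ⊤) : Ord (Nat.card M) := by
  rcases classify_sub hF M with h | ⟨a, -, ha, hap, h⟩ | ⟨a, -, ha, hap, -, h2, h3⟩ | ⟨a, -, ha, hap, h, -⟩ | h | h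
  · exact Or.inl (h ▸ one_dvd 6)
  · have hd := Subgroup.card_dvd_of_le h
    rcases tor_cases hF ha hap with ⟨e, -⟩ | ⟨e, -⟩ <;> rw [e] at hd
    · exact Or.inl hd
    · exact Or.inr (Or.inl hd)
  · have hd : Nat.card (M ⊓ tor a : Subgroup PSL₂) ∣ Nat.card (tor a) := Subgroup.card_dvd_of_le inf_le_right
    unfold Ord
    rcases tor_cases hF ha hap with ⟨e, -⟩ | ⟨e, -⟩ <;> rw [e] at hd <;>
      have := Nat.le_of_dvd (by norm_num) hd <;>
      interval_cases hc : Nat.card (M ⊓ tor a : Subgroup PSL₂) <;> simp_all (config := { decide := true })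
  · have hd := Subgroup.card_dvd_of_le h
    rw [(uni_cases hF ha hap).2] at hd
    exact Or.inr (Or.inr (Or.inr (Or.inr (Or.inr hd))))
  · exact Or.inr (Or.inr (Or.inr (Or.inl h)))
  · exact absurd h hM

theorem coatom_of_card {N : Subgroup PSL₂} (h : Nat.card N = 12 ∨ Nat.card N = 14 ∨ Nat.card N = 78) : IsCoatom N := by
  have hN : Nat.card PSL₂ = 1092 := (basics hF).2.2
  refine ⟨fun e => by rw [e, Subgroup.card_top, hN] at h; omega, fun M hM => ?_⟩
  by_contra hne
  have hlt : Nat.card N < Nat.card M := lt_of_le_of_ne (Subgroup.card_le_of_le hM.le) fun e =>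
    hM.ne (Subgroup.eq_of_le_of_card_ge hM.le e.ge)
  have hd := Subgroup.card_dvd_of_le hM.le
  have ho := ord_of_ne_top hF hne
  unfold Ord at ho
  rcases ho with h' | h' | h' | h' | h' | h'
  · have := Nat.le_of_dvd (by norm_num) h'; omega
  · have := Nat.le_of_dvd (by norm_num) h'; omega
  · omega
  · omega
  · rcases h with e | e | e <;> rw [e] at hlt hd <;> rw [h'] at hlt hd <;> revert hlt hd <;> decide
  · have h78 := Nat.le_of_dvd (by norm_num) h'
    rcases h with e | e | e <;> rw [e] at hlt hd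
    · exact absurd (hd.trans h') (by decide)
    · exact absurd (hd.trans h') (by decide)
    · omega

omit hF in
theorem le_normalizer_of_card {T H : Subgroup PSL₂} [IsCyclic T] (hHT : H ≤ T) :
    Subgroup.normalizer (T : Set PSL₂) ≤ Subgroup.normalizer (H : Set PSL₂) := by
  intro n hn
  refine Subgroup.mem_normalizer_fintype fun v hv => ?_
  obtain ⟨g, hg⟩ := IsCyclic.exists_generator (α := T)
  obtain ⟨i, hi⟩ := hg ⟨v, hHT hv⟩
  -- conjugation acts on the cyclic group as a power map
  obtain ⟨j, hj⟩ := hg ⟨n * g * n⁻¹, (Subgroup.mem_normalizer_iff.1 hn g).1 g.2⟩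
  have hj' : n * (g : PSL₂) * n⁻¹ = (g : PSL₂) ^ j := (congrArg Subtype.val hj).symm
  have hi' : v = (g : PSL₂) ^ i := (congrArg Subtype.val hi).symm
  have e : n * v * n⁻¹ = v ^ j := by
    have h := map_zpow (MulAut.conj n) (g : PSL₂) i
    simp only [MulAut.conj_apply] at h
    rw [hi', h, hj', ← zpow_mul, ← zpow_mul, mul_comm]
  show n * v * n⁻¹ ∈ H
  rw [e]
  exact zpow_mem hv j

theorem nm_psl : NM PSL₂ := by
  intro H hH
  haveI := simple_psl hF
  set D := pslData (F := F) 13
  set N := Subgroup.normalizer (H : Set PSL₂) with hNdef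
  have hNtop : N ≠ ⊤ := fun e => hH (Subgroup.normalizer_eq_top_iff.1 e)
  have ho := ord_of_ne_top hF hNtop
  refine coatom_of_card hF ?_
  have key : ∀ n : ℕ, (n = 12 ∨ n = 14 ∨ n = 78) → n ∣ Nat.card N → Nat.card N = 12 ∨ Nat.card N = 14 ∨ Nat.card N = 78 := by
    intro n hn hd
    have hpos : 0 < Nat.card N := Nat.card_pos
    have hge := Nat.le_of_dvd hpos hd
    unfold Ord at ho
    rcases ho with h' | h' | h' | h' | h' | h'
    · have := Nat.le_of_dvd (by norm_num) h'; omega
    · have := Nat.le_of_dvd (by norm_num) h'; omega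
    · omega
    · exact Or.inl h'
    · exact Or.inr (Or.inl h')
    · have h78 := Nat.le_of_dvd (by norm_num) h'
      rcases hn with e | e | e <;> rw [e] at hd hge
      · exact absurd (hd.trans h') (by decide)
      · exact absurd (hd.trans h') (by decide)
      · omega
  rcases classify_sub hF H with h | ⟨a, -, ha, hap, h⟩ | ⟨a, haH, ha, hap, hle, h2, h3⟩ | ⟨a, -, ha, hap, hle, hTH⟩ | h | h
  · exact absurd (by rw [Subgroup.eq_bot_of_card_eq _ h]; infer_instance) hH
  · haveI : IsCyclic (tor a) := D.semi_cyclic ha hap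
    have hd := Subgroup.card_dvd_of_le (le_normalizer_of_card h)
    rcases tor_cases hF ha hap with ⟨-, e⟩ | ⟨-, e⟩ <;> rw [e] at hd
    · exact key 12 (Or.inl rfl) hd
    · exact key 14 (Or.inr (Or.inl rfl)) hd
  · set T := tor a
    have hd : Nat.card (H ⊓ T : Subgroup PSL₂) ∣ Nat.card T := Subgroup.card_dvd_of_le inf_le_right
    by_cases h2' : Nat.card (H ⊓ T : Subgroup PSL₂) = 2
    · -- a four-group: its normalizer is larger than its centralizer
      have h4 : Nat.card H = 4 := by rw [h2, h2']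
      have hfac : (1092 : ℕ).factorization 2 = 2 := by
        rw [show (1092 : ℕ) = 273 * 2 ^ 2 from rfl, Nat.factorization_mul (by norm_num) (by norm_num), Finsupp.add_apply,
          Nat.factorization_eq_zero_of_not_dvd (by norm_num), Nat.Prime.factorization_pow Nat.prime_two, Finsupp.single_eq_same]
      let P : Sylow 2 PSL₂ := Sylow.ofCard H (by rw [h4, (basics hF).2.2, hfac]; rfl)
      have hd4 : 4 ∣ Nat.card N := h4 ▸ Subgroup.card_dvd_of_le Subgroup.le_normalizer
      have hpos : 0 < Nat.card N := Nat.card_pos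
      unfold Ord at ho
      rcases ho with h' | h' | h' | h' | h' | h'
      · exact absurd (hd4.trans h') (by decide)
      · exact absurd (hd4.trans h') (by decide)
      · exfalso
        have hNH : N = H := (Subgroup.eq_of_le_of_card_ge Subgroup.le_normalizer (by rw [h', h4])).symm
        haveI : Fact (Nat.Prime 2) := ⟨Nat.prime_two⟩
        have hab : IsMulCommutative H := IsPGroup.isMulCommutative_of_card_eq_prime_sq (p := 2) (by rw [h4]; norm_num)
        have hP : Subgroup.normalizer ((P : Subgroup PSL₂) : Set PSL₂) ≤ Subgroup.centralizer ((P : Subgroup PSL₂) : Set PSL₂) := fun n hn =>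
          Subgroup.mem_centralizer_iff.2 fun v hv => congrArg Subtype.val (mul_comm' (⟨v, hv⟩ : H) ⟨n, hNH.le hn⟩)
        have hc := MonoidHom.ker_transferSylow_isComplement' P hP
        set K := (MonoidHom.transferSylow P hP).ker
        haveI hKn : K.Normal := MonoidHom.normal_ker _
        have hcard : Nat.card K * 4 = 1092 := by
          rw [← h4, ← (basics hF).2.2]
          exact hc.card_mul
        rcases hKn.eq_bot_or_eq_top with e | e
        · rw [e, Subgroup.card_bot] at hcard; omega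
        · rw [e, Subgroup.card_top, (basics hF).2.2] at hcard; omega
      · exact Or.inl h'
      · exact Or.inr (Or.inl h')
      · exact absurd (hd4.trans h') (by decide)
    · have hNT : Nat.card (Subgroup.normalizer (T : Set PSL₂)) ≤ 2 * Nat.card H := by
        rw [(normalizer_tor 13 ha hap).1, h2]
        rcases tor_cases hF ha hap with ⟨e, -⟩ | ⟨e, -⟩ <;> rw [e] at hd ⊢ <;>
          have hh := Nat.le_of_dvd (by norm_num) hd <;>
          interval_cases hc : Nat.card (H ⊓ T : Subgroup PSL₂) <;> simp_all (config := { decide := true })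
      haveI hn : (H.subgroupOf (Subgroup.normalizer (T : Set PSL₂))).Normal := by
        have hmul := Subgroup.card_mul_index (H.subgroupOf (Subgroup.normalizer (T : Set PSL₂)))
        rw [Nat.card_congr (Subgroup.subgroupOfEquivOfLe hle).toEquiv] at hmul
        have h0 : (H.subgroupOf (Subgroup.normalizer (T : Set PSL₂))).index ≠ 0 := Subgroup.index_ne_zero_of_finite
        have hle2 : (H.subgroupOf (Subgroup.normalizer (T : Set PSL₂))).index ≤ 2 :=
          Nat.le_of_mul_le_mul_left (by rw [hmul, mul_comm]; exact hNT) (Nat.card_pos (α := H))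
        rcases (by omega : (H.subgroupOf (Subgroup.normalizer (T : Set PSL₂))).index = 1 ∨ (H.subgroupOf (Subgroup.normalizer (T : Set PSL₂))).index = 2) with e | e
        · rw [Subgroup.index_eq_one.1 e]; infer_instance
        · exact Subgroup.normal_of_index_eq_two e
      have hd' := Subgroup.card_dvd_of_le (Subgroup.normal_subgroupOf_iff_le_normalizer hle |>.1 hn)
      rcases tor_cases hF ha hap with ⟨-, e⟩ | ⟨-, e⟩ <;> rw [e] at hd'
      · exact key 12 (Or.inl rfl) hd'
      · exact key 14 (Or.inr (Or.inl rfl)) hd'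
  · have hsub : Subgroup.normalizer (tor a : Set PSL₂) ≤ N := by
      intro n hn
      refine Subgroup.mem_normalizer_fintype fun v hv => ?_
      have h1 := D.borel_comm ha hap ((D.mem_normalizer_iff ha).1 hn) ((D.mem_normalizer_iff ha).1 (hle hv))
      show n * v * n⁻¹ ∈ H
      rw [show n * v * n⁻¹ = (n * v * n⁻¹ * v⁻¹) * v by group]
      exact H.mul_mem (hTH h1) hv
    have hd := Subgroup.card_dvd_of_le hsub
    rw [(uni_cases hF ha hap).2] at hd
    exact key 78 (Or.inr (Or.inr rfl)) hd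
  · exact key 12 (Or.inl rfl) (h ▸ Subgroup.card_dvd_of_le Subgroup.le_normalizer)
  · exact absurd (h ▸ (inferInstance : (⊤ : Subgroup PSL₂).Normal)) hH

theorem nm_sl : NM SL₂ := by
  intro H hH
  obtain ⟨hodd, -, -⟩ := basics hF
  have h2 : (2 : F) ≠ 0 := fun e => by
    have h : ((2 : ℕ) : F) = 0 := by exact_mod_cast e
    have := (CharP.cast_eq_zero_iff F 13 2).1 h
    omega
  set π : SL₂ →* PSL₂ := proj
  have hsurj : Function.Surjective π := proj_surjective
  set M := (H.map π).comap π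
  -- the normalizers agree
  have hN : Subgroup.normalizer (H : Set SL₂) = Subgroup.normalizer (M : Set SL₂) := by
    by_cases h1 : -1 ∈ H
    · have : M = H := by
        refine le_antisymm (fun x hx => ?_) (Subgroup.le_comap_map π H)
        obtain ⟨y, hy, hyx⟩ := hx
        rcases proj_eq_iff.1 hyx with rfl | rfl
        · exact hy
        · rw [← neg_one_mul]; exact H.mul_mem h1 hy
      rw [this]
    · have hoddH : ¬ 2 ∣ Nat.card (H.map π) := fun h => h1 (Gen.neg_one_mem h2 h)
      have hHodd : ¬ 2 ∣ Nat.card H := by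
        intro h
        obtain ⟨g, hg⟩ := exists_prime_orderOf_dvd_card' (G := H) 2 (hp := ⟨Nat.prime_two⟩) h
        have hg' : orderOf (g : SL₂) = 2 := by rw [Subgroup.orderOf_coe, hg]
        refine hoddH (dvd_trans ?_ (orderOf_dvd_natCard (⟨π g, g, g.2, rfl⟩ : H.map π)))
        rw [← Subgroup.orderOf_coe]
        have hne : π (g : SL₂) ≠ 1 := fun e => by
          rcases proj_eq_iff.1 (e.trans (map_one π).symm) with e' | e'
          · rw [← e', orderOf_one] at hg'; omega
          · exact h1 (by rw [show (-1 : SL₂) = (g : SL₂) by rw [e', neg_neg]]; exact g.2)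
        exact dvd_of_eq (orderOf_eq_prime (p := 2) (hp := ⟨Nat.prime_two⟩) (by rw [← map_pow, orderOf_dvd_iff_pow_eq_one.1 hg'.dvd, map_one]) hne).symm
      refine le_antisymm (fun n hn => ?_) (fun n hn => ?_)
      · refine Subgroup.mem_normalizer_fintype fun x hx => ?_
        obtain ⟨y, hy, hyx⟩ := hx
        exact ⟨n * y * n⁻¹, (Subgroup.mem_normalizer_iff.1 hn y).1 hy, by simp [hyx]⟩
      · refine Subgroup.mem_normalizer_fintype fun x hx => ?_
        have h : n * x * n⁻¹ ∈ M := (Subgroup.mem_normalizer_iff.1 hn x).1 (Subgroup.le_comap_map π H hx)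
        obtain ⟨y, hy, hyx⟩ := h
        rcases proj_eq_iff.1 hyx with e | e
        · show n * x * n⁻¹ ∈ H
          rw [e]; exact hy
        · exfalso
          have hox : orderOf x ∣ Nat.card H := by
            have := orderOf_dvd_natCard (⟨x, hx⟩ : H)
            rwa [← Subgroup.orderOf_coe] at this
          have hoy : orderOf y ∣ Nat.card H := by
            have := orderOf_dvd_natCard (⟨y, hy⟩ : H)
            rwa [← Subgroup.orderOf_coe] at this
          have h1' : (n * x * n⁻¹) ^ Nat.card H = 1 := by rw [conj_pow, orderOf_dvd_iff_pow_eq_one.1 hox]; group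
          rw [e, neg_pow, orderOf_dvd_iff_pow_eq_one.1 hoy, mul_one,
            Odd.neg_one_pow (Nat.not_even_iff_odd.1 fun hev => hHodd hev.two_dvd)] at h1'
          exact h1 (by rw [h1']; exact H.one_mem)
  have hn : ¬ (H.map π).Normal := fun hn => by
    haveI : M.Normal := hn.comap π
    exact hH (Subgroup.normalizer_eq_top_iff.1 (hN.trans (Subgroup.normalizer_eq_top M)))
  rw [hN, show Subgroup.normalizer (M : Set SL₂) = (Subgroup.normalizer ((H.map π : Subgroup PSL₂) : Set PSL₂)).comap π from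
    (Subgroup.comap_normalizer_eq_of_surjective _ hsurj).symm]
  exact isCoatom_comap_surj π hsurj (nm_psl hF _ hn)

end psl

/-- Let K be isomorphic to PSL(2, 13) or to SL(2, 13) and let S be a finite abelian group of order coprime to the order of K. Then in the direct product K × S every subgroup that is not normal has a normalizer that is a maximal subgroup. -/
theorem result {K S : Type*} [Group K] [CommGroup S] [Finite K] [Finite S]
    (hK : Nonempty (K ≃* Matrix.ProjectiveSpecialLinearGroup (Fin 2) (ZMod 13)) ∨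
      Nonempty (K ≃* Matrix.SpecialLinearGroup (Fin 2) (ZMod 13)))
    (hKS : (Nat.card K).Coprime (Nat.card S)) (H : Subgroup (K × S)) (hH : ¬ H.Normal) :
    IsCoatom (Subgroup.normalizer (H : Set (K × S))) := by

  haveI : Fact (Nat.Prime 13) := ⟨by norm_num⟩
  refine nm_prod hKS ?_ H hH
  rcases hK with ⟨⟨e⟩⟩ | ⟨⟨e⟩⟩
  · exact nm_congr e (nm_psl (ZMod.card 13))
  · exact nm_congr e (nm_sl (ZMod.card 13))

end Cfsg.Agent.S4234
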