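import Cfsg.Statements.S4236
import Mathlib
import Cfsg.Agent.Lib.Transfer.SylowNumber
import Cfsg.Agent.Lib.Transfer.JordanPrimeCycle

set_option maxHeartbeats 1000000
set_option maxRecDepth 8000

set_option autoImplicit false
open Cfsg
open scoped Pointwise

namespace Cfsg.Agent.S4236

universe u

open Equiv Equiv.Perm MulAction in
/-- A transitive group of degree 35 containing a 17-cycle is primitive. -/
theorem primitive_of_cycle {α : Type*} [Fintype α] [DecidableEq α] (hα : Fintype.card α = 35)
    (R : Subgroup (Perm α)) [IsPretransitive R α] {c : Perm α} (hc : c ∈ R) (hcc : c.IsCycle)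
    (hcs : c.support.card = 17) : IsPreprimitive R α := by
  have hco : orderOf c = 17 := hcc.orderOf.trans hcs
  refine ⟨fun {B} hB => ?_⟩
  rcases B.subsingleton_or_nontrivial with h | hnt
  · exact Or.inl h
  refine Or.inr (by_contra fun hne => ?_)
  obtain ⟨s, hs⟩ := hcc.nonempty_support
  obtain ⟨b, hb⟩ := hnt.nonempty
  obtain ⟨g, hg⟩ := MulAction.exists_smul_eq R b s
  set B' : Set α := g • B with hB'
  have hB'b : IsBlock R B' := hB.translate g
  have hsB' : s ∈ B' := ⟨b, hb, hg⟩
  have hcard : B'.ncard = B.ncard := by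
    rw [hB', ← Set.image_smul, Set.ncard_image_of_injective _ (MulAction.injective g)]
  have hn2 : 1 < B.ncard := (Set.one_lt_ncard).2 hnt
  have hn35 : B.ncard < 35 := by
    rw [← hα, ← Nat.card_eq_fintype_card, ← Set.ncard_univ]
    exact Set.ncard_lt_ncard (Set.ssubset_univ_iff.2 hne)
  have hmul := hB'b.ncard_block_mul_ncard_orbit_eq ⟨s, hsB'⟩
  rw [Nat.card_eq_fintype_card, hα, hcard] at hmul
  have hm : (orbit R B').ncard ≤ 7 ∧ B.ncard ≤ 7 := by
    have hd : B.ncard ∈ Nat.divisors 35 := Nat.mem_divisors.2 ⟨⟨_, hmul.symm⟩, by norm_num⟩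
    rw [show Nat.divisors 35 = {1, 5, 7, 35} by decide] at hd
    simp only [Finset.mem_insert, Finset.mem_singleton] at hd
    rcases hd with hd | hd | hd | hd <;> rw [hd] at hmul hn2 hn35 <;> omega
  set cR : R := ⟨c, hc⟩ with hcR
  set C : Subgroup R := Subgroup.zpowers cR with hC
  have horb : (orbit C B').ncard ∣ 17 := by
    rw [← index_stabilizer]
    refine (Subgroup.index_dvd_card _).trans ?_
    rw [hC, Nat.card_zpowers, hcR, ← Subgroup.orderOf_coe]
    exact hco.dvd
  have hle : (orbit C B').ncard ≤ 7 :=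
    (Set.ncard_le_ncard (fun x hx => by obtain ⟨k, rfl⟩ := hx; exact ⟨(k : R), rfl⟩)
      (Set.toFinite _)).trans hm.1
  have h1 : (orbit C B').ncard = 1 := by
    rcases (Nat.dvd_prime (by norm_num)).1 horb with h | h
    · exact h
    · omega
  obtain ⟨x, hx⟩ := Set.ncard_eq_one.1 h1
  have hfix : ∀ k : C, k • B' = B' := by
    intro k
    have a1 : k • B' ∈ ({x} : Set (Set α)) := hx ▸ mem_orbit B' k
    have a2 : B' ∈ ({x} : Set (Set α)) := hx ▸ mem_orbit_self B'
    rw [Set.mem_singleton_iff] at a1 a2
    rw [a1, a2]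
  have hsub : (c.support : Set α) ⊆ B' := by
    intro t ht
    obtain ⟨i, rfl⟩ := hcc.sameCycle (Equiv.Perm.mem_support.1 hs) (Equiv.Perm.mem_support.1 ht)
    have h2 := hfix ⟨cR ^ i, Subgroup.zpow_mem_zpowers cR i⟩
    rw [← h2]
    refine ⟨s, hsB', ?_⟩
    show ((cR ^ i : R) : Perm α) • s = (c ^ i) s
    rw [SubgroupClass.coe_zpow]
    rfl
  have := Set.ncard_le_ncard hsub (Set.toFinite _)
  rw [Set.ncard_coe_finset, hcs, hcard] at this
  omega

/-- A permutation of order dividing 17 of fewer than 17 points is trivial. -/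
theorem perm_eq_one_of_card_lt {X : Type*} [Fintype X] [DecidableEq X] (hX : Fintype.card X < 17)
    (σ : Equiv.Perm X) (h : σ ^ 17 = 1) : σ = 1 := by
  rw [← orderOf_eq_one_iff]
  have h1 := orderOf_dvd_of_pow_eq_one h
  rcases (Nat.dvd_prime (by norm_num)).1 h1 with h2 | h2
  · exact h2
  · have h3 := orderOf_dvd_card (x := σ)
    rw [h2, Fintype.card_perm] at h3
    have := (Nat.Prime.dvd_factorial (by norm_num)).1 h3
    omega

theorem reduced (G : Type u) [Group G] [Finite G] [Fact (Nat.Prime 17)]
    (h35 : Nat.card (Sylow 17 G) = 35)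
    (hfaith : ∀ g : G, (∀ P : Sylow 17 G, g • P = P) → g = 1)
    (hgen : ∀ M : Subgroup G, (∀ P : Sylow 17 G, (P : Subgroup G) ≤ M) → M = ⊤) : False := by
  classical
  let α := Sylow 17 G
  have : Fintype α := Fintype.ofFinite _
  have hα : Fintype.card α = 35 := by rw [← Nat.card_eq_fintype_card, h35]
  set φ : G →* Equiv.Perm α := MulAction.toPermHom G α with hφ
  have hφa : ∀ g (X : α), φ g X = g • X := fun _ _ => rfl
  have hφi : Function.Injective φ := by
    rw [← MonoidHom.ker_eq_bot_iff, eq_bot_iff]
    intro g hg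
    exact Subgroup.mem_bot.2 (hfaith g fun X => by rw [← hφa, MonoidHom.mem_ker.1 hg]; rfl)
  -- the image is even
  have hsign : ∀ g : G, Equiv.Perm.sign (φ g) = 1 := by
    have := hgen ((Equiv.Perm.sign.comp φ).ker) fun X x hx => by
      obtain ⟨k, hk⟩ := X.isPGroup' ⟨x, hx⟩
      have hk' : x ^ 17 ^ k = 1 := by simpa using congrArg Subtype.val hk
      rw [MonoidHom.mem_ker]
      have h1 := congrArg (Equiv.Perm.sign.comp φ) hk'
      rw [map_pow, map_one] at h1
      rcases Int.units_eq_one_or ((Equiv.Perm.sign.comp φ) x) with h | h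
      · exact h
      · rw [h, (Odd.pow (by decide : Odd 17)).neg_one_pow] at h1
        exact absurd h1 (by decide)
    intro g
    exact MonoidHom.mem_ker.1 (this ▸ Subgroup.mem_top g : g ∈ (Equiv.Perm.sign.comp φ).ker)
  obtain ⟨P⟩ := (inferInstance : Nonempty α)
  have hPfix : ∀ x ∈ (P : Subgroup G), x • P = P := fun x hx => Cfsg.Agent.Transfer.smul_sylow_self P hx
  -- orbit lengths
  have horb : ∀ Q : α, Q ≠ P → (MulAction.orbit (P : Subgroup G) Q).ncard = 17 := by
    intro Q hQ
    have h1 := Cfsg.Agent.Transfer.card_orbit_sylow P Q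
    rw [Nat.card_coe_set_eq] at h1
    obtain ⟨a, ha⟩ := P.isPGroup'.exists_card_eq
    have h2 : ((P : Subgroup G) ⊓ Q).relIndex (P : Subgroup G) ∣ 17 ^ a := ha ▸ Subgroup.index_dvd_card _
    obtain ⟨k, -, hk⟩ := (Nat.dvd_prime_pow (by norm_num)).1 h2
    have h3 : (MulAction.orbit (P : Subgroup G) Q).ncard < 35 := by
      rw [← hα, ← Nat.card_eq_fintype_card, ← Set.ncard_univ]
      refine Set.ncard_lt_ncard (Set.ssubset_univ_iff.2 fun he => hQ ?_)
      obtain ⟨x, hx⟩ : P ∈ MulAction.orbit (P : Subgroup G) Q := he ▸ Set.mem_univ P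
      have hx' : (x : G) • Q = (x : G) • P := hx.trans (hPfix x x.2).symm
      exact MulAction.injective (x : G) hx'
    rw [h1, hk] at h3 ⊢
    have : k < 2 := (Nat.pow_lt_pow_iff_right (by norm_num)).1 (h3.trans_le (by norm_num))
    rcases Nat.eq_zero_or_pos k with rfl | hk0
    · rw [pow_zero] at hk
      exact absurd (Sylow.ext (P.3 Q.isPGroup' ((Subgroup.relIndex_eq_one.1 hk).trans inf_le_right))) hQ
    · rw [show k = 1 by omega, pow_one]
  have hexQ : ∃ Q, Q ≠ P := by
    by_contra h
    push Not at h
    have : Subsingleton α := ⟨fun a b => (h a).trans (h b).symm⟩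
    have := Fintype.card_le_one_iff_subsingleton.2 this
    omega
  obtain ⟨Q, hQ⟩ := hexQ
  set O := MulAction.orbit (P : Subgroup G) Q with hO
  have hOP : P ∉ O := fun hP => hQ (by
    obtain ⟨x, hx⟩ := hP
    exact MulAction.injective (x : G) (hx.trans (hPfix x x.2).symm))
  have hother : ∀ R, R ≠ P → R ∉ O → ∀ Y, Y ≠ P → Y ∉ O → Y ∈ MulAction.orbit (P : Subgroup G) R := by
    intro R hR hRO Y hY hYO
    by_contra hYR
    set O₂ := MulAction.orbit (P : Subgroup G) R with hO₂
    have hdis : Disjoint O O₂ := Set.disjoint_left.2 fun z hz hz' => hRO (by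
      rw [hO, ← MulAction.orbit_eq_iff.2 hz, MulAction.orbit_eq_iff.2 hz']
      exact MulAction.mem_orbit_self R)
    have hO₂P : P ∉ O₂ := fun hP => hR (by
      obtain ⟨x, hx⟩ := hP
      exact MulAction.injective (x : G) (hx.trans (hPfix x x.2).symm))
    have h1 := Set.ncard_le_ncard (Set.subset_univ ({P, Y} ∪ (O ∪ O₂))) (Set.toFinite _)
    rw [Set.ncard_univ, h35, Set.ncard_union_eq (by
      rw [Set.disjoint_left]
      rintro z (rfl | rfl) (hz | hz)
      exacts [hOP hz, hO₂P hz, hYO hz, hYR hz]) (Set.toFinite _) (Set.toFinite _),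
      Set.ncard_union_eq hdis (Set.toFinite _) (Set.toFinite _), Set.ncard_pair hY.symm,
      horb Q hQ, horb R hR] at h1
    omega
  by_cases hbig : 17 ^ 2 ∣ Nat.card (P : Subgroup G)
  · -- a 17-cycle gives the alternating group
    have hrel : ((P : Subgroup G) ⊓ Q).relIndex (P : Subgroup G) = 17 := by
      rw [← Cfsg.Agent.Transfer.card_orbit_sylow, Nat.card_coe_set_eq, horb Q hQ]
    set D := (P : Subgroup G) ⊓ Q with hD
    have hcardD := (D.subgroupOf (P : Subgroup G)).card_mul_index
    rw [show (D.subgroupOf (P : Subgroup G)).index = 17 from hrel,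
      Nat.card_congr (Subgroup.subgroupOfEquivOfLe (inf_le_left : D ≤ (P : Subgroup G))).toEquiv] at hcardD
    have h17D : 17 ∣ Nat.card D := by
      obtain ⟨e, he⟩ := hbig
      refine ⟨e, ?_⟩
      rw [he] at hcardD
      rw [show (17 : ℕ) ^ 2 = 289 by norm_num] at hcardD
      change Nat.card D * 17 = _ at hcardD
      linarith
    have hDn : (D.subgroupOf (P : Subgroup G)).Normal := by
      apply Subgroup.normal_of_index_eq_minFac_card
      obtain ⟨a, ha⟩ := P.isPGroup'.exists_card_eq
      rw [ha, Nat.Prime.pow_minFac (by norm_num)]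
      · exact hrel
      · rintro rfl
        rw [pow_zero] at ha
        rw [ha] at hbig
        omega
    have hDnorm := (Subgroup.normal_subgroupOf_iff_le_normalizer (inf_le_left : D ≤ (P : Subgroup G))).1 hDn
    obtain ⟨d, hd⟩ := exists_prime_orderOf_dvd_card' (G := D) 17 h17D
    rw [← Subgroup.orderOf_coe] at hd
    have hdfix : ∀ X ∈ O, (d : G) • X = X := by
      rintro X ⟨x, rfl⟩
      have h1 : (x : G)⁻¹ * d * x ∈ D := by
        have := (Subgroup.mem_normalizer_iff.1 (inv_mem (hDnorm x.2)) (d : G)).1 d.2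
        rwa [inv_inv] at this
      show (d : G) • ((x : G) • Q) = (x : G) • Q
      rw [smul_smul, show (d : G) * x = x * ((x : G)⁻¹ * d * x) by group, ← smul_smul,
        Cfsg.Agent.Transfer.smul_sylow_self Q h1.2]
    have hord : orderOf (φ d) = 17 := by rw [orderOf_injective φ hφi, hd]
    have hsupp : (φ d).support.card ≤ 17 := by
      have hsub : ((φ d).support : Set α) ⊆ (insert P O)ᶜ := by
        intro X hX hX'
        apply Equiv.Perm.mem_support.1 hX
        rw [hφa]
        rcases hX' with rfl | hX'
        · exact hPfix _ d.2.1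
        · exact hdfix X hX'
      have := Set.ncard_le_ncard hsub (Set.toFinite _)
      rw [Set.ncard_coe_finset, Set.ncard_compl, h35, Set.ncard_insert_of_notMem hOP (Set.toFinite _),
        horb Q hQ] at this
      omega
    have hcyc : (φ d).IsCycle := Equiv.Perm.isCycle_of_prime_order (hord ▸ by norm_num) (by omega)
    have hcs : (φ d).support.card = 17 := hcyc.orderOf.symm.trans hord
    have : MulAction.IsPretransitive φ.range α := ⟨fun a b => by
      obtain ⟨g, hg⟩ := MulAction.exists_smul_eq G a b
      exact ⟨⟨φ g, g, rfl⟩, hg⟩⟩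
    have hA := Cfsg.Agent.Transfer.JordanPrimeCycle.alternatingGroup_le_of_cycle
      (primitive_of_cycle hα φ.range ⟨d, rfl⟩ hcyc hcs) (p := 17) (by norm_num) (by omega) hcyc hcs
      ⟨d, rfl⟩
    -- a 3-cycle fixing `P` does not respect the orbits
    obtain ⟨a, ha⟩ : ∃ a, a ∈ O := ⟨Q, MulAction.mem_orbit_self Q⟩
    obtain ⟨b, hb, hba⟩ : ∃ b, b ∈ O ∧ b ≠ a := Set.exists_ne_of_one_lt_ncard (by rw [horb Q hQ]; norm_num) a
    obtain ⟨x, hx⟩ : ∃ x, x ∉ insert P O := by
      by_contra h
      push Not at h
      have := Set.ncard_le_ncard (fun y (_ : y ∈ Set.univ) => h y) (Set.toFinite _)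
      rw [Set.ncard_univ, h35, Set.ncard_insert_of_notMem hOP (Set.toFinite _), horb Q hQ] at this
      omega
    rw [Set.mem_insert_iff, not_or] at hx
    have hxa : x ≠ a := fun e => hx.2 (e ▸ ha)
    have hxb : x ≠ b := fun e => hx.2 (e ▸ hb)
    have haP : a ≠ P := fun e => hOP (e ▸ ha)
    have hbP : b ≠ P := fun e => hOP (e ▸ hb)
    set c : Equiv.Perm α := Equiv.swap a x * Equiv.swap a b with hc
    have hce : c ∈ alternatingGroup α := by
      rw [Equiv.Perm.mem_alternatingGroup, hc, map_mul, Equiv.Perm.sign_swap hxa.symm,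
        Equiv.Perm.sign_swap hba.symm]
      rfl
    obtain ⟨g, hg⟩ := hA hce
    have hga : g • a = b := by
      rw [← hφa, hg, hc, Equiv.Perm.mul_apply, Equiv.swap_apply_left,
        Equiv.swap_apply_of_ne_of_ne hba hxb.symm]
    have hgb : g • b = x := by
      rw [← hφa, hg, hc, Equiv.Perm.mul_apply, Equiv.swap_apply_right, Equiv.swap_apply_left]
    have hgP : g • P = P := by
      rw [← hφa, hg, hc, Equiv.Perm.mul_apply, Equiv.swap_apply_of_ne_of_ne haP.symm hbP.symm,
        Equiv.swap_apply_of_ne_of_ne haP.symm (Ne.symm hx.1)]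
    obtain ⟨p, hp⟩ : b ∈ MulAction.orbit (P : Subgroup G) a := by
      rw [MulAction.orbit_eq_iff.2 ha]; exact hb
    have hgN : g ∈ Subgroup.normalizer ((P : Subgroup G) : Set G) := Sylow.smul_eq_iff_mem_normalizer.1 hgP
    have hp' := (Subgroup.mem_normalizer_iff.1 hgN p).1 p.2
    apply hx.2
    rw [← hgb, ← hp, hO, ← MulAction.orbit_eq_iff.2 hb]
    refine ⟨⟨_, hp'⟩, ?_⟩
    show (g * p * g⁻¹) • b = g • ((p : G) • a)
    rw [mul_smul, mul_smul, ← hga, inv_smul_smul]
  · -- `P` has order 17
    have hPc : Nat.card (P : Subgroup G) = 17 := by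
      obtain ⟨a, ha⟩ := P.isPGroup'.exists_card_eq
      rw [ha] at hbig ⊢
      have h1 : a < 2 := by
        by_contra h
        exact hbig (pow_dvd_pow 17 (by omega))
      rcases Nat.eq_zero_or_pos a with rfl | h0
      · have := horb Q hQ
        rw [← Nat.card_coe_set_eq, Cfsg.Agent.Transfer.card_orbit_sylow] at this
        have h2 := Subgroup.index_dvd_card (((P : Subgroup G) ⊓ Q).subgroupOf (P : Subgroup G))
        rw [show ((((P : Subgroup G) ⊓ Q).subgroupOf (P : Subgroup G))).index = 17 from this, ha, pow_zero] at h2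
        omega
      · rw [show a = 1 by omega, pow_one]
    set C := Subgroup.centralizer ((P : Subgroup G) : Set G) with hC
    have hCP : ∀ w ∈ C, w • P = P := fun w hw =>
      Sylow.smul_eq_iff_mem_normalizer.2 (Subgroup.centralizer_le_normalizer _ hw)
    have hcomm : ∀ w ∈ C, ∀ (x : (P : Subgroup G)) (X : α), w • ((x : G) • X) = (x : G) • (w • X) := by
      intro w hw x X
      rw [smul_smul, smul_smul, (Subgroup.mem_centralizer_iff.1 hw x x.2)]
    have hinv : ∀ w ∈ C, orderOf w ≠ 2 := by
      intro w hw ho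
      have hσ : orderOf (φ w) = 2 := by rw [orderOf_injective φ hφi, ho]
      obtain ⟨n, hn⟩ := Equiv.Perm.cycleType_prime_order (σ := φ w) (hσ ▸ Nat.prime_two)
      rw [hσ] at hn
      have hsum := Equiv.Perm.sum_cycleType (φ w)
      rw [hn, Multiset.sum_replicate, smul_eq_mul] at hsum
      set S : Set α := ((φ w).support : Set α) with hS
      have hPS : P ∉ S := fun hP => Equiv.Perm.mem_support.1 hP (hCP w hw)
      have h17 : 17 ∣ S.ncard := Cfsg.Agent.Transfer.dvd_ncard_of_orbits (H := (P : Subgroup G)) S
        (by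
          rintro X hX _ ⟨x, rfl⟩
          rw [hS, Finset.mem_coe, Equiv.Perm.mem_support, hφa] at hX ⊢
          intro e
          apply hX
          apply MulAction.injective (x : G)
          exact (hcomm w hw x X).symm.trans e)
        (fun X hX => horb X fun e => hPS (e ▸ hX))
      rw [hS, Set.ncard_coe_finset, ← hsum] at h17
      have hlt : (φ w).support.card < 35 := by
        rw [← hα]
        exact Finset.card_lt_univ_of_notMem hPS
      have hn16 : n + 1 = 17 := by
        rcases (Nat.Prime.dvd_mul (by norm_num)).1 h17 with h | h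
        · have := Nat.le_of_dvd (by omega) h; omega
        · omega
      have h2 := hsign w
      rw [Equiv.Perm.sign_of_cycleType, hn, Multiset.sum_replicate, Multiset.card_replicate, hn16] at h2
      exact absurd h2 (by decide)
    have hpow : ∀ w ∈ C, w ^ 34 = 1 := by
      intro w hw
      apply hfaith
      intro X
      by_cases hX : X = P
      · subst hX; exact hCP _ (pow_mem hw 34)
      have h2 : w ^ 2 • X ∈ MulAction.orbit (P : Subgroup G) X := by
        by_cases h1 : w • X ∈ MulAction.orbit (P : Subgroup G) X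
        · obtain ⟨x, hx⟩ := h1
          refine ⟨x * x, ?_⟩
          have hx' : (x : G) • X = w • X := hx
          show ((x : G) * x) • X = w ^ 2 • X
          rw [pow_two, mul_smul, mul_smul, ← hx', hcomm w hw, ← hx']
        · by_contra h2
          have hwP : ∀ Y, w • Y = P → Y = P := fun Y hY =>
            MulAction.injective w (hY.trans (hCP w hw).symm)
          set O₁ := MulAction.orbit (P : Subgroup G) X
          set O₂ := MulAction.orbit (P : Subgroup G) (w • X)
          have hne : ¬ w ^ 2 • X ∈ O₂ := by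
            rintro ⟨x, hx⟩
            apply h1
            refine ⟨x, MulAction.injective w ?_⟩
            show w • ((x : G) • X) = w • (w • X)
            rw [hcomm w hw]
            rw [pow_two, mul_smul] at hx
            exact hx
          have hd : Disjoint O₁ O₂ := Set.disjoint_left.2 fun z hz hz' => h1 (by
            show w • X ∈ MulAction.orbit (P : Subgroup G) X
            rw [← MulAction.orbit_eq_iff.2 hz, MulAction.orbit_eq_iff.2 hz']
            exact MulAction.mem_orbit_self _)
          have hP1 : P ∉ O₁ ∪ O₂ := by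
            rintro (⟨x, hx⟩ | ⟨x, hx⟩)
            · exact hX (MulAction.injective (x : G) (hx.trans (hPfix x x.2).symm))
            · exact hX (hwP X (MulAction.injective (x : G) (hx.trans (hPfix x x.2).symm)))
          have h3 := Set.ncard_le_ncard (Set.subset_univ ({P, w ^ 2 • X} ∪ (O₁ ∪ O₂))) (Set.toFinite _)
          have hne2 : P ≠ w ^ 2 • X := fun e => by
            rw [pow_two, mul_smul] at e
            exact hX (hwP X (hwP _ e.symm))
          rw [Set.ncard_univ, h35, Set.ncard_union_eq (by
            rw [Set.disjoint_left]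
            rintro z (rfl | rfl) hz
            · exact hP1 hz
            · exact hz.elim h2 hne) (Set.toFinite _) (Set.toFinite _),
            Set.ncard_union_eq hd (Set.toFinite _) (Set.toFinite _), Set.ncard_pair hne2,
            horb X hX, horb _ (fun e => hX (hwP X e))] at h3
          omega
      obtain ⟨x, hx⟩ := h2
      have hx' : (x : G) • X = w ^ 2 • X := hx
      have key : ∀ k : ℕ, (w ^ 2) ^ k • X = ((x : G) ^ k) • X := by
        intro k
        induction k with
        | zero => simp
        | succ k ih =>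
          rw [pow_succ, mul_smul, ← hx', ← SubgroupClass.coe_pow]
          rw [hcomm _ (pow_mem (pow_mem hw 2) k) x, ih, SubgroupClass.coe_pow, smul_smul, ← pow_succ']
      rw [show (34 : ℕ) = 2 * 17 from rfl, pow_mul, key, ← SubgroupClass.coe_pow,
        show x ^ 17 = 1 from (congrArg (x ^ ·) hPc).symm.trans pow_card_eq_one']
      simp
    have hCodd : ∀ w ∈ C, w ^ 17 = 1 := by
      intro w hw
      by_contra h
      have h1 : orderOf (w ^ 17) = 2 := by
        apply orderOf_eq_prime _ h
        rw [← pow_mul]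
        exact hpow w hw
      exact hinv _ (pow_mem hw 17) h1
    set H := Subgroup.normalizer ((P : Subgroup G) : Set G) with hH
    have hHi : H.index = 35 := (P.card_eq_index_normalizer).symm.trans h35
    have : IsCyclic (P : Subgroup G) := isCyclic_of_prime_card hPc
    let ψ := Subgroup.normalizerMonoidHom (P : Subgroup G)
    -- Sylow 2-subgroups are cyclic
    have : Fact (Nat.Prime 2) := ⟨Nat.prime_two⟩
    obtain ⟨S₀⟩ := (inferInstance : Nonempty (Sylow 2 H))
    obtain ⟨S, hS⟩ := (S₀.isPGroup'.map H.subtype).exists_le_sylow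
    have hSeq : (S₀ : Subgroup H).map H.subtype = (S : Subgroup G) := by
      apply Subgroup.eq_of_le_of_card_ge hS
      rw [Subgroup.card_map_of_injective H.subtype_injective, S.card_eq_multiplicity, S₀.card_eq_multiplicity,
        ← H.card_mul_index, Nat.factorization_mul Nat.card_pos.ne' Subgroup.index_ne_zero_of_finite,
        Finsupp.add_apply, hHi, Nat.factorization_eq_zero_of_not_dvd (n := 35) (p := 2) (by norm_num), add_zero]
    have hinjS : Function.Injective (ψ.comp (S₀ : Subgroup H).subtype) := by
      rw [← MonoidHom.ker_eq_bot_iff, eq_bot_iff]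
      intro s hs
      have hsC : ((s : H) : G) ∈ C := by
        have h0 : (s : H) ∈ ψ.ker := MonoidHom.mem_ker.2 (MonoidHom.mem_ker.1 hs)
        rw [Subgroup.normalizerMonoidHom_ker] at h0
        exact h0
      obtain ⟨k, hk⟩ := IsPGroup.iff_orderOf.1 S₀.isPGroup' s
      have h3 : orderOf s ∣ 17 := orderOf_dvd_of_pow_eq_one (Subtype.ext (Subtype.ext (by
        simpa using hCodd _ hsC)))
      rw [Subgroup.mem_bot, ← orderOf_eq_one_iff]
      exact Nat.eq_one_of_dvd_coprimes (Nat.Coprime.pow_left k (by norm_num : Nat.Coprime 2 17)) hk.dvd h3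
    have hAutcyc : IsCyclic (MulAut (P : Subgroup G)) := by
      have e := IsCyclic.mulAutMulEquiv (G := (P : Subgroup G))
      have : IsCyclic (ZMod (Nat.card (P : Subgroup G)))ˣ := by rw [hPc]; infer_instance
      exact isCyclic_of_injective e.toMonoidHom e.injective
    have hS₀cyc : IsCyclic (S₀ : Subgroup H) := isCyclic_of_injective _ hinjS
    have hScyc : IsCyclic (S : Subgroup G) := by
      rw [← hSeq]
      exact isCyclic_of_surjective _
        (Subgroup.equivMapOfInjective (S₀ : Subgroup H) H.subtype H.subtype_injective).surjective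
    have hG2 : ¬ 2 ∣ Nat.card G := by
      intro h2
      have hmin : (Nat.card G).minFac = 2 := (Nat.minFac_eq_two_iff _).2 h2
      have hK := hScyc.isComplement' hmin
      set K := (MonoidHom.transferSylow S (hScyc.normalizer_le_centralizer hmin)).ker
      have hKtop : K = ⊤ := hgen K fun X x hx => by
        obtain ⟨k, hk⟩ := IsPGroup.iff_orderOf.1 X.isPGroup' ⟨x, hx⟩
        rw [← QuotientGroup.eq_one_iff, ← orderOf_eq_one_iff]
        obtain ⟨j, hj⟩ := S.isPGroup'.exists_card_eq
        refine Nat.eq_one_of_dvd_coprimes (Nat.Coprime.pow k j (by norm_num : Nat.Coprime 17 2)) ?_ ?_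
        · rw [← hk, ← Subgroup.orderOf_coe]
          exact orderOf_map_dvd (QuotientGroup.mk' K) x
        · rw [← hj, ← hK.symm.index_eq_card]
          exact orderOf_dvd_natCard _
      rw [hKtop] at hK
      have hbot : (S : Subgroup G) = ⊥ := Subgroup.isComplement'_top_left.1 hK
      exact S.not_dvd_index (by rw [hbot, Subgroup.index_bot]; exact h2)
    -- the normalizer is `P`
    have hHP : Nat.card H = 17 := by
      have hk1 : ψ = 1 := by
        ext1 y
        rw [MonoidHom.one_apply, ← orderOf_eq_one_iff]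
        have a1 : orderOf (ψ y) ∣ 16 := by
          refine orderOf_dvd_natCard (ψ y) |>.trans ?_
          rw [Nat.card_congr (IsCyclic.mulAutMulEquiv (G := (P : Subgroup G))).toEquiv, hPc,
            Nat.card_eq_fintype_card, ZMod.card_units]
        have a2 : orderOf (ψ y) ∣ Nat.card H := (orderOf_map_dvd ψ y).trans (orderOf_dvd_natCard y)
        have a3 : ¬ 2 ∣ orderOf (ψ y) := fun h => hG2 (h.trans (a2.trans (Subgroup.card_subgroup_dvd_card H)))
        refine Nat.eq_one_of_dvd_coprimes (a := 16) (b := orderOf (ψ y)) ?_ a1 dvd_rfl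
        rw [show (16 : ℕ) = 2 ^ 4 by norm_num]
        exact Nat.Coprime.pow_left 4 ((Nat.prime_two.coprime_iff_not_dvd).2 a3)
      have hHC : ∀ y ∈ H, y ^ 17 = 1 := by
        intro y hy
        apply hCodd
        have h0 : (⟨y, hy⟩ : H) ∈ ψ.ker := by rw [hk1]; exact MonoidHom.mem_ker.2 rfl
        rw [Subgroup.normalizerMonoidHom_ker] at h0
        exact h0
      obtain ⟨k, hk⟩ := (show IsPGroup 17 H from fun y => ⟨1, Subtype.ext (by simpa using hHC y y.2)⟩).exists_card_eq
      have hle : H ≤ (P : Subgroup G) := le_of_eq (P.3 (IsPGroup.of_card hk) Subgroup.le_normalizer)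
      rw [le_antisymm hle Subgroup.le_normalizer, hPc]
    have hGc : Nat.card G = 595 := by rw [← H.card_mul_index, hHP, hHi]
    -- a normal subgroup of order 7
    have : Fact (Nat.Prime 7) := ⟨by norm_num⟩
    have hHC' : H ≤ C := by
      have e := Subgroup.eq_of_le_of_card_ge (Subgroup.le_normalizer (H := (P : Subgroup G))) (by rw [hHP, hPc])
      intro x hx'
      have hx : x ∈ (P : Subgroup G) := by rw [e]; exact hx'
      rw [hC, Subgroup.mem_centralizer_iff]
      intro y hy
      exact congrArg Subtype.val ((IsCyclic.commGroup (α := (P : Subgroup G))).mul_comm ⟨y, hy⟩ ⟨x, hx⟩)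
    set T := (MonoidHom.transferSylow P hHC').ker with hT
    have hcompl : T.IsComplement' (P : Subgroup G) := MonoidHom.ker_transferSylow_isComplement' P hHC'
    have hTc : Nat.card T = 35 := by
      have := hcompl.card_mul_card
      rw [hPc, hGc] at this
      omega
    obtain ⟨V⟩ := (inferInstance : Nonempty (Sylow 7 T))
    have hV1 : Nat.card (Sylow 7 T) = 1 := by
      have h1 : Nat.card (Sylow 7 T) ∣ 5 := by
        have h1 := V.card_dvd_index
        have h2 : Nat.card (V : Subgroup T) = 7 := by
          rw [V.card_eq_multiplicity, hTc,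
            show (35 : ℕ) = 7 * 5 by norm_num, Nat.factorization_mul (by norm_num) (by norm_num),
            Finsupp.add_apply, (by norm_num : (7 : ℕ).Prime).factorization_self,
            Nat.factorization_eq_zero_of_not_dvd (by norm_num : ¬ 7 ∣ 5)]
          norm_num
        have h3 := (V : Subgroup T).card_mul_index
        rw [h2, hTc] at h3
        rwa [show (V : Subgroup T).index = 5 by omega] at h1
      have h4 := card_sylow_modEq_one 7 T
      rcases (Nat.dvd_prime Nat.prime_five).1 h1 with h | h
      · exact h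
      · rw [h] at h4; exact absurd h4 (by decide)
    have : Subsingleton (Sylow 7 T) := (Nat.card_eq_one_iff_unique.1 hV1).1
    have hVc : (V : Subgroup T).Characteristic := V.characteristic_of_subsingleton
    set W := (V : Subgroup T).map T.subtype with hW
    have hWn : W.Normal := ConjAct.normal_of_characteristic_of_normal
    have hWc : Nat.card W = 7 := by
      rw [hW, Subgroup.card_map_of_injective T.subtype_injective, V.card_eq_multiplicity, hTc,
        show (35 : ℕ) = 7 * 5 by norm_num, Nat.factorization_mul (by norm_num) (by norm_num),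
        Finsupp.add_apply, (by norm_num : (7 : ℕ).Prime).factorization_self,
        Nat.factorization_eq_zero_of_not_dvd (by norm_num : ¬ 7 ∣ 5)]
      norm_num
    have : Fintype W := Fintype.ofFinite _
    obtain ⟨w, hw⟩ := exists_prime_orderOf_dvd_card' (G := W) 7 (by rw [hWc])
    have hwC : (w : G) ∈ C := by
      rw [hC, Subgroup.mem_centralizer_iff]
      intro z hz
      let σ : Equiv.Perm W := (MulAut.conjNormal z : MulAut W).toEquiv
      have hσ : σ = 1 := by
        refine perm_eq_one_of_card_lt (by rw [← Nat.card_eq_fintype_card, hWc]; norm_num) σ ?_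
        have hz17 : z ^ 17 = 1 := by
          have := congrArg Subtype.val
            (show (⟨z, hz⟩ : (P : Subgroup G)) ^ 17 = 1 from (congrArg ((⟨z, hz⟩ : (P : Subgroup G)) ^ ·) hPc).symm.trans pow_card_eq_one')
          simpa using this
        let τ : MulAut W →* Equiv.Perm W := ⟨⟨fun e => e.toEquiv, rfl⟩, fun _ _ => rfl⟩
        show (τ (MulAut.conjNormal z)) ^ 17 = 1
        rw [← map_pow, ← map_pow, hz17, map_one, map_one]
      have h5 : MulAut.conjNormal z w = w := congrArg (fun e : Equiv.Perm W => e w) hσ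
      have h6 := congrArg Subtype.val h5
      rw [MulAut.conjNormal_apply, mul_inv_eq_iff_eq_mul] at h6
      exact h6
    have h7 : orderOf (w : G) ∣ 17 := orderOf_dvd_of_pow_eq_one (hCodd _ hwC)
    rw [Subgroup.orderOf_coe, hw] at h7
    omega

/-- No finite group has exactly 35 Sylow 17-subgroups. -/
theorem result {G : Type*} [Group G] [Finite G] : Nat.card (Sylow 17 G) ≠ 35 := by

  have : Fact (Nat.Prime 17) := ⟨by norm_num⟩
  exact Cfsg.Agent.Transfer.card_sylow_ne_of_reduced (fun G _ _ h1 h2 h3 => reduced G h1 h2 h3) G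

end Cfsg.Agent.S4236
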