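import Cfsg.Statements.S4237
import Mathlib
import Cfsg.Agent.Lib.Transfer.Kulakoff
import Cfsg.Agent.Lib.Grp.SchurZassenhaus

set_option maxHeartbeats 1000000
set_option maxRecDepth 8000

set_option autoImplicit false
open Cfsg
open scoped Pointwise

namespace Cfsg.Agent.S4237

open Cfsg.Agent
open Cfsg.Agent.Transfer

section
variable {G : Type*} [Group G] [Finite G] {p : ℕ} [hp : Fact p.Prime]

theorem dvd_sum_of_invariant {R Y : Type*} [Group R] [MulAction R Y] [Fintype Y] (f : Y → ℕ)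
    (hinv : ∀ (r : R) (y : Y), f (r • y) = f y) {c : ℕ} (h : ∀ y, c ∣ Nat.card (MulAction.orbit R y) * f y) :
    c ∣ ∑ y, f y := by
  classical
  haveI : Fintype (Quotient (MulAction.orbitRel R Y)) := Fintype.ofFinite _
  rw [← (MulAction.selfEquivSigmaOrbits R Y).symm.sum_comp, Fintype.sum_sigma]
  refine Finset.dvd_sum fun ω _ => ?_
  have : ∀ x : MulAction.orbit R ω.out, f ((MulAction.selfEquivSigmaOrbits R Y).symm ⟨ω, x⟩) = f ω.out := by
    intro x
    obtain ⟨r, hr⟩ := x.2
    have hr' : r • ω.out = (x : Y) := hr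
    have : (MulAction.selfEquivSigmaOrbits R Y).symm ⟨ω, x⟩ = (x : Y) := rfl
    rw [this, ← hr', hinv]
  rw [Finset.sum_congr rfl fun x _ => this x, Finset.sum_const, Finset.card_univ, smul_eq_mul,
    ← Nat.card_eq_fintype_card]
  exact h _

theorem card_split {α : Type*} [Finite α] (q r : α → Prop) :
    Nat.card {x // q x} = Nat.card {x // q x ∧ r x} + Nat.card {x // q x ∧ ¬ r x} := by
  classical
  haveI := Fintype.ofFinite α
  simp only [Nat.card_eq_fintype_card, Fintype.card_subtype]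
  rw [← Finset.card_filter_add_card_filter_not (s := Finset.univ.filter q) r, Finset.filter_filter,
    Finset.filter_filter]

theorem card_pgroup_le (P : Sylow p G) {v : ℕ} (hv : Nat.card (P : Subgroup G) = p ^ v) {J : Subgroup G}
    (hJ : IsPGroup p J) : ∃ j, Nat.card J = p ^ j ∧ j ≤ v := by
  obtain ⟨j, hj⟩ := IsPGroup.iff_card.1 hJ
  obtain ⟨T, hT⟩ := hJ.exists_le_sylow
  obtain ⟨g, hg⟩ := MulAction.exists_smul_eq G T P
  have h2 := Subgroup.card_le_of_le hT
  rw [hj, Nat.card_congr (T.equiv P).toEquiv, hv, Nat.pow_le_pow_iff_right hp.out.one_lt] at h2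
  exact ⟨j, hj, h2⟩

theorem sup_pGroup {A B : Subgroup G} (hA : IsPGroup p A) (hB : IsPGroup p B)
    (h : A ≤ Subgroup.normalizer (B : Set G)) : IsPGroup p ↥(A ⊔ B) :=
  hA.to_sup_of_normal_right' hB h

theorem conj_smul_le {P : Subgroup G} {g : G} (hg : g ∈ P) : MulAut.conj g • P = P :=
  Grp.mem_normalizer_iff_smul.1 (Subgroup.le_normalizer hg)

theorem reduce_to_sylow (P : Sylow p G) {v a : ℕ} (hv : Nat.card (P : Subgroup G) = p ^ v) (hav : a < v) :
    Kulakoff.cnt G p a ≡ Kulakoff.cnt (P : Subgroup G) p a [MOD p ^ 2] := by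
  classical
  set R := (P : Subgroup G)
  have hRp : IsPGroup p R := P.isPGroup'
  let T := {H : Subgroup G // Nat.card H = p ^ a ∧ ¬ H ≤ R}
  haveI : Fintype T := Fintype.ofFinite T
  letI actT : MulAction R T :=
    { smul := fun g H => ⟨MulAut.conj (g : G) • H.1, by rw [Grp.card_conj_smul]; exact H.2.1, fun h => H.2.2 (by
        exact Subgroup.pointwise_smul_le_pointwise_smul_iff.1 (h.trans (conj_smul_le g.2).ge))⟩
      one_smul := fun H => Subtype.ext (show MulAut.conj ((1 : R) : G) • H.1 = H.1 by simp)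
      mul_smul := fun x y H => Subtype.ext (show MulAut.conj ((x * y : R) : G) • H.1 = _ from
        (Grp.conj_smul_conj_smul (x : G) (y : G) H.1).symm) }
  have hsmulT : ∀ (g : R) (H : T), (g • H).1 = MulAut.conj (g : G) • H.1 := fun g H => rfl
  have horb : ∀ H : T, Nat.card (MulAction.orbit R H) * Nat.card ↥(R ⊓ Subgroup.normalizer (H.1 : Set G)) = p ^ v := by
    intro H
    have h1 : Nat.card ↥(R ⊓ Subgroup.normalizer (H.1 : Set G)) = Nat.card (MulAction.stabilizer R H) :=
      Nat.card_congr ⟨fun x => ⟨⟨x.1, x.2.1⟩, Subtype.ext ((hsmulT _ _).trans (Grp.mem_normalizer_iff_smul.1 x.2.2))⟩,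
        fun x => ⟨x.1.1, x.1.2, Grp.mem_normalizer_iff_smul.2 ((hsmulT _ _).symm.trans (congrArg Subtype.val x.2 :))⟩,
        fun _ => rfl, fun _ => rfl⟩
    rw [h1, Nat.card_coe_set_eq, ← MulAction.index_stabilizer, mul_comm, Subgroup.card_mul_index, hv]
  have hnfix : ∀ H : T, ¬ R ≤ Subgroup.normalizer (H.1 : Set G) := fun H h => by
    obtain ⟨j, hj, hjv⟩ := card_pgroup_le P hv (sup_pGroup hRp (IsPGroup.of_card H.2.1) h)
    exact H.2.2 (le_sup_right.trans (Subgroup.eq_of_le_of_card_ge (le_sup_left : R ≤ R ⊔ H.1)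
      (by rw [hj, hv]; exact Nat.pow_le_pow_right hp.out.one_le hjv)).ge)
  -- orbits of size p
  let mid : T → Prop := fun H => Nat.card ↥(R ⊓ Subgroup.normalizer (H.1 : Set G)) = p ^ (v - 1)
  have hmid : ∀ (g : R) (H : T), mid (g • H) ↔ mid H := fun g H => by
    have e : Nat.card ↥(R ⊓ Subgroup.normalizer ((g • H).1 : Set G)) = Nat.card ↥(R ⊓ Subgroup.normalizer (H.1 : Set G)) := by
      have h1 := horb (g • H)
      rw [MulAction.orbit_smul, ← horb H] at h1
      exact Nat.eq_of_mul_eq_mul_left (Nat.card_pos_iff.2 ⟨(MulAction.nonempty_orbit (M := R) H).to_subtype, inferInstance⟩) h1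
    show _ = _ ↔ _ = _
    rw [e]
  have hbig : p ^ 2 ∣ Nat.card {H : T // ¬ mid H} := by
    have h := dvd_sum_of_invariant (R := R) (c := p ^ 2) (fun H : T => if mid H then 0 else 1)
      (fun g H => if_congr (hmid g H) rfl rfl) (fun H => ?_)
    · have e : (∑ H : T, if mid H then (0 : ℕ) else 1) = Nat.card {H : T // ¬ mid H} := by
        rw [Finset.sum_ite, Finset.sum_const_zero, zero_add, Finset.sum_const, smul_eq_mul, mul_one,
          Nat.card_eq_fintype_card, Fintype.card_subtype]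
      exact (congrArg (p ^ 2 ∣ ·) e).mp h
    · by_cases hm : mid H
      · simp [hm]
      · rw [if_neg hm, mul_one]
        have h1 := horb H
        obtain ⟨i, hi, hi'⟩ := (Nat.dvd_prime_pow hp.out).1 (Dvd.intro _ h1)
        obtain ⟨j, hj, hj'⟩ := (Nat.dvd_prime_pow hp.out).1 (hv ▸ Subgroup.card_dvd_of_le (inf_le_left : R ⊓ Subgroup.normalizer (H.1 : Set G) ≤ R))
        rw [hi', hj', ← pow_add] at h1
        have hij := Nat.pow_right_injective hp.out.two_le h1
        rw [hi']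
        refine pow_dvd_pow p ?_
        by_contra hlt
        rcases (show i = 0 ∨ i = 1 by omega) with rfl | rfl
        · exact hnfix H (inf_eq_left.1 (Subgroup.eq_of_le_of_card_ge inf_le_left (by rw [hj', hv, show j = v by omega])))
        · exact hm (hj'.trans (by rw [show j = v - 1 by omega]))
  -- the other Sylow subgroups meeting R in index p
  let Q := {Q : Subgroup G // Nat.card Q = p ^ v ∧ Nat.card ↥(R ⊓ Q) = p ^ (v - 1)}
  haveI : Fintype Q := Fintype.ofFinite Q
  have hinf : ∀ (g : R) (K : Subgroup G), R ⊓ MulAut.conj (g : G) • K = MulAut.conj (g : G) • (R ⊓ K) := fun g K => by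
    rw [Subgroup.smul_inf, conj_smul_le g.2]
  letI : MulAction R Q :=
    { smul := fun g K => ⟨MulAut.conj (g : G) • K.1, by rw [Grp.card_conj_smul]; exact K.2.1,
        by rw [hinf, Grp.card_conj_smul]; exact K.2.2⟩
      one_smul := fun H => Subtype.ext (show MulAut.conj ((1 : R) : G) • H.1 = H.1 by simp)
      mul_smul := fun x y H => Subtype.ext (show MulAut.conj ((x * y : R) : G) • H.1 = _ from
        (Grp.conj_smul_conj_smul (x : G) (y : G) H.1).symm) }
  have hsmulQ : ∀ (g : R) (K : Q), (g • K).1 = MulAut.conj (g : G) • K.1 := fun g H => rfl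
  let fib : Q → ℕ := fun K => Nat.card {H : Subgroup G //
    (Nat.card H = p ^ a ∧ H ≤ K.1) ∧ ¬ H ≤ R ⊓ K.1 ∧ R ⊓ K.1 ≤ Subgroup.normalizer (H : Set G)}
  have hfib : ∀ (g : R) (K : Q), fib (g • K) = fib K := fun g K => by
    refine (Nat.card_congr ((MulAction.toPerm (MulAut.conj (g : G))).subtypeEquiv fun H => ?_)).symm
    simp only [MulAction.toPerm_apply]
    have hn : ∀ (X : Subgroup G), Subgroup.normalizer ((MulAut.conj (g : G) • X : Subgroup G) : Set G) =
        MulAut.conj (g : G) • Subgroup.normalizer (X : Set G) := fun X => by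
      ext x
      rw [Grp.mem_smul_conj, Grp.mem_normalizer_iff_smul, Grp.mem_normalizer_iff_smul,
        ← Grp.conj_smul_conj_smul ((g : G)⁻¹ * x), ← Grp.conj_smul_conj_smul (g : G)⁻¹ x, map_inv, inv_smul_eq_iff]
    rw [hsmulQ, hinf, hn, Grp.card_conj_smul, Subgroup.pointwise_smul_le_pointwise_smul_iff,
      Subgroup.pointwise_smul_le_pointwise_smul_iff, Subgroup.pointwise_smul_le_pointwise_smul_iff]
  have hfibdvd : ∀ K : Q, p ∣ fib K := by
    intro K
    set A := R ⊓ K.1
    let X := {H : Subgroup G // (Nat.card H = p ^ a ∧ H ≤ K.1) ∧ ¬ H ≤ A}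
    have hX : p ∣ Nat.card X := by
      have h1 := card_split (fun H : Subgroup G => Nat.card H = p ^ a ∧ H ≤ K.1) fun H => H ≤ A
      have e1 : Nat.card {H : Subgroup G // (Nat.card H = p ^ a ∧ H ≤ K.1)} ≡ 1 [MOD p] := by
        rw [Nat.card_congr (Equiv.subtypeEquivRight fun H : Subgroup G => and_comm), Kulakoff.card_under]
        exact Kulakoff.cnt_modEq (by rw [K.2.1]; exact pow_dvd_pow p hav.le)
      have e2 : Nat.card {H : Subgroup G // (Nat.card H = p ^ a ∧ H ≤ K.1) ∧ H ≤ A} ≡ 1 [MOD p] := by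
        rw [Nat.card_congr (Equiv.subtypeEquivRight fun H : Subgroup G =>
          (show ((Nat.card H = p ^ a ∧ H ≤ K.1) ∧ H ≤ A) ↔ (H ≤ A ∧ Nat.card H = p ^ a) from
            ⟨fun h => ⟨h.2, h.1.1⟩, fun h => ⟨⟨h.2, h.1.trans inf_le_right⟩, h.1⟩⟩)), Kulakoff.card_under]
        exact Kulakoff.cnt_modEq (by rw [K.2.2]; exact pow_dvd_pow p (by omega))
      rw [h1] at e1
      have e3 := Nat.ModEq.add_left_cancel e2 (show _ ≡ 1 + 0 [MOD p] from e1)
      exact Nat.modEq_zero_iff_dvd.1 e3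
    have hnorm : ∀ g ∈ A, ∀ H : Subgroup G, H ≤ K.1 → MulAut.conj g • H ≤ K.1 := fun g hg H hH => by
      rw [← conj_smul_le hg.2]
      exact Subgroup.pointwise_smul_le_pointwise_smul_iff.2 hH
    letI : MulAction A X :=
      { smul := fun g H => ⟨MulAut.conj (g : G) • H.1, ⟨by rw [Grp.card_conj_smul]; exact H.2.1.1,
            hnorm _ g.2 _ H.2.1.2⟩, fun h => H.2.2 (by
            exact Subgroup.pointwise_smul_le_pointwise_smul_iff.1 (h.trans (conj_smul_le g.2).ge))⟩
        one_smul := fun H => Subtype.ext (show MulAut.conj ((1 : A) : G) • H.1 = H.1 by simp)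
        mul_smul := fun x y H => Subtype.ext (show MulAut.conj ((x * y : A) : G) • H.1 = _ from
          (Grp.conj_smul_conj_smul (x : G) (y : G) H.1).symm) }
    have hA : IsPGroup p A := hRp.to_le inf_le_left
    have h2 := hA.card_modEq_card_fixedPoints X
    have h3 : fib K = Nat.card (MulAction.fixedPoints A X) := Nat.card_congr
      ⟨fun H => ⟨⟨H.1, H.2.1, H.2.2.1⟩, fun g => Subtype.ext (Grp.mem_normalizer_iff_smul.1 (H.2.2.2 g.2))⟩,
        fun H => ⟨H.1.1, H.1.2.1, H.1.2.2, fun g hg => Grp.mem_normalizer_iff_smul.2 (congrArg Subtype.val (H.2 ⟨g, hg⟩) :)⟩,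
        fun _ => rfl, fun _ => rfl⟩
    rw [h3]
    exact Nat.modEq_zero_iff_dvd.1 (h2.symm.trans (Nat.modEq_zero_iff_dvd.2 hX))
  have hsmall : p ^ 2 ∣ Nat.card {H : T // mid H} := by
    have e : {H : T // mid H} ≃ Σ K : Q, {H : Subgroup G //
        (Nat.card H = p ^ a ∧ H ≤ K.1) ∧ ¬ H ≤ R ⊓ K.1 ∧ R ⊓ K.1 ≤ Subgroup.normalizer (H : Set G)} := by
      have hJ : ∀ H : {H : T // mid H}, let A := R ⊓ Subgroup.normalizer (H.1.1 : Set G)
          Nat.card ↥(A ⊔ H.1.1) = p ^ v ∧ R ⊓ (A ⊔ H.1.1) = A := by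
        intro H A
        obtain ⟨j, hj, hjv⟩ := card_pgroup_le P hv (sup_pGroup (hRp.to_le inf_le_left) (IsPGroup.of_card H.1.2.1)
          (inf_le_right : A ≤ Subgroup.normalizer (H.1.1 : Set G)))
        have hlt : Nat.card A < Nat.card ↥(A ⊔ H.1.1) := lt_of_le_of_ne (Subgroup.card_le_of_le le_sup_left) fun e =>
          H.1.2.2 (((le_sup_right : H.1.1 ≤ A ⊔ H.1.1).trans (Subgroup.eq_of_le_of_card_ge le_sup_left e.ge).ge).trans inf_le_left)
        have hAc : Nat.card A = p ^ (v - 1) := H.2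
        rw [hAc, hj, Nat.pow_lt_pow_iff_right hp.out.one_lt] at hlt
        have hJv : Nat.card ↥(A ⊔ H.1.1) = p ^ v := by rw [hj, show j = v by omega]
        refine ⟨hJv, le_antisymm ?_ (le_inf inf_le_left le_sup_left)⟩
        obtain ⟨i, hi, hi'⟩ := (Nat.dvd_prime_pow hp.out).1 (hv ▸ Subgroup.card_dvd_of_le (inf_le_left : R ⊓ (A ⊔ H.1.1) ≤ R))
        refine (Subgroup.eq_of_le_of_card_ge (le_inf inf_le_left le_sup_left) ?_).ge
        rw [hAc, hi']
        refine Nat.pow_le_pow_right hp.out.one_le ?_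
        by_contra h
        have h1 : R ⊓ (A ⊔ H.1.1) = R := Subgroup.eq_of_le_of_card_ge inf_le_left (by rw [hi', hv, show i = v by omega])
        have h2 : R = A ⊔ H.1.1 := Subgroup.eq_of_le_of_card_ge (inf_eq_left.1 h1) (by rw [hJv, hv])
        exact H.1.2.2 (le_sup_right.trans h2.ge)
      have hback : ∀ w : Σ K : Q, {H : Subgroup G //
          (Nat.card H = p ^ a ∧ H ≤ K.1) ∧ ¬ H ≤ R ⊓ K.1 ∧ R ⊓ K.1 ≤ Subgroup.normalizer (H : Set G)},
          (¬ w.2.1 ≤ R) ∧ R ⊓ Subgroup.normalizer (w.2.1 : Set G) = R ⊓ w.1.1 ∧ (R ⊓ w.1.1) ⊔ w.2.1 = w.1.1 := by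
        intro ⟨K, H, ⟨hc, hHK⟩, hnA, hn⟩
        have hnR : ¬ H ≤ R := fun h => hnA (le_inf h hHK)
        refine ⟨hnR, ?_, ?_⟩
        · obtain ⟨i, hi, hi'⟩ := (Nat.dvd_prime_pow hp.out).1 (hv ▸ Subgroup.card_dvd_of_le
            (inf_le_left : R ⊓ Subgroup.normalizer (H : Set G) ≤ R))
          refine (Subgroup.eq_of_le_of_card_ge (le_inf inf_le_left hn) ?_).symm
          rw [K.2.2, hi']
          refine Nat.pow_le_pow_right hp.out.one_le ?_
          by_contra h
          exact hnfix ⟨H, hc, hnR⟩ (inf_eq_left.1 (Subgroup.eq_of_le_of_card_ge inf_le_left (by rw [hi', hv, show i = v by omega])))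
        · refine Subgroup.eq_of_le_of_card_ge (sup_le inf_le_right hHK) ?_
          have h1 : Nat.card ↥(R ⊓ K.1) < Nat.card ↥((R ⊓ K.1) ⊔ H) := lt_of_le_of_ne (Subgroup.card_le_of_le le_sup_left)
            fun e => hnA (le_sup_right.trans (Subgroup.eq_of_le_of_card_ge le_sup_left e.ge).ge)
          obtain ⟨i, hi, hi'⟩ := (Nat.dvd_prime_pow hp.out).1 (K.2.1 ▸ Subgroup.card_dvd_of_le (sup_le inf_le_right hHK : (R ⊓ K.1) ⊔ H ≤ K.1))
          rw [K.2.2, hi', Nat.pow_lt_pow_iff_right hp.out.one_lt] at h1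
          rw [K.2.1, hi', show i = v by omega]
      exact
      { toFun := fun H => ⟨⟨(R ⊓ Subgroup.normalizer (H.1.1 : Set G)) ⊔ H.1.1, (hJ H).1, by rw [(hJ H).2]; exact H.2⟩,
          ⟨H.1.1, ⟨H.1.2.1, le_sup_right⟩, fun h => H.1.2.2 (h.trans inf_le_left),
            (hJ H).2.le.trans inf_le_right⟩⟩
        invFun := fun w => ⟨⟨w.2.1, w.2.2.1.1, (hback w).1⟩, by
          show Nat.card _ = _
          rw [(hback w).2.1]; exact w.1.2.2⟩
        left_inv := fun H => rfl
        right_inv := fun w => by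
          refine Sigma.subtype_ext (Subtype.ext ?_) rfl
          show (R ⊓ Subgroup.normalizer (w.2.1 : Set G)) ⊔ w.2.1 = w.1.1
          rw [(hback w).2.1, (hback w).2.2] }
    rw [Nat.card_congr e, Nat.card_sigma]
    refine dvd_sum_of_invariant (R := R) fib hfib fun K => ?_
    rw [pow_two]
    refine mul_dvd_mul ?_ (hfibdvd K)
    have h1 := MulAction.index_stabilizer R K
    rw [Nat.card_coe_set_eq, ← h1]
    obtain ⟨i, -, hi'⟩ := (Nat.dvd_prime_pow hp.out).1 (hv ▸ (MulAction.stabilizer R K).index_dvd_card)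
    rw [hi']
    refine dvd_pow_self p fun h0 => ?_
    rw [h0, pow_zero, Subgroup.index_eq_one] at hi'
    have hle : R ≤ Subgroup.normalizer (K.1 : Set G) := fun g hg => Grp.mem_normalizer_iff_smul.2
      ((hsmulQ ⟨g, hg⟩ K).symm.trans (congrArg Subtype.val (hi'.ge (Subgroup.mem_top ⟨g, hg⟩) :)))
    obtain ⟨j, hj, hjv⟩ := card_pgroup_le P hv (sup_pGroup hRp (IsPGroup.of_card K.2.1) hle)
    have e1 := Grp.card_sup_mul_card_inf hle
    rw [hj, K.2.1, K.2.2, hv, ← pow_add, ← pow_add] at e1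
    have := Nat.pow_right_injective hp.out.two_le e1
    omega
  have h1 := card_split (fun H : Subgroup G => Nat.card H = p ^ a) fun H => H ≤ R
  have h2 : Nat.card {H : Subgroup G // Nat.card H = p ^ a ∧ H ≤ R} = Kulakoff.cnt R p a := by
    rw [Nat.card_congr (Equiv.subtypeEquivRight fun H : Subgroup G => and_comm), Kulakoff.card_under]
    rfl
  have h3 : Nat.card T = Nat.card {H : T // mid H} + Nat.card {H : T // ¬ mid H} := by
    have h4 := card_split (fun _ : T => True) mid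
    simp only [true_and] at h4
    rwa [Nat.card_congr (Equiv.subtypeUnivEquiv fun _ => trivial)] at h4
  show Nat.card {H : Subgroup G // Nat.card H = p ^ a} ≡ _ [MOD _]
  rw [h1, h2]
  calc Kulakoff.cnt R p a + Nat.card T ≡ Kulakoff.cnt R p a + 0 [MOD p ^ 2] :=
        Nat.ModEq.add_left _ (Nat.modEq_zero_iff_dvd.2 (h3 ▸ dvd_add hsmall hbig))
    _ = _ := add_zero _

end

/-- Let G be a finite group, p a prime and a a natural number such that p^(a+1) divides the order of G. Then the number of subgroups of G of order p^a is congruent to 1 or to 1 + p modulo p². -/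
theorem result {G : Type*} [Group G] [Finite G] (p a : ℕ) (hp : p.Prime) (hdvd : p ^ (a + 1) ∣ Nat.card G) :
    Nat.card {H : Subgroup G // Nat.card H = p ^ a} ≡ 1 [MOD p ^ 2] ∨
      Nat.card {H : Subgroup G // Nat.card H = p ^ a} ≡ 1 + p [MOD p ^ 2] := by

  haveI := Fact.mk hp
  rcases eq_or_ne p 2 with rfl | hp2
  · have h := Grp.SubCount.card_subgroups_modEq 2 a Nat.prime_two ((pow_dvd_pow 2 (by omega)).trans hdvd)
      (G := G)
    unfold Nat.ModEq at h ⊢
    omega
  obtain ⟨P⟩ : Nonempty (Sylow p G) := inferInstance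
  obtain ⟨v, hv⟩ := IsPGroup.iff_card.1 P.isPGroup'
  have hav : a < v := by
    have h := (P.pow_dvd_card_of_pow_dvd_card hdvd)
    rw [hv, Nat.pow_dvd_pow_iff_le_right hp.one_lt] at h
    omega
  have hred : Nat.card {H : Subgroup G // Nat.card H = p ^ a} ≡ Kulakoff.cnt (P : Subgroup G) p a [MOD p ^ 2] :=
    reduce_to_sylow P hv hav
  rcases Nat.eq_zero_or_pos a with rfl | ha
  · exact Or.inl (hred.trans (by rw [Kulakoff.cnt_zero]))
  by_cases hc : IsCyclic (P : Subgroup G)
  · exact Or.inl (hred.trans (by rw [Kulakoff.cnt_cyclic (by rw [hv]; exact pow_dvd_pow p hav.le)]))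
  · exact Or.inr (hred.trans (Kulakoff.kulakoff_odd hp2 v hv hc a ha hav))

end Cfsg.Agent.S4237
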