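import Cfsg.Statements.S4238
import Mathlib
import Cfsg.Agent.Lib.Transfer.Frobenius
import Cfsg.Agent.Lib.Transfer.NormalComplement
import Cfsg.Agent.Lib.Transfer.ClassDisconnected
import Cfsg.Agent.Lib.Grp.Frattini

set_option maxHeartbeats 1000000
set_option maxRecDepth 8000

set_option autoImplicit false
open Cfsg
open scoped commutatorElement

namespace Cfsg.Agent.S4238

open Cfsg.Agent in
theorem forward {G : Type*} [Group G] [Finite G] (p : ℕ) [Fact p.Prime] (h : Cfsg.HasNormalPComplement p G)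
    (H : Subgroup G) (N : Subgroup H) [N.Normal] (hO : Cfsg.pPrimeCore p (H ⧸ N) = ⊥) :
    ∃ k : H ⧸ N, orderOf k = Monoid.exponent (H ⧸ N) := by
  have hK : Cfsg.HasNormalPComplement p (H ⧸ N) :=
    Transfer.hasNormalPComplement_of_surjective (QuotientGroup.mk' N) (QuotientGroup.mk'_surjective N)
      (Transfer.hasNormalPComplement_subgroup H h)
  obtain ⟨P, M, hM, hMP⟩ := hK
  have hcop : (Nat.card M).Coprime p := (Fact.out : p.Prime).coprime_iff_not_dvd.2 (by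
    rw [← hMP.index_eq_card]; exact P.not_dvd_index) |>.symm
  have hM1 : M = ⊥ := le_bot_iff.1 (hO ▸ Grp.le_pPrimeCore hM hcop)
  have hPtop : (P : Subgroup (H ⧸ N)) = ⊤ := by
    have := hMP.sup_eq_top
    rwa [hM1, bot_sup_eq] at this
  have hp : IsPGroup p (H ⧸ N) := fun k => by
    obtain ⟨i, hi⟩ := P.isPGroup' ⟨k, by rw [hPtop]; exact Subgroup.mem_top k⟩
    exact ⟨i, by simpa using congrArg Subtype.val hi⟩
  obtain ⟨k, hk⟩ := Finite.exists_max (fun k : H ⧸ N => orderOf k)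
  refine ⟨k, Nat.dvd_antisymm (Monoid.order_dvd_exponent k) (Monoid.exponent_dvd_of_forall_pow_eq_one fun x => ?_)⟩
  obtain ⟨i, hi⟩ := IsPGroup.iff_orderOf.1 hp x
  obtain ⟨j, hj⟩ := IsPGroup.iff_orderOf.1 hp k
  refine orderOf_dvd_iff_pow_eq_one.1 ?_
  have := hk x
  rw [hi, hj] at this ⊢
  exact pow_dvd_pow p ((Nat.pow_le_pow_iff_right (Fact.out : p.Prime).one_lt).1 this)

/-- The Schmidt-type section. -/
theorem section_false {G : Type*} [Group G] [Finite G] (p : ℕ) [hp : Fact p.Prime]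
    (h : ∀ (H : Subgroup G) (N : Subgroup H) [N.Normal], Cfsg.pPrimeCore p (H ⧸ N) = ⊥ →
      ∃ k : H ⧸ N, orderOf k = Monoid.exponent (H ⧸ N))
    {q : ℕ} (hq : q.Prime) (hqp : q ≠ p) {y : G} {e : ℕ} (hy : orderOf y = q ^ e) {A : Subgroup G} (hA : IsPGroup p A)
    (hyA : y ∈ Subgroup.normalizer (A : Set G)) (hne : y ∉ Subgroup.centralizer (A : Set G))
    (hyq : y ^ q ∈ Subgroup.centralizer (A : Set G))
    (hmin : ∀ B : Subgroup G, B < A → y ∈ Subgroup.normalizer (B : Set G) → y ∈ Subgroup.centralizer (B : Set G)) :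
    False := by
  classical
  have hA0 : A ≠ ⊥ := fun h0 => hne (Subgroup.mem_centralizer_iff.2 fun a ha => by
    rw [h0] at ha; rw [Subgroup.mem_bot.1 ha, one_mul, mul_one])
  set F := (frattini A).map A.subtype with hF
  have hFA : F ≤ A := Subgroup.map_subtype_le _
  haveI : Nontrivial A := (Subgroup.nontrivial_iff_ne_bot A).2 hA0
  have hFlt : F < A := by
    refine lt_of_le_of_ne hFA fun he => ?_
    have h1 : frattini A = ⊤ := by
      rw [eq_top_iff]
      intro a _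
      have : (a : G) ∈ F := he.symm ▸ a.2
      obtain ⟨b, hb, hba⟩ := this
      rwa [← Subtype.ext hba]
    obtain ⟨L, hL, -⟩ := (eq_top_or_exists_le_coatom (⊥ : Subgroup A)).resolve_left bot_ne_top
    exact hL.1 (top_le_iff.1 (h1 ▸ frattini_le_coatom hL))
  have hFnorm : ∀ g ∈ Subgroup.normalizer (A : Set G), g ∈ Subgroup.normalizer (F : Set G) := by
    intro g hg
    refine Subgroup.mem_normalizer_fintype ?_
    rintro _ ⟨b, hb, rfl⟩
    let φ : MulAut A := A.normalizerMonoidHom ⟨g, hg⟩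
    have hb' : φ b ∈ frattini A := by
      have h1 := Subgroup.characteristic_iff_map_eq.1 (inferInstance : (frattini A).Characteristic) φ
      rw [← h1]
      exact ⟨b, hb, rfl⟩
    exact ⟨_, hb', rfl⟩
  have hyF : y ∈ Subgroup.centralizer (F : Set G) := hmin F hFlt (hFnorm y hyA)
  have hcomm : ∀ a ∈ A, ∀ b ∈ A, a * b * a⁻¹ * b⁻¹ ∈ F := by
    intro a ha b hb
    refine ⟨⁅(⟨a, ha⟩ : A), ⟨b, hb⟩⁆, Cfsg.Agent.Grp.pGroup_commutator_le_frattini hA
      (Subgroup.commutator_mem_commutator (Subgroup.mem_top _) (Subgroup.mem_top _)), ?_⟩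
    simp [commutatorElement_def]
  have hnormA : ∀ g ∈ Subgroup.normalizer (A : Set G), ∀ a ∈ A, g * a * g⁻¹ ∈ A := fun g hg a ha =>
    (Subgroup.mem_normalizer_iff.1 hg a).1 ha
  have hFn : ∀ a ∈ A, ∀ f ∈ F, a * f * a⁻¹ ∈ F := fun a ha f hf =>
    (Subgroup.mem_normalizer_iff.1 (hFnorm a (Subgroup.le_normalizer ha)) f).1 hf
  -- every element of `A` is a commutator with `y` modulo `F`
  let d : G → G := fun b => b⁻¹ * (y * b * y⁻¹)
  have hdA : ∀ b ∈ A, d b ∈ A := fun b hb => A.mul_mem (A.inv_mem hb) (hnormA y hyA b hb)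
  set W : Subgroup G :=
    { carrier := {a | a ∈ A ∧ ∃ b ∈ A, ∃ f ∈ F, a = d b * f}
      one_mem' := ⟨A.one_mem, 1, A.one_mem, 1, F.one_mem, by simp [d]⟩
      mul_mem' := by
        rintro a a' ⟨ha, b, hb, f, hf, rfl⟩ ⟨ha', b', hb', f', hf', rfl⟩
        refine ⟨A.mul_mem ha ha', b * b', A.mul_mem hb hb', (d (b * b'))⁻¹ * (d b * f * (d b' * f')), ?_, by group⟩
        have h1 : b * b' ∈ A := A.mul_mem hb hb'
        have hc := hcomm _ (A.inv_mem hb') _ (A.inv_mem (hdA b hb))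
        have e1 : (d (b * b'))⁻¹ * (d b * f * (d b' * f')) =
            (d b')⁻¹ * (b'⁻¹ * (d b)⁻¹ * b'⁻¹⁻¹ * (d b)⁻¹⁻¹) * (d b')⁻¹⁻¹ *
              ((d b')⁻¹ * f * (d b')⁻¹⁻¹) * f' := by simp only [d]; group
        rw [e1]
        exact F.mul_mem (F.mul_mem (hFn _ (A.inv_mem (hdA b' hb')) _ hc)
          (hFn _ (A.inv_mem (hdA b' hb')) _ hf)) hf'
      inv_mem' := by
        rintro a ⟨ha, b, hb, f, hf, rfl⟩
        refine ⟨A.inv_mem ha, b⁻¹, A.inv_mem hb, (d b⁻¹)⁻¹ * (d b * f)⁻¹, ?_, by group⟩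
        have hc := hcomm _ (A.inv_mem hb) _ (hdA b hb)
        have e1 : (d b⁻¹)⁻¹ * (d b * f)⁻¹ = ((d b⁻¹)⁻¹ * f⁻¹ * (d b⁻¹)⁻¹⁻¹) * ((d b⁻¹)⁻¹ * (d b)⁻¹) := by
          simp only [d]; group
        rw [e1]
        refine F.mul_mem (hFn _ (A.inv_mem (hdA _ (A.inv_mem hb))) _ (F.inv_mem hf)) ?_
        have hy' : y * b * y⁻¹ ∈ A := hnormA y hyA b hb
        have hc2 := hcomm _ hy' _ (A.inv_mem hb)
        have e2 : (d b⁻¹)⁻¹ * (d b)⁻¹ = y * b * y⁻¹ * b⁻¹ * (y * b * y⁻¹)⁻¹ * b⁻¹⁻¹ := by simp only [d]; group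
        rw [e2]
        exact hc2 } with hW
  have hWA : W ≤ A := fun a ha => ha.1
  have hWy : y ∈ Subgroup.normalizer (W : Set G) := by
    refine Subgroup.mem_normalizer_fintype ?_
    rintro a ⟨ha, b, hb, f, hf, rfl⟩
    refine ⟨hnormA y hyA _ ha, y * b * y⁻¹, hnormA y hyA b hb, y * f * y⁻¹,
      (Subgroup.mem_normalizer_iff.1 (hFnorm y hyA) f).1 hf, ?_⟩
    simp only [d]; group
  have hWeq : W = A := by
    by_contra hne'
    have hyW := hmin W (lt_of_le_of_ne hWA hne') hWy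
    refine hne (Subgroup.mem_centralizer_iff.2 fun a ha => ?_)
    have hd : d a ∈ W := ⟨hdA a ha, a, ha, 1, F.one_mem, (mul_one _).symm⟩
    have hfix : Commute (d a) y := (Subgroup.mem_centralizer_iff.1 hyW) _ hd
    have hpow : ∀ k : ℕ, y ^ k * a * (y ^ k)⁻¹ = a * d a ^ k := by
      intro k
      induction k with
      | zero => simp
      | succ k ih =>
        calc y ^ (k + 1) * a * (y ^ (k + 1))⁻¹ = y ^ k * (y * a * y⁻¹) * (y ^ k)⁻¹ := by rw [pow_succ]; group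
          _ = y ^ k * a * (d a * (y ^ k)⁻¹) := by simp only [d]; group
          _ = y ^ k * a * ((y ^ k)⁻¹ * d a) := by rw [((hfix.pow_right k).inv_right).eq]
          _ = a * d a ^ (k + 1) := by rw [← mul_assoc, ih, mul_assoc, ← pow_succ]
    have h1 := hpow (orderOf y)
    rw [pow_orderOf_eq_one, one_mul, inv_one, mul_one] at h1
    have h2 : d a ^ (q ^ e) = 1 := by rw [← hy]; exact left_eq_mul.1 h1
    obtain ⟨i, hi⟩ := IsPGroup.iff_orderOf.1 hA ⟨d a, hdA a ha⟩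
    rw [Subgroup.orderOf_mk] at hi
    have h3 : d a = 1 := orderOf_eq_one_iff.1 (Nat.eq_one_of_dvd_coprimes
      (Nat.Coprime.pow _ _ ((Nat.coprime_primes hp.out hq).2 (Ne.symm hqp))) hi.dvd (orderOf_dvd_of_pow_eq_one h2))
    simp only [d, inv_mul_eq_one, eq_mul_inv_iff_mul_eq] at h3
    exact h3
  -- the section
  set H := A ⊔ Subgroup.zpowers y with hH
  have hAH : A ≤ H := le_sup_left
  have hyH : y ∈ H := Subgroup.mem_sup_right (Subgroup.mem_zpowers y)
  have hHA : H ≤ Subgroup.normalizer (A : Set G) := sup_le Subgroup.le_normalizer (Subgroup.zpowers_le.2 hyA)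
  set N₀ := F ⊔ Subgroup.zpowers (y ^ q) with hN₀
  haveI hNn : (N₀.subgroupOf H).Normal := by
    constructor
    intro n hn g
    rw [Subgroup.mem_subgroupOf] at hn ⊢
    have hle : N₀ ≤ N₀.comap (MulAut.conj (g : G)).toMonoidHom := by
      refine sup_le (fun f hf => Subgroup.mem_sup_left
        ((Subgroup.mem_normalizer_iff.1 (hFnorm _ (hHA g.2)) f).1 hf)) (Subgroup.zpowers_le.2 ?_)
      have hgc : (g : G) ∈ Subgroup.centralizer ({y ^ q} : Set G) := by
        refine (sup_le ?_ ?_ : H ≤ _) g.2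
        · intro a ha
          exact Subgroup.mem_centralizer_singleton_iff.2 ((Subgroup.mem_centralizer_iff.1 hyq) a ha)
        · exact Subgroup.zpowers_le.2 (Subgroup.mem_centralizer_singleton_iff.2 ((Commute.refl y).pow_right q).eq)
      rw [Subgroup.mem_comap, MulEquiv.coe_toMonoidHom, MulAut.conj_apply,
        Subgroup.mem_centralizer_singleton_iff.1 hgc, mul_inv_cancel_right]
      exact Subgroup.mem_sup_right (Subgroup.mem_zpowers _)
    simpa using hle hn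
  set f := QuotientGroup.mk' (N₀.subgroupOf H) with hf
  have hfs : Function.Surjective f := QuotientGroup.mk'_surjective _
  set yK := f ⟨y, hyH⟩ with hyK
  have hFC : N₀ ≤ Subgroup.centralizer ({y} : Set G) := sup_le
    (fun g hg => Subgroup.mem_centralizer_singleton_iff.2 ((Subgroup.mem_centralizer_iff.1 hyF) g hg))
    (Subgroup.zpowers_le.2 (Subgroup.mem_centralizer_singleton_iff.2 ((Commute.refl y).pow_left q).eq))
  have hy1 : yK ≠ 1 := by
    intro h1
    rw [hyK, hf, QuotientGroup.mk'_apply, QuotientGroup.eq_one_iff, Subgroup.mem_subgroupOf] at h1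
    have hz : y ∈ N₀ := h1
    obtain ⟨g, hg, z, hz', hgz⟩ : ∃ g ∈ F, ∃ z ∈ Subgroup.zpowers (y ^ q), g * z = y := by
      have hn : Subgroup.zpowers (y ^ q) ≤ Subgroup.normalizer (F : Set G) :=
        Subgroup.zpowers_le.2 (hFnorm _ (Subgroup.pow_mem _ hyA q))
      rw [hN₀, ← SetLike.mem_coe, Subgroup.coe_mul_of_right_le_normalizer_left F _ hn] at hz
      exact hz
    refine hne (Subgroup.mem_centralizer_iff.2 fun a ha => ?_)
    -- `g` has order prime to `p` and is a `p`-element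
    have hg1 : g = 1 := by
      obtain ⟨i, hi⟩ := IsPGroup.iff_orderOf.1 hA ⟨g, hFA hg⟩
      rw [Subgroup.orderOf_mk] at hi
      have hgy : g ∈ Subgroup.zpowers y := by
        rw [eq_mul_inv_of_mul_eq hgz]
        refine Subgroup.mul_mem _ (Subgroup.mem_zpowers y) (Subgroup.inv_mem _ ?_)
        exact (Subgroup.zpowers_le.2 (Subgroup.pow_mem _ (Subgroup.mem_zpowers y) q)) hz'
      have h2 := orderOf_dvd_natCard (⟨g, hgy⟩ : Subgroup.zpowers y)
      rw [Subgroup.orderOf_mk, Nat.card_zpowers, hy] at h2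
      exact orderOf_eq_one_iff.1 (Nat.eq_one_of_dvd_coprimes
        (Nat.Coprime.pow _ _ ((Nat.coprime_primes hp.out hq).2 (Ne.symm hqp))) hi.dvd h2)
    rw [hg1, one_mul] at hgz
    exact (Subgroup.mem_centralizer_iff.1 (hgz ▸ (Subgroup.zpowers_le.2 hyq) hz')) a ha
  set AK := (A.subgroupOf H).map f with hAK
  haveI hAn : (A.subgroupOf H).Normal := ⟨fun a ha g => by
    rw [Subgroup.mem_subgroupOf] at ha ⊢
    exact hnormA _ (hHA g.2) _ ha⟩
  haveI hAKn : AK.Normal := hAn.map f hfs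
  have hAKp : IsPGroup p AK := (hA.comap_subtype (K := H)).map f
  have hyKq : yK ^ q = 1 := by
    rw [hyK, ← map_pow, hf, QuotientGroup.mk'_apply, QuotientGroup.eq_one_iff, Subgroup.mem_subgroupOf]
    exact Subgroup.mem_sup_right (Subgroup.mem_zpowers _)
  have hyKo : orderOf yK = q := by
    haveI : Fact q.Prime := ⟨hq⟩
    exact orderOf_eq_prime hyKq hy1
  -- every element of `AK` is a commutator with `yK`
  have hsurj : ∀ a ∈ AK, ∃ b ∈ AK, a = b⁻¹ * (yK * b * yK⁻¹) := by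
    rintro _ ⟨a, ha, rfl⟩
    have ha' : (a : G) ∈ W := hWeq.symm ▸ ha
    obtain ⟨-, b, hb, g, hg, hab⟩ := ha'
    refine ⟨f ⟨b, hAH hb⟩, ⟨⟨b, hAH hb⟩, hb, rfl⟩, ?_⟩
    rw [hyK, ← map_inv, ← map_inv, ← map_mul, ← map_mul, ← map_mul, eq_comm, hf, QuotientGroup.mk'_apply,
      QuotientGroup.mk'_apply, QuotientGroup.eq, Subgroup.mem_subgroupOf]
    refine Subgroup.mem_sup_left ?_
    show (b⁻¹ * (y * b * y⁻¹))⁻¹ * (a : G) ∈ F
    rw [hab, inv_mul_cancel_left]
    exact hg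
  have hAKc : ∀ a ∈ AK, ∀ b ∈ AK, a * b = b * a := by
    rintro _ ⟨a, ha, rfl⟩ _ ⟨b, hb, rfl⟩
    rw [← map_mul, ← map_mul, hf, QuotientGroup.mk'_apply, QuotientGroup.mk'_apply, QuotientGroup.eq,
      Subgroup.mem_subgroupOf]
    refine Subgroup.mem_sup_left ?_
    have := hcomm _ (A.inv_mem hb) _ (A.inv_mem ha)
    simpa [mul_assoc] using this
  have hdecomp : ∀ k, ∃ a ∈ AK, ∃ i : ℕ, k = a * yK ^ i := by
    intro k
    obtain ⟨⟨g, hg⟩, rfl⟩ := hfs k
    have hn : Subgroup.zpowers y ≤ Subgroup.normalizer (A : Set G) := Subgroup.zpowers_le.2 hyA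
    have hg' : g ∈ ((A ⊔ Subgroup.zpowers y : Subgroup G) : Set G) := hg
    rw [Subgroup.coe_mul_of_right_le_normalizer_left A _ hn] at hg'
    obtain ⟨a, ha, z, hz, rfl⟩ := hg'
    obtain ⟨i, -, rfl⟩ := Finset.mem_image.1 (mem_zpowers_iff_mem_range_orderOf.1 hz)
    refine ⟨f ⟨a, hAH ha⟩, ⟨_, ha, rfl⟩, i, ?_⟩
    rw [hyK, ← map_pow, ← map_mul]
    rfl
  -- elements outside `AK` have order `q`
  have hout : ∀ k, k ∉ AK → k ^ q = 1 := by
    intro k hk
    obtain ⟨a, ha, i, rfl⟩ := hdecomp k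
    have hi : ¬ q ∣ i := fun ⟨c, hc⟩ => hk (by rw [hc, pow_mul, hyKq, one_pow, mul_one]; exact ha)
    set w := yK ^ i with hw
    have hwy : ∃ m : ℕ, w ^ m = yK := by
      obtain ⟨m, hm, hm'⟩ := Nat.chineseRemainder ((hq.coprime_iff_not_dvd.2 hi)) 1 0
      obtain ⟨c, hc⟩ := Nat.modEq_zero_iff_dvd.1 hm'
      refine ⟨c, ?_⟩
      rw [hw, ← pow_mul, ← hc]
      conv_rhs => rw [← pow_one yK]
      exact pow_eq_pow_iff_modEq.2 (by rw [hyKo]; exact hm)
    -- the commutators with `w` form all of `AK`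
    let δ : AK → AK := fun b => ⟨(b : H ⧸ N₀.subgroupOf H)⁻¹ * (w * b * w⁻¹),
      AK.mul_mem (AK.inv_mem b.2) (hAKn.conj_mem _ b.2 w)⟩
    have hinj : Function.Injective δ := by
      intro b b' hbb
      have h1 : (b : H ⧸ N₀.subgroupOf H)⁻¹ * (w * b * w⁻¹) = (b' : H ⧸ N₀.subgroupOf H)⁻¹ * (w * b' * w⁻¹) :=
        congrArg Subtype.val hbb
      have h2 : (b' : H ⧸ N₀.subgroupOf H) * (b : H ⧸ N₀.subgroupOf H)⁻¹ * (w * b * w⁻¹) = w * b' * w⁻¹ := by
        rw [mul_assoc, h1, mul_inv_cancel_left]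
      have hc : Commute w ((b' : H ⧸ N₀.subgroupOf H) * (b : H ⧸ N₀.subgroupOf H)⁻¹) := by
        have h3 : w * b' * w⁻¹ * (w * b * w⁻¹)⁻¹ = (b' : H ⧸ N₀.subgroupOf H) * (b : H ⧸ N₀.subgroupOf H)⁻¹ := by
          rw [← h2, mul_inv_cancel_right]
        rw [show w * b' * w⁻¹ * (w * b * w⁻¹)⁻¹ = w * ((b' : H ⧸ N₀.subgroupOf H) * (b : H ⧸ N₀.subgroupOf H)⁻¹) * w⁻¹ by
          group] at h3
        exact mul_inv_eq_iff_eq_mul.1 h3
      obtain ⟨m, hm⟩ := hwy
      have hc' : Commute yK ((b' : H ⧸ N₀.subgroupOf H) * (b : H ⧸ N₀.subgroupOf H)⁻¹) := hm ▸ hc.pow_left m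
      -- `yK`-commutators are injective
      let δ₁ : AK → AK := fun u => ⟨(u : H ⧸ N₀.subgroupOf H)⁻¹ * (yK * u * yK⁻¹),
        AK.mul_mem (AK.inv_mem u.2) (hAKn.conj_mem _ u.2 yK)⟩
      have hs1 : Function.Surjective δ₁ := fun u => by
        obtain ⟨v, hv, huv⟩ := hsurj u u.2
        exact ⟨⟨v, hv⟩, Subtype.ext huv.symm⟩
      have h4 : (⟨_, AK.mul_mem b'.2 (AK.inv_mem b.2)⟩ : AK) = 1 := Finite.injective_iff_surjective.2 hs1 (Subtype.ext (by
        show ((b' : H ⧸ N₀.subgroupOf H) * (b : H ⧸ N₀.subgroupOf H)⁻¹)⁻¹ *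
          (yK * ((b' : H ⧸ N₀.subgroupOf H) * (b : H ⧸ N₀.subgroupOf H)⁻¹) * yK⁻¹) = (1 : H ⧸ N₀.subgroupOf H)⁻¹ * (yK * 1 * yK⁻¹)
        rw [hc'.eq, mul_inv_cancel_right]
        group))
      exact Subtype.ext (mul_inv_eq_one.1 (congrArg Subtype.val h4)).symm
    obtain ⟨b, hb⟩ := (Finite.injective_iff_surjective.1 hinj) ⟨a, ha⟩
    have hba : (b : H ⧸ N₀.subgroupOf H)⁻¹ * (w * b * w⁻¹) = a := congrArg Subtype.val hb
    rw [← hba, show (b : H ⧸ N₀.subgroupOf H)⁻¹ * (w * b * w⁻¹) * w = (b : H ⧸ N₀.subgroupOf H)⁻¹ * w * (b : H ⧸ N₀.subgroupOf H)⁻¹⁻¹ by group,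
      conj_pow, hw, ← pow_mul, mul_comm i, pow_mul, hyKq, one_pow]
    group
  have hin : ∀ k ∈ AK, ∃ j, orderOf k = p ^ j := fun k hk => by
    obtain ⟨j, hj⟩ := IsPGroup.iff_orderOf.1 hAKp ⟨k, hk⟩
    exact ⟨j, by rwa [Subgroup.orderOf_mk] at hj⟩
  have hAK1 : ∃ a ∈ AK, a ≠ 1 := by
    by_contra hc
    push Not at hc
    refine hne (Subgroup.mem_centralizer_iff.2 fun a ha => ?_)
    have h1 : f ⟨a, hAH ha⟩ = 1 := hc _ ⟨_, ha, rfl⟩
    rw [hf, QuotientGroup.mk'_apply, QuotientGroup.eq_one_iff, Subgroup.mem_subgroupOf] at h1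
    exact Subgroup.mem_centralizer_singleton_iff.1 (hFC h1)
  obtain ⟨a, ha, ha1⟩ := hAK1
  obtain ⟨j, hj⟩ := hin a ha
  have hj0 : j ≠ 0 := fun h0 => ha1 (orderOf_eq_one_iff.1 (by rw [hj, h0, pow_zero]))
  have hO : Cfsg.pPrimeCore p (H ⧸ N₀.subgroupOf H) = ⊥ := by
    rw [Subgroup.eq_bot_iff_forall]
    intro k hk
    by_contra hk1
    set M := Cfsg.pPrimeCore p (H ⧸ N₀.subgroupOf H)
    haveI : M.Normal := Cfsg.Agent.Grp.pPrimeCore_isNormal
    have hdis : Disjoint AK M := by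
      rw [Subgroup.disjoint_def]
      intro x hx hxM
      obtain ⟨i, hi⟩ := hin x hx
      rw [← orderOf_eq_one_iff]
      refine Nat.eq_one_of_dvd_coprimes (Cfsg.Agent.Grp.pPrimeCore_coprime.symm.pow_left i) hi.dvd
        (M.orderOf_dvd_natCard hxM)
    have hc : Commute a k := Subgroup.commute_of_normal_of_disjoint _ _ hAKn inferInstance hdis a k ha hk
    have hkA : k ∉ AK := fun h => hk1 (Subgroup.disjoint_def.1 hdis h hk)
    have h1 : a * k ∉ AK := fun h => hkA (by simpa using AK.mul_mem (AK.inv_mem ha) h)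
    have h2 := hout _ h1
    rw [hc.mul_pow, hout k hkA, mul_one] at h2
    have h3 : p ∣ q := (dvd_pow_self p hj0).trans (hj ▸ orderOf_dvd_of_pow_eq_one h2)
    exact hqp ((Nat.prime_dvd_prime_iff_eq hp.out hq).1 h3).symm
  obtain ⟨k, hk⟩ := h H (N₀.subgroupOf H) hO
  have hpk : p ∣ orderOf k := hk ▸ ((dvd_pow_self p hj0).trans (hj ▸ Monoid.order_dvd_exponent a))
  have hqk : q ∣ orderOf k := hk ▸ (hyKo ▸ Monoid.order_dvd_exponent yK)
  by_cases hkA : k ∈ AK
  · obtain ⟨i, hi⟩ := hin k hkA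
    rw [hi] at hqk
    exact hqp ((Nat.prime_dvd_prime_iff_eq hq hp.out).1 (hq.dvd_of_dvd_pow hqk))
  · have := hpk.trans (orderOf_dvd_of_pow_eq_one (hout k hkA))
    exact hqp ((Nat.prime_dvd_prime_iff_eq hp.out hq).1 this).symm


/-- Let G be a finite group and p a prime. Then G has a normal p-complement if and only if every section K = H/N of G (N a normal subgroup of a subgroup H) whose largest normal subgroup of order prime to p is trivial contains an element whose order equals the exponent of K. -/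
theorem result {G : Type*} [Group G] [Finite G] (p : ℕ) [Fact p.Prime] :
    Cfsg.HasNormalPComplement p G ↔
      ∀ (H : Subgroup G) (N : Subgroup H) [N.Normal], Cfsg.pPrimeCore p (H ⧸ N) = ⊥ →
        ∃ k : H ⧸ N, orderOf k = Monoid.exponent (H ⧸ N) := by

  refine ⟨fun h H N _ hO => forward p h H N hO, fun h => ?_⟩
  obtain ⟨P⟩ : Nonempty (Sylow p G) := inferInstance
  rw [Cfsg.Agent.Transfer.hasNormalPComplement_iff_frobeniusCondition P]
  intro Q hQ g hg hco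
  refine Cfsg.Agent.Transfer.ClassDisconnected.mem_of_primary _ fun j q k hq ho => ?_
  by_contra hne
  have hgN : g ^ j ∈ Subgroup.normalizer (Q : Set G) := Subgroup.pow_mem _ hg j
  have hk : k ≠ 0 := fun h0 => hne (by
    rw [h0, pow_zero, orderOf_eq_one_iff] at ho; rw [ho]; exact Subgroup.one_mem _)
  have hqp : q ≠ p := fun e => (Fact.out : p.Prime).ne_one (Nat.eq_one_of_dvd_coprimes hco
    (e ▸ (dvd_pow_self q hk).trans (ho ▸ orderOf_pow_dvd j)) dvd_rfl)
  -- smallest counterexample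
  let Bad : Subgroup G → G → Prop := fun A y => IsPGroup p A ∧ (∃ e, orderOf y = q ^ e) ∧
    y ∈ Subgroup.normalizer (A : Set G) ∧ y ∉ Subgroup.centralizer (A : Set G)
  obtain ⟨⟨A, y⟩, ⟨hA, ⟨e, he⟩, hyA, hyne⟩, hmin⟩ := (Set.toFinite {x : Subgroup G × G | Bad x.1 x.2}).exists_minimalFor
    (fun x => Nat.card x.1 * (Nat.card G + 1) + orderOf x.2) _
    ⟨(Q, g ^ j), P.isPGroup'.to_le hQ, ⟨k, ho⟩, hgN, hne⟩
  have hlt : ∀ (B : Subgroup G) (z : G), Bad B z → ¬ (Nat.card B * (Nat.card G + 1) + orderOf z <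
      Nat.card A * (Nat.card G + 1) + orderOf y) := fun B z hB hl => by
    have := hmin (show (B, z) ∈ {x : Subgroup G × G | Bad x.1 x.2} from hB) hl.le
    dsimp only at this
    omega
  have hord : ∀ z : G, orderOf z < Nat.card G + 1 := fun z =>
    Nat.lt_succ_of_le (Nat.le_of_dvd Nat.card_pos (orderOf_dvd_natCard z))
  refine section_false p (fun H N _ => h H N) hq hqp he hA hyA hyne ?_ ?_
  · by_contra hc
    have he0 : e ≠ 0 := fun h0 => hyne (by
      rw [h0, pow_zero, orderOf_eq_one_iff] at he; rw [he]; exact Subgroup.one_mem _)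
    obtain ⟨e', rfl⟩ : ∃ e', e = e' + 1 := ⟨e - 1, by omega⟩
    have ho' : orderOf (y ^ q) = q ^ e' := by
      rw [orderOf_pow_of_dvd hq.ne_zero (he ▸ dvd_pow_self q he0), he, pow_succ, Nat.mul_div_cancel _ hq.pos]
    refine hlt A (y ^ q) ⟨hA, ⟨e', ho'⟩, Subgroup.pow_mem _ hyA q, hc⟩ ?_
    have : q ^ e' < q ^ (e' + 1) := Nat.pow_lt_pow_right hq.one_lt (Nat.lt_succ_self _)
    rw [ho', he]; omega
  · intro B hB hyB
    by_contra hc
    refine hlt B y ⟨hA.to_le hB.le, ⟨e, he⟩, hyB, hc⟩ ?_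
    have h1 : Nat.card B < Nat.card A := by
      refine lt_of_le_of_ne (Nat.le_of_dvd Nat.card_pos (Subgroup.card_dvd_of_le hB.le)) fun e' => hB.ne
        (Subgroup.eq_of_le_of_card_ge hB.le e'.ge)
    have h2 : (Nat.card B + 1) * (Nat.card G + 1) ≤ Nat.card A * (Nat.card G + 1) := Nat.mul_le_mul_right _ h1
    have h3 := hord y
    nlinarith

end Cfsg.Agent.S4238
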