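import Cfsg.Statements.S4242
import Mathlib
import Cfsg.Agent.Lib.Recog.Hughes
import Cfsg.Agent.Lib.Transfer.Frobenius
import Cfsg.Agent.Lib.Grp.Coprime

set_option maxHeartbeats 1000000
set_option maxRecDepth 8000

set_option autoImplicit false
open Cfsg
open scoped Pointwise

namespace Cfsg.Agent.S4242

/-- In a nilpotent subgroup, `p`-elements commute with `p'`-elements. -/
theorem commute_of_mem {G : Type*} [Group G] [Finite G] {p : ℕ} [hp : Fact p.Prime] {L : Subgroup G} (hL : Group.IsNilpotent L)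
    {a b : G} (ha : a ∈ L) (hb : b ∈ L) (hap : ∃ i : ℕ, orderOf a = p ^ i) (hbp : ¬ p ∣ orderOf b) : a * b = b * a := by
  obtain ⟨P, K, hKn, hK⟩ := Cfsg.Agent.Hughes.nilpotent_has_complement hL (q := p)
  haveI := hKn
  haveI : Group.IsNilpotent L := hL
  haveI hPn : (P : Subgroup L).Normal := Sylow.normal_of_normalizerCondition normalizerCondition_of_isNilpotent P
  letI := Sylow.unique_of_normal P hPn
  obtain ⟨i, hi⟩ := hap
  have haP : (⟨a, ha⟩ : L) ∈ (P : Subgroup L) := by
    have : IsPGroup p (Subgroup.zpowers (⟨a, ha⟩ : L)) :=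
      IsPGroup.of_card (n := i) (by rw [Nat.card_zpowers, Subgroup.orderOf_mk, hi])
    obtain ⟨P', hP'⟩ := this.exists_le_sylow
    rw [Subsingleton.elim P' P] at hP'
    exact hP' (Subgroup.mem_zpowers _)
  have hbK : (⟨b, hb⟩ : L) ∈ K := by
    obtain ⟨j, hj⟩ := IsPGroup.iff_card.1 P.isPGroup'
    have hd : orderOf (QuotientGroup.mk' K (⟨b, hb⟩ : L)) ∣ p ^ j := by
      rw [← hj, ← hK.symm.index_eq_card]
      exact orderOf_dvd_natCard _
    have hd2 : orderOf (QuotientGroup.mk' K (⟨b, hb⟩ : L)) ∣ orderOf b := by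
      rw [← Subgroup.orderOf_mk b hb]; exact orderOf_map_dvd _ _
    have h1 : orderOf (QuotientGroup.mk' K (⟨b, hb⟩ : L)) = 1 :=
      Nat.eq_one_of_dvd_coprimes (Nat.Coprime.pow_left j ((Nat.Prime.coprime_iff_not_dvd hp.out).2 hbp)) hd hd2
    exact (QuotientGroup.eq_one_iff _).1 (orderOf_eq_one_iff.1 h1)
  exact congrArg Subtype.val (Subgroup.commute_of_normal_of_disjoint _ _ hPn hKn hK.symm.disjoint _ _ haP hbK).eq

theorem orderOf_pow_of_mem {G : Type*} [Group G] [Finite G] {p : ℕ} [Fact p.Prime] {Q : Subgroup G} (hQ : IsPGroup p Q)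
    {a : G} (ha : a ∈ Q) : ∃ i : ℕ, orderOf a = p ^ i := by
  obtain ⟨i, hi⟩ := IsPGroup.iff_orderOf.1 hQ ⟨a, ha⟩
  exact ⟨i, by rwa [Subgroup.orderOf_mk] at hi⟩

theorem not_dvd_orderOf {G : Type*} [Group G] {p : ℕ} {Q : Subgroup G} (hQ : ¬ p ∣ Nat.card Q) {a : G} (ha : a ∈ Q) :
    ¬ p ∣ orderOf a := fun h => hQ (h.trans (Subgroup.orderOf_mk a ha ▸ orderOf_dvd_natCard _))

theorem forward {G : Type*} [Group G] [Finite G] {p : ℕ} [hp : Fact p.Prime] (hpG : p ∣ Nat.card G)
    (hmax : ∀ M : Subgroup G, IsCoatom M → p ∣ Nat.card M → Group.IsNilpotent M) :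
      Group.IsNilpotent G ∨ Cfsg.IsMinimalNonNilpotent G ∨
        ∃ Z K : Subgroup G, Z.Normal ∧ K.Normal ∧ Z ⊓ K = ⊥ ∧ Z ⊔ K = ⊤ ∧ Nat.card Z = p ∧
          Cfsg.IsMinimalNonNilpotent K ∧ ¬ p ∣ Nat.card K := by
  classical
  rcases em (Group.IsNilpotent G) with hG | hG
  · exact Or.inl hG
  refine Or.inr ?_
  -- proper subgroups of order divisible by p are nilpotent
  have hsub : ∀ H : Subgroup G, H ≠ ⊤ → p ∣ Nat.card H → Group.IsNilpotent H := by
    intro H hH hd
    obtain ⟨M, hM, hHM⟩ := (eq_top_or_exists_le_coatom H).resolve_left hH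
    haveI := hmax M hM (hd.trans (Subgroup.card_dvd_of_le hHM))
    exact Group.nilpotent_of_mulEquiv (Subgroup.subgroupOfEquivOfLe hHM)
  by_cases hall : ∀ M : Subgroup G, IsCoatom M → Group.IsNilpotent M
  · refine Or.inl ⟨hG, fun H hH => ?_⟩
    obtain ⟨M, hM, hHM⟩ := (eq_top_or_exists_le_coatom H).resolve_left hH
    haveI := hall M hM
    exact Group.nilpotent_of_mulEquiv (Subgroup.subgroupOfEquivOfLe hHM)
  push Not at hall
  obtain ⟨M, hM, hMnn⟩ := hall
  have hMp : ¬ p ∣ Nat.card M := fun h => hMnn (hmax M hM h)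
  -- elements of a non-nilpotent group lie in proper subgroups
  have hcyc : ∀ x ∈ M, Subgroup.zpowers x < M := fun x hx =>
    lt_of_le_of_ne (Subgroup.zpowers_le.2 hx) fun e => hMnn (e ▸ (@CommGroup.isNilpotent (Subgroup.zpowers x) IsCyclic.commGroup))
  by_cases hpn : HasNormalPComplement p G
  · obtain ⟨P, K, hKn, hK⟩ := hpn
    haveI := hKn
    have hKp : ¬ p ∣ Nat.card K := by rw [← hK.index_eq_card]; exact P.not_dvd_index
    have hMK : M ≤ K := fun x hx => by
      obtain ⟨j, hj⟩ := IsPGroup.iff_card.1 P.isPGroup'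
      have hd : orderOf (QuotientGroup.mk' K x) ∣ p ^ j := by
        rw [← hj, ← hK.symm.index_eq_card]
        exact orderOf_dvd_natCard _
      have h1 : orderOf (QuotientGroup.mk' K x) = 1 :=
        Nat.eq_one_of_dvd_coprimes (Nat.Coprime.pow_left j ((Nat.Prime.coprime_iff_not_dvd hp.out).2 (not_dvd_orderOf hMp hx)))
          hd (orderOf_map_dvd _ x)
      exact (QuotientGroup.eq_one_iff x).1 (orderOf_eq_one_iff.1 h1)
    have hKtop : K ≠ ⊤ := fun e => hKp (by rw [e, Subgroup.card_top]; exact hpG)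
    have hMK' : M = K := (hM.le_iff.1 hMK).elim (fun e => absurd e hKtop) Eq.symm
    subst hMK'
    -- the Sylow subgroup has order p
    have hPcard : Nat.card P = p := by
      obtain ⟨j, hj⟩ := IsPGroup.iff_card.1 P.isPGroup'
      have h1 : p ∣ Nat.card P := P.dvd_card_of_dvd_card hpG
      obtain ⟨a, ha⟩ := exists_prime_orderOf_dvd_card' p h1
      have hnle : ¬ (Subgroup.zpowers (a : G) ≤ M) := fun h => hMp (by
        have := not_dvd_orderOf hMp (h (Subgroup.mem_zpowers (a : G)))
        rw [Subgroup.orderOf_coe, ha] at this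
        exact absurd dvd_rfl this)
      have htop : M ⊔ Subgroup.zpowers (a : G) = ⊤ := hM.2 _ (lt_of_le_of_ne le_sup_left fun e => hnle (e ▸ le_sup_right))
      refine le_antisymm ?_ (Nat.le_of_dvd Nat.card_pos h1)
      have h2 : Nat.card G ≤ Nat.card M * Nat.card (Subgroup.zpowers (a : G)) := by
        rw [← Nat.card_prod]
        refine Nat.card_le_card_of_surjective (fun x : M × Subgroup.zpowers (a : G) => (x.1 : G) * x.2) fun g => ?_
        have hg : g ∈ (↑(M ⊔ Subgroup.zpowers (a : G)) : Set G) := by rw [htop]; trivial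
        rw [Subgroup.normal_mul] at hg
        obtain ⟨x, hx, y, hy, e⟩ := Set.mem_mul.1 hg
        exact ⟨(⟨x, hx⟩, ⟨y, hy⟩), e⟩
      rw [← hK.card_mul] at h2
      exact Nat.le_of_mul_le_mul_left (by rwa [Nat.card_zpowers, Subgroup.orderOf_coe, ha] at h2) Nat.card_pos
    have hPnorm : (P : Subgroup G) ≤ Subgroup.normalizer (M : Set G) := by rw [Subgroup.normalizer_eq_top]; exact le_top
    -- P centralizes M
    have hcent : M ≤ Subgroup.centralizer ((P : Subgroup G) : Set G) := by
      have hdvd : Nat.card M ∣ Nat.card (M ⊓ Subgroup.centralizer ((P : Subgroup G) : Set G) : Subgroup G) := by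
        refine Nat.dvd_iff_prime_pow_dvd_dvd _ _ |>.2 fun r k hr hrk => ?_
        rcases k.eq_zero_or_pos with rfl | hk
        · simp
        haveI : Fact r.Prime := ⟨hr⟩
        have hrp : r ≠ p := fun e => hMp (e ▸ (dvd_pow_self r hk.ne').trans hrk)
        obtain ⟨X, hX, hXn⟩ := Cfsg.Agent.Grp.exists_invariant_sylow (P : Subgroup G) M hPnorm (by
          rw [hPcard]; exact (Nat.Prime.coprime_iff_not_dvd hp.out).2 hMp) (Or.inl (by
            haveI := P.isPGroup'.isNilpotent; infer_instance)) r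
        have hXle : X ≤ M := hX.1
        have hXdvd : r ^ k ∣ Nat.card X := by
          have h3 : (Nat.card X) * X.relIndex M = Nat.card M := by
            rw [← Subgroup.relIndex_bot_left X, ← Subgroup.relIndex_bot_left M, Subgroup.relIndex_mul_relIndex _ _ _ bot_le hXle]
          exact Nat.Coprime.dvd_of_dvd_mul_right (Nat.Coprime.pow_left k ((Nat.Prime.coprime_iff_not_dvd hr).2 hX.2.2)) (h3 ▸ hrk)
        refine hXdvd.trans (Subgroup.card_dvd_of_le (le_inf hXle fun x hx => ?_))
        have hne : X ⊔ (P : Subgroup G) ≠ ⊤ := fun e => by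
          have hXP : (↑(X ⊔ (P : Subgroup G)) : Set G) = (X : Set G) * ((P : Subgroup G) : Set G) :=
            Subgroup.coe_mul_of_right_le_normalizer_left X _ hXn
          have hMX : M ≤ X := fun m hm => by
            have hm' : m ∈ (↑(X ⊔ (P : Subgroup G)) : Set G) := by rw [e]; trivial
            rw [hXP] at hm'
            obtain ⟨x, hx, u, hu, rfl⟩ := Set.mem_mul.1 hm'
            have : u ∈ M ⊓ (P : Subgroup G) := ⟨by simpa using mul_mem (inv_mem (hXle hx)) hm, hu⟩
            rw [hK.disjoint.eq_bot, Subgroup.mem_bot] at this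
            rw [this, mul_one]; exact hx
          exact hMnn ((hX.2.1.to_le hMX).isNilpotent)
        have hnil := hsub _ hne ((P.dvd_card_of_dvd_card hpG).trans (Subgroup.card_dvd_of_le le_sup_right))
        rw [Subgroup.mem_centralizer_iff]
        intro u hu
        refine commute_of_mem hnil (Subgroup.mem_sup_right hu) (Subgroup.mem_sup_left hx) (orderOf_pow_of_mem P.isPGroup' hu) ?_
        exact not_dvd_orderOf hMp (hXle hx)
      exact (Subgroup.eq_of_le_of_card_ge inf_le_left (Nat.le_of_dvd Nat.card_pos hdvd)).ge.trans inf_le_right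
    refine Or.inr ⟨P, M, ?_, hKn, hK.symm.disjoint.eq_bot, hK.symm.sup_eq_top, hPcard, ⟨hMnn, fun L hL => ?_⟩, hMp⟩
    · rw [← Subgroup.normalizer_eq_top_iff, eq_top_iff, ← hK.sup_eq_top]
      exact sup_le (hcent.trans (Subgroup.centralizer_le_normalizer _)) Subgroup.le_normalizer
    · have hL' : L.map M.subtype < M := lt_of_le_of_ne (Subgroup.map_subtype_le L) fun e => hL (by
        apply Subgroup.map_injective M.subtype_injective
        rw [e, ← MonoidHom.range_eq_map, Subgroup.range_subtype])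
      have hLn : (P : Subgroup G) ≤ Subgroup.normalizer ((L.map M.subtype) : Set G) :=
        ((Subgroup.le_centralizer_iff.1 hcent).trans (Subgroup.centralizer_le (SetLike.coe_subset_coe.2 hL'.le))).trans
          (Subgroup.centralizer_le_normalizer _)
      have hne : L.map M.subtype ⊔ (P : Subgroup G) ≠ ⊤ := fun e => hL'.not_ge fun m hm => by
        have hm' : m ∈ (↑(L.map M.subtype ⊔ (P : Subgroup G)) : Set G) := by rw [e]; trivial
        rw [Subgroup.coe_mul_of_right_le_normalizer_left _ _ hLn] at hm'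
        obtain ⟨x, hx, u, hu, rfl⟩ := Set.mem_mul.1 hm'
        have : u ∈ M ⊓ (P : Subgroup G) := ⟨by simpa using mul_mem (inv_mem (hL'.le hx)) hm, hu⟩
        rw [hK.disjoint.eq_bot, Subgroup.mem_bot] at this
        rw [this, mul_one]; exact hx
      haveI := hsub _ hne ((P.dvd_card_of_dvd_card hpG).trans (Subgroup.card_dvd_of_le le_sup_right))
      haveI : Group.IsNilpotent (L.map M.subtype) :=
        Group.nilpotent_of_mulEquiv (Subgroup.subgroupOfEquivOfLe (H := L.map M.subtype) (K := L.map M.subtype ⊔ (P : Subgroup G)) le_sup_left)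
      exact Group.nilpotent_of_mulEquiv (L.equivMapOfInjective M.subtype M.subtype_injective).symm
  · exfalso
    rw [Transfer.hasNormalPComplement_iff_local] at hpn
    push Not at hpn
    obtain ⟨Q, hQ, hQ1, hQn⟩ := hpn
    have hQd : p ∣ Nat.card Q := by
      obtain ⟨j, hj⟩ := IsPGroup.iff_card.1 hQ
      rcases j.eq_zero_or_pos with rfl | hj0
      · exact absurd (Subgroup.card_eq_one.1 (by simpa using hj)) hQ1
      · rw [hj]; exact dvd_pow_self p hj0.ne'
    have htop : Subgroup.normalizer (Q : Set G) = ⊤ := by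
      by_contra h
      exact hQn (Cfsg.Agent.Hughes.nilpotent_has_complement (hsub _ h (hQd.trans (Subgroup.card_dvd_of_le Subgroup.le_normalizer))))
    haveI hQN : Q.Normal := Subgroup.normalizer_eq_top_iff.1 htop
    have hQM : Q ⊓ M = ⊥ := by
      refine Subgroup.inf_eq_bot_of_coprime ?_
      obtain ⟨j, hj⟩ := IsPGroup.iff_card.1 hQ
      rw [hj]
      exact Nat.Coprime.pow_left j ((Nat.Prime.coprime_iff_not_dvd hp.out).2 hMp)
    have hQMtop : Q ⊔ M = ⊤ := hM.2 _ (lt_of_le_of_ne le_sup_right fun e => hMp (hQd.trans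
      (Subgroup.card_dvd_of_le (e ▸ le_sup_left))))
    have hcen : M ≤ Subgroup.centralizer (Q : Set G) := by
      intro x hx
      have hne : Q ⊔ Subgroup.zpowers x ≠ ⊤ := fun e => (hcyc x hx).not_ge fun m hm => by
        have hm' : m ∈ (↑(Q ⊔ Subgroup.zpowers x) : Set G) := by rw [e]; trivial
        rw [Subgroup.normal_mul] at hm'
        obtain ⟨u, hu, y, hy, rfl⟩ := Set.mem_mul.1 hm'
        have : u ∈ Q ⊓ M := ⟨hu, by simpa using mul_mem hm (inv_mem (Subgroup.zpowers_le.2 hx hy))⟩
        rw [hQM, Subgroup.mem_bot] at this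
        rw [this, one_mul]; exact hy
      have hnil := hsub _ hne (hQd.trans (Subgroup.card_dvd_of_le le_sup_left))
      rw [Subgroup.mem_centralizer_iff]
      intro u hu
      exact commute_of_mem hnil (Subgroup.mem_sup_left hu) (Subgroup.mem_sup_right (Subgroup.mem_zpowers x))
        (orderOf_pow_of_mem hQ hu) (not_dvd_orderOf hMp hx)
    have hMN : M.Normal := by
      rw [← Subgroup.normalizer_eq_top_iff, eq_top_iff, ← hQMtop]
      exact sup_le ((Subgroup.le_centralizer_iff.1 hcen).trans (Subgroup.centralizer_le_normalizer _)) Subgroup.le_normalizer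
    -- then M is a normal p-complement
    obtain ⟨P, hP⟩ := hQ.exists_le_sylow
    have hcompl : M.IsComplement' Q := Subgroup.isComplement'_of_disjoint_and_mul_eq_univ
      (disjoint_iff.2 (by rw [inf_comm]; exact hQM)) (by rw [← Subgroup.normal_mul, sup_comm, hQMtop]; rfl)
    have hPQ : (P : Subgroup G) = Q := by
      refine (Subgroup.eq_of_le_of_card_ge hP ?_).symm
      obtain ⟨j, hj⟩ := IsPGroup.iff_card.1 P.isPGroup'
      refine Nat.le_of_dvd Nat.card_pos ?_
      rw [hj]
      refine Nat.Coprime.dvd_of_dvd_mul_left (Nat.Coprime.pow_left j ((Nat.Prime.coprime_iff_not_dvd hp.out).2 hMp)) ?_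
      rw [hcompl.card_mul, ← hj]
      exact Subgroup.card_subgroup_dvd_card _
    exact hQn (Transfer.hasNormalPComplement_subgroup _ ⟨P, M, hMN, hPQ ▸ hcompl⟩)

/-- Let G be a finite group and p a prime dividing its order. Every maximal subgroup of G of order divisible by p is nilpotent if and only if G is nilpotent, or G is a minimal non-nilpotent group, or G is the internal direct product of a normal subgroup of order p and a normal minimal non-nilpotent subgroup of order prime to p. -/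
theorem result {G : Type*} [Group G] [Finite G] (p : ℕ) (hp : p.Prime) (hpG : p ∣ Nat.card G) :
    (∀ M : Subgroup G, IsCoatom M → p ∣ Nat.card M → Group.IsNilpotent M) ↔
      (Group.IsNilpotent G ∨ Cfsg.IsMinimalNonNilpotent G ∨
        ∃ Z K : Subgroup G, Z.Normal ∧ K.Normal ∧ Z ⊓ K = ⊥ ∧ Z ⊔ K = ⊤ ∧ Nat.card Z = p ∧
          Cfsg.IsMinimalNonNilpotent K ∧ ¬ p ∣ Nat.card K) := by

  haveI : Fact p.Prime := ⟨hp⟩
  refine ⟨forward hpG, ?_⟩
  rintro (hG | hG | ⟨Z, K, hZn, hKn, hdisj, htop, hZ, hK, hKp⟩) M hM hpM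
  · exact (haveI := hG; inferInstance)
  · exact hG.2 M hM.1
  · haveI := hZn
    haveI := hKn
    haveI : Fact p.Prime := ⟨hp⟩
    obtain ⟨a, ha⟩ := exists_prime_orderOf_dvd_card' p hpM
    have hcompl : K.IsComplement' Z := Subgroup.isComplement'_of_disjoint_and_mul_eq_univ
      (disjoint_iff.2 (by rw [inf_comm]; exact hdisj)) (by rw [← Subgroup.normal_mul, sup_comm, htop]; rfl)
    have haZ : (a : G) ∈ Z := by
      have h1 : orderOf (QuotientGroup.mk' Z (a : G)) = 1 := by
        refine Nat.eq_one_of_dvd_coprimes ((Nat.Prime.coprime_iff_not_dvd hp).2 hKp) ?_ ?_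
        · rw [← ha, ← Subgroup.orderOf_coe a]; exact orderOf_map_dvd _ _
        · rw [← hcompl.index_eq_card]; exact orderOf_dvd_natCard _
      exact (QuotientGroup.eq_one_iff _).1 (orderOf_eq_one_iff.1 h1)
    have hZM : Z ≤ M := by
      have : Subgroup.zpowers (a : G) = Z := Subgroup.eq_of_le_of_card_ge (Subgroup.zpowers_le.2 haZ)
        (by rw [Nat.card_zpowers, Subgroup.orderOf_coe, ha, hZ])
      rw [← this, Subgroup.zpowers_le]; exact a.2
    have hMdec : M = Z ⊔ (K ⊓ M) := by
      refine le_antisymm (fun m hm => ?_) (sup_le hZM inf_le_right)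
      have hm' : m ∈ (↑(Z ⊔ K) : Set G) := by rw [htop]; trivial
      rw [Subgroup.normal_mul] at hm'
      obtain ⟨z, hz, k, hk, rfl⟩ := Set.mem_mul.1 hm'
      exact mul_mem (Subgroup.mem_sup_left hz) (Subgroup.mem_sup_right ⟨hk, by simpa using mul_mem (inv_mem (hZM hz)) hm⟩)
    haveI : Group.IsNilpotent ((K ⊓ M).subgroupOf K) := hK.2 _ fun e => by
      rw [Subgroup.subgroupOf_eq_top] at e
      refine hM.1 (eq_top_iff.2 ?_)
      rw [← htop]; exact sup_le hZM (e.trans inf_le_right)
    haveI : Group.IsNilpotent (K ⊓ M : Subgroup G) :=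
      Group.nilpotent_of_mulEquiv (Subgroup.subgroupOfEquivOfLe (inf_le_left : K ⊓ M ≤ K))
    haveI : IsCyclic Z := isCyclic_of_prime_card hZ
    have hzc : ∀ z ∈ Z, ∀ k ∈ K, z * k = k * z := fun z hz k hk =>
      (Subgroup.commute_of_normal_of_disjoint Z K hZn hKn (disjoint_iff.2 hdisj) z k hz hk).eq
    let f : Z × (K ⊓ M : Subgroup G) →* M :=
      { toFun := fun x => ⟨(x.1 : G) * (x.2 : G), mul_mem (hZM x.1.2) x.2.2.2⟩
        map_one' := Subtype.ext (one_mul (1 : G))
        map_mul' := fun x y => Subtype.ext (by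
          show (x.1 : G) * y.1 * ((x.2 : G) * y.2) = x.1 * x.2 * (y.1 * y.2)
          rw [mul_assoc, ← mul_assoc (y.1 : G), hzc y.1 y.1.2 x.2 x.2.2.1, mul_assoc, mul_assoc (x.1 : G)]) }
    haveI : Group.IsNilpotent Z := @CommGroup.isNilpotent Z IsCyclic.commGroup
    refine nilpotent_of_surjective f fun m => ?_
    have hm : (m : G) ∈ (↑(Z ⊔ (K ⊓ M)) : Set G) := hMdec ▸ m.2
    rw [Subgroup.normal_mul] at hm
    obtain ⟨z, hz, k, hk, e⟩ := Set.mem_mul.1 hm
    exact ⟨(⟨z, hz⟩, ⟨k, hk⟩), Subtype.ext e⟩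

end Cfsg.Agent.S4242
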