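import Cfsg.Statements.S4244
import Cfsg.Agent.Lib.Grp.Basic

set_option maxHeartbeats 1000000
set_option maxRecDepth 8000

set_option autoImplicit false
open Cfsg

namespace Cfsg.Agent.S4244

/-- Let H be a subnormal subgroup of a finite group G. Then for every subgroup K of G the index of H ∩ K in H divides the index of K in G. -/
theorem result {G : Type*} [Group G] [Finite G] (H : Subgroup G) (hH : H.IsSubnormal) (K : Subgroup G) :
    (H ⊓ K).relIndex H ∣ K.index := by
  suffices h : ∀ K : Subgroup G, (H ⊓ K).relIndex H ∣ (⊤ ⊓ K).relIndex ⊤ by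
    have := h K
    rwa [top_inf_eq, Subgroup.relIndex_top_right] at this
  intro K
  induction hH with
  | top => exact dvd_rfl
  | step H L hle _ hn ih =>
    refine Nat.dvd_trans ?_ ih
    set X := L ⊓ K
    have hX : X ≤ Subgroup.normalizer (H : Set G) :=
      inf_le_left.trans ((Subgroup.normal_subgroupOf_iff_le_normalizer hle).mp hn)
    have h1 := Agent.Grp.card_sup_mul_card_inf hX
    have hinf : X ⊓ H = H ⊓ K := by
      apply le_antisymm
      · exact le_inf inf_le_right (inf_le_left.trans inf_le_right)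
      · exact le_inf (le_inf (inf_le_left.trans hle) inf_le_right) inf_le_left
    rw [hinf] at h1
    have h2 := Agent.Grp.card_mul_relIndex (inf_le_left : H ⊓ K ≤ H)
    have h3 := Agent.Grp.card_mul_relIndex (inf_le_left : X ≤ L)
    have h4 := Agent.Grp.card_mul_relIndex (le_sup_left : X ≤ X ⊔ H)
    have h5 : (H ⊓ K).relIndex H = X.relIndex (X ⊔ H) := by
      refine Nat.eq_of_mul_eq_mul_left (Nat.mul_pos (Nat.card_pos (α := X)) (Nat.card_pos (α := ↥(H ⊓ K)))) ?_
      calc Nat.card X * Nat.card ↥(H ⊓ K) * (H ⊓ K).relIndex H = Nat.card X * Nat.card H := by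
            rw [mul_assoc, h2]
        _ = Nat.card ↥(X ⊔ H) * Nat.card ↥(H ⊓ K) := h1.symm
        _ = Nat.card X * Nat.card ↥(H ⊓ K) * X.relIndex (X ⊔ H) := by rw [← h4]; ring
    rw [h5, ← Subgroup.relIndex_mul_relIndex X (X ⊔ H) L le_sup_left (sup_le inf_le_left hle)]
    exact dvd_mul_right _ _

end Cfsg.Agent.S4244
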