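import Cfsg.Statements.S4250
import Cfsg.Agent.Lib.Transfer.Alperin
import Cfsg.Agent.Lib.Transfer.Fusion

set_option maxHeartbeats 1000000
set_option maxRecDepth 8000

set_option autoImplicit false
open Cfsg
open scoped commutatorElement

namespace Cfsg.Agent.S4250

/-- Let P be a Sylow p-subgroup of a finite group G. Call an intersection H = P ∩ Q with a Sylow p-subgroup Q tame when N_P(H) and N_Q(H) are Sylow p-subgroups of N_G(H). Then P ∩ G′ is generated by [P, N_G(P)] together with the commutator subgroups [P ∩ Q, ⟨x⟩] for all tame intersections P ∩ Q and all p-elements x of N_G(P ∩ Q). -/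
theorem result {G : Type*} [Group G] [Finite G] (p : ℕ) [Fact p.Prime] (P : Sylow p G) :
    (P : Subgroup G) ⊓ commutator G =
      ⁅(P : Subgroup G), Subgroup.normalizer ((P : Subgroup G) : Set G)⁆ ⊔
        ⨆ (Q : Sylow p G) (_ : (¬ p ∣ ((P : Subgroup G) ⊓ Subgroup.normalizer (((P : Subgroup G) ⊓ (Q : Subgroup G) : Subgroup G) : Set G)).relIndex (Subgroup.normalizer (((P : Subgroup G) ⊓ (Q : Subgroup G) : Subgroup G) : Set G)) ∧ ¬ p ∣ ((Q : Subgroup G) ⊓ Subgroup.normalizer (((P : Subgroup G) ⊓ (Q : Subgroup G) : Subgroup G) : Set G)).relIndex (Subgroup.normalizer (((P : Subgroup G) ⊓ (Q : Subgroup G) : Subgroup G) : Set G))))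
          (x : G) (_ : x ∈ Subgroup.normalizer (((P : Subgroup G) ⊓ (Q : Subgroup G) : Subgroup G) : Set G) ∧ ∃ k : ℕ, orderOf x = p ^ k),
          ⁅(P : Subgroup G) ⊓ (Q : Subgroup G), Subgroup.zpowers x⁆ := by
  classical
  set K := ⁅(P : Subgroup G), Subgroup.normalizer ((P : Subgroup G) : Set G)⁆ ⊔
        ⨆ (Q : Sylow p G) (_ : (¬ p ∣ ((P : Subgroup G) ⊓ Subgroup.normalizer (((P : Subgroup G) ⊓ (Q : Subgroup G) : Subgroup G) : Set G)).relIndex (Subgroup.normalizer (((P : Subgroup G) ⊓ (Q : Subgroup G) : Subgroup G) : Set G)) ∧ ¬ p ∣ ((Q : Subgroup G) ⊓ Subgroup.normalizer (((P : Subgroup G) ⊓ (Q : Subgroup G) : Subgroup G) : Set G)).relIndex (Subgroup.normalizer (((P : Subgroup G) ⊓ (Q : Subgroup G) : Subgroup G) : Set G))))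
          (x : G) (_ : x ∈ Subgroup.normalizer (((P : Subgroup G) ⊓ (Q : Subgroup G) : Subgroup G) : Set G) ∧ ∃ k : ℕ, orderOf x = p ^ k),
          ⁅(P : Subgroup G) ⊓ (Q : Subgroup G), Subgroup.zpowers x⁆ with hK
  have hstep0 : ∀ D : Subgroup G, ∀ x : G, x ∈ Subgroup.normalizer (D : Set G) → ⁅D, Subgroup.zpowers x⁆ ≤ D := fun D x hx =>
    Subgroup.le_normalizer_iff_commutator_le_left.1 (Subgroup.zpowers_le.2 hx)
  refine le_antisymm ?_ ?_
  swap
  · refine le_inf (sup_le ?_ ?_) (sup_le ?_ ?_)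
    · exact Subgroup.le_normalizer_iff_commutator_le_left.1 le_rfl
    · exact iSup_le fun Q => iSup_le fun _ => iSup_le fun x => iSup_le fun hx => (hstep0 _ x hx.1).trans inf_le_left
    · rw [commutator_def]; exact Subgroup.commutator_mono le_top le_top
    · refine iSup_le fun Q => iSup_le fun _ => iSup_le fun x => iSup_le fun hx => ?_
      rw [commutator_def]; exact Subgroup.commutator_mono le_top le_top
  -- downward induction on the order of the tame intersection
  have main : ∀ n : ℕ, ∀ (Q : Sylow p G) (x : G), Cfsg.Agent.Transfer.TameStep P Q x →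
      Nat.card G ≤ Nat.card ↥((P : Subgroup G) ⊓ (Q : Subgroup G)) + n →
      ∀ a ∈ (P : Subgroup G) ⊓ (Q : Subgroup G), a⁻¹ * (x⁻¹ * a * x) ∈ K := by
    intro n
    induction n using Nat.strong_induction_on with
    | _ n ih =>
      intro Q x hT hn a ha
      set D := (P : Subgroup G) ⊓ (Q : Subgroup G) with hD
      obtain ⟨hxN, hPt, hQt⟩ := hT
      rcases eq_or_lt_of_le (inf_le_left : D ≤ (P : Subgroup G)) with hDP | hDP
      · refine Subgroup.mem_sup_left ?_
        change (P : Subgroup G) ⊓ (Q : Subgroup G) = (P : Subgroup G) at hDP; simp only [hD, hDP] at hxN ha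
        have := Subgroup.commutator_mem_commutator (H₁ := (P : Subgroup G))
          (H₂ := Subgroup.normalizer ((P : Subgroup G) : Set G)) (inv_mem ha) (inv_mem hxN)
        rwa [commutatorElement_def, inv_inv, inv_inv, mul_assoc, mul_assoc, ← mul_assoc x⁻¹] at this
      set N := Subgroup.normalizer (D : Set G) with hN
      have hlt := Cfsg.Agent.Transfer.lt_inf_normalizer P hDP
      set T := (P : Subgroup G) ⊓ N with hTdef
      let W : Subgroup G :=
        { carrier := {y | y ∈ N ∧ ∀ a ∈ D, a⁻¹ * (y⁻¹ * a * y) ∈ K}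
          one_mem' := ⟨one_mem _, fun a _ => by simp⟩
          mul_mem' := fun {y z} hy hz => ⟨N.mul_mem hy.1 hz.1, fun a ha => by
            have h1 : y⁻¹ * a * y ∈ D := (Subgroup.mem_normalizer_iff''.1 hy.1 a).1 ha
            have := K.mul_mem (hy.2 a ha) (hz.2 _ h1)
            rwa [show a⁻¹ * (y⁻¹ * a * y) * ((y⁻¹ * a * y)⁻¹ * (z⁻¹ * (y⁻¹ * a * y) * z)) = a⁻¹ * ((y * z)⁻¹ * a * (y * z)) by group] at this⟩
          inv_mem' := fun {y} hy => ⟨N.inv_mem hy.1, fun a ha => by
            have h1 : y * a * y⁻¹ ∈ D := (Subgroup.mem_normalizer_iff.1 hy.1 a).1 ha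
            have := K.inv_mem (hy.2 _ h1)
            rwa [show ((y * a * y⁻¹)⁻¹ * (y⁻¹ * (y * a * y⁻¹) * y))⁻¹ = a⁻¹ * (y⁻¹⁻¹ * a * y⁻¹) by group] at this⟩ }
      suffices hNW : N ≤ W from (hNW hxN).2 a ha
      let Y : Subgroup N := Subgroup.closure {y : N | ∃ k : ℕ, orderOf y = p ^ k}
      haveI hYn : Y.Normal := ⟨fun y hy g => by
        have hle : Y ≤ Y.comap (MulAut.conj g).toMonoidHom := (Subgroup.closure_le _).2 fun z ⟨k, hk⟩ =>
          Subgroup.subset_closure ⟨k, by rw [← hk]; exact (MulAut.conj g).orderOf_eq z⟩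
        exact hle hy⟩
      have hiN : ¬ p ∣ ((P : Subgroup G).subgroupOf N).index := by rwa [Subgroup.inf_relIndex_right] at hPt
      let TN : Sylow p N := (show IsPGroup p ((P : Subgroup G).subgroupOf N) from P.isPGroup'.comap_subtype).toSylow hiN
      have hTY : (TN : Subgroup N) ≤ Y := fun y hy => Subgroup.subset_closure (by
        obtain ⟨k, hk⟩ := IsPGroup.iff_orderOf.1 TN.isPGroup' ⟨y, hy⟩
        rw [Subgroup.orderOf_mk] at hk
        exact ⟨k, hk⟩)
      have htop := Sylow.normalizer_sup_eq_top' TN hTY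
      have hY : Y ≤ W.comap N.subtype := (Subgroup.closure_le _).2 fun y ⟨k, hk⟩ => ⟨y.2, fun a ha => by
        refine Subgroup.mem_sup_right (Subgroup.mem_iSup_of_mem Q (Subgroup.mem_iSup_of_mem ⟨hPt, hQt⟩
          (Subgroup.mem_iSup_of_mem (y : G) (Subgroup.mem_iSup_of_mem ⟨y.2, k, by rw [Subgroup.orderOf_coe]; exact hk⟩ ?_))))
        have := Subgroup.commutator_mem_commutator (H₁ := D) (H₂ := Subgroup.zpowers (y : G)) (inv_mem ha)
          (inv_mem (Subgroup.mem_zpowers (y : G)))
        rwa [commutatorElement_def, inv_inv, inv_inv, mul_assoc, mul_assoc, ← mul_assoc (y : G)⁻¹] at this⟩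
      have hNT : Subgroup.normalizer ((TN : Subgroup N) : Set N) ≤ W.comap N.subtype := by
        intro y hy
        refine ⟨y.2, fun a ha => ?_⟩
        have himg : (fun b => (y : G)⁻¹ * b * y) '' (T : Set G) ⊆ (T : Set G) := by
          rintro _ ⟨b, hb, rfl⟩
          have h1 := (Subgroup.mem_normalizer_iff''.1 hy ⟨b, hb.2⟩).1 hb.1
          exact ⟨h1, N.mul_mem (N.mul_mem (N.inv_mem y.2) hb.2) y.2⟩
        have hch := Cfsg.Agent.Transfer.alperin P (T : Set G) (y : G) (fun b hb => hb.1) (himg.trans fun b hb => hb.1)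
        have key : ∀ (A : Set G) (g : G), Cfsg.Agent.Transfer.AlperinChain P A g → Nat.card T ≤ Nat.card A →
            ∀ b ∈ A, b⁻¹ * (g⁻¹ * b * g) ∈ K := by
          intro A g h
          induction h with
          | nil A => intro _ b _; simp
          | @cons A Q' x' y' hT' hA' _ ih' =>
            intro hc b hb
            have h1 : Nat.card ↥((P : Subgroup G) ⊓ (Q' : Subgroup G)) ≥ Nat.card T :=
              hc.trans (Nat.card_mono (Set.toFinite _) hA')
            have h2 : Nat.card D < Nat.card T :=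
              lt_of_le_of_ne (Subgroup.card_le_of_le hlt.le) fun e => hlt.ne (Subgroup.eq_of_le_of_card_ge hlt.le e.ge)
            have hm := Nat.card_le_card_of_injective _ (Subgroup.subtype_injective T)
            have e1 := ih (Nat.card G - Nat.card ↥((P : Subgroup G) ⊓ (Q' : Subgroup G))) (by omega) Q' x' hT'
              (by omega) b (hA' hb)
            have hcard' : Nat.card ((fun a => x'⁻¹ * a * x') '' A) = Nat.card A :=
              Nat.card_image_of_injective (fun u v huv => mul_left_cancel (mul_right_cancel huv)) A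
            have e2 := ih' (hc.trans hcard'.ge) _ ⟨b, hb, rfl⟩
            rw [show b⁻¹ * ((x' * y')⁻¹ * b * (x' * y')) = (b⁻¹ * (x'⁻¹ * b * x')) *
              ((x'⁻¹ * b * x')⁻¹ * (y'⁻¹ * (x'⁻¹ * b * x') * y')) by group]
            exact K.mul_mem e1 e2
        exact key _ _ hch le_rfl a (hlt.le ha)
      intro z hz
      have h4 : (⟨z, hz⟩ : N) ∈ W.comap N.subtype := (sup_le hNT hY) (htop.symm ▸ Subgroup.mem_top _)
      exact h4
  rw [inf_comm]
  refine Cfsg.Agent.Transfer.commutator_inf_sylow_le P fun x hx u hu => ?_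
  have hch := Cfsg.Agent.Transfer.alperin P {x} u⁻¹ (Set.singleton_subset_iff.2 hx) (by
    rw [Set.image_singleton, Set.singleton_subset_iff, inv_inv]; exact hu)
  have key : ∀ (A : Set G) (g : G), Cfsg.Agent.Transfer.AlperinChain P A g → ∀ b ∈ A, b⁻¹ * (g⁻¹ * b * g) ∈ K := by
    intro A g h
    induction h with
    | nil A => intro b _; simp
    | @cons A Q' x' y' hT' hA' _ ih' =>
      intro b hb
      have e1 := main (Nat.card G) Q' x' hT' (Nat.le_add_left _ _) b (hA' hb)
      have e2 := ih' _ ⟨b, hb, rfl⟩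
      rw [show b⁻¹ * ((x' * y')⁻¹ * b * (x' * y')) = (b⁻¹ * (x'⁻¹ * b * x')) *
        ((x'⁻¹ * b * x')⁻¹ * (y'⁻¹ * (x'⁻¹ * b * x') * y')) by group]
      exact K.mul_mem e1 e2
  have := key _ _ hch x rfl
  rwa [inv_inv] at this

end Cfsg.Agent.S4250
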