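import Cfsg.Statements.S4251
import Cfsg.Agent.Lib.Transfer.Alperin
import Cfsg.Agent.Lib.Transfer.Frobenius
import Cfsg.Agent.Lib.Transfer.Fusion

set_option maxHeartbeats 1000000
set_option maxRecDepth 8000

set_option autoImplicit false
open Cfsg

namespace Cfsg.Agent.S4251

/-- Let P be a Sylow p-subgroup of a finite group G. Call an intersection H = P ∩ Q with a Sylow p-subgroup Q tame when N_P(H) and N_Q(H) are Sylow p-subgroups of N_G(H). If N_G(H)/C_G(H) is a p-group for every nontrivial tame intersection H = P ∩ Q, then G has a normal p-complement. -/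
theorem result {G : Type*} [Group G] [Finite G] (p : ℕ) [Fact p.Prime] (P : Sylow p G)
    (h : ∀ Q : Sylow p G, (P : Subgroup G) ⊓ (Q : Subgroup G) ≠ ⊥ → (¬ p ∣ ((P : Subgroup G) ⊓ Subgroup.normalizer (((P : Subgroup G) ⊓ (Q : Subgroup G) : Subgroup G) : Set G)).relIndex (Subgroup.normalizer (((P : Subgroup G) ⊓ (Q : Subgroup G) : Subgroup G) : Set G)) ∧ ¬ p ∣ ((Q : Subgroup G) ⊓ Subgroup.normalizer (((P : Subgroup G) ⊓ (Q : Subgroup G) : Subgroup G) : Set G)).relIndex (Subgroup.normalizer (((P : Subgroup G) ⊓ (Q : Subgroup G) : Subgroup G) : Set G))) →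
      IsPGroup p (Subgroup.normalizer (((P : Subgroup G) ⊓ (Q : Subgroup G) : Subgroup G) : Set G) ⧸
        (Subgroup.centralizer (((P : Subgroup G) ⊓ (Q : Subgroup G) : Subgroup G) : Set G)).subgroupOf
          (Subgroup.normalizer (((P : Subgroup G) ⊓ (Q : Subgroup G) : Subgroup G) : Set G)))) :
    Cfsg.HasNormalPComplement p G := by
  have hstep : ∀ (Q : Sylow p G) (x : G), Cfsg.Agent.Transfer.TameStep P Q x →
      ∃ z ∈ (P : Subgroup G), ∀ a ∈ (P : Subgroup G) ⊓ (Q : Subgroup G), x⁻¹ * a * x = z⁻¹ * a * z := by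
    intro Q x hx
    obtain ⟨hxN, hP, hQ⟩ := hx
    set D := (P : Subgroup G) ⊓ (Q : Subgroup G) with hD
    rcases eq_or_ne D ⊥ with hbot | hne
    · refine ⟨1, one_mem _, fun a ha => ?_⟩
      rw [hbot, Subgroup.mem_bot] at ha
      subst ha
      group
    set N := Subgroup.normalizer (D : Set G) with hN
    have hq := h Q hne ⟨hP, hQ⟩
    have hpN : IsPGroup p ((P : Subgroup G).subgroupOf N) := P.isPGroup'.comap_subtype
    have hiN : ¬ p ∣ ((P : Subgroup G).subgroupOf N).index := by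
      rwa [Subgroup.inf_relIndex_right] at hP
    have hmem : (⟨x, hxN⟩ : N) ∈
        ((hpN.toSylow hiN : Sylow p N) : Subgroup N) ⊔ Cfsg.pResidual p N := by
      rw [Cfsg.Agent.Transfer.sylow_sup_pResidual]; exact Subgroup.mem_top _
    rw [sup_comm] at hmem
    obtain ⟨c, hc, t, ht, hct⟩ := Subgroup.mem_sup_of_normal_left.1 hmem
    have hle : Cfsg.pResidual p N ≤ (Subgroup.centralizer (D : Set G)).subgroupOf N := by
      rw [Cfsg.pResidual, Subgroup.closure_le]
      intro g hg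
      obtain ⟨k, hk⟩ := IsPGroup.iff_orderOf.1 hq (g : N ⧸ (Subgroup.centralizer (D : Set G)).subgroupOf N)
      have h1 : (orderOf g).Coprime (p ^ k) := (show (orderOf g).Coprime p from hg).pow_right k
      refine (QuotientGroup.eq_one_iff g).1 (orderOf_eq_one_iff.1 ?_)
      exact Nat.eq_one_of_dvd_coprimes h1 (orderOf_map_dvd (QuotientGroup.mk' _) g) hk.dvd
    refine ⟨t, ht, fun a ha => ?_⟩
    have hca : a * (c : G) = c * a := (hle hc) a ha
    have hx' : (c : G) * (t : G) = x := congrArg Subtype.val hct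
    rw [← hx']
    calc ((c : G) * t)⁻¹ * a * (c * t) = (t : G)⁻¹ * ((c : G)⁻¹ * (a * c)) * t := by group
      _ = (t : G)⁻¹ * ((c : G)⁻¹ * (c * a)) * t := by rw [hca]
      _ = _ := by group
  have hchain : ∀ (A : Set G) (g : G), Cfsg.Agent.Transfer.AlperinChain P A g →
      ∃ z ∈ (P : Subgroup G), ∀ a ∈ A, g⁻¹ * a * g = z⁻¹ * a * z := by
    intro A g hch
    induction hch with
    | nil A => exact ⟨1, one_mem _, fun a _ => rfl⟩
    | @cons A Q x y hT hA _ ih =>
      obtain ⟨z₁, hz₁, h₁⟩ := hstep Q x hT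
      obtain ⟨z₂, hz₂, h₂⟩ := ih
      refine ⟨z₁ * z₂, mul_mem hz₁ hz₂, fun a ha => ?_⟩
      have e1 := h₁ a (hA ha)
      have e2 := h₂ (x⁻¹ * a * x) ⟨a, ha, rfl⟩
      calc (x * y)⁻¹ * a * (x * y) = y⁻¹ * (x⁻¹ * a * x) * y := by group
        _ = z₂⁻¹ * (x⁻¹ * a * x) * z₂ := e2
        _ = z₂⁻¹ * (z₁⁻¹ * a * z₁) * z₂ := by rw [e1]
        _ = _ := by group
  refine Cfsg.Agent.Transfer.hasNormalPComplement_of_control P fun x hx y hy ⟨g, hg⟩ => ?_
  have hch := Cfsg.Agent.Transfer.alperin P {x} g⁻¹ (Set.singleton_subset_iff.2 hx) (by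
    rw [Set.image_singleton, Set.singleton_subset_iff, inv_inv, hg]; exact hy)
  obtain ⟨z, hz, he⟩ := hchain _ _ hch
  refine ⟨z⁻¹, inv_mem hz, ?_⟩
  rw [inv_inv, ← he x rfl, inv_inv, hg]

end Cfsg.Agent.S4251
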