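import Cfsg.Statements.S4255
import Mathlib
import Cfsg.Agent.Lib.Transfer.ClassDisconnected

set_option maxHeartbeats 1000000
set_option maxRecDepth 8000

set_option autoImplicit false
open Cfsg

namespace Cfsg.Agent.S4255

open Cfsg.Agent.Transfer.ClassDisconnected in
theorem of_max {G : Type*} [Group G] [Finite G] (S : Set ℕ) (hd : ∀ g : G, Only S g ∨ Only Sᶜ g) {y : G}
    (hy : Only Sᶜ y) (hmax : ∀ g : G, cix g ≤ cix y) (hex : ∃ (p : ℕ) (g : G), p ∈ S ∧ p.Prime ∧ p ∣ cix g) :
    ∃ H : Subgroup (G ⧸ Subgroup.center G), Cfsg.IsFrobeniusComplement H ∧ IsMulCommutative H ∧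
      ∀ x ∈ Cfsg.frobeniusKernel H, ∀ y ∈ Cfsg.frobeniusKernel H, x * y = y * x := by
  obtain ⟨p, g, hpS, hp, hpg⟩ := hex
  have hgc : g ∉ Subgroup.center G := fun h => hp.ne_one (Nat.dvd_one.1 (cix_eq_one.2 h ▸ hpg))
  have hgS : Only S g := (hd g).resolve_right fun h => h p hp hpg hpS
  have hyc : y ∉ Subgroup.center G := fun h => hgc (cix_eq_one.1 (le_antisymm (cix_eq_one.2 h ▸ hmax g) (cix_pos g)))
  exact frobenius hd hy hyc hmax hgS hgc


/-- Let G be a finite group. Call a prime a vertex if it divides some conjugacy class size of G, and two distinct vertices adjacent if their product divides some class size. Suppose this graph is disconnected: the vertices split into two nonempty parts with no vertex of one part adjacent to a vertex of the other. Then G/Z(G) is a Frobenius group with abelian Frobenius complement and with a Frobenius kernel all of whose elements commute. -/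
theorem result {G : Type*} [Group G] [Finite G] (S : Set ℕ) (hS : ∃ p ∈ S, (p.Prime ∧ ∃ g : G, p ∣ (Subgroup.centralizer ({g} : Set G)).index)) (hS' : ∃ q ∉ S, (q.Prime ∧ ∃ g : G, q ∣ (Subgroup.centralizer ({g} : Set G)).index))
    (hdisc : ∀ p q : ℕ, (p.Prime ∧ ∃ g : G, p ∣ (Subgroup.centralizer ({g} : Set G)).index) → (q.Prime ∧ ∃ g : G, q ∣ (Subgroup.centralizer ({g} : Set G)).index) → p ∈ S → q ∉ S → ¬ (∃ g : G, p * q ∣ (Subgroup.centralizer ({g} : Set G)).index)) :
    ∃ H : Subgroup (G ⧸ Subgroup.center G), Cfsg.IsFrobeniusComplement H ∧ IsMulCommutative H ∧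
      ∀ x ∈ Cfsg.frobeniusKernel H, ∀ y ∈ Cfsg.frobeniusKernel H, x * y = y * x := by

  open Cfsg.Agent.Transfer.ClassDisconnected in
  · have hd : ∀ g : G, Only S g ∨ Only Sᶜ g := by
      intro g
      refine or_iff_not_imp_left.2 fun h1 r hr hrd hrS => ?_
      simp only [Only, not_forall] at h1
      obtain ⟨q, hq, hqd, hqS⟩ := h1
      exact hdisc r q ⟨hr, g, hrd⟩ ⟨hq, g, hqd⟩ hrS hqS
        ⟨g, ((Nat.coprime_primes hr hq).2 fun h => hqS (h ▸ hrS)).mul_dvd_of_dvd_of_dvd hrd hqd⟩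
    obtain ⟨p, hpS, hp, gp, hgp⟩ := hS
    obtain ⟨q, hqS, hq, gq, hgq⟩ := hS'
    obtain ⟨y, hy⟩ := Finite.exists_max (fun g : G => cix g)
    rcases hd y with h | h
    · have hd' : ∀ g : G, Only Sᶜ g ∨ Only (Sᶜ)ᶜ g := fun g => by rw [compl_compl]; exact (hd g).symm
      exact of_max Sᶜ hd' (by rwa [compl_compl]) hy ⟨q, gq, hqS, hq, hgq⟩
    · exact of_max S hd h hy ⟨p, gp, hpS, hp, hgp⟩

end Cfsg.Agent.S4255
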