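import Cfsg.Statements.S4257
import Cfsg.Agent.Lib.Transfer.ClassDisconnected

set_option autoImplicit false
open Cfsg

namespace Cfsg.Agent.S4257


open Cfsg.Agent.Transfer.ClassDisconnected

/-- If every element with class size divisible by `p` has class size primes in `S`, the class sizes
meeting neither `S` nor `T` do not occur. -/
theorem not_vertex {G : Type*} [Group G] [Finite G] {S T : Set ℕ}
    (disj : ∀ g : G, ∀ u ∈ S, ∀ v ∈ T, u.Prime → v.Prime → u ∣ cix g → v ∣ cix g → False)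
    {p : ℕ} {a : G} (hpS : ∀ g : G, p ∣ cix g → Only S g) (ha : p ∣ cix a)
    {y : G} (hy : Only T y) (hyc : y ∉ Subgroup.center G) (hmax : ∀ u : G, Only S u → cix u ≤ cix y)
    {s : ℕ} (hs : s.Prime) (hsS : s ∉ S) (hsT : s ∉ T) : ∀ g : G, ¬ s ∣ cix g := by
  haveI : Fact s.Prime := ⟨hs⟩
  have hcop : ∀ u : G, Only S u → (cix u).Coprime (cix y) := fun u hu =>
    Nat.coprime_of_dvd fun r hr h1 h2 =>
      disj u r (hu r hr h1) r (hy r hr h2) hr hr h1 h1
  -- `s`-elements whose class primes lie in `S` are central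
  have hcentral : ∀ z : G, Only S z → ∀ k : ℕ, orderOf z = s ^ k → z ∈ Subgroup.center G := by
    intro z hz k hk
    have hlt : cix z < cix y := by
      refine lt_of_le_of_ne (hmax z hz) fun he => hyc (cix_eq_one.1 ?_)
      have := hcop z hz
      rwa [he, Nat.coprime_self] at this
    have he : cix (z * y) = cix y := by
      have hd := cix_mul_dvd (hcop z hz)
      have hle := le_cix_mul (hcop z hz)
      by_cases hT : Only T (z * y)
      · refine le_antisymm (Nat.le_of_dvd (cix_pos y) ?_) hle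
        refine Nat.Coprime.dvd_of_dvd_mul_left (Nat.coprime_of_dvd fun r hr h1 h2 => ?_) hd
        exact disj z r (hz r hr h2) r (hT r hr h1) hr hr h2 h2
      · obtain ⟨v, hv, hvd, hvT⟩ : ∃ v, v.Prime ∧ v ∣ cix (z * y) ∧ v ∉ T := by
          simpa [Only] using hT
        have hvz : v ∣ cix z := by
          rcases hv.dvd_mul.1 (hvd.trans hd) with h | h
          · exact h
          · exact absurd (hy v hv h) hvT
        have hcy : (cix (z * y)).Coprime (cix y) := Nat.coprime_of_dvd fun r hr h1 h2 =>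
          disj (z * y) v (hz v hv hvz) r (hy r hr h2) hv hr hvd h1
        have := Nat.le_of_dvd (cix_pos z) (hcy.dvd_of_dvd_mul_right hd)
        omega
    have hN := card_normalClosure_dvd (hcop z hz) he
    set N := Subgroup.normalClosure (Set.range fun g : G => z⁻¹ * (g * z * g⁻¹)) with hNdef
    haveI : N.Normal := Subgroup.normalClosure_normal
    have hNC : N ≤ Subgroup.centralizer ({z} : Set G) :=
      Subgroup.relIndex_eq_one.1 (Nat.eq_one_of_dvd_coprimes (hcop z hz)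
        (Cfsg.Agent.Transfer.Kazarin.relIndex_dvd_index _ N) ((Subgroup.index_dvd_card _).trans hN))
    refine Subgroup.mem_center_iff.2 fun g => ?_
    have htN : z⁻¹ * (g * z * g⁻¹) ∈ N := Subgroup.subset_normalClosure ⟨g, rfl⟩
    have htu : Commute z (z⁻¹ * (g * z * g⁻¹)) :=
      (Subgroup.mem_centralizer_singleton_iff.1 (hNC htN)).symm
    have h1 : (z⁻¹ * (g * z * g⁻¹)) ^ orderOf z = 1 := by
      refine pow_eq_one_of_commute htu (pow_orderOf_eq_one _) ?_
      rw [conj_pow, pow_orderOf_eq_one, mul_one, mul_inv_cancel]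
    have h2 : orderOf (z⁻¹ * (g * z * g⁻¹)) ∣ cix y := (N.orderOf_dvd_natCard htN).trans hN
    obtain ⟨l, -, hl⟩ := (Nat.dvd_prime_pow hs).1 (hk ▸ orderOf_dvd_of_pow_eq_one h1)
    have hl0 : l = 0 := by
      by_contra h0
      exact hsT (hy s hs ((dvd_pow_self s h0).trans (hl ▸ h2)))
    rw [hl0, pow_zero, orderOf_eq_one_iff, inv_mul_eq_one] at hl
    exact (mul_inv_eq_iff_eq_mul.1 hl.symm)
  -- replace `a` by its `s'`-part
  obtain ⟨k, m, hm, hkm⟩ := Nat.exists_eq_pow_mul_and_not_dvd (orderOf_pos a).ne' s hs.ne_one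
  obtain ⟨l, -, hl⟩ := (Nat.dvd_prime_pow hs).1 (orderOf_dvd_of_pow_eq_one (show (a ^ m) ^ s ^ k = 1 by
    rw [← pow_mul, mul_comm, ← hkm, pow_orderOf_eq_one]))
  have ham : a ^ m ∈ Subgroup.center G := hcentral _ ((hpS a ha).pow m) l hl
  have hC : Subgroup.centralizer ({a ^ s ^ k} : Set G) ≤ Subgroup.centralizer ({a} : Set G) := by
    intro x hx
    rw [Subgroup.mem_centralizer_singleton_iff] at hx ⊢
    have h1 : Commute x (a ^ (s ^ k : ℕ)) := hx
    have h2 : Commute x (a ^ m) := Subgroup.mem_center_iff.1 ham x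
    have hco : Nat.Coprime (s ^ k) m := (hs.coprime_iff_not_dvd.2 hm).pow_left k
    have h3 : a = (a ^ (s ^ k : ℕ)) ^ (Nat.gcdA (s ^ k) m) * (a ^ m) ^ (Nat.gcdB (s ^ k) m) := by
      rw [← zpow_natCast a (s ^ k), ← zpow_natCast a m, ← zpow_mul, ← zpow_mul, ← zpow_add,
        ← Nat.gcd_eq_gcd_ab, hco.gcd_eq_one, Nat.cast_one, zpow_one]
    have h4 := (h1.zpow_right (Nat.gcdA (s ^ k) m)).mul_right (h2.zpow_right (Nat.gcdB (s ^ k) m))
    rw [← h3] at h4
    exact h4.eq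
  set a' := a ^ s ^ k with ha'
  have hcix : cix a' = cix a := congrArg Subgroup.index (le_antisymm hC (centralizer_le_pow a _))
  have hpa' : p ∣ cix a' := hcix ▸ ha
  have ho : (orderOf a').Coprime s := by
    refine (hs.coprime_iff_not_dvd.2 fun hd => hm (hd.trans ?_)).symm
    exact orderOf_dvd_of_pow_eq_one (by rw [ha', ← pow_mul, ← hkm, pow_orderOf_eq_one])
  have hsa : ¬ s ∣ cix a' := fun hd => hsS (hpS a' hpa' s hs hd)
  obtain ⟨P, hP⟩ := exists_sylow_le_centralizer hsa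
  have hPZ : (P : Subgroup G) ≤ Subgroup.center G := by
    intro z hz
    obtain ⟨j, hj⟩ := IsPGroup.iff_orderOf.1 P.2 ⟨z, hz⟩
    rw [Subgroup.orderOf_mk] at hj
    have hza : Commute z a' := Subgroup.mem_centralizer_singleton_iff.1 (hP hz)
    have hco : (orderOf z).Coprime (orderOf a') := by rw [hj]; exact (ho.symm.pow_left j)
    have key : ∀ u v : G, Commute u v → (orderOf u).Coprime (orderOf v) →
        Subgroup.centralizer ({u * v} : Set G) ≤ Subgroup.centralizer ({u} : Set G) := by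
      intro u v huv hc
      obtain ⟨n, hn⟩ := Nat.chineseRemainder hc 1 0
      have hp : (u * v) ^ n = u := by
        rw [huv.mul_pow, (pow_eq_pow_iff_modEq.2 hn.1 : u ^ n = u ^ 1),
          (pow_eq_pow_iff_modEq.2 hn.2 : v ^ n = v ^ 0), pow_one, pow_zero, mul_one]
      have := centralizer_le_pow (u * v) n
      rwa [hp] at this
    have h1 : p ∣ cix (z * a') := hpa'.trans (Subgroup.index_dvd_of_le (by
      rw [hza.eq]; exact key a' z hza.symm hco.symm))
    exact hcentral z (fun r hr hd => hpS _ h1 r hr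
      (hd.trans (Subgroup.index_dvd_of_le (key z a' hza hco)))) j hj
  intro g hg
  refine P.not_dvd_index (hg.trans (Subgroup.index_dvd_of_le fun x hx => ?_))
  exact Subgroup.mem_centralizer_singleton_iff.2 (Subgroup.mem_center_iff.1 (hPZ hx) g).symm

/-- Let G be a finite group. Call a prime a vertex if it divides some conjugacy class size of G, and two distinct vertices adjacent if their product divides some class size. If this graph is connected, then its diameter is at most 3: any two distinct vertices p and q are adjacent, or joined through one or two intermediate vertices. -/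
theorem result {G : Type*} [Group G] [Finite G]
    (hconn : ∀ S : Set ℕ, (∃ p ∈ S, (p.Prime ∧ ∃ g : G, p ∣ (Subgroup.centralizer ({g} : Set G)).index)) → (∃ q ∉ S, (q.Prime ∧ ∃ g : G, q ∣ (Subgroup.centralizer ({g} : Set G)).index)) →
      ∃ p q : ℕ, (p.Prime ∧ ∃ g : G, p ∣ (Subgroup.centralizer ({g} : Set G)).index) ∧ (q.Prime ∧ ∃ g : G, q ∣ (Subgroup.centralizer ({g} : Set G)).index) ∧ p ∈ S ∧ q ∉ S ∧ (∃ g : G, p * q ∣ (Subgroup.centralizer ({g} : Set G)).index))
    (p q : ℕ) (hp : (p.Prime ∧ ∃ g : G, p ∣ (Subgroup.centralizer ({g} : Set G)).index)) (hq : (q.Prime ∧ ∃ g : G, q ∣ (Subgroup.centralizer ({g} : Set G)).index)) (hpq : p ≠ q) :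
    (∃ g : G, p * q ∣ (Subgroup.centralizer ({g} : Set G)).index) ∨ (∃ r : ℕ, (r.Prime ∧ ∃ g : G, r ∣ (Subgroup.centralizer ({g} : Set G)).index) ∧ r ≠ p ∧ r ≠ q ∧ (∃ g : G, p * r ∣ (Subgroup.centralizer ({g} : Set G)).index) ∧ (∃ g : G, r * q ∣ (Subgroup.centralizer ({g} : Set G)).index)) ∨
      (∃ r s : ℕ, (r.Prime ∧ ∃ g : G, r ∣ (Subgroup.centralizer ({g} : Set G)).index) ∧ (s.Prime ∧ ∃ g : G, s ∣ (Subgroup.centralizer ({g} : Set G)).index) ∧ r ≠ p ∧ s ≠ q ∧ r ≠ s ∧ r ≠ q ∧ s ≠ p ∧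
        (∃ g : G, p * r ∣ (Subgroup.centralizer ({g} : Set G)).index) ∧ (∃ g : G, r * s ∣ (Subgroup.centralizer ({g} : Set G)).index) ∧ (∃ g : G, s * q ∣ (Subgroup.centralizer ({g} : Set G)).index)) := by
  classical
  by_contra hcon
  push Not at hcon
  obtain ⟨n1, n2, n3⟩ := hcon
  let N : ℕ → Set ℕ := fun w => {u | u = w ∨ ∃ g : G, w ∣ cix g ∧ u ∣ cix g}
  have hmul : ∀ {u v : ℕ}, u.Prime → v.Prime → u ≠ v → ∀ {g : G}, u ∣ cix g → v ∣ cix g → u * v ∣ cix g :=
    fun hu hv hne _ h1 h2 => ((Nat.coprime_primes hu hv).2 hne).mul_dvd_of_dvd_of_dvd h1 h2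
  have nq : ∀ g : G, p ∣ cix g → q ∣ cix g → False := fun g h1 h2 => n1 g (hmul hp.1 hq.1 hpq h1 h2)
  have disj : ∀ g : G, ∀ u ∈ N p, ∀ v ∈ N q, u.Prime → v.Prime → u ∣ cix g → v ∣ cix g → False := by
    intro g u hu v hv hup hvp hug hvg
    have e : ∀ w w' : ℕ, (∃ x : G, w ∣ cix x ∧ w' ∣ cix x) → w.Prime → w'.Prime → w ≠ w' →
        ∃ x : G, w * w' ∣ (Subgroup.centralizer ({x} : Set G)).index :=
      fun w w' ⟨x, h1, h2⟩ hw hw' hne => ⟨x, hmul hw hw' hne h1 h2⟩
    have vert : ∀ {w : ℕ} {x : G}, w.Prime → w ∣ cix x →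
        w.Prime ∧ ∃ x : G, w ∣ (Subgroup.centralizer ({x} : Set G)).index := fun hw hwx => ⟨hw, _, hwx⟩
    by_cases hup' : u = p
    · subst hup'
      by_cases hvq' : v = q
      · subst hvq'; exact nq g hug hvg
      obtain ⟨x, hqx, hvx⟩ := hv.resolve_left hvq'
      by_cases hvp' : v = u
      · subst hvp'; exact nq x hvx hqx
      obtain ⟨y, hy⟩ := e u v ⟨g, hug, hvg⟩ hup hvp (Ne.symm hvp')
      obtain ⟨z, hz⟩ := e v q ⟨x, hvx, hqx⟩ hvp hq.1 hvq'
      exact n2 v (vert hvp hvg) hvp' hvq' ⟨y, hy⟩ z hz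
    obtain ⟨x, hpx, hux⟩ := hu.resolve_left hup'
    by_cases huq : u = q
    · subst huq; exact nq x hpx hux
    by_cases hvq' : v = q
    · subst hvq'
      obtain ⟨y, hy⟩ := e p u ⟨x, hpx, hux⟩ hp.1 hup (Ne.symm hup')
      obtain ⟨z, hz⟩ := e u v ⟨g, hug, hvg⟩ hup hvp huq
      exact n2 u (vert hup hug) hup' huq ⟨y, hy⟩ z hz
    obtain ⟨x', hqx, hvx⟩ := hv.resolve_left hvq'
    by_cases hvp' : v = p
    · subst hvp'; exact nq x' hvx hqx
    by_cases huv : u = v
    · subst huv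
      obtain ⟨y, hy⟩ := e p u ⟨x, hpx, hux⟩ hp.1 hup (Ne.symm hup')
      obtain ⟨z, hz⟩ := e u q ⟨x', hvx, hqx⟩ hup hq.1 huq
      exact n2 u (vert hup hug) hup' huq ⟨y, hy⟩ z hz
    obtain ⟨y, hy⟩ := e p u ⟨x, hpx, hux⟩ hp.1 hup (Ne.symm hup')
    obtain ⟨w, hw⟩ := e u v ⟨g, hug, hvg⟩ hup hvp huv
    obtain ⟨z, hz⟩ := e v q ⟨x', hvx, hqx⟩ hvp hq.1 hvq'
    exact n3 u v (vert hup hug) (vert hvp hvg) hup' hvq' huv huq hvp' ⟨y, hy⟩ ⟨w, hw⟩ z hz
  obtain ⟨a, ha⟩ := hp.2
  obtain ⟨b, hb⟩ := hq.2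
  have hqS : q ∉ N p := by
    rintro (h | ⟨g, h1, h2⟩)
    · exact hpq h.symm
    · exact nq g h1 h2
  obtain ⟨u, s, hu, hs, huS, hsS, g, hg⟩ := hconn (N p) ⟨p, Or.inl rfl, hp⟩ ⟨q, hqS, hq⟩
  have hug : u ∣ cix g := (dvd_mul_right u s).trans hg
  have hsg : s ∣ cix g := (dvd_mul_left s u).trans hg
  have hsT : s ∉ N q := fun h => disj g u huS s h hu.1 hs.1 hug hsg
  have hpS : ∀ x : G, p ∣ cix x → Only (N p) x := fun x hx r _ hr => Or.inr ⟨x, hx, hr⟩
  have hqT : ∀ x : G, q ∣ cix x → Only (N q) x := fun x hx r _ hr => Or.inr ⟨x, hx, hr⟩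
  obtain ⟨y, hy, hmax⟩ := Set.exists_max_image {x : G | Only (N p) x ∨ Only (N q) x} cix
    (Set.toFinite _) ⟨a, Or.inl (hpS a ha)⟩
  have hyc : y ∉ Subgroup.center G := by
    intro hc
    have h1 := hmax a (Or.inl (hpS a ha))
    rw [cix_eq_one.2 hc] at h1
    have h2 := Nat.le_of_dvd (cix_pos a) ha
    have h3 := hp.1.two_le
    omega
  rcases hy with hy | hy
  · exact not_vertex (fun x w hw w' hw' h1 h2 h3 h4 => disj x w' hw' w hw h2 h1 h4 h3) hqT hb hy hyc
      (fun x hx => hmax x (Or.inr hx)) hs.1 hsT hsS g hsg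
  · exact not_vertex disj hpS ha hy hyc (fun x hx => hmax x (Or.inl hx)) hs.1 hsS hsT g hsg

end Cfsg.Agent.S4257
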