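import Cfsg.Statements.S4261
import Cfsg.Agent.S0048
import Cfsg.Agent.Lib.Transfer.Elements

set_option maxHeartbeats 1000000
set_option maxRecDepth 8000

set_option autoImplicit false
open Cfsg

namespace Cfsg.Agent.S4261

/-- Let M be a maximal subgroup of a finite solvable group G such that x^[G : M] lies in M for every x in G. Then M is normal in G. -/
theorem result {G : Type*} [Group G] [Finite G] (hG : Group.IsSolvable G) (M : Subgroup G) (hM : IsCoatom M)
    (hexp : ∀ x : G, x ^ M.index ∈ M) : M.Normal := by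
  haveI := hG
  obtain ⟨p, k, hp, hk, hpk⟩ := Agent.S0048.result M hM
  haveI : Fact p.Prime := ⟨hp.nat_prime⟩
  set S := {x : G | ¬ p ∣ orderOf x}
  set N := Subgroup.closure S
  have hNn : N.Normal := by
    rw [← Subgroup.normalizer_eq_top_iff, eq_top_iff]
    intro g _
    refine Subgroup.mem_normalizer_fintype fun x hx => ?_
    have hmap : N.map (MulAut.conj g).toMonoidHom ≤ N := by
      rw [MonoidHom.map_closure, Subgroup.closure_le]
      rintro _ ⟨y, hy, rfl⟩
      refine Subgroup.subset_closure ?_
      show ¬ p ∣ orderOf (MulAut.conj g y)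
      rw [MulEquiv.orderOf_eq]
      exact hy
    exact hmap ⟨x, hx, rfl⟩
  have hNM : N ≤ M := (Subgroup.closure_le _).mpr fun x hx =>
    Agent.Transfer.mem_of_pow_mem (hexp x) (by
      rw [← hpk]
      exact (hp.nat_prime.coprime_iff_not_dvd.mpr hx).symm.pow_right k)
  haveI := hNn
  have hQ : IsPGroup p (G ⧸ N) := by
    refine IsPGroup.of_card (n := (Nat.card (G ⧸ N)).primeFactorsList.length)
      (Nat.eq_prime_pow_of_unique_prime_dvd Nat.card_pos.ne' fun {r} hr hrd => ?_)
    by_contra hne
    haveI := Fact.mk hr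
    obtain ⟨q, hq⟩ := exists_prime_orderOf_dvd_card' (G := G ⧸ N) r hrd
    obtain ⟨g, rfl⟩ := QuotientGroup.mk'_surjective N q
    set a := orderOf g
    have ha : a ≠ 0 := (orderOf_pos g).ne'
    -- the `p'`-part of `g` lies in `N`
    have hmem : g ^ (p ^ a.factorization p) ∈ N := by
      refine Subgroup.subset_closure ?_
      show ¬ p ∣ orderOf (g ^ (p ^ a.factorization p))
      rw [orderOf_pow_of_dvd (pow_ne_zero _ hp.ne_zero) (Nat.ordProj_dvd a p)]
      exact Nat.not_dvd_ordCompl hp.nat_prime ha
    have h1 : (QuotientGroup.mk' N g) ^ (p ^ a.factorization p) = 1 := by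
      rw [← map_pow]; exact (QuotientGroup.eq_one_iff _).mpr hmem
    have h2 := orderOf_dvd_of_pow_eq_one h1
    rw [hq] at h2
    exact hne ((Nat.prime_dvd_prime_iff_eq hr hp.nat_prime).mp (hr.dvd_of_dvd_pow h2))
  haveI := hQ.isNilpotent
  have hcomap : (M.map (QuotientGroup.mk' N)).comap (QuotientGroup.mk' N) = M := by
    rw [Subgroup.comap_map_eq, QuotientGroup.ker_mk', sup_eq_left.mpr hNM]
  have hco : IsCoatom (M.map (QuotientGroup.mk' N)) := by
    refine ⟨fun e => hM.1 ?_, fun K hK => ?_⟩
    · rw [← hcomap, e, Subgroup.comap_top]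
    · have : M < K.comap (QuotientGroup.mk' N) := by
        rw [← hcomap]
        exact (Subgroup.comap_lt_comap_of_surjective (QuotientGroup.mk'_surjective N)).mpr hK
      rw [← Subgroup.map_comap_eq_self_of_surjective (QuotientGroup.mk'_surjective N) K, hM.2 _ this,
        Subgroup.map_top_of_surjective _ (QuotientGroup.mk'_surjective N)]
  haveI := Subgroup.NormalizerCondition.normal_of_coatom _ Group.normalizerCondition_of_isNilpotent hco
  rw [← hcomap]
  infer_instance

end Cfsg.Agent.S4261
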