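import Cfsg.Statements.S4262
import Cfsg.Agent.Lib.Grp.FrobeniusTheorem
import Cfsg.Agent.Lib.Grp.FpfPrime
import Cfsg.Agent.Lib.Grp.ThompsonComplement
import Cfsg.Agent.Lib.Transfer.Elements

set_option maxHeartbeats 1000000
set_option maxRecDepth 8000

set_option autoImplicit false
open Cfsg
open scoped Pointwise

namespace Cfsg.Agent.S4262

universe u

theorem not_nontrivial_solvable_free {G : Type u} [Group G] [Finite G] [Nontrivial G]
    (h : ∀ g : G, g ∉ Subgroup.center G → IsCoatom (Subgroup.centralizer ({g} : Set G)))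
    (hns : ∀ N : Subgroup G, N.Normal → Group.IsSolvable N → N = ⊥) : False := by
  haveI hZs : Group.IsSolvable (Subgroup.center G) :=
    Group.isSolvable_of_comm fun a b => Subtype.ext (Subgroup.mem_center_iff.mp b.2 a)
  have hZ : Subgroup.center G = ⊥ := hns _ inferInstance hZs
  have hM : ∀ g : G, g ≠ 1 → IsCoatom (Subgroup.centralizer ({g} : Set G)) := fun g hg =>
    h g (fun hz => hg (by rwa [hZ, Subgroup.mem_bot] at hz))
  have mem : ∀ a b : G, a ∈ Subgroup.centralizer {b} ↔ a * b = b * a := fun a b =>
    Subgroup.mem_centralizer_singleton_iff.trans ⟨fun h => h, fun h => h⟩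
  have hpow : ∀ (y : G) (k : ℕ), y ^ k ≠ 1 →
      Subgroup.centralizer ({y ^ k} : Set G) = Subgroup.centralizer ({y} : Set G) := by
    intro y k hk
    have hy : y ≠ 1 := fun e => hk (by rw [e, one_pow])
    have hle : Subgroup.centralizer ({y} : Set G) ≤ Subgroup.centralizer ({y ^ k} : Set G) :=
      fun a ha => (mem _ _).mpr ((Commute.pow_right ((mem _ _).mp ha) k).eq)
    rcases (hM y hy).le_iff.mp hle with e | e
    · exact absurd e (hM _ hk).1
    · exact e
  have hcop : ∀ a b : G, a * b = b * a → (orderOf a).Coprime (orderOf b) → a ≠ 1 → b ≠ 1 →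
      Subgroup.centralizer ({a} : Set G) = Subgroup.centralizer ({b} : Set G) := by
    intro a b hab hc ha hb
    have key : ∀ a b : G, a * b = b * a → (orderOf a).Coprime (orderOf b) → a ≠ 1 →
        Subgroup.centralizer ({a} : Set G) = Subgroup.centralizer ({a * b} : Set G) := by
      intro a b hab hc ha
      obtain ⟨m, hm⟩ := exists_pow_eq_self_of_coprime hc.symm
      have : (a * b) ^ (orderOf b * m) = a := by
        rw [pow_mul, (Commute.mul_pow hab), pow_orderOf_eq_one, mul_one, hm]
      rw [← hpow (a * b) (orderOf b * m) (by rwa [this]), this]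
    rw [key a b hab hc ha, hab, ← key b a hab.symm hc.symm hb]
  -- an odd prime divisor
  obtain ⟨p, hp, hp2, hpd⟩ : ∃ p, p.Prime ∧ p ≠ 2 ∧ p ∣ Nat.card G := by
    by_contra hno
    push Not at hno
    have h2 : IsPGroup 2 G := IsPGroup.of_card (n := (Nat.card G).primeFactorsList.length)
      (Nat.eq_prime_pow_of_unique_prime_dvd Nat.card_pos.ne' fun {d} hd hdG => by
        by_contra hne
        exact hno d hd hne hdG)
    haveI : Fact (Nat.Prime 2) := ⟨Nat.prime_two⟩
    haveI := h2.isNilpotent
    haveI : Group.IsSolvable (⊤ : Subgroup G) := inferInstance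
    exact top_ne_bot (hns ⊤ inferInstance inferInstance)
  haveI := Fact.mk hp
  obtain ⟨P⟩ : Nonempty (Sylow p G) := inferInstance
  have hP1 : (P : Subgroup G) ≠ ⊥ := P.ne_bot_of_dvd_card hpd
  haveI : Nontrivial (P : Subgroup G) := (Subgroup.nontrivial_iff_ne_bot _).mpr hP1
  haveI := P.isPGroup'.center_nontrivial
  obtain ⟨k, hk, hcard⟩ :=
    ((P.isPGroup'.to_subgroup (Subgroup.center (P : Subgroup G))).nontrivial_iff_card).mp inferInstance
  obtain ⟨z, hz⟩ := exists_prime_orderOf_dvd_card' (G := Subgroup.center (P : Subgroup G)) p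
    (hcard ▸ dvd_pow_self p (Nat.pos_iff_ne_zero.mp hk))
  set x : G := ((z : (P : Subgroup G)) : G) with hx
  have hxo : orderOf x = p := by rw [hx, Subgroup.orderOf_coe, Subgroup.orderOf_coe, hz]
  have hx1 : x ≠ 1 := fun e => by rw [e, orderOf_one] at hxo; exact hp.ne_one hxo.symm
  set M := Subgroup.centralizer ({x} : Set G)
  have hPM : (P : Subgroup G) ≤ M := fun y hy => (mem _ _).mpr
    (congrArg Subtype.val (Subgroup.mem_center_iff.mp z.2 ⟨y, hy⟩))
  -- central elements of order prime to `p`
  have hp' : ∀ y ∈ M, (orderOf y).Coprime p → y ≠ 1 → Subgroup.centralizer ({y} : Set G) = M :=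
    fun y hy hc hy1 => hcop y x ((mem _ _).mp hy) (by rwa [hxo]) hy1 hx1
  by_cases hab : ∀ a ∈ M, ∀ b ∈ M, a * b = b * a
  · -- abelian maximal centralizer: Frobenius complement
    have hCy : ∀ y ∈ M, y ≠ 1 → Subgroup.centralizer ({y} : Set G) = M := by
      intro y hy hy1
      have hle : M ≤ Subgroup.centralizer ({y} : Set G) := fun a ha => (mem _ _).mpr (hab a ha y hy)
      exact ((hM x hx1).le_iff.mp hle).resolve_left (hM y hy1).1
    have hnorm : ∀ g : G, (∀ a, a ∈ M ↔ g * a * g⁻¹ ∈ M) → g ∈ M := by
      intro g hg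
      have hgN : g ∈ Subgroup.normalizer (M : Set G) := Subgroup.mem_normalizer_iff.mpr hg
      rcases (hM x hx1).le_iff.mp (Subgroup.le_normalizer : M ≤ Subgroup.normalizer (M : Set G)) with e | e
      · haveI : M.Normal := Subgroup.normalizer_eq_top_iff.mp e
        have h0 := hns M inferInstance
          (Group.isSolvable_of_comm fun a b => Subtype.ext (hab a a.2 b b.2))
        have hxM : x ∈ M := (mem x x).mpr rfl
        rw [h0, Subgroup.mem_bot] at hxM
        exact absurd hxM hx1
      · rwa [e] at hgN
    have hF : Cfsg.IsFrobeniusComplement M := by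
      refine ⟨fun e => hx1 ?_, (hM x hx1).1, fun g hg => ?_⟩
      · have hxM : x ∈ M := (mem x x).mpr rfl
        rw [e, Subgroup.mem_bot] at hxM
        exact hxM
      · refine (Subgroup.eq_bot_iff_forall _).mpr fun y hyy => ?_
        obtain ⟨hy, hy'⟩ := Subgroup.mem_inf.mp hyy
        by_contra hy1
        apply hg
        refine hnorm g fun a => ?_
        have hle : MulAut.conj g • M ≤ M := by
          intro b hb
          rw [Subgroup.mem_pointwise_smul_iff_inv_smul_mem, ← map_inv, MulAut.smul_def,
            MulAut.conj_apply, inv_inv] at hb hy'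
          rw [← hCy y hy hy1]
          refine (mem _ _).mpr ?_
          have h' := hab _ hb _ hy'
          calc b * y = g * ((g⁻¹ * b * g) * (g⁻¹ * y * g)) * g⁻¹ := by group
            _ = y * b := by rw [h']; group
        have heq : MulAut.conj g • M = M := Subgroup.eq_of_le_of_card_ge hle (by
          rw [← Agent.Grp.map_conj_eq_smul, Subgroup.card_map_of_injective (MulAut.conj g).injective])
        constructor
        · intro ha
          rw [← heq, Subgroup.mem_pointwise_smul_iff_inv_smul_mem, ← map_inv, MulAut.smul_def,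
            MulAut.conj_apply, inv_inv]
          simpa [mul_assoc] using ha
        · intro ha
          rw [← heq, Subgroup.mem_pointwise_smul_iff_inv_smul_mem, ← map_inv, MulAut.smul_def,
            MulAut.conj_apply, inv_inv] at ha
          simpa [mul_assoc] using ha
    letI := Fintype.ofFinite G
    obtain ⟨N, hN, hNn, hNc, hNnil⟩ := Agent.Grp.frobenius_kernel_spec hF
    haveI := hNnil
    exact Agent.Frob.kernel_ne_bot hF hN (hns N hNn inferInstance)
  · -- `M` is a `p`-group
    have hMp : IsPGroup p M := by
      by_contra hnp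
      obtain ⟨r, hr, hrp, hrd⟩ : ∃ r, r.Prime ∧ r ≠ p ∧ r ∣ Nat.card M := by
        by_contra hno
        push Not at hno
        exact hnp (IsPGroup.of_card (n := (Nat.card M).primeFactorsList.length)
          (Nat.eq_prime_pow_of_unique_prime_dvd Nat.card_pos.ne' fun {d} hd hdM => by
            by_contra hne
            exact hno d hd hne hdM))
      haveI := Fact.mk hr
      obtain ⟨y, hy⟩ := exists_prime_orderOf_dvd_card' (G := M) r hrd
      have hyo : orderOf (y : G) = r := by rw [Subgroup.orderOf_coe, hy]
      have hrc : r.Coprime p := (Nat.coprime_primes hr hp).mpr hrp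
      have hy1 : (y : G) ≠ 1 := fun e => by rw [e, orderOf_one] at hyo; exact hr.ne_one hyo.symm
      have hCy := hp' y y.2 (hyo ▸ hrc) hy1
      refine hab fun a ha b hb => ?_
      -- every element of `M` is central in `M`
      have hcen : b ∈ M ⊓ Subgroup.centralizer (M : Set G) := by
        refine Agent.Transfer.prime_parts b _ fun s hs c hc hcb => ?_
        obtain ⟨i, hi⟩ := hc
        have hcM : c ∈ M := Subgroup.zpowers_le.mpr hb hcb
        refine ⟨hcM, Subgroup.mem_centralizer_iff.mpr fun a ha => ?_⟩
        by_cases hc1 : c = 1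
        · simp [hc1]
        have hCc : Subgroup.centralizer ({c} : Set G) = M := by
          by_cases hsp : s = p
          · rw [hsp] at hi
            rw [← hCy]
            have hcC : c ∈ Subgroup.centralizer ({(y : G)} : Set G) := hCy.symm ▸ hcM
            exact hcop c y ((mem _ _).mp hcC)
              (by rw [hi, hyo]; exact hrc.symm.pow_left i) hc1 hy1
          · exact hp' c hcM (by rw [hi]; exact ((Nat.coprime_primes hs hp).mpr hsp).pow_left i) hc1
        exact (mem _ _).mp (hCc.symm ▸ ha : a ∈ Subgroup.centralizer ({c} : Set G))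
      exact Subgroup.mem_centralizer_iff.mp hcen.2 a ha
    have hMP : M = P := P.is_maximal' hMp hPM
    have hcoP : IsCoatom (P : Subgroup G) := hMP ▸ hM x hx1
    have hNW : ∀ W : Subgroup G, W ≤ (P : Subgroup G) → W ≠ ⊥ →
        (P : Subgroup G) ≤ Subgroup.normalizer (W : Set G) →
        Cfsg.HasNormalPComplement p ↥(Subgroup.normalizer (W : Set G)) := by
      intro W hWP hW hPW
      rcases hcoP.le_iff.mp hPW with e | e
      · haveI := (P.isPGroup'.to_le hWP).isNilpotent
        exact absurd (hns W (Subgroup.normalizer_eq_top_iff.mp e) inferInstance) hW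
      · rw [e]
        haveI := P.isPGroup'.isNilpotent
        exact Agent.Grp.hasNormalPComplement_of_nilpotent inferInstance
    have hfun : ∀ W : ∀ (Q : Type u) [Group Q], Subgroup Q, Cfsg.IsCharPFunctor.{u} p W →
        Cfsg.HasNormalPComplement p ↥(Subgroup.normalizer
          (Cfsg.inducedFunctor W (P : Subgroup G) : Set G)) := by
      intro W hW
      refine hNW _ (Subgroup.map_subtype_le _) ?_ (Subgroup.le_normalizer.trans
        (Agent.Grp.le_normalizer_inducedFunctor hW P.isPGroup'))
      rw [Cfsg.inducedFunctor, Ne, Subgroup.map_eq_bot_iff_of_injective _ (Subgroup.subtype_injective _)]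
      exact hW.1 ↥(P : Subgroup G) P.isPGroup' inferInstance
    obtain ⟨Q, K, hKn, hKQ⟩ := Agent.Grp.hasNormalPComplement_of_thompson hp2 P
      (hfun _ Agent.Grp.omegaCenter_isCharPFunctor) (hfun _ Agent.Grp.thompsonA_isCharPFunctor)
    have hxK : K ⊓ M = ⊥ := by
      refine Subgroup.inf_eq_bot_of_coprime ?_
      rw [← hKQ.index_eq_card]
      obtain ⟨i, hi⟩ := IsPGroup.iff_card.mp hMp
      rw [hi]
      exact (hp.coprime_iff_not_dvd.mpr Q.not_dvd_index).symm.pow_right i
    have hKnil : Group.IsNilpotent K := by
      refine Agent.Grp.isNilpotent_of_fpf (p := p) (b := x) (by rw [← hxo, pow_orderOf_eq_one]) ?_ hxK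
      rw [Subgroup.normalizer_eq_top_iff.mpr hKn]; exact Subgroup.mem_top x
    haveI := hKnil
    have hK0 := hns K hKn inferInstance
    have hQtop : (Q : Subgroup G) = ⊤ := by
      rw [hK0] at hKQ
      exact Subgroup.isComplement'_bot_left.mp hKQ
    haveI : Group.IsNilpotent (⊤ : Subgroup G) := hQtop ▸ Q.isPGroup'.isNilpotent
    exact top_ne_bot (hns ⊤ inferInstance inferInstance)

theorem aux : ∀ (n : ℕ) (G : Type u) [Group G] [Finite G], Nat.card G = n →
    (∀ g : G, g ∉ Subgroup.center G → IsCoatom (Subgroup.centralizer ({g} : Set G))) →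
    Group.IsSolvable G := by
  intro n
  induction n using Nat.strong_induction_on with
  | _ n ih =>
  intro G _ _ hn h
  rcases subsingleton_or_nontrivial G with hs | hnt
  · infer_instance
  by_cases hN : ∃ N : Subgroup G, N.Normal ∧ Group.IsSolvable N ∧ N ≠ ⊥
  · obtain ⟨N, hNn, hNs, hN1⟩ := hN
    haveI := hNn
    haveI := hNs
    have hlt : Nat.card (G ⧸ N) < n := by
      rw [← hn, ← Subgroup.card_mul_index N, Subgroup.index]
      refine lt_mul_of_one_lt_left Nat.card_pos ?_
      exact N.one_lt_card_iff_ne_bot.mpr hN1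
    haveI : Group.IsSolvable (G ⧸ N) := by
      refine ih _ hlt (G ⧸ N) rfl fun q hq => ?_
      obtain ⟨g, rfl⟩ := QuotientGroup.mk'_surjective N q
      set f := QuotientGroup.mk' N
      have hg : g ∉ Subgroup.center G := fun hz => hq (Subgroup.mem_center_iff.mpr fun a => by
        obtain ⟨b, rfl⟩ := QuotientGroup.mk'_surjective N a
        rw [← map_mul, ← map_mul, Subgroup.mem_center_iff.mp hz b])
      set D := (Subgroup.centralizer ({f g} : Set (G ⧸ N))).comap f
      have hle : Subgroup.centralizer ({g} : Set G) ≤ D := fun a ha => by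
        change f a ∈ Subgroup.centralizer ({f g} : Set (G ⧸ N))
        rw [Subgroup.mem_centralizer_singleton_iff] at ha ⊢
        rw [← map_mul, ← map_mul, ha]
      have hD : D ≠ ⊤ := fun e => hq (Subgroup.mem_center_iff.mpr fun a => by
        obtain ⟨b, rfl⟩ := QuotientGroup.mk'_surjective N a
        have : b ∈ D := e ▸ Subgroup.mem_top b
        exact Subgroup.mem_centralizer_singleton_iff.mp this)
      have hDc : IsCoatom D := by
        rcases (h g hg).le_iff.mp hle with e | e
        · exact absurd e hD
        · exact e ▸ h g hg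
      refine ⟨fun e => hD (by simp [D, e]), fun K hK => ?_⟩
      have : D < K.comap f := Subgroup.comap_lt_comap_of_surjective (QuotientGroup.mk'_surjective N) |>.mpr hK
      have h1 := hDc.2 _ this
      rw [← Subgroup.map_comap_eq_self_of_surjective (QuotientGroup.mk'_surjective N) K, h1,
        Subgroup.map_top_of_surjective _ (QuotientGroup.mk'_surjective N)]
    exact Group.isSolvable_of_ker_le_range N.subtype (QuotientGroup.mk' N)
      (by rw [QuotientGroup.ker_mk', Subgroup.range_subtype])
  · exact (not_nontrivial_solvable_free h fun N hNn hNs => by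
      by_contra hN1
      exact hN ⟨N, hNn, hNs, hN1⟩).elim


/-- Let G be a finite group in which the centralizer of every non-central element is a maximal subgroup of G. Then G is solvable. -/
theorem result {G : Type*} [Group G] [Finite G]
    (h : ∀ g : G, g ∉ Subgroup.center G → IsCoatom (Subgroup.centralizer ({g} : Set G))) :
    Group.IsSolvable G := by
  exact aux _ G rfl h

end Cfsg.Agent.S4262
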