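import Cfsg.Statements.S4263
import Mathlib
import Cfsg.Agent.Lib.Transfer.Cores
import Cfsg.Agent.Lib.Transfer.Elements
-- import your own Cfsg.Agent.* helpers here

set_option autoImplicit false
set_option linter.style.haveILetI false
open Cfsg Cfsg.Agent.Transfer

namespace Cfsg.Agent.S4263

theorem pow_index_mem_of_isNilpotent {N : Type*} [Group N] [Finite N] [Group.IsNilpotent N] :
    ∀ (n : ℕ) (K : Subgroup N), K.index ≤ n → ∀ y : N, y ^ K.index ∈ K
  | 0, K, h, y => absurd (Nat.le_zero.1 h) Subgroup.index_ne_zero_of_finite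
  | n + 1, K, h, y => by
    by_cases hK : K = ⊤
    · simp [hK]
    set L := Subgroup.normalizer (K : Set N) with hL
    have hlt : K < L := Group.normalizerCondition_of_isNilpotent K (Ne.lt_top hK)
    have hi : L.index < K.index := Subgroup.index_strictAnti hlt
    have hy := pow_index_mem_of_isNilpotent n L (by omega) y
    have hk := Subgroup.pow_index_mem (K.subgroupOf L) ⟨_, hy⟩
    rw [← Subgroup.relIndex_mul_index hlt.le, mul_comm, pow_mul]
    exact hk

theorem relIndex_dvd_index {G : Type*} [Group G] [Finite G] (H F : Subgroup G) [F.Normal] :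
    H.relIndex F ∣ H.index := by
  have h1 : H.relIndex F = H.relIndex (H ⊔ F) := by
    have hF : F.relIndex (H ⊔ F) = F.relIndex H := Subgroup.relIndex_sup_right H F
    have e1 : Nat.card (F ⊔ H : Subgroup G) = Nat.card F * F.relIndex (H ⊔ F) := by
      rw [sup_comm, card_mul_relIndex le_sup_right]
    have e2 : Nat.card H = Nat.card (H ⊓ F : Subgroup G) * F.relIndex H := by
      rw [← Subgroup.inf_relIndex_left H F, card_mul_relIndex inf_le_left]
    have e3 : Nat.card F = Nat.card (H ⊓ F : Subgroup G) * H.relIndex F := by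
      rw [← Subgroup.inf_relIndex_right H F, card_mul_relIndex inf_le_right]
    have e4 : Nat.card (F ⊔ H : Subgroup G) = Nat.card H * H.relIndex (H ⊔ F) := by
      rw [sup_comm, card_mul_relIndex le_sup_left]
    have : Nat.card H * H.relIndex F = Nat.card H * H.relIndex (H ⊔ F) := by
      rw [← e4, e1, hF, e2, e3]; ring
    exact Nat.eq_of_mul_eq_mul_left Nat.card_pos this
  rw [h1]
  exact Subgroup.relIndex_dvd_index_of_le le_sup_left

/-- Let G be a finite group. An element x lies in the Fitting subgroup F(G) if and only if, for every subgroup H of G, the power x^[G : H] lies in H. -/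
theorem result {G : Type*} [Group G] [Finite G] (x : G) :
    x ∈ Cfsg.fittingSubgroup G ↔ ∀ H : Subgroup G, x ^ H.index ∈ H := by
  haveI := fittingSubgroup_normal' G
  haveI := fittingSubgroup_isNilpotent (G := G)
  constructor
  · intro hx H
    obtain ⟨k, hk⟩ := relIndex_dvd_index H (fittingSubgroup G)
    rw [hk, pow_mul]
    exact H.pow_mem (pow_index_mem_of_isNilpotent _ (H.subgroupOf (fittingSubgroup G)) le_rfl
      ⟨x, hx⟩) k
  · intro h
    refine prime_parts x (fittingSubgroup G) (fun p hp y hy hyx => ?_)
    haveI := Fact.mk hp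
    refine pCore_le_fittingSubgroup p (mem_pCore_iff.2 fun P => ?_)
    obtain ⟨k, hk⟩ := hy
    obtain ⟨j, rfl⟩ := hyx
    have h2 : (x ^ j) ^ (P : Subgroup G).index ∈ (P : Subgroup G) := by
      rw [← zpow_natCast, ← zpow_mul, mul_comm, zpow_mul, zpow_natCast]
      exact zpow_mem (h _) _
    refine mem_of_pow_mem h2 ?_
    rw [hk]
    exact Nat.Coprime.pow_left k (hp.coprime_iff_not_dvd.2 P.not_dvd_index)

end Cfsg.Agent.S4263
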