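import Cfsg.Statements.S4264
import Cfsg.Agent.Lib.Grp.PermClasses.Count
-- import your own Cfsg.Agent.* helpers here

set_option autoImplicit false
open Cfsg

namespace Cfsg.Agent.S4264

/-- Let G be a subgroup of the symmetric group of degree d ≥ 1. Then G has at most 5^{d−1} conjugacy classes. -/
theorem result (d : ℕ) (hd : 1 ≤ d) (G : Subgroup (Equiv.Perm (Fin d))) : Nat.card (ConjClasses ↥G) ≤ 5 ^ (d - 1) := by
  rcases lt_or_ge d 4 with h | h
  · have h1 : Nat.card (ConjClasses ↥G) ≤ Nat.card (Equiv.Perm (Fin d)) :=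
      (Nat.card_le_card_of_surjective _ ConjClasses.mk_surjective).trans
        (Nat.card_le_card_of_injective _ G.subtype_injective)
    rw [Nat.card_perm, Nat.card_fin] at h1
    refine h1.trans ?_
    interval_cases d <;> decide
  · have h1 := Cfsg.Agent.Grp.PermClasses.card_conjClasses_le ↥G (Fin d) G.subtype G.subtype_injective
    rw [Nat.card_fin] at h1
    refine h1.trans ?_
    obtain ⟨k, rfl⟩ := Nat.exists_eq_add_of_le h
    clear h h1 G hd
    induction k with
    | zero => decide
    | succ k ih =>
      calc 3 ^ (4 + (k + 1)) = 3 * 3 ^ (4 + k) := by rw [← pow_succ']; rfl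
        _ ≤ 5 * 5 ^ (4 + k - 1) := Nat.mul_le_mul (by norm_num) ih
        _ = _ := by rw [← pow_succ']; congr 1; omega

end Cfsg.Agent.S4264
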