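import Cfsg.Statements.S4269
import Mathlib

set_option maxHeartbeats 1000000
set_option maxRecDepth 8000

set_option autoImplicit false
open Cfsg
open scoped commutatorElement Pointwise

namespace Cfsg.Agent.S4269

/-- Let G be a finite group, V an abelian normal subgroup and H a subgroup with HV = G. Then H is pronormal in G (H and gHg⁻¹ are conjugate inside the subgroup they generate, for every g) if and only if every H-invariant subgroup U of V satisfies U = N_U(H)·[H, U], that is, U is the join of U ∩ N_G(H) and the commutator subgroup [H, U]. -/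
theorem result {G : Type*} [Group G] [Finite G]
    (V : Subgroup G) [V.Normal] (hV : IsMulCommutative ↥V) (H : Subgroup G) (hHV : H ⊔ V = ⊤) :
    Cfsg.IsPronormal H ↔
      ∀ U : Subgroup G, U ≤ V → (∀ h ∈ H, U.map (MulAut.conj h).toMonoidHom = U) →
        U = (U ⊓ Subgroup.normalizer (H : Set G)) ⊔ ⁅H, U⁆ := by
  classical
  let c : G → Subgroup G := fun x => H.map (MulAut.conj x).toMonoidHom
  have hc_mul : ∀ a b, c (a * b) = (c b).map (MulAut.conj a).toMonoidHom := fun a b => by
    show H.map _ = (H.map _).map _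
    rw [Subgroup.map_map]; congr 1; ext y; simp [mul_assoc]
  have hc_mem : ∀ {a b}, b ∈ H → a * b * a⁻¹ ∈ c a := fun {a b} hb => ⟨b, hb, rfl⟩
  have hc_one : c 1 = H := by
    show H.map _ = H
    ext y; simp
  have hc_N : ∀ a, a ∈ Subgroup.normalizer (H : Set G) ↔ c a = H := by
    intro a
    rw [Subgroup.mem_normalizer_iff]
    constructor
    · intro h
      ext y
      constructor
      · rintro ⟨x, hx, rfl⟩; exact (h x).1 hx
      · intro hy
        refine ⟨a⁻¹ * y * a, (h _).2 (by simpa [mul_assoc] using hy), ?_⟩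
        simp [mul_assoc]
    · intro h x
      refine ⟨fun hx => h.le (hc_mem hx), fun hx => ?_⟩
      obtain ⟨y, hy, e⟩ := h.ge hx
      have : y = x := by simpa using e
      exact this ▸ hy
  have hc_right : ∀ a b, b ∈ Subgroup.normalizer (H : Set G) → c (a * b) = c a := fun a b hb => by
    rw [hc_mul, (hc_N b).1 hb]
  have hHN : ∀ h ∈ H, h ∈ Subgroup.normalizer (H : Set G) := fun h hh => Subgroup.le_normalizer hh
  have hcomm : ∀ a ∈ V, ∀ b ∈ V, a * b = b * a := fun a ha b hb =>
    congrArg Subtype.val (hV.is_comm.comm (⟨a, ha⟩ : V) ⟨b, hb⟩)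
  have hconjU : ∀ U : Subgroup G, (∀ h ∈ H, U.map (MulAut.conj h).toMonoidHom = U) →
      ∀ h ∈ H, ∀ u ∈ U, h * u * h⁻¹ ∈ U := fun U hU h hh u hu => (hU h hh).le ⟨u, hu, rfl⟩
  have hW : ∀ U : Subgroup G, (∀ h ∈ H, U.map (MulAut.conj h).toMonoidHom = U) → ⁅H, U⁆ ≤ U := by
    intro U hU
    rw [Subgroup.commutator_le]
    intro h hh u hu
    exact U.mul_mem (hconjU U hU h hh u hu) (U.inv_mem hu)
  constructor
  · intro hpro U hUV hU
    refine le_antisymm (fun v hv => ?_) (sup_le inf_le_left (hW U hU))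
    set W := ⁅H, U⁆ with hWdef
    have hWn : H ≤ Subgroup.normalizer (W : Set G) := by
      intro h hh
      rw [Subgroup.mem_normalizer_iff]
      have key : ∀ k ∈ H, ∀ x ∈ W, k * x * k⁻¹ ∈ W := by
        intro k hk x hx
        have e : W.map (MulAut.conj k).toMonoidHom = W := by
          rw [hWdef, Subgroup.map_commutator, hU k hk]
          exact congrArg (fun K => ⁅K, U⁆) ((hc_N k).1 (hHN k hk))
        exact e.le ⟨x, hx, rfl⟩
      refine fun x => ⟨key h hh x, fun hx => ?_⟩
      have := key h⁻¹ (H.inv_mem hh) _ hx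
      simpa [mul_assoc] using this
    obtain ⟨x, hx, he⟩ := hpro v
    have hle : c v ≤ W ⊔ H := by
      rintro _ ⟨h, hh, rfl⟩
      show v * h * v⁻¹ ∈ _
      have e : v * h * v⁻¹ = ⁅h, v⁆⁻¹ * h := by simp only [commutatorElement_def]; group
      rw [e]
      exact Subgroup.mul_mem_sup (W.inv_mem (Subgroup.commutator_mem_commutator hh hv)) hh
    have hx' : x ∈ ((W ⊔ H : Subgroup G) : Set G) := (sup_le le_sup_right hle : H ⊔ c v ≤ W ⊔ H) hx
    rw [Subgroup.coe_mul_of_right_le_normalizer_left W H hWn] at hx'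
    obtain ⟨w, hw, h, hh, rfl⟩ := hx'
    have he' : c v = c (w * h) := he
    rw [hc_right w h (hHN h hh)] at he'
    have hn : w⁻¹ * v ∈ Subgroup.normalizer (H : Set G) := by
      rw [hc_N, hc_mul, he', ← hc_mul, inv_mul_cancel, hc_one]
    have hwv : v = w * (w⁻¹ * v) := by group
    rw [hwv, sup_comm]
    exact Subgroup.mul_mem_sup hw ⟨U.mul_mem (U.inv_mem (hW U hU hw)) hv, hn⟩
  · intro hyp g
    have hg : g ∈ ((V ⊔ H : Subgroup G) : Set G) := by rw [sup_comm, hHV]; trivial
    rw [Subgroup.normal_mul] at hg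
    obtain ⟨v, hv, h₀, hh₀, rfl⟩ := hg
    show ∃ x ∈ H ⊔ c (v * h₀), c (v * h₀) = c x
    rw [hc_right v h₀ (hHN h₀ hh₀)]
    let S : Set G := {y | ∃ k ∈ H, y = k * v * k⁻¹}
    set U := Subgroup.closure S with hUdef
    have hSV : U ≤ V := by
      rw [hUdef, Subgroup.closure_le]
      rintro _ ⟨k, hk, rfl⟩
      exact Subgroup.Normal.conj_mem inferInstance v hv k
    have hmap : ∀ h ∈ H, U.map (MulAut.conj h).toMonoidHom ≤ U := by
      intro h hh
      rw [hUdef, MonoidHom.map_closure, Subgroup.closure_le]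
      rintro _ ⟨_, ⟨k, hk, rfl⟩, rfl⟩
      refine Subgroup.subset_closure ⟨h * k, H.mul_mem hh hk, ?_⟩
      simp [mul_assoc]
    have hU : ∀ h ∈ H, U.map (MulAut.conj h).toMonoidHom = U := by
      intro h hh
      refine le_antisymm (hmap h hh) fun u hu => ?_
      exact ⟨h⁻¹ * u * h, by simpa using hmap h⁻¹ (H.inv_mem hh) ⟨u, hu, rfl⟩, by simp [mul_assoc]⟩
    set T := H ⊔ c v with hT
    have hgen : ∀ u ∈ U, ∀ h ∈ H, ⁅h, u⁆ ∈ T := by
      intro u hu
      rw [hUdef] at hu
      induction hu using Subgroup.closure_induction with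
      | mem y hy =>
        obtain ⟨k, hk, rfl⟩ := hy
        intro h hh
        have e : ⁅h, k * v * k⁻¹⁆ = k * ((k⁻¹ * h * k) * (v * (k⁻¹ * h * k)⁻¹ * v⁻¹)) * k⁻¹ := by
          simp only [commutatorElement_def]; group
        rw [e]
        have h1 : k⁻¹ * h * k ∈ H := H.mul_mem (H.mul_mem (H.inv_mem hk) hh) hk
        exact T.mul_mem (T.mul_mem (le_sup_left (a := H) hk)
          (T.mul_mem (le_sup_left (a := H) h1) (le_sup_right (a := H) (hc_mem (H.inv_mem h1)))))
          (T.inv_mem (le_sup_left (a := H) hk))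
      | one => intro h _; rw [commutatorElement_one_right]; exact T.one_mem
      | mul a b ha hb iha ihb =>
        intro h hh
        have hbV : ⁅h, b⁆ ∈ V := by
          rw [commutatorElement_def]
          exact V.mul_mem (Subgroup.Normal.conj_mem inferInstance b (hSV hb) h) (V.inv_mem (hSV hb))
        have e : ⁅h, a * b⁆ = ⁅h, a⁆ * (a * ⁅h, b⁆ * a⁻¹) := by simp only [commutatorElement_def]; group
        rw [e, hcomm a (hSV ha) _ hbV, mul_inv_cancel_right]
        exact T.mul_mem (iha h hh) (ihb h hh)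
      | inv a ha iha =>
        intro h hh
        have haV : ⁅h, a⁆ ∈ V := by
          rw [commutatorElement_def]
          exact V.mul_mem (Subgroup.Normal.conj_mem inferInstance a (hSV ha) h) (V.inv_mem (hSV ha))
        have e : ⁅h, a⁻¹⁆ = a⁻¹ * ⁅h, a⁆⁻¹ * a := by simp only [commutatorElement_def]; group
        rw [e, hcomm a⁻¹ (V.inv_mem (hSV ha)) _ (V.inv_mem haV), inv_mul_cancel_right]
        exact T.inv_mem (iha h hh)
    have hWT : ⁅H, U⁆ ≤ T := Subgroup.commutator_le.2 fun h hh u hu => hgen u hu h hh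
    have hvU : v ∈ U := Subgroup.subset_closure ⟨1, H.one_mem, by simp⟩
    have hmem : v ∈ ((⁅H, U⁆ ⊔ (U ⊓ Subgroup.normalizer (H : Set G)) : Subgroup G) : Set G) := by
      rw [sup_comm, ← hyp U hSV hU]; exact hvU
    rw [Subgroup.coe_mul_of_right_le_normalizer_left] at hmem
    · obtain ⟨w, hw, n, hn, e⟩ := hmem
      refine ⟨w, hWT hw, ?_⟩
      rw [← e]
      exact hc_right w n hn.2
    · intro n hn
      rw [Subgroup.mem_normalizer_iff]
      have hnV := hSV hn.1
      intro x
      constructor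
      · intro hx; rw [hcomm n hnV x (hSV (hW U hU hx)), mul_inv_cancel_right]; exact hx
      · intro hx
        have hxV : x ∈ V := by
          have := Subgroup.Normal.conj_mem (inferInstance : V.Normal) _ (hSV (hW U hU hx)) n⁻¹
          simpa [mul_assoc] using this
        rw [hcomm n hnV x hxV, mul_inv_cancel_right] at hx
        exact hx

end Cfsg.Agent.S4269
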