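import Cfsg.Statements.S4271
import Mathlib
import Cfsg.Agent.Lib.Transfer.PronormalSylow

set_option maxHeartbeats 1000000
set_option maxRecDepth 8000

set_option autoImplicit false
open Cfsg

namespace Cfsg.Agent.S4271

/-- An overgroup of a self-normalizing Sylow subgroup is self-normalizing. -/
theorem normalizer_eq_of_sylow {Q : Type*} [Group Q] [Finite Q] {p : ℕ} [Fact p.Prime] (P : Sylow p Q)
    (hP : Subgroup.normalizer ((P : Subgroup Q) : Set Q) = P) {K : Subgroup Q} (hPK : (P : Subgroup Q) ≤ K) :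
    Subgroup.normalizer (K : Set Q) = K := by
  refine le_antisymm (fun y hy => ?_) Subgroup.le_normalizer
  have h2 : ((y • P : Sylow p Q) : Subgroup Q) ≤ K :=
    (Subgroup.map_mono hPK).trans (Cfsg.Agent.Transfer.PronormalSyl.cj_eq_self.2 hy).le
  obtain ⟨k, hk⟩ := MulAction.exists_smul_eq K ((y • P : Sylow p Q).subtype h2) (P.subtype hPK)
  have hky : ((k : Q) * y) • P = P := by
    rw [mul_smul]
    exact Sylow.subtype_injective ((Sylow.smul_subtype h2 k).symm.trans hk)
  have h3 := Sylow.smul_eq_iff_mem_normalizer.1 hky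
  have h3 : (k : Q) * y ∈ (P : Subgroup Q) := hP ▸ h3
  exact (K.mul_mem_cancel_left k.2).1 (hPK h3)

/-- Let p be a prime and G a finite group with a normal subgroup A such that every subgroup of A containing a Sylow p-subgroup of A is pronormal in A, and the Sylow p-subgroups of G/A are self-normalizing. Let T be a Sylow p-subgroup of A. Then every subgroup of G containing a Sylow p-subgroup of G is pronormal in G if and only if every subgroup of N_G(T)/T containing a Sylow p-subgroup of N_G(T)/T is pronormal in N_G(T)/T. (Pronormal: H and gHg⁻¹ are conjugate inside the subgroup they generate, for every g.) -/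
theorem result {G : Type*} [Group G] [Finite G] {p : ℕ} [Fact p.Prime]
    (A : Subgroup G) [A.Normal] (hA : (∀ K : Subgroup ↥A, (∃ P : Sylow p ↥A, (P : Subgroup ↥A) ≤ K) → Cfsg.IsPronormal K))
    (hQ : ∀ P : Sylow p (G ⧸ A), Subgroup.normalizer ((P : Subgroup (G ⧸ A)) : Set (G ⧸ A)) = P)
    (T : Subgroup G) (hT : ∃ P : Sylow p ↥A, (P : Subgroup ↥A).map A.subtype = T) [(T.subgroupOf (Subgroup.normalizer (T : Set G))).Normal] :
    (∀ K : Subgroup G, (∃ P : Sylow p G, (P : Subgroup G) ≤ K) → Cfsg.IsPronormal K) ↔ (∀ K : Subgroup (↥(Subgroup.normalizer (T : Set G)) ⧸ T.subgroupOf (Subgroup.normalizer (T : Set G))), (∃ P : Sylow p (↥(Subgroup.normalizer (T : Set G)) ⧸ T.subgroupOf (Subgroup.normalizer (T : Set G))), (P : Subgroup (↥(Subgroup.normalizer (T : Set G)) ⧸ T.subgroupOf (Subgroup.normalizer (T : Set G)))) ≤ K) → Cfsg.IsPronormal K) := by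

  refine ⟨fun h => (Transfer.PronormalSyl.forward A T hT h).1, fun h K hK => ?_⟩
  refine Transfer.PronormalSyl.backward A hA ?_ T hT h ?_ K hK
  · rintro L ⟨P, hP⟩
    exact Transfer.PronormalSyl.isPronormal_of_normalizer_le P hP ((hQ P).le.trans hP)
  · rintro L ⟨S, hS⟩
    have hq : Function.Surjective (QuotientGroup.mk' A) := QuotientGroup.mk'_surjective A
    have hL := normalizer_eq_of_sylow (S.mapSurjective hq) (hQ _) (K := L.map (QuotientGroup.mk' A)) (Subgroup.map_mono hS)
    refine le_antisymm ?_ ?_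
    · rintro _ ⟨n, hn, rfl⟩
      rw [← Transfer.PronormalSyl.cj_eq_self, ← Transfer.PronormalSyl.map_cj, Transfer.PronormalSyl.cj_eq_self.2 hn]
    · rw [hL]
      exact Subgroup.map_mono Subgroup.le_normalizer

end Cfsg.Agent.S4271
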