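import Cfsg.Statements.S4275
import Mathlib

set_option maxHeartbeats 1000000
set_option maxRecDepth 8000

set_option autoImplicit false
open Cfsg
open scoped commutatorElement

namespace Cfsg.Agent.S4275

/-- Let G be a transitive group of permutations of a finite set Ω, let o ∈ Ω, and let α be an automorphism of G. Then α is induced by conjugation by a permutation of Ω normalizing G if and only if the image under α of the stabilizer of o fixes some point of Ω. -/
theorem result {Ω : Type*} [Fintype Ω] (G : Subgroup (Equiv.Perm Ω)) (htr : MulAction.IsPretransitive G Ω) (o : Ω) (α : G ≃* G) : (∃ σ : Equiv.Perm Ω, σ ∈ Subgroup.normalizer (G : Set (Equiv.Perm Ω)) ∧ ∀ g : G, ((α g : G) : Equiv.Perm Ω) = σ * (g : Equiv.Perm Ω) * σ⁻¹) ↔ ∃ ω : Ω, ∀ g ∈ (MulAction.stabilizer G o).map α.toMonoidHom, g • ω = ω := by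
  constructor
  · rintro ⟨σ, -, hσ⟩
    refine ⟨σ o, ?_⟩
    rintro _ ⟨g, hg, rfl⟩
    show ((α g : G) : Equiv.Perm Ω) (σ o) = σ o
    rw [hσ g]
    simp [show (g : Equiv.Perm Ω) o = o from MulAction.mem_stabilizer_iff.1 hg]
  · rintro ⟨ω, hω⟩
    choose r hr using fun x : Ω => MulAction.exists_smul_eq G o x
    let f : Ω → Ω := fun x => α (r x) • ω
    have hf : ∀ g : G, f (g • o) = α g • ω := fun g => by
      have h1 : g⁻¹ * r (g • o) ∈ MulAction.stabilizer G o := by
        rw [MulAction.mem_stabilizer_iff, mul_smul, hr, inv_smul_smul]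
      have h2 := hω _ (Subgroup.mem_map_of_mem α.toMonoidHom h1)
      rw [MulEquiv.coe_toMonoidHom, map_mul, map_inv, mul_smul, inv_smul_eq_iff] at h2
      exact h2
    have hfs : Function.Surjective f := fun x => by
      obtain ⟨g, rfl⟩ := MulAction.exists_smul_eq G ω x
      exact ⟨α.symm g • o, by rw [hf, α.apply_symm_apply]⟩
    let σ : Equiv.Perm Ω := Equiv.ofBijective f ⟨Finite.injective_iff_surjective.2 hfs, hfs⟩
    have hσ : ∀ g : G, ((α g : G) : Equiv.Perm Ω) = σ * (g : Equiv.Perm Ω) * σ⁻¹ := fun g => by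
      rw [eq_mul_inv_iff_mul_eq]
      refine Equiv.ext fun x => ?_
      obtain ⟨h, rfl⟩ := MulAction.exists_smul_eq G o x
      show (α g) • f (h • o) = f (g • h • o)
      rw [hf, ← mul_smul, ← mul_smul, hf, map_mul]
    refine ⟨σ, Subgroup.mem_normalizer_iff.2 fun x => ⟨fun hx => ?_, fun hx => ?_⟩, hσ⟩
    · rw [← hσ ⟨x, hx⟩]
      exact (α _).2
    · have h1 := hσ (α.symm ⟨_, hx⟩)
      rw [α.apply_symm_apply] at h1
      have h2 : x = ((α.symm ⟨_, hx⟩ : G) : Equiv.Perm Ω) := mul_left_cancel (mul_right_cancel h1)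
      exact h2 ▸ (α.symm ⟨_, hx⟩).2

end Cfsg.Agent.S4275
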