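import Cfsg.Statements.S4277
import Cfsg.Agent.Lib.Fus.OutPrimeIndex
-- import your own Cfsg.Agent.* helpers here

set_option autoImplicit false
open Cfsg

namespace Cfsg.Agent.S4277

/-- A case of the Schreier conjecture: if a finite simple group G has a subgroup of prime index, then the outer automorphism group of G is solvable. -/
theorem result {G : Type*} [Group G] [Finite G] [IsSimpleGroup G] (H : Subgroup G) (hH : H.index.Prime) : Group.IsSolvable (Cfsg.Out G) := by
  have hne : H ≠ ⊤ := fun h => Nat.not_prime_one (by rwa [h, Subgroup.index_top] at hH)
  refine Fus.OutPrimeIndex.out_solvable H hH ?_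
  refine (H.normalCore_normal.eq_bot_or_eq_top).resolve_right fun h => hne ?_
  exact top_le_iff.1 (h.ge.trans H.normalCore_le)

end Cfsg.Agent.S4277
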