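import Cfsg.Statements.S4280
import Cfsg.Agent.Lib.Lie.Chev.InvolutionDataF4
import Cfsg.Agent.Lib.Lie.Chev.InvolutionData
import Cfsg.Agent.Lib.Lie.Chev.TorusOrders

set_option autoImplicit false
open Cfsg

namespace Cfsg.Agent.S4280

open Cfsg.Agent.Lie.Chev

theorem checkInv_ok : certFullF4.T.checkInv invF4 = true := by decide +kernel

theorem checkStab_one : certFullF4.T.checkStab invF4Stab1 = true := by decide +kernel

theorem checkStab_two : certFullF4.T.checkStab invF4Stab2 = true := by decide +kernel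

theorem checkMasks_ok :
    certFullF4.T.checkMasks invF4Stab1.y invF4Stab2.y invF4Masks = true := by decide +kernel

/-- In the Chevalley group of type F₄ over a finite field of odd order q there are exactly two conjugacy classes of involutions; the centralizer of an involution in one class has order q¹⁶(q² − 1)(q⁴ − 1)(q⁶ − 1)(q⁸ − 1), and in the other class q¹⁰(q² − 1)²(q⁴ − 1)(q⁶ − 1). -/
theorem result {F : Type*} [Field F] [Fintype F] (hF : Odd (Fintype.card F)) : ∃ s t : ↥(Cfsg.Lie.chevF4.group F), orderOf s = 2 ∧ orderOf t = 2 ∧ ¬ IsConj s t ∧ (∀ u : ↥(Cfsg.Lie.chevF4.group F), orderOf u = 2 → IsConj u s ∨ IsConj u t) ∧ Nat.card (Subgroup.centralizer ({s} : Set ↥(Cfsg.Lie.chevF4.group F))) = Fintype.card F ^ 16 * (Fintype.card F ^ 2 - 1) * (Fintype.card F ^ 4 - 1) * (Fintype.card F ^ 6 - 1) * (Fintype.card F ^ 8 - 1) ∧ Nat.card (Subgroup.centralizer ({t} : Set ↥(Cfsg.Lie.chevF4.group F))) = Fintype.card F ^ 10 * (Fintype.card F ^ 2 - 1) ^ 2 * (Fintype.card F ^ 4 - 1) * (Fintype.card F ^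 6 - 1) := by
  obtain ⟨s, t, h1, h2, h3, h4, h5, h6⟩ := certFullF4.involution_classes (F := F) hF checkInv_ok
    checkStab_one checkStab_two checkMasks_ok (torusOrderF4 F) (by decide) (by decide) (by decide)
  refine ⟨s, t, h1, h2, h3, h4, ?_, ?_⟩
  · rw [h5, show (Tables.subRoots invF4Stab1.levels).length = 16 by decide,
      show invF4Stab1.degs = [2, 4, 6, 8] from rfl]
    simp [mul_assoc]
  · rw [h6, show (Tables.subRoots invF4Stab2.levels).length = 10 by decide,
      show invF4Stab2.degs = [2, 2, 4, 6] from rfl]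
    simp [mul_assoc, pow_two]

end Cfsg.Agent.S4280
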