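import Cfsg.Statements.S4282
import Cfsg.Agent.Lib.Grp.HHCritical

set_option autoImplicit false
open Cfsg

namespace Cfsg.Agent.S4282

/-- A critical case behind the Hall–Higman theorem. Let p ≠ q be primes and G a finite group generated by a normal q-subgroup Q and a cyclic p-subgroup generated by x, such that the centralizer of every non-identity element of that cyclic subgroup is its product with the centre of G. Let K be an algebraically closed field of characteristic p and ρ a faithful representation of G on a nonzero finite-dimensional K-space whose restriction to Q is irreducible. If s is the least exponent with (ρ(x) − 1)^s = 0, then |⟨x⟩| − 1 ≤ s ≤ |⟨x⟩|; and if s = |⟨x⟩| − 1 then |⟨x⟩| − 1 is a power of q and Q is non-abelian. -/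
theorem result {G : Type*} [Group G] [Finite G] (p q : ℕ) [Fact p.Prime] [Fact q.Prime] (hpq : p ≠ q) (Q : Subgroup G) [Q.Normal] (hQ : IsPGroup q Q) (x : G) (hx : IsPGroup p (Subgroup.zpowers x)) (hgen : Q ⊔ Subgroup.zpowers x = ⊤) (hC : ∀ y ∈ Subgroup.zpowers x, y ≠ 1 → Subgroup.centralizer ({y} : Set G) = Subgroup.zpowers x ⊔ Subgroup.center G) {K : Type*} [Field K] [IsAlgClosed K] [CharP K p] {V : Type*} [AddCommGroup V] [Module K V] [FiniteDimensional K V] [Nontrivial V] (ρ : Representation K G V) (hfaith : Function.Injective ρ) (hirr : ∀ W : Submodule K V, (∀ g ∈ Q, Submodule.map (ρ g) W ≤ W) → W = ⊥ ∨ W = ⊤) (s : ℕ) (hs : (ρ x - 1) ^ s = 0) (hmin : ∀ k < s, (ρ x - 1) ^ k ≠ 0) : Nat.card (Subgroup.zpowers x) - 1 ≤ s ∧ s ≤ Nat.card (Subgroup.zpowers x) ∧ (s = Nat.card (Subgroup.zpowers x) - 1 → (∃ b : ℕ, Nat.card (Subgroup.zpowers x) - 1 = q ^ b) ∧ ¬ IsMulCommutative Q) := by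
  classical
  have hp : p.Prime := Fact.out
  haveI : CharP (Module.End K V) p :=
    charP_of_injective_algebraMap (algebraMap K (Module.End K V)).injective p
  haveI : Fintype ↥Q := Fintype.ofFinite _
  obtain ⟨e, he⟩ := hx.exists_card_eq
  rw [he]
  set u : Module.End K V := ρ x with hu
  have hxh : x ^ p ^ e = 1 := orderOf_dvd_iff_pow_eq_one.mp (by rw [← Nat.card_zpowers, he])
  have hfrob : (u - 1) ^ p ^ e = 0 := by
    rw [sub_pow_char_pow_of_commute (p := p) (n := e) (h := Commute.one_right u), one_pow, hu, ← map_pow, hxh, map_one, sub_self]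
  have hsle : s ≤ p ^ e := by
    by_contra hlt
    exact hmin _ (not_le.mp hlt) hfrob
  have hs0 : s ≠ 0 := by
    rintro rfl
    rw [pow_zero] at hs
    obtain ⟨v, hv⟩ := exists_ne (0 : V)
    exact hv (LinearMap.congr_fun hs v)
  rcases Nat.eq_zero_or_pos e with rfl | he0
  · rw [pow_zero] at hsle ⊢
    exact ⟨by omega, hsle, fun h => by omega⟩
  let ρQ : ↥Q →* Module.End K V := (ρ : G →* Module.End K V).comp Q.subtype
  have hirrQ : ∀ W : Submodule K V, (∀ g, ∀ w ∈ W, ρQ g w ∈ W) → W = ⊥ ∨ W = ⊤ := fun W hW =>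
    hirr W fun g hg => Submodule.map_le_iff_le_comap.mpr fun w hw => hW ⟨g, hg⟩ w hw
  obtain ⟨j, hj⟩ := hQ.exists_card_eq
  have hQK : (Fintype.card ↥Q : K) ≠ 0 := by
    rw [← Nat.card_eq_fintype_card, hj]
    intro h0
    exact hpq ((Nat.prime_dvd_prime_iff_eq hp Fact.out).mp (hp.dvd_of_dvd_pow ((CharP.cast_eq_zero_iff K p _).mp h0)))
  -- one-dimensional is impossible
  have hscalar1 : (∀ g : ↥Q, ∃ c : K, ρQ g = c • 1) → Module.finrank K V = 1 := by
    intro hsc
    obtain ⟨v, hv⟩ := exists_ne (0 : V)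
    have htop : Submodule.span K {v} = ⊤ := (hirrQ _ fun g w hw => by
      obtain ⟨c, hc⟩ := hsc g
      rw [hc, LinearMap.smul_apply, Module.End.one_apply]
      exact Submodule.smul_mem _ _ hw).resolve_left (fun e => hv (Submodule.span_singleton_eq_bot.mp e))
    rw [← finrank_top, ← htop, finrank_span_singleton hv]
  have hd2 : 1 < Module.finrank K V := by
    have hpos : 0 < Module.finrank K V := Module.finrank_pos
    by_contra hle
    obtain ⟨v, hv, hspan⟩ := finrank_eq_one_iff'.mp (show Module.finrank K V = 1 by omega)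
    obtain ⟨c, hc⟩ := hspan (u v)
    have hu' : u = c • 1 := LinearMap.ext fun w => by
      obtain ⟨a, rfl⟩ := hspan w
      rw [map_smul, ← hc, smul_comm]; rfl
    have hcp : c ^ p ^ e = 1 := by
      have h1 : (c ^ p ^ e) • v = (1 : K) • v := by
        rw [one_smul]
        conv_rhs => rw [show v = (u ^ p ^ e) v by rw [hu, ← map_pow, hxh, map_one]; rfl]
        rw [hu', smul_pow, one_pow]; rfl
      exact smul_left_injective K hv h1
    have hc1 : c = 1 := by
      have h1 : (c - 1) ^ p ^ e = 0 := by rw [sub_pow_char_pow, one_pow, hcp, sub_self]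
      exact sub_eq_zero.mp (eq_zero_of_pow_eq_zero h1)
    have hx1 : x = 1 := hfaith (show ρ x = ρ 1 by rw [← hu, hu', hc1, one_smul, map_one])
    rw [hx1, Subgroup.zpowers_one_eq_bot, Subgroup.card_bot] at he
    exact absurd he (Nat.one_lt_pow he0.ne' hp.one_lt).ne
  obtain ⟨b, hb⟩ := Cfsg.Agent.Grp.HHCrit.exists_degree_pow (q := q) (Nat.card ↥Q) ↥Q V ρQ le_rfl hQ
    (by rwa [Nat.card_eq_fintype_card]) hirrQ
  have hkey : s < p ^ e → s = Module.finrank K V ∧ Module.finrank K V = p ^ e - 1 := by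
    intro hlt
    have hσiter : ∀ (i : ℕ) (g : ↥Q), (((MulAut.conjNormal x : MulAut ↥Q).toEquiv)^[i] g : G) = x ^ i * g * (x ^ i)⁻¹ := by
      intro i
      induction i with
      | zero => intro g; simp
      | succ i ih =>
        intro g
        rw [Function.iterate_succ_apply']
        show x * _ * x⁻¹ = _
        rw [ih, pow_succ']; group
    refine Cfsg.Agent.Grp.HHCrit.single_block (p := p) hd2 u (by rw [hu, ← map_pow, hxh, map_one]) hs hmin hlt
      fun S hS htr => Cfsg.Agent.Grp.HHCrit.exists_norm ρQ hirrQ hQK (pow_ne_zero _ hp.ne_zero) u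
        (by rw [hu, ← map_pow, hxh, map_one]) (MulAut.conjNormal x : MulAut ↥Q).toEquiv ?_ ?_ ?_ ?_ hS htr
    · intro g
      show ρ x * ρ (g : G) = ρ (((MulAut.conjNormal x : MulAut ↥Q) g : ↥Q) : G) * ρ x
      rw [MulAut.conjNormal_apply, ← map_mul, ← map_mul, inv_mul_cancel_right]
    · exact fun g => map_inv (MulAut.conjNormal x : MulAut ↥Q) g
    · intro g
      exact Subtype.ext (by rw [hσiter, hxh]; simp)
    intro i hi0 hi g hg
    have hg' : x ^ i * (g : G) * (x ^ i)⁻¹ = g := by rw [← hσiter, hg]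
    have hxi : x ^ i ≠ 1 := fun h1 => absurd (Nat.le_of_dvd hi0 (orderOf_dvd_of_pow_eq_one h1)) (by
      rw [← Nat.card_zpowers, he]; omega)
    have hmem : (g : G) ∈ Subgroup.centralizer ({x ^ i} : Set G) :=
      Subgroup.mem_centralizer_singleton_iff.mpr (mul_inv_eq_iff_eq_mul.mp hg').symm
    rw [hC _ (Subgroup.pow_mem _ (Subgroup.mem_zpowers x) i) hxi, Subgroup.mem_sup_of_normal_right] at hmem
    obtain ⟨y, hy, z, hz, hyz⟩ := hmem
    have hzc := Subgroup.mem_center_iff.mp hz
    have hyc : y ∈ Subgroup.center G := by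
      obtain ⟨k, hk⟩ := hQ g
      have h1 : y ^ q ^ k * z ^ q ^ k = 1 := by
        rw [← (show Commute y z from hzc y).mul_pow, hyz]
        exact congrArg Subtype.val hk
      have h2 : y ^ q ^ k ∈ Subgroup.center G := by
        rw [eq_inv_of_mul_eq_one_left h1]
        exact inv_mem (Subgroup.pow_mem _ hz _)
      obtain ⟨m, hm⟩ := exists_pow_eq_self_of_coprime (x := y) (n := q ^ k) (by
        refine Nat.Coprime.coprime_dvd_right ((Subgroup.orderOf_dvd_natCard _ hy).trans he.dvd) ?_
        exact Nat.Coprime.pow _ _ ((Nat.coprime_primes Fact.out hp).mpr (Ne.symm hpq)))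
      exact hm ▸ Subgroup.pow_mem _ h2 m
    refine Cfsg.Agent.Grp.HHCrit.scalar_of_commute ρQ hirrQ fun a => ?_
    show ρ (a : G) * ρ (g : G) = ρ (g : G) * ρ (a : G)
    rw [← map_mul, ← map_mul, ← hyz, Subgroup.mem_center_iff.mp (mul_mem hyc hz) (a : G)]
  refine ⟨?_, hsle, fun hseq => ?_⟩
  · rcases Nat.lt_or_ge s (p ^ e) with hlt | hge
    · obtain ⟨h1, h2⟩ := hkey hlt
      omega
    · omega
  · obtain ⟨h1, h2⟩ := hkey (by have := pow_pos hp.pos e; omega)
    refine ⟨⟨b, by rw [← h2, hb]⟩, fun hab => ?_⟩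
    have := hscalar1 fun g => Cfsg.Agent.Grp.HHCrit.scalar_of_commute ρQ hirrQ fun a => by
      rw [← map_mul, ← map_mul, hab.is_comm.comm]
    omega

end Cfsg.Agent.S4282
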