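import Cfsg.Statements.S4283
import Cfsg.Agent.Lib.Recog.Frobenius

set_option maxHeartbeats 1000000
set_option maxRecDepth 8000

set_option autoImplicit false
open Cfsg

namespace Cfsg.Agent.S4283

/-- Let G be a finite group with centre Z and let K, H be abelian subgroups of G containing Z such that G/Z is a Frobenius group with complement H/Z and kernel K/Z. Then the conjugacy class sizes of G are exactly 1, [G : K] and [G : H], and these two indices are coprime. (This is the converse half of the characterization of finite groups whose conjugacy class sizes are exactly 1, m and n with m and n coprime.) -/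
theorem result {G : Type*} [Group G] [Finite G] (K H : Subgroup G) (hZK : Subgroup.center G ≤ K) (hZH : Subgroup.center G ≤ H) (hK : IsMulCommutative K) (hH : IsMulCommutative H) (hFrob : Cfsg.IsFrobeniusComplement (H.map (QuotientGroup.mk' (Subgroup.center G)))) (hker : Cfsg.frobeniusKernel (H.map (QuotientGroup.mk' (Subgroup.center G))) = (K.map (QuotientGroup.mk' (Subgroup.center G)) : Set (G ⧸ Subgroup.center G))) : Set.range (fun x : G => (Subgroup.centralizer ({x} : Set G)).index) = ({1, K.index, H.index} : Set ℕ) ∧ K.index.Coprime H.index := by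
  set Z := Subgroup.center G with hZ
  set q := QuotientGroup.mk' Z with hq
  have hqs : Function.Surjective q := QuotientGroup.mk'_surjective Z
  set Hb := H.map q with hHb
  set Kb := K.map q with hKb
  have hcomap : ∀ L : Subgroup G, Z ≤ L → (L.map q).comap q = L := fun L hL => by
    rw [Subgroup.comap_map_eq, QuotientGroup.ker_mk', sup_eq_left.2 hL]
  have hidx : ∀ L : Subgroup G, Z ≤ L → (L.map q).index = L.index := fun L hL => by
    rw [← Subgroup.index_comap_of_surjective _ hqs, hcomap L hL]
  have hKb' : (Kb : Set (G ⧸ Z)) = Cfsg.frobeniusKernel Hb := hker.symm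
  have hcop : K.index.Coprime H.index := by
    rw [← hidx K hZK, ← hidx H hZH, Cfsg.Agent.Frob.kernel_index hFrob hKb']
    exact Cfsg.Agent.Frob.coprime_card_index hFrob
  refine ⟨?_, hcop⟩
  set f : G → ℕ := fun x => (Subgroup.centralizer ({x} : Set G)).index with hf
  have hconj : ∀ g x : G, f (g * x * g⁻¹) = f x := fun g x => by
    have h1 : Subgroup.centralizer ({g * x * g⁻¹} : Set G) =
        (Subgroup.centralizer ({x} : Set G)).map (MulAut.conj g).toMonoidHom := by
      ext y
      rw [Subgroup.mem_map_equiv, Subgroup.mem_centralizer_singleton_iff, Subgroup.mem_centralizer_singleton_iff,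
        ← (MulAut.conj g).symm.injective.eq_iff, map_mul, map_mul]
      simp [MulAut.conj_symm_apply, mul_assoc]
    simp only [hf, h1]
    exact Subgroup.index_map_equiv _ (MulAut.conj g)
  have hcent : ∀ L : Subgroup G, Z ≤ L → IsMulCommutative L → ∀ x ∈ L,
      Subgroup.centralizer ({q x} : Set (G ⧸ Z)) ≤ L.map q → f x = L.index := by
    intro L hL hLab x hx hle
    show (Subgroup.centralizer ({x} : Set G)).index = L.index
    congr 1
    refine le_antisymm (fun y hy => ?_) (fun y hy => ?_)
    · rw [← hcomap L hL, Subgroup.mem_comap]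
      refine hle (Subgroup.mem_centralizer_singleton_iff.2 ?_)
      rw [← map_mul, ← map_mul, Subgroup.mem_centralizer_singleton_iff.1 hy]
    · exact Subgroup.mem_centralizer_singleton_iff.2 (congrArg Subtype.val (hLab.is_comm.comm ⟨y, hy⟩ ⟨x, hx⟩))
  have hq1 : ∀ x : G, q x = 1 ↔ x ∈ Z := fun x => QuotientGroup.eq_one_iff x
  have hKval : ∀ x ∈ K, x ∉ Z → f x = K.index := fun x hx hxZ =>
    hcent K hZK hK x hx (Cfsg.Agent.Frob.centralizer_le_kernel hFrob hKb' (Subgroup.mem_map_of_mem q hx) (mt (hq1 x).1 hxZ))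
  have hHval : ∀ x ∈ H, x ∉ Z → f x = H.index := fun x hx hxZ =>
    hcent H hZH hH x hx (Cfsg.Agent.Frob.centralizer_le hFrob (Subgroup.mem_map_of_mem q hx) (mt (hq1 x).1 hxZ))
  have hone : ∀ x ∈ Z, f x = 1 := fun x hx => by
    show (Subgroup.centralizer ({x} : Set G)).index = 1
    rw [Subgroup.index_eq_one, eq_top_iff]
    exact fun y _ => Subgroup.mem_centralizer_singleton_iff.2 (Subgroup.mem_center_iff.1 hx y)
  ext n
  constructor
  · rintro ⟨x, rfl⟩
    show f x ∈ _
    by_cases hxZ : x ∈ Z
    · exact Or.inl (hone x hxZ)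
    by_cases hxK : q x ∈ Cfsg.frobeniusKernel Hb
    · refine Or.inr (Or.inl (hKval x ?_ hxZ))
      rw [← hcomap K hZK, Subgroup.mem_comap, ← SetLike.mem_coe, hKb']
      exact hxK
    · obtain ⟨-, c, hc⟩ := Cfsg.Agent.Frob.exists_conj_mem_of_notMem_kernel hxK
      obtain ⟨g, rfl⟩ := hqs c
      rw [← map_inv, ← map_mul, ← map_mul, ← Subgroup.mem_comap, hcomap H hZH] at hc
      refine Or.inr (Or.inr ?_)
      rw [show x = g * (g⁻¹ * x * g) * g⁻¹ by group, hconj]
      refine hHval _ hc fun h => hxZ ?_
      rw [show x = g * (g⁻¹ * x * g) * g⁻¹ by group]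
      exact (inferInstance : Z.Normal).conj_mem _ h g
  · rintro (rfl | rfl | rfl)
    · exact ⟨1, hone 1 (one_mem _)⟩
    · obtain ⟨w, hw, hw1⟩ := (Subgroup.bot_or_exists_ne_one Kb).resolve_left (Cfsg.Agent.Frob.kernel_ne_bot hFrob hKb')
      obtain ⟨x, hx, rfl⟩ := hw
      exact ⟨x, hKval x hx (mt (hq1 x).2 hw1)⟩
    · obtain ⟨w, hw, hw1⟩ := (Subgroup.bot_or_exists_ne_one Hb).resolve_left hFrob.1
      obtain ⟨x, hx, rfl⟩ := hw
      exact ⟨x, hHval x hx (mt (hq1 x).2 hw1)⟩

end Cfsg.Agent.S4283
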