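import Cfsg.Statements.S4284
import Cfsg.Agent.Lib.Transfer.ThreeSizes.Abelian
import Cfsg.Agent.Lib.Transfer.ThreeSizes.AllType

set_option autoImplicit false
open Cfsg

namespace Cfsg.Agent.S4284

/-- Let G be a finite group with no nontrivial abelian direct factor whose conjugacy class sizes are exactly 1, m and m·n with m, n > 1 coprime. Then m is a prime p dividing n − 1; the elements whose class has size 1 or p form an abelian normal subgroup of index p; G has a normal p-complement; and the commutator subgroup of a Sylow p-subgroup of G has order p. -/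
theorem result {G : Type*} [Group G] [Finite G] (hnodf : ∀ A B : Subgroup G, A.Normal → B.Normal → A ⊓ B = ⊥ → A ⊔ B = ⊤ → IsMulCommutative A → A = ⊥) (m n : ℕ) (hm : 1 < m) (hn : 1 < n) (hcop : m.Coprime n) (h : Set.range (fun x : G => (Subgroup.centralizer ({x} : Set G)).index) = ({1, m, m * n} : Set ℕ)) : m.Prime ∧ m ∣ n - 1 ∧ (∃ M : Subgroup G, M.Normal ∧ (M : Set G) = {x : G | (Subgroup.centralizer ({x} : Set G)).index = 1 ∨ (Subgroup.centralizer ({x} : Set G)).index = m} ∧ M.index = m ∧ IsMulCommutative M) ∧ (∃ N : Subgroup G, N.Normal ∧ (Nat.card N).Coprime m ∧ ∃ a : ℕ, N.index = m ^ a) ∧ ∀ P : Sylow m G, Nat.card (commutator (P : Subgroup G)) = m := by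
  have hmem : ∀ x : G, (Subgroup.centralizer ({x} : Set G)).index ∈ ({1, m, m * n} : Set ℕ) :=
    fun x => h ▸ ⟨x, rfl⟩
  have hex : ∀ a ∈ ({1, m, m * n} : Set ℕ), ∃ x : G, (Subgroup.centralizer ({x} : Set G)).index = a := by
    intro a ha
    rw [← h] at ha
    exact ha
  have H : Cfsg.Agent.Transfer.ThreeSizes.Hyp3 G m n :=
    ⟨hm, hn, hcop, fun x => by simpa using hmem x, hex m (by simp), hex (m * n) (by simp)⟩
  obtain ⟨x, hx, hs⟩ := H.exists_split
  obtain ⟨s, e, k, y, hsp, he, hyc, hyo, hym, hab⟩ := H.of_split hx hs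
  exact H.of_abelian hsp he hyc hyo hym hab

end Cfsg.Agent.S4284
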