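import Cfsg.Statements.S4292
import Mathlib
import Cfsg.Agent.Lib.Grp.Zassenhaus.Basics
import Cfsg.Agent.Lib.Transfer.FrobField

set_option maxHeartbeats 1000000
set_option maxRecDepth 8000

set_option autoImplicit false
open Cfsg

namespace Cfsg.Agent.S4292

/-- Let A and B be nontrivial finite groups. Then the direct product A × B occurs as a Frobenius complement if and only if A and B both occur as Frobenius complements and the orders of A and B are coprime. -/
theorem result {A B : Type*} [Group A] [Finite A] [Nontrivial A] [Group B] [Finite B] [Nontrivial B] :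
    (∃ (L : Type) (_ : Group L) (_ : Finite L) (H : Subgroup L), Cfsg.IsFrobeniusComplement H ∧ Nonempty ((A × B) ≃* H)) ↔
    ((∃ (L : Type) (_ : Group L) (_ : Finite L) (H : Subgroup L), Cfsg.IsFrobeniusComplement H ∧ Nonempty (A ≃* H)) ∧
     (∃ (L : Type) (_ : Group L) (_ : Finite L) (H : Subgroup L), Cfsg.IsFrobeniusComplement H ∧ Nonempty (B ≃* H)) ∧
     (Nat.card A).Coprime (Nat.card B)) := by
  classical
  constructor
  · rintro ⟨L, _, _, H, hH, ⟨φ⟩⟩
    refine ⟨Cfsg.Agent.Transfer.FrobField.of_injective hH (φ.toMonoidHom.comp (MonoidHom.inl A B))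
        (φ.injective.comp fun a a' h => congrArg Prod.fst h),
      Cfsg.Agent.Transfer.FrobField.of_injective hH (φ.toMonoidHom.comp (MonoidHom.inr A B))
        (φ.injective.comp fun b b' h => congrArg Prod.snd h), ?_⟩
    have hF := Cfsg.Agent.Grp.Zas.hasFpf_of_complement hH
    refine Nat.coprime_of_dvd fun p hp hpA hpB => ?_
    haveI := Fact.mk hp
    obtain ⟨a, ha⟩ := exists_prime_orderOf_dvd_card' p hpA
    obtain ⟨b, hb⟩ := exists_prime_orderOf_dvd_card' p hpB
    let x : H := φ (a, 1)
    let y : H := φ (1, b)
    have hx : orderOf x = p := by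
      rw [MulEquiv.orderOf_eq, Prod.orderOf_mk, orderOf_one, Nat.lcm_one_right, ha]
    have hy : orderOf y = p := by
      rw [MulEquiv.orderOf_eq, Prod.orderOf_mk, orderOf_one, Nat.lcm_one_left, hb]
    have hxy : Commute x y := by
      show φ (a, 1) * φ (1, b) = φ (1, b) * φ (a, 1)
      rw [← map_mul, ← map_mul]; simp
    have hne : y ∉ Subgroup.zpowers x := by
      rintro ⟨k, hk⟩
      have h1 : φ ((a, 1) ^ k) = φ (1, b) := by rw [map_zpow]; exact hk
      have h2 := congrArg Prod.snd (φ.injective h1)
      simp at h2
      rw [← h2, orderOf_one] at hb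
      exact hp.ne_one hb.symm
    by_cases h2 : p = 2
    · subst h2
      exact hne ((hF.involution hx).2 y hy ▸ Subgroup.mem_zpowers x)
    have hp' : IsPGroup p (Subgroup.closure ({x, y} : Set H)) := fun g => ⟨1, Subtype.ext (by
      rw [pow_one, Subgroup.coe_pow, Subgroup.coe_one]
      obtain ⟨g, hg⟩ := g
      show g ^ p = 1
      induction hg using Subgroup.closure_induction with
      | mem z hz =>
        rcases hz with rfl | rfl
        · rw [← hx, pow_orderOf_eq_one]
        · rw [← hy, pow_orderOf_eq_one]
      | one => exact one_pow p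
      | mul u v hu hv ihu ihv =>
        have hc : Commute u v := by
          have hcl : ∀ w ∈ Subgroup.closure ({x, y} : Set H), ∀ w' ∈ Subgroup.closure ({x, y} : Set H), Commute w w' := by
            intro w hw w' hw'
            have hcm := Subgroup.closure_le_centralizer_centralizer ({x, y} : Set H) hw
            refine (Subgroup.mem_centralizer_iff.1 hcm w' ?_).symm
            refine (Subgroup.closure_le _).2 ?_ hw'
            intro s hs
            refine Subgroup.mem_centralizer_iff.2 fun t ht => ?_
            rcases hs with rfl | rfl <;> rcases ht with rfl | rfl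
            · rfl
            · exact hxy.symm.eq
            · exact hxy.eq
            · rfl
          exact hcl u hu v hv
        rw [hc.mul_pow, ihu, ihv, one_mul]
      | inv u hu ih => rw [inv_pow, ih, inv_one])⟩
    obtain ⟨P, hP⟩ := hp'.exists_le_sylow
    haveI := hF.sylow_cyclic h2 P
    have hx' : x ∈ (P : Subgroup H) := hP (Subgroup.subset_closure (Or.inl rfl))
    have hy' : y ∈ (P : Subgroup H) := hP (Subgroup.subset_closure (Or.inr rfl))
    haveI : Fintype (P : Subgroup H) := Fintype.ofFinite _
    let T := Finset.univ.filter fun g : (P : Subgroup H) => g ^ p = 1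
    let U := Finset.univ.filter fun g : (P : Subgroup H) => g ∈ Subgroup.zpowers (⟨x, hx'⟩ : (P : Subgroup H))
    have hUT : U = T := by
      refine Finset.eq_of_subset_of_card_le (fun g hg => ?_) ?_
      · simp only [U, Finset.mem_filter] at hg
        obtain ⟨k, rfl⟩ := hg.2
        simp only [T, Finset.mem_filter, Finset.mem_univ, true_and]
        show ((⟨x, hx'⟩ : (P : Subgroup H)) ^ k) ^ p = 1
        rw [← zpow_natCast, ← zpow_mul, mul_comm, zpow_mul, zpow_natCast,
          show (⟨x, hx'⟩ : (P : Subgroup H)) ^ p = 1 from Subtype.ext (by simp [← hx, pow_orderOf_eq_one]), one_zpow]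
      · refine (IsCyclic.card_pow_eq_one_le hp.pos).trans (le_of_eq ?_)
        rw [← Fintype.card_subtype, ← Nat.card_eq_fintype_card]
        show p = Nat.card (Subgroup.zpowers (⟨x, hx'⟩ : (P : Subgroup H)))
        rw [Nat.card_zpowers, Subgroup.orderOf_mk, hx]
    have hyT : (⟨y, hy'⟩ : (P : Subgroup H)) ∈ U := by
      rw [hUT]; simp only [T, Finset.mem_filter, Finset.mem_univ, true_and]
      exact Subtype.ext (by simp [← hy, pow_orderOf_eq_one])
    simp only [U, Finset.mem_filter] at hyT
    obtain ⟨k, hk⟩ := hyT.2
    exact hne ⟨k, by simpa using congrArg Subtype.val hk⟩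
  · rintro ⟨⟨LA, _, _, HA, hHA, ⟨φA⟩⟩, ⟨LB, _, _, HB, hHB, ⟨φB⟩⟩, hcop⟩
    have hFA : Cfsg.Agent.Grp.Zas.HasFpf A :=
      (Cfsg.Agent.Grp.Zas.hasFpf_of_complement hHA).of_injective φA.toMonoidHom φA.injective
    have hFB : Cfsg.Agent.Grp.Zas.HasFpf B :=
      (Cfsg.Agent.Grp.Zas.hasFpf_of_complement hHB).of_injective φB.toMonoidHom φB.injective
    obtain ⟨r, hr, hrp⟩ := Nat.exists_infinite_primes (Nat.card A + Nat.card B + 1)
    haveI := Fact.mk hrp
    have hrA : ¬ r ∣ Nat.card A := fun h => by
      have := Nat.le_of_dvd Nat.card_pos h; omega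
    have hrB : ¬ r ∣ Nat.card B := fun h => by
      have := Nat.le_of_dvd Nat.card_pos h; omega
    obtain ⟨MA, hMA, hfA⟩ := Cfsg.Agent.Transfer.FrobField.exists_fpf_module hFA r hrA
    obtain ⟨MB, hMB, hfB⟩ := Cfsg.Agent.Transfer.FrobField.exists_fpf_module hFB r hrB
    let F := ZMod r
    let VA := MonoidAlgebra F A ⧸ MA
    let VB := MonoidAlgebra F B ⧸ MB
    let ρA : A →* Module.End F VA :=
      { toFun := fun g =>
          { toFun := fun v => MonoidAlgebra.single g (1 : F) • v
            map_add' := smul_add _
            map_smul' := fun c v => (smul_comm (MonoidAlgebra.single g (1 : F)) c v) }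
        map_one' := LinearMap.ext fun v => one_smul _ v
        map_mul' := fun g g' => LinearMap.ext fun v => by
          show MonoidAlgebra.single (g * g') (1 : F) • v = _
          rw [show MonoidAlgebra.single (g * g') (1 : F) = MonoidAlgebra.single g 1 * MonoidAlgebra.single g' 1 by
            rw [MonoidAlgebra.single_mul_single, one_mul], mul_smul]
          rfl }
    let ρB : B →* Module.End F VB :=
      { toFun := fun g =>
          { toFun := fun v => MonoidAlgebra.single g (1 : F) • v
            map_add' := smul_add _
            map_smul' := fun c v => (smul_comm (MonoidAlgebra.single g (1 : F)) c v) }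
        map_one' := LinearMap.ext fun v => one_smul _ v
        map_mul' := fun g g' => LinearMap.ext fun v => by
          show MonoidAlgebra.single (g * g') (1 : F) • v = _
          rw [show MonoidAlgebra.single (g * g') (1 : F) = MonoidAlgebra.single g 1 * MonoidAlgebra.single g' 1 by
            rw [MonoidAlgebra.single_mul_single, one_mul], mul_smul]
          rfl }
    let K := Multiplicative (VB →ₗ[F] VA)
    haveI : Module.Finite F VA := inferInstance
    haveI : Module.Finite F VB := inferInstance
    haveI : Finite (MonoidAlgebra F A) := Module.finite_of_finite F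
    haveI : Finite (MonoidAlgebra F B) := Module.finite_of_finite F
    haveI : Finite VA := Quotient.finite _
    haveI : Finite VB := Quotient.finite _
    haveI : Finite (VB →ₗ[F] VA) := Finite.of_injective (fun f => (f : VB → VA)) DFunLike.coe_injective
    haveI : Finite K := inferInstanceAs (Finite (VB →ₗ[F] VA))
    haveI : Nontrivial (VB →ₗ[F] VA) := by
      obtain ⟨v, hv⟩ := exists_ne (0 : VB)
      obtain ⟨w, hw⟩ := exists_ne (0 : VA)
      obtain ⟨f, hf⟩ : ∃ f : Module.Dual F VB, f v ≠ 0 := by
        by_contra h
        push Not at h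
        exact hv ((Module.forall_dual_apply_eq_zero_iff F v).1 h)
      refine ⟨⟨f.smulRight w, 0, fun e => ?_⟩⟩
      have := LinearMap.congr_fun e v
      simp [hf, hw] at this
    haveI : Nontrivial K := inferInstanceAs (Nontrivial (VB →ₗ[F] VA))
    let act : A × B → K → K := fun g v => Multiplicative.ofAdd ((ρA g.1).comp (v.toAdd.comp (ρB g.2⁻¹)))
    have hone : ∀ v, act 1 v = v := fun v => Multiplicative.toAdd.injective (LinearMap.ext fun x => by
      simp [act])
    have hmul : ∀ g g' v, act (g * g') v = act g (act g' v) := fun g g' v =>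
      Multiplicative.toAdd.injective (LinearMap.ext fun x => by simp [act, map_mul])
    let φ : A × B →* MulAut K :=
      { toFun := fun g =>
          { toFun := act g
            invFun := act g⁻¹
            left_inv := fun v => by rw [← hmul, inv_mul_cancel, hone]
            right_inv := fun v => by rw [← hmul, mul_inv_cancel, hone]
            map_mul' := fun v w => Multiplicative.toAdd.injective (LinearMap.ext fun x => by
              show ρA g.1 ((v.toAdd + w.toAdd) (ρB g.2⁻¹ x)) = ρA g.1 (v.toAdd (ρB g.2⁻¹ x)) + ρA g.1 (w.toAdd (ρB g.2⁻¹ x))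
              rw [LinearMap.add_apply, map_add]) }
        map_one' := MulEquiv.ext hone
        map_mul' := fun g g' => MulEquiv.ext (hmul g g') }
    obtain ⟨L, iG, iF, C, hC, e, -⟩ := Cfsg.Agent.Transfer.FrobField.exists_frobenius φ (fun g hg v hv => by
      -- a power of `g` lies in one of the factors
      have hv' : act g v = v := hv
      have hpow : ∀ k : ℕ, act (g ^ k) v = v := by
        intro k
        induction k with
        | zero => rw [pow_zero]; exact hone v
        | succ k ih => rw [pow_succ, hmul, hv', ih]
      have hA : ∀ a : A, a ≠ 1 → act (a, 1) v = v → v = 1 := fun a ha h => by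
        refine Multiplicative.toAdd.injective (LinearMap.ext fun x => hfA a ha _ ?_)
        simpa [act, ρA] using LinearMap.congr_fun (congrArg Multiplicative.toAdd h) x
      have hB : ∀ b : B, b ≠ 1 → act (1, b) v = v → v = 1 := fun b hb h => by
        have hs : Function.Surjective ((ρB b⁻¹ - 1 : Module.End F VB) : VB → VB) := Finite.injective_iff_surjective.1 ((injective_iff_map_eq_zero _).2
          fun x hx => hfB b⁻¹ (inv_ne_one.2 hb) x (by simpa [ρB, sub_eq_zero] using hx))
        refine Multiplicative.toAdd.injective (LinearMap.ext fun x => ?_)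
        obtain ⟨z, rfl⟩ := hs x
        have h2 : v.toAdd ((ρB b⁻¹) z) = v.toAdd z := by
          simpa [act, ρA, ← MonoidAlgebra.one_def] using LinearMap.congr_fun (congrArg Multiplicative.toAdd h) z
        simp [map_sub, h2]
      obtain ⟨a, b⟩ := g
      by_cases ha : a = 1
      · subst ha
        exact hB b (fun hb => hg (by rw [hb]; rfl)) hv'
      · refine hA (a ^ Nat.card B) (fun h => ha ?_) ?_
        · exact orderOf_eq_one_iff.1 (Nat.eq_one_of_dvd_coprimes hcop (orderOf_dvd_natCard a) (orderOf_dvd_of_pow_eq_one h))
        · have := hpow (Nat.card B)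
          rwa [Prod.pow_mk, pow_card_eq_one'] at this)
    exact ⟨L, iG, iF, C, hC, e⟩

end Cfsg.Agent.S4292
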