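import Cfsg.Statements.S4293
import Mathlib
import Cfsg.Agent.Lib.Transfer.FrobBuild

set_option maxHeartbeats 1000000
set_option maxRecDepth 8000

set_option autoImplicit false
open Cfsg

namespace Cfsg.Agent.S4293

/-- A nontrivial finite subgroup of the multiplicative group of a division ring occurs as a Frobenius complement of some finite Frobenius group. -/
theorem result {D : Type*} [DivisionRing D] (H : Subgroup Dˣ) [Finite H] (hH : H ≠ ⊥) :
    ∃ (L : Type) (_ : Group L) (_ : Finite L) (C : Subgroup L), Cfsg.IsFrobeniusComplement C ∧ Nonempty (H ≃* C) := by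
  classical
  have : Fintype H := Fintype.ofFinite _
  have : Nontrivial H := (Subgroup.nontrivial_iff_ne_bot H).2 hH
  set Λ : Submodule ℤ D := Submodule.span ℤ (Set.range fun h : H => ((h : Dˣ) : D)) with hΛ
  have hfg : Λ.FG := ⟨Finset.univ.image fun h : H => ((h : Dˣ) : D), by simp [hΛ]⟩
  have h1Λ : (1 : D) ∈ Λ := Submodule.subset_span ⟨1, by simp⟩
  have hstable : ∀ h : H, ∀ v ∈ Λ, ((h : Dˣ) : D) * v ∈ Λ := by
    intro h v hv
    induction hv using Submodule.span_induction with
    | mem x hx =>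
      obtain ⟨k, rfl⟩ := hx
      exact Submodule.subset_span ⟨h * k, by simp⟩
    | zero => simp
    | add x y _ _ ihx ihy => rw [mul_add]; exact Λ.add_mem ihx ihy
    | smul a x _ ih => rw [mul_smul_comm]; exact Λ.smul_mem a ih
  have hmulΛ : ∀ x ∈ Λ, ∀ v ∈ Λ, x * v ∈ Λ := by
    intro x hx
    induction hx using Submodule.span_induction with
    | mem y hy => obtain ⟨k, rfl⟩ := hy; exact hstable k
    | zero => simp
    | add y z _ _ ihy ihz => intro v hv; rw [add_mul]; exact Λ.add_mem (ihy v hv) (ihz v hv)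
    | smul a y _ ih => intro v hv; rw [smul_mul_assoc]; exact Λ.smul_mem a (ih v hv)
  -- the prime
  obtain ⟨q, hq, hqH, hqΛ⟩ : ∃ q : ℕ, q.Prime ∧ ¬ q ∣ Nat.card H ∧ ∀ x ∈ Λ, (q : D) * x ≠ 1 := by
    obtain ⟨r, hr⟩ := CharP.exists D
    rcases CharP.char_is_prime_or_zero D r with hrp | rfl
    · refine ⟨r, hrp, fun hd => ?_, fun x _ => by rw [CharP.cast_eq_zero D r, zero_mul]; exact zero_ne_one⟩
      have := Fact.mk hrp
      obtain ⟨x, hx⟩ := exists_prime_orderOf_dvd_card' (G := H) r hd
      have h1 : ((x : Dˣ) : D) ^ r = 1 := by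
        rw [← Units.val_pow_eq_pow_val, ← SubmonoidClass.coe_pow, ← hx, pow_orderOf_eq_one]; rfl
      have h2 : (((x : Dˣ) : D) - 1) ^ r = 0 := by
        rw [sub_pow_char_of_commute (p := r) (h := Commute.one_right _), h1, one_pow, sub_self]
      have h3 : x = 1 := Subtype.ext (Units.ext (sub_eq_zero.1 (pow_eq_zero_iff hrp.ne_zero |>.1 h2)))
      rw [h3, orderOf_one] at hx
      exact hrp.one_lt.ne hx
    · obtain ⟨q, hq1, hq⟩ := Nat.exists_infinite_primes (Nat.card H + 1)
      refine ⟨q, hq, fun hd => by have := Nat.le_of_dvd Nat.card_pos hd; omega, fun x hx hqx => ?_⟩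
      have : CharZero D := CharP.charP_to_charZero D
      -- `q` is invertible on the lattice, against Nakayama
      have hle : Λ ≤ Ideal.span {(q : ℤ)} • Λ := by
        intro v hv
        have hxv : x * v ∈ Λ := hmulΛ x hx v hv
        have : v = (q : ℤ) • (x * v) := by rw [zsmul_eq_mul, Int.cast_natCast, ← mul_assoc, hqx, one_mul]
        rw [this]
        exact Submodule.smul_mem_smul (Ideal.mem_span_singleton_self _) hxv
      obtain ⟨a, ha, ha'⟩ := Submodule.exists_sub_one_mem_and_smul_eq_zero_of_fg_of_le_smul _ _ hfg hle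
      have h2 := ha' 1 h1Λ
      rw [zsmul_eq_mul, mul_one, Int.cast_eq_zero] at h2
      rw [h2, Ideal.mem_span_singleton] at ha
      have h4 : (q : ℤ) ∣ 1 := by simpa using ha
      have h5 : (q : ℤ) ≤ 1 := Int.le_of_dvd one_pos h4
      have := hq.two_le
      omega
  let q' : Λ →ₗ[ℤ] Λ := (q : ℤ) • LinearMap.id
  let V₀ := Λ ⧸ LinearMap.range q'
  have : Module.Finite ℤ Λ := Module.Finite.iff_fg.2 hfg
  have hqV : ∀ v : V₀, (q : ℤ) • v = 0 := fun v => by
    obtain ⟨v, rfl⟩ := Submodule.Quotient.mk_surjective _ v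
    rw [← Submodule.Quotient.mk_smul, Submodule.Quotient.mk_eq_zero]
    exact ⟨v, rfl⟩
  have hV₀fin : Finite V₀ := Module.finite_of_fg_torsion V₀ (by
    intro v
    exact ⟨⟨(q : ℤ), mem_nonZeroDivisors_of_ne_zero (Int.natCast_ne_zero.2 hq.ne_zero)⟩, hqV v⟩)
  have hV₀nt : Nontrivial V₀ := by
    refine ⟨⟨Submodule.Quotient.mk ⟨1, h1Λ⟩, 0, fun h => ?_⟩⟩
    rw [Submodule.Quotient.mk_eq_zero] at h
    obtain ⟨x, hx⟩ := h
    refine hqΛ x x.2 ?_
    have := congrArg Subtype.val hx
    simpa [q', zsmul_eq_mul] using this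
  let lm : H → (Λ →ₗ[ℤ] Λ) := fun h => (LinearMap.mulLeft ℤ ((h : Dˣ) : D)).restrict (hstable h)
  let mm : H → (V₀ →ₗ[ℤ] V₀) := fun h => Submodule.mapQ _ _ (lm h) (by
    rintro _ ⟨x, rfl⟩
    exact ⟨lm h x, by simp [q', map_zsmul]⟩)
  have hone : ∀ v, mm 1 v = v := fun v => by
    obtain ⟨v, rfl⟩ := Submodule.Quotient.mk_surjective _ v
    show Submodule.Quotient.mk (lm 1 v) = _
    congr 1
    exact Subtype.ext (by simp [lm])
  have hmul : ∀ g h v, mm (g * h) v = mm g (mm h v) := fun g h v => by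
    obtain ⟨v, rfl⟩ := Submodule.Quotient.mk_surjective _ v
    show Submodule.Quotient.mk (lm (g * h) v) = Submodule.Quotient.mk (lm g (lm h v))
    congr 1
    apply Subtype.ext
    show (((g * h : H) : Dˣ) : D) * (v : D) = ((g : Dˣ) : D) * (((h : Dˣ) : D) * (v : D))
    simp [mul_assoc]
  -- move the quotient to the base universe
  let V := Shrink.{0} V₀
  let sV : V ≃+ V₀ := Shrink.addEquiv
  have : Finite V := Finite.of_equiv V₀ sV.symm.toEquiv
  have : Nontrivial V := sV.toEquiv.nontrivial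
  let ρ : H → (Multiplicative V → Multiplicative V) := fun h v =>
    Multiplicative.ofAdd (sV.symm (mm h (sV v.toAdd)))
  have hρ1 : ∀ v, ρ 1 v = v := fun v => by simp [ρ, hone]
  have hρm : ∀ g h v, ρ (g * h) v = ρ g (ρ h v) := fun g h v => by simp [ρ, hmul]
  let φ : H →* MulAut (Multiplicative V) :=
    { toFun := fun h =>
        { toFun := ρ h
          invFun := ρ h⁻¹
          left_inv := fun v => by rw [← hρm, inv_mul_cancel, hρ1]
          right_inv := fun v => by rw [← hρm, mul_inv_cancel, hρ1]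
          map_mul' := fun v w => by simp [ρ] }
      map_one' := MulEquiv.ext hρ1
      map_mul' := fun g h => MulEquiv.ext (hρm g h) }
  refine Cfsg.Agent.Transfer.FrobBuild.exists_frobenius φ fun h hh v hv => ?_
  have h0 : mm h (sV v.toAdd) = sV v.toAdd := by
    have h1 : sV.symm (mm h (sV v.toAdd)) = v.toAdd := congrArg Multiplicative.toAdd hv
    rw [← AddEquiv.apply_symm_apply sV (mm h (sV v.toAdd)), h1]
  obtain ⟨w, hw⟩ := Submodule.Quotient.mk_surjective _ (sV v.toAdd)
  rw [← hw] at h0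
  -- the norm argument
  set m := orderOf h with hm
  have hsum : ∑ i ∈ Finset.range m, (((h : Dˣ) : D)) ^ i = 0 := by
    have hne : ((h : Dˣ) : D) - 1 ≠ 0 := sub_ne_zero.2 fun e => hh (Subtype.ext (Units.ext e))
    have hp : ((h : Dˣ) : D) ^ m = 1 := by
      rw [← Units.val_pow_eq_pow_val, ← SubmonoidClass.coe_pow, pow_orderOf_eq_one]; rfl
    have := mul_geom_sum ((h : Dˣ) : D) m
    rw [hp, sub_self] at this
    exact (mul_eq_zero.1 this).resolve_left hne
  have hfix : ∀ i : ℕ, mm (h ^ i) (Submodule.Quotient.mk w) = Submodule.Quotient.mk w := by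
    intro i
    induction i with
    | zero => rw [pow_zero, hone]
    | succ i ih => rw [pow_succ, hmul, h0, ih]
  have hsum' : ∑ i ∈ Finset.range m, mm (h ^ i) (Submodule.Quotient.mk w) = 0 := by
    have : ∑ i ∈ Finset.range m, lm (h ^ i) w = 0 := by
      apply Subtype.ext
      rw [Submodule.coe_sum]
      simp only [lm, LinearMap.restrict_apply, LinearMap.mulLeft_apply, SubmonoidClass.coe_pow,
        Units.val_pow_eq_pow_val, ← Finset.sum_mul, hsum, zero_mul, ZeroMemClass.coe_zero]
    show ∑ i ∈ Finset.range m, Submodule.Quotient.mk (lm (h ^ i) w) = 0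
    rw [← Submodule.Quotient.mk_zero (LinearMap.range q'), ← this]
    exact (map_sum (Submodule.mkQ (LinearMap.range q')) _ _).symm
  rw [Finset.sum_congr rfl fun i _ => hfix i, Finset.sum_const, Finset.card_range, ← natCast_zsmul] at hsum'
  have hz : Submodule.Quotient.mk w = (0 : V₀) := by
    have hcop : IsCoprime (m : ℤ) (q : ℤ) := by
      rw [Nat.isCoprime_iff_coprime, Nat.coprime_comm, hq.coprime_iff_not_dvd]
      exact fun hd => hqH (hd.trans (orderOf_dvd_natCard h))
    obtain ⟨a, b, hab⟩ := hcop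
    calc (Submodule.Quotient.mk w : V₀) = (1 : ℤ) • (Submodule.Quotient.mk w : V₀) := (one_zsmul _).symm
      _ = a • ((m : ℤ) • (Submodule.Quotient.mk w : V₀)) + b • ((q : ℤ) • (Submodule.Quotient.mk w : V₀)) := by
        rw [← hab, add_smul, mul_smul, mul_smul]
      _ = 0 := by rw [hsum', hqV, smul_zero, smul_zero, add_zero]
  rw [hz] at hw
  exact Multiplicative.toAdd.injective (sV.injective (hw.symm.trans (map_zero sV).symm))

end Cfsg.Agent.S4293
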