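import Cfsg.Statements.S4296
import Cfsg.Agent.Lib.Grp.Zassenhaus.Basics
import Cfsg.Agent.Lib.Grp.Zassenhaus.Square

set_option autoImplicit false
open Cfsg

namespace Cfsg.Agent.S4296

/-- Let H be a Frobenius complement in a finite group, and suppose some Sylow subgroup of H is not cyclic. Then the number of elements of the Frobenius kernel (the identity together with the elements lying in no conjugate of H) is an odd perfect square. -/
theorem result {L : Type*} [Group L] [Finite L] (H : Subgroup L) (hF : Cfsg.IsFrobeniusComplement H)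
    (hZ : ∃ (p : ℕ) (_ : Fact p.Prime) (P : Sylow p H), ¬ IsCyclic P) :
    Odd (Nat.card (Cfsg.frobeniusKernel H)) ∧ IsSquare (Nat.card (Cfsg.frobeniusKernel H)) := by
  classical
  have := Fintype.ofFinite L
  obtain ⟨p, _, P, hP⟩ := hZ
  have h := Grp.Zas.hasFpf_of_complement hF
  rcases h.sylow_cases P with hc | ⟨rfl, n, ⟨φ⟩⟩
  · exact absurd hc hP
  have hn : n ≠ 0 := by
    rintro rfl
    refine hP ?_
    rw [φ.isCyclic, pow_zero]
    refine isCyclic_of_orderOf_eq_card (QuaternionGroup.xa 0) ?_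
    rw [QuaternionGroup.orderOf_xa, Nat.card_eq_fintype_card, QuaternionGroup.card, mul_one]
  obtain ⟨m, rfl⟩ : ∃ m, n = m + 1 := ⟨n - 1, by omega⟩
  have : NeZero (2 ^ (m + 1)) := ⟨by positivity⟩
  set q : ZMod (2 * 2 ^ (m + 1)) := ((2 ^ m : ℕ) : ZMod (2 * 2 ^ (m + 1))) with hq
  set c : ZMod (2 * 2 ^ (m + 1)) := ((2 ^ (m + 1) : ℕ) : ZMod (2 * 2 ^ (m + 1))) with hcd
  have hqq : q + q = c := by rw [hq, hcd, pow_succ, mul_two, Nat.cast_add]
  have hcc : c + c = 0 := by rw [hcd, ← Nat.cast_add, ← two_mul, ZMod.natCast_self]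
  have hc0 : c ≠ 0 := by
    rw [hcd, Ne, ZMod.natCast_eq_zero_iff]
    intro hd
    have hpos : 0 < 2 ^ (m + 1) := by positivity
    have := Nat.le_of_dvd hpos hd
    omega
  let emb : QuaternionGroup (2 ^ (m + 1)) →* H := (P : Subgroup H).subtype.comp φ.symm.toMonoidHom
  have hemb : Function.Injective emb := (Subgroup.subtype_injective _).comp φ.symm.injective
  set i : L := (emb (QuaternionGroup.a q) : L) with hi
  set j : L := (emb (QuaternionGroup.xa 0) : L) with hj
  set z : L := (emb (QuaternionGroup.a c) : L) with hz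
  have hii : i * i = z := by rw [hi, hz, ← Subgroup.coe_mul, ← map_mul, QuaternionGroup.a_mul_a, hqq]
  have hjj : j * j = z := by
    rw [hj, hz, ← Subgroup.coe_mul, ← map_mul, QuaternionGroup.xa_mul_xa]
    simp [hcd]
  have hzz : z * z = 1 := by
    rw [hz, ← Subgroup.coe_mul, ← map_mul, QuaternionGroup.a_mul_a, hcc, ← QuaternionGroup.one_def, map_one,
      Subgroup.coe_one]
  have hij : i * j = z * j * i := by
    rw [hi, hj, hz, ← Subgroup.coe_mul, ← Subgroup.coe_mul, ← Subgroup.coe_mul, ← map_mul, ← map_mul, ← map_mul,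
      QuaternionGroup.a_mul_xa, QuaternionGroup.a_mul_xa, QuaternionGroup.xa_mul_a]
    congr 3
    rw [zero_sub, zero_sub]
    refine neg_eq_iff_add_eq_zero.mpr ?_
    rw [show q + (-c + q) = q + q - c by abel, hqq, sub_self]
  have hz1 : z ≠ 1 := fun e => by
    have : emb (QuaternionGroup.a c) = emb (QuaternionGroup.a 0) := Subtype.ext (by
      rw [← hz, e, ← QuaternionGroup.one_def, map_one, Subgroup.coe_one])
    exact hc0 (QuaternionGroup.a.inj (hemb this))
  have hzH : z ∈ H := hz ▸ SetLike.coe_mem _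
  obtain ⟨K, hK, hKn, -, -⟩ := Grp.frobenius_kernel_spec hF
  let ψ : L →* MulAut K := MulAut.conjNormal
  let σ : K →* K := (ψ z).toMonoidHom
  have hσfix : MonoidHom.FixedPointFree σ := by
    intro x hx
    have hxe : z * (x : L) * z⁻¹ = x := by
      have := congrArg Subtype.val (show ψ z x = x from hx)
      simpa [ψ] using this
    have hxm : (x : L) ∈ K ⊓ H := ⟨x.2, Frob.centralizer_le hF hzH hz1
      (Subgroup.mem_centralizer_singleton_iff.mpr (mul_inv_eq_iff_eq_mul.mp hxe).symm)⟩
    rw [Frob.kernel_inf_eq_bot hK, Subgroup.mem_bot] at hxm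
    exact Subtype.ext hxm
  have hσinv : Function.Involutive σ := fun x => by
    show ψ z (ψ z x) = x
    rw [← MulAut.mul_apply, ← map_mul, hzz, map_one, MulAut.one_apply]
  have hinv : ∀ x, ψ z x = x⁻¹ := fun x => congrFun (hσfix.coe_eq_inv_of_involutive hσinv) x
  have hcard : Nat.card K = Nat.card (Cfsg.frobeniusKernel H) :=
    Nat.card_congr (Equiv.setCongr hK)
  rw [← hcard]
  have hodd : Odd (Nat.card K) := hσfix.odd_card_of_involutive hσinv
  refine ⟨hodd, ?_⟩
  letI : CommGroup K := { (inferInstance : Group K) with mul_comm := hσfix.commute_all_of_involutive hσinv }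
  have hneg : ∀ g g' : L, g * g' = z → ∀ x : Additive K,
      MonoidHom.toAdditive (ψ g).toMonoidHom (MonoidHom.toAdditive (ψ g').toMonoidHom x) = -x := by
    intro g g' e x
    refine congrArg Additive.ofMul (?_ : ψ g (ψ g' (Additive.toMul x)) = (Additive.toMul x)⁻¹)
    rw [← MulAut.mul_apply, ← map_mul, e, hinv]
  have : Finite (Additive K) := inferInstanceAs (Finite K)
  refine Grp.Zas.isSquare_card_of_quaternion (A := Additive K) hodd
    (MonoidHom.toAdditive (ψ i).toMonoidHom) (MonoidHom.toAdditive (ψ j).toMonoidHom) (hneg i i hii) (hneg j j hjj)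
    fun x => congrArg Additive.ofMul (?_ : ψ i (ψ j (Additive.toMul x)) = (ψ j (ψ i (Additive.toMul x)))⁻¹)
  rw [← hinv, ← MulAut.mul_apply, ← MulAut.mul_apply, ← MulAut.mul_apply, ← map_mul, ← map_mul, ← map_mul, hij]

end Cfsg.Agent.S4296
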