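import Cfsg.Statements.S4295
import Mathlib
import Cfsg.Agent.S4296
import Cfsg.Agent.Lib.Recog.Frobenius
import Cfsg.Agent.Lib.Transfer.FrobField

set_option maxHeartbeats 1000000
set_option maxRecDepth 8000

set_option autoImplicit false
open Cfsg

namespace Cfsg.Agent.S4295

/-- For a natural number m the following are equivalent: (a) some finite group has a Frobenius complement isomorphic to the quaternion group of order 8 whose Frobenius kernel (the identity together with the elements lying in no conjugate of the complement) has exactly m elements; (b) m is an odd perfect square greater than 1. -/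
theorem result (m : ℕ) :
    (∃ (L : Type) (_ : Group L) (_ : Finite L) (H : Subgroup L), Cfsg.IsFrobeniusComplement H ∧
        Nonempty (H ≃* QuaternionGroup 2) ∧ Nat.card (Cfsg.frobeniusKernel H) = m) ↔
    (Odd m ∧ IsSquare m ∧ 1 < m) := by
  classical
  constructor
  · rintro ⟨L, _, _, H, hH, ⟨φ⟩, rfl⟩
    have := Fintype.ofFinite L
    have hP : ∃ (p : ℕ) (_ : Fact p.Prime) (P : Sylow p H), ¬ IsCyclic P := by
      haveI : Fact (Nat.Prime 2) := ⟨Nat.prime_two⟩
      have h8 : Nat.card H = 2 ^ 3 := by
        rw [Nat.card_congr φ.toEquiv, Nat.card_eq_fintype_card, QuaternionGroup.card]; norm_num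
      obtain ⟨P⟩ : Nonempty (Sylow 2 H) := inferInstance
      refine ⟨2, inferInstance, P, fun hc => ?_⟩
      have htop : (P : Subgroup H) = ⊤ := (P.is_maximal' ((IsPGroup.of_card h8).to_subgroup ⊤) le_top).symm
      have h1 : IsCyclic (⊤ : Subgroup H) := htop ▸ hc
      haveI h2 : IsCyclic (QuaternionGroup 2) :=
        ((Subgroup.topEquiv (G := H)).trans φ).isCyclic.1 h1
      obtain ⟨g, g', hgg⟩ : ∃ g g' : QuaternionGroup 2, g * g' ≠ g' * g := by decide
      exact hgg (mul_comm' g g')
    obtain ⟨hodd, hsq⟩ := S4296.result H hH hP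
    refine ⟨hodd, hsq, ?_⟩
    rw [Frob.card_kernel hH]
    have h1 : H.index ≠ 1 := fun e => hH.2.1 (Subgroup.index_eq_one.1 e)
    have h2 : H.index ≠ 0 := Subgroup.index_ne_zero_of_finite
    omega
  · rintro ⟨hodd, ⟨s, rfl⟩, h1⟩
    have hs1 : 1 < s := by
      rcases Nat.lt_or_ge 1 s with h | h
      · exact h
      · interval_cases s <;> omega
    have hsodd : Odd s := Nat.Odd.of_mul_left hodd
    obtain ⟨n, l, hl, hls⟩ : ∃ (n : ℕ) (l : Fin n → ℕ), (∀ i, (l i).Prime) ∧ ∏ i, l i = s :=
      ⟨s.primeFactorsList.length, fun i => s.primeFactorsList.get i,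
        fun i => Nat.prime_of_mem_primeFactorsList (List.get_mem _ i), by
          rw [← List.prod_ofFn, List.ofFn_get, Nat.prod_primeFactorsList (by omega)]⟩
    have hln : ∀ i, NeZero (l i) := fun i => ⟨(hl i).ne_zero⟩
    have hab : ∀ i, ∃ a b : ZMod (l i), a ^ 2 + b ^ 2 = -1 := fun i => by
      haveI := Fact.mk (hl i); exact ZMod.sq_add_sq (l i) (-1)
    choose a b hab using hab
    let R := ∀ i, ZMod (l i)
    have hR : Nat.card R = s := by simp only [R, Nat.card_pi, Nat.card_zmod, hls]
    haveI : Finite R := Nat.finite_of_card_ne_zero (by omega)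
    have habR : (a : R) * a + b * b = -1 := funext fun i => by
      simpa [sq] using hab i
    have hfix : ∀ x : R, -x = x → x = 0 := fun x hx => funext fun i => by
      have h2 : ((2 : ℕ) : ZMod (l i)) * x i = 0 := by
        have : -(x i) = x i := congrFun hx i
        push_cast
        linear_combination -this
      refine (IsUnit.mul_right_eq_zero ((ZMod.isUnit_iff_coprime _ _).2 ?_)).1 h2
      refine (Nat.Prime.coprime_iff_not_dvd Nat.prime_two).2 fun hd => ?_
      have hd2 : 2 ∣ s := hls ▸ hd.trans (Finset.dvd_prod_of_mem _ (Finset.mem_univ i))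
      exact Nat.not_even_iff_odd.2 hsodd (even_iff_two_dvd.2 hd2)
    -- the representation
    let K := Multiplicative (R × R)
    let I : MulAut K := AddEquiv.toMultiplicative
      { toFun := fun v => (-v.2, v.1), invFun := fun v => (v.2, -v.1)
        left_inv := fun v => Prod.ext rfl (neg_neg _), right_inv := fun v => Prod.ext (neg_neg _) rfl
        map_add' := fun v w => by simp [add_comm] }
    let J : MulAut K := AddEquiv.toMultiplicative
      { toFun := fun v => (a * v.1 + b * v.2, b * v.1 - a * v.2)
        invFun := fun v => (-(a * v.1 + b * v.2), -(b * v.1 - a * v.2))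
        left_inv := fun v => Prod.ext (by linear_combination (-v.1) * habR) (by linear_combination (-v.2) * habR)
        right_inv := fun v => Prod.ext (by linear_combination (-v.1) * habR) (by linear_combination (-v.2) * habR)
        map_add' := fun v w => Prod.ext (by simp; ring) (by simp; ring) }
    have hII : ∀ v : K, (I * I) v = v⁻¹ := fun v => rfl
    have hJJ : J * J = I * I := MulEquiv.ext fun v => Multiplicative.toAdd.injective (Prod.ext
      (show a * (a * v.toAdd.1 + b * v.toAdd.2) + b * (b * v.toAdd.1 - a * v.toAdd.2) = -v.toAdd.1 by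
        linear_combination v.toAdd.1 * habR)
      (show b * (a * v.toAdd.1 + b * v.toAdd.2) - a * (b * v.toAdd.1 - a * v.toAdd.2) = -v.toAdd.2 by
        linear_combination v.toAdd.2 * habR))
    have hI4 : I ^ 4 = 1 := MulEquiv.ext fun v => Multiplicative.toAdd.injective (Prod.ext (neg_neg _) (neg_neg _))
    have hIJ : I * J = J * I⁻¹ := MulEquiv.ext fun v => Multiplicative.toAdd.injective (Prod.ext
      (show -(b * v.toAdd.1 - a * v.toAdd.2) = a * v.toAdd.2 + b * -v.toAdd.1 by ring)
      (show a * v.toAdd.1 + b * v.toAdd.2 = b * v.toAdd.2 - a * -v.toAdd.1 by ring))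
    have hp : ∀ k : ℕ, I ^ k = I ^ ((k : ZMod 4).val) := fun k => by
      rw [ZMod.val_natCast]; exact pow_eq_pow_mod k hI4
    have hadd : ∀ i j : ZMod 4, I ^ (i + j).val = I ^ i.val * I ^ j.val := fun i j => by
      rw [← pow_add, hp (i.val + j.val), Nat.cast_add, ZMod.natCast_zmod_val, ZMod.natCast_zmod_val]
    have hneg : ∀ i : ZMod 4, I ^ (-i).val = (I ^ i.val)⁻¹ := fun i =>
      eq_inv_of_mul_eq_one_left (by rw [← hadd, neg_add_cancel]; rfl)
    have hpJ : ∀ i : ZMod 4, I ^ i.val * J = J * I ^ (-i).val := fun i => by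
      rw [hneg]
      generalize i.val = k
      induction k with
      | zero => simp
      | succ k ih =>
        calc I ^ (k + 1) * J = I ^ k * J * I⁻¹ := by rw [pow_succ, mul_assoc, hIJ, mul_assoc]
          _ = J * (I ^ (k + 1))⁻¹ := by rw [ih, pow_succ', mul_inv_rev, mul_assoc]
    let φ : QuaternionGroup 2 →* MulAut K :=
      { toFun := fun g => match g with
          | QuaternionGroup.a k => I ^ k.val
          | QuaternionGroup.xa k => J * I ^ k.val
        map_one' := rfl
        map_mul' := by
          rintro (i | i) (j | j)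
          · simpa only [QuaternionGroup.a_mul_a] using hadd i j
          · simp only [QuaternionGroup.a_mul_xa]
            rw [← mul_assoc, hpJ, mul_assoc, ← hadd, neg_add_eq_sub]
          · simp only [QuaternionGroup.xa_mul_a]
            rw [mul_assoc, ← hadd]
          · simp only [QuaternionGroup.xa_mul_xa]
            rw [mul_assoc J, ← mul_assoc (I ^ i.val), hpJ, ← mul_assoc, ← mul_assoc, hJJ, mul_assoc (I * I),
              ← hadd, add_sub_assoc, show -i + j = j - i by ring, hadd]
            rfl }
    have hφ2 : φ (QuaternionGroup.a 2) = I * I := rfl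
    have hcases : ∀ g : QuaternionGroup 2, g ≠ 1 → g = QuaternionGroup.a 2 ∨ g * g = QuaternionGroup.a 2 := by
      decide
    haveI : Finite K := inferInstanceAs (Finite (R × R))
    haveI : Nontrivial K := by
      refine Finite.one_lt_card_iff_nontrivial.1 ?_
      show 1 < Nat.card (R × R)
      rw [Nat.card_prod, hR]; exact h1
    obtain ⟨L, iG, iF, C, hC, ⟨e⟩, hcard⟩ := Cfsg.Agent.Transfer.FrobField.exists_frobenius φ (fun g hg v hv => by
      have hv2 : φ (QuaternionGroup.a 2) v = v := by
        rcases hcases g hg with h | h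
        · rw [← h]; exact hv
        · rw [← h, map_mul, MulAut.mul_apply, hv, hv]
      rw [hφ2, hII] at hv2
      exact Multiplicative.toAdd.injective (Prod.ext
        (hfix _ (congrArg (fun w : K => w.toAdd.1) hv2)) (hfix _ (congrArg (fun w : K => w.toAdd.2) hv2))))
    exact ⟨L, iG, iF, C, hC, ⟨e.symm⟩, hcard.trans (by show Nat.card (R × R) = _; rw [Nat.card_prod, hR])⟩

end Cfsg.Agent.S4295
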