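import Cfsg.Statements.S4297
import Mathlib
import Cfsg.Agent.Lib.Transfer.FrobBuild

set_option maxHeartbeats 1000000
set_option maxRecDepth 8000

set_option autoImplicit false
open Cfsg

namespace Cfsg.Agent.S4297

/-- For every n ≥ 2 the dicyclic group of order 4n (generated by an element a of order 2n and an element x with x² = aⁿ and x a x⁻¹ = a⁻¹) occurs as a Frobenius complement of some finite Frobenius group. -/
theorem result (n : ℕ) (hn : 2 ≤ n) :
    ∃ (L : Type) (_ : Group L) (_ : Finite L) (H : Subgroup L), Cfsg.IsFrobeniusComplement H ∧ Nonempty (H ≃* QuaternionGroup n) := by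
  classical
  have : NeZero n := ⟨by omega⟩
  obtain ⟨q, hq, hqn, hq1⟩ := Nat.exists_prime_gt_modEq_one (k := 2 * n) (4 * n) (by omega)
  have := Fact.mk hq
  obtain ⟨u, hu⟩ := IsCyclic.exists_generator (α := (ZMod q)ˣ)
  have hd : 2 * n ∣ q - 1 := (Nat.modEq_iff_dvd' hq.one_le).1 hq1.symm
  have hu' : orderOf u = q - 1 := by
    rw [orderOf_eq_card_of_forall_mem_zpowers hu, Nat.card_eq_fintype_card, ZMod.card_units]
  set z := u ^ ((q - 1) / (2 * n)) with hz
  have hzo : orderOf z = 2 * n := by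
    have := orderOf_pow_orderOf_div (x := u) (n := 2 * n) (by rw [hu']; have := hq.two_le; omega) (hu' ▸ hd)
    rwa [hu'] at this
  -- the character `i ↦ z ^ i`
  let ζ : ZMod (2 * n) → ZMod q := fun i => ((z ^ i.val : (ZMod q)ˣ) : ZMod q)
  have hζadd : ∀ i j, ζ (i + j) = ζ i * ζ j := fun i j => by
    simp only [ζ, ← Units.val_mul, ← pow_add]
    congr 1
    have := pow_mod_orderOf z (i.val + j.val)
    rw [hzo] at this
    rw [ZMod.val_add]
    exact this
  have hζ0 : ζ 0 = 1 := by simp [ζ]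
  have hζinj : ∀ i, ζ i = 1 → i = 0 := fun i hi => by
    have h1 : z ^ i.val = 1 := Units.ext hi
    have h2 := orderOf_dvd_of_pow_eq_one h1
    rw [hzo] at h2
    have h3 := Nat.eq_zero_of_dvd_of_lt h2 (ZMod.val_lt i)
    exact (ZMod.val_eq_zero i).1 h3
  have hn1 : ζ (n : ZMod (2 * n)) = -1 := by
    have hsq : ζ (n : ZMod (2 * n)) * ζ (n : ZMod (2 * n)) = 1 := by
      rw [← hζadd, ← Nat.cast_add, ← two_mul, ZMod.natCast_self, hζ0]
    rcases mul_self_eq_one_iff.1 hsq with h | h
    · exfalso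
      have := hζinj _ h
      rw [ZMod.natCast_eq_zero_iff] at this
      have := Nat.le_of_dvd (by omega) this
      omega
    · exact h
  let F : QuaternionGroup n → Matrix (Fin 2) (Fin 2) (ZMod q) := fun g =>
    match g with
    | .a i => !![ζ i, 0; 0, ζ (-i)]
    | .xa i => !![0, ζ (-i); -ζ i, 0]
  have hdet : ∀ g, (F g).det = 1 := by
    rintro (i | i) <;> simp only [F, Matrix.det_fin_two_of] <;> ring_nf <;> rw [← hζadd] <;> simp [hζ0]
  have hF : ∀ g h, F (g * h) = F g * F h := by
    rintro (i | i) (j | j)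
    · show F (.a (i + j)) = _
      simp [F, hζadd, neg_add, Matrix.mul_fin_two, mul_comm]
    · show F (.xa (j - i)) = _
      simp [F, hζadd, sub_eq_add_neg, neg_add, Matrix.mul_fin_two, mul_comm]
    · show F (.xa (i + j)) = _
      simp [F, hζadd, neg_add, Matrix.mul_fin_two, mul_comm]
    · show F (.a ((n : ZMod (2 * n)) + j - i)) = _
      have hnn : -(n : ZMod (2 * n)) = (n : ZMod (2 * n)) := by
        rw [neg_eq_iff_add_eq_zero, ← Nat.cast_add, ← two_mul, ZMod.natCast_self]
      simp [F, hζadd, sub_eq_add_neg, neg_add, hnn, hn1, Matrix.mul_fin_two, mul_comm]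
  let f : QuaternionGroup n →* Matrix.SpecialLinearGroup (Fin 2) (ZMod q) :=
    MonoidHom.mk' (fun g => ⟨F g, hdet g⟩) fun g h => Subtype.ext (hF g h)
  have hf : Function.Injective f := (injective_iff_map_eq_one f).2 fun g hg => by
    have h0 : F g = 1 := congrArg Subtype.val hg
    have e1 := congrFun (congrFun h0 0) 0
    rcases g with i | i
    · rw [hζinj i (by simpa [F] using e1)]; rfl
    · simp [F] at e1
  have hcard : Nat.card (QuaternionGroup n) = 4 * n := by rw [Nat.card_eq_fintype_card, QuaternionGroup.card]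
  obtain ⟨L, i1, i2, C, hC, ⟨e⟩⟩ := Cfsg.Agent.Transfer.FrobBuild.exists_frobenius_sl2 (p := q)
    (fun h => by have := Nat.le_of_dvd (by omega) (hcard ▸ h); omega) f hf
  exact ⟨L, i1, i2, C, hC, ⟨e.symm⟩⟩

end Cfsg.Agent.S4297
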