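import Cfsg.Statements.S4298
import Mathlib
import Cfsg.Agent.Lib.Transfer.FrobBuild

set_option maxHeartbeats 1000000
set_option maxRecDepth 8000

set_option autoImplicit false
open Cfsg

namespace Cfsg.Agent.S4298

/-- The table is multiplicative on matrices of determinant one. -/
theorem table_mul : ∀ a b c d : ZMod 3, a * d - b * c = 1 → ∀ e f g h : ZMod 3, e * h - f * g = 1 →
    (let t := fun a b c d : ZMod 3 => Cfsg.Agent.Transfer.FrobBuild.table (a.val * 27 + b.val * 9 + c.val * 3 + d.val)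
     let x := t a b c d
     let y := t e f g h
     t (a * e + b * g) (a * f + b * h) (c * e + d * g) (c * f + d * h) =
       (x.1 * y.1 + x.2.1 * y.2.2.1, x.1 * y.2.1 + x.2.1 * y.2.2.2,
         x.2.2.1 * y.1 + x.2.2.2 * y.2.2.1, x.2.2.1 * y.2.1 + x.2.2.2 * y.2.2.2)) := by
  decide +kernel

theorem table_det : ∀ a b c d : ZMod 3, a * d - b * c = 1 →
    (let x := Cfsg.Agent.Transfer.FrobBuild.table (a.val * 27 + b.val * 9 + c.val * 3 + d.val)
     x.1 * x.2.2.2 - x.2.1 * x.2.2.1 = 1 ∧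
       (x = ((1 : ZMod 5), (0 : ZMod 5), (0 : ZMod 5), (1 : ZMod 5)) → a = 1 ∧ b = 0 ∧ c = 0 ∧ d = 1)) := by
  decide +kernel

/-- The group SL(2,3) of order 24 (the binary tetrahedral group) occurs as a Frobenius complement of some finite Frobenius group. -/
theorem result :
    ∃ (L : Type) (_ : Group L) (_ : Finite L) (H : Subgroup L), Cfsg.IsFrobeniusComplement H ∧ Nonempty (H ≃* Matrix.SpecialLinearGroup (Fin 2) (ZMod 3)) := by

  open Matrix in
  haveI : Fact (Nat.Prime 5) := ⟨Nat.prime_five⟩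
  let T : Matrix.SpecialLinearGroup (Fin 2) (ZMod 3) → ZMod 5 × ZMod 5 × ZMod 5 × ZMod 5 := fun g =>
    Cfsg.Agent.Transfer.FrobBuild.table ((g 0 0).val * 27 + (g 0 1).val * 9 + (g 1 0).val * 3 + (g 1 1).val)
  have hdet : ∀ g : Matrix.SpecialLinearGroup (Fin 2) (ZMod 3), g 0 0 * g 1 1 - g 0 1 * g 1 0 = 1 := fun g => by
    rw [← Matrix.det_fin_two]; exact g.2
  let F : Matrix.SpecialLinearGroup (Fin 2) (ZMod 3) → Matrix.SpecialLinearGroup (Fin 2) (ZMod 5) := fun g =>
    ⟨!![(T g).1, (T g).2.1; (T g).2.2.1, (T g).2.2.2], by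
      rw [Matrix.det_fin_two_of]; exact (table_det _ _ _ _ (hdet g)).1⟩
  let f : Matrix.SpecialLinearGroup (Fin 2) (ZMod 3) →* Matrix.SpecialLinearGroup (Fin 2) (ZMod 5) :=
    MonoidHom.mk' F fun g h => by
      have := table_mul _ _ _ _ (hdet g) _ _ _ _ (hdet h)
      simp only at this
      apply Subtype.ext
      have hT : T (g * h) = _ := (by
        simp only [T, Matrix.SpecialLinearGroup.coe_mul, Matrix.mul_apply, Fin.sum_univ_two]
        exact this)
      show !![(T (g * h)).1, (T (g * h)).2.1; (T (g * h)).2.2.1, (T (g * h)).2.2.2] = (F g).1 * (F h).1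
      rw [hT]
      show _ = !![(T g).1, (T g).2.1; (T g).2.2.1, (T g).2.2.2] * !![(T h).1, (T h).2.1; (T h).2.2.1, (T h).2.2.2]
      rw [Matrix.mul_fin_two]
  have hf : Function.Injective f := (injective_iff_map_eq_one f).2 fun g hg => by
    have h0 : (F g).1 = 1 := congrArg Subtype.val hg
    have e1 := congrFun (congrFun h0 0) 0
    have e2 := congrFun (congrFun h0 0) 1
    have e3 := congrFun (congrFun h0 1) 0
    have e4 := congrFun (congrFun h0 1) 1
    obtain ⟨a1, a2, a3, a4⟩ := (table_det _ _ _ _ (hdet g)).2 (Prod.ext (by simpa [F, T] using e1)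
      (Prod.ext (by simpa [F, T] using e2) (Prod.ext (by simpa [F, T] using e3) (by simpa [F, T] using e4))))
    apply Subtype.ext
    ext i j
    fin_cases i <;> fin_cases j <;> simp [a1, a2, a3, a4]
  have h24 : Nat.card (Matrix.SpecialLinearGroup (Fin 2) (ZMod 3)) = 24 := by
    rw [Nat.card_eq_fintype_card]
    decide +kernel
  haveI : Nontrivial (Matrix.SpecialLinearGroup (Fin 2) (ZMod 3)) := by
    rw [← Finite.one_lt_card_iff_nontrivial, h24]; norm_num
  obtain ⟨L, i1, i2, C, hC, ⟨e⟩⟩ :=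
    Cfsg.Agent.Transfer.FrobBuild.exists_frobenius_sl2 (p := 5) (by rw [h24]; norm_num) f hf
  exact ⟨L, i1, i2, C, hC, ⟨e.symm⟩⟩

end Cfsg.Agent.S4298
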