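import Cfsg.Statements.S4299
import Mathlib
import Cfsg.Agent.Lib.Transfer.FrobBuild

set_option maxHeartbeats 1000000
set_option maxRecDepth 8000

set_option autoImplicit false
open Cfsg

namespace Cfsg.Agent.S4299

/-- Every nontrivial finite cyclic group occurs as a Frobenius complement of some finite Frobenius group. -/
theorem result {C : Type*} [Group C] [Finite C] [IsCyclic C] [Nontrivial C] :
    ∃ (L : Type) (_ : Group L) (_ : Finite L) (H : Subgroup L), Cfsg.IsFrobeniusComplement H ∧ Nonempty (C ≃* H) := by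
  classical
  set m := Nat.card C with hm
  have hm0 : m ≠ 0 := Nat.card_pos.ne'
  obtain ⟨q, hq, -, hq1⟩ := Nat.exists_prime_gt_modEq_one (k := m) 1 hm0
  have := Fact.mk hq
  obtain ⟨u, hu⟩ := IsCyclic.exists_generator (α := (ZMod q)ˣ)
  have hd : m ∣ q - 1 := (Nat.modEq_iff_dvd' hq.one_le).1 hq1.symm
  have hu' : orderOf u = q - 1 := by
    rw [orderOf_eq_card_of_forall_mem_zpowers hu, Nat.card_eq_fintype_card, ZMod.card_units]
  set z := u ^ ((q - 1) / m) with hz
  have hzo : orderOf z = m := by
    have := orderOf_pow_orderOf_div (x := u) (n := m) (by rw [hu']; have := hq.two_le; omega) (hu' ▸ hd)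
    rwa [hu'] at this
  set Z := Subgroup.zpowers z
  let e : C ≃* Z := mulEquivOfCyclicCardEq (by rw [Nat.card_zpowers, hzo])
  let φ : C →* MulAut (Multiplicative (ZMod q)) :=
    { toFun := fun c => AddEquiv.toMultiplicative (DistribMulAction.toAddEquiv (ZMod q) ((e c : (ZMod q)ˣ)))
      map_one' := by ext v; simp
      map_mul' := fun a b => by ext v; simp [mul_assoc, Units.smul_def] }
  obtain ⟨L, i1, i2, H, hH, ⟨f⟩⟩ := Cfsg.Agent.Transfer.FrobBuild.exists_frobenius φ fun c hc v hv => by
    by_contra hv1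
    apply hc
    apply e.injective
    rw [map_one]
    apply Subtype.ext
    apply Units.ext
    have h1 : ((e c : (ZMod q)ˣ) : ZMod q) * v.toAdd = v.toAdd := congrArg Multiplicative.toAdd hv
    have h2 : v.toAdd ≠ 0 := fun h => hv1 (Multiplicative.toAdd.injective h)
    simpa using mul_right_cancel₀ h2 (h1.trans (one_mul _).symm)
  exact ⟨L, i1, i2, H, hH, ⟨f⟩⟩

end Cfsg.Agent.S4299
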