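import Cfsg.Statements.S4300
import Mathlib

set_option maxHeartbeats 1000000
set_option maxRecDepth 8000

set_option autoImplicit false
open Cfsg
open scoped commutatorElement

namespace Cfsg.Agent.S4300

/-- Let G act faithfully and primitively on a set X, and suppose the stabilizer of some point is a simple group. Then either G is simple, or G has a normal subgroup, neither trivial nor the whole group, that acts regularly on X (transitively with trivial point stabilizers). -/
theorem result {G : Type*} [Group G] {X : Type*} [MulAction G X] [FaithfulSMul G X]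
    (hprim : MulAction.IsPreprimitive G X) (x : X) (hsimple : IsSimpleGroup (MulAction.stabilizer G x)) :
    IsSimpleGroup G ∨ ∃ N : Subgroup G, N.Normal ∧ N ≠ ⊥ ∧ N ≠ ⊤ ∧
      MulAction.IsPretransitive N X ∧ ∀ y : X, MulAction.stabilizer N y = ⊥ := by
  haveI := hprim
  haveI := hsimple
  haveI : Nontrivial G := by
    obtain ⟨a, b, hab⟩ := exists_pair_ne (MulAction.stabilizer G x)
    exact ⟨⟨a, b, fun h => hab (Subtype.ext h)⟩⟩
  by_cases hs : IsSimpleGroup G
  · exact Or.inl hs
  refine Or.inr ?_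
  have hex : ∃ N : Subgroup G, N.Normal ∧ N ≠ ⊥ ∧ N ≠ ⊤ := by
    by_contra hno
    refine hs { eq_bot_or_eq_top_of_normal := fun N hN => ?_ }
    by_contra h
    exact hno ⟨N, hN, fun h1 => h (Or.inl h1), fun h2 => h (Or.inr h2)⟩
  obtain ⟨N, hN, hNb, hNt⟩ := hex
  haveI := hN
  have htr : MulAction.IsPretransitive N X := by
    refine MulAction.IsQuasiPreprimitive.isPretransitive_of_normal fun h => hNb ?_
    refine (Subgroup.eq_bot_iff_forall N).2 fun g hg => FaithfulSMul.eq_of_smul_eq_smul (α := X) fun y => ?_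
    rw [one_smul]
    exact (Set.ext_iff.1 h y).2 trivial ⟨g, hg⟩
  have hNx : N.subgroupOf (MulAction.stabilizer G x) = ⊥ := by
    rcases IsSimpleGroup.eq_bot_or_eq_top_of_normal _ (hN.subgroupOf (MulAction.stabilizer G x)) with h | h
    · exact h
    · refine absurd (eq_top_iff.2 fun g _ => ?_) hNt
      rw [Subgroup.subgroupOf_eq_top] at h
      obtain ⟨⟨n, hn⟩, hng⟩ := MulAction.exists_smul_eq N x (g • x)
      have hst : n⁻¹ * g ∈ N := h (MulAction.mem_stabilizer_iff.2 (by rw [mul_smul, inv_smul_eq_iff]; exact hng.symm))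
      simpa using mul_mem hn hst
  refine ⟨N, hN, hNb, hNt, htr, fun y => (Subgroup.eq_bot_iff_forall _).2 fun ⟨n, hn⟩ hny => ?_⟩
  obtain ⟨⟨m, hm⟩, rfl⟩ := MulAction.exists_smul_eq N x y
  have hny' : n • m • x = m • x := hny
  have h1 : m⁻¹ * n * m ∈ MulAction.stabilizer G x := by
    rw [MulAction.mem_stabilizer_iff, mul_smul, mul_smul, hny', inv_smul_smul]
  have h2 : (⟨_, h1⟩ : MulAction.stabilizer G x) ∈ N.subgroupOf (MulAction.stabilizer G x) :=
    Subgroup.mem_subgroupOf.2 (mul_mem (mul_mem (inv_mem hm) hn) hm)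
  rw [hNx, Subgroup.mem_bot] at h2
  have h3 : m⁻¹ * n * m = 1 := congrArg Subtype.val h2
  refine Subtype.ext ?_
  show n = 1
  calc n = m * (m⁻¹ * n * m) * m⁻¹ := by group
    _ = 1 := by rw [h3]; group

end Cfsg.Agent.S4300
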