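import Cfsg.Statements.S4301
import Mathlib

set_option maxHeartbeats 1000000
set_option maxRecDepth 8000

set_option autoImplicit false
open Cfsg

namespace Cfsg.Agent.S4301

/-- One-point extension of a multiply transitive group. Let X be a set and G a group of permutations of Option X (the set X with one extra point ∗ = none) all of whose elements fix ∗, such that G is k-transitive on the points of X for some k ≥ 2, X having at least k points. Suppose a permutation h of Option X and an element g of G satisfy: h interchanges ∗ with a point x of X and fixes a point y of X; g interchanges x and y; (g h)³ and h² lie in G; and for every f in G fixing x, the product h f h lies in G and fixes x. Then an element of the group generated by G and h fixes ∗ exactly when it lies in G, and that group acts (k+1)-transitively on Option X. -/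
theorem result {X : Type*} (G : Subgroup (Equiv.Perm (Option X))) (hfix : ∀ f ∈ G, f none = none)
    (k : ℕ) (hk : 2 ≤ k) (hkX : Nonempty (Fin k ↪ X))
    (htrans : ∀ a b : Fin k ↪ X, ∃ f ∈ G, ∀ i, f (some (a i)) = some (b i))
    (h g : Equiv.Perm (Option X)) (hg : g ∈ G) (x y : X)
    (h1 : h none = some x) (h2 : h (some x) = none) (h3 : h (some y) = some y)
    (h4 : g (some x) = some y) (h5 : g (some y) = some x)
    (h6 : (g * h) ^ 3 ∈ G) (h7 : h ^ 2 ∈ G)
    (h8 : ∀ f ∈ G, f (some x) = some x → h * f * h ∈ G ∧ (h * f * h) (some x) = some x) :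
    (∀ f ∈ Subgroup.closure ((G : Set (Equiv.Perm (Option X))) ∪ {h}), f none = none ↔ f ∈ G) ∧
      MulAction.IsMultiplyPretransitive (Subgroup.closure ((G : Set (Equiv.Perm (Option X))) ∪ {h})) (Option X) (k + 1) := by
  classical
  obtain ⟨e⟩ := hkX
  have hpair : ∀ u v : X, u ≠ v → ∃ a : Fin k ↪ X, a ⟨0, by omega⟩ = u ∧ a ⟨1, by omega⟩ = v := by
    intro u v huv
    set e1 := e.trans (Equiv.swap (e ⟨0, by omega⟩) u).toEmbedding with he1
    have h10 : e1 ⟨0, by omega⟩ = u := Equiv.swap_apply_left _ _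
    refine ⟨e1.trans (Equiv.swap (e1 ⟨1, by omega⟩) v).toEmbedding, ?_, Equiv.swap_apply_left _ _⟩
    show Equiv.swap (e1 ⟨1, by omega⟩) v (e1 ⟨0, by omega⟩) = u
    refine (Equiv.swap_apply_of_ne_of_ne (fun h => ?_) (h10.symm ▸ huv)).trans h10
    have := e1.injective h
    simp [Fin.ext_iff] at this
  have hxy : x ≠ y := fun h => by rw [← h, h2] at h3; exact Option.some_ne_none x h3.symm
  have htwo : ∀ t : X, t ≠ x → ∃ f ∈ G, f (some x) = some x ∧ f (some y) = some t := fun t ht => by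
    obtain ⟨a, ha0, ha1⟩ := hpair x y hxy
    obtain ⟨b, hb0, hb1⟩ := hpair x t ht.symm
    obtain ⟨f, hf, hfab⟩ := htrans a b
    exact ⟨f, hf, by have := hfab ⟨0, by omega⟩; rwa [ha0, hb0] at this,
      by have := hfab ⟨1, by omega⟩; rwa [ha1, hb1] at this⟩
  have hh2x : (h ^ 2) (some x) = some x := by rw [pow_two, Equiv.Perm.mul_apply, h2, h1]
  have hi : h⁻¹ = (h ^ 2)⁻¹ * h := by rw [pow_two, mul_inv_rev, inv_mul_cancel_right]
  have hi' : h⁻¹ = h * (h ^ 2)⁻¹ := by rw [pow_two, mul_inv_rev, mul_inv_cancel_left]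
  let E : Set (Equiv.Perm (Option X)) := {w | w ∈ G ∨ ∃ a ∈ G, ∃ b ∈ G, w = a * h * b}
  have hEl : ∀ a ∈ G, ∀ w ∈ E, a * w ∈ E := by
    rintro a ha w (hw | ⟨c, hc, d, hd, rfl⟩)
    · exact Or.inl (G.mul_mem ha hw)
    · exact Or.inr ⟨a * c, G.mul_mem ha hc, d, hd, by group⟩
  have hEr : ∀ a ∈ G, ∀ w ∈ E, w * a ∈ E := by
    rintro a ha w (hw | ⟨c, hc, d, hd, rfl⟩)
    · exact Or.inl (G.mul_mem hw ha)
    · exact Or.inr ⟨c, hc, d * a, G.mul_mem hd ha, by group⟩
  have hgh : h * g * h ∈ E := by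
    refine Or.inr ⟨g⁻¹ * (g * h) ^ 3 * (h ^ 2)⁻¹, G.mul_mem (G.mul_mem (G.inv_mem hg) h6) (G.inv_mem h7), g⁻¹, G.inv_mem hg, ?_⟩
    have h0 : h * g * h = g⁻¹ * (g * h) ^ 3 * h⁻¹ * g⁻¹ := by
      rw [pow_succ, pow_two]; group
    rw [h0, hi]; group
  have hhfh : ∀ f ∈ G, h * f * h ∈ E := by
    intro f hf
    by_cases hfx : f (some x) = some x
    · exact Or.inl (h8 f hf hfx).1
    obtain ⟨t, ht⟩ : ∃ t, f (some x) = some t := Option.ne_none_iff_exists'.1 fun he =>
      Option.some_ne_none x (f.injective (he.trans (hfix f hf).symm))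
    obtain ⟨f₁, hf₁, hf₁x, hf₁y⟩ := htwo t (fun he => hfx (by rw [ht, he]))
    set f₂ := g⁻¹ * f₁⁻¹ * f with hf₂
    have hf₂G : f₂ ∈ G := G.mul_mem (G.mul_mem (G.inv_mem hg) (G.inv_mem hf₁)) hf
    have hf₂x : f₂ (some x) = some x := by
      rw [hf₂, Equiv.Perm.mul_apply, Equiv.Perm.mul_apply, ht, ← hf₁y]
      simp only [Equiv.Perm.coe_inv, Equiv.symm_apply_apply]
      rw [← h4, Equiv.symm_apply_apply]
    have hdec : h * f * h = ((h * f₁ * h) * (h ^ 2)⁻¹) * (h * g * h) * ((h ^ 2)⁻¹ * (h * f₂ * h)) := by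
      have : f = f₁ * g * f₂ := by rw [hf₂]; group
      rw [this, pow_two]; group
    rw [hdec]
    exact hEr _ (G.mul_mem (G.inv_mem h7) (h8 f₂ hf₂G hf₂x).1) _
      (hEl _ (G.mul_mem (h8 f₁ hf₁ hf₁x).1 (G.inv_mem h7)) _ hgh)
  set W := Subgroup.closure ((G : Set (Equiv.Perm (Option X))) ∪ {h}) with hW
  have hWE : ∀ w ∈ W, w ∈ E := by
    let S : Subgroup (Equiv.Perm (Option X)) :=
      { carrier := E
        one_mem' := Or.inl (one_mem G)
        mul_mem' := by
          rintro u w hu hw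
          rcases hu with hu | ⟨a, ha, b, hb, rfl⟩
          · exact hEl u hu w hw
          rcases hw with hw | ⟨c, hc, d, hd, rfl⟩
          · exact hEr w hw _ (Or.inr ⟨a, ha, b, hb, rfl⟩)
          · rw [show a * h * b * (c * h * d) = a * (h * (b * c) * h) * d by group]
            exact hEr d hd _ (hEl a ha _ (hhfh _ (G.mul_mem hb hc)))
        inv_mem' := by
          rintro u (hu | ⟨a, ha, b, hb, rfl⟩)
          · exact Or.inl (G.inv_mem hu)
          · refine Or.inr ⟨b⁻¹ * (h ^ 2)⁻¹, G.mul_mem (G.inv_mem hb) (G.inv_mem h7), a⁻¹, G.inv_mem ha, ?_⟩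
            rw [mul_inv_rev, mul_inv_rev, hi]; group }
    have hle : W ≤ S := by
      refine (Subgroup.closure_le _).2 ?_
      rintro w (hw | rfl)
      · exact Or.inl hw
      · exact Or.inr ⟨1, one_mem G, 1, one_mem G, by group⟩
    exact fun w hw => hle hw
  have hGW : G ≤ W := fun w hw => Subgroup.subset_closure (Or.inl hw)
  have hhW : h ∈ W := Subgroup.subset_closure (Or.inr rfl)
  refine ⟨fun f hf => ⟨fun hfn => ?_, hfix f⟩, ⟨fun a b => ?_⟩⟩
  · rcases hWE f hf with hG | ⟨a, ha, b, hb, rfl⟩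
    · exact hG
    · rw [Equiv.Perm.mul_apply, Equiv.Perm.mul_apply, hfix b hb, h1] at hfn
      exact absurd (a.injective (hfn.trans (hfix a ha).symm)) (Option.some_ne_none x)
  · -- move the first entry to `none`, then use `G`
    have hone : ∀ t : X, ∃ f ∈ G, f (some t) = some x := fun t => by
      let a := e.trans (Equiv.swap (e ⟨0, by omega⟩) t).toEmbedding
      let b := e.trans (Equiv.swap (e ⟨0, by omega⟩) x).toEmbedding
      obtain ⟨f, hf, hfab⟩ := htrans a b
      refine ⟨f, hf, ?_⟩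
      have := hfab ⟨0, by omega⟩
      simpa [a, b, Equiv.swap_apply_left] using this
    have hnorm : ∀ c : Fin (k + 1) ↪ Option X, ∃ w ∈ W, ∃ c' : Fin k ↪ X,
        w (c 0) = none ∧ ∀ i : Fin k, w (c i.succ) = some (c' i) := by
      intro c
      obtain ⟨w, hw, hw0⟩ : ∃ w ∈ W, w (c 0) = none := by
        rcases hc0 : c 0 with _ | t
        · exact ⟨1, one_mem _, rfl⟩
        · obtain ⟨f, hf, hft⟩ := hone t
          exact ⟨h * f, mul_mem hhW (hGW hf), by rw [Equiv.Perm.mul_apply, hft, h2]⟩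
      have hne : ∀ i : Fin k, ∃ t, w (c i.succ) = some t := fun i => Option.ne_none_iff_exists'.1 fun he =>
        Fin.succ_ne_zero i (c.injective (w.injective (he.trans hw0.symm)))
      choose c' hc' using hne
      refine ⟨w, hw, ⟨c', fun i j hij => ?_⟩, hw0, hc'⟩
      have h9 : w (c i.succ) = w (c j.succ) := by rw [hc', hc', hij]
      exact Fin.succ_injective _ (c.injective (w.injective h9))
    obtain ⟨u, hu, a', ha0, ha'⟩ := hnorm a
    obtain ⟨v, hv, b', hb0, hb'⟩ := hnorm b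
    obtain ⟨f, hf, hfab⟩ := htrans a' b'
    refine ⟨⟨v⁻¹ * f * u, mul_mem (mul_mem (inv_mem hv) (hGW hf)) hu⟩, ?_⟩
    ext i : 1
    show (v⁻¹ * f * u) (a i) = b i
    rw [Equiv.Perm.mul_apply, Equiv.Perm.mul_apply, Equiv.Perm.inv_eq_iff_eq]
    refine Fin.cases ?_ ?_ i
    · rw [ha0, hfix f hf, hb0]
    · intro j; rw [ha', hfab, hb']

end Cfsg.Agent.S4301
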