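import Cfsg.Statements.S4302
import Cfsg.Agent.Lib.Transfer.OffenderAbelian
import Cfsg.Agent.Lib.Transfer.OffenderFailure
import Cfsg.Agent.Lib.Fus.Replacement
import Cfsg.Agent.Lib.Fus.TransitivityOdd
import Cfsg.Agent.Lib.Recog.LocalConstrained
import Cfsg.Agent.Lib.Grp.Solvable
import Cfsg.Agent.Lib.Grp.SpectrumFour

set_option maxHeartbeats 1000000
set_option maxRecDepth 8000

set_option autoImplicit false
open Cfsg

namespace Cfsg.Agent.S4302

open Cfsg.Agent Cfsg.Agent.Transfer Cfsg.Agent.Transfer.Offender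
open scoped Pointwise

section helpers

variable {X : Type*} [Group X] [Finite X]

theorem sl_two_two : Nonempty (Matrix.SpecialLinearGroup (Fin 2) (ZMod 2) ≃* Equiv.Perm (Fin 3)) := by
  have h6 : Nat.card (Matrix.SpecialLinearGroup (Fin 2) (ZMod 2)) = 6 := by
    rw [Nat.card_eq_fintype_card]; decide
  have h23 : ∀ g : Matrix.SpecialLinearGroup (Fin 2) (ZMod 2), g ^ 2 = 1 ∨ g ^ 3 = 1 := by decide
  refine Cfsg.Agent.Grp.SpectrumFour.perm_three (fun g => ?_) h6
  rcases h23 g with h | h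
  · exact (Nat.le_of_dvd (by norm_num) (orderOf_dvd_of_pow_eq_one h)).trans (by norm_num)
  · exact (Nat.le_of_dvd (by norm_num) (orderOf_dvd_of_pow_eq_one h)).trans (by norm_num)

/-- What centralizes the involutions of the centre of a Sylow `2`-subgroup centralizes the centre. -/
theorem centralizes_center (hc : Subgroup.centralizer (Cfsg.pCore 2 X : Set X) ≤ Cfsg.pCore 2 X)
    (T : Sylow 2 X) (L : Subgroup X) (hTL : (T : Subgroup X) ≤ L)
    (hL : ∀ z ∈ (T : Subgroup X) ⊓ Subgroup.centralizer ((T : Subgroup X) : Set X), z ^ 2 = 1 →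
      ∀ l ∈ L, l * z * l⁻¹ = z) :
    L ≤ Subgroup.centralizer
      (((T : Subgroup X) ⊓ Subgroup.centralizer ((T : Subgroup X) : Set X) : Subgroup X) : Set X) := by
  classical
  haveI : (Cfsg.pCore 2 X).Normal := Grp.pCore_isNormal
  set Z := (T : Subgroup X) ⊓ Subgroup.centralizer ((T : Subgroup X) : Set X) with hZ
  set M := Cfsg.pCore 2 X ⊓ Subgroup.centralizer (Cfsg.pCore 2 X : Set X) with hM
  have hMn : M.Normal := by rw [hM]; infer_instance
  have hZM : Z ≤ M := by
    have h1 : Z ≤ Subgroup.centralizer (Cfsg.pCore 2 X : Set X) :=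
      inf_le_right.trans (Subgroup.centralizer_le (Grp.pCore_le_sylow T))
    exact le_inf (h1.trans hc) h1
  have hMc : ∀ a ∈ M, ∀ b ∈ M, a * b = b * a := fun a ha b hb =>
    Subgroup.mem_centralizer_iff.mp hb.2 a ha.1
  -- induction on the order
  suffices key : ∀ (n : ℕ) (z : X), orderOf z = n → z ∈ Z → ∀ l ∈ L, l * z * l⁻¹ = z from
    fun l hl => Subgroup.mem_centralizer_iff.mpr fun z hz =>
      (mul_inv_eq_iff_eq_mul.mp (key _ z rfl hz l hl)).symm
  intro n
  induction n using Nat.strong_induction_on with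
  | _ n ih =>
  intro z hn hz
  obtain ⟨k, hk⟩ := T.isPGroup' ⟨z, hz.1⟩
  have hk' : z ^ 2 ^ k = 1 := congrArg Subtype.val hk
  by_cases hz2 : z ^ 2 = 1
  · exact hL z hz hz2
  have hlt : orderOf (z ^ 2) < n := by
    obtain ⟨j, -, hj⟩ := (Nat.dvd_prime_pow Nat.prime_two).mp (orderOf_dvd_of_pow_eq_one hk')
    have hj1 : 1 ≤ j := by
      by_contra h
      have : j = 0 := by omega
      rw [this, pow_zero] at hj
      exact hz2 (by rw [orderOf_eq_one_iff.mp hj, one_pow])
    rw [orderOf_pow, ← hn, hj, Nat.gcd_eq_right (dvd_pow_self 2 (by omega))]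
    exact Nat.div_lt_self (pow_pos two_pos j) one_lt_two
  have hsq : ∀ l ∈ L, l * z ^ 2 * l⁻¹ = z ^ 2 := ih _ hlt _ rfl (pow_mem hz 2)
  -- the cocycle
  let f : X → X := fun l => l * z * l⁻¹ * z⁻¹
  have hfM : ∀ l, f l ∈ M := fun l => M.mul_mem (hMn.conj_mem z (hZM hz) l) (M.inv_mem (hZM hz))
  have hf2 : ∀ l ∈ L, f l * f l = 1 := fun l hl => by
    have h1 : l * z * l⁻¹ * z⁻¹ = z⁻¹ * (l * z * l⁻¹) :=
      hMc _ (hMn.conj_mem z (hZM hz) l) _ (M.inv_mem (hZM hz))
    calc f l * f l = (z⁻¹ * (l * z * l⁻¹)) * (l * z * l⁻¹ * z⁻¹) := by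
          show (l * z * l⁻¹ * z⁻¹) * (l * z * l⁻¹ * z⁻¹) = _
          conv_lhs => arg 1; rw [h1]
      _ = z⁻¹ * (l * z ^ 2 * l⁻¹) * z⁻¹ := by rw [sq]; group
      _ = 1 := by rw [hsq l hl, sq]; group
  have hfmul : ∀ a b : X, f (a * b) = a * f b * a⁻¹ * f a := fun a b => by
    simp only [f]; group
  have hfT : ∀ t ∈ (T : Subgroup X), f t = 1 := fun t ht => by
    show t * z * t⁻¹ * z⁻¹ = 1
    rw [Subgroup.mem_centralizer_iff.mp hz.2 t ht]; group
  set T' := (T : Subgroup X).subgroupOf L with hT'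
  haveI := Fintype.ofFinite (L ⧸ T')
  let fM : L → M := fun l => ⟨f l, hfM l⟩
  letI : CommGroup M :=
    { (inferInstance : Group M) with mul_comm := fun a b => Subtype.ext (hMc a a.2 b b.2) }
  have hcos : ∀ l t : L, t ∈ T' → fM (l * t) = fM l := fun l t ht => Subtype.ext (by
    show f ((l : X) * t) = f l
    rw [hfmul, hfT t ht]; group)
  let g : L ⧸ T' → M := fun q => fM q.out
  have hg : ∀ l : L, g (l : L ⧸ T') = fM l := fun l => by
    obtain ⟨t, ht⟩ := QuotientGroup.mk_out_eq_mul T' l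
    show fM _ = _
    rw [ht, hcos l t t.2]
  set w : M := ∏ q, g q with hw
  set m := Fintype.card (L ⧸ T') with hm
  have hmodd : Odd m := by
    rw [Nat.odd_iff, ← Nat.two_dvd_ne_zero, hm, ← Nat.card_eq_fintype_card]
    intro hd
    exact T.not_dvd_index (hd.trans ⟨_, (Subgroup.relIndex_mul_index hTL).symm⟩)
  have hw2 : w ^ 2 = 1 := by
    rw [hw, ← Finset.prod_pow]
    exact Finset.prod_eq_one fun q _ => by
      rw [sq]; exact Subtype.ext (hf2 _ q.out.2)
  -- the translation formula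
  have hconj : ∀ l ∈ L, l * (w : X) * l⁻¹ * (f l) ^ m = w := by
    intro l hl
    let cl : M →* M :=
      { toFun := fun x => ⟨l * x * l⁻¹, hMn.conj_mem x x.2 l⟩
        map_one' := Subtype.ext (by simp)
        map_mul' := fun a b => Subtype.ext (by push_cast; group) }
    have h1 : ∀ q : L ⧸ T', cl (g q) * fM ⟨l, hl⟩ = g ((⟨l, hl⟩ : L) • q) := fun q => by
      rw [← QuotientGroup.out_eq' q, hg, MulAction.Quotient.smul_coe, smul_eq_mul, hg]
      exact Subtype.ext (hfmul l _).symm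
    have h2 : ∏ q, cl (g q) * fM ⟨l, hl⟩ = w := by
      rw [Finset.prod_congr rfl fun q _ => h1 q, hw]
      exact Fintype.prod_equiv (MulAction.toPerm (⟨l, hl⟩ : L)) _ _ fun q => rfl
    rw [Finset.prod_mul_distrib, ← map_prod, Finset.prod_const, Finset.card_univ] at h2
    exact congrArg Subtype.val h2
  have hwT : (w : X) ∈ Z := by
    have hc1 : ∀ t ∈ (T : Subgroup X), t * (w : X) = w * t := fun t ht => by
      have h := hconj t (hTL ht)
      rw [hfT t ht, one_pow, mul_one] at h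
      exact mul_inv_eq_iff_eq_mul.mp h
    exact ⟨Grp.pCore_le_sylow T w.2.1, Subgroup.mem_centralizer_iff.mpr hc1⟩
  intro l hl
  have h := hconj l hl
  have hwfix : l * (w : X) * l⁻¹ = w := hL _ hwT (congrArg Subtype.val hw2) l hl
  rw [hwfix, mul_eq_left] at h
  obtain ⟨r, hr⟩ := hmodd
  rw [hr, pow_succ, pow_mul, sq, hf2 l hl, one_pow, one_mul] at h
  exact mul_inv_eq_one.mp h

/-- The normal core of the centralizer of the centre is the centralizer of `V`. -/
theorem core_eq (hc : Subgroup.centralizer (Cfsg.pCore 2 X : Set X) ≤ Cfsg.pCore 2 X) (T : Sylow 2 X)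
    (hVn : (zGen 2 X).Normal) :
    (Subgroup.centralizer (((T : Subgroup X) ⊓ Subgroup.centralizer ((T : Subgroup X) : Set X) :
      Subgroup X) : Set X)).normalCore = Subgroup.centralizer (zGen 2 X : Set X) := by
  haveI := hVn
  set Z := (T : Subgroup X) ⊓ Subgroup.centralizer ((T : Subgroup X) : Set X) with hZ
  have hzV : ∀ z ∈ Z, z ^ 2 = 1 → z ∈ zGen 2 X := fun z hz h2 =>
    (le_iSup (fun S : Sylow 2 X => Cfsg.omegaOne 2 ((S : Subgroup X) ⊓
      Subgroup.centralizer ((S : Subgroup X) : Set X))) T) (Subgroup.subset_closure ⟨hz, h2⟩)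
  refine le_antisymm (Subgroup.le_centralizer_iff.mp (iSup_le fun S => ?_))
    (Subgroup.normal_le_normalCore.mpr ?_)
  · refine (Subgroup.closure_le _).mpr fun x hx => Subgroup.mem_centralizer_iff.mpr fun c hc' => ?_
    obtain ⟨g, rfl⟩ := MulAction.exists_smul_eq X T S
    obtain ⟨⟨hxS, hxc⟩, -⟩ := hx
    have hxZ : g⁻¹ * x * g ∈ Z := by
      have h1 : ∀ y, y ∈ ((g • T : Sylow 2 X) : Subgroup X) ↔ g⁻¹ * y * g ∈ (T : Subgroup X) :=
        fun y => by rw [Sylow.coe_subgroup_smul, Subgroup.mem_pointwise_smul_iff_inv_smul_mem]; simp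
      refine ⟨(h1 x).mp hxS, Subgroup.mem_centralizer_iff.mpr fun t ht => ?_⟩
      have := Subgroup.mem_centralizer_iff.mp hxc (g * t * g⁻¹) ((h1 _).mpr (by simpa [mul_assoc] using (SetLike.mem_coe.mp ht)))
      calc t * (g⁻¹ * x * g) = g⁻¹ * ((g * t * g⁻¹) * x) * g := by group
        _ = g⁻¹ * x * g * t := by rw [this]; group
    have hc2 : g⁻¹ * c * g⁻¹⁻¹ ∈ (Subgroup.centralizer (Z : Set X)).normalCore :=
      (Subgroup.normalCore_normal _).conj_mem c hc' g⁻¹
    have h3 := Subgroup.mem_centralizer_iff.mp (Subgroup.normalCore_le _ hc2) _ hxZ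
    calc c * x = g * ((g⁻¹ * c * g⁻¹⁻¹) * (g⁻¹ * x * g)) * g⁻¹ := by group
      _ = g * ((g⁻¹ * x * g) * (g⁻¹ * c * g⁻¹⁻¹)) * g⁻¹ := by rw [h3]
      _ = x * c := by group
  · refine le_trans le_sup_left (centralizes_center hc T
      (Subgroup.centralizer (zGen 2 X : Set X) ⊔ (T : Subgroup X)) le_sup_right fun z hz h2 => ?_)
    intro l hl
    have hle : Subgroup.centralizer (zGen 2 X : Set X) ⊔ (T : Subgroup X) ≤ Subgroup.centralizer {z} := by
      refine sup_le (fun c hc' => ?_) (fun t ht => ?_) <;>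
        rw [Subgroup.mem_centralizer_singleton_iff]
      · exact (Subgroup.mem_centralizer_iff.mp hc' z (hzV z hz h2)).symm
      · exact Subgroup.mem_centralizer_iff.mp hz.2 t ht
    exact mul_inv_eq_iff_eq_mul.mpr (Subgroup.mem_centralizer_singleton_iff.mp (hle hl))

/-- The image of a maximal abelian subgroup of a Sylow `2`-subgroup is an exact subgroup. -/
theorem exact_image {V : Subgroup X} [V.Normal] (hV : Cfsg.IsElementaryAbelian 2 V) {Q : Subgroup (Holo V)}
    (s : Setup 2 (holoBase V) (holoHom V).range Q) (S : Sylow 2 X) {A : Subgroup X}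
    (hA : Fus.IsMaxAb (S : Subgroup X) A) : IsExact 2 (holoBase V) (A.map (holoHom V)) := by
  have hAp : IsPGroup 2 A := S.isPGroup'.to_le hA.1
  have hVS : V ≤ (S : Subgroup X) :=
    (Grp.le_pCore inferInstance (Grp.elemAb_isPGroup hV)).trans (Grp.pCore_le_sylow S)
  refine s.isExact_of_offender ?_ (hAp.map _) ?_ ?_
  · rintro _ ⟨a, -, rfl⟩
    exact ⟨a, rfl⟩
  · rintro _ ⟨a, ha, rfl⟩ _ ⟨b, hb, rfl⟩
    rw [← map_mul, hA.2.1 a ha b hb, map_mul]
  rw [card_holo_fix, show Nat.card ↥(holoBase V) = Nat.card V from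
    (Nat.card_congr (MonoidHom.ofInjective SemidirectProduct.inl_injective).toEquiv).symm]
  set R := A ⊓ Subgroup.centralizer (V : Set X) with hR
  have hle : Nat.card ↥(R ⊔ V) ≤ Nat.card A := by
    refine hA.2.2 _ (sup_le (inf_le_left.trans hA.1) hVS) ?_
    intro x hx y hy
    have hgen : R ⊔ V ≤ Subgroup.centralizer ((R ⊔ V : Subgroup X) : Set X) := by
      refine sup_le (Subgroup.le_centralizer_iff.mp (sup_le ?_ ?_))
        (Subgroup.le_centralizer_iff.mp (sup_le ?_ ?_))
      · exact fun a ha => Subgroup.mem_centralizer_iff.mpr fun b hb => hA.2.1 b hb.1 a ha.1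
      · exact Subgroup.le_centralizer_iff.mp inf_le_right
      · exact inf_le_right
      · exact fun a ha => Subgroup.mem_centralizer_iff.mpr fun b hb => Grp.elemAb_comm hV b hb a ha
    exact (Subgroup.mem_centralizer_iff.mp (hgen hx) y hy).symm
  have hinf : Nat.card ↥(R ⊓ V) ≤ Nat.card ↥(fix V A) := by
    refine Subgroup.card_le_of_le fun x hx => ⟨hx.2, Subgroup.mem_centralizer_iff.mpr fun a ha => ?_⟩
    exact hA.2.1 a ha x hx.1.1
  have e := Grp.card_sup_mul_card_inf_normal (H := R) (N := V)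
  have hker := card_map_mul_inf_ker (holoHom V) A
  rw [holoHom_ker, ← hR] at hker
  refine Nat.le_of_mul_le_mul_right (c := Nat.card R) ?_ Nat.card_pos
  calc Nat.card V * Nat.card R = Nat.card ↥(R ⊔ V) * Nat.card ↥(R ⊓ V) := by rw [e]; ring
    _ ≤ Nat.card A * Nat.card ↥(fix V A) := Nat.mul_le_mul hle hinf
    _ = _ := by rw [← hker]; ring

/-- Conjugates of maximal abelian subgroups. -/
theorem isMaxAb_conj (T : Sylow 2 X) {A : Subgroup X} (hA : Fus.IsMaxAb (T : Subgroup X) A) (g : X) :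
    Fus.IsMaxAb ((g • T : Sylow 2 X) : Subgroup X) (A.map (MulAut.conj g).toMonoidHom) := by
  have hco : ((g • T : Sylow 2 X) : Subgroup X) = (T : Subgroup X).map (MulAut.conj g).toMonoidHom := by
    rw [Sylow.coe_subgroup_smul]; rfl
  refine ⟨hco ▸ Subgroup.map_mono hA.1, ?_, fun B hB hc => ?_⟩
  · rintro _ ⟨a, ha, rfl⟩ _ ⟨b, hb, rfl⟩
    rw [← map_mul, hA.2.1 a ha b hb, map_mul]
  rw [Subgroup.card_map_of_injective (MulAut.conj g).injective]
  have h1 := hA.2.2 (B.map (MulAut.conj g⁻¹).toMonoidHom) ?_ ?_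
  · rwa [Subgroup.card_map_of_injective (MulAut.conj g⁻¹).injective] at h1
  · rintro _ ⟨b, hb, rfl⟩
    obtain ⟨t, ht, rfl⟩ := (hco ▸ hB : B ≤ (T : Subgroup X).map (MulAut.conj g).toMonoidHom) hb
    simpa [mul_assoc] using (SetLike.mem_coe.mp ht)
  · rintro _ ⟨a, ha, rfl⟩ _ ⟨b, hb, rfl⟩
    rw [← map_mul, hc a ha b hb, map_mul]

/-- The Thompson subgroup is weakly closed. -/
theorem sup_normalizer_eq_top (T : Sylow 2 X) (N : Subgroup X) [N.Normal]
    (hJN : Cfsg.thompsonSubgroupAOf (T : Subgroup X) ≤ N) :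
    N ⊔ Subgroup.normalizer (Cfsg.thompsonSubgroupAOf (T : Subgroup X) : Set X) = ⊤ := by
  set J := Cfsg.thompsonSubgroupAOf (T : Subgroup X) with hJ
  have hpg : IsPGroup 2 ↥((T : Subgroup X).subgroupOf N) := T.isPGroup'.comap_subtype
  let P : Sylow 2 N := hpg.toSylow (Grp.sylow_inf_normal_relIndex T N)
  have hP : (P : Subgroup N).map N.subtype = (T : Subgroup X) ⊓ N := by
    rw [show (P : Subgroup N) = (T : Subgroup X).subgroupOf N from rfl, Subgroup.subgroupOf_map_subtype]
  have hfr := P.normalizer_sup_eq_top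
  refine eq_top_iff.mpr (hfr.ge.trans (sup_le (le_trans ?_ le_sup_right) le_sup_left))
  rw [hP]
  refine Grp.invariant_iff.mp fun g hg x hx => ?_
  suffices h : J ≤ J.comap (MulAut.conj g).toMonoidHom from h hx
  refine Fus.thompsonA_le_of fun A hA => ?_
  rw [← Subgroup.map_le_iff_le_comap]
  refine Fus.IsMaxAb.le_thompsonA (R := (T : Subgroup X)) ⟨?_, ?_, fun B hB hc => ?_⟩
  · rintro _ ⟨a, ha, rfl⟩
    exact (Grp.mem_conj_normalizer hg
      (show a ∈ (T : Subgroup X) ⊓ N from ⟨hA.1 ha, hJN (hA.le_thompsonA ha)⟩)).1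
  · rintro _ ⟨a, ha, rfl⟩ _ ⟨b, hb, rfl⟩
    rw [← map_mul, hA.2.1 a ha b hb, map_mul]
  · rw [Subgroup.card_map_of_injective (MulAut.conj g).injective]
    exact hA.2.2 B hB hc

/-- The structure of the group induced by `N` on `V`. -/
theorem exists_equiv {V : Subgroup X} [V.Normal] {N C : Subgroup X} [N.Normal] [C.Normal]
    (hC : C = Subgroup.centralizer (V : Set X)) (hN : ¬ N ≤ C) {Q : Subgroup (Holo V)}
    (s : Setup 2 (holoBase V) (N.map (holoHom V)) Q)
    (hgen : N.map (holoHom V) = ⨆ A : {A : Subgroup (Holo V) // A ≤ N.map (holoHom V) ∧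
      Cfsg.IsBestOffenderOn 2 (holoBase V) A}, (A : Subgroup (Holo V))) :
    ∃ n : ℕ, 1 ≤ n ∧ Nonempty (↥N ⧸ C.subgroupOf N ≃* (Fin n → Equiv.Perm (Fin 3))) := by
  classical
  set H := N.map (holoHom V) with hH
  let I := {E : Subgroup (Holo V) // IsFactor 2 (holoBase V) H Q E}
  haveI : Fintype I := Fintype.ofFinite I
  have hcomm : Pairwise fun E F : I => ∀ (x : (E : Subgroup (Holo V))) (y : (F : Subgroup (Holo V))),
      Commute ((E : Subgroup (Holo V)).subtype x) ((F : Subgroup (Holo V)).subtype y) :=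
    fun E F hne x y => (Subgroup.mem_centralizer_iff.mp
      (E.2.le_centralizer s hgen F.2 (fun e => hne (Subtype.ext e).symm) (Subgroup.mem_sup_left y.2))
        x (Subgroup.mem_sup_left x.2))
  let Φ := MonoidHom.noncommPiCoprod (fun E : I => (E : Subgroup (Holo V)).subtype) hcomm
  have hΦi : Function.Injective Φ := by
    refine MonoidHom.injective_noncommPiCoprod_of_iSupIndep (ϕ := fun E : I => (E : Subgroup (Holo V)).subtype)
      ?_ fun E => Subgroup.subtype_injective _
    simpa only [Subgroup.range_subtype] using s.iSupIndep_factor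
  have hΦr : Φ.range = H := by
    rw [MonoidHom.noncommPiCoprod_range]
    simp only [Subgroup.range_subtype]
    exact s.iSup_factor hgen
  have hperm : ∀ E : I, Nonempty ((E : Subgroup (Holo V)) ≃* Equiv.Perm (Fin 3)) := fun E => by
    obtain ⟨e⟩ := (E.2.exists_comp s).2.iso
    obtain ⟨e'⟩ := sl_two_two
    exact ⟨e.trans e'⟩
  let e1 : ((E : I) → (E : Subgroup (Holo V))) ≃* H :=
    (MonoidHom.ofInjective hΦi).trans (MulEquiv.subgroupCongr hΦr)
  let n := Fintype.card I
  let σ : Fin n ≃ I := (Fintype.equivFin I).symm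
  let e2 : (Fin n → Equiv.Perm (Fin 3)) ≃* ((E : I) → (E : Subgroup (Holo V))) :=
    { toFun := fun f E => (hperm E).some.symm (f (σ.symm E))
      invFun := fun f i => (hperm (σ i)).some (f (σ i))
      left_inv := fun f => funext fun i => by simp
      right_inv := fun f => funext fun E => by
        obtain ⟨i, rfl⟩ := σ.surjective E
        show (hperm (σ i)).some.symm ((hperm (σ (σ.symm (σ i)))).some (f (σ (σ.symm (σ i))))) = f (σ i)
        rw [Equiv.symm_apply_apply]
        exact (hperm (σ i)).some.symm_apply_apply _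
      map_mul' := fun f g => funext fun E => by simp }
  let ψ : N →* H := (holoHom V).subgroupMap N
  have hψk : ψ.ker = C.subgroupOf N := by
    ext x
    rw [MonoidHom.mem_ker, Subgroup.mem_subgroupOf, hC, ← mem_holoHom_ker, MonoidHom.mem_ker]
    exact ⟨fun h => congrArg Subtype.val h, fun h => Subtype.ext h⟩
  let e3 := (QuotientGroup.quotientMulEquivOfEq hψk.symm).trans
    (QuotientGroup.quotientKerEquivOfSurjective ψ ((holoHom V).subgroupMap_surjective N))
  refine ⟨n, Nat.one_le_iff_ne_zero.mpr fun h0 => hN ?_, ⟨e3.trans (e1.symm.trans e2.symm)⟩⟩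
  haveI : IsEmpty I := Fintype.card_eq_zero_iff.mp h0
  intro x hx
  rw [hC, ← mem_holoHom_ker, MonoidHom.mem_ker]
  have h1 : holoHom V x ∈ Φ.range := by rw [hΦr]; exact ⟨x, hx, rfl⟩
  obtain ⟨f, hf⟩ := h1
  rw [← hf, Subsingleton.elim f 1, map_one]

end helpers

/-- Let `X` be a finite solvable group whose Fitting subgroup is a 2-group (equivalently `F(X) = O₂(X)`), `T` a Sylow 2-subgroup of `X`, `J(T)` the subgroup generated by the abelian subgroups of `T` of largest order, `C` the largest normal subgroup of `X` centralizing the centre `Z(T)`, and `Y` the normal closure of `J(T)` in `X`. Then `X = C · Y · N_X(J(T))`, and either `Y ≤ C`, or `CY/C` is isomorphic to a direct product of at least one copy of the symmetric group of degree 3. -/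
theorem result {X : Type*} [Group X] [Finite X]
    [Group.IsSolvable X] (hF : Cfsg.fittingSubgroup X = Cfsg.pCore 2 X) (T : Sylow 2 X) :
    ((Subgroup.centralizer (((T : Subgroup X) ⊓ Subgroup.centralizer ((T : Subgroup X) : Set X) : Subgroup X) : Set X)).normalCore
        ⊔ Subgroup.normalClosure (Cfsg.thompsonSubgroupAOf (T : Subgroup X) : Set X)
        ⊔ Subgroup.normalizer (Cfsg.thompsonSubgroupAOf (T : Subgroup X) : Set X) = ⊤) ∧
    (Subgroup.normalClosure (Cfsg.thompsonSubgroupAOf (T : Subgroup X) : Set X)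
        ≤ (Subgroup.centralizer (((T : Subgroup X) ⊓ Subgroup.centralizer ((T : Subgroup X) : Set X) : Subgroup X) : Set X)).normalCore
      ∨ ∃ n : ℕ, 1 ≤ n ∧
        Nonempty (↥(Subgroup.normalClosure (Cfsg.thompsonSubgroupAOf (T : Subgroup X) : Set X)) ⧸
            ((Subgroup.centralizer (((T : Subgroup X) ⊓ Subgroup.centralizer ((T : Subgroup X) : Set X) : Subgroup X) : Set X)).normalCore).subgroupOf
              (Subgroup.normalClosure (Cfsg.thompsonSubgroupAOf (T : Subgroup X) : Set X))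
          ≃* (Fin n → Equiv.Perm (Fin 3)))) := by

  classical
  haveI : Fact (Nat.Prime 2) := ⟨Nat.prime_two⟩
  have hc : Subgroup.centralizer (Cfsg.pCore 2 X : Set X) ≤ Cfsg.pCore 2 X := by
    have h := Cfsg.Agent.Grp.centralizer_fittingSubgroup_le (G := X)
    rwa [hF] at h
  have hO := Cfsg.Agent.Recog.LocalConstrained.pPrimeCore_eq_bot_of_centralizer hc
  have hsep : Cfsg.IsPSolvable 2 X :=
    Cfsg.Agent.Fus.TransOdd.isPSolvable_of_solvable Nat.prime_two _ X rfl inferInstance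
  obtain ⟨hVn, hV, hcore⟩ := zGen_data hsep hO
  haveI := hVn
  have hCV := core_eq hc T hVn
  set V := zGen 2 X with hVdef
  set J := Cfsg.thompsonSubgroupAOf (T : Subgroup X) with hJ
  set N := Subgroup.normalClosure (J : Set X) with hN
  refine ⟨?_, ?_⟩
  · rw [hCV]
    refine sup_normalizer_eq_top T (Subgroup.centralizer (V : Set X) ⊔ N) ?_
    exact le_trans Subgroup.le_normalClosure le_sup_right
  by_cases hNC : N ≤ Subgroup.centralizer (V : Set X)
  · exact Or.inl (hNC.trans hCV.ge)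
  refine Or.inr ?_
  have s := holoSetup (p := 2) hV hsep hcore
  obtain ⟨Q₁, s₁⟩ := s.restrict (H₁ := N.map (holoHom V)) (by rintro _ ⟨g, -, rfl⟩; exact ⟨g, rfl⟩) (by
    refine Cfsg.Agent.Grp.invariant_iff.mp ?_
    rintro _ ⟨g, rfl⟩ _ ⟨j, hj, rfl⟩
    exact ⟨g * j * g⁻¹, (inferInstance : N.Normal).conj_mem j hj g, by rw [map_mul, map_mul, map_inv]⟩)
  refine exists_equiv hCV (fun h => hNC (h.trans hCV.le)) s₁ (le_antisymm ?_ (iSup_le fun A => A.2.1))
  rw [Subgroup.map_le_iff_le_comap, hN]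
  refine (Subgroup.closure_le _).mpr ?_
  intro x hx
  obtain ⟨j, hj, hjx⟩ := Group.mem_conjugatesOfSet_iff.mp hx
  obtain ⟨g, rfl⟩ := isConj_iff.mp hjx
  suffices h : J ≤ ((⨆ A : {A : Subgroup (Holo V) // A ≤ N.map (holoHom V) ∧
      Cfsg.IsBestOffenderOn 2 (holoBase V) A}, (A : Subgroup (Holo V))).comap (holoHom V)).comap
      (MulAut.conj g).toMonoidHom from h hj
  refine Cfsg.Agent.Fus.thompsonA_le_of fun A hA => ?_
  rw [← Subgroup.map_le_iff_le_comap, ← Subgroup.map_le_iff_le_comap]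
  have hex := exact_image hV s (g • T) (isMaxAb_conj T hA g)
  have hle : (A.map (MulAut.conj g).toMonoidHom).map (holoHom V) ≤ N.map (holoHom V) := by
    refine Subgroup.map_mono ?_
    rintro _ ⟨a, ha, rfl⟩
    exact (inferInstance : N.Normal).conj_mem a (Subgroup.le_normalClosure (hA.le_thompsonA ha)) g
  exact le_iSup (fun A : {A : Subgroup (Holo V) // A ≤ N.map (holoHom V) ∧
    Cfsg.IsBestOffenderOn 2 (holoBase V) A} => (A : Subgroup (Holo V)))
    ⟨_, hle, s₁.best_of_isExact hle hex⟩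

end Cfsg.Agent.S4302
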