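import Cfsg.Statements.S4303
import Cfsg.Agent.Lib.Grp.Coprime
import Cfsg.Agent.Lib.Grp.Cores
import Mathlib

set_option maxHeartbeats 1000000
set_option maxRecDepth 8000

set_option autoImplicit false
universe u
open Cfsg
open scoped Pointwise

namespace Cfsg.Agent.S4303

universe v

/-- Being a product of prime powers `≡ 1` and Sylow numbers of simple groups. -/
def Good (p : ℕ) (n : ℕ) : Prop :=
  ∃ l : List ℕ, l.prod = n ∧
      ∀ m ∈ l, (IsPrimePow m ∧ m % p = 1) ∨
        ∃ (S : Type v) (_ : Group S) (_ : Finite S), IsSimpleGroup S ∧ m = Nat.card (Sylow p S)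

theorem good_one {p : ℕ} : Good.{v} p 1 := ⟨[], rfl, fun m hm => absurd hm (by simp)⟩

theorem good_mul {p a b : ℕ} (ha : Good.{v} p a) (hb : Good.{v} p b) : Good.{v} p (a * b) := by
  obtain ⟨l, hl, hl'⟩ := ha
  obtain ⟨k, hk, hk'⟩ := hb
  exact ⟨l ++ k, by rw [List.prod_append, hl, hk], fun m hm => (List.mem_append.1 hm).elim (hl' m) (hk' m)⟩

section
variable {G : Type*} [Group G] [Finite G] {p : ℕ} [Fact p.Prime]

/-- Sylow number of an overgroup of a Sylow subgroup. -/
theorem card_sylow_over (P : Sylow p G) {W : Subgroup G} (hW : (P : Subgroup G) ≤ W) :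
    Nat.card (Sylow p W) = (Subgroup.normalizer ((P : Subgroup G) : Set G)).relIndex W := by
  rw [Sylow.card_eq_index_normalizer (P.subtype hW)]
  show (Subgroup.normalizer (((P : Subgroup G).subgroupOf W : Subgroup W) : Set W)).index = _
  rw [← Subgroup.subgroupOf_normalizer_eq hW]
  rfl

/-- The index of a supplement of a normal subgroup. -/
theorem index_eq_relIndex (U N : Subgroup G) [N.Normal] (h : U ⊔ N = ⊤) : U.index = U.relIndex N := by
  have e := Cfsg.Agent.Grp.card_sup_mul_card_inf_normal (H := U) (N := N)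
  rw [h, Subgroup.card_top, ← U.card_mul_index] at e
  have b := Subgroup.card_mul_index (U.subgroupOf N)
  have hb : Nat.card (U.subgroupOf N) = Nat.card ↥(U ⊓ N) := by
    rw [← Subgroup.card_map_of_injective (K := U.subgroupOf N) N.subtype_injective, Subgroup.subgroupOf_map_subtype]
  rw [hb] at b
  have hpos : 0 < Nat.card U * Nat.card ↥(U ⊓ N) := Nat.mul_pos Nat.card_pos Nat.card_pos
  refine Nat.eq_of_mul_eq_mul_left hpos ?_
  calc Nat.card U * Nat.card ↥(U ⊓ N) * U.index = Nat.card U * U.index * Nat.card ↥(U ⊓ N) := by ring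
    _ = Nat.card U * Nat.card N := e
    _ = Nat.card U * (Nat.card ↥(U ⊓ N) * (U.subgroupOf N).index) := by rw [b]
    _ = _ := by rw [Subgroup.relIndex]; ring

/-- M. Hall: the Sylow number factors through a normal subgroup. -/
theorem card_sylow_normal (P : Sylow p G) (N : Subgroup G) [N.Normal] :
    Nat.card (Sylow p G) = Nat.card (Sylow p N) *
      Nat.card (Sylow p ↥(Subgroup.normalizer (((P : Subgroup G) ⊓ N : Subgroup G) : Set G))) ∧
    (P : Subgroup G) ≤ Subgroup.normalizer (((P : Subgroup G) ⊓ N : Subgroup G) : Set G) := by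
  set Q0 := (P : Subgroup G) ⊓ N with hQ0
  set U := Subgroup.normalizer (Q0 : Set G) with hU
  have hPU : (P : Subgroup G) ≤ U := by
    refine le_trans (le_inf Subgroup.le_normalizer ?_) Subgroup.inf_normalizer_le_normalizer_inf
    rw [Subgroup.normalizer_eq_top]; exact le_top
  refine ⟨?_, hPU⟩
  let Q : Sylow p N := (P.isPGroup'.comap_subtype (K := N)).toSylow
    (Cfsg.Agent.Grp.sylow_inf_normal_relIndex P N)
  have hQ : (Q : Subgroup N) = (P : Subgroup G).subgroupOf N := rfl
  have hmap : (Q : Subgroup N).map N.subtype = Q0 := by rw [hQ, Subgroup.subgroupOf_map_subtype]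
  have hfrat : U ⊔ N = ⊤ := by
    have := Sylow.normalizer_sup_eq_top Q
    rwa [hmap] at this
  have hNQ : Nat.card (Sylow p N) = U.index := by
    rw [index_eq_relIndex U N hfrat, Sylow.card_eq_index_normalizer Q]
    show (Subgroup.normalizer (((P : Subgroup G).subgroupOf N : Subgroup N) : Set N)).index = _
    have : (P : Subgroup G).subgroupOf N = Q0.subgroupOf N := by rw [hQ0, Subgroup.inf_subgroupOf_right]
    rw [this, ← Subgroup.subgroupOf_normalizer_eq inf_le_right]
    rfl
  have hle : Subgroup.normalizer ((P : Subgroup G) : Set G) ≤ U := by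
    have hNn : Subgroup.normalizer ((P : Subgroup G) : Set G) ≤ Subgroup.normalizer (N : Set G) := by
      rw [show Subgroup.normalizer (N : Set G) = ⊤ from by rw [Subgroup.normalizer_eq_top]]; exact le_top
    exact le_trans (le_inf le_rfl hNn) Subgroup.inf_normalizer_le_normalizer_inf
  rw [hNQ, card_sylow_over P hPU, Sylow.card_eq_index_normalizer P, mul_comm,
    Subgroup.relIndex_mul_index hle]
  rfl

end

/-- Split case: a normal `p'`-subgroup with `p`-group quotient. -/
theorem good_coprime {G : Type*} [Group G] [Finite G] {p : ℕ} [hp : Fact p.Prime] (P : Sylow p G)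
    (N : Subgroup G) [N.Normal] (hPN : (P : Subgroup G) ⊔ N = ⊤)
    (hcop : (Nat.card (P : Subgroup G)).Coprime (Nat.card N)) :
    Good.{v} p (Nat.card (Sylow p G)) := by
  classical
  set NP := Subgroup.normalizer ((P : Subgroup G) : Set G) with hNP
  set n := Nat.card (Sylow p G) with hn
  set C := N ⊓ NP with hC
  have hn0 : n ≠ 0 := Nat.card_pos.ne'
  have hcard : Nat.card C * n = Nat.card N := by
    have h1 : NP ⊔ N = ⊤ := top_le_iff.1 (hPN ▸ sup_le_sup_right Subgroup.le_normalizer N)
    rw [hn, Sylow.card_eq_index_normalizer P]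
    show Nat.card C * NP.index = Nat.card N
    rw [index_eq_relIndex NP N h1, Subgroup.relIndex,
      show Nat.card C = Nat.card (NP.subgroupOf N) by
        rw [← Subgroup.card_map_of_injective (K := NP.subgroupOf N) N.subtype_injective,
          Subgroup.subgroupOf_map_subtype, hC, inf_comm]]
    exact Subgroup.card_mul_index _
  have hbot : (P : Subgroup G) ⊓ N = ⊥ := Cfsg.Agent.Grp.inf_eq_bot_of_coprime hcop
  have hcomm : ∀ y ∈ C, ∀ x ∈ (P : Subgroup G), x * y = y * x := by
    intro y hy x hx
    have h1 : y * x * y⁻¹ * x⁻¹ ∈ (P : Subgroup G) ⊓ N := by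
      refine ⟨(P : Subgroup G).mul_mem ((Subgroup.mem_normalizer_iff.1 hy.2 x).1 hx)
        ((P : Subgroup G).inv_mem hx), ?_⟩
      rw [mul_assoc, mul_assoc, ← mul_assoc x y⁻¹ x⁻¹]
      exact N.mul_mem hy.1 (Subgroup.Normal.conj_mem inferInstance _ (N.inv_mem hy.1) x)
    rw [hbot, Subgroup.mem_bot, mul_inv_eq_one, mul_inv_eq_iff_eq_mul] at h1
    exact h1.symm
  have hmem : ∀ q ∈ n.primeFactors, IsPrimePow (q ^ n.factorization q) ∧ q ^ n.factorization q % p = 1 := by
    intro q hq
    haveI : Fact q.Prime := ⟨Nat.prime_of_mem_primeFactors hq⟩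
    have hqn : q ∣ n := Nat.dvd_of_mem_primeFactors hq
    have hv : 1 ≤ n.factorization q := ((Fact.out : q.Prime).dvd_iff_one_le_factorization hn0).1 hqn
    refine ⟨⟨q, n.factorization q, (Fact.out : q.Prime).prime, hv, rfl⟩, ?_⟩
    obtain ⟨T₀⟩ : Nonempty (Sylow q C) := inferInstance
    set T := (T₀ : Subgroup C).map C.subtype with hT
    have hTC : T ≤ C := Subgroup.map_subtype_le _
    have hPT : (P : Subgroup G) ≤ Subgroup.normalizer (T : Set G) := by
      intro x hx
      rw [Subgroup.mem_normalizer_iff]
      intro y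
      constructor
      · intro hy
        rw [hcomm y (hTC hy) x hx, mul_inv_cancel_right]; exact hy
      · intro hy
        have h1 := hcomm _ (hTC hy) x⁻¹ ((P : Subgroup G).inv_mem hx)
        have h2 : x * y * x⁻¹ = y := by
          rw [← mul_assoc, ← mul_assoc, inv_mul_cancel, one_mul] at h1
          exact (mul_right_cancel h1).symm
        rwa [h2] at hy
    haveI := P.isPGroup'.isNilpotent
    obtain ⟨Q, hQ, hQP, hTQ⟩ := Cfsg.Agent.Grp.exists_invariant_sylow_ge (P : Subgroup G) N
      (by rw [Subgroup.normalizer_eq_top]; exact le_top) hcop (Or.inl inferInstance)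
      (hTC.trans inf_le_left) (T₀.isPGroup'.map C.subtype) hPT
    -- the conjugation action of `P` on `Q`
    have hconj : ∀ x : (P : Subgroup G), ∀ y : Q, (x : G) * y * (x : G)⁻¹ ∈ Q := fun x y =>
      (Subgroup.mem_normalizer_iff.1 (hQP x.2) y).1 y.2
    letI : MulAction (P : Subgroup G) Q :=
      { smul := fun x y => ⟨(x : G) * y * (x : G)⁻¹, hconj x y⟩
        one_smul := fun y => Subtype.ext (by show ((1 : (P : Subgroup G)) : G) * _ * _ = _; simp)
        mul_smul := fun a b y => Subtype.ext (by
          show ((a * b : (P : Subgroup G)) : G) * _ * _ = (a : G) * ((b : G) * y * (b : G)⁻¹) * (a : G)⁻¹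
          simp [mul_assoc]) }
    have hmod := P.isPGroup'.card_modEq_card_fixedPoints Q
    have hfixeq : (Q ⊓ NP : Subgroup G) = T := by
      have hsub : Q ⊓ NP ≤ C := inf_le_inf_right NP hQ.1
      have hTle : (T₀ : Subgroup C) ≤ (Q ⊓ NP).subgroupOf C := fun z hz =>
        ⟨hTQ ⟨z, hz, rfl⟩, (hTC ⟨z, hz, rfl⟩).2⟩
      have h := T₀.is_maximal' ((hQ.2.1.to_le (inf_le_left : Q ⊓ NP ≤ Q)).comap_subtype (K := C)) hTle
      rw [hT, ← h, Subgroup.map_comap_eq, Subgroup.range_subtype, inf_eq_right.2 hsub]
    have hfix : Nat.card (MulAction.fixedPoints (P : Subgroup G) Q) = Nat.card T := by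
      rw [← hfixeq]
      refine Nat.card_congr
        { toFun := fun y => ⟨(y.1 : G), y.1.2, ?_⟩
          invFun := fun z => ⟨⟨(z : G), z.2.1⟩, ?_⟩
          left_inv := fun y => rfl
          right_inv := fun z => rfl }
      · have hfx : ∀ x ∈ (P : Subgroup G), (y.1 : G) * x = x * (y.1 : G) := fun x hx => by
          have h1 := congrArg Subtype.val (y.2 ⟨x, hx⟩)
          change x * (y.1 : G) * x⁻¹ = (y.1 : G) at h1
          exact (mul_inv_eq_iff_eq_mul.1 h1).symm
        show (y.1 : G) ∈ Subgroup.normalizer ((P : Subgroup G) : Set G)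
        rw [Subgroup.mem_normalizer_iff]
        intro x
        constructor
        · intro hx; rw [hfx x hx, mul_inv_cancel_right]; exact hx
        · intro hx
          have h1 := hfx _ hx
          rw [inv_mul_cancel_right, mul_assoc] at h1
          have h2 := mul_left_cancel h1
          rw [mul_assoc, h2] at hx
          exact hx
      · rintro ⟨x, hx⟩
        refine Subtype.ext ?_
        show x * (z : G) * x⁻¹ = (z : G)
        rw [hcomm _ ⟨hQ.1 z.2.1, z.2.2⟩ x hx, mul_inv_cancel_right]
    have hQcard : Nat.card Q = q ^ (Nat.card N).factorization q := by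
      have h := (hQ.2.1.comap_subtype (K := N)).toSylow hQ.2.2 |>.card_eq_multiplicity
      rw [← h]
      exact Nat.card_congr (Subgroup.subgroupOfEquivOfLe hQ.1).symm.toEquiv
    have hTcard : Nat.card T = q ^ (Nat.card C).factorization q := by
      rw [hT, Subgroup.card_map_of_injective C.subtype_injective, T₀.card_eq_multiplicity]
    have hsum : (Nat.card N).factorization q = (Nat.card C).factorization q + n.factorization q := by
      rw [← hcard, Nat.factorization_mul Nat.card_pos.ne' hn0]; rfl
    rw [hfix, hQcard, hTcard, hsum, pow_add] at hmod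
    have hnp : ¬ p ∣ n := not_dvd_card_sylow p G
    have hqp : q ≠ p := fun e => hnp (e ▸ hqn)
    have hcp : Nat.gcd p (q ^ (Nat.card C).factorization q) = 1 :=
      (((Nat.coprime_primes hp.out (Fact.out : q.Prime)).2 hqp.symm).pow_right _)
    have := Nat.ModEq.cancel_left_of_coprime (c := q ^ (Nat.card C).factorization q) hcp
      (show q ^ (Nat.card C).factorization q * q ^ n.factorization q ≡
        q ^ (Nat.card C).factorization q * 1 [MOD p] by rw [mul_one]; exact hmod)
    rw [Nat.ModEq, Nat.one_mod_eq_one.2 hp.out.one_lt.ne'] at this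
    exact this
  refine ⟨n.primeFactors.toList.map (fun q => q ^ n.factorization q), ?_, fun m hm => ?_⟩
  · rw [Finset.prod_map_toList]
    exact Nat.prod_factorization_pow_eq_self hn0
  · obtain ⟨q, hq, rfl⟩ := List.mem_map.1 hm
    exact Or.inl (hmem q (Finset.mem_toList.1 hq))

theorem good_all (p : ℕ) [hp : Fact p.Prime] : ∀ (k : ℕ) (G : Type v) [Group G] [Finite G],
    Nat.card G ≤ k → Good.{v} p (Nat.card (Sylow p G)) := by
  intro k
  induction k with
  | zero =>
    intro G _ _ h
    exact absurd h (by have := Nat.card_pos (α := G); omega)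
  | succ k ih =>
    intro G _ _ hG
    classical
    have lt_sub : ∀ U : Subgroup G, U ≠ ⊤ → Good.{v} p (Nat.card (Sylow p U)) := fun U hU => by
      refine ih U ?_
      have h1 := U.card_mul_index
      have h2 : 1 < U.index := by
        have := U.index_ne_zero_of_finite
        have : U.index ≠ 1 := fun h => hU (Subgroup.index_eq_one.1 h)
        omega
      have : Nat.card U < Nat.card G := by
        rw [← h1]; exact lt_mul_of_one_lt_right Nat.card_pos h2
      omega
    by_cases hs : IsSimpleGroup G
    · exact ⟨[Nat.card (Sylow p G)], List.prod_singleton, fun m hm =>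
        Or.inr ⟨G, _, inferInstance, hs, List.mem_singleton.1 hm⟩⟩
    rcases subsingleton_or_nontrivial G with hsub | hnt
    · have : Nat.card (Sylow p G) = 1 := by
        obtain ⟨P⟩ : Nonempty (Sylow p G) := inferInstance
        rw [Sylow.card_eq_index_normalizer P, Subgroup.index_eq_one]
        exact Subsingleton.elim _ _
      rw [this]; exact good_one
    obtain ⟨N, hN, hNbot, hNtop⟩ : ∃ N : Subgroup G, N.Normal ∧ N ≠ ⊥ ∧ N ≠ ⊤ := by
      by_contra hc
      push_neg at hc
      exact hs ⟨fun N hN => or_iff_not_imp_left.2 (hc N hN)⟩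
    obtain ⟨P⟩ : Nonempty (Sylow p G) := inferInstance
    have hquot : ∀ (K : Subgroup G) [K.Normal], K ≠ ⊥ → Good.{v} p (Nat.card (Sylow p (G ⧸ K))) := by
      intro K _ hK
      refine ih (G ⧸ K) ?_
      have h1 := Subgroup.card_eq_card_quotient_mul_card_subgroup K
      have h2 : 1 < Nat.card K := (Subgroup.one_lt_card_iff_ne_bot K).2 hK
      have : Nat.card (G ⧸ K) < Nat.card G := by
        rw [h1]; exact lt_mul_of_one_lt_right Nat.card_pos h2
      omega
    set f := QuotientGroup.mk' N with hf
    let Pbar : Sylow p (G ⧸ N) := P.mapSurjective (QuotientGroup.mk'_surjective N)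
    set W := (Subgroup.normalizer ((Pbar : Subgroup (G ⧸ N)) : Set (G ⧸ N))).comap f with hW
    have hWn : Subgroup.normalizer ((((P : Subgroup G) ⊔ N) : Subgroup G) : Set G) = W := by
      rw [hW, Sylow.coe_mapSurjective, ← hf]
      have h1 : (P : Subgroup G) ⊔ N = ((P : Subgroup G).map f).comap f := by
        rw [Subgroup.comap_map_eq, hf, QuotientGroup.ker_mk']
      rw [h1, ← Subgroup.comap_normalizer_eq_of_surjective _ (QuotientGroup.mk'_surjective N)]
    have hPM : (P : Subgroup G) ≤ (P : Subgroup G) ⊔ N := le_sup_left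
    have hPW : (P : Subgroup G) ≤ W := hWn ▸ hPM.trans Subgroup.le_normalizer
    have hNPW : Subgroup.normalizer ((P : Subgroup G) : Set G) ≤ W := by
      rw [hW, Sylow.coe_mapSurjective]
      exact Subgroup.map_le_iff_le_comap.1 (Subgroup.le_normalizer_map _)
    -- Sylow number of the normalizer of `PN`
    have hWM : Nat.card (Sylow p W) = Nat.card (Sylow p ((P : Subgroup G) ⊔ N : Subgroup G)) := by
      haveI : ((((P : Subgroup G) ⊔ N) : Subgroup G).subgroupOf W).Normal :=
        (Subgroup.normal_subgroupOf_iff_le_normalizer (hWn ▸ Subgroup.le_normalizer)).2 hWn.ge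
      obtain ⟨h1, h2⟩ := card_sylow_normal (P.subtype hPW) ((((P : Subgroup G) ⊔ N) : Subgroup G).subgroupOf W)
      have hPle : ((P.subtype hPW : Sylow p W) : Subgroup W) ≤ (((P : Subgroup G) ⊔ N) : Subgroup G).subgroupOf W := by
        rw [Sylow.coe_subtype]; exact Subgroup.comap_mono hPM
      have h3 : Nat.card (Sylow p ↥(Subgroup.normalizer ((((P.subtype hPW : Sylow p W) : Subgroup W) ⊓
          (((P : Subgroup G) ⊔ N) : Subgroup G).subgroupOf W : Subgroup W) : Set W))) = 1 := by
        rw [card_sylow_over (P.subtype hPW) h2, inf_eq_left.2 hPle]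
        exact Subgroup.relIndex_self _
      rw [h3, mul_one] at h1
      rw [h1]
      rw [card_sylow_over (P.subtype hPW) hPle, card_sylow_over P hPM]
      show (Subgroup.normalizer (((P : Subgroup G).subgroupOf W : Subgroup W) : Set W)).relIndex _ = _
      rw [← Subgroup.subgroupOf_normalizer_eq hPW, Subgroup.relIndex_subgroupOf (hWn ▸ Subgroup.le_normalizer)]
    have hfac : Nat.card (Sylow p G) = Nat.card (Sylow p (G ⧸ N)) *
        Nat.card (Sylow p ((P : Subgroup G) ⊔ N : Subgroup G)) := by
      rw [← hWM, card_sylow_over P hPW, Sylow.card_eq_index_normalizer Pbar,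
        ← Subgroup.index_comap_of_surjective _ (QuotientGroup.mk'_surjective N), Sylow.card_eq_index_normalizer P]
      exact ((mul_comm _ _).trans (Subgroup.relIndex_mul_index hNPW)).symm
    by_cases hM : (P : Subgroup G) ⊔ N = ⊤
    · obtain ⟨h1, h2⟩ := card_sylow_normal P N
      by_cases hQ : Subgroup.normalizer (((P : Subgroup G) ⊓ N : Subgroup G) : Set G) = ⊤
      · rcases eq_or_ne ((P : Subgroup G) ⊓ N) ⊥ with h0 | h0
        · refine good_coprime P N hM ?_
          obtain ⟨a, ha⟩ := IsPGroup.iff_card.1 P.isPGroup'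
          rw [ha]
          refine Nat.Coprime.pow_left a ((Nat.Prime.coprime_iff_not_dvd hp.out).2 fun hdvd => ?_)
          have h3 := Cfsg.Agent.Grp.sylow_inf_normal_relIndex P N
          rw [Subgroup.relIndex, Subgroup.subgroupOf_eq_bot.2 (disjoint_iff.2 h0), Subgroup.index_bot] at h3
          exact h3 hdvd
        · haveI : ((P : Subgroup G) ⊓ N).Normal := Subgroup.normalizer_eq_top_iff.1 hQ
          set K := (P : Subgroup G) ⊓ N with hK
          have hP' : Nat.card (Sylow p G) = Nat.card (Sylow p (G ⧸ K)) := by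
            let PK : Sylow p (G ⧸ K) := P.mapSurjective (QuotientGroup.mk'_surjective K)
            rw [Sylow.card_eq_index_normalizer P, Sylow.card_eq_index_normalizer PK,
              ← Subgroup.index_comap_of_surjective _ (QuotientGroup.mk'_surjective K)]
            show (Subgroup.normalizer ((P : Subgroup G) : Set G)).index = ((Subgroup.normalizer
              (((P : Subgroup G).map (QuotientGroup.mk' K) : Subgroup (G ⧸ K)) : Set (G ⧸ K))).comap (QuotientGroup.mk' K)).index
            rw [
              Subgroup.comap_normalizer_eq_of_surjective _ (QuotientGroup.mk'_surjective K),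
              Subgroup.comap_map_eq, QuotientGroup.ker_mk', sup_eq_left.2 inf_le_left]
          rw [hP']; exact hquot K h0
      · rw [h1]; exact good_mul (lt_sub N hNtop) (lt_sub _ hQ)
    · rw [hfac]; exact good_mul (hquot N hNbot) (lt_sub _ hM)


/-- For a finite group `G` and a prime `p`, the number of Sylow `p`-subgroups of `G` is a product of natural numbers each of which is either a prime power congruent to 1 modulo `p` or the number of Sylow `p`-subgroups of some finite simple group. -/
theorem result {G : Type u} [Group G] [Finite G]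
    (p : ℕ) [Fact p.Prime] :
    ∃ l : List ℕ, l.prod = Nat.card (Sylow p G) ∧
      ∀ m ∈ l, (IsPrimePow m ∧ m % p = 1) ∨
        ∃ (S : Type u) (_ : Group S) (_ : Finite S), IsSimpleGroup S ∧ m = Nat.card (Sylow p S) := by

  exact good_all p (Nat.card G) G le_rfl

end Cfsg.Agent.S4303
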