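import Cfsg.Statements.S4304
import Cfsg.Agent.Lib.Transfer.SylowNumber
import Cfsg.Agent.Lib.Transfer.Alperin

set_option linter.style.haveILetI false
set_option linter.unusedVariables false
-- import your own Cfsg.Agent.* helpers here

set_option autoImplicit false
open Cfsg

namespace Cfsg.Agent.S4304

/-- No finite group has exactly 15 Sylow 7-subgroups. -/
theorem result {G : Type*} [Group G] [Finite G] : Nat.card (Sylow 7 G) ≠ 15 := by
  suffices H : ∀ n (G : Type _) [Group G] [Finite G], Nat.card G = n → Nat.card (Sylow 7 G) ≠ 15 from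
    H _ G rfl
  intro n
  induction n using Nat.strong_induction_on with
  | _ n ih =>
  intro G _ _ hn h15
  haveI : Fact (Nat.Prime 7) := ⟨by norm_num⟩
  -- faithful action on the Sylow subgroups
  set K : Subgroup G := (MulAction.toPermHom G (Sylow 7 G)).ker with hK
  have hKN : ∀ P : Sylow 7 G, K ≤ Subgroup.normalizer (P : Set G) := fun P k hk =>
    Sylow.smul_eq_iff_mem_normalizer.1 (congrFun (congrArg DFunLike.coe (MonoidHom.mem_ker.1 hk)) P)
  have hfaith : ∀ g : G, (∀ P : Sylow 7 G, g • P = P) → g = 1 := by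
    by_contra hne
    push Not at hne
    obtain ⟨g, hg, hg1⟩ := hne
    have hgK : g ∈ K := MonoidHom.mem_ker.2 (Equiv.ext hg)
    have hlt : Nat.card (G ⧸ K) < n := by
      rw [← hn, ← Subgroup.index_eq_card, ← K.card_mul_index]
      have h1 : 1 < Nat.card K := (Subgroup.one_lt_card_iff_ne_bot K).2 fun hb =>
        hg1 (Subgroup.mem_bot.1 (hb ▸ hgK))
      exact lt_mul_of_one_lt_left (Nat.pos_of_ne_zero Subgroup.index_ne_zero_of_finite) h1
    exact ih _ hlt (G ⧸ K) rfl ((Cfsg.Agent.Transfer.card_sylow_quotient K hKN).trans h15)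
  -- generated by its Sylow 7-subgroups
  have hgen : ∀ M : Subgroup G, (∀ P : Sylow 7 G, (P : Subgroup G) ≤ M) → M = ⊤ := by
    intro M hM
    by_contra hne
    have hlt : Nat.card M < n := by
      rw [← hn]
      exact lt_of_le_of_ne (Subgroup.card_le_card_group M) fun he => hne (Subgroup.eq_top_of_card_eq M he)
    exact ih _ hlt M rfl ((Cfsg.Agent.Transfer.card_sylow_subgroup M hM).trans h15)
  classical
  haveI : Fintype (Sylow 7 G) := Fintype.ofFinite _
  set φ : G →* Equiv.Perm (Sylow 7 G) := MulAction.toPermHom G (Sylow 7 G) with hφ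
  have heven : ∀ g : G, Equiv.Perm.sign (φ g) = 1 := by
    have htop := hgen (Equiv.Perm.sign.comp φ).ker ?_
    · intro g
      exact MonoidHom.mem_ker.1 (htop ▸ Subgroup.mem_top g : g ∈ (Equiv.Perm.sign.comp φ).ker)
    intro P x hx
    obtain ⟨k, hk⟩ := IsPGroup.iff_orderOf.1 P.isPGroup' ⟨x, hx⟩
    rw [Subgroup.orderOf_mk] at hk
    rw [MonoidHom.mem_ker]
    have hd : orderOf ((Equiv.Perm.sign.comp φ) x) ∣ 7 ^ k := hk ▸ orderOf_map_dvd _ x
    have h2 : orderOf ((Equiv.Perm.sign.comp φ) x) ∣ 2 :=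
      orderOf_dvd_of_pow_eq_one (Int.units_pow_two _)
    have h1 : orderOf ((Equiv.Perm.sign.comp φ) x) ∣ 1 := by
      have hco : Nat.gcd (7 ^ k) 2 = 1 := (Nat.coprime_primes (by norm_num) Nat.prime_two).2 (by norm_num) |>.pow_left k
      exact hco ▸ Nat.dvd_gcd hd h2
    exact orderOf_eq_one_iff.1 (Nat.dvd_one.1 h1)
  -- orbits of a Sylow subgroup
  have hcard15 : Fintype.card (Sylow 7 G) = 15 := by rw [← Nat.card_eq_fintype_card, h15]
  have horb : ∀ P Q : Sylow 7 G, Q ≠ P →
      Nat.card (MulAction.orbit (P : Subgroup G) Q) = 7 ∧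
      ((P : Subgroup G) ⊓ (Q : Subgroup G)).relIndex (P : Subgroup G) = 7 := by
    intro P Q hQP
    have hi : ((P : Subgroup G) ⊓ (Q : Subgroup G)).relIndex (P : Subgroup G) =
        Nat.card (MulAction.orbit (P : Subgroup G) Q) := by
      rw [Nat.card_coe_set_eq, ← MulAction.index_stabilizer, Subgroup.relIndex]
      congr 1
      ext x
      rw [MulAction.mem_stabilizer_iff, Subgroup.mem_subgroupOf]
      constructor
      · intro hx
        exact Sylow.smul_eq_iff_mem_normalizer.2 (Cfsg.Agent.Transfer.sylow_le_normalizer Q hx.2)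
      · intro hx
        exact ⟨x.2, Cfsg.Agent.Transfer.mem_sylow_of_smul_eq Q P.isPGroup' x.2 hx⟩
    have hPfix : P ∉ MulAction.orbit (P : Subgroup G) Q := by
      rintro ⟨x, hx⟩
      apply hQP
      have hPx : (x : G) • P = P :=
        Sylow.smul_eq_iff_mem_normalizer.2 (Cfsg.Agent.Transfer.sylow_le_normalizer P x.2)
      exact smul_left_cancel (x : G) (show (x : G) • Q = (x : G) • P from hx.trans hPx.symm)
    obtain ⟨k, hk⟩ := P.isPGroup'.card_orbit Q
    have hle : Nat.card (MulAction.orbit (P : Subgroup G) Q) < 15 := by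
      rw [← h15, Nat.card_coe_set_eq, ← Set.ncard_univ]
      exact Set.ncard_lt_ncard (Set.ssubset_univ_iff.2 fun he => hPfix (he ▸ Set.mem_univ P)) (Set.toFinite _)
    have hk1 : k = 1 := by
      rcases k with _ | _ | k
      · exfalso
        rw [pow_zero] at hk
        rw [hk] at hi
        have hle2 : (P : Subgroup G) ≤ (Q : Subgroup G) :=
          (Subgroup.relIndex_eq_one.1 hi).trans inf_le_right
        exact hQP (Sylow.ext (P.3 Q.isPGroup' hle2))
      · rfl
      · exfalso
        rw [hk, pow_succ, pow_succ] at hle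
        have := Nat.one_le_pow k 7 (by norm_num)
        omega
    rw [hk1, pow_one] at hk
    exact ⟨hk, hi.trans hk⟩
  let P : Sylow 7 G := default
  obtain ⟨Q₁, hQ₁⟩ : ∃ Q₁, Q₁ ≠ P := Fintype.exists_ne_of_one_lt_card (by omega) P
  obtain ⟨Q₂, hQ₂P, hQ₂⟩ : ∃ Q₂, Q₂ ≠ P ∧ Q₂ ∉ MulAction.orbit (P : Subgroup G) Q₁ := by
    by_contra hc
    push Not at hc
    have hsub : (Set.univ : Set (Sylow 7 G)) ⊆ insert P (MulAction.orbit (P : Subgroup G) Q₁) := fun Q _ => by
      by_cases h : Q = P
      · exact Or.inl h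
      · exact Or.inr (hc Q h)
    have h2 := (Set.ncard_le_ncard hsub (Set.toFinite _)).trans (Set.ncard_insert_le _ _)
    rw [Set.ncard_univ, h15, ← Nat.card_coe_set_eq, (horb P Q₁ hQ₁).1] at h2
    omega
  -- the two orbits cover everything
  have hcover : ∀ P Q₁ Q₂ : Sylow 7 G, Q₁ ≠ P → Q₂ ≠ P → Q₂ ∉ MulAction.orbit (P : Subgroup G) Q₁ →
      ∀ Q, Q ≠ P → Q ∈ MulAction.orbit (P : Subgroup G) Q₁ ∨ Q ∈ MulAction.orbit (P : Subgroup G) Q₂ := by
    intro P Q₁ Q₂ h1 h2 h12 Q hQ
    by_contra hc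
    push Not at hc
    have d : ∀ A B : Sylow 7 G, B ∉ MulAction.orbit (P : Subgroup G) A →
        Disjoint (MulAction.orbit (P : Subgroup G) A) (MulAction.orbit (P : Subgroup G) B) := by
      intro A B hAB
      rw [Set.disjoint_left]
      intro z hA hB
      exact hAB (by rw [← MulAction.orbit_eq_iff.2 hA, MulAction.orbit_eq_iff.2 hB]; exact MulAction.mem_orbit_self B)
    have e := fun A (hA : A ≠ P) => (Nat.card_coe_set_eq (MulAction.orbit (P : Subgroup G) A)).symm.trans (horb P A hA).1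
    have h3 := Set.ncard_le_ncard (Set.subset_univ (MulAction.orbit (P : Subgroup G) Q₁ ∪
      MulAction.orbit (P : Subgroup G) Q₂ ∪ MulAction.orbit (P : Subgroup G) Q)) (Set.toFinite _)
    rw [Set.ncard_univ, h15, Set.ncard_union_eq (Set.disjoint_union_left.2 ⟨d _ _ hc.1, d _ _ hc.2⟩),
      Set.ncard_union_eq (d _ _ h12), e _ h1, e _ h2, e _ hQ] at h3
    omega
  -- the intersection of `P` with another Sylow subgroup is constant on orbits
  have hconst : ∀ P Q Q' : Sylow 7 G, Q ≠ P → Q' ∈ MulAction.orbit (P : Subgroup G) Q →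
      (P : Subgroup G) ⊓ (Q' : Subgroup G) = (P : Subgroup G) ⊓ (Q : Subgroup G) := by
    intro P Q Q' hQ hQ'
    set D := (P : Subgroup G) ⊓ (Q : Subgroup G) with hD
    have hn2 : (D.subgroupOf (P : Subgroup G)).Normal := by
      have hne : D.subgroupOf (P : Subgroup G) ≠ ⊤ := fun he => by
        have := (horb P Q hQ).2
        rw [Subgroup.relIndex, he, Subgroup.index_top] at this
        omega
      refine Subgroup.normal_of_index_eq_minFac_card ?_
      obtain ⟨m, hm⟩ := IsPGroup.iff_card.1 P.isPGroup'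
      rw [show (D.subgroupOf (P : Subgroup G)).index = 7 from (horb P Q hQ).2, hm]
      rcases m with _ | m
      · exfalso
        have h7 := (horb P Q hQ).2 ▸ Subgroup.relIndex_dvd_card D (P : Subgroup G)
        rw [hm] at h7
        exact absurd (Nat.le_of_dvd (by norm_num) h7) (by norm_num)
      · exact ((Nat.pow_minFac m.succ_ne_zero).trans (Nat.Prime.minFac_eq (by norm_num))).symm
    obtain ⟨x, rfl⟩ := hQ'
    ext z
    constructor
    · rintro ⟨hzP, hz⟩
      have hm : (x : G)⁻¹ * z * x ∈ (P : Subgroup G) :=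
        (P : Subgroup G).mul_mem ((P : Subgroup G).mul_mem ((P : Subgroup G).inv_mem x.2) hzP) x.2
      have hz2 : (x : G)⁻¹ * z * x ∈ D := ⟨hm, (Cfsg.Agent.Transfer.mem_smul_sylow Q).1 hz⟩
      have := hn2.conj_mem ⟨(x : G)⁻¹ * z * x, hm⟩ hz2 x
      simpa [Subgroup.mem_subgroupOf, mul_assoc] using this
    · rintro hz
      have h2 := hn2.conj_mem ⟨z, hz.1⟩ hz x⁻¹
      have h3 : (x : G)⁻¹ * z * x ∈ D := by simpa [Subgroup.mem_subgroupOf, mul_assoc] using h2
      exact ⟨hz.1, (Cfsg.Agent.Transfer.mem_smul_sylow Q).2 h3.2⟩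
  -- two intersections fix everything
  have hbot : ∀ P Q₁ Q₂ : Sylow 7 G, Q₁ ≠ P → Q₂ ≠ P → Q₂ ∉ MulAction.orbit (P : Subgroup G) Q₁ →
      ((P : Subgroup G) ⊓ (Q₁ : Subgroup G)) ⊓ ((P : Subgroup G) ⊓ (Q₂ : Subgroup G)) = ⊥ := by
    intro P Q₁ Q₂ h1 h2 h12
    rw [eq_bot_iff]
    intro z hz
    refine Subgroup.mem_bot.2 (hfaith z fun Q => Sylow.smul_eq_iff_mem_normalizer.2
      (Cfsg.Agent.Transfer.sylow_le_normalizer Q ?_))
    by_cases hQ : Q = P
    · exact hQ ▸ hz.1.1
    rcases hcover P Q₁ Q₂ h1 h2 h12 Q hQ with h | h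
    · exact ((hconst P Q₁ Q h1 h).symm ▸ hz.1 : z ∈ (P : Subgroup G) ⊓ (Q : Subgroup G)).2
    · exact ((hconst P Q₂ Q h2 h).symm ▸ hz.2 : z ∈ (P : Subgroup G) ⊓ (Q : Subgroup G)).2
  have hex2 : ∀ P : Sylow 7 G, ∃ Q₁ Q₂, Q₁ ≠ P ∧ Q₂ ≠ P ∧ Q₂ ∉ MulAction.orbit (P : Subgroup G) Q₁ := by
    intro P'
    obtain ⟨g, hg⟩ := MulAction.exists_smul_eq G P P'
    refine ⟨g • Q₁, g • Q₂, fun h => hQ₁ (smul_left_cancel g (h.trans hg.symm)),
      fun h => hQ₂P (smul_left_cancel g (h.trans hg.symm)), ?_⟩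
    rintro ⟨⟨x, hx⟩, hxe⟩
    apply hQ₂
    rw [← hg, Sylow.coe_subgroup_smul, Subgroup.mem_pointwise_smul_iff_inv_smul_mem] at hx
    refine ⟨⟨g⁻¹ * x * g, by simpa [mul_assoc] using hx⟩, ?_⟩
    have hxe' : x • g • Q₁ = g • Q₂ := hxe
    show (g⁻¹ * x * g) • Q₁ = Q₂
    rw [mul_smul, mul_smul, hxe', inv_smul_smul]
  -- a Sylow subgroup has order 7
  have hP7 : Nat.card (P : Subgroup G) = 7 := by
    set A := (P : Subgroup G) ⊓ (Q₁ : Subgroup G) with hA
    set B := (P : Subgroup G) ⊓ (Q₂ : Subgroup G) with hB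
    have hPA : Nat.card A * 7 = Nat.card (P : Subgroup G) := by
      have h0 := Cfsg.Agent.Grp.card_mul_relIndex (inf_le_left : A ≤ (P : Subgroup G))
      rwa [(horb P Q₁ hQ₁).2] at h0
    have hAle : Nat.card A ∣ 7 := by
      have h1 : Nat.card A = Nat.card A * 1 := (mul_one _).symm
      have h2 := Cfsg.Agent.Grp.relIndex_mul_card_inf A B
      rw [hbot P Q₁ Q₂ hQ₁ hQ₂P hQ₂, Subgroup.card_bot, one_mul] at h2
      rw [← h2]
      have h3 : B.relIndex A ∣ B.relIndex (P : Subgroup G) := by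
        have hnB : (B.subgroupOf (P : Subgroup G)).Normal := by
          have hc := fun x hx => hconst P Q₂ x hQ₂P hx
          refine ⟨fun z hz x => ?_⟩
          have hz' : (z : G) ∈ B := hz
          have hh := hc (((x : (P : Subgroup G)) : (P : Subgroup G)) • Q₂) ⟨x, rfl⟩
          show (x : G) * z * (x : G)⁻¹ ∈ B
          rw [hB, ← hh]
          refine ⟨(P : Subgroup G).mul_mem ((P : Subgroup G).mul_mem x.2 hz'.1) ((P : Subgroup G).inv_mem x.2),
            (Cfsg.Agent.Transfer.mem_smul_sylow Q₂).2 ?_⟩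
          simp only [mul_assoc, inv_mul_cancel_left, inv_mul_cancel, mul_one]
          exact hz'.2
        have h4 := Subgroup.relIndex_dvd_index_of_normal (B.subgroupOf (P : Subgroup G)) (A.subgroupOf (P : Subgroup G))
        rwa [Subgroup.relIndex_subgroupOf (inf_le_left : A ≤ _)] at h4
      rwa [(horb P Q₂ hQ₂P).2] at h3
    rcases (Nat.dvd_prime (by norm_num)).1 hAle with h1 | h7
    · omega
    exfalso
    -- count pairs (intersection, Sylow subgroup)
    have hall : ∀ R : Sylow 7 G, Nat.card (R : Subgroup G) = 49 := fun R => by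
      rw [R.card_eq_multiplicity, ← P.card_eq_multiplicity]; omega
    have hcardD : ∀ R Q : Sylow 7 G, Q ≠ R → Nat.card ((R : Subgroup G) ⊓ (Q : Subgroup G) : Subgroup G) = 7 := by
      intro R Q hQ
      have := Cfsg.Agent.Grp.card_mul_relIndex (inf_le_left : (R : Subgroup G) ⊓ (Q : Subgroup G) ≤ _)
      rw [(horb R Q hQ).2, hall] at this
      omega
    haveI : Fintype (Subgroup G) := Fintype.ofFinite _
    let Z : Finset (Subgroup G) := Finset.univ.filter fun D =>
      ∃ R Q : Sylow 7 G, Q ≠ R ∧ D = (R : Subgroup G) ⊓ (Q : Subgroup G)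
    have hsame : ∀ D ∈ Z, ∀ R : Sylow 7 G, D ≤ (R : Subgroup G) →
        ∃ Q, Q ≠ R ∧ D = (R : Subgroup G) ⊓ (Q : Subgroup G) := by
      intro D hD R hDR
      obtain ⟨R', Q, hQ, rfl⟩ := (Finset.mem_filter.1 hD).2
      by_cases hR : R' = R
      · exact ⟨Q, hR ▸ hQ, by rw [hR]⟩
      · exact ⟨R', hR, Subgroup.eq_of_le_of_card_ge (le_inf hDR inf_le_left)
          (by rw [hcardD R R' hR, hcardD R' Q hQ])⟩
    have hR2 : ∀ R : Sylow 7 G, (Z.filter fun D => D ≤ (R : Subgroup G)).card = 2 := by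
      intro R
      obtain ⟨S₁, S₂, hS₁, hS₂, hS⟩ := hex2 R
      have hne : (R : Subgroup G) ⊓ (S₁ : Subgroup G) ≠ (R : Subgroup G) ⊓ (S₂ : Subgroup G) := fun he => by
        have := hbot R S₁ S₂ hS₁ hS₂ hS
        rw [← he, inf_idem] at this
        have h7' := hcardD R S₁ hS₁
        rw [this, Subgroup.card_bot] at h7'
        omega
      rw [Finset.card_eq_two]
      refine ⟨_, _, hne, ?_⟩
      ext D
      simp only [Finset.mem_filter, Finset.mem_insert, Finset.mem_singleton]
      constructor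
      · rintro ⟨hD, hDR⟩
        obtain ⟨Q, hQ, rfl⟩ := hsame D hD R hDR
        rcases hcover R S₁ S₂ hS₁ hS₂ hS Q hQ with h | h
        · exact Or.inl (hconst R S₁ Q hS₁ h)
        · exact Or.inr (hconst R S₂ Q hS₂ h)
      · rintro (rfl | rfl)
        · exact ⟨Finset.mem_filter.2 ⟨Finset.mem_univ _, R, S₁, hS₁, rfl⟩, inf_le_left⟩
        · exact ⟨Finset.mem_filter.2 ⟨Finset.mem_univ _, R, S₂, hS₂, rfl⟩, inf_le_left⟩
    have hD8 : ∀ D ∈ Z, (Finset.univ.filter fun R : Sylow 7 G => D ≤ (R : Subgroup G)).card = 8 := by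
      intro D hD
      obtain ⟨R, Q, hQ, rfl⟩ := (Finset.mem_filter.1 hD).2
      have heq : (↑(Finset.univ.filter fun S : Sylow 7 G => (R : Subgroup G) ⊓ (Q : Subgroup G) ≤ (S : Subgroup G)) : Set (Sylow 7 G))
          = insert R (MulAction.orbit (R : Subgroup G) Q) := by
        ext S
        simp only [Finset.coe_filter, Finset.mem_univ, true_and, Set.mem_insert_iff]
        constructor
        · intro hS
          by_contra hc
          push Not at hc
          have := hbot R Q S hQ hc.1 hc.2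
          rw [inf_eq_left.2 (le_inf inf_le_left (show _ ≤ (S : Subgroup G) from hS))] at this
          have h7' := hcardD R Q hQ
          rw [this, Subgroup.card_bot] at h7'
          omega
        · rintro (rfl | hS)
          · exact (inf_le_left : _ ⊓ _ ≤ (S : Subgroup G))
          · show _ ≤ (S : Subgroup G)
            rw [← hconst R Q S hQ hS]
            exact inf_le_right
      rw [← Set.ncard_coe_finset, heq, Set.ncard_insert_of_notMem ?_, ← Nat.card_coe_set_eq, (horb R Q hQ).1]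
      rintro ⟨x, hx⟩
      have hRx : (x : G) • R = R :=
        Sylow.smul_eq_iff_mem_normalizer.2 (Cfsg.Agent.Transfer.sylow_le_normalizer R x.2)
      exact hQ (smul_left_cancel (x : G) (show (x : G) • Q = (x : G) • R from hx.trans hRx.symm))
    have hdc := Finset.sum_card_bipartiteAbove_eq_sum_card_bipartiteBelow (s := Z)
      (t := (Finset.univ : Finset (Sylow 7 G))) (fun D R => D ≤ ((R : Sylow 7 G) : Subgroup G))
    simp only [Finset.bipartiteAbove, Finset.bipartiteBelow] at hdc
    rw [Finset.sum_congr rfl hD8, Finset.sum_congr rfl (fun R _ => hR2 R), Finset.sum_const,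
      Finset.sum_const, Finset.card_univ, hcard15] at hdc
    simp only [smul_eq_mul] at hdc
    omega
  -- no element of the centralizer has prime order other than 7
  have hC : ∀ t : G, (∀ a ∈ (P : Subgroup G), a * t = t * a) → ∀ r : ℕ, r.Prime → r ≠ 7 → orderOf t = r → False := by
    intro t ht r hr hr7 hord
    obtain ⟨x, hxP, hx1⟩ : ∃ x ∈ (P : Subgroup G), x ≠ 1 :=
      (Subgroup.ne_bot_iff_exists_ne_one.1 (fun h : (P : Subgroup G) = ⊥ => by
        rw [h, Subgroup.card_bot] at hP7; omega)).elim fun x hx => ⟨x, x.2, fun h => hx (Subtype.ext h)⟩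
    have hxo : orderOf x = 7 := by
      have h1 := (P : Subgroup G).orderOf_dvd_natCard hxP
      rw [hP7] at h1
      exact ((Nat.dvd_prime (by norm_num)).1 h1).resolve_left fun h => hx1 (orderOf_eq_one_iff.1 h)
    have hzp : (P : Subgroup G) = Subgroup.zpowers x := (Subgroup.eq_of_le_of_card_ge
      (Subgroup.zpowers_le.2 hxP) (by rw [Nat.card_zpowers, hxo, hP7])).symm
    have hcomm : ∀ (Q : Sylow 7 G) (a : G), a ∈ (P : Subgroup G) → t • a • Q = a • t • Q := fun Q a ha => by
      rw [← mul_smul, ← mul_smul, ht a ha]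
    have htP : t • P = P := by
      rw [Sylow.smul_eq_iff_mem_normalizer]
      refine Subgroup.centralizer_le_normalizer _ ?_
      exact fun a ha => ht a ha
    -- powers of `x` move every other point
    have hfree : ∀ Q : Sylow 7 G, Q ≠ P → ∀ i : ℕ, (x ^ i) • Q = Q → x ^ i = 1 := by
      intro Q hQ i hi
      have hm : x ^ i ∈ (P : Subgroup G) ⊓ (Q : Subgroup G) := ⟨pow_mem hxP i,
        Cfsg.Agent.Transfer.mem_sylow_of_smul_eq Q P.isPGroup' (pow_mem hxP i) hi⟩
      have hb : (P : Subgroup G) ⊓ (Q : Subgroup G) = ⊥ := by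
        rw [← Subgroup.card_eq_one]
        have := Cfsg.Agent.Grp.card_mul_relIndex (inf_le_left : (P : Subgroup G) ⊓ (Q : Subgroup G) ≤ _)
        rw [(horb P Q hQ).2, hP7] at this
        omega
      exact hb.le hm
    have hmove : ∀ Q : Sylow 7 G, Q ≠ P → t • Q ∈ MulAction.orbit (P : Subgroup G) Q → t • Q = Q := by
      intro Q hQ ⟨a, ha⟩
      obtain ⟨i, hi⟩ := (Submonoid.mem_powers_iff _ _).1 (mem_powers_iff_mem_zpowers.2 (hzp ▸ a.2 : (a : G) ∈ Subgroup.zpowers x))
      have ha' : (x ^ i) • Q = t • Q := by rw [hi]; exact ha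
      have hpow : ∀ j : ℕ, (t ^ j) • Q = (x ^ (i * j)) • Q := by
        intro j
        induction j with
        | zero => simp
        | succ j ihj =>
          calc (t ^ (j + 1)) • Q = t • (t ^ j) • Q := by rw [pow_succ', mul_smul]
            _ = t • (x ^ (i * j)) • Q := by rw [ihj]
            _ = (x ^ (i * j)) • (x ^ i) • Q := by rw [hcomm Q _ (pow_mem hxP _), ← ha']
            _ = _ := by rw [← mul_smul, ← pow_add, Nat.mul_succ]
      have h1 := hpow r
      rw [← hord, pow_orderOf_eq_one, one_smul, hord] at h1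
      have h2 := hfree Q hQ _ h1.symm
      rw [← orderOf_dvd_iff_pow_eq_one, hxo] at h2
      have h3 : 7 ∣ i := ((Nat.Prime.dvd_mul (by norm_num)).1 h2).resolve_right fun h =>
        hr7 ((Nat.prime_dvd_prime_iff_eq (by norm_num) hr).1 h).symm
      rw [← ha', orderOf_dvd_iff_pow_eq_one.1 (hxo ▸ h3 : orderOf x ∣ i), one_smul]
    have hPout : ∀ Q, Q ≠ P → t • Q ≠ P := fun Q hQ h => hQ (smul_left_cancel t (h.trans htP.symm))
    -- if `t` fixes one more point then it is trivial
    by_cases hex : ∃ Q, Q ≠ P ∧ t • Q = Q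
    · obtain ⟨Q, hQ, hQf⟩ := hex
      obtain ⟨Q', hQ', hQ'n⟩ : ∃ Q', Q' ≠ P ∧ Q' ∉ MulAction.orbit (P : Subgroup G) Q := by
        rcases em (Q₁ ∈ MulAction.orbit (P : Subgroup G) Q) with h | h
        · exact ⟨Q₂, hQ₂P, fun h2 => hQ₂ (by rw [MulAction.orbit_eq_iff.2 h]; exact h2)⟩
        · exact ⟨Q₁, hQ₁, h⟩
      have hfix1 : ∀ S ∈ MulAction.orbit (P : Subgroup G) Q, t • S = S := by
        rintro S ⟨a, rfl⟩
        show t • (a : G) • Q = (a : G) • Q
        rw [hcomm Q _ a.2, hQf]
      have hfix2 : t • Q' = Q' := by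
        refine hmove Q' hQ' ((hcover P Q Q' hQ hQ' hQ'n (t • Q') (hPout Q' hQ')).resolve_left fun h => hQ'n ?_)
        have : t • (t • Q') = t • Q' := hfix1 _ h
        rwa [smul_left_cancel t this] at h
      have h1 : t = 1 := hfaith t fun S => by
        by_cases hS : S = P
        · rw [hS]; exact htP
        rcases hcover P Q Q' hQ hQ' hQ'n S hS with h | ⟨a, rfl⟩
        · exact hfix1 S h
        · show t • (a : G) • Q' = (a : G) • Q'
          rw [hcomm Q' _ a.2, hfix2]
      rw [h1, orderOf_one] at hord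
      exact hr.ne_one hord.symm
    push Not at hex
    -- otherwise `t` exchanges the orbits and is an odd permutation
    have hnot : ∀ Q, Q ≠ P → t • Q ∉ MulAction.orbit (P : Subgroup G) Q := fun Q hQ h =>
      hex Q hQ (hmove Q hQ h)
    have ht2 : ∀ Q, Q ≠ P → t • t • Q ∈ MulAction.orbit (P : Subgroup G) Q := by
      intro Q hQ
      exact (hcover P Q (t • Q) hQ (hPout Q hQ) (hnot Q hQ) _ (hPout _ (hPout Q hQ))).resolve_right
        (hnot _ (hPout Q hQ))
    have hr2 : r = 2 := by
      by_contra hne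
      obtain ⟨j, hj⟩ := hr.odd_of_ne_two hne
      have hpar : ∀ j : ℕ, (t ^ (2 * j)) • Q₁ ∈ MulAction.orbit (P : Subgroup G) Q₁ := by
        intro j
        induction j with
        | zero => rw [Nat.mul_zero, pow_zero, one_smul]; exact MulAction.mem_orbit_self _
        | succ j ihj =>
          obtain ⟨a, ha⟩ := ihj
          rw [show 2 * (j + 1) = 2 + 2 * j by ring, pow_add, mul_smul, ← ha, pow_two, mul_smul]
          show t • t • (a : G) • Q₁ ∈ _
          rw [hcomm _ _ a.2, hcomm _ _ a.2]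
          obtain ⟨b, hb⟩ := ht2 Q₁ hQ₁
          rw [← hb]
          exact ⟨a * b, mul_smul (a : G) (b : G) Q₁⟩
      obtain ⟨a, ha⟩ := hpar j
      have h1 : (t ^ r) • Q₁ = t • (a : G) • Q₁ := by
        rw [hj, pow_succ', mul_smul, ← ha]; rfl
      rw [← hord, pow_orderOf_eq_one, one_smul, hcomm _ _ a.2] at h1
      refine hnot Q₁ hQ₁ ⟨a⁻¹, ?_⟩
      show (a : G)⁻¹ • Q₁ = t • Q₁
      rw [inv_smul_eq_iff]; exact h1
    have hsupp : (φ t).support = Finset.univ.erase P := by
      ext S
      simp only [Equiv.Perm.mem_support, Finset.mem_erase, Finset.mem_univ, and_true]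
      constructor
      · intro h hS; exact h (hS ▸ htP)
      · exact fun hS => hex S hS
    have hσ2 : φ t ^ 2 = 1 := by
      rw [← map_pow, ← hr2, ← hord, pow_orderOf_eq_one, map_one]
    have hct : ∀ n ∈ (φ t).cycleType, n = 2 := by
      intro n hn
      have h1 : n ∣ 2 := (Equiv.Perm.dvd_of_mem_cycleType hn).trans (orderOf_dvd_of_pow_eq_one hσ2)
      exact le_antisymm (Nat.le_of_dvd (by norm_num) h1) (Equiv.Perm.two_le_of_mem_cycleType hn)
    have hsum : (φ t).cycleType.sum = 2 * Multiset.card (φ t).cycleType := by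
      rw [Multiset.eq_replicate_card.2 hct, Multiset.sum_replicate, Multiset.card_replicate, smul_eq_mul, mul_comm]
    have hk : Multiset.card (φ t).cycleType = 7 := by
      have : (φ t).cycleType.sum = 14 := by
        rw [Equiv.Perm.sum_cycleType, hsupp, Finset.card_erase_of_mem (Finset.mem_univ _), Finset.card_univ, hcard15]
      omega
    have hs := heven t
    rw [Equiv.Perm.sign_of_cycleType, hsum, hk] at hs
    exact absurd hs (by decide)
  set N := Subgroup.normalizer (P : Set G) with hN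
  have hPN : (P : Subgroup G) ≤ N := Cfsg.Agent.Transfer.sylow_le_normalizer P
  have hcyc : IsCyclic (P : Subgroup G) := isCyclic_of_prime_card (p := 7) hP7
  have hG : Nat.card G = 15 * Nat.card N := by
    rw [← N.index_mul_card, hN, ← P.card_eq_index_normalizer, h15]
  -- the normalizer has order dividing 42
  set C := (Subgroup.centralizer (P : Set G)).subgroupOf N with hCdef
  have hC7 : Nat.card C = 7 := by
    have hle : (P : Subgroup G).subgroupOf N ≤ C := fun a ha b hb =>
      congrArg Subtype.val ((hcyc.isMulCommutative).is_comm.comm ⟨b, hb⟩ ⟨(a : G), ha⟩)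
    have hP' : Nat.card ((P : Subgroup G).subgroupOf N) = 7 := by
      rw [Nat.card_congr (Subgroup.subgroupOfEquivOfLe hPN).toEquiv, hP7]
    rw [← hP', eq_comm]
    by_contra hne
    have hd := Subgroup.card_dvd_of_le hle
    rw [hP'] at hd
    obtain ⟨m, hm⟩ := hd
    have hm1 : m ≠ 1 := fun h => hne (by rw [hP', hm, h, mul_one])
    obtain ⟨r, hr, hrm⟩ := Nat.exists_prime_and_dvd hm1
    haveI := Fact.mk hr
    obtain ⟨t, ht⟩ := exists_prime_orderOf_dvd_card' (G := C) r (hm ▸ hrm.mul_left 7)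
    have ht' : orderOf ((t : N) : G) = r := by rw [Subgroup.orderOf_coe, Subgroup.orderOf_coe, ht]
    by_cases hr7 : r = 7
    · subst hr7
      have h49 : 7 * 7 ∣ Nat.card G := (mul_dvd_mul_left 7 hrm).trans
        (hm ▸ (Subgroup.card_subgroup_dvd_card C).trans (Subgroup.card_subgroup_dvd_card N))
      have := P.pow_dvd_card_of_pow_dvd_card (n := 2) (by rw [pow_two]; exact h49)
      rw [hP7] at this
      exact absurd (Nat.le_of_dvd (by norm_num) this) (by norm_num)
    · exact hC _ t.2 r hr hr7 ht'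
  have hN42 : Nat.card N ∣ 42 := by
    have h1 : C = (P : Subgroup G).normalizerMonoidHom.ker := (Subgroup.normalizerMonoidHom_ker _).symm
    have h2 : C.index ∣ 6 := by
      rw [h1, Subgroup.index_ker]
      refine (Subgroup.card_subgroup_dvd_card _).trans ?_
      have : Nat.card (MulAut (P : Subgroup G)) = 6 := by
        rw [IsCyclic.card_mulAut, hP7]; decide
      rw [this]
    rw [← C.card_mul_index, hC7]
    exact mul_dvd_mul_left 7 h2
  have hGdvd : Nat.card G ∣ 630 := by rw [hG]; exact mul_dvd_mul_left 15 hN42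
  -- no normal p-complement for another prime divisor
  have hnpc : ∀ r : ℕ, r.Prime → r ≠ 7 → r ∣ Nat.card G → ¬ Cfsg.HasNormalPComplement r G := by
    intro r hr hr7 hrd hnp
    haveI := Fact.mk hr
    have htop := hgen (Cfsg.pResidual r G) fun Q x hx => by
      refine Cfsg.Agent.Transfer.mem_pResidual_of_coprime ?_
      obtain ⟨k, hk⟩ := IsPGroup.iff_orderOf.1 Q.isPGroup' ⟨x, hx⟩
      rw [Subgroup.orderOf_mk] at hk
      rw [hk]
      exact ((Nat.coprime_primes (by norm_num) hr).2 (Ne.symm hr7)).pow_left k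
    have := Cfsg.Agent.Transfer.hasNormalPComplement_iff_not_dvd.1 hnp
    rw [htop, Subgroup.card_top] at this
    exact this hrd
  have hburn : ∀ r : ℕ, r.Prime → r ≠ 7 → r ∣ Nat.card G → ¬ r ^ 2 ∣ Nat.card G →
      (∀ q : ℕ, q.Prime → q ≠ r → q ∣ Nat.card G → ¬ q ∣ r - 1) → False := by
    intro r hr hr7 hrd hr2 hq
    haveI := Fact.mk hr
    let R : Sylow r G := default
    obtain ⟨m, hm⟩ := IsPGroup.iff_card.1 R.isPGroup'
    have hR : Nat.card (R : Subgroup G) = r := by
      have h1 := R.dvd_card_of_dvd_card hrd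
      have h2 : m ≤ 1 := by
        by_contra hlt
        exact hr2 ((pow_dvd_pow r (by omega : 2 ≤ m)).trans (hm ▸ Subgroup.card_subgroup_dvd_card _))
      interval_cases m
      · rw [hm, pow_zero] at h1; exact absurd (Nat.dvd_one.1 h1) hr.ne_one
      · rw [hm, pow_one]
    refine hnpc r hr hr7 hrd (Cfsg.Agent.Transfer.hasNormalPComplement_of_prime_elements R
      (isCyclic_of_prime_card (p := r) hR).isMulCommutative fun q hqp hqr g hg hk => ?_)
    obtain ⟨k, hk⟩ := hk
    haveI := Fact.mk hqp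
    rcases k with _ | k
    · rw [pow_zero, orderOf_eq_one_iff] at hk
      intro z _; simp [hk]
    have hqd : q ∣ Nat.card G := (dvd_pow_self q k.succ_ne_zero).trans (hk ▸ orderOf_dvd_natCard g)
    refine Cfsg.Agent.Transfer.conj_eq_self_of_counting (R : Subgroup G) hg hk fun d hd hne hmod => ?_
    rw [hR] at hd hne hmod
    have hd1 : d = 1 := ((Nat.dvd_prime hr).1 hd).resolve_right hne
    rw [hd1] at hmod
    exact hq q hqp hqr hqd ((Nat.modEq_iff_dvd' hr.one_le).1 hmod.symm)
  have hodd : ¬ 2 ∣ Nat.card G := fun h2 => hburn 2 Nat.prime_two (by norm_num) h2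
    (fun h4 => absurd (h4.trans hGdvd) (by norm_num))
    (fun q hq _ _ h => hq.ne_one (Nat.dvd_one.1 h))
  refine hburn 5 (by norm_num) (by norm_num) (by rw [hG]; exact Dvd.dvd.mul_right (by norm_num) _)
    (fun h25 => absurd (h25.trans hGdvd) (by norm_num)) ?_
  intro q hq _ hqd h4
  have h2 : q ∣ 2 ^ 2 := by simpa using h4
  exact hodd ((Nat.prime_dvd_prime_iff_eq hq Nat.prime_two).1 (hq.dvd_of_dvd_pow h2) ▸ hqd)

end Cfsg.Agent.S4304
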