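import Cfsg.Statements.S4305
import Cfsg.Agent.Lib.Recog.FpfSymComm

set_option autoImplicit false
open Cfsg

namespace Cfsg.Agent.S4305

universe u

open Cfsg.Agent.FpfSym
open scoped commutatorElement

theorem aux (n : ℕ) : ∀ (G : Type u) [Group G] [Finite G], Nat.card G = n → Group.IsSolvable G →
    Act G → Group.IsNilpotent (commutator G) := by
  induction n using Nat.strong_induction_on with
  | _ n ih =>
  intro G _ _ hn hG A
  classical
  haveI := hG
  rcases subsingleton_or_nontrivial G with hs | hs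
  · infer_instance
  obtain ⟨N, ⟨hN, hNb⟩, hNmin⟩ :=
    wellFounded_lt.has_min {N : Subgroup G | Inv A N ∧ N ≠ ⊥}
      ⟨⊤, ⟨inferInstance, fun _ _ => Subgroup.mem_top _, fun _ _ => Subgroup.mem_top _⟩, top_ne_bot⟩
  haveI := hN.normal
  have hmin' : ∀ M : Subgroup G, Inv A M → M ≤ N → M ≠ ⊥ → M = N := fun M h1 h3 h4 => by
    by_contra h
    exact hNmin M ⟨h1, h4⟩ (lt_of_le_of_ne h3 h)
  have hNab : ⁅N, N⁆ = ⊥ := by
    by_contra h
    have hi : ∀ σ : MulAut G, (∀ z ∈ N, σ z ∈ N) → ∀ x ∈ ⁅N, N⁆, σ x ∈ ⁅N, N⁆ := by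
      intro σ hσ x hx
      have : (⁅N, N⁆).map σ.toMonoidHom = ⁅N, N⁆ := by rw [Subgroup.map_commutator, map_eq_of_mem hσ]
      exact this ▸ Subgroup.mem_map_of_mem σ.toMonoidHom hx
    exact (Group.IsSolvable.commutator_lt_of_ne_bot hNb).ne
      (hmin' _ ⟨inferInstance, hi _ hN.r, hi _ hN.t⟩ (Subgroup.commutator_le_right N N) h)
  have hNc : ∀ x ∈ N, ∀ y ∈ N, x * y = y * x := fun x hx y hy =>
    Subgroup.mem_centralizer_iff.mp (Subgroup.commutator_eq_bot_iff_le_centralizer.mp hNab hy) x hx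
  letI : CommGroup N :=
    { (inferInstance : Group N) with mul_comm := fun x y => Subtype.ext (hNc x x.2 y y.2) }
  haveI : Nontrivial N := (Subgroup.nontrivial_iff_ne_bot N).mpr hNb
  obtain ⟨p, hp, hpd⟩ := Nat.exists_prime_and_dvd (n := Nat.card N) (Finite.one_lt_card.ne')
  haveI : Fact p.Prime := ⟨hp⟩
  have hp5 : 5 ≤ p := by
    obtain ⟨h2, h3⟩ := not_dvd_card A
    have hpG := hpd.trans N.card_subgroup_dvd_card
    by_contra h
    have := hp.two_le
    interval_cases p
    · exact h2 hpG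
    · exact h3 hpG
    · exact absurd hp (by norm_num)
  have helem : ∀ x ∈ N, x ^ p = 1 := by
    let M : Subgroup G :=
      { carrier := {x | x ∈ N ∧ x ^ p = 1}
        one_mem' := ⟨N.one_mem, one_pow p⟩
        mul_mem' := fun {a b} ha hb => ⟨N.mul_mem ha.1 hb.1, by
          rw [(Commute.mul_pow (hNc a ha.1 b hb.1)), ha.2, hb.2, one_mul]⟩
        inv_mem' := fun {a} ha => ⟨N.inv_mem ha.1, by rw [inv_pow, ha.2, inv_one]⟩ }
    have hM : Inv A M := ⟨⟨fun x hx g => ⟨hN.normal.conj_mem x hx.1 g, by rw [conj_pow, hx.2]; group⟩⟩,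
      fun x hx => ⟨hN.r x hx.1, by rw [← map_pow, hx.2, map_one]⟩,
      fun x hx => ⟨hN.t x hx.1, by rw [← map_pow, hx.2, map_one]⟩⟩
    obtain ⟨x, hx⟩ := exists_prime_orderOf_dvd_card' p hpd
    have hxM : (x : G) ∈ M := ⟨x.2, by rw [← hx, Subgroup.orderOf_coe x |>.symm, pow_orderOf_eq_one]⟩
    have hMb : M ≠ ⊥ := fun h => by
      rw [h, Subgroup.mem_bot] at hxM
      have : x = 1 := Subtype.ext hxM
      rw [this, orderOf_one] at hx
      exact hp.one_lt.ne hx
    have := hmin' M hM (fun x hx => hx.1) hMb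
    exact fun x hx => (this ▸ hx : x ∈ M).2
  let V := Additive N
  let val : V → G := fun v => ((Additive.toMul v : N) : G)
  have vext : ∀ {v w : V}, val v = val w → v = w := fun h => Additive.toMul.injective (Subtype.ext h)
  let R : AddMonoid.End V := MonoidHom.toAdditive ((A.r.toMonoidHom.comp N.subtype).codRestrict N fun z => hN.r _ z.2)
  let T : AddMonoid.End V := MonoidHom.toAdditive ((A.t.toMonoidHom.comp N.subtype).codRestrict N fun z => hN.t _ z.2)
  let ρ0 : G →* AddMonoid.End V :=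
    { toFun := fun g => MonoidHom.toAdditive (MulAut.conjNormal g : MulAut N).toMonoidHom
      map_one' := DFunLike.ext _ _ fun v => vext ((MulAut.conjNormal_apply 1 _).trans (by simp [val]))
      map_mul' := fun g h => DFunLike.ext _ _ fun v => vext (by
        show ((MulAut.conjNormal (g * h) : MulAut N) (Additive.toMul v) : G) =
          ((MulAut.conjNormal g : MulAut N) ((MulAut.conjNormal h : MulAut N) (Additive.toMul v)) : G)
        simp [mul_assoc]) }
  have hρ0 : ∀ g v, val (ρ0 g v) = g * val v * g⁻¹ := fun g v => MulAut.conjNormal_apply g _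
  have hR : ∀ v, val (R v) = A.r (val v) := fun v => rfl
  have hT : ∀ v, val (T v) = A.t (val v) := fun v => rfl
  have hRρ : ∀ g, R * ρ0 g = ρ0 (A.r g) * R := fun g => DFunLike.ext _ _ fun v => vext (by
    show val (R (ρ0 g v)) = val (ρ0 (A.r g) (R v))
    simp only [hR, hρ0, map_mul, map_inv])
  have hTρ : ∀ g, T * ρ0 g = ρ0 (A.t g) * T := fun g => DFunLike.ext _ _ fun v => vext (by
    show val (T (ρ0 g v)) = val (ρ0 (A.t g) (T v))
    simp only [hT, hρ0, map_mul, map_inv])
  let φ := ρ0.toHomUnits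
  have hφ : ∀ x, x ∈ φ.ker ↔ ρ0 x = 1 := fun x => by rw [MonoidHom.mem_ker, Units.ext_iff]; rfl
  have hker : ∀ x, x ∈ φ.ker ↔ ∀ z ∈ N, x * z = z * x := by
    intro x
    rw [hφ]
    constructor
    · intro h z hz
      have := hρ0 x (Additive.ofMul ⟨z, hz⟩)
      rw [h] at this
      exact (eq_mul_inv_iff_mul_eq.mp this).symm
    · intro h
      refine DFunLike.ext _ _ fun v => vext ?_
      rw [hρ0, h _ (Additive.toMul v).2, mul_inv_cancel_right]
      rfl
  have hkinv : ∀ σ : MulAut G, (∀ z ∈ N, σ z ∈ N) → ∀ x ∈ φ.ker, σ x ∈ φ.ker := by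
    intro σ hσ x hx
    rw [hker] at hx ⊢
    intro z hz
    obtain ⟨z', hz', rfl⟩ : z ∈ N.map σ.toMonoidHom := by rw [map_eq_of_mem hσ]; exact hz
    show σ x * σ z' = σ z' * σ x
    rw [← map_mul, ← map_mul, hx z' hz']
  obtain ⟨B, hBr, hBt⟩ := exists_quot A φ.ker (hkinv _ hN.r) (hkinv _ hN.t)
  let ρ : (G ⧸ φ.ker) →* AddMonoid.End V := (Units.coeHom _).comp (QuotientGroup.kerLift φ)
  have hl : ∀ g : G, ρ (QuotientGroup.mk g) = ρ0 g := fun g => rfl
  let Md : Mod (G ⧸ φ.ker) V :=
    { toAct := B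
      p := p, hp := hp, hp5 := hp5
      pV := fun v => vext (by
        show (((Additive.toMul v : N) ^ p : N) : G) = 1
        push_cast
        exact helem _ (Additive.toMul v).2)
      ρ := ρ
      inj := fun a b h => QuotientGroup.kerLift_injective φ (Units.ext h)
      R := R, T := T
      R3 := DFunLike.ext _ _ fun v => vext (A.r3 _)
      T2 := DFunLike.ext _ _ fun v => vext (A.t2 _)
      TR := DFunLike.ext _ _ fun v => vext (A.tr _)
      Rρ := fun x => by
        induction x using QuotientGroup.induction_on with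
        | H g => rw [hBr, hl, hl]; exact hRρ g
      Tρ := fun x => by
        induction x using QuotientGroup.induction_on with
        | H g => rw [hBt, hl, hl]; exact hTρ g
      vfpf := fun v h1 h2 => vext (A.fpf _ (congrArg val h1) (congrArg val h2)) }
  have hirr : Irred Md := by
    intro W hW hWR hWT
    by_cases hW0 : W = ⊥
    · exact Or.inl hW0
    refine Or.inr ?_
    let S : Subgroup G :=
      { carrier := {x | ∃ v ∈ W, val v = x}
        one_mem' := ⟨0, W.zero_mem, rfl⟩
        mul_mem' := by rintro a b ⟨v, hv, rfl⟩ ⟨w, hw, rfl⟩; exact ⟨v + w, W.add_mem hv hw, rfl⟩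
        inv_mem' := by rintro a ⟨v, hv, rfl⟩; exact ⟨-v, W.neg_mem hv, rfl⟩ }
    have hS : S = N := by
      refine hmin' S ⟨⟨?_⟩, ?_, ?_⟩ ?_ ?_
      · rintro x ⟨v, hv, rfl⟩ g
        exact ⟨ρ0 g v, hl g ▸ hW (QuotientGroup.mk g) v hv, hρ0 g v⟩
      · rintro x ⟨v, hv, rfl⟩; exact ⟨R v, hWR v hv, hR v⟩
      · rintro x ⟨v, hv, rfl⟩; exact ⟨T v, hWT v hv, hT v⟩
      · rintro x ⟨v, hv, rfl⟩; exact (Additive.toMul v).2
      · intro h
        refine hW0 ((AddSubgroup.eq_bot_iff_forall W).mpr fun v hv => ?_)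
        have : val v ∈ S := ⟨v, hv, rfl⟩
        rw [h, Subgroup.mem_bot] at this
        exact vext this
    rw [eq_top_iff]
    intro v _
    obtain ⟨w, hw, hwv⟩ : val v ∈ S := SetLike.ext_iff.mp hS _ |>.mpr (Additive.toMul v).2
    exact (vext hwv : w = v) ▸ hw
  have hab := comm_of_irreducible Md hirr
  have hcC : commutator G ≤ φ.ker := by
    rw [commutator_def, Subgroup.commutator_le]
    intro x _ y _
    rw [← QuotientGroup.eq_one_iff, ← QuotientGroup.mk'_apply, map_commutatorElement,
      commutatorElement_eq_one_iff_mul_comm]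
    exact hab _ _
  obtain ⟨Q, -, -⟩ := exists_quot A N hN.r hN.t
  have hlt : Nat.card (G ⧸ N) < n := by
    subst hn
    rw [Subgroup.card_eq_card_quotient_mul_card_subgroup N]
    exact lt_mul_of_one_lt_right Nat.card_pos Finite.one_lt_card
  haveI := ih _ hlt (G ⧸ N) rfl inferInstance Q
  let f : commutator G →* commutator (G ⧸ N) :=
    ((QuotientGroup.mk' N).comp (commutator G).subtype).codRestrict _ fun x => by
      have : (commutator G).map (QuotientGroup.mk' N) ≤ commutator (G ⧸ N) := by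
        rw [commutator_def, commutator_def, Subgroup.map_commutator]
        exact Subgroup.commutator_mono le_top le_top
      exact this (Subgroup.mem_map_of_mem _ x.2)
  refine Subgroup.isNilpotent_of_ker_le_center f ?_
  intro z hz
  have hzN : (z : G) ∈ N := (QuotientGroup.eq_one_iff _).mp (congrArg Subtype.val hz)
  rw [Subgroup.mem_center_iff]
  exact fun g => Subtype.ext ((hker _).mp (hcC g.2) _ hzN)

/-- Let the symmetric group of degree 3 act by automorphisms on a finite solvable group `G` of order prime to 6, so that only the identity of `G` is fixed by all of it. Then the derived subgroup of `G` is nilpotent. -/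
theorem result {G : Type*} [Group G] [Finite G] [Group.IsSolvable G]
    [MulDistribMulAction (Equiv.Perm (Fin 3)) G] (hcop : (Nat.card G).Coprime 6)
    (hfpf : ∀ g : G, (∀ a : Equiv.Perm (Fin 3), a • g = g) → g = 1) :
    Group.IsNilpotent ↥(commutator G) := by
  let ψ := MulDistribMulAction.toMulAut (Equiv.Perm (Fin 3)) G
  have h3 : ∀ s : Equiv.Perm (Fin 3), s = 1 ∨ s = Equiv.swap 0 1 * Equiv.swap 1 2 ∨
      s = (Equiv.swap 0 1 * Equiv.swap 1 2) * (Equiv.swap 0 1 * Equiv.swap 1 2) ∨ s = Equiv.swap 0 1 ∨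
      s = Equiv.swap 0 1 * Equiv.swap 1 2 * Equiv.swap 0 1 ∨
      s = (Equiv.swap 0 1 * Equiv.swap 1 2) * (Equiv.swap 0 1 * Equiv.swap 1 2) * Equiv.swap 0 1 := by decide
  let A : Act G :=
    { r := ψ (Equiv.swap 0 1 * Equiv.swap 1 2)
      t := ψ (Equiv.swap 0 1)
      r3 := fun g => by
        rw [← MulAut.mul_apply, ← MulAut.mul_apply, ← map_mul, ← map_mul]
        exact (congrArg (fun s => ψ s g) (show _ = (1 : Equiv.Perm (Fin 3)) by decide)).trans (by simp)
      t2 := fun g => by
        rw [← MulAut.mul_apply, ← map_mul]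
        exact (congrArg (fun s => ψ s g) (show _ = (1 : Equiv.Perm (Fin 3)) by decide)).trans (by simp)
      tr := fun g => by
        rw [← MulAut.mul_apply, ← MulAut.mul_apply, ← MulAut.mul_apply, ← map_mul, ← map_mul, ← map_mul]
        exact congrArg (fun s => ψ s g) (by decide)
      fpf := fun g hr ht => hfpf g fun s => by
        change ψ s g = g
        rcases h3 s with rfl | rfl | rfl | rfl | rfl | rfl <;>
          simp only [map_one, map_mul, MulAut.mul_apply, MulAut.one_apply] at hr ht ⊢ <;> simp only [hr, ht]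
      hcop := hcop }
  exact aux (Nat.card G) G rfl inferInstance A

end Cfsg.Agent.S4305
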