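import Cfsg.Statements.S4306
import Cfsg.Agent.Lib.Grp.PQ.Fitting
-- import your own Cfsg.Agent.* helpers here

set_option autoImplicit false
open Cfsg

namespace Cfsg.Agent.S4306

/-- Let `A` be a non-abelian group of order `pq` with `p, q` distinct primes, acting by automorphisms on a finite solvable group `G` of order prime to `pq`, so that only the identity of `G` is fixed by all of `A`. Then `G` has Fitting height at most 2: there is a normal nilpotent subgroup `F` of `G` with `G/F` nilpotent. -/
theorem result {G A : Type*} [Group G] [Finite G]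
    [Group.IsSolvable G] [Group A] [Finite A] [MulDistribMulAction A G] (p q : ℕ) (hp : p.Prime) (hq : q.Prime) (hpq : p ≠ q)
    (hA : Nat.card A = p * q) (hAna : ¬ IsMulCommutative A) (hcop : (Nat.card G).Coprime (p * q))
    (hfpf : ∀ g : G, (∀ a : A, a • g = g) → g = 1) :
    ∃ F : Subgroup G, ∃ hF : F.Normal, Group.IsNilpotent ↥F ∧ Group.IsNilpotent (G ⧸ F) := by
  classical
  let φ : A →* MulAut G := MulDistribMulAction.toMulAut A G
  let X := SemidirectProduct G A φ
  have : Finite X := Finite.of_equiv _ SemidirectProduct.equivProd.symm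
  let ι : G →* X := SemidirectProduct.inl
  have hι : Function.Injective ι := SemidirectProduct.inl_injective
  let Gi := ι.range
  have : Gi.Normal := by
    show (SemidirectProduct.inl : G →* X).range.Normal
    rw [SemidirectProduct.range_inl_eq_ker_rightHom]
    infer_instance
  let e : G ≃* Gi := MonoidHom.ofInjective hι
  let eA : A ≃* (SemidirectProduct.inr : A →* X).range := MonoidHom.ofInjective SemidirectProduct.inr_injective
  let Ai : Subgroup X := (SemidirectProduct.inr : A →* X).range
  have hcAi : Nat.card Ai = p * q := (Nat.card_congr eA.toEquiv).symm.trans hA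
  have hsq : Squarefree (p * q) :=
    (Nat.squarefree_mul ((Nat.coprime_primes hp hq).mpr hpq)).mpr ⟨hp.squarefree, hq.squarefree⟩
  have hOp : Grp.PQ.IsOp Ai := by
    refine ⟨fun B hB hb1 hbA => ?_, ?_, fun h => hAna ⟨⟨fun a b => eA.injective (by
      rw [map_mul, map_mul]; exact h.is_comm.comm _ _)⟩⟩⟩
    · obtain ⟨d, d', hd, hd', hdd⟩ := Nat.dvd_mul.mp (hcAi ▸ Subgroup.card_dvd_of_le hB)
      rcases (Nat.dvd_prime hp).mp hd with rfl | rfl <;> rcases (Nat.dvd_prime hq).mp hd' with rfl | rfl
      · exact absurd (Subgroup.card_eq_one.mp (by rw [← hdd])) hb1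
      · rw [← hdd, one_mul]; exact hq
      · rw [← hdd, mul_one]; exact hp
      · exact absurd (Subgroup.eq_of_le_of_card_ge hB (by rw [hcAi, ← hdd])) hbA
    · haveI : IsZGroup Ai := IsZGroup.of_squarefree (by rw [hcAi]; exact hsq)
      infer_instance
  have hfpfi : Gi ⊓ Subgroup.centralizer (Ai : Set X) = ⊥ := by
    rw [eq_bot_iff]
    rintro _ ⟨⟨g, rfl⟩, hg⟩
    rw [Subgroup.mem_bot, hfpf g fun a => ?_, map_one]
    have := Subgroup.mem_centralizer_iff.mp hg _ ⟨a, rfl⟩
    refine SemidirectProduct.inl_injective (φ := φ) ?_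
    show SemidirectProduct.inl (φ a g) = _
    rw [SemidirectProduct.inl_aut, this, map_inv, mul_inv_cancel_right]
  have hGi : Group.IsSolvable Gi := Grp.isSolvable_of_injective e.symm.toMonoidHom e.symm.injective inferInstance
  have hc : (Nat.card Ai).Coprime (Nat.card Gi) := by
    rw [hcAi, ← Nat.card_congr e.toEquiv]; exact hcop.symm
  have hnil := Grp.quotient_fitting_isNilpotent hGi hOp hc hfpfi
  have hFn : (Cfsg.fittingSubgroup Gi).Normal := Grp.fittingSubgroup_isNormal
  refine ⟨(Cfsg.fittingSubgroup Gi).comap e.toMonoidHom, hFn.comap _, ?_, ?_⟩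
  · have hmap : ((Cfsg.fittingSubgroup Gi).comap e.toMonoidHom).map e.toMonoidHom = Cfsg.fittingSubgroup Gi :=
      Subgroup.map_comap_eq_self_of_surjective e.surjective _
    have := Grp.fittingSubgroup_isNilpotent (G := Gi)
    exact Group.nilpotent_of_mulEquiv ((Subgroup.equivMapOfInjective _ _ e.injective).trans
      (MulEquiv.subgroupCongr hmap)).symm
  · have := hFn.comap e.toMonoidHom
    exact Group.nilpotent_of_mulEquiv (QuotientGroup.congr ((Cfsg.fittingSubgroup Gi).comap e.toMonoidHom)
      (Cfsg.fittingSubgroup Gi) e (Subgroup.map_comap_eq_self_of_surjective e.surjective _)).symm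

end Cfsg.Agent.S4306
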