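import Cfsg.Statements.S4309
import Cfsg.Agent.Lib.Grp.Basic

set_option maxHeartbeats 1000000
set_option maxRecDepth 8000

set_option autoImplicit false
open Cfsg

namespace Cfsg.Agent.S4309

/-- Let `π` be a set of primes, `G` a finite group with a Hall `π`-subgroup `H` (every prime divisor of the order of `H` lies in `π` and no prime of `π` divides its index), and `A` a normal subgroup of `G`. Then `H ∩ A` is a Hall `π`-subgroup of `A` and the image of `H` in `G/A` is a Hall `π`-subgroup of `G/A`. -/
theorem result {G : Type*} [Group G] [Finite G] (π : Set ℕ)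
    (H A : Subgroup G) [A.Normal] (hH : Cfsg.IsPiHall π H) :
    Cfsg.IsPiHall π ((H ⊓ A).subgroupOf A) ∧ Cfsg.IsPiHall π (H.map (QuotientGroup.mk' A)) := by
  constructor
  · constructor
    · intro p hp hd
      rw [Nat.card_congr (Subgroup.subgroupOfEquivOfLe (inf_le_right : H ⊓ A ≤ A)).toEquiv] at hd
      exact hH.1 p hp (hd.trans (Subgroup.card_dvd_of_le inf_le_left))
    · intro p hp hpπ hd
      change p ∣ (H ⊓ A).relIndex A at hd
      rw [Subgroup.inf_relIndex_right] at hd
      refine hH.2 p hp hpπ (hd.trans ?_)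
      have hn : H ≤ Subgroup.normalizer (A : Set G) := by rw [Subgroup.normalizer_eq_top]; exact le_top
      have h1 := Agent.Grp.card_sup_mul_card_inf hn
      rw [← Agent.Grp.card_mul_relIndex (le_sup_left : H ≤ H ⊔ A),
        ← Agent.Grp.card_mul_relIndex (inf_le_right : H ⊓ A ≤ A), Subgroup.inf_relIndex_right] at h1
      have h2 : H.relIndex (H ⊔ A) = H.relIndex A :=
        Nat.eq_of_mul_eq_mul_left (Nat.mul_pos (Nat.card_pos (α := H)) (Nat.card_pos (α := ↥(H ⊓ A))))
          (by linarith)
      rw [← h2, ← Subgroup.relIndex_mul_index (le_sup_left : H ≤ H ⊔ A)]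
      exact dvd_mul_right _ _
  · constructor
    · intro p hp hd
      exact hH.1 p hp (hd.trans (Subgroup.card_map_dvd H _))
    · intro p hp hpπ hd
      exact hH.2 p hp hpπ (hd.trans (Subgroup.index_map_dvd H (QuotientGroup.mk'_surjective A)))

end Cfsg.Agent.S4309
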