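import Cfsg.Statements.S4314
import Mathlib
import Cfsg.Agent.Lib.Transfer.ClassDisconnected
import Cfsg.Agent.Lib.Transfer.OneClassSize

set_option maxHeartbeats 1000000
set_option maxRecDepth 8000

set_option autoImplicit false
open Cfsg
open scoped commutatorElement

namespace Cfsg.Agent.S4314

theorem ucs_two {G : Type*} [Group G] (hcom : ∀ a b : G, ⁅a, b⁆ ∈ Subgroup.center G) :
    Subgroup.upperCentralSeries G 2 = ⊤ := by
  rw [eq_top_iff]
  intro g _
  rw [Subgroup.mem_upperCentralSeries_succ_iff]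
  intro k
  rw [Subgroup.upperCentralSeries_one]
  exact hcom g k

open Cfsg.Agent.Transfer.ClassDisconnected in
theorem class_two {G : Type*} [Group G] [Finite G] {p : ℕ} (hp : p.Prime) (h : ∀ x : G, cix x = 1 ∨ cix x = p)
    (hex : ∃ x : G, cix x = p) (a b : G) : ⁅a, b⁆ ∈ Subgroup.center G := by
  obtain ⟨r, hr, hrG⟩ := Cfsg.Agent.Transfer.OneClassSize.exists_prime hp.one_lt h hex
  haveI : Fact r.Prime := ⟨hr⟩
  haveI : Group.IsNilpotent (G ⧸ Subgroup.center G) := hrG.isNilpotent
  haveI : Group.IsNilpotent G :=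
    Subgroup.isNilpotent_of_ker_le_center (QuotientGroup.mk' (Subgroup.center G)) (by rw [QuotientGroup.ker_mk'])
  rw [Subgroup.mem_center_iff]
  intro v
  rcases h v with hv | hv
  · exact (Subgroup.mem_center_iff.1 (cix_eq_one.1 hv) _).symm
  set C := Subgroup.centralizer ({v} : Set G) with hC
  have hCi : C.index = p := hv
  have hmax : IsCoatom C := by
    refine ⟨fun ht => hp.ne_one (by rw [← hCi, ht, Subgroup.index_top]), fun D hD => ?_⟩
    have h1 := Subgroup.relIndex_mul_index hD.le
    rw [hCi] at h1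
    rcases hp.eq_one_or_self_of_dvd D.index ⟨_, by rw [← h1, mul_comm]⟩ with h2 | h2
    · exact Subgroup.index_eq_one.1 h2
    · rw [h2] at h1
      exact absurd (Subgroup.relIndex_eq_one.1 (Nat.eq_of_mul_eq_mul_right hp.pos (by rw [h1, one_mul]))) hD.not_ge
  haveI : C.Normal := _root_.Subgroup.NormalizerCondition.normal_of_coatom C Group.normalizerCondition_of_isNilpotent hmax
  haveI : Fact p.Prime := ⟨hp⟩
  have hcard : Nat.card (G ⧸ C) = p := hCi
  haveI : IsCyclic (G ⧸ C) := isCyclic_of_prime_card hcard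
  have hab : ⁅a, b⁆ ∈ C := by
    rw [← QuotientGroup.eq_one_iff]
    show QuotientGroup.mk' C ⁅a, b⁆ = 1
    rw [map_commutatorElement]
    exact commutatorElement_eq_one_iff_commute.2 (IsCyclic.commGroup.mul_comm _ _)
  exact (Subgroup.mem_centralizer_singleton_iff.1 hab).symm


/-- Let `G` be a finite group every conjugacy class of which has size 1 or a prime. Then either `G` is nilpotent of class at most 2, or `G/Z(G)` is a non-abelian group of order `pq` for distinct primes `p, q` (a Frobenius group of order `pq`). -/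
theorem result {G : Type*} [Group G] [Finite G]
    (h : ∀ x : G, (Subgroup.centralizer ({x} : Set G)).index = 1 ∨ ((Subgroup.centralizer ({x} : Set G)).index).Prime) :
    Subgroup.upperCentralSeries G 2 = ⊤ ∨
      ∃ p q : ℕ, p.Prime ∧ q.Prime ∧ p ≠ q ∧ Nat.card (G ⧸ Subgroup.center G) = p * q ∧ ¬ IsMulCommutative (G ⧸ Subgroup.center G) := by

  open Cfsg.Agent.Transfer.ClassDisconnected in
  · by_cases hcom : IsMulCommutative (G ⧸ Subgroup.center G)
    · refine Or.inl (ucs_two fun a b => ?_)
      rw [← QuotientGroup.eq_one_iff]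
      show QuotientGroup.mk' (Subgroup.center G) ⁅a, b⁆ = 1
      rw [map_commutatorElement]
      exact commutatorElement_eq_one_iff_commute.2 (hcom.is_comm.comm _ _)
    by_cases hall : ∀ x : G, cix x = 1
    · exact Or.inl (ucs_two fun a b => cix_eq_one.1 (hall _))
    push Not at hall
    obtain ⟨x₀, hx₀⟩ := hall
    obtain ⟨y, hy⟩ := Finite.exists_max (fun g : G => cix g)
    have hq : (cix y).Prime := (h y).resolve_left fun h1 => hx₀
      (le_antisymm (by rw [← h1]; exact hy x₀) (cix_pos x₀))
    by_cases hone : ∀ x : G, cix x = 1 ∨ cix x = cix y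
    · exact Or.inl (ucs_two fun a b => class_two hq hone ⟨y, rfl⟩ a b)
    push Not at hone
    obtain ⟨x, hx1, hxy⟩ := hone
    have hp : (cix x).Prime := (h x).resolve_left hx1
    have hd : ∀ g : G, Only ({cix x} : Set ℕ) g ∨ Only ({cix x} : Set ℕ)ᶜ g := by
      intro g
      by_cases hg : cix g = cix x
      · exact Or.inl fun r hr hrd => (Nat.prime_dvd_prime_iff_eq hr hp).1 (hg ▸ hrd)
      · refine Or.inr fun r hr hrd hrx => ?_
        rcases h g with h1 | h1
        · exact hr.ne_one (Nat.dvd_one.1 ((show cix g = 1 from h1) ▸ hrd))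
        · exact hg (((Nat.prime_dvd_prime_iff_eq hr h1).1 hrd).symm.trans hrx)
    have hyS : Only ({cix x} : Set ℕ)ᶜ y := fun r hr hrd hrx =>
      hxy ((show r = cix x from hrx).symm.trans ((Nat.prime_dvd_prime_iff_eq hr hq).1 hrd))
    have hyc : y ∉ Subgroup.center G := fun h1 => hq.ne_one (cix_eq_one.2 h1)
    obtain ⟨A, hAn, hA, hAc⟩ := exists_abelian hd hyS hyc hy
    haveI := hAn
    have hxc : x ∉ Subgroup.center G := fun h1 => hx1 (cix_eq_one.2 h1)
    have hxS : Only ({cix x} : Set ℕ) x := fun r hr hrd => (Nat.prime_dvd_prime_iff_eq hr hp).1 hrd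
    have hC := fun k hk hkc => centralizer_eq (x₀ := k) hd hyS hyc hy hA hAc hk hkc
    have hAi : A.index = cix x := by rw [cix, hC x ((hA x).2 hxS) hxc]
    have hyA : y ∉ A := fun h1 => hyc (cix_eq_one.1 (Nat.eq_one_iff_not_exists_prime_dvd.2
      fun r hr hdr => hyS r hr hdr ((hA y).1 h1 r hr hdr)))
    have hinf : Subgroup.centralizer ({y} : Set G) ⊓ A = Subgroup.center G := by
      refine le_antisymm (fun k hk => ?_) (le_inf (Subgroup.center_le_centralizer _)
        fun k hk => (hA k).2 (Only.center hk))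
      by_contra hkc
      refine hyA (hC k hk.2 hkc ▸ ?_)
      exact Subgroup.mem_centralizer_singleton_iff.2 (Subgroup.mem_centralizer_singleton_iff.1 hk.1).symm
    refine Or.inr ⟨cix x, cix y, hp, hq, hxy, ?_, hcom⟩
    show (Subgroup.center G).index = _
    rw [← hinf, Cfsg.Agent.Grp.HallConv.index_inf_of_coprime
      (H := Subgroup.centralizer ({y} : Set G)) (K := A) (by rw [hAi]; exact (hxS.coprime hyS).symm), hAi, mul_comm]

end Cfsg.Agent.S4314
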