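import Cfsg.Statements.S4316
import Cfsg.Agent.Lib.Grp.FixBFC.Main

set_option autoImplicit false
universe u
open Cfsg

namespace Cfsg.Agent.S4316

/-- There is a function `f` of two natural-number arguments with the following property. Let `q` be a prime and `A` an elementary abelian group of order `q³` acting by automorphisms on a finite group `G` of order prime to `q`, and suppose that for every non-identity `a ∈ A` the derived subgroup of the fixed-point subgroup `C_G(a)` has order at most `m`. Then the derived subgroup of `G` has order at most `f(q, m)`. -/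
theorem result :
    ∃ f : ℕ → ℕ → ℕ, ∀ (q m : ℕ) (A G : Type u) [Group A] [Finite A] [Group G] [Finite G] [MulDistribMulAction A G],
      q.Prime → Nat.card A = q ^ 3 → (∀ a b : A, a * b = b * a) → (∀ a : A, a ^ q = 1) → ¬ q ∣ Nat.card G →
      (∀ a : A, a ≠ 1 → Nat.card ↥(commutator ↥(FixedPoints.subgroup (Subgroup.zpowers a) G)) ≤ m) →
      Nat.card ↥(commutator G) ≤ f q m := by
  refine ⟨fun q m => Agent.Grp.FixBFC.bfcBound
    (Agent.Grp.FixBFC.clsBound q m ^ (Agent.Grp.FixBFC.clsBound q m + 1)), ?_⟩
  intro q m A G _ _ _ _ _ hq hA hcomm hexp hqG hfix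
  set φ : A →* MulAut G := MulDistribMulAction.toMulAut A G
  let iG : G →* G ⋊[φ] A := SemidirectProduct.inl
  let iA : A →* G ⋊[φ] A := SemidirectProduct.inr
  have hinjG : Function.Injective iG := SemidirectProduct.inl_injective
  have hinjA : Function.Injective iA := SemidirectProduct.inr_injective
  haveI : Finite (G ⋊[φ] A) := Finite.of_equiv _ (SemidirectProduct.equivProd (φ := φ)).symm
  haveI : (iG.range).Normal := by
    rw [show iG.range = (SemidirectProduct.rightHom (φ := φ)).ker from
      SemidirectProduct.range_inl_eq_ker_rightHom]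
    exact MonoidHom.normal_ker _
  haveI : IsMulCommutative iA.range := ⟨⟨by
    rintro ⟨_, a, rfl⟩ ⟨_, b, rfl⟩
    exact Subtype.ext (by simp [← map_mul, hcomm a b])⟩⟩
  have hK : Nat.card iG.range = Nat.card G :=
    (Nat.card_congr (MonoidHom.ofInjective hinjG).toEquiv).symm
  have key := Agent.Grp.FixBFC.card_commutator_le_of_fixed (q := q) (m := m) hq iG.range iA.range
    (fun x _ => by rw [Subgroup.normalizer_eq_top]; exact Subgroup.mem_top x)
    (by rw [← hA]; exact (Nat.card_congr (MonoidHom.ofInjective hinjA).toEquiv).symm)
    (by rintro _ ⟨a, rfl⟩; rw [← map_pow, hexp, map_one])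
    (by rw [hK]; exact hqG) ?_
  · refine le_trans (le_of_eq ?_) key
    rw [← Subgroup.card_map_of_injective (Subgroup.subtype_injective iG.range),
      Subgroup.map_subtype_commutator, ← Subgroup.card_map_of_injective hinjG,
      commutator_def, Subgroup.map_commutator, ← MonoidHom.range_eq_map]
  · rintro _ ⟨a, rfl⟩ ha
    have hset : iG.range ⊓ Subgroup.centralizer ({iA a} : Set (G ⋊[φ] A)) =
        (FixedPoints.subgroup (Subgroup.zpowers a) G).map iG := by
      ext x
      constructor
      · rintro ⟨⟨g, rfl⟩, hg⟩
        refine ⟨g, ?_, rfl⟩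
        have h1 := Subgroup.mem_centralizer_singleton_iff.mp hg
        have h2 : φ a g = g := by
          have h3 := congrArg SemidirectProduct.left h1
          simp [iG, iA] at h3
          exact h3.symm
        have h4 : Subgroup.zpowers a ≤ MulAction.stabilizer A g := Subgroup.zpowers_le.mpr h2
        exact fun b => h4 b.2
      · rintro ⟨g, hg, rfl⟩
        refine ⟨⟨g, rfl⟩, Subgroup.mem_centralizer_singleton_iff.mpr ?_⟩
        have h2 : φ a g = g := hg ⟨a, Subgroup.mem_zpowers a⟩
        show iG g * iA a = iA a * iG g
        apply SemidirectProduct.ext <;> simp [iG, iA, h2]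
    refine le_trans (le_of_eq ?_) (hfix a fun h => ha (by rw [h, map_one]))
    rw [hset, ← Subgroup.card_map_of_injective (Subgroup.subtype_injective _),
      Subgroup.map_subtype_commutator,
      ← Subgroup.card_map_of_injective (Subgroup.subtype_injective (FixedPoints.subgroup (Subgroup.zpowers a) G)),
      Subgroup.map_subtype_commutator, ← Subgroup.card_map_of_injective hinjG, Subgroup.map_commutator]

end Cfsg.Agent.S4316
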