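import Cfsg.Statements.S4320
import Mathlib

set_option maxHeartbeats 1000000
set_option maxRecDepth 8000

set_option autoImplicit false
open Cfsg
open scoped commutatorElement Pointwise
set_option maxHeartbeats 1000000

namespace Cfsg.Agent.S4320

/-- The Principal Ideal Theorem of class field theory in its group-theoretic form: for every finite group `G`, the transfer homomorphism from `G` into the abelianization `G'/G''` of its derived subgroup `G'` is the trivial homomorphism. -/
theorem result {G : Type*} [Group G] [Finite G] :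
    MonoidHom.transfer (Abelianization.of : ↥(commutator G) →* Abelianization ↥(commutator G)) =
      (1 : G →* Abelianization ↥(commutator G)) := by
  classical
  ext g
  rw [MonoidHom.one_apply]
  let H := commutator G
  letI : CommGroup (G ⧸ H) := inferInstanceAs (CommGroup (Abelianization G))
  letI : Fintype (G ⧸ H) := Fintype.ofFinite _
  letI : Fintype H := Fintype.ofFinite _
  let Q := G ⧸ H
  let π : G →* Q := QuotientGroup.mk' H
  let A := Additive (Abelianization H)
  let s : Q → G := Quotient.out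
  have hs : ∀ q, π (s q) = q := fun q => QuotientGroup.out_eq' q
  have hmem : ∀ (x : G) (q : Q), (s q)⁻¹ * x * s ((π x)⁻¹ * q) ∈ H := fun x q => by
    rw [← QuotientGroup.eq_one_iff]
    show π _ = 1
    rw [map_mul, map_mul, map_inv, hs, hs, mul_assoc, mul_inv_cancel_left, inv_mul_cancel]
  let co : G → Q → A := fun x q => Additive.ofMul (Abelianization.of (⟨_, hmem x q⟩ : H))
  have hco : ∀ x y q, co (x * y) q = co x q + co y ((π x)⁻¹ * q) := fun x y q => by
    show Additive.ofMul (Abelianization.of _) = Additive.ofMul (Abelianization.of _ * Abelianization.of _)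
    rw [← map_mul]
    congr 2
    refine Subtype.ext ?_
    show (s q)⁻¹ * (x * y) * s ((π (x * y))⁻¹ * q) =
      (s q)⁻¹ * x * s ((π x)⁻¹ * q) * ((s ((π x)⁻¹ * q))⁻¹ * y * s ((π y)⁻¹ * ((π x)⁻¹ * q)))
    rw [map_mul, mul_inv_rev, mul_assoc (π y)⁻¹]
    group
  let W := Q → A × ℤ
  let τ : Q →* Module.End ℤ W :=
    { toFun := fun r => LinearMap.funLeft ℤ (A × ℤ) (fun q => r⁻¹ * q)
      map_one' := LinearMap.ext fun w => funext fun q => by simp [LinearMap.funLeft_apply]
      map_mul' := fun r r' => LinearMap.ext fun w => funext fun q => by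
        show w ((r * r')⁻¹ * q) = w (r'⁻¹ * (r⁻¹ * q))
        rw [← mul_assoc, mul_inv_rev] }
  let δ : Q → Q → ℤ := fun r q => if q = r then 1 else 0
  let d : G → W := fun x q => (co x q, δ (π x) q - δ 1 q)
  have hd : ∀ x y, d (x * y) = d x + τ (π x) (d y) := fun x y => funext fun q => by
    refine Prod.ext (hco x y q) ?_
    show δ (π (x * y)) q - δ 1 q = (δ (π x) q - δ 1 q) + (δ (π y) ((π x)⁻¹ * q) - δ 1 ((π x)⁻¹ * q))
    simp only [δ, map_mul, inv_mul_eq_iff_eq_mul, mul_one]
    ring
  have hd1 : d 1 = 0 := by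
    have := hd 1 1
    rw [mul_one, map_one π, map_one τ, Module.End.one_apply] at this
    exact left_eq_add.1 this
  have hdinv : ∀ x, d x⁻¹ = - τ (π x⁻¹) (d x) := fun x => by
    have := hd x⁻¹ x
    rw [inv_mul_cancel, hd1] at this
    exact eq_neg_of_add_eq_zero_left this.symm
  let R := MonoidAlgebra ℤ Q
  obtain ⟨ev, hev, hevsum⟩ : ∃ ev : R →ₐ[ℤ] Module.End ℤ W, (∀ r, ev (MonoidAlgebra.single r 1) = τ r) ∧
      ∀ x, ev x = x.coeff.sum fun r z => z • τ r :=
    ⟨MonoidAlgebra.lift ℤ (Module.End ℤ W) Q τ, fun r => (MonoidAlgebra.lift_single _ _ _).trans (one_smul _ _),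
      fun x => MonoidAlgebra.lift_apply τ x⟩
  obtain ⟨ε, hε, hεsum⟩ : ∃ ε : R →ₐ[ℤ] ℤ, (∀ r, ε (MonoidAlgebra.single r 1) = 1) ∧
      ∀ x, ε x = x.coeff.sum fun _ z => z :=
    ⟨MonoidAlgebra.lift ℤ ℤ Q 1, fun r => (MonoidAlgebra.lift_single _ _ _).trans (one_smul _ _),
      fun x => (MonoidAlgebra.lift_apply (1 : Q →* ℤ) x).trans (by simp)⟩
  -- cyclic decomposition
  obtain ⟨ι, _, n, hn, ⟨e⟩⟩ := CommGroup.equiv_prod_multiplicative_zmod_of_finite Q
  have : ∀ i, NeZero (n i) := fun i => ⟨by have := hn i; omega⟩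
  let xx : ι → Q := fun i => e.symm (Pi.mulSingle i (Multiplicative.ofAdd 1))
  let gg : ι → G := fun i => s (xx i)
  let v : ι ⊕ H → W := Sum.elim (fun i => d (gg i)) (fun h => d h)
  let Sp : (ι ⊕ H → R) → W := fun c => ∑ j, ev (c j) (v j)
  have hSpadd : ∀ c c', Sp (c + c') = Sp c + Sp c' := fun c c' => by
    simp only [Sp, Pi.add_apply, map_add, LinearMap.add_apply, Finset.sum_add_distrib]
  have hSpsingle : ∀ j r, Sp (Pi.single j r) = ev r (v j) := fun j r => by
    refine (Finset.sum_eq_single j ?_ ?_).trans ?_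
    · intro k _ hk; rw [Pi.single_eq_of_ne hk, map_zero, LinearMap.zero_apply]
    · intro h; exact absurd (Finset.mem_univ _) h
    · rw [Pi.single_eq_same]
  have hSpsmul : ∀ x c, Sp (fun j => x * c j) = ev x (Sp c) := fun x c => by
    simp [Sp, map_mul, map_sum]
  have hSpneg : ∀ c, Sp (-c) = - Sp c := fun c => by simp only [Sp, Pi.neg_apply, map_neg, LinearMap.neg_apply, Finset.sum_neg_distrib]
  have hspan : ∀ x, ∃ c, Sp c = d x := by
    intro x
    have hx : x ∈ Subgroup.closure (Set.range gg ∪ (H : Set G)) := by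
      have h1 : π x ∈ (Subgroup.closure (Set.range gg ∪ (H : Set G))).map π := by
        rw [← e.symm_apply_apply (π x), ← Finset.univ_prod_mulSingle (e (π x)), map_prod]
        refine Subgroup.prod_mem _ fun i _ => ?_
        rw [show Pi.mulSingle (M := fun i => Multiplicative (ZMod (n i))) i (e (π x) i) =
            Pi.mulSingle (M := fun i => Multiplicative (ZMod (n i))) i (Multiplicative.ofAdd (1 : ZMod (n i))) ^ (e (π x) i).toAdd.val by
          rw [← Pi.mulSingle_pow, ← ofAdd_nsmul, nsmul_one, ZMod.natCast_zmod_val, ofAdd_toAdd], map_pow]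
        exact Subgroup.pow_mem _ (show xx i ∈ _ from Subgroup.mem_map.2 ⟨gg i, Subgroup.subset_closure (Or.inl ⟨i, rfl⟩), hs _⟩) _
      obtain ⟨y, hy, hyx⟩ := h1
      have h2 : y⁻¹ * x ∈ H := by
        rw [← QuotientGroup.eq_one_iff]
        show π _ = 1
        rw [map_mul, map_inv, hyx, inv_mul_cancel]
      simpa using Subgroup.mul_mem _ hy (Subgroup.subset_closure (Set.mem_union_right _ h2))
    induction hx using Subgroup.closure_induction with
    | mem y hy =>
      rcases hy with ⟨i, rfl⟩ | hy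
      · exact ⟨Pi.single (Sum.inl i) 1, by rw [hSpsingle, map_one]; rfl⟩
      · exact ⟨Pi.single (Sum.inr ⟨y, hy⟩) 1, by rw [hSpsingle, map_one]; rfl⟩
    | one => exact ⟨0, by simp [Sp, hd1]⟩
    | mul y z _ _ ihy ihz =>
      obtain ⟨c, hc⟩ := ihy
      obtain ⟨c', hc'⟩ := ihz
      exact ⟨c + fun j => MonoidAlgebra.single (π y) 1 * c' j, by rw [hSpadd, hSpsmul, hev, hd, hc, hc']⟩
    | inv y _ ih =>
      obtain ⟨c, hc⟩ := ih
      exact ⟨-fun j => MonoidAlgebra.single (π y⁻¹) 1 * c j, by rw [hSpneg, hSpsmul, hev, hdinv, hc]⟩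
  have hIM : ∀ h ∈ H, ∃ c, (∀ j, ε (c j) = 0) ∧ Sp c = d h := by
    intro h hh
    have hh' : h ∈ Subgroup.closure (commutatorSet G) := commutator_eq_closure G ▸ hh
    have hker : ∀ y ∈ Subgroup.closure (commutatorSet G), π y = 1 := fun y hy =>
      (QuotientGroup.eq_one_iff y).2 (by rw [← commutator_eq_closure] at hy; exact hy)
    clear hh
    induction hh' using Subgroup.closure_induction with
    | mem y hy =>
      obtain ⟨a, b, rfl⟩ := hy
      obtain ⟨ca, hca⟩ := hspan a
      obtain ⟨cb, hcb⟩ := hspan b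
      refine ⟨(fun j => (1 - MonoidAlgebra.single (π b) 1) * ca j) + (fun j => (MonoidAlgebra.single (π a) 1 - 1) * cb j),
        fun j => by simp only [Pi.add_apply, map_add, map_mul, map_sub, map_one, hε, sub_self, zero_mul, add_zero], ?_⟩
      rw [hSpadd, hSpsmul, hSpsmul, hca, hcb, map_sub, map_sub, map_one, hev, hev, commutatorElement_def, hd, hd, hd,
        hdinv, hdinv]
      simp only [LinearMap.sub_apply, Module.End.one_apply, map_neg, ← Module.End.mul_apply, ← map_mul]
      rw [show π (a * b * a⁻¹) = π b by rw [map_mul, map_mul, map_inv, mul_comm (π a), mul_inv_cancel_right]]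
      rw [map_neg (τ (π (a * b))), map_neg (τ (π b)), ← Module.End.mul_apply, ← map_mul τ, ← Module.End.mul_apply, ← map_mul τ,
        show π (a * b) * π a⁻¹ = π b by rw [map_mul, map_inv, mul_comm (π a), mul_inv_cancel_right],
        show π b * π b⁻¹ = 1 by rw [map_inv, mul_inv_cancel], map_one, Module.End.one_apply]
      abel
    | one => exact ⟨0, fun j => by simp, by simp [Sp, hd1]⟩
    | mul y z hy hz ihy ihz =>
      obtain ⟨c, hc0, hc⟩ := ihy
      obtain ⟨c', hc0', hc'⟩ := ihz
      exact ⟨c + c', fun j => by simp [hc0 j, hc0' j], by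
        rw [hSpadd, hd, hc, hc', hker y hy, map_one, Module.End.one_apply]⟩
    | inv y hy ih =>
      obtain ⟨c, hc0, hc⟩ := ih
      exact ⟨-c, fun j => by simp [hc0 j], by
        rw [hSpneg, hdinv, hc, map_inv π, hker y hy, inv_one, map_one, Module.End.one_apply]⟩
  have hgg : ∀ i, gg i ^ n i ∈ H := fun i => by
    rw [← QuotientGroup.eq_one_iff]
    show π _ = 1
    rw [map_pow, hs, show xx i ^ n i = e.symm (Pi.mulSingle i (Multiplicative.ofAdd 1) ^ n i) from (map_pow _ _ _).symm,
      ← Pi.mulSingle_pow, ← ofAdd_nsmul, nsmul_one, ZMod.natCast_self, ofAdd_zero, Pi.mulSingle_one, map_one]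
  have hdpow : ∀ (x : G) (k : ℕ), d (x ^ k) = ev (∑ t ∈ Finset.range k, MonoidAlgebra.single (π x ^ t) 1) (d x) := by
    intro x k
    induction k with
    | zero => simp [hd1]
    | succ k ih => rw [Finset.sum_range_succ, map_add, LinearMap.add_apply, ← ih, hev, pow_succ, hd, map_pow]
  choose ci hci0 hci using fun i => hIM _ (hgg i)
  choose ch hch0 hch using fun h : H => hIM _ h.2
  let diag : ι ⊕ H → R := Sum.elim (fun i => ∑ t ∈ Finset.range (n i), MonoidAlgebra.single (xx i ^ t) 1) (fun _ => 1)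
  let crel : ι ⊕ H → ι ⊕ H → R := Sum.elim ci ch
  let B : Matrix (ι ⊕ H) (ι ⊕ H) R := Matrix.diagonal diag - Matrix.of crel
  have hrow : ∀ i, Sp (B i) = 0 := by
    intro i
    have h1 : Sp (B i) = ev (diag i) (v i) - Sp (crel i) := by
      rw [show B i = Pi.single i (diag i) + -(crel i) from funext fun j => by
        simp [B, Matrix.diagonal_apply, Pi.single_apply, sub_eq_add_neg, eq_comm], hSpadd, hSpneg, hSpsingle,
        ← sub_eq_add_neg]
    rw [h1, sub_eq_zero]
    rcases i with i | h
    · show ev _ (d (gg i)) = Sp (ci i)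
      rw [hci, hdpow, hs]
      rfl
    · show ev 1 (d h) = Sp (ch h)
      rw [hch, map_one, Module.End.one_apply]
  have hkill : ∀ j, ev B.det (v j) = 0 := by
    intro j
    have h1 : ∑ i, ev (B.adjugate j i) (Sp (B i)) = ev B.det (v j) := by
      simp only [Sp, map_sum, ← Module.End.mul_apply, ← map_mul]
      rw [Finset.sum_comm]
      simp only [← LinearMap.sum_apply, ← map_sum]
      simp only [← Matrix.mul_apply, Matrix.adjugate_mul]
      rw [Finset.sum_eq_single j]
      · simp
      · intro k _ hk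
        simp [Matrix.one_apply_ne (Ne.symm hk)]
      · exact fun h => absurd (Finset.mem_univ _) h
    rw [← h1]
    simp [hrow]
  have hall : ∀ x, ev B.det (d x) = 0 := fun x => by
    obtain ⟨c, hc⟩ := hspan x
    rw [← hc]
    simp only [Sp, map_sum, ← Module.End.mul_apply, ← map_mul]
    refine Finset.sum_eq_zero fun j _ => ?_
    rw [mul_comm, map_mul, Module.End.mul_apply, hkill, map_zero]
  -- the determinant is the norm element
  set β := B.det with hβ
  have hevβ : ∀ (w : W) (q : Q), ev β w q = ∑ r, β.coeff r • w (r⁻¹ * q) := fun w q => by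
    rw [hevsum]
    rw [Finsupp.sum_fintype _ _ (fun r => zero_smul ℤ (τ r)), LinearMap.sum_apply, Finset.sum_apply]
    rfl
  have hconst : ∀ q r : Q, β.coeff q = β.coeff r := by
    intro q r
    have h1 := congrArg Prod.snd (congrFun (hall (s (r⁻¹ * q))) q)
    rw [hevβ, Prod.snd_sum] at h1
    simp only [d, hs, Prod.smul_snd, δ, smul_eq_mul, inv_mul_eq_iff_eq_mul, mul_one, mul_sub, mul_ite, mul_zero,
      Finset.sum_sub_distrib, Pi.zero_apply, Prod.snd_zero] at h1
    rw [Finset.sum_eq_single r, Finset.sum_eq_single q, if_pos (mul_inv_cancel_left r q).symm, if_pos rfl] at h1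
    · exact (sub_eq_zero.1 (h1.trans rfl)).symm
    · exact fun b _ hb => if_neg (Ne.symm hb)
    · exact fun h => absurd (Finset.mem_univ _) h
    · exact fun b _ hb => if_neg fun h => hb (mul_right_cancel (h.symm.trans (mul_inv_cancel_left r q).symm))
    · exact fun h => absurd (Finset.mem_univ _) h
  have hεβ : ε β = ∑ r, β.coeff r := by
    rw [hεsum]
    rw [Finsupp.sum_fintype _ _ (fun r => by simp)]
  have hdet : ε β = (Nat.card Q : ℤ) := by
    rw [hβ, AlgHom.map_det]
    have h1 : ε.mapMatrix B = Matrix.diagonal (fun i => ε (diag i)) := by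
      ext i j
      have hc : ε (crel i j) = 0 := by rcases i with i | h; exacts [hci0 i j, hch0 h j]
      simp [B, Matrix.diagonal_apply, hc, apply_ite ε]
    rw [h1, Matrix.det_diagonal, Fintype.prod_sum_type, Nat.card_congr e.toEquiv, Nat.card_pi, Nat.cast_prod]
    simp [diag, map_sum, hε]
  have hone : ∀ r, β.coeff r = 1 := fun r => by
    have h1 : (Nat.card Q : ℤ) * β.coeff r = (Nat.card Q : ℤ) * 1 := by
      rw [mul_one]
      conv_rhs => rw [← hdet, hεβ, Finset.sum_congr rfl fun q _ => hconst q r, Finset.sum_const, Finset.card_univ,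
        nsmul_eq_mul, ← Nat.card_eq_fintype_card]
    exact mul_left_cancel₀ (by exact_mod_cast Nat.card_pos.ne') h1
  have hsum : ∑ q, co g q = 0 := by
    have h1 := congrArg Prod.fst (congrFun (hall g) 1)
    rw [hevβ, Prod.fst_sum] at h1
    simp only [d, hone, one_smul, mul_one, Pi.zero_apply, Prod.fst_zero] at h1
    rw [← Equiv.sum_comp (Equiv.inv Q) (co g)]
    simpa using h1.trans (rfl : _ = (0 : A))
  let T : H.LeftTransversal := ⟨Set.range s, Subgroup.isComplement_range_left fun q => QuotientGroup.out_eq' q⟩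
  have hT : ∀ q, (T.2.leftQuotientEquiv q : G) = s q := fun q =>
    Subgroup.IsComplement.leftQuotientEquiv_apply (fun q => QuotientGroup.out_eq' q) q
  rw [MonoidHom.transfer_def _ T g]
  simp only [Subgroup.leftTransversals.diff]
  refine Additive.ofMul.injective ?_
  rw [ofMul_prod, ofMul_one]
  refine Eq.trans ?_ hsum
  refine Finset.sum_congr (Finset.ext fun _ => by simp) fun q _ => ?_
  refine congrArg (fun z => Additive.ofMul (Abelianization.of z)) (Subtype.ext ?_)
  show (T.2.leftQuotientEquiv q : G)⁻¹ * ((g • T).2.leftQuotientEquiv q : G) = (s q)⁻¹ * g * s ((π g)⁻¹ * q)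
  rw [Subgroup.smul_apply_eq_smul_apply_inv_smul, hT, hT, smul_eq_mul, mul_assoc,
    show g⁻¹ • q = (π g)⁻¹ * q from QuotientGroup.induction_on q fun _ => rfl]

end Cfsg.Agent.S4320
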