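import Cfsg.Statements.S4321
import Cfsg.Agent.Lib.Fus.ClassSizeNilpotent
import Cfsg.Agent.Lib.Grp.HallConverse
import Cfsg.Agent.Lib.Grp.Coprime
import Cfsg.Agent.Lib.Transfer.Thompson

set_option maxHeartbeats 1000000
set_option maxRecDepth 8000

set_option autoImplicit false
open Cfsg

namespace Cfsg.Agent.S4321

open Cfsg.Agent Cfsg.Agent.Transfer Subgroup
open scoped Pointwise

section
universe u
variable {G : Type u} [Group G] [Finite G]

/-- `G` acting on itself by conjugation. -/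
structure Cj (G : Type u) where
  val : G

instance instCjAction : MulAction G (Cj G) where
  smul g x := ⟨g * x.val * g⁻¹⟩
  one_smul x := by
    show (⟨1 * x.val * 1⁻¹⟩ : Cj G) = x
    simp
  mul_smul g h x := by
    show (⟨g * h * x.val * (g * h)⁻¹⟩ : Cj G) = ⟨g * (h * x.val * h⁻¹) * g⁻¹⟩
    congr 1
    group

theorem Cj.smul_def (g : G) (x : Cj G) : g • x = ⟨g * x.val * g⁻¹⟩ := rfl

theorem mem_cs {x g : G} : g ∈ centralizer ({x} : Set G) ↔ g * x = x * g := by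
  rw [mem_centralizer_iff]
  exact ⟨fun h => (h x rfl).symm, fun h y hy => by rw [Set.mem_singleton_iff.1 hy]; exact h.symm⟩

theorem idx_eq_one_iff {x : G} : (centralizer ({x} : Set G)).index = 1 ↔ x ∈ center G := by
  rw [index_eq_one]
  exact ⟨fun h => mem_center_iff.2 fun g => mem_cs.1 (h.ge (mem_top g)),
    fun h => eq_top_iff.2 fun g _ => mem_cs.2 (mem_center_iff.1 h g)⟩

theorem cs_le_of_pow {x y : G} (h : y ∈ zpowers x) :
    centralizer ({x} : Set G) ≤ centralizer ({y} : Set G) := fun c hc =>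
  mem_cs.2 (mem_cs.1 ((zpowers_le (H := centralizer ({c} : Set G))).2 (mem_cs.2 (mem_cs.1 hc).symm) h)).symm

theorem idx_conj (g x : G) :
    (centralizer ({g * x * g⁻¹} : Set G)).index = (centralizer ({x} : Set G)).index := by
  have h : centralizer ({g * x * g⁻¹} : Set G) =
      (centralizer ({x} : Set G)).map (MulAut.conj g).toMonoidHom := by
    ext c
    constructor
    · intro hc
      refine ⟨g⁻¹ * c * g, mem_cs.2 ?_, show g * (g⁻¹ * c * g) * g⁻¹ = c by group⟩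
      calc g⁻¹ * c * g * x = g⁻¹ * (c * (g * x * g⁻¹)) * g := by group
        _ = x * (g⁻¹ * c * g) := by rw [mem_cs.1 hc]; group
    · rintro ⟨d, hd, rfl⟩
      refine mem_cs.2 ?_
      show g * d * g⁻¹ * (g * x * g⁻¹) = g * x * g⁻¹ * (g * d * g⁻¹)
      calc g * d * g⁻¹ * (g * x * g⁻¹) = g * (d * x) * g⁻¹ := by group
        _ = g * x * g⁻¹ * (g * d * g⁻¹) := by rw [mem_cs.1 hd]; group
  rw [h]
  exact Subgroup.index_map_equiv _ (MulAut.conj g)

theorem parts (p : ℕ) [hp : Fact p.Prime] (n : G) :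
    ∃ u ∈ zpowers n, ∃ v ∈ zpowers n, u * v = n ∧ (∃ i, orderOf u = p ^ i) ∧ ¬ p ∣ orderOf v := by
  set m := orderOf n with hm
  have hm0 : m ≠ 0 := (orderOf_pos n).ne'
  set a := p ^ m.factorization p
  set b := m / a with hb
  have hab : a * b = m := Nat.ordProj_mul_ordCompl_eq_self m p
  have hb0 : 0 < b := Nat.pos_of_ne_zero fun e => hm0 (by rw [← hab, e, mul_zero])
  have ha0 : 0 < a := pow_pos hp.out.pos _
  have hub : orderOf (n ^ b) = a := by
    rw [orderOf_pow' _ hb0.ne', ← hm, Nat.gcd_eq_right ⟨a, by rw [mul_comm]; exact hab.symm⟩,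
      Nat.div_eq_of_eq_mul_left hb0 hab.symm]
  have hva : orderOf (n ^ a) = b := by
    rw [orderOf_pow' _ ha0.ne', ← hm, Nat.gcd_eq_right ⟨b, hab.symm⟩]
  obtain ⟨x, y, hxy⟩ := Nat.isCoprime_iff_coprime.2 ((Nat.coprime_ordCompl hp.out hm0).pow_left (m.factorization p))
  refine ⟨(n ^ b) ^ y, zpow_mem (pow_mem (mem_zpowers n) b) y, (n ^ a) ^ x, zpow_mem (pow_mem (mem_zpowers n) a) x,
    ?_, ?_, fun hd => ?_⟩
  · rw [← zpow_natCast n a, ← zpow_natCast n b, ← zpow_mul, ← zpow_mul, ← zpow_add, mul_comm (b : ℤ) y,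
      mul_comm (a : ℤ) x, add_comm, hxy, zpow_one]
  · obtain ⟨i, -, hi⟩ := (Nat.dvd_prime_pow hp.out).1 ((orderOf_dvd_of_mem_zpowers
      (zpow_mem_zpowers (n ^ b) y)).trans hub.dvd)
    exact ⟨i, hi⟩
  · exact Nat.not_dvd_ordCompl hp.out hm0 (hd.trans ((orderOf_dvd_of_mem_zpowers
      (zpow_mem_zpowers (n ^ a) x)).trans hva.dvd))

theorem eq_top_of_conj {K : Type u} [Group K] [Finite K] (M : Subgroup K)
    (h : ∀ g : K, ∃ c : K, c⁻¹ * g * c ∈ M) : M = ⊤ := by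
  classical
  have hex : ∀ g : {g : K // g ≠ 1}, ∃ q : (K ⧸ M) × {m : M // m ≠ 1}, q.1.out * (q.2.1 : K) * q.1.out⁻¹ = g.1 := by
    rintro ⟨g, hg⟩
    obtain ⟨c, hc⟩ := h g
    set r := (c : K ⧸ M).out with hr
    have hcr : c⁻¹ * r ∈ M := by
      rw [← QuotientGroup.eq, hr, QuotientGroup.out_eq']
    have hm : r⁻¹ * g * r ∈ M := by
      have := M.mul_mem (M.mul_mem (M.inv_mem hcr) hc) hcr
      rwa [show (c⁻¹ * r)⁻¹ * (c⁻¹ * g * c) * (c⁻¹ * r) = r⁻¹ * g * r by group] at this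
    refine ⟨((c : K ⧸ M), ⟨⟨_, hm⟩, fun e => hg ?_⟩), ?_⟩
    · have e' : r⁻¹ * g * r = 1 := congrArg Subtype.val e
      calc g = r * (r⁻¹ * g * r) * r⁻¹ := by group
        _ = 1 := by rw [e']; group
    · show r * (r⁻¹ * g * r) * r⁻¹ = g
      group
  choose f hf using hex
  have hcard := Nat.card_le_card_of_injective f fun a b e => Subtype.ext (by rw [← hf a, ← hf b, e])
  rw [Nat.card_prod, ← Subgroup.index_eq_card] at hcard
  have h1 : ∀ (α : Type u) [Finite α] (a : α), Nat.card {x : α // x ≠ a} + 1 = Nat.card α := fun α _ a => by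
    haveI := Fintype.ofFinite α
    rw [Nat.card_eq_fintype_card, Nat.card_eq_fintype_card, Fintype.card_subtype_compl, Fintype.card_subtype_eq]
    have := Fintype.card_pos (α := α) (h := ⟨a⟩)
    omega
  have hK := h1 K 1
  have hM := h1 M 1
  have hmul := M.card_mul_index
  refine index_eq_one.1 ?_
  have hi : 0 < M.index := Nat.pos_of_ne_zero index_ne_zero_of_finite
  rw [← hM, add_mul, one_mul, mul_comm] at hmul
  omega

variable {p : ℕ} [hp : Fact p.Prime]

/-- A Sylow subgroup centralising `x` and containing a given commuting `p`-element. -/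
theorem exists_sylow_cs {x : G} (hx : ¬ p ∣ (centralizer ({x} : Set G)).index) {u : G}
    (hu : u ∈ centralizer ({x} : Set G)) (hup : ∃ i, orderOf u = p ^ i) :
    ∃ Q : Sylow p G, (Q : Subgroup G) ≤ centralizer ({x} : Set G) ∧ u ∈ (Q : Subgroup G) := by
  obtain ⟨i, hi⟩ := hup
  set C := centralizer ({x} : Set G)
  obtain ⟨S, hS⟩ := (IsPGroup.of_card (n := i) (by rw [Nat.card_zpowers, Subgroup.orderOf_mk, hi]) :
    IsPGroup p (zpowers (⟨u, hu⟩ : C))).exists_le_sylow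
  have hSi : ¬ p ∣ ((S : Subgroup C).map C.subtype).index := by
    rw [Subgroup.index_map_subtype]
    intro hd
    rcases hp.out.dvd_mul.1 hd with hd | hd
    · exact S.not_dvd_index hd
    · exact hx hd
  exact ⟨(S.isPGroup'.map C.subtype).toSylow hSi, map_subtype_le _, ⟨⟨u, hu⟩, hS (mem_zpowers _), rfl⟩⟩

theorem idx_inf {a b : G} (hco : ((centralizer ({a} : Set G)).index).Coprime (centralizer ({b} : Set G)).index) :
    (centralizer ({a} : Set G) ⊓ centralizer ({b} : Set G)).index =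
      (centralizer ({a} : Set G)).index * (centralizer ({b} : Set G)).index :=
  le_antisymm Subgroup.index_inf_le (Nat.le_of_dvd (Nat.pos_of_ne_zero index_ne_zero_of_finite)
    (hco.mul_dvd_of_dvd_of_dvd (index_dvd_of_le inf_le_left) (index_dvd_of_le inf_le_right)))

/-- The product of two commuting elements of coprime class sizes. -/
theorem product_bounds {a b : G} (hab : a * b = b * a)
    (hco : ((centralizer ({a} : Set G)).index).Coprime (centralizer ({b} : Set G)).index) :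
    (centralizer ({a * b} : Set G)).index ∣ (centralizer ({a} : Set G)).index * (centralizer ({b} : Set G)).index ∧
    (centralizer ({a} : Set G)).index ≤ (centralizer ({a * b} : Set G)).index := by
  set A := centralizer ({a} : Set G)
  set B := centralizer ({b} : Set G)
  set C := centralizer ({a * b} : Set G)
  have hC : A ⊓ B ≤ C := fun c hc => mem_cs.2 (by
    rw [← mul_assoc, mem_cs.1 hc.1, mul_assoc, mem_cs.1 hc.2, mul_assoc])
  have hBC : B ⊓ C ≤ A ⊓ B := fun c hc => ⟨mem_cs.2 (by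
    have h1 : c * (a * b) = a * b * c := mem_cs.1 hc.2
    have h2 : c * b = b * c := mem_cs.1 hc.1
    refine mul_right_cancel (b := b) ?_
    calc c * a * b = c * (a * b) := by group
      _ = a * (b * c) := by rw [h1]; group
      _ = a * c * b := by rw [← h2]; group), hc.1⟩
  refine ⟨idx_inf hco ▸ index_dvd_of_le hC, ?_⟩
  have h1 : A.index * B.index ≤ (B ⊓ C).index := by
    rw [← idx_inf hco]
    exact Nat.le_of_dvd (Nat.pos_of_ne_zero index_ne_zero_of_finite) (index_dvd_of_le hBC)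
  have h2 := h1.trans Subgroup.index_inf_le
  rw [mul_comm B.index] at h2
  exact Nat.le_of_mul_le_mul_right h2 (Nat.pos_of_ne_zero index_ne_zero_of_finite)

/-- If a product class is no larger than a factor, the other class lies in one coset of a normal subgroup. -/
theorem shift {a b : G} (hab : a * b = b * a)
    (hco : ((centralizer ({a} : Set G)).index).Coprime (centralizer ({b} : Set G)).index)
    (hN : (centralizer ({a * b} : Set G)).index = (centralizer ({a} : Set G)).index) :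
    ∃ K : Subgroup G, K.Normal ∧ Nat.card K ∣ (centralizer ({a} : Set G)).index ∧
      (∀ g : G, g * b * g⁻¹ * b⁻¹ ∈ K) ∧ ∀ g : G, ∀ k ∈ K, k * (g * b * g⁻¹) = g * b * g⁻¹ * k := by
  set S : Set G := {y | ConjClasses.mk y = ConjClasses.mk a} with hSdef
  have hS : ∀ y, y ∈ S ↔ ∃ c, c * a * c⁻¹ = y := fun y => by
    show ConjClasses.mk y = ConjClasses.mk a ↔ _
    rw [ConjClasses.mk_eq_mk_iff_isConj, isConj_comm, isConj_iff]
  set S' : Set G := {y | ConjClasses.mk y = ConjClasses.mk (a * b)} with hS'def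
  have hcard : Nat.card S' ≤ Nat.card S := by
    show Nat.card {y : G // ConjClasses.mk y = ConjClasses.mk (a * b)} ≤
      Nat.card {y : G // ConjClasses.mk y = ConjClasses.mk a}
    rw [Fus.card_classFiber, Fus.card_classFiber, hN]
  have hmap : ∀ h : G, ∀ y ∈ S, y * (h * b * h⁻¹) ∈ S' := by
    intro h y hy
    obtain ⟨g, rfl⟩ := (hS y).1 hy
    obtain ⟨l, hl, k, hk, e⟩ := Grp.HallConv.exists_mul_of_coprime hco.symm (g⁻¹ * h)
    show ConjClasses.mk _ = ConjClasses.mk (a * b)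
    rw [ConjClasses.mk_eq_mk_iff_isConj, isConj_comm, isConj_iff]
    refine ⟨g * l, ?_⟩
    have h1 : h = g * (l * k) := by rw [← e]; group
    calc g * l * (a * b) * (g * l)⁻¹ = g * (l * a) * b * l⁻¹ * g⁻¹ := by group
      _ = g * a * l * b * l⁻¹ * g⁻¹ := by rw [mem_cs.1 hl]; group
      _ = g * a * g⁻¹ * (g * l * (b * k) * k⁻¹ * l⁻¹ * g⁻¹) := by group
      _ = g * a * g⁻¹ * (h * b * h⁻¹) := by rw [← mem_cs.1 hk, h1]; group
  set gens : Set G := {z | ∃ g : G, g * b * g⁻¹ * b⁻¹ = z} with hgens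
  set K := closure gens
  haveI := Fintype.ofFinite G
  have hgenS : ∀ z ∈ gens, ∀ y ∈ S, y * z ∈ S := by
    rintro _ ⟨h, rfl⟩ y hy
    let f : S → S' := fun w => ⟨w * ((1 : G) * b * (1 : G)⁻¹), hmap 1 w w.2⟩
    have hf : Function.Bijective f := by
      have hinj : Function.Injective f := fun u w e => Subtype.ext (mul_right_cancel (congrArg Subtype.val e))
      exact (Nat.bijective_iff_injective_and_card f).2 ⟨hinj, le_antisymm (Nat.card_le_card_of_injective f hinj) hcard⟩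
    obtain ⟨⟨w, hw⟩, e⟩ := hf.2 ⟨y * (h * b * h⁻¹), hmap h y hy⟩
    have e' : w * ((1 : G) * b * (1 : G)⁻¹) = y * (h * b * h⁻¹) := congrArg Subtype.val e
    rw [show y * (h * b * h⁻¹ * b⁻¹) = w by
      rw [← mul_assoc, ← e']; group]
    exact hw
  have hKS : ∀ k ∈ K, ∀ y ∈ S, y * k ∈ S := by
    intro k hk
    refine closure_induction (p := fun z _ => ∀ y ∈ S, y * z ∈ S) hgenS (fun y hy => by rwa [mul_one])
      (fun z z' _ _ h1 h2 y hy => by rw [← mul_assoc]; exact h2 _ (h1 y hy)) (fun z _ hz y hy => ?_) hk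
    have hpow : ∀ i : ℕ, y * z ^ i ∈ S := fun i => by
      induction i with
      | zero => rwa [pow_zero, mul_one]
      | succ i ih => rw [pow_succ, ← mul_assoc]; exact hz _ ih
    have := hpow (orderOf z - 1)
    rwa [show z ^ (orderOf z - 1) = z⁻¹ from eq_inv_of_mul_eq_one_left (by
      rw [← pow_succ, Nat.sub_add_cancel (orderOf_pos z), pow_orderOf_eq_one])] at this
  have hKn : K.Normal := ⟨fun k hk g => by
    refine closure_induction (p := fun z _ => g * z * g⁻¹ ∈ K) ?_ (by rw [mul_one, mul_inv_cancel]; exact one_mem _)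
      (fun z z' _ _ h1 h2 => ?_) (fun z _ h1 => ?_) hk
    · rintro _ ⟨h, rfl⟩
      rw [show g * (h * b * h⁻¹ * b⁻¹) * g⁻¹ = (g * h) * b * (g * h)⁻¹ * b⁻¹ * (g * b * g⁻¹ * b⁻¹)⁻¹ by group]
      exact mul_mem (subset_closure ⟨g * h, rfl⟩) (inv_mem (subset_closure ⟨g, rfl⟩))
    · rw [show g * (z * z') * g⁻¹ = g * z * g⁻¹ * (g * z' * g⁻¹) by group]; exact mul_mem h1 h2
    · rw [show g * z⁻¹ * g⁻¹ = (g * z * g⁻¹)⁻¹ by group]; exact inv_mem h1⟩
  have hKdvd : Nat.card K ∣ (centralizer ({a} : Set G)).index := by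
    rw [← Fus.card_classFiber a]
    show Nat.card K ∣ Nat.card S
    have e : (QuotientGroup.mk : G → G ⧸ K) ⁻¹' ((QuotientGroup.mk : G → G ⧸ K) '' S) = S := by
      refine Set.Subset.antisymm ?_ (Set.subset_preimage_image _ _)
      rintro y ⟨w, hw, e⟩
      have := hKS _ (QuotientGroup.eq.1 e) w hw
      rwa [mul_inv_cancel_left] at this
    rw [← e, Nat.card_congr (QuotientGroup.preimageMkEquivSubgroupProdSet K _), Nat.card_prod]
    exact dvd_mul_right _ _
  have hKb : K ≤ centralizer ({b} : Set G) := by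
    set B := centralizer ({b} : Set G)
    haveI := hKn
    have e1 := relIndex_mul_relIndex (⊥ : Subgroup G) K (B ⊔ K) bot_le le_sup_right
    have e2 := relIndex_mul_relIndex (⊥ : Subgroup G) B (B ⊔ K) bot_le le_sup_left
    have e3 := relIndex_mul_relIndex (⊥ : Subgroup G) (K ⊓ B) B bot_le inf_le_right
    have e4 := relIndex_mul_relIndex (⊥ : Subgroup G) (K ⊓ B) K bot_le inf_le_left
    rw [Subgroup.relIndex_sup_right] at e1
    simp only [Subgroup.relIndex_bot_left, Subgroup.inf_relIndex_left, Subgroup.inf_relIndex_right] at e1 e2 e3 e4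
    have h5 : Nat.card B * B.relIndex (B ⊔ K) = Nat.card B * B.relIndex K := by
      rw [e2, ← e1, ← e3]
      conv_lhs => rw [← e4]
      ring
    have h6 := Nat.eq_of_mul_eq_mul_left Nat.card_pos h5
    rw [← relIndex_eq_one]
    refine Nat.eq_one_of_dvd_coprimes hco ((Subgroup.relIndex_dvd_card _ _).trans hKdvd) ?_
    rw [← h6]
    exact Dvd.intro _ (relIndex_mul_index (le_sup_left : B ≤ B ⊔ K))
  refine ⟨K, hKn, hKdvd, fun g => subset_closure ⟨g, rfl⟩, fun g k hk => ?_⟩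
  have h1 := hKn.conj_mem k hk g⁻¹
  rw [inv_inv] at h1
  have h2 : g⁻¹ * k * g * b = b * (g⁻¹ * k * g) := mem_cs.1 (hKb h1)
  calc k * (g * b * g⁻¹) = g * (g⁻¹ * k * g * b) * g⁻¹ := by group
    _ = g * b * g⁻¹ * k := by rw [h2]; group

/-- The exceptional configuration. -/
theorem exceptional {x₀ y₀ : G} (hx : orderOf x₀ = p) (hxi : ¬ p ∣ (centralizer ({x₀} : Set G)).index)
    (hxc : x₀ ∉ center G) (hyp : orderOf y₀ = p) (hyi : p ∣ (centralizer ({y₀} : Set G)).index)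
    (A : Subgroup G) (hAn : A.Normal) (hAp : IsPGroup p A) (hxA : x₀ ∈ A)
    (hAgen : A = closure {z | ∃ g : G, g * x₀ * g⁻¹ = z}) (hAc : IsMulCommutative A) :
    ∃ a : ℕ, a.Prime ∧ a ∣ (centralizer ({x₀} : Set G)).index ∧
      ∃ e : G, p ∣ orderOf e ∧ a * p ∣ (centralizer ({e} : Set G)).index := by
  by_contra hcon
  push Not at hcon
  set n := (centralizer ({x₀} : Set G)).index with hn
  set L := centralizer ({x₀} : Set G) with hL
  have hno : ∀ e : G, p ∣ orderOf e → p ∣ (centralizer ({e} : Set G)).index →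
      (centralizer ({e} : Set G)).index.Coprime n := fun e he hpe => Nat.coprime_of_dvd fun a ha h1 h2 =>
    hcon a ha h2 e he (Nat.Coprime.mul_dvd_of_dvd_of_dvd
      ((Nat.coprime_primes ha hp.out).2 fun h => hxi (h ▸ h2)) h1 hpe)
  have hn1 : n ≠ 1 := fun e => hxc (idx_eq_one_iff.1 e)
  have hAS : ∀ Q : Sylow p G, A ≤ (Q : Subgroup G) := fun Q => by
    obtain ⟨S, hS⟩ := hAp.exists_le_sylow
    obtain ⟨c, rfl⟩ := MulAction.exists_smul_eq G S Q
    intro z hz
    refine ⟨c⁻¹ * z * c, hS ?_, show c * (c⁻¹ * z * c) * c⁻¹ = z by group⟩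
    have := hAn.conj_mem z hz c⁻¹
    rwa [inv_inv] at this
  set KA := centralizer (A : Set G) with hKA
  haveI : KA.Normal := Subgroup.normal_centralizer
  have hKL : KA ≤ L := fun z hz => mem_cs.2 (mem_centralizer_iff.1 hz x₀ hxA).symm
  have hfixA : ∀ z : G, A ≤ centralizer ({z} : Set G) → z ∈ KA := fun z hz =>
    mem_centralizer_iff.2 fun a ha => mem_cs.1 (hz ha)
  -- `p'`-elements of `L`
  have hprime : ∀ w ∈ L, ¬ p ∣ orderOf w → ¬ p ∣ (centralizer ({w} : Set G)).index := by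
    intro w hw hwp hpd
    have hcm : Commute x₀ w := (mem_cs.1 hw).symm
    have hord : orderOf (x₀ * w) = p * orderOf w := by
      rw [hcm.orderOf_mul_eq_mul_orderOf_of_coprime (hx ▸ hp.out.coprime_iff_not_dvd.2 hwp), hx]
    have hz : ∀ u v : G, u * v = v * u → (orderOf u).Coprime (orderOf v) → u ∈ zpowers (u * v) := by
      intro u v huv hc
      obtain ⟨k, hk⟩ := exists_pow_eq_self_of_coprime (x := u) hc.symm
      have h2 : (u * v) ^ orderOf v = u ^ orderOf v := by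
        rw [Commute.mul_pow (show Commute u v from huv), pow_orderOf_eq_one, mul_one]
      have h3 := pow_mem (pow_mem (mem_zpowers (u * v)) (orderOf v)) k
      rwa [h2, hk] at h3
    have hco : (orderOf x₀).Coprime (orderOf w) := hx ▸ hp.out.coprime_iff_not_dvd.2 hwp
    have h1 := index_dvd_of_le (cs_le_of_pow (hz x₀ w hcm.eq hco))
    have h2 := index_dvd_of_le (cs_le_of_pow (show w ∈ zpowers (x₀ * w) by
      rw [hcm.eq]; exact hz w x₀ hcm.eq.symm hco.symm))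
    have h3 := hno (x₀ * w) (hord ▸ dvd_mul_right p _) (hpd.trans h2)
    exact hn1 (Nat.eq_one_of_dvd_coprimes h3 h1 dvd_rfl)
  -- `p`-elements centralise `A`
  obtain ⟨P, hPL, -⟩ := exists_sylow_cs (p := p) hxi (u := x₀) (mem_cs.2 rfl) ⟨1, by rw [hx, pow_one]⟩
  have hpA : ∀ l : G, (∃ i, orderOf l = p ^ i) → l ∈ KA := by
    intro l hl
    by_cases hpl : p ∣ (centralizer ({l} : Set G)).index
    · obtain ⟨i, hi⟩ := hl
      have hi0 : i ≠ 0 := fun e => hp.out.not_dvd_one (by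
        rw [e, pow_zero, orderOf_eq_one_iff] at hi
        rw [hi, idx_eq_one_iff.2 (one_mem _)] at hpl
        exact hpl)
      have hco := hno l (hi ▸ dvd_pow_self p hi0) hpl
      obtain ⟨Q, hQ⟩ := (IsPGroup.of_card (n := i) (by rw [Nat.card_zpowers, hi]) : IsPGroup p (zpowers l)).exists_le_sylow
      obtain ⟨g, hg⟩ := MulAction.exists_smul_eq G P Q
      have hl2 : (g * x₀ * g⁻¹) * l = l * (g * x₀ * g⁻¹) := by
        have := hQ (mem_zpowers l)
        rw [← hg] at this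
        obtain ⟨w, hw, e⟩ := this
        change g * w * g⁻¹ = l at e
        rw [← e]
        calc g * x₀ * g⁻¹ * (g * w * g⁻¹) = g * (x₀ * w) * g⁻¹ := by group
          _ = g * w * g⁻¹ * (g * x₀ * g⁻¹) := by rw [← mem_cs.1 (hPL hw)]; group
      rw [hKA, hAgen, centralizer_closure]
      refine mem_centralizer_iff.2 ?_
      rintro _ ⟨g', rfl⟩
      have hco' : (centralizer ({l} : Set G)).index.Coprime (centralizer ({g * x₀ * g⁻¹} : Set G)).index := by
        rw [idx_conj]; exact hco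
      obtain ⟨h, hh, k, hk, e⟩ := Grp.HallConv.exists_mul_of_coprime hco'.symm (g' * g⁻¹)
      have h' := mem_cs.1 hk
      have e2 : g' * x₀ * g'⁻¹ = h * (g * x₀ * g⁻¹) * h⁻¹ := by
        calc g' * x₀ * g'⁻¹ = (g' * g⁻¹) * (g * x₀ * g⁻¹) * (g' * g⁻¹)⁻¹ := by group
          _ = h * (k * (g * x₀ * g⁻¹)) * k⁻¹ * h⁻¹ := by rw [e]; group
          _ = h * (g * x₀ * g⁻¹) * h⁻¹ := by rw [h']; group
      rw [e2]
      have hh' : h * l = l * h := mem_cs.1 hh
      calc h * (g * x₀ * g⁻¹) * h⁻¹ * l = h * (g * x₀ * g⁻¹) * (h⁻¹ * (l * h)) * h⁻¹ := by group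
        _ = h * (g * x₀ * g⁻¹) * (h⁻¹ * (h * l)) * h⁻¹ := by rw [hh']
        _ = h * ((g * x₀ * g⁻¹) * l) * h⁻¹ := by group
        _ = (h * l) * (g * x₀ * g⁻¹) * h⁻¹ := by rw [hl2]; group
        _ = l * (h * (g * x₀ * g⁻¹) * h⁻¹) := by rw [hh']; group
    · obtain ⟨Q, hQ, -⟩ := exists_sylow_cs hpl (u := l) (mem_cs.2 rfl) hl
      exact hfixA l ((hAS Q).trans hQ)
  have hSK : ∀ Q : Sylow p G, (Q : Subgroup G) ≤ KA := fun Q z hz => by
    obtain ⟨i, hi⟩ := IsPGroup.iff_orderOf.1 Q.isPGroup' ⟨z, hz⟩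
    exact hpA z ⟨i, by rw [← hi, Subgroup.orderOf_mk]⟩
  -- the Sylow subgroup is normal
  have hPn : (P : Subgroup G).Normal := by
    set P' : Sylow p KA := P.subtype (hSK P) with hP'
    have htop : normalizer ((P' : Subgroup KA) : Set KA) = ⊤ := by
      refine eq_top_of_conj _ fun g => ?_
      obtain ⟨u, hu, v, hv, huv, hup, hvp⟩ := parts p (g : G)
      have huK : u ∈ KA := zpowers_le.2 g.2 hu
      have hvK : v ∈ KA := zpowers_le.2 g.2 hv
      have huv' : u ∈ centralizer ({v} : Set G) := cs_le_of_pow hv (cs_le_of_pow hu (mem_cs.2 rfl) |> fun h =>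
        mem_cs.2 (mem_cs.1 h).symm)
      obtain ⟨Q, hQ, huQ⟩ := exists_sylow_cs (hprime v (hKL hvK) hvp) huv' hup
      obtain ⟨c, hc⟩ := MulAction.exists_smul_eq KA P' (Q.subtype (hSK Q))
      refine ⟨c, Subgroup.mem_normalizer_fintype fun z hz => ?_⟩
      have hcz : c * z * c⁻¹ ∈ (Q.subtype (hSK Q) : Subgroup KA) := by rw [← hc]; exact ⟨z, hz, rfl⟩
      have hQn : g * (c * z * c⁻¹) * g⁻¹ ∈ (Q.subtype (hSK Q) : Subgroup KA) := by
        show (g : G) * ((c * z * c⁻¹ : KA) : G) * (g : G)⁻¹ ∈ (Q : Subgroup G)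
        have h1 : v * ((c * z * c⁻¹ : KA) : G) = ((c * z * c⁻¹ : KA) : G) * v :=
          (mem_cs.1 (hQ hcz)).symm
        rw [← huv, show u * v * ((c * z * c⁻¹ : KA) : G) * (u * v)⁻¹ =
          u * (v * ((c * z * c⁻¹ : KA) : G)) * v⁻¹ * u⁻¹ by group, h1,
          show u * (((c * z * c⁻¹ : KA) : G) * v) * v⁻¹ * u⁻¹ = u * ((c * z * c⁻¹ : KA) : G) * u⁻¹ by group]
        exact mul_mem (mul_mem huQ hcz) (inv_mem huQ)
      rw [← hc] at hQn
      obtain ⟨w, hw, e⟩ := hQn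
      change c * w * c⁻¹ = g * (c * z * c⁻¹) * g⁻¹ at e
      have e' : c⁻¹ * g * c * z * (c⁻¹ * g * c)⁻¹ = w := by
        calc c⁻¹ * g * c * z * (c⁻¹ * g * c)⁻¹ = c⁻¹ * (g * (c * z * c⁻¹) * g⁻¹) * c := by group
          _ = w := by rw [← e]; group
      rw [e']; exact hw
    have hf := Sylow.normalizer_sup_eq_top P'
    have hmap : (P' : Subgroup KA).map KA.subtype = (P : Subgroup G) := by
      rw [hP', Sylow.coe_subtype, Subgroup.subgroupOf_map_subtype]
      exact inf_eq_left.2 (hSK P)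
    rw [hmap] at hf
    rw [← normalizer_eq_top_iff, eq_top_iff, ← hf]
    refine sup_le le_rfl fun k hk => Subgroup.mem_normalizer_fintype fun z hz => ?_
    have := (mem_normalizer_iff.1 (htop.ge (mem_top (⟨k, hk⟩ : KA))) ⟨z, hSK P hz⟩).1 hz
    exact this
  haveI := hPn
  letI := Sylow.unique_of_normal P hPn
  have huniq : ∀ Q : Sylow p G, (Q : Subgroup G) = (P : Subgroup G) := fun Q => by rw [Subsingleton.elim Q P]
  have hpP : ∀ l : G, (∃ i, orderOf l = p ^ i) → l ∈ (P : Subgroup G) := fun l ⟨i, hi⟩ => by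
    obtain ⟨Q, hQ⟩ := (IsPGroup.of_card (n := i) (by rw [Nat.card_zpowers, hi]) : IsPGroup p (zpowers l)).exists_le_sylow
    exact huniq Q ▸ hQ (mem_zpowers l)
  have hPcent : ∀ w ∈ L, ¬ p ∣ orderOf w → (P : Subgroup G) ≤ centralizer ({w} : Set G) := fun w hw hwp => by
    obtain ⟨Q, hQ, -⟩ := exists_sylow_cs (p := p) (hprime w hw hwp) (u := 1) (one_mem _) ⟨0, by rw [orderOf_one, pow_zero]⟩
    rwa [huniq Q] at hQ
  -- an element of prime power order moving `x₀`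
  obtain ⟨a, ha, han⟩ := Nat.exists_prime_and_dvd hn1
  haveI := Fact.mk ha
  have hap : a ≠ p := fun e => hxi (e ▸ han)
  obtain ⟨W⟩ : Nonempty (Sylow a G) := inferInstance
  obtain ⟨g, hgW, hgL⟩ : ∃ g ∈ (W : Subgroup G), g ∉ L := by
    by_contra h
    push Not at h
    exact W.not_dvd_index (han.trans (index_dvd_of_le h))
  set Z := center (P : Subgroup G) with hZ
  have hmove : ∀ t : (P : Subgroup G), t ∉ Z → ∃ u : (P : Subgroup G),
      ((u * t * u⁻¹ : (P : Subgroup G)) : G) ∈ centralizer ({g} : Set G) := by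
    intro t ht
    have htp : p ∣ (centralizer ({(t : G)} : Set G)).index := by
      by_contra hnd
      obtain ⟨Q, hQ, -⟩ := exists_sylow_cs (p := p) hnd (u := 1) (one_mem _) ⟨0, by rw [orderOf_one, pow_zero]⟩
      exact ht (mem_center_iff.2 fun z => Subtype.ext (mem_cs.1 (hQ ((huniq Q).ge z.2))))
    obtain ⟨i, hi⟩ := IsPGroup.iff_orderOf.1 P.isPGroup' t
    rw [← Subgroup.orderOf_coe] at hi
    have hi0 : i ≠ 0 := fun e => ht (by
      rw [e, pow_zero, orderOf_eq_one_iff] at hi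
      rw [show t = 1 from Subtype.ext hi]; exact one_mem _)
    have hco := hno (t : G) (hi ▸ dvd_pow_self p hi0) htp
    set O : Set G := {y | ∃ u ∈ (P : Subgroup G), u * (t : G) * u⁻¹ = y}
    have hgP : zpowers g ≤ normalizer ((P : Subgroup G) : Set G) := fun z _ => by
      rw [normalizer_eq_top]; exact mem_top z
    have hOinv : ∀ z : G, ∀ y ∈ O, z * y * z⁻¹ ∈ O := by
      rintro z _ ⟨u, hu, rfl⟩
      obtain ⟨l, hl, h, hh, e⟩ := Grp.HallConv.exists_mul_of_coprime (H := centralizer ({(t : G)} : Set G)) (K := L) hco (z * u)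
      obtain ⟨l₁, hl₁, l₂, hl₂, hl12, hl₁p, hl₂p⟩ := parts p l
      refine ⟨l₁, hpP l₁ hl₁p, ?_⟩
      have h2 : l₂ * (t : G) = t * l₂ := (mem_cs.1 (hPcent l₂ (zpowers_le.2 hl hl₂) hl₂p t.2)).symm
      calc l₁ * (t : G) * l₁⁻¹ = l₁ * (t * l₂) * l₂⁻¹ * l₁⁻¹ := by group
        _ = l₁ * l₂ * t * (l₁ * l₂)⁻¹ := by rw [← h2]; group
        _ = l * (t * h) * h⁻¹ * l⁻¹ := by rw [hl12]; group
        _ = (l * h) * t * (l * h)⁻¹ := by rw [← mem_cs.1 hh]; group
        _ = z * (u * (t : G) * u⁻¹) * z⁻¹ := by rw [← e]; group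
    obtain ⟨y, hyO, hy⟩ := Grp.exists_fixed_point (X := Cj G) (zpowers g) (P : Subgroup G) {y | y.val ∈ O} hgP (by
        obtain ⟨i, hi⟩ := IsPGroup.iff_card.1 P.isPGroup'
        obtain ⟨j, hj⟩ := IsPGroup.iff_orderOf.1 W.isPGroup' ⟨g, hgW⟩
        rw [Subgroup.orderOf_mk] at hj
        rw [hi, Nat.card_zpowers, hj]
        exact ((Nat.coprime_primes ha hp.out).2 hap).pow _ _)
      (Or.inl inferInstance) ⟨⟨(t : G)⟩, show (t : G) ∈ O from ⟨1, one_mem _, by group⟩⟩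
      (fun z _ y hy => hOinv z y.val hy) (fun z _ y hy => hOinv z y.val hy)
      (by
        rintro ⟨a⟩ ⟨u, hu, (rfl : _ = a)⟩ ⟨b⟩ ⟨u', hu', (rfl : _ = b)⟩
        refine ⟨u' * u⁻¹, mul_mem hu' (inv_mem hu), ?_⟩
        rw [Cj.smul_def]
        congr 1
        show u' * u⁻¹ * (u * (t : G) * u⁻¹) * (u' * u⁻¹)⁻¹ = _
        group)
    obtain ⟨u, hu, e⟩ := hyO
    refine ⟨⟨u, hu⟩, mem_cs.2 ?_⟩
    have h1 : g * y.val * g⁻¹ = y.val := congrArg Cj.val (hy g (mem_zpowers g))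
    rw [← e] at h1
    exact (mul_inv_eq_iff_eq_mul.1 h1).symm
  set F : Subgroup (P : Subgroup G) := (centralizer ({g} : Set G)).subgroupOf (P : Subgroup G) with hF
  have hFZ : F ⊔ Z = ⊤ := eq_top_of_conj _ fun t => by
    by_cases ht : t ∈ Z
    · exact ⟨1, mem_sup_right (by rw [inv_one, one_mul, mul_one]; exact ht)⟩
    · obtain ⟨u, hu⟩ := hmove t ht
      exact ⟨u⁻¹, mem_sup_left (show ((u⁻¹⁻¹ * t * u⁻¹ : (P : Subgroup G)) : G) ∈ _ by rwa [inv_inv])⟩
  have hFn : F.Normal := by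
    rw [← normalizer_eq_top_iff, eq_top_iff, ← hFZ]
    refine sup_le le_normalizer (fun z hz => Subgroup.mem_normalizer_fintype fun f hf => ?_)
    rw [show z * f * z⁻¹ = f by rw [← mem_center_iff.1 hz f, mul_inv_cancel_right]]
    exact hf
  have hx0P : x₀ ∈ (P : Subgroup G) := hpP x₀ ⟨1, by rw [hx, pow_one]⟩
  set z₀ : (P : Subgroup G) := ⟨x₀, hx0P⟩
  have hz0 : z₀ ∈ Z := mem_center_iff.2 fun w => Subtype.ext (mem_cs.1 (hPL w.2))
  set y₁ : (P : Subgroup G) := ⟨y₀, hpP y₀ ⟨1, by rw [hyp, pow_one]⟩⟩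
  have hy1 : y₁ ∉ Z := fun h => by
    have hle : (P : Subgroup G) ≤ centralizer ({y₀} : Set G) := fun w hw =>
      mem_cs.2 (congrArg Subtype.val (mem_center_iff.1 h ⟨w, hw⟩))
    exact P.not_dvd_index (hyi.trans (index_dvd_of_le hle))
  obtain ⟨u, hu⟩ := hmove y₁ hy1
  set t₀ := u * y₁ * u⁻¹ with ht₀
  have ht0Z : t₀ ∉ Z := fun h => hy1 (by
    have := (inferInstance : Z.Normal).conj_mem _ h u⁻¹
    rwa [ht₀, show u⁻¹ * (u * y₁ * u⁻¹) * u⁻¹⁻¹ = y₁ by group] at this)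
  have ht1 : t₀ * z₀ ∉ Z := fun h => ht0Z (by
    have := Z.mul_mem h (inv_mem hz0)
    rwa [mul_inv_cancel_right] at this)
  obtain ⟨u', hu'⟩ := hmove _ ht1
  have h1 : t₀ * z₀ ∈ F := by
    have := hFn.conj_mem _ (show u' * (t₀ * z₀) * u'⁻¹ ∈ F from hu') u'⁻¹
    rwa [show u'⁻¹ * (u' * (t₀ * z₀) * u'⁻¹) * u'⁻¹⁻¹ = t₀ * z₀ by group] at this
  have h2 : z₀ ∈ F := by
    have := F.mul_mem (inv_mem (show t₀ ∈ F from hu)) h1
    rwa [inv_mul_cancel_left] at this
  exact hgL (mem_cs.2 (mem_cs.1 (h2 : x₀ ∈ centralizer ({g} : Set G))).symm)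

/-- Two classes of elements of order `p` are linked. -/
theorem link {x₀ y : G} (hx : orderOf x₀ = p) (hy : orderOf y = p) (hxc : x₀ ∉ center G) (hyc : y ∉ center G)
    (hxi : ¬ p ∣ (centralizer ({x₀} : Set G)).index) :
    ∃ a b : ℕ, a.Prime ∧ b.Prime ∧ a ∣ (centralizer ({x₀} : Set G)).index ∧ b ∣ (centralizer ({y} : Set G)).index ∧
      (a = b ∨ ∃ e : G, p ∣ orderOf e ∧ a * b ∣ (centralizer ({e} : Set G)).index) := by
  obtain ⟨P, hPL, -⟩ := exists_sylow_cs (p := p) hxi (u := x₀) (mem_cs.2 rfl) ⟨1, by rw [hx, pow_one]⟩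
  obtain ⟨Q, hQ⟩ := (IsPGroup.of_card (n := 1) (by rw [Nat.card_zpowers, hy, pow_one]) :
    IsPGroup p (zpowers y)).exists_le_sylow
  obtain ⟨g, hg⟩ := MulAction.exists_smul_eq G P Q
  obtain ⟨y₀, hy₀P, ey⟩ : ∃ y₀ ∈ (P : Subgroup G), g * y₀ * g⁻¹ = y := by
    have := hQ (mem_zpowers y)
    rw [← hg] at this
    obtain ⟨w, hw, e⟩ := this
    exact ⟨w, hw, e⟩
  have hm : (centralizer ({y} : Set G)).index = (centralizer ({y₀} : Set G)).index := by rw [← ey, idx_conj]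
  have hy0 : orderOf y₀ = p := by rw [← hy, ← ey]; exact (MulEquiv.orderOf_eq (MulAut.conj g) y₀).symm
  set n := (centralizer ({x₀} : Set G)).index with hn
  set m := (centralizer ({y₀} : Set G)).index with hmdef
  rw [hm]
  have hn1 : n ≠ 1 := fun e => hxc (idx_eq_one_iff.1 e)
  have hm1 : m ≠ 1 := fun e => hyc (idx_eq_one_iff.1 (hm.trans e))
  by_cases hco : n.Coprime m
  swap
  · obtain ⟨a, ha, h1, h2⟩ := Nat.Prime.not_coprime_iff_dvd.1 hco
    exact ⟨a, a, ha, ha, h1, h2, Or.inl rfl⟩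
  have hcomm : x₀ * y₀ = y₀ * x₀ := (mem_cs.1 (hPL hy₀P)).symm
  set c := x₀ * y₀ with hc
  have hcp : orderOf c = p := orderOf_eq_prime (by
    rw [hc, Commute.mul_pow (show Commute x₀ y₀ from hcomm), orderOf_dvd_iff_pow_eq_one.1 hx.dvd,
      orderOf_dvd_iff_pow_eq_one.1 hy0.dvd, mul_one]) (fun e => hn1 (by
      have hy' : y₀ = x₀⁻¹ := eq_inv_of_mul_eq_one_right e
      have : m = n := by
        rw [hmdef, hn, hy']
        congr 1
        exact le_antisymm (cs_le_of_pow (by simp)) (cs_le_of_pow (inv_mem (mem_zpowers x₀)))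
      rw [this] at hco
      exact (Nat.coprime_self n).1 hco))
  obtain ⟨hdvd, hle⟩ := product_bounds hcomm hco
  obtain ⟨-, hle'⟩ := product_bounds hcomm.symm hco.symm
  rw [show y₀ * x₀ = c from hcomm.symm] at hle'
  set N := (centralizer ({c} : Set G)).index with hN
  by_cases hmix : ¬ N.Coprime n ∧ ¬ N.Coprime m
  · obtain ⟨a, ha, h1, h2⟩ := Nat.Prime.not_coprime_iff_dvd.1 hmix.1
    obtain ⟨b, hb, h3, h4⟩ := Nat.Prime.not_coprime_iff_dvd.1 hmix.2
    refine ⟨a, b, ha, hb, h2, h4, Or.inr ⟨c, hcp ▸ dvd_rfl, Nat.Coprime.mul_dvd_of_dvd_of_dvd ?_ h1 h3⟩⟩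
    exact (Nat.coprime_primes ha hb).2 fun e => ha.ne_one (Nat.eq_one_of_dvd_coprimes hco h2 (e ▸ h4))
  have hn0 : 0 < n := Nat.pos_of_ne_zero index_ne_zero_of_finite
  have hm0 : 0 < m := Nat.pos_of_ne_zero index_ne_zero_of_finite
  rcases not_and_or.1 hmix with h | h <;> rw [not_not] at h
  · -- the product class has the size of the class of `y₀`
    have hNm : N = m := le_antisymm (Nat.le_of_dvd hm0 (h.dvd_of_dvd_mul_left hdvd)) hle'
    obtain ⟨K, hKn, hKd, hgen, hKc⟩ := shift (a := y₀) (b := x₀) hcomm.symm hco.symm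
      (by rw [← hcomm]; exact hNm)
    set A := closure {z | ∃ g : G, g * x₀ * g⁻¹ = z} with hA
    have hxA : x₀ ∈ A := subset_closure ⟨1, by group⟩
    have hbb : ∀ g' : G, x₀ * (g' * x₀ * g'⁻¹) = g' * x₀ * g'⁻¹ * x₀ := fun g' => by
      have h1 := hKc 1 _ (hgen g')
      rw [one_mul, inv_one, mul_one] at h1
      rw [show g' * x₀ * g'⁻¹ = g' * x₀ * g'⁻¹ * x₀⁻¹ * x₀ by group, ← mul_assoc, ← h1]
    have hcg : ∀ z ∈ {z | ∃ g : G, g * x₀ * g⁻¹ = z}, ∀ w ∈ {z | ∃ g : G, g * x₀ * g⁻¹ = z}, z * w = w * z := by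
      rintro _ ⟨g₁, rfl⟩ _ ⟨g₂, rfl⟩
      calc g₁ * x₀ * g₁⁻¹ * (g₂ * x₀ * g₂⁻¹)
          = (g₁ * x₀ * g₁⁻¹ * x₀⁻¹) * (x₀ * (g₂ * x₀ * g₂⁻¹)) := by group
        _ = (g₁ * x₀ * g₁⁻¹ * x₀⁻¹) * (g₂ * x₀ * g₂⁻¹) * x₀ := by rw [hbb g₂]; group
        _ = (g₂ * x₀ * g₂⁻¹) * (g₁ * x₀ * g₁⁻¹ * x₀⁻¹) * x₀ := by rw [hKc g₂ _ (hgen g₁)]
        _ = g₂ * x₀ * g₂⁻¹ * (g₁ * x₀ * g₁⁻¹) := by group
    have hAe : Cfsg.IsElementaryAbelian p A := Thompson.isElementaryAbelian_closure hcg (by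
      rintro _ ⟨g', rfl⟩
      rw [conj_pow, orderOf_dvd_iff_pow_eq_one.1 hx.dvd, mul_one, mul_inv_cancel])
    have hAn : A.Normal := ⟨fun z hz g' => by
      refine closure_induction (p := fun w _ => g' * w * g'⁻¹ ∈ A) ?_ (by rw [mul_one, mul_inv_cancel]; exact one_mem _)
        (fun w w' _ _ h1 h2 => ?_) (fun w _ h1 => ?_) hz
      · rintro _ ⟨g₁, rfl⟩
        exact subset_closure ⟨g' * g₁, by group⟩
      · rw [show g' * (w * w') * g'⁻¹ = g' * w * g'⁻¹ * (g' * w' * g'⁻¹) by group]; exact mul_mem h1 h2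
      · rw [show g' * w⁻¹ * g'⁻¹ = (g' * w * g'⁻¹)⁻¹ by group]; exact inv_mem h1⟩
    by_cases hpm : p ∣ m
    · obtain ⟨a, ha, han, e, he, hae⟩ := exceptional hx hxi hxc hy0 hpm A hAn (Thompson.isPGroup_of hAe) hxA hA hAe.1
      exact ⟨a, p, ha, hp.out, han, hpm, Or.inr ⟨e, he, hae⟩⟩
    · -- `K` has order prime to `p`
      exfalso
      refine hxc (mem_center_iff.2 fun g' => ?_)
      set k := g' * x₀ * g'⁻¹ * x₀⁻¹ with hk
      have h1 : k * x₀ = x₀ * k := by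
        have := hKc 1 _ (hgen g')
        rwa [one_mul, inv_one, mul_one] at this
      have h2 : k ^ p = 1 := by
        have h3 : (k * x₀) ^ p = 1 := by
          rw [hk, inv_mul_cancel_right, conj_pow, orderOf_dvd_iff_pow_eq_one.1 hx.dvd, mul_one, mul_inv_cancel]
        rwa [Commute.mul_pow (show Commute k x₀ from h1), orderOf_dvd_iff_pow_eq_one.1 hx.dvd, mul_one] at h3
      have h4 : k = 1 := orderOf_eq_one_iff.1 (Nat.eq_one_of_dvd_coprimes
        (hp.out.coprime_iff_not_dvd.2 fun hd => hpm (hd.trans hKd)) (orderOf_dvd_of_pow_eq_one h2)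
        (Subgroup.orderOf_dvd_natCard _ (hgen g')))
      rw [hk, mul_inv_eq_one, mul_inv_eq_iff_eq_mul] at h4
      exact h4
  · exfalso
    have hNn : N = n := le_antisymm (Nat.le_of_dvd hn0 (h.dvd_of_dvd_mul_right hdvd)) hle
    obtain ⟨K, hKn, hKd, hgen, hKc⟩ := shift (a := x₀) (b := y₀) hcomm hco hNn
    refine hyc (idx_eq_one_iff.1 (hm.trans (idx_eq_one_iff.2 (mem_center_iff.2 fun g' => ?_))))
    set k := g' * y₀ * g'⁻¹ * y₀⁻¹ with hk
    have h1 : k * y₀ = y₀ * k := by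
      have := hKc 1 _ (hgen g')
      rwa [one_mul, inv_one, mul_one] at this
    have h2 : k ^ p = 1 := by
      have h3 : (k * y₀) ^ p = 1 := by
        rw [hk, inv_mul_cancel_right, conj_pow, orderOf_dvd_iff_pow_eq_one.1 hy0.dvd, mul_one, mul_inv_cancel]
      rwa [Commute.mul_pow (show Commute k y₀ from h1), orderOf_dvd_iff_pow_eq_one.1 hy0.dvd, mul_one] at h3
    have h4 : k = 1 := orderOf_eq_one_iff.1 (Nat.eq_one_of_dvd_coprimes
      (hp.out.coprime_iff_not_dvd.2 fun hd => hxi (hd.trans hKd)) (orderOf_dvd_of_pow_eq_one h2)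
      (Subgroup.orderOf_dvd_natCard _ (hgen g')))
    rw [hk, mul_inv_eq_one, mul_inv_eq_iff_eq_mul] at h4
    exact h4

/-- Paths of length at most three. -/
theorem path {E : ℕ → ℕ → Prop} {V : ℕ → Prop} (hsym : ∀ a b, E a b → E b a) (hV : ∀ a b, E a b → V b ∨ ¬ b.Prime)
    {r s a b : ℕ} (hrs : r ≠ s) (ha : a.Prime) (hb : b.Prime) (h1 : r = a ∨ E r a) (h2 : a = b ∨ E a b) (h3 : b = s ∨ E b s) :
    E r s ∨ (∃ t, V t ∧ t ≠ r ∧ t ≠ s ∧ E r t ∧ E t s) ∨
      (∃ t u, V t ∧ V u ∧ t ≠ r ∧ u ≠ s ∧ t ≠ u ∧ E r t ∧ E t u ∧ E u s) := by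
  have hv : ∀ {x y : ℕ}, y.Prime → E x y → V y := fun hy h => (hV _ _ h).resolve_right (not_not.2 hy)
  by_cases hrs' : E r s
  · exact Or.inl hrs'
  have two : ∀ t, t.Prime → (r = t ∨ E r t) → (t = s ∨ E t s) →
      (∃ t, V t ∧ t ≠ r ∧ t ≠ s ∧ E r t ∧ E t s) := by
    intro t ht u v
    have u' : t ≠ r := by
      rintro rfl; rcases v with v | v
      · exact hrs v
      · exact hrs' v
    have v' : t ≠ s := by
      rintro rfl; rcases u with u | u
      · exact hrs u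
      · exact hrs' u
    have h' := u.resolve_left u'.symm
    exact ⟨t, hv ht h', u', v', h', v.resolve_left v'⟩
  rcases h2 with rfl | h2
  · exact Or.inr (Or.inl (two a ha h1 h3))
  rcases h1 with rfl | h1
  · exact Or.inr (Or.inl (two b hb (Or.inr h2) h3))
  rcases h3 with rfl | h3
  · exact Or.inr (Or.inl (two a ha (Or.inr h1) (Or.inr h2)))
  by_cases hab : a = b
  · exact Or.inr (Or.inl (two a ha (Or.inr h1) (Or.inr (hab ▸ h3))))
  by_cases har : a = r
  · exact Or.inr (Or.inl (two b hb (Or.inr (har ▸ h2)) (Or.inr h3)))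
  by_cases hbs : b = s
  · exact Or.inr (Or.inl (two a ha (Or.inr h1) (Or.inr (hbs ▸ h2))))
  exact Or.inr (Or.inr ⟨a, b, hv ha h1, hv hb h2, har, hbs, hab, h1, h2, h3⟩)

theorem main (hZ : ¬ p ∣ Nat.card ↥(center G)) {r s : ℕ}
    (hr : r.Prime ∧ ∃ x : G, p ∣ orderOf x ∧ r ∣ (centralizer ({x} : Set G)).index)
    (hs : s.Prime ∧ ∃ x : G, p ∣ orderOf x ∧ s ∣ (centralizer ({x} : Set G)).index) (hrs : r ≠ s) :
    (∃ x : G, p ∣ orderOf x ∧ r * s ∣ (centralizer ({x} : Set G)).index) ∨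
    (∃ t : ℕ, (t.Prime ∧ ∃ x : G, p ∣ orderOf x ∧ t ∣ (centralizer ({x} : Set G)).index) ∧ t ≠ r ∧ t ≠ s ∧
      (∃ x : G, p ∣ orderOf x ∧ r * t ∣ (centralizer ({x} : Set G)).index) ∧
      (∃ x : G, p ∣ orderOf x ∧ t * s ∣ (centralizer ({x} : Set G)).index)) ∨
    (∃ t u : ℕ, (t.Prime ∧ ∃ x : G, p ∣ orderOf x ∧ t ∣ (centralizer ({x} : Set G)).index) ∧
      (u.Prime ∧ ∃ x : G, p ∣ orderOf x ∧ u ∣ (centralizer ({x} : Set G)).index) ∧ t ≠ r ∧ u ≠ s ∧ t ≠ u ∧
      (∃ x : G, p ∣ orderOf x ∧ r * t ∣ (centralizer ({x} : Set G)).index) ∧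
      (∃ x : G, p ∣ orderOf x ∧ t * u ∣ (centralizer ({x} : Set G)).index) ∧
      (∃ x : G, p ∣ orderOf x ∧ u * s ∣ (centralizer ({x} : Set G)).index)) := by
  obtain ⟨hrp, x, hx, hrx⟩ := hr
  obtain ⟨hsp, y, hy, hsy⟩ := hs
  have hhub : ∀ x : G, p ∣ orderOf x → orderOf (x ^ (orderOf x / p)) = p ∧ x ^ (orderOf x / p) ∉ center G ∧
      (centralizer ({x ^ (orderOf x / p)} : Set G)).index ∣ (centralizer ({x} : Set G)).index := by
    intro x hx
    have h1 : orderOf (x ^ (orderOf x / p)) = p := orderOf_pow_orderOf_div (orderOf_pos x).ne' hx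
    exact ⟨h1, fun hc => hZ (by rw [← h1]; exact Subgroup.orderOf_dvd_natCard _ hc),
      index_dvd_of_le (cs_le_of_pow (pow_mem (mem_zpowers x) _))⟩
  obtain ⟨hx0, hx0c, hxd⟩ := hhub x hx
  obtain ⟨hy0, hy0c, hyd⟩ := hhub y hy
  obtain ⟨a, b, ha, hb, han, hbm, hab⟩ : ∃ a b : ℕ, a.Prime ∧ b.Prime ∧
      a ∣ (centralizer ({x ^ (orderOf x / p)} : Set G)).index ∧ b ∣ (centralizer ({y ^ (orderOf y / p)} : Set G)).index ∧
      (a = b ∨ ∃ e : G, p ∣ orderOf e ∧ a * b ∣ (centralizer ({e} : Set G)).index) := by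
    by_cases h1 : p ∣ (centralizer ({x ^ (orderOf x / p)} : Set G)).index
    · by_cases h2 : p ∣ (centralizer ({y ^ (orderOf y / p)} : Set G)).index
      · exact ⟨p, p, hp.out, hp.out, h1, h2, Or.inl rfl⟩
      · obtain ⟨a, b, ha, hb, han, hbm, hab⟩ := link hy0 hx0 hy0c hx0c h2
        refine ⟨b, a, hb, ha, hbm, han, ?_⟩
        rcases hab with e | ⟨e, he, hd⟩
        · exact Or.inl e.symm
        · exact Or.inr ⟨e, he, by rwa [mul_comm]⟩
    · exact link hx0 hy0 hx0c hy0c h1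
  refine path (E := fun a b => ∃ x : G, p ∣ orderOf x ∧ a * b ∣ (centralizer ({x} : Set G)).index)
    (V := fun t => t.Prime ∧ ∃ x : G, p ∣ orderOf x ∧ t ∣ (centralizer ({x} : Set G)).index)
    (fun _ _ ⟨e, he, hd⟩ => ⟨e, he, by rwa [mul_comm]⟩) (fun a b ⟨e, he, hd⟩ => ?_) hrs ha hb ?_ hab ?_
  · by_cases hb : b.Prime
    · exact Or.inl ⟨hb, e, he, (dvd_mul_left b a).trans hd⟩
    · exact Or.inr hb
  · by_cases e : r = a
    · exact Or.inl e
    · exact Or.inr ⟨x, hx, Nat.Coprime.mul_dvd_of_dvd_of_dvd ((Nat.coprime_primes hrp ha).2 e) hrx (han.trans hxd)⟩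
  · by_cases e : b = s
    · exact Or.inl e
    · exact Or.inr ⟨y, hy, Nat.Coprime.mul_dvd_of_dvd_of_dvd ((Nat.coprime_primes hb hsp).2 e) (hbm.trans hyd) hsy⟩

end


/-- Let `G` be a finite group and `p` a prime not dividing the order of the centre of `G`. Consider the primes dividing the size of some conjugacy class of a `p`-singular element (an element of order divisible by `p`), two of them adjacent when their product divides such a class size. Then any two distinct such primes are joined by a path with at most 3 edges (the graph is connected of diameter at most 3). -/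
theorem result {G : Type*} [Group G] [Finite G] (p : ℕ) [Fact p.Prime]
    (hZ : ¬ p ∣ Nat.card ↥(Subgroup.center G)) (r s : ℕ) (hr : (r.Prime ∧ ∃ x : G, p ∣ orderOf x ∧ r ∣ (Subgroup.centralizer ({x} : Set G)).index)) (hs : (s.Prime ∧ ∃ x : G, p ∣ orderOf x ∧ s ∣ (Subgroup.centralizer ({x} : Set G)).index)) (hrs : r ≠ s) :
    (∃ x : G, p ∣ orderOf x ∧ r * s ∣ (Subgroup.centralizer ({x} : Set G)).index) ∨ (∃ t : ℕ, (t.Prime ∧ ∃ x : G, p ∣ orderOf x ∧ t ∣ (Subgroup.centralizer ({x} : Set G)).index) ∧ t ≠ r ∧ t ≠ s ∧ (∃ x : G, p ∣ orderOf x ∧ r * t ∣ (Subgroup.centralizer ({x} : Set G)).index) ∧ (∃ x : G, p ∣ orderOf x ∧ t * s ∣ (Subgroup.centralizer ({x} : Set G)).index)) ∨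
      (∃ t u : ℕ, (t.Prime ∧ ∃ x : G, p ∣ orderOf x ∧ t ∣ (Subgroup.centralizer ({x} : Set G)).index) ∧ (u.Prime ∧ ∃ x : G, p ∣ orderOf x ∧ u ∣ (Subgroup.centralizer ({x} : Set G)).index) ∧ t ≠ r ∧ u ≠ s ∧ t ≠ u ∧ (∃ x : G, p ∣ orderOf x ∧ r * t ∣ (Subgroup.centralizer ({x} : Set G)).index) ∧ (∃ x : G, p ∣ orderOf x ∧ t * u ∣ (Subgroup.centralizer ({x} : Set G)).index) ∧ (∃ x : G, p ∣ orderOf x ∧ u * s ∣ (Subgroup.centralizer ({x} : Set G)).index)) := by

  exact main hZ hr hs hrs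

end Cfsg.Agent.S4321
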