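import Cfsg.Statements.S4323
import Cfsg.Agent.Lib.Block.WardQSq.Final

set_option autoImplicit false
open Cfsg

namespace Cfsg.Agent.S4323

/-- Let `q` be a prime and `A` a non-cyclic group of order `q²` acting by automorphisms on a finite group `G` of order prime to `q`, such that the fixed-point subgroup `C_G(a)` is abelian for every non-identity `a ∈ A`. Then `G` is solvable. -/
theorem result {A G : Type*} [Group A] [Finite A]
    [Group G] [Finite G] [MulDistribMulAction A G] (q : ℕ) (hq : q.Prime) (hA : Nat.card A = q ^ 2) (hnc : ¬ IsCyclic A)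
    (hcop : ¬ q ∣ Nat.card G) (h : ∀ a : A, a ≠ 1 → IsMulCommutative ↥(FixedPoints.subgroup (Subgroup.zpowers a) G)) :
    Group.IsSolvable G := by
  haveI := Fact.mk hq
  haveI hAc : IsMulCommutative A := IsPGroup.isMulCommutative_of_card_eq_prime_sq hA
  have hexp : ∀ a : A, a ^ q = 1 := fun a => by
    obtain ⟨k, hk, e⟩ := (Nat.dvd_prime_pow hq).mp (hA ▸ orderOf_dvd_natCard a)
    rcases (show k ≤ 1 ∨ k = 2 by omega) with hk1 | rfl
    · exact orderOf_dvd_iff_pow_eq_one.mp (e ▸ (pow_dvd_pow q hk1).trans (pow_one q).dvd)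
    · exact absurd (isCyclic_of_orderOf_eq_card a (e.trans hA.symm)) hnc
  let φ : A →* MulAut G := MulDistribMulAction.toMulAut A G
  haveI : Finite (G ⋊[φ] A) := Finite.of_equiv _ SemidirectProduct.equivProd.symm
  let G' : Subgroup (G ⋊[φ] A) := (SemidirectProduct.inl (φ := φ)).range
  let A' : Subgroup (G ⋊[φ] A) := (SemidirectProduct.inr (φ := φ)).range
  have hG : Nat.card G' = Nat.card G :=
    (Nat.card_congr (MonoidHom.ofInjective SemidirectProduct.inl_injective).toEquiv).symm
  have hA' : Nat.card A' = q ^ 2 :=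
    (Nat.card_congr (MonoidHom.ofInjective SemidirectProduct.inr_injective).toEquiv).symm.trans hA
  haveI : G'.Normal := by
    show (SemidirectProduct.inl (φ := φ)).range.Normal
    rw [SemidirectProduct.range_inl_eq_ker_rightHom]
    infer_instance
  have hs : Group.IsSolvable G' := by
    refine Cfsg.Agent.Block.WardQSq.isSolvable hq _ _ G' A' rfl Subgroup.le_normalizer_of_normal
      ⟨⟨⟨?_⟩⟩, ?_⟩ hA' (hG.symm ▸ hcop) ?_
    · rintro ⟨_, a, rfl⟩ ⟨_, b, rfl⟩
      refine Subtype.ext ?_
      show SemidirectProduct.inr a * SemidirectProduct.inr b = SemidirectProduct.inr b * SemidirectProduct.inr a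
      rw [← map_mul, ← map_mul, mul_comm']
    · rintro _ ⟨a, rfl⟩
      rw [← map_pow, hexp, map_one]
    · rintro _ ⟨a, rfl⟩ ha _ ⟨x, rfl⟩ _ ⟨y, rfl⟩ hx hy
      have ha' : a ≠ 1 := fun e => ha (by rw [e, map_one])
      have hmem : ∀ z : G, Commute (SemidirectProduct.inl z) (SemidirectProduct.inr a : G ⋊[φ] A) →
          z ∈ FixedPoints.subgroup (Subgroup.zpowers a) G := by
        intro z hz
        have hfix : a • z = z := by
          have h1 : (SemidirectProduct.inl (φ a z) : G ⋊[φ] A) = SemidirectProduct.inl z := by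
            rw [SemidirectProduct.inl_aut, ← hz.eq, map_inv, mul_inv_cancel_right]
          exact SemidirectProduct.inl_injective h1
        rintro ⟨m, hm⟩
        have hle : Subgroup.zpowers a ≤ MulAction.stabilizer A z :=
          Subgroup.zpowers_le.mpr (MulAction.mem_stabilizer_iff.mpr hfix)
        exact MulAction.mem_stabilizer_iff.mp (hle hm)
      have hc := (h a ha').1.1 ⟨x, hmem x hx⟩ ⟨y, hmem y hy⟩
      exact (show Commute x y from congrArg Subtype.val hc).map SemidirectProduct.inl
  exact Group.isSolvable_of_isSolvable_injective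
    (f := (SemidirectProduct.inl (φ := φ)).rangeRestrict)
    (fun x y e => SemidirectProduct.inl_injective (congrArg Subtype.val e))

end Cfsg.Agent.S4323
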