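import Cfsg.Statements.S4325
-- import your own Cfsg.Agent.* helpers here

set_option autoImplicit false
set_option linter.style.haveILetI false
open Cfsg

namespace Cfsg.Agent.S4325

theorem transitive_prime_dvd {r : ℕ} (hr : r.Prime) (N : Subgroup (Equiv.Perm (Fin r)))
    [MulAction.IsPretransitive N (Fin r)] : r ∣ Nat.card N := by
  haveI : NeZero r := ⟨hr.ne_zero⟩
  have h := MulAction.index_stabilizer_of_transitive N (0 : Fin r)
  rw [Nat.card_fin] at h
  have h2 := (MulAction.stabilizer N (0 : Fin r)).index_dvd_card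
  rwa [h] at h2

theorem card_le_of_pretransitive {r m : ℕ} (hr : 0 < r) (t : Fin m → Equiv.Perm (Fin r))
    (ht : ∀ i, (t i).IsSwap)
    (htr : ∀ a b : Fin r, ∃ g ∈ Subgroup.closure (Set.range t), g a = b) : r ≤ m + 1 := by
  choose a b hab hti using ht
  let φ : (Fin r → ℚ) →ₗ[ℚ] (Fin m → ℚ) :=
    { toFun := fun f i => f (a i) - f (b i)
      map_add' := fun f g => by ext i; simp; ring
      map_smul' := fun c f => by ext i; simp; ring }
  have hker : LinearMap.ker φ ≤ Submodule.span ℚ {fun _ => (1 : ℚ)} := by
    intro f hf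
    have hinv : ∀ g ∈ Subgroup.closure (Set.range t), ∀ x, f (g x) = f x := by
      intro g hg
      induction hg using Subgroup.closure_induction with
      | mem g hg =>
        obtain ⟨i, rfl⟩ := hg
        intro x
        have hi : f (a i) = f (b i) := sub_eq_zero.1 (congrFun (LinearMap.mem_ker.1 hf) i)
        rw [hti i]
        rcases eq_or_ne x (a i) with rfl | hxa
        · rw [Equiv.swap_apply_left, hi]
        rcases eq_or_ne x (b i) with rfl | hxb
        · rw [Equiv.swap_apply_right, hi]
        rw [Equiv.swap_apply_of_ne_of_ne hxa hxb]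
      | one => simp
      | mul g h _ _ ihg ihh => intro x; rw [Equiv.Perm.mul_apply, ihg, ihh]
      | inv g _ ih => intro x; conv_rhs => rw [← Equiv.Perm.eq_inv_iff_eq.1 (rfl : g⁻¹ x = g⁻¹ x), ih]
    refine Submodule.mem_span_singleton.2 ⟨f ⟨0, hr⟩, ?_⟩
    funext x
    obtain ⟨g, hg, hgx⟩ := htr ⟨0, hr⟩ x
    rw [← hgx, hinv g hg]; simp
  have h1 := LinearMap.finrank_range_add_finrank_ker φ
  have h2 : Module.finrank ℚ (LinearMap.ker φ) ≤ 1 :=
    (Submodule.finrank_mono hker).trans ((finrank_span_le_card _).trans (by simp))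
  have h3 : Module.finrank ℚ (LinearMap.range φ) ≤ m :=
    (Submodule.finrank_le _).trans (le_of_eq (by simp))
  simp at h1
  omega

/-- Let r be a prime and m a natural number with m + 1 < r, and let π be a set of primes containing every prime below r but not r itself. Then in the symmetric group of degree r any m transpositions generate a π-subgroup, while O_π of the symmetric group is trivial. (So no bound on the number of conjugates that works for all π exists in the π-radical analogue of the Baer–Suzuki Theorem.) -/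
theorem result (r m : ℕ) (hr : r.Prime)
    (hm : m + 1 < r) (π : Set ℕ) (hπ : ∀ q : ℕ, q.Prime → q < r → q ∈ π) (hrπ : r ∉ π)
    (t : Fin m → Equiv.Perm (Fin r)) (ht : ∀ i, (t i).IsSwap) :
    Cfsg.IsPiSubgroup π (Subgroup.closure (Set.range t)) ∧ Cfsg.piCore π (Equiv.Perm (Fin r)) = ⊥ := by
  haveI := Fact.mk hr
  refine ⟨fun q hq hqd => ?_, ?_⟩
  · by_contra hqπ
    have hle : q ≤ r := by
      have hd : q ∣ Nat.card (Equiv.Perm (Fin r)) := hqd.trans (Subgroup.card_subgroup_dvd_card _)
      rw [Nat.card_perm, Nat.card_fin] at hd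
      exact (hq.dvd_factorial).1 hd
    obtain rfl : q = r := le_antisymm hle (not_lt.1 fun h => hqπ (hπ q hq h))
    obtain ⟨⟨s, hs⟩, hso⟩ := exists_prime_orderOf_dvd_card' q hqd
    rw [Subgroup.orderOf_mk] at hso
    have hcyc : s.IsCycle := Equiv.Perm.isCycle_of_prime_order' (by rw [hso]; exact hq) (by
      rw [hso, Fintype.card_fin]; have := hq.pos; omega)
    have hsupp : s.support = Finset.univ := Finset.eq_univ_of_card _ (by
      rw [Fintype.card_fin]; exact hcyc.orderOf.symm.trans hso)
    have := card_le_of_pretransitive hq.pos t ht fun a b => by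
      obtain ⟨k, hk⟩ := hcyc.sameCycle
        (Equiv.Perm.mem_support.1 (hsupp ▸ Finset.mem_univ a))
        (Equiv.Perm.mem_support.1 (hsupp ▸ Finset.mem_univ b))
      exact ⟨s ^ k, zpow_mem hs k, hk⟩
    omega
  · refine le_bot_iff.1 (sSup_le fun N ⟨hN, hNπ⟩ => ?_)
    rw [le_bot_iff]
    by_contra hne
    haveI : MulAction.IsPretransitive (Equiv.Perm (Fin r)) (Fin r) := inferInstance
    haveI : MulAction.IsPreprimitive (Equiv.Perm (Fin r)) (Fin r) :=
      MulAction.IsPreprimitive.of_prime_card (by rwa [Nat.card_fin])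
    haveI : MulAction.IsPretransitive N (Fin r) := by
      refine MulAction.IsQuasiPreprimitive.isPretransitive_of_normal fun h => hne ?_
      refine (Subgroup.eq_bot_iff_forall _).2 fun g hg => Equiv.ext fun x => ?_
      have hx : x ∈ MulAction.fixedPoints N (Fin r) := h ▸ Set.mem_univ x
      exact hx ⟨g, hg⟩
    exact hrπ (hNπ r hr (transitive_prime_dvd hr N))

end Cfsg.Agent.S4325
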