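import Cfsg.Statements.S4326
import Mathlib

set_option maxHeartbeats 1000000
set_option maxRecDepth 8000

set_option autoImplicit false
open Pointwise
open Cfsg

namespace Cfsg.Agent.S4326

/-- Let G be a finite group, p a prime, x an automorphism of G of p-power order and M the subgroup of fixed points of x. Suppose that p divides the index of M and that either M is self-normalizing or M has trivial center. Then some conjugate of M is mapped onto itself by x but is not fixed elementwise by x. -/
theorem result {G : Type*} [Group G] [Finite G]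
    (p : ℕ) [Fact p.Prime] (x : MulAut G) (hx : ∃ k : ℕ, orderOf x = p ^ k) (M : Subgroup G)
    (hM : ∀ g : G, g ∈ M ↔ x g = g) (hp : p ∣ M.index)
    (hself : Subgroup.normalizer (M : Set G) = M ∨ Subgroup.center M = ⊥) :
    ∃ g : G, (∀ y ∈ MulAut.conj g • M, x y ∈ MulAut.conj g • M) ∧ ∃ y ∈ MulAut.conj g • M, x y ≠ y := by
  by_contra hcon
  push Not at hcon
  obtain ⟨k, hk⟩ := hx
  have hfix : ∀ m ∈ M, x m = m := fun m hm => (hM m).1 hm
  set Z := Subgroup.zpowers x
  have hZ : IsPGroup p Z := IsPGroup.of_card (n := k) (by rw [Nat.card_zpowers, hk])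
  have hMz : ∀ z ∈ Z, ∀ m ∈ M, (z : MulAut G) m = m := by
    intro z hz m hm
    have hle : Z ≤ MulAction.stabilizer (MulAut G) m := Subgroup.zpowers_le.2 (hfix m hm)
    exact hle hz
  letI : MulAction Z (G ⧸ M) :=
    { smul := fun z => Quotient.map' (z : MulAut G) (fun a b h => by
        rw [QuotientGroup.leftRel_apply] at h ⊢
        rw [← map_inv, ← map_mul, hMz z z.2 _ h]
        exact h)
      one_smul := fun q => Quotient.inductionOn' q fun a => rfl
      mul_smul := fun z w q => Quotient.inductionOn' q fun a => rfl }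
  have hone : ∀ q ∈ MulAction.fixedPoints Z (G ⧸ M), q = ((1 : G) : G ⧸ M) := by
    intro q hq
    obtain ⟨g, rfl⟩ := QuotientGroup.mk_surjective q
    have h1 : ((x g : G) : G ⧸ M) = g := hq ⟨x, Subgroup.mem_zpowers x⟩
    have h2 : g⁻¹ * x g ∈ M := QuotientGroup.eq.1 h1.symm
    have hinv : ∀ y ∈ MulAut.conj g • M, x y ∈ MulAut.conj g • M := by
      intro y hy
      obtain ⟨m, hm, rfl⟩ := hy
      refine ⟨(g⁻¹ * x g) * m * (g⁻¹ * x g)⁻¹, mul_mem (mul_mem h2 hm) (inv_mem h2), ?_⟩
      show g * _ * g⁻¹ = x (g * m * g⁻¹)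
      rw [map_mul, map_mul, map_inv, hfix m hm]
      group
    have hsub : ∀ m ∈ M, g * m * g⁻¹ ∈ M := fun m hm =>
      (hM _).2 (hcon g hinv _ ⟨m, hm, rfl⟩)
    have hgN : g ∈ Subgroup.normalizer (M : Set G) := by
      refine Subgroup.mem_normalizer_iff.2 fun m => ⟨hsub m, fun h => ?_⟩
      have heq : M.map (MulAut.conj g).toMonoidHom = M := Subgroup.eq_of_le_of_card_ge
        (by rintro _ ⟨a, ha, rfl⟩; exact hsub a ha)
        (Subgroup.card_map_of_injective (MulAut.conj g).injective).ge
      rw [← heq] at h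
      obtain ⟨a, ha, hae⟩ := h
      rwa [← (MulAut.conj g).injective (show MulAut.conj g a = MulAut.conj g m from hae)]
    refine (QuotientGroup.eq.2 ?_)
    suffices hg : g ∈ M by rw [mul_one]; exact inv_mem hg
    rcases hself with h | h
    · rwa [h] at hgN
    · have hc : (⟨g⁻¹ * x g, h2⟩ : M) ∈ Subgroup.center M := by
        refine Subgroup.mem_center_iff.2 fun m => Subtype.ext ?_
        have h3 : x (g * m * g⁻¹) = g * m * g⁻¹ := hfix _ (hsub m m.2)
        rw [map_mul, map_mul, map_inv, hfix m m.2] at h3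
        show (m : G) * (g⁻¹ * x g) = g⁻¹ * x g * m
        calc (m : G) * (g⁻¹ * x g) = g⁻¹ * (g * m * g⁻¹) * x g := by group
          _ = g⁻¹ * (x g * m * (x g)⁻¹) * x g := by rw [h3]
          _ = _ := by group
      rw [h, Subgroup.mem_bot] at hc
      exact (hM g).2 (inv_mul_eq_one.1 (congrArg Subtype.val hc)).symm
  have hmod := hZ.card_modEq_card_fixedPoints (G ⧸ M)
  have hcard : Nat.card (MulAction.fixedPoints Z (G ⧸ M)) = 1 := by
    rw [Nat.card_eq_one_iff_unique]
    refine ⟨⟨fun a b => Subtype.ext ((hone a a.2).trans (hone b b.2).symm)⟩, ⟨((1 : G) : G ⧸ M), fun z => ?_⟩⟩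
    exact congrArg (fun t : G => (t : G ⧸ M)) (map_one (z : MulAut G))
  rw [hcard, ← Subgroup.index_eq_card] at hmod
  exact (Fact.out : p.Prime).ne_one (Nat.dvd_one.1 ((Nat.ModEq.dvd_iff hmod dvd_rfl).1 hp))

end Cfsg.Agent.S4326
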