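import Cfsg.Statements.S4330
import Cfsg.Agent.Lib.Block.AvoidFix.Main
import Cfsg.Agent.Lib.Grp.Baer
import Cfsg.Agent.Lib.Grp.Solvable
import Cfsg.Agent.Lib.Grp.Cores

set_option autoImplicit false
open Pointwise
open Cfsg

namespace Cfsg.Agent.S4330

universe u

open Subgroup

theorem conj_group_isPGroup {G : Type u} [Group G] [Finite G] {p : ℕ} [Fact p.Prime] {A : Subgroup G}
    (hA : IsPGroup p A) (g : G) (hs : (A.subgroupOf (A ⊔ MulAut.conj g • A)).IsSubnormal) :
    IsPGroup p (A ⊔ MulAut.conj g • A : Subgroup G) := by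
  set B := MulAut.conj g • A with hB
  set J := A ⊔ B with hJ
  have hAJp : IsPGroup p (A.subgroupOf J) := hA.comap_of_injective J.subtype J.subtype_injective
  have hle : A.subgroupOf J ≤ Cfsg.pCore p J := fun a ha =>
    Grp.mem_pCore_of_mem_fitting (Grp.le_fitting_of_isSubnormal hs hAJp.isNilpotent ha)
      (hAJp.to_le (zpowers_le.2 ha))
  haveI := Grp.pCore_isNormal (p := p) (G := J)
  have hBp : IsPGroup p (B.subgroupOf J) := by
    refine IsPGroup.comap_of_injective ?_ J.subtype J.subtype_injective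
    rw [hB]
    exact hA.map _
  have hsup : IsPGroup p (Cfsg.pCore p J ⊔ B.subgroupOf J : Subgroup J) :=
    Grp.pCore_isPGroup.to_sup_of_normal_left hBp
  have htop : (⊤ : Subgroup J) ≤ Cfsg.pCore p J ⊔ B.subgroupOf J := by
    intro j _
    have hle' : A ⊔ B ≤ (Cfsg.pCore p J ⊔ B.subgroupOf J).map J.subtype :=
      sup_le (fun a ha => ⟨⟨a, mem_sup_left ha⟩, mem_sup_left (hle ha), rfl⟩)
        (fun b hb => ⟨⟨b, mem_sup_right hb⟩, mem_sup_right hb, rfl⟩)
    obtain ⟨k, hk, hkj⟩ := hle' j.2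
    rwa [← J.subtype_injective hkj]
  exact (hsup.to_le htop).of_equiv Subgroup.topEquiv

theorem aux {p : ℕ} [hp : Fact p.Prime] (hp2 : p ≠ 2) : ∀ (n : ℕ) (G : Type u) [Group G] [Finite G],
    Nat.card G = n → Group.IsSolvable G → ∀ A : Subgroup G, IsPGroup p A →
    (∀ c : G, ∃ g : G, IsConj c g ∧ (A.subgroupOf (A ⊔ MulAut.conj g • A)).IsSubnormal) →
    A ≤ Cfsg.pCore p G := by
  intro n
  induction n using Nat.strong_induction_on with
  | _ n ih =>
  intro G _ _ hn hsolv A hA h
  classical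
  subst hn
  have quot : ∀ N : Subgroup G, ∀ (_ : N.Normal), N ≠ ⊥ →
      A.map (QuotientGroup.mk' N) ≤ Cfsg.pCore p (G ⧸ N) := by
    intro N _ hN
    refine ih (Nat.card (G ⧸ N)) ?_ (G ⧸ N) rfl
      (Group.isSolvable_of_surjective (QuotientGroup.mk'_surjective N)) _ (hA.map _) ?_
    · rw [← Subgroup.index_eq_card]
      have h1 := N.card_mul_index
      have h2 : 1 < Nat.card N := (Subgroup.one_lt_card_iff_ne_bot N).2 hN
      have h3 : 0 < N.index := Nat.pos_of_ne_zero N.index_ne_zero_of_finite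
      nlinarith
    · intro c
      obtain ⟨c, rfl⟩ := QuotientGroup.mk'_surjective N c
      obtain ⟨g, hg, hs⟩ := h c
      refine ⟨QuotientGroup.mk' N g, (QuotientGroup.mk' N).map_isConj hg, ?_⟩
      have hJ : (A ⊔ MulAut.conj g • A).map (QuotientGroup.mk' N) = A.map (QuotientGroup.mk' N) ⊔
          MulAut.conj (QuotientGroup.mk' N g) • A.map (QuotientGroup.mk' N) := by
        rw [Subgroup.map_sup]
        congr 1
        ext b
        constructor
        · rintro ⟨_, ⟨a, ha, rfl⟩, rfl⟩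
          exact ⟨QuotientGroup.mk' N a, ⟨a, ha, rfl⟩, by simp⟩
        · rintro ⟨_, ⟨a, ha, rfl⟩, rfl⟩
          exact ⟨g * a * g⁻¹, ⟨a, ha, rfl⟩, by simp⟩
      have h1 := hs.map (f := (QuotientGroup.mk' N).subgroupMap (A ⊔ MulAut.conj g • A))
        ((QuotientGroup.mk' N).subgroupMap_surjective _)
      rw [← hJ]
      convert h1 using 1
      ext ⟨b, hb⟩
      constructor
      · rintro ⟨a, ha, rfl⟩
        exact ⟨⟨a, le_sup_left (b := MulAut.conj g • A) ha⟩, ha, rfl⟩
      · rintro ⟨a, ha, hab⟩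
        exact ⟨a, ha, congrArg Subtype.val hab⟩
  by_cases hcore : Cfsg.pCore p G = ⊥
  swap
  · haveI := Grp.pCore_isNormal (p := p) (G := G)
    have h1 := quot (Cfsg.pCore p G) inferInstance hcore
    haveI := Grp.pCore_isNormal (p := p) (G := G ⧸ Cfsg.pCore p G)
    have hcp : IsPGroup p ((Cfsg.pCore p (G ⧸ Cfsg.pCore p G)).comap (QuotientGroup.mk' (Cfsg.pCore p G)) :
        Subgroup G) := Grp.pCore_isPGroup.comap_of_ker_isPGroup _ (by
      rw [QuotientGroup.ker_mk']; exact Grp.pCore_isPGroup)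
    exact fun a ha => (Grp.le_pCore (Subgroup.Normal.comap inferInstance _) hcp)
      (show a ∈ Subgroup.comap _ _ from h1 (Subgroup.mem_map_of_mem _ ha))
  intro a ha
  rw [hcore, Subgroup.mem_bot]
  by_contra ha1
  obtain ⟨N, -, ⟨hNn, hN0⟩, hNmin⟩ := Finite.exists_le_minimal
    (p := fun K : Subgroup G => K.Normal ∧ K ≠ ⊥) (a := (⊤ : Subgroup G))
    ⟨inferInstance, fun e => ha1 ((Subgroup.mem_bot).1 (e ▸ Subgroup.mem_top a))⟩
  haveI := hNn
  have hmin : ∀ K : Subgroup G, K.Normal → K ≤ N → K = ⊥ ∨ K = N := fun K hK hKN => by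
    by_cases hK0 : K = ⊥
    · exact Or.inl hK0
    · exact Or.inr (le_antisymm hKN (hNmin ⟨hK, hK0⟩ hKN))
  obtain ⟨hNab, q, hq, hqN⟩ := Grp.minimal_normal_solvable (have := hsolv; (inferInstance : Group.IsSolvable N)) hN0 hmin
  haveI := hNab
  haveI := Fact.mk hq
  have hNq : IsPGroup q N := fun x => ⟨1, Subtype.ext (by simpa using hqN x x.2)⟩
  have hqp : q ≠ p := fun e => by
    subst e
    exact hN0 (le_bot_iff.1 (hcore ▸ Grp.le_pCore hNn hNq))
  have hcop : (Nat.card N).Coprime p := by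
    obtain ⟨k, hk⟩ := hNq.exists_card_eq
    rw [hk]
    exact ((Nat.coprime_primes hq hp.out).2 hqp).pow_left k
  -- the action of the quotient
  letI : CommGroup N := { (inferInstance : Group N) with mul_comm := fun a b => mul_comm' a b }
  let ρ₀ : G →* AddMonoid.End (Additive N) :=
    { toFun := fun g => MonoidHom.toAdditive (MulAut.conjNormal g : MulAut N).toMonoidHom
      map_one' := AddMonoidHom.ext fun v => congrArg Additive.ofMul (by ext; simp; rfl)
      map_mul' := fun g g' => AddMonoidHom.ext fun v => congrArg Additive.ofMul (by simp; rfl) }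
  have hρ₀ : ∀ (g : G) (v : N), ((Additive.toMul (ρ₀ g (Additive.ofMul v)) : N) : G) = g * v * g⁻¹ :=
    fun g v => MulAut.conjNormal_apply g v
  have hker : ∀ g ∈ N, ρ₀ g = 1 := fun g hg => AddMonoidHom.ext fun v => by
    refine Additive.toMul.injective (Subtype.ext ?_)
    show ((Additive.toMul (ρ₀ g (Additive.ofMul (Additive.toMul v))) : N) : G) = _
    rw [hρ₀]
    have := congrArg Subtype.val (mul_comm' (⟨g, hg⟩ : N) (Additive.toMul v))
    simp only [Subgroup.coe_mul] at this
    rw [this, mul_inv_cancel_right]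
    rfl
  let ρ : G ⧸ N →* AddMonoid.End (Additive N) := QuotientGroup.lift N ρ₀ hker
  have hAP := quot N hNn hN0
  haveI := Grp.pCore_isNormal (p := p) (G := G ⧸ N)
  by_cases htriv : ρ (QuotientGroup.mk' N a) = 1
  · -- `a` lies in a nilpotent normal subgroup
    let B : Subgroup G := (Cfsg.pCore p (G ⧸ N)).comap (QuotientGroup.mk' N) ⊓ centralizer (N : Set G)
    haveI : B.Normal := Subgroup.normal_inf_normal _ _
    haveI : Group.IsNilpotent (Cfsg.pCore p (G ⧸ N)) := Grp.pCore_isPGroup.isNilpotent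
    haveI : Group.IsNilpotent B := by
      let f : B →* Cfsg.pCore p (G ⧸ N) :=
        ((QuotientGroup.mk' N).comp B.subtype).codRestrict _ fun b => b.2.1
      refine Subgroup.isNilpotent_of_ker_le_center f (fun b hb => ?_)
      rw [Subgroup.mem_center_iff]
      intro c
      have hbN : (b : G) ∈ N := (QuotientGroup.eq_one_iff _).1 (congrArg Subtype.val hb)
      exact Subtype.ext ((Subgroup.mem_centralizer_iff.1 c.2.2 _ hbN).symm)
    have haB : a ∈ B := ⟨hAP (Subgroup.mem_map_of_mem _ ha), Subgroup.mem_centralizer_iff.2 fun m hm => by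
      have h1 := hρ₀ a ⟨m, hm⟩
      have h2 : ρ₀ a = 1 := htriv
      rw [h2] at h1
      exact eq_mul_inv_iff_mul_eq.1 h1⟩
    have h3 := Grp.mem_pCore_of_mem_fitting (p := p) (Grp.le_fitting_of_isSubnormal
      (Subgroup.Normal.isSubnormal inferInstance) inferInstance haB) (hA.to_le (zpowers_le.2 ha))
    rw [hcore, Subgroup.mem_bot] at h3
    exact ha1 h3
  · obtain ⟨v, hv⟩ := Block.AvoidFix.exists_avoid (V := Additive N) hp2
      (by rw [show Nat.card (Additive N) = Nat.card N from Nat.card_congr Additive.toMul]; exact hcop)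
      ρ (Cfsg.pCore p (G ⧸ N)) Grp.pCore_isPGroup (hAP (Subgroup.mem_map_of_mem _ ha)) htriv
    set w : N := Additive.toMul v with hw
    obtain ⟨g, hg, hs⟩ := h (w : G)
    obtain ⟨m, rfl⟩ := isConj_iff.1 hg
    set g := m * (w : G) * m⁻¹ with hgdef
    have hgN : g ∈ N := hNn.conj_mem _ w.2 m
    have hJp := conj_group_isPGroup hA g hs
    have hcomm : a * g * a⁻¹ * g⁻¹ = 1 := by
      have hJmem : a * g * a⁻¹ * g⁻¹ ∈ A ⊔ MulAut.conj g • A := by
        rw [show a * g * a⁻¹ * g⁻¹ = a * (g * a⁻¹ * g⁻¹) by group]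
        refine mul_mem (mem_sup_left ha) (mem_sup_right ?_)
        rw [Subgroup.mem_pointwise_smul_iff_inv_smul_mem]
        simp [MulAut.smul_def, mul_assoc, inv_mem ha]
      have hNmem : a * g * a⁻¹ * g⁻¹ ∈ N := mul_mem (hNn.conj_mem _ hgN a) (inv_mem hgN)
      obtain ⟨i, hi⟩ := hJp ⟨_, hJmem⟩
      have h1 := orderOf_dvd_of_pow_eq_one (congrArg Subtype.val hi)
      have h2 := Subgroup.orderOf_dvd_natCard N hNmem
      exact orderOf_eq_one_iff.1 (Nat.eq_one_of_dvd_coprimes ((hcop.pow_right i).symm) h1 h2)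
    refine hv (QuotientGroup.mk' N m⁻¹) ?_
    rw [← map_inv, ← map_mul, ← map_mul]
    refine Additive.toMul.injective (Subtype.ext ?_)
    show ((Additive.toMul (ρ₀ (m⁻¹ * a * m⁻¹⁻¹) (Additive.ofMul w)) : N) : G) = (w : G)
    rw [hρ₀]
    have h3 : a * g = g * a := by
      have h4 := mul_inv_eq_one.1 hcomm
      exact mul_inv_eq_iff_eq_mul.1 h4
    rw [hgdef] at h3
    calc m⁻¹ * a * m⁻¹⁻¹ * (w : G) * (m⁻¹ * a * m⁻¹⁻¹)⁻¹ = m⁻¹ * (a * (m * (w : G) * m⁻¹)) * a⁻¹ * m := by group
      _ = (w : G) := by rw [h3]; group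

/-- Let G be a finite solvable group, p an odd prime and A a p-subgroup of G such that every conjugacy class of G contains an element g for which A is subnormal in the subgroup generated by A and its conjugate by g. Then A is contained in O_p(G). (The hypothesis that p is odd is needed.) -/
theorem result {G : Type*} [Group G] [Finite G]
    (hG : Group.IsSolvable G) (p : ℕ) [Fact p.Prime] (hp : p ≠ 2) (A : Subgroup G) (hA : IsPGroup p A)
    (h : ∀ c : G, ∃ g : G, IsConj c g ∧ (A.subgroupOf (A ⊔ MulAut.conj g • A)).IsSubnormal) :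
    A ≤ Cfsg.pCore p G := by
  exact aux hp _ G rfl hG A hA h

end Cfsg.Agent.S4330
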