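import Cfsg.Statements.S4331
import Cfsg.Agent.Lib.Grp.Cores
import Cfsg.Agent.Lib.Grp.SubnormalFamily
import Mathlib

set_option maxHeartbeats 1000000
set_option maxRecDepth 8000

set_option autoImplicit false
open Cfsg
open scoped commutatorElement

namespace Cfsg.Agent.S4331

abbrev F : Type := GaloisField 3 2

instance : Fact (Nat.Prime 3) := ⟨Nat.prime_three⟩
instance : Fact (Nat.Prime 2) := ⟨Nat.prime_two⟩
noncomputable instance : Fintype F := Fintype.ofFinite F

/-- `g x = u * x ^ 3 ^ i + v`. -/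
def IsSemi (g : Equiv.Perm F) : Prop :=
  ∃ (u : F) (i : ℕ) (v : F), u ≠ 0 ∧ i ≤ 1 ∧ ∀ x, g x = u * x ^ 3 ^ i + v

theorem pow_nine (x : F) : (x ^ 3) ^ 3 = x := by
  have hc : Nat.card F = 9 := (GaloisField.card 3 2 (by norm_num)).trans (by norm_num)
  have h := FiniteField.pow_card x
  rw [← pow_mul, show 3 * 3 = 9 from rfl]
  rwa [← Nat.card_eq_fintype_card, hc] at h

theorem cube_add (x y : F) : (x + y) ^ 3 = x ^ 3 + y ^ 3 := add_pow_char x y 3

theorem semi_mul {g h : Equiv.Perm F} (hg : IsSemi g) (hh : IsSemi h) : IsSemi (g * h) := by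
  obtain ⟨u, i, v, hu, hi, hg⟩ := hg
  obtain ⟨u', j, v', hu', hj, hh⟩ := hh
  refine ⟨u * u' ^ 3 ^ i, (i + j) % 2, u * v' ^ 3 ^ i + v, mul_ne_zero hu (pow_ne_zero _ hu'), by omega, fun x => ?_⟩
  rw [Equiv.Perm.mul_apply, hg, hh]
  interval_cases i <;> interval_cases j <;>
    simp [cube_add, mul_pow, pow_nine, mul_add, add_assoc, mul_assoc]

/-- Semilinear affine maps of the field with nine elements. -/
def semi : Subgroup (Equiv.Perm F) :=
  Subgroup.closure {g | IsSemi g}

theorem mem_semi {g : Equiv.Perm F} : g ∈ semi ↔ IsSemi g := by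
  refine ⟨fun h => ?_, fun h => Subgroup.subset_closure h⟩
  have h1 : IsSemi 1 := ⟨1, 0, 0, one_ne_zero, Nat.zero_le _, fun x => by simp⟩
  have hpow : ∀ g, IsSemi g → ∀ n : ℕ, IsSemi (g ^ n) := fun g hg n => by
    induction n with
    | zero => simpa using h1
    | succ n ih => rw [pow_succ]; exact semi_mul ih hg
  induction h using Subgroup.closure_induction'' with
  | one => exact h1
  | mem x hx => exact hx
  | inv_mem x hx =>
    have e : x ^ (orderOf x - 1) = x⁻¹ := by
      refine eq_inv_of_mul_eq_one_left ?_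
      rw [← pow_succ, Nat.sub_add_cancel (orderOf_pos x), pow_orderOf_eq_one]
    exact e ▸ hpow x hx _
  | mul x y _ _ hx hy => exact semi_mul hx hy


/-- There is a finite solvable group G with a subgroup A of order 2 such that every conjugacy class of G contains an element g for which A is subnormal in the subgroup generated by A and g, and yet A is not contained in O_2(G). (So the corresponding criteria for odd primes fail at the prime 2, even for solvable groups.) -/
theorem result :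
    ∃ (G : Type) (_ : Group G) (_ : Finite G) (A : Subgroup G), Group.IsSolvable G ∧ Nat.card A = 2 ∧
      (∀ c : G, ∃ g : G, IsConj c g ∧ (A.subgroupOf (A ⊔ Subgroup.zpowers g)).IsSubnormal) ∧
      ¬ A ≤ Cfsg.pCore 2 G := by

  classical
  have htr : ∀ v : F, Equiv.addRight v ∈ semi := fun v =>
    mem_semi.2 ⟨1, 0, v, one_ne_zero, Nat.zero_le _, fun x => by simp⟩
  have hml : ∀ u : F, ∀ hu : u ≠ 0, Equiv.mulLeft₀ u hu ∈ semi := fun u hu =>
    mem_semi.2 ⟨u, 0, 0, hu, Nat.zero_le _, fun x => by simp⟩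
  let s : Equiv.Perm F := ⟨fun x => x ^ 3, fun x => x ^ 3, pow_nine, pow_nine⟩
  have hs : s ∈ semi := mem_semi.2 ⟨1, 1, 0, one_ne_zero, le_rfl, fun x => by simp [s]⟩
  have hs2 : s ^ 2 = 1 := Equiv.ext fun x => by rw [pow_two]; exact pow_nine x
  let a : semi := ⟨s, hs⟩
  obtain ⟨y, hy⟩ : ∃ y : F, y ^ 3 - y ≠ 0 := by
    by_contra h
    push Not at h
    have hsub : (Polynomial.X ^ 3 - Polynomial.X : Polynomial F) = 0 := by
      refine Polynomial.eq_zero_of_natDegree_lt_card_of_eval_eq_zero' _ Finset.univ (fun x _ => by simpa using h x) ?_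
      have hc : Nat.card F = 9 := (GaloisField.card 3 2 (by norm_num)).trans (by norm_num)
      rw [Finset.card_univ, ← Nat.card_eq_fintype_card, hc]
      compute_degree
      norm_num
    have h3 := congrArg (fun q => Polynomial.coeff q 3) hsub
    simp [Polynomial.coeff_X] at h3
  have ha1 : a ≠ 1 := fun e => hy (sub_eq_zero.2 (Equiv.congr_fun (congrArg Subtype.val e) y))
  have haord : orderOf a = 2 := orderOf_eq_prime (Subtype.ext hs2) ha1
  refine ⟨semi, inferInstance, inferInstance, Subgroup.zpowers a, ?_, by rw [Nat.card_zpowers, haord], ?_, ?_⟩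
  · -- solvable
    have hlin : ∀ g ∈ ⁅semi, semi⁆, ∃ u v : F, u ≠ 0 ∧ ∀ x, g x = u * x + v := by
      intro g hg
      let K : Subgroup (Equiv.Perm F) :=
        { carrier := {g | ∃ u v : F, u ≠ 0 ∧ ∀ x, g x = u * x + v}
          one_mem' := ⟨1, 0, one_ne_zero, fun x => by simp⟩
          mul_mem' := by
            rintro g h ⟨u, v, hu, hg⟩ ⟨u', v', hu', hh⟩
            exact ⟨u * u', u * v' + v, mul_ne_zero hu hu', fun x => by rw [Equiv.Perm.mul_apply, hg, hh]; ring⟩
          inv_mem' := by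
            rintro g ⟨u, v, hu, hg⟩
            refine ⟨u⁻¹, -u⁻¹ * v, inv_ne_zero hu, fun x => Equiv.Perm.inv_eq_iff_eq.2 ?_⟩
            rw [hg]; field_simp; ring }
      refine (Subgroup.commutator_le.2 fun g hg h hh => ?_ : ⁅semi, semi⁆ ≤ K) hg
      obtain ⟨u, i, v, hu, hi, hg⟩ := mem_semi.1 hg
      obtain ⟨u', j, v', hu', hj, hh⟩ := mem_semi.1 hh
      have h12 : IsSemi (g * h) := semi_mul ⟨u, i, v, hu, hi, hg⟩ ⟨u', j, v', hu', hj, hh⟩
      have e1 : ∀ x, (g * h) x = u * u' ^ 3 ^ i * x ^ 3 ^ ((i + j) % 2) + (u * v' ^ 3 ^ i + v) := fun x => by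
        rw [Equiv.Perm.mul_apply, hg, hh]
        interval_cases i <;> interval_cases j <;> simp [cube_add, mul_pow, pow_nine, mul_add, add_assoc, mul_assoc]
      have e2 : ∀ x, (h * g) x = u' * u ^ 3 ^ j * x ^ 3 ^ ((i + j) % 2) + (u' * v ^ 3 ^ j + v') := fun x => by
        rw [Equiv.Perm.mul_apply, hg, hh]
        interval_cases i <;> interval_cases j <;> simp [cube_add, mul_pow, pow_nine, mul_add, add_assoc, mul_assoc]
      refine ⟨(u * u' ^ 3 ^ i) / (u' * u ^ 3 ^ j),
        (u * v' ^ 3 ^ i + v) - (u * u' ^ 3 ^ i) / (u' * u ^ 3 ^ j) * (u' * v ^ 3 ^ j + v'),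
        div_ne_zero (mul_ne_zero hu (pow_ne_zero _ hu')) (mul_ne_zero hu' (pow_ne_zero _ hu)), fun x => ?_⟩
      have hne : u' * u ^ 3 ^ j ≠ 0 := mul_ne_zero hu' (pow_ne_zero _ hu)
      obtain ⟨z, rfl⟩ := (h * g).surjective x
      rw [show ⁅g, h⁆ ((h * g) z) = (g * h) z by simp [commutatorElement_def, Equiv.Perm.mul_apply], e1, e2]
      field_simp
      ring
    have htrans : ∀ g ∈ ⁅⁅semi, semi⁆, ⁅semi, semi⁆⁆, ∃ v : F, ∀ x, g x = x + v := by
      intro g hg
      let K : Subgroup (Equiv.Perm F) :=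
        { carrier := {g | ∃ v : F, ∀ x, g x = x + v}
          one_mem' := ⟨0, fun x => by simp⟩
          mul_mem' := by
            rintro g h ⟨v, hg⟩ ⟨v', hh⟩
            exact ⟨v' + v, fun x => by rw [Equiv.Perm.mul_apply, hg, hh]; ring⟩
          inv_mem' := by
            rintro g ⟨v, hg⟩
            refine ⟨-v, fun x => Equiv.Perm.inv_eq_iff_eq.2 ?_⟩
            rw [hg]; ring }
      refine (Subgroup.commutator_le.2 fun g hg h hh => ?_ : ⁅⁅semi, semi⁆, ⁅semi, semi⁆⁆ ≤ K) hg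
      obtain ⟨u, v, hu, hg⟩ := hlin g hg
      obtain ⟨u', v', hu', hh⟩ := hlin h hh
      refine ⟨u * v' + v - (u' * v + v'), fun x => ?_⟩
      obtain ⟨z, rfl⟩ := (h * g).surjective x
      rw [show ⁅g, h⁆ ((h * g) z) = (g * h) z by simp [commutatorElement_def, Equiv.Perm.mul_apply]]
      simp only [Equiv.Perm.mul_apply, hg, hh]
      ring
    refine ⟨⟨3, le_bot_iff.1 fun g hg => ?_⟩⟩
    have hmap : ∀ n, (derivedSeries semi n).map semi.subtype =
        Nat.rec (motive := fun _ => Subgroup (Equiv.Perm F)) semi (fun _ H => ⁅H, H⁆) n := fun n => by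
      induction n with
      | zero => rw [derivedSeries_zero, ← MonoidHom.range_eq_map, Subgroup.range_subtype]; rfl
      | succ n ih => rw [derivedSeries_succ, Subgroup.map_commutator, ih]
    have h3 : (g : Equiv.Perm F) ∈ ⁅⁅⁅semi, semi⁆, ⁅semi, semi⁆⁆, ⁅⁅semi, semi⁆, ⁅semi, semi⁆⁆⁆ :=
    by
      have := Subgroup.mem_map_of_mem semi.subtype hg
      rw [hmap 3] at this
      exact this
    have h4 : ⁅⁅⁅semi, semi⁆, ⁅semi, semi⁆⁆, ⁅⁅semi, semi⁆, ⁅semi, semi⁆⁆⁆ = ⊥ := by
      rw [Subgroup.commutator_eq_bot_iff_le_centralizer]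
      intro g hg
      refine Subgroup.mem_centralizer_iff.2 fun h hh => ?_
      obtain ⟨v, hg⟩ := htrans g hg
      obtain ⟨v', hh⟩ := htrans h hh
      exact Equiv.ext fun x => by simp only [Equiv.Perm.mul_apply, hg, hh]; ring
    rw [h4, Subgroup.mem_bot] at h3
    exact Subgroup.mem_bot.2 (Subtype.ext h3)
  · intro c
    -- subnormality in two situations
    have hcentral : ∀ g : semi, Commute a g →
        ((Subgroup.zpowers a).subgroupOf (Subgroup.zpowers a ⊔ Subgroup.zpowers g)).IsSubnormal := fun g hg => by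
      refine Subgroup.Normal.isSubnormal (Subgroup.normal_subgroupOf_of_le_normalizer
        (sup_le Subgroup.le_normalizer (le_trans ?_ (Subgroup.centralizer_le_normalizer _))))
      rintro _ ⟨i, rfl⟩
      refine Subgroup.mem_centralizer_iff.2 ?_
      rintro _ ⟨j, rfl⟩
      exact (hg.zpow_zpow j i).eq
    let L := MulAction.stabilizer semi (0 : F)
    have hLp : IsPGroup 2 L := by
      have hker : ∀ g ∈ L, g ^ 16 = 1 := by
        intro g hg
        obtain ⟨u, i, v, hu, hi, hgx⟩ := mem_semi.1 g.2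
        have hv : v = 0 := by
          have h := hgx 0
          rwa [show (g : Equiv.Perm F) 0 = 0 from hg, zero_pow (by positivity), mul_zero, zero_add, eq_comm] at h
        subst hv
        have hc : Nat.card F = 9 := (GaloisField.card 3 2 (by norm_num)).trans (by norm_num)
        have h8 : u ^ 8 = 1 := by
          have h := FiniteField.pow_card_sub_one_eq_one u hu
          rwa [← Nat.card_eq_fintype_card, hc] at h
        refine Subtype.ext (Equiv.ext fun x => ?_)
        have hit : ∀ n : ℕ, ((g : Equiv.Perm F) ^ n) x = ((fun y => u * y ^ 3 ^ i + 0)^[n]) x := fun n => by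
          rw [← funext hgx, Equiv.Perm.coe_pow]
        rw [Subgroup.coe_pow, hit 16, Subgroup.coe_one, Equiv.Perm.one_apply]
        interval_cases i
        · simp only [Function.iterate_succ, Function.iterate_zero, Function.comp_apply, id, pow_zero, pow_one, add_zero]
          linear_combination (norm := ring) (u ^ 8 + 1) * x * h8
        · simp only [Function.iterate_succ, Function.iterate_zero, Function.comp_apply, id, pow_one, add_zero, mul_pow, pow_nine]
          linear_combination (norm := ring) (u ^ 24 + u ^ 16 + u ^ 8 + 1) * x * h8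
      rw [IsPGroup.iff_orderOf]
      intro g
      obtain ⟨k, -, hk⟩ := (Nat.dvd_prime_pow Nat.prime_two).1
        (orderOf_dvd_of_pow_eq_one (Subtype.ext (hker g g.2) : g ^ (2 ^ 4) = 1))
      exact ⟨k, hk⟩
    have hinL : ∀ g ∈ L,
        ((Subgroup.zpowers a).subgroupOf (Subgroup.zpowers a ⊔ Subgroup.zpowers g)).IsSubnormal := fun g hg => by
      have hle : Subgroup.zpowers a ⊔ Subgroup.zpowers g ≤ L :=
        sup_le (Subgroup.zpowers_le.2 (show s 0 = 0 by simp [s])) (Subgroup.zpowers_le.2 hg)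
      haveI : Group.IsNilpotent ↥(Subgroup.zpowers a ⊔ Subgroup.zpowers g) := (hLp.to_le hle).isNilpotent
      exact Cfsg.Agent.Grp.SnFamily.isSubnormal_of_isNilpotent inferInstance _
    have hfix : ∀ g : semi, (∃ x, (g : Equiv.Perm F) x = x) → ∃ g', IsConj g g' ∧
        ((Subgroup.zpowers a).subgroupOf (Subgroup.zpowers a ⊔ Subgroup.zpowers g')).IsSubnormal := by
      rintro g ⟨x, hx⟩
      refine ⟨⟨_, htr x⟩⁻¹ * g * (⟨_, htr x⟩ : semi)⁻¹⁻¹, isConj_iff.2 ⟨_, rfl⟩, hinL _ ?_⟩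
      show ((Equiv.addRight x)⁻¹ * (g : Equiv.Perm F) * (Equiv.addRight x)⁻¹⁻¹) 0 = 0
      simp [Equiv.Perm.mul_apply, hx]
    by_cases hc : ∃ x, (c : Equiv.Perm F) x = x
    · exact hfix c hc
    push Not at hc
    obtain ⟨u, i, v, hu, hi, hcx⟩ := mem_semi.1 c.2
    interval_cases i
    · have hu1 : u = 1 := by
        by_contra h
        have h' : 1 - u ≠ 0 := sub_ne_zero.2 (Ne.symm h)
        exact hc (v / (1 - u)) (by rw [hcx, pow_zero, pow_one]; field_simp; ring)
      subst hu1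
      have hv : v ≠ 0 := fun e => hc 0 (by simp [hcx, e])
      refine ⟨(⟨_, hml v hv⟩ : semi)⁻¹ * c * (⟨_, hml v hv⟩ : semi)⁻¹⁻¹, isConj_iff.2 ⟨_, rfl⟩,
        hcentral _ (Subtype.ext (Equiv.ext fun x => ?_))⟩
      show s (((Equiv.mulLeft₀ v hv)⁻¹ * (c : Equiv.Perm F) * (Equiv.mulLeft₀ v hv)⁻¹⁻¹) x) =
        ((Equiv.mulLeft₀ v hv)⁻¹ * (c : Equiv.Perm F) * (Equiv.mulLeft₀ v hv)⁻¹⁻¹) (s x)
      have e : ∀ z, ((Equiv.mulLeft₀ v hv)⁻¹ * (c : Equiv.Perm F) * (Equiv.mulLeft₀ v hv)⁻¹⁻¹) z = z + 1 := fun z => by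
        rw [Equiv.Perm.mul_apply, Equiv.Perm.mul_apply, inv_inv, Equiv.Perm.inv_eq_iff_eq, hcx]
        simp [mul_add]
      rw [e, e]
      show (x + 1) ^ 3 = x ^ 3 + 1
      rw [cube_add, one_pow]
    · have hw : ∃ w : F, w ≠ 0 ∧ u * w ^ 3 = w := by
        by_contra h
        push Not at h
        have hinj : Function.Injective (fun x : F => x - u * x ^ 3) := fun x y hxy => by
          by_contra hne
          refine h (x - y) (sub_ne_zero.2 hne) ?_
          rw [sub_pow_char (p := 3) x y]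
          linear_combination -(hxy)
        obtain ⟨x, hx⟩ := (Finite.injective_iff_surjective.1 hinj) v
        exact hc x (by rw [hcx, pow_one]; linear_combination -(hx))
      obtain ⟨w, hw, huw⟩ := hw
      set v' := v / w with hv'
      refine ⟨((⟨_, htr (-v')⟩ : semi)⁻¹ * (⟨_, hml w hw⟩ : semi)⁻¹) * c *
        ((⟨_, htr (-v')⟩ : semi)⁻¹ * (⟨_, hml w hw⟩ : semi)⁻¹)⁻¹, isConj_iff.2 ⟨_, rfl⟩,
        hcentral _ (Subtype.ext (Equiv.ext fun x => ?_))⟩
      have e : ∀ z, (((Equiv.addRight (-v'))⁻¹ * (Equiv.mulLeft₀ w hw)⁻¹) * (c : Equiv.Perm F) *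
          ((Equiv.addRight (-v'))⁻¹ * (Equiv.mulLeft₀ w hw)⁻¹)⁻¹) z = z ^ 3 + (v' - v' ^ 3 + v') := fun z => by
        simp only [mul_inv_rev, inv_inv, Equiv.Perm.mul_apply]
        rw [Equiv.Perm.inv_eq_iff_eq, Equiv.Perm.inv_eq_iff_eq, hcx]
        simp only [Equiv.mulLeft₀_apply, Equiv.coe_addRight, pow_one, mul_pow, cube_add]
        have hvv : v = w * v' := by rw [hv']; field_simp
        have hn : ((-v') ^ 3 : F) = -(v' ^ 3) := by ring
        rw [hn, hvv]
        linear_combination (z ^ 3 - v' ^ 3) * huw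
      show s ((((Equiv.addRight (-v'))⁻¹ * (Equiv.mulLeft₀ w hw)⁻¹) * (c : Equiv.Perm F) *
          ((Equiv.addRight (-v'))⁻¹ * (Equiv.mulLeft₀ w hw)⁻¹)⁻¹) x) = (((Equiv.addRight (-v'))⁻¹ *
          (Equiv.mulLeft₀ w hw)⁻¹) * (c : Equiv.Perm F) * ((Equiv.addRight (-v'))⁻¹ * (Equiv.mulLeft₀ w hw)⁻¹)⁻¹) (s x)
      rw [e, e]
      have h3 : (3 : F) = 0 := by exact_mod_cast CharP.cast_eq_zero F 3
      show (x ^ 3 + (v' - v' ^ 3 + v')) ^ 3 = (x ^ 3) ^ 3 + (v' - v' ^ 3 + v')
      rw [cube_add, cube_add, sub_pow_char (p := 3), pow_nine v']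
      linear_combination (v' ^ 3 - v') * h3
  · intro hle
    have h1 := hle (Subgroup.mem_zpowers a)
    haveI := Cfsg.Agent.Grp.pCore_isNormal (p := 2) (G := semi)
    have h2 : (⟨_, htr y⟩ : semi) * a * (⟨_, htr y⟩ : semi)⁻¹ * a⁻¹ ∈ Cfsg.pCore 2 semi :=
      mul_mem (Subgroup.Normal.conj_mem inferInstance _ h1 _) (inv_mem h1)
    obtain ⟨k, hk⟩ := IsPGroup.iff_orderOf.1 (Cfsg.Agent.Grp.pCore_isPGroup (p := 2) (G := semi)) ⟨_, h2⟩
    rw [Subgroup.orderOf_mk, ← Subgroup.orderOf_coe] at hk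
    have he : ((((⟨_, htr y⟩ : semi) * a * (⟨_, htr y⟩ : semi)⁻¹ * a⁻¹ : semi)) : Equiv.Perm F) = Equiv.addRight (y - y ^ 3) := by
      simp only [Subgroup.coe_mul, Subgroup.coe_inv]
      refine mul_inv_eq_iff_eq_mul.2 (mul_inv_eq_iff_eq_mul.2 (Equiv.ext fun z => ?_))
      simp [a, s, Equiv.Perm.mul_apply, cube_add]
    rw [he] at hk
    have h3 : orderOf (Equiv.addRight (y - y ^ 3)) = 3 := by
      refine orderOf_eq_prime (Equiv.ext fun z => ?_) (fun e => hy ?_)
      · have h3 : (3 : F) = 0 := by exact_mod_cast CharP.cast_eq_zero F 3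
        simp [pow_succ, Equiv.Perm.mul_apply]
        linear_combination (y - y ^ 3) * h3
      · have := Equiv.congr_fun e 0
        simp at this
        linear_combination -(this)
    rw [h3] at hk
    have := (Nat.prime_dvd_prime_iff_eq Nat.prime_three Nat.prime_two).1 (Nat.prime_three.dvd_of_dvd_pow hk.dvd)
    omega

end Cfsg.Agent.S4331
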