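import Cfsg.Statements.S4332
import Cfsg.Agent.Lib.Grp.Cores
import Mathlib

set_option maxHeartbeats 1000000
set_option maxRecDepth 8000

set_option autoImplicit false
open Pointwise
open Cfsg
open scoped Pointwise

namespace Cfsg.Agent.S4332

theorem exists_commuting (c : Equiv.Perm (Fin 8)) :
    ∃ τ : Equiv.Perm (Fin 8), τ.IsThreeCycle ∧ Commute τ (c * τ * c⁻¹) := by
  classical
  have hconj : ∀ a b d : Fin 8, c * (Equiv.swap a b * Equiv.swap a d) * c⁻¹ =
      Equiv.swap (c a) (c b) * Equiv.swap (c a) (c d) := fun a b d => by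
    rw [show c * (Equiv.swap a b * Equiv.swap a d) * c⁻¹ = (c * Equiv.swap a b * c⁻¹) * (c * Equiv.swap a d * c⁻¹) by group,
      ← Equiv.swap_apply_apply, ← Equiv.swap_apply_apply]
  have hdis : ∀ a b d : Fin 8, a ≠ b → a ≠ d → b ≠ d →
      (∀ x ∈ [a, b, d], c x ≠ a ∧ c x ≠ b ∧ c x ≠ d) →
      ∃ τ : Equiv.Perm (Fin 8), τ.IsThreeCycle ∧ Commute τ (c * τ * c⁻¹) := by
    intro a b d hab had hbd h
    refine ⟨_, Equiv.Perm.isThreeCycle_swap_mul_swap_same hab had hbd, ?_⟩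
    rw [hconj]
    refine Equiv.Perm.Disjoint.commute fun x => ?_
    obtain ⟨h1, h2, h3⟩ := h a (by simp)
    obtain ⟨h4, h5, h6⟩ := h b (by simp)
    obtain ⟨h7, h8, h9⟩ := h d (by simp)
    by_cases hx : x = a ∨ x = b ∨ x = d
    · right
      have e : ∀ y z : Fin 8, x ≠ y → x ≠ z → Equiv.swap y z x = x := fun y z => Equiv.swap_apply_of_ne_of_ne
      rcases hx with rfl | rfl | rfl
      · simp [Equiv.Perm.mul_apply, e _ _ (Ne.symm h1) (Ne.symm h4), e _ _ (Ne.symm h1) (Ne.symm h7)]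
      · simp [Equiv.Perm.mul_apply, e _ _ (Ne.symm h2) (Ne.symm h5), e _ _ (Ne.symm h2) (Ne.symm h8)]
      · simp [Equiv.Perm.mul_apply, e _ _ (Ne.symm h3) (Ne.symm h6), e _ _ (Ne.symm h3) (Ne.symm h9)]
    · left
      push Not at hx
      simp [Equiv.Perm.mul_apply, Equiv.swap_apply_of_ne_of_ne hx.1 hx.2.2, Equiv.swap_apply_of_ne_of_ne hx.1 hx.2.1]
  have hinv : ∀ a b d : Fin 8, a ≠ b → a ≠ d → b ≠ d →
      (c a = b ∧ c b = d ∧ c d = a ∨ c a = b ∧ c b = a ∧ c d = d ∨ c a = a ∧ c b = b ∧ c d = d) →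
      ∃ τ : Equiv.Perm (Fin 8), τ.IsThreeCycle ∧ Commute τ (c * τ * c⁻¹) := by
    intro a b d hab had hbd h
    refine ⟨_, Equiv.Perm.isThreeCycle_swap_mul_swap_same hab had hbd, ?_⟩
    rw [hconj]
    rcases h with ⟨e1, e2, e3⟩ | ⟨e1, e2, e3⟩ | ⟨e1, e2, e3⟩
    · rw [e1, e2, e3]
      have : Equiv.swap b d * Equiv.swap b a = Equiv.swap a b * Equiv.swap a d := by
        ext x; simp only [Equiv.Perm.mul_apply, Equiv.swap_apply_def]; split_ifs <;> simp_all
      rw [this]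
    · rw [e1, e2, e3]
      have : Equiv.swap b a * Equiv.swap b d = (Equiv.swap a b * Equiv.swap a d)⁻¹ := by
        rw [mul_inv_rev, Equiv.swap_inv, Equiv.swap_inv]
        ext x; simp only [Equiv.Perm.mul_apply, Equiv.swap_apply_def]; split_ifs <;> simp_all
      rw [this]
      exact (Commute.refl _).inv_right
    · rw [e1, e2, e3]
  by_cases hfix : 3 ≤ (Finset.univ.filter fun x => c x = x).card
  · obtain ⟨T, hT, hTc⟩ := Finset.exists_subset_card_eq hfix
    obtain ⟨a, b, d, hab, had, hbd, rfl⟩ := Finset.card_eq_three.1 hTc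
    have hm : ∀ x ∈ ({a, b, d} : Finset (Fin 8)), c x = x := fun x hx => (Finset.mem_filter.1 (hT hx)).2
    exact hinv a b d hab had hbd (Or.inr (Or.inr ⟨hm a (by simp), hm b (by simp), hm d (by simp)⟩))
  have hpick : ∀ S : Finset (Fin 8), S.card ≤ 5 → ∃ d, d ∉ S ∧ c d ≠ d := by
    intro S hS
    by_contra h
    push Not at h
    have h1 : (Finset.univ : Finset (Fin 8)) ⊆ S ∪ Finset.univ.filter fun x => c x = x := fun x _ => by
      by_cases hx : x ∈ S <;> simp [hx, h x]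
    have h2 := (Finset.card_le_card h1).trans (Finset.card_union_le _ _)
    rw [Finset.card_univ, Fintype.card_fin] at h2
    omega
  by_cases hinvol : ∀ x, c (c x) = x
  · by_cases hf : ∃ f, c f = f
    · obtain ⟨f, hf⟩ := hf
      obtain ⟨a, -, ha⟩ := hpick ∅ (by simp)
      exact hinv a (c a) f (Ne.symm ha) (fun e => ha (e ▸ hf)) (fun e => ha (by
        have : c (c a) = c a := by rw [e, hf]
        rw [← this, hinvol])) (Or.inr (Or.inl ⟨rfl, hinvol a, hf⟩))
    · push Not at hf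
      obtain ⟨a, -, ha⟩ := hpick ∅ (by simp)
      obtain ⟨b, hb, hb'⟩ := hpick {a, c a} ((Finset.card_le_two).trans (by norm_num))
      obtain ⟨d, hd, hd'⟩ := hpick {a, c a, b, c b} ((Finset.card_le_four).trans (by norm_num))
      simp only [Finset.mem_insert, Finset.mem_singleton, not_or] at hb hd
      refine hdis a b d (Ne.symm hb.1) (Ne.symm hd.1) (Ne.symm hd.2.2.1) fun x hx => ?_
      simp only [List.mem_cons, List.mem_nil_iff, or_false] at hx
      rcases hx with rfl | rfl | rfl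
      · exact ⟨ha, Ne.symm hb.2, Ne.symm hd.2.1⟩
      · exact ⟨fun e => hb.2 (by rw [← e, hinvol]), hb', Ne.symm hd.2.2.2⟩
      · exact ⟨fun e => hd.2.1 (by rw [← e, hinvol]), fun e => hd.2.2.2 (by rw [← e, hinvol]), hd'⟩
  push Not at hinvol
  obtain ⟨a, ha2⟩ := hinvol
  have ha : c a ≠ a := fun e => ha2 (by rw [e, e])
  have hb : c (c a) ≠ c a := fun e => ha (c.injective e)
  by_cases ha3 : c (c (c a)) = a
  · exact hinv a (c a) (c (c a)) (Ne.symm ha) (Ne.symm ha2) (Ne.symm hb) (Or.inl ⟨rfl, rfl, ha3⟩)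
  obtain ⟨d, hd, hd'⟩ := hpick {a, c a, c⁻¹ a, c (c a), c (c (c a))} (Finset.card_le_five)
  simp only [Finset.mem_insert, Finset.mem_singleton, not_or] at hd
  refine hdis a (c (c a)) d (Ne.symm ha2) (Ne.symm hd.1) (Ne.symm hd.2.2.2.1) fun x hx => ?_
  simp only [List.mem_cons, List.mem_nil_iff, or_false] at hx
  rcases hx with rfl | rfl | rfl
  · exact ⟨ha, Ne.symm hb, Ne.symm hd.2.1⟩
  · exact ⟨ha3, fun e => hb (c.injective e), Ne.symm hd.2.2.2.2⟩
  · exact ⟨fun e => hd.2.2.1 (Equiv.Perm.eq_inv_iff_eq.2 e), fun e => hd.2.1 (c.injective e), hd'⟩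


/-- In the symmetric group of degree 8, let A be the subgroup generated by a 3-cycle. Then every conjugacy class contains an element g for which A is subnormal in the subgroup generated by A and its conjugate by g, although O_3 of the symmetric group of degree 8 is trivial. -/
theorem result
    (σ : Equiv.Perm (Fin 8)) (hσ : σ.IsThreeCycle) :
    (∀ c : Equiv.Perm (Fin 8), ∃ g : Equiv.Perm (Fin 8), IsConj c g ∧
      ((Subgroup.zpowers σ).subgroupOf (Subgroup.zpowers σ ⊔ MulAut.conj g • Subgroup.zpowers σ)).IsSubnormal) ∧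
    Cfsg.pCore 3 (Equiv.Perm (Fin 8)) = ⊥ := by

  classical
  haveI : Fact (Nat.Prime 3) := ⟨Nat.prime_three⟩
  refine ⟨fun c => ?_, ?_⟩
  · obtain ⟨τ, hτ, hcomm⟩ := exists_commuting c
    obtain ⟨h, hh⟩ := isConj_iff.1 (Equiv.Perm.isConj_iff_cycleType_eq.2 (hτ.cycleType.trans hσ.cycleType.symm))
    refine ⟨h * c * h⁻¹, isConj_iff.2 ⟨h, rfl⟩, ?_⟩
    have hc2 : Commute σ ((h * c * h⁻¹) * σ * (h * c * h⁻¹)⁻¹) := by
      have e : (h * c * h⁻¹) * σ * (h * c * h⁻¹)⁻¹ = h * (c * τ * c⁻¹) * h⁻¹ := by rw [← hh]; group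
      rw [e, ← hh]
      exact hcomm.map (MulAut.conj h)
    refine Subgroup.Normal.isSubnormal (Subgroup.normal_subgroupOf_of_le_normalizer (sup_le Subgroup.le_normalizer ?_))
    refine le_trans ?_ (Subgroup.centralizer_le_normalizer _)
    rintro _ ⟨y, ⟨i, rfl⟩, rfl⟩
    refine Subgroup.mem_centralizer_iff.2 ?_
    rintro _ ⟨j, rfl⟩
    show σ ^ j * (MulAut.conj (h * c * h⁻¹)) (σ ^ i) = (MulAut.conj (h * c * h⁻¹)) (σ ^ i) * σ ^ j
    rw [map_zpow, MulAut.conj_apply]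
    exact (hc2.zpow_zpow j i).eq
  · by_contra hne
    haveI := Cfsg.Agent.Grp.pCore_isNormal (p := 3) (G := Equiv.Perm (Fin 8))
    have h1 : alternatingGroup (Fin 8) ≤ Cfsg.pCore 3 (Equiv.Perm (Fin 8)) :=
      Equiv.Perm.alternatingGroup_le_of_normal (by simp) ((Subgroup.nontrivial_iff_ne_bot _).2 hne)
    have h2 : Equiv.swap (0 : Fin 8) 1 * Equiv.swap (2 : Fin 8) 3 ∈ alternatingGroup (Fin 8) := by
      rw [Equiv.Perm.mem_alternatingGroup]; decide
    obtain ⟨k, hk⟩ := IsPGroup.iff_orderOf.1 (Cfsg.Agent.Grp.pCore_isPGroup (p := 3) (G := Equiv.Perm (Fin 8))) ⟨_, h1 h2⟩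
    rw [Subgroup.orderOf_mk, orderOf_eq_prime (p := 2) (by decide) (by decide)] at hk
    have := (Nat.prime_dvd_prime_iff_eq Nat.prime_two Nat.prime_three).1 (Nat.prime_two.dvd_of_dvd_pow hk.dvd)
    omega

end Cfsg.Agent.S4332
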