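import Cfsg.Statements.S4333
import Cfsg.Agent.Lib.Grp.SubnormalJoin
import Mathlib

set_option maxHeartbeats 1000000
set_option maxRecDepth 8000

set_option autoImplicit false
open Pointwise
open Cfsg

namespace Cfsg.Agent.S4333

open scoped Pointwise
universe uG

/-- The criterion, by induction on the order. -/
theorem isSubnormal_of_conj : ∀ (n : ℕ) (G : Type uG) [Group G] [Finite G], Nat.card G = n → ∀ A : Subgroup G,
    (∀ a ∈ A, ∀ g : G, (A.subgroupOf (A ⊔ MulAut.conj (g⁻¹ * a * g) • A)).IsSubnormal) → A.IsSubnormal := by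
  intro n
  induction n using Nat.strong_induction_on with
  | _ n ih =>
  intro G _ _ hn A h
  by_contra hns
  have hpr : Cfsg.Agent.Grp.SnJoin.ProperSn A := by
    intro H hH hAH
    have hlt : Nat.card H < n := by
      rw [← hn]
      exact (Nat.le_of_dvd Nat.card_pos (Subgroup.card_subgroup_dvd_card H)).lt_of_ne
        fun e => hH (Subgroup.eq_top_of_card_eq H e)
    refine ih _ hlt H rfl (A.subgroupOf H) fun a ha g => ?_
    set t : H := g⁻¹ * a * g with ht
    have hmap : (MulAut.conj t • (A.subgroupOf H)).map H.subtype ≤ MulAut.conj (t : G) • A := by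
      rintro _ ⟨y, hy, rfl⟩
      rw [SetLike.mem_coe, Subgroup.mem_pointwise_smul_iff_inv_smul_mem] at hy
      rw [Subgroup.mem_pointwise_smul_iff_inv_smul_mem, ← map_inv, MulAut.smul_def, MulAut.conj_apply]
      rw [← map_inv, MulAut.smul_def, MulAut.conj_apply, Subgroup.mem_subgroupOf] at hy
      simpa using hy
    have hU : ((A.subgroupOf H) ⊔ MulAut.conj t • (A.subgroupOf H)).map H.subtype ≤
        A ⊔ MulAut.conj ((g : G)⁻¹ * (a : G) * g) • A := by
      rw [Subgroup.map_sup, Subgroup.map_subgroupOf_eq_of_le hAH]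
      exact sup_le_sup_left hmap A
    set U := (A.subgroupOf H) ⊔ MulAut.conj t • (A.subgroupOf H)
    let φ : U →* ↥(A ⊔ MulAut.conj ((g : G)⁻¹ * (a : G) * g) • A : Subgroup G) :=
      ((H.subtype).comp U.subtype).codRestrict _ fun u => hU (Subgroup.mem_map_of_mem _ u.2)
    have h2 := (h a (Subgroup.mem_subgroupOf.1 ha) g).comap φ
    exact h2
  obtain hA | ⟨M, hM, hAM⟩ := eq_top_or_exists_le_coatom A
  · exact hns (hA ▸ (inferInstance : (⊤ : Subgroup G).Normal).isSubnormal)
  have huniq : ∀ K : Subgroup G, IsCoatom K → A ≤ K → K = M := fun K hK hAK =>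
    (Cfsg.Agent.Grp.SnJoin.zipper _ A rfl hns hpr M K hM hK hAM hAK).symm
  have hMn : ¬ M.Normal := fun hn' => hns
    (Subgroup.IsSubnormal.trans hAM (hpr M hM.1 hAM) hn'.isSubnormal)
  have hNM : Subgroup.normalizer (M : Set G) = M :=
    ((hM.le_iff.1 Subgroup.le_normalizer).resolve_left fun e => hMn (Subgroup.normalizer_eq_top_iff.1 e))
  -- all conjugates of `A` lie in `M`
  have hconj : ∀ a ∈ A, ∀ g : G, g⁻¹ * a * g ∈ M := by
    intro a ha g
    set t := g⁻¹ * a * g with ht
    have hle : A ⊔ MulAut.conj t • A ≤ M := by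
      by_cases htop : A ⊔ MulAut.conj t • A = ⊤
      · refine absurd ?_ hns
        exact Subgroup.IsSubnormal.trans le_sup_left (h a ha g)
          (htop.symm ▸ (inferInstance : (⊤ : Subgroup G).Normal).isSubnormal)
      · obtain hK | ⟨K, hK, hle⟩ := eq_top_or_exists_le_coatom (A ⊔ MulAut.conj t • A)
        · exact absurd hK htop
        · exact huniq K hK (le_sup_left.trans hle) ▸ hle
    have hAM' : A ≤ MulAut.conj t⁻¹ • M := fun x hx => by
      rw [map_inv, Subgroup.mem_inv_pointwise_smul_iff]
      exact hle (Subgroup.mem_sup_right (Subgroup.smul_mem_pointwise_smul x (MulAut.conj t) A hx))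
    have hK : IsCoatom (MulAut.conj t⁻¹ • M) := by
      refine ⟨fun e => hM.1 ?_, fun b hb => ?_⟩
      · rw [← smul_inv_smul (MulAut.conj t) M, ← map_inv, e]
        exact (Subgroup.eq_top_iff' _).2 fun x => by
          rw [Subgroup.mem_pointwise_smul_iff_inv_smul_mem]; exact Subgroup.mem_top _
      · have h1 : M < MulAut.conj t • b := by
          have := (Subgroup.pointwise_smul_le_pointwise_smul_iff (a := MulAut.conj t)).2 hb.le
          rw [← mul_smul, ← map_mul, mul_inv_cancel, map_one, one_smul] at this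
          refine lt_of_le_of_ne this fun e => hb.ne ?_
          rw [e, ← mul_smul, ← map_mul, inv_mul_cancel, map_one, one_smul]
        rw [← inv_smul_smul (MulAut.conj t) b, hM.2 _ h1]
        exact (Subgroup.eq_top_iff' _).2 fun x => by
          rw [Subgroup.mem_pointwise_smul_iff_inv_smul_mem]; exact Subgroup.mem_top _
    have heq := huniq _ hK hAM'
    rw [← hNM, ← inv_mem_iff, Subgroup.mem_normalizer_iff_map_conj_eq]
    exact heq
  have hN : Subgroup.normalClosure (A : Set G) ≤ M := by
    rw [Subgroup.normalClosure, Subgroup.closure_le]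
    intro x hx
    obtain ⟨a, ha, hc⟩ := Group.mem_conjugatesOfSet_iff.1 hx
    obtain ⟨g, rfl⟩ := isConj_iff.1 hc
    simpa using hconj a ha g⁻¹
  exact hns (Subgroup.IsSubnormal.trans Subgroup.le_normalClosure
    (hpr _ (fun e => hM.1 (top_le_iff.1 (e ▸ hN))) Subgroup.le_normalClosure) (Subgroup.normalClosure_normal.isSubnormal))

/-- Let A be a subgroup of a finite group G. If A is subnormal in the subgroup generated by A and its conjugate by g⁻¹ a g, for every a ∈ A and every g ∈ G, then A is subnormal in G. (A sharpening of Wielandt's subnormality criterion: only conjugates of A by conjugates of elements of A are needed.) -/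
theorem result {G : Type*} [Group G] [Finite G]
    (A : Subgroup G)
    (h : ∀ a ∈ A, ∀ g : G, (A.subgroupOf (A ⊔ MulAut.conj (g⁻¹ * a * g) • A)).IsSubnormal) :
    A.IsSubnormal := by

  exact isSubnormal_of_conj _ G rfl A h

end Cfsg.Agent.S4333
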