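import Cfsg.Statements.S4337
import Mathlib
import Cfsg.Agent.S0144
-- import your own Cfsg.Agent.* helpers here

set_option autoImplicit false
open Cfsg

namespace Cfsg.Agent.S4337

set_option linter.style.haveILetI false

open Equiv

variable {n : ℕ}

theorem perm_solvable_of_card {β : Type*} [Finite β] (h : Nat.card β ≤ 4) :
    Group.IsSolvable (Perm β) := by
  classical
  haveI := Fintype.ofFinite β
  have h4 : Group.IsSolvable (Perm (Fin 4)) := S0144.result 2 3 3 1 Nat.prime_two Nat.prime_three (by
    rw [Nat.card_perm, Nat.card_fin]; rfl)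
  haveI := h4
  obtain ⟨e⟩ := Function.Embedding.nonempty_of_card_le
    (show Fintype.card β ≤ Fintype.card (Fin 4) by rw [Fintype.card_fin, ← Nat.card_eq_fintype_card]; exact h)
  exact solvable_of_solvable_injective (f := Perm.viaEmbeddingHom e) (Perm.viaEmbeddingHom_injective e)

theorem solvable_of_fix (T : Finset (Fin n)) (hT : T.card ≤ 4) (S : Set (Perm (Fin n)))
    (hS : ∀ g ∈ S, ∀ x, x ∉ T → g x = x) : Group.IsSolvable (Subgroup.closure S) := by
  classical
  let F : Subgroup (Perm (Fin n)) :=
    { carrier := {g | ∀ x, x ∉ T → g x = x}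
      one_mem' := fun x _ => rfl
      mul_mem' := fun {g h} hg hh x hx => by rw [Perm.mul_apply, hh x hx, hg x hx]
      inv_mem' := fun {g} hg x hx => Perm.inv_eq_iff_eq.2 (hg x hx).symm }
  have hle : Subgroup.closure S ≤ F := (Subgroup.closure_le F).2 hS
  haveI := perm_solvable_of_card (β := {x // x ∈ T}) (by
    rw [Nat.card_eq_fintype_card, Fintype.card_coe]; exact hT)
  let f : Perm {x // x ∈ T} →* Perm (Fin n) := Perm.ofSubtype
  have hFr : F ≤ f.range := fun g hg => ⟨Perm.subtypePerm g (fun x => by
      constructor
      · intro hx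
        by_contra hxT
        exact hxT (by rw [hg x hxT] at hx; exact hx)
      · intro hx
        by_contra hgx
        exact hgx (by rw [g.injective (hg _ hgx)]; exact hx)), by
    refine Perm.ofSubtype_subtypePerm _ fun x hx => ?_
    by_contra hxT
    exact hx (hg x hxT)⟩
  haveI : Group.IsSolvable f.range := solvable_of_surjective f.rangeRestrict_surjective
  exact solvable_of_solvable_injective (f := Subgroup.inclusion (hle.trans hFr))
    (Subgroup.inclusion_injective _)

theorem split (a b c : Perm (Fin n)) (T : Finset (Fin n)) (hT : T.card ≤ 4)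
    (hab : ∀ g ∈ ({a, b} : Set (Perm (Fin n))), ∀ x, x ∉ T → g x = x)
    (hac : Commute a c) (hbc : Commute b c) :
    Group.IsSolvable (Subgroup.closure ({a, b, c} : Set (Perm (Fin n)))) := by
  set K := Subgroup.closure ({a, b} : Set (Perm (Fin n))) with hK
  haveI := solvable_of_fix T hT _ hab
  have hKc : K ≤ Subgroup.centralizer ({c} : Set (Perm (Fin n))) := by
    rw [hK, Subgroup.closure_le]
    intro g hg
    rw [SetLike.mem_coe, Subgroup.mem_centralizer_singleton_iff]
    rcases hg with rfl | rfl
    exacts [hac.eq, hbc.eq]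
  have hcomm : ∀ (k : K) (l : Subgroup.zpowers c), Commute (K.subtype k) ((Subgroup.zpowers c).subtype l) := by
    intro k l
    obtain ⟨j, hj⟩ := l.2
    have h1 : Commute (k : Perm (Fin n)) c := Subgroup.mem_centralizer_singleton_iff.1 (hKc k.2)
    change Commute (k : Perm (Fin n)) (l : Perm (Fin n))
    rw [← hj]
    exact h1.zpow_right j
  let f := MonoidHom.noncommCoprod K.subtype (Subgroup.zpowers c).subtype hcomm
  haveI : Group.IsSolvable f.range := solvable_of_surjective f.rangeRestrict_surjective
  have hle : Subgroup.closure ({a, b, c} : Set (Perm (Fin n))) ≤ f.range := by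
    rw [Subgroup.closure_le]
    rintro g (rfl | rfl | rfl)
    · exact ⟨(⟨g, Subgroup.subset_closure (Or.inl rfl)⟩, 1), by simp [f]⟩
    · exact ⟨(⟨g, Subgroup.subset_closure (Or.inr rfl)⟩, 1), by simp [f]⟩
    · exact ⟨(1, ⟨g, Subgroup.mem_zpowers g⟩), by simp [f]⟩
  exact solvable_of_solvable_injective (f := Subgroup.inclusion hle) (Subgroup.inclusion_injective _)

theorem main (a b c : Perm (Fin n)) (ha : a.IsSwap) (hb : b.IsSwap) (hc : c.IsSwap) :
    Group.IsSolvable (Subgroup.closure ({a, b, c} : Set (Perm (Fin n)))) := by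
  classical
  have h2a := Perm.card_support_eq_two.2 ha
  have h2b := Perm.card_support_eq_two.2 hb
  have h2c := Perm.card_support_eq_two.2 hc
  have key : ∀ p q r : Perm (Fin n), p.support.card = 2 → q.support.card = 2 →
      Disjoint r.support p.support → Disjoint r.support q.support →
      Group.IsSolvable (Subgroup.closure ({p, q, r} : Set (Perm (Fin n)))) := by
    intro p q r hp hq hrp hrq
    refine split p q r (p.support ∪ q.support) ((Finset.card_union_le _ _).trans (by omega)) ?_ ?_ ?_
    · rintro g (rfl | rfl) x hx <;> simp only [Finset.mem_union, not_or] at hx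
      exacts [Perm.notMem_support.1 hx.1, Perm.notMem_support.1 hx.2]
    · exact (Perm.disjoint_iff_disjoint_support.2 hrp.symm).commute
    · exact (Perm.disjoint_iff_disjoint_support.2 hrq.symm).commute
  by_cases hA : Disjoint a.support b.support ∧ Disjoint a.support c.support
  · rw [show ({a, b, c} : Set (Perm (Fin n))) = {b, c, a} by ext; simp; tauto]
    exact key b c a h2b h2c hA.1 hA.2
  by_cases hB : Disjoint b.support a.support ∧ Disjoint b.support c.support
  · rw [show ({a, b, c} : Set (Perm (Fin n))) = {a, c, b} by ext; simp; tauto]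
    exact key a c b h2a h2c hB.1 hB.2
  by_cases hC : Disjoint c.support a.support ∧ Disjoint c.support b.support
  · exact key a b c h2a h2b hC.1 hC.2
  refine solvable_of_fix (a.support ∪ b.support ∪ c.support) ?_ _ ?_
  · have hint : ∀ s t : Finset (Fin n), s.card = 2 → t.card = 2 → ¬ Disjoint s t → (s ∪ t).card ≤ 3 := by
      intro s t hs ht hd
      have h1 := Finset.card_union_add_card_inter s t
      have h2 : 0 < (s ∩ t).card := Finset.card_pos.2 (Finset.not_disjoint_iff_nonempty_inter.1 hd)
      omega
    have u3 : ∀ s t r : Finset (Fin n), s.card = 2 → t.card = 2 → r.card = 2 → ¬ Disjoint s t →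
        (¬ Disjoint r s ∨ ¬ Disjoint r t) → (s ∪ t ∪ r).card ≤ 4 := by
      intro s t r hs ht hr hst hrst
      have h1 := hint s t hs ht hst
      have h2 := Finset.card_union_add_card_inter (s ∪ t) r
      have h3 : 0 < ((s ∪ t) ∩ r).card := by
        refine Finset.card_pos.2 (Finset.not_disjoint_iff_nonempty_inter.1 ?_)
        rw [Finset.disjoint_union_left]
        rintro ⟨e1, e2⟩
        rcases hrst with h | h
        exacts [h e1.symm, h e2.symm]
      omega
    by_cases hab : Disjoint a.support b.support
    · have hac : ¬ Disjoint a.support c.support := fun h => hA ⟨hab, h⟩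
      have hbc : ¬ Disjoint b.support c.support := fun h => hB ⟨hab.symm, h⟩
      rw [show a.support ∪ b.support ∪ c.support = a.support ∪ c.support ∪ b.support from
        Finset.union_right_comm _ _ _]
      exact u3 _ _ _ h2a h2c h2b hac (Or.inr hbc)
    · exact u3 _ _ _ h2a h2b h2c hab (not_and_or.1 hC)
  · rintro g (rfl | rfl | rfl) x hx <;> simp only [Finset.mem_union, not_or] at hx
    exacts [Perm.notMem_support.1 hx.1.1, Perm.notMem_support.1 hx.1.2, Perm.notMem_support.1 hx.2]

/-- In a finite symmetric group, any three transpositions generate a solvable subgroup. -/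
theorem result (n : ℕ) (a b c : Equiv.Perm (Fin n))
    (ha : a.IsSwap) (hb : b.IsSwap) (hc : c.IsSwap) :
    Group.IsSolvable (Subgroup.closure ({a, b, c} : Set (Equiv.Perm (Fin n)))) := by
  exact main a b c ha hb hc

end Cfsg.Agent.S4337
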