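import Cfsg.Statements.S4341
import Cfsg.Agent.Lib.Transfer.SylowNumber
import Cfsg.Agent.Lib.Grp.Cores
import Cfsg.Agent.Lib.Transfer.Fusion
import Mathlib

set_option maxHeartbeats 1000000
set_option maxRecDepth 8000

set_option autoImplicit false
open Cfsg

namespace Cfsg.Agent.S4341

/-- `[H ⊔ A : H] = [A : H ∩ A]` when `H` normalizes `A`. -/
theorem relIndex_sup_of_le_normalizer {G : Type*} [Group G] [Finite G] {H A : Subgroup G}
    (hH : H ≤ Subgroup.normalizer (A : Set G)) : H.relIndex (H ⊔ A) = H.relIndex A := by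
  have h1 := Cfsg.Agent.Grp.card_sup_mul_card_inf hH
  have h2 := Cfsg.Agent.Grp.card_mul_relIndex (le_sup_left : H ≤ H ⊔ A)
  have h3 := Cfsg.Agent.Grp.relIndex_mul_card_inf A H
  rw [inf_comm] at h3
  rw [← h2, ← h3] at h1
  have hpos : 0 < Nat.card H * Nat.card ↥(H ⊓ A) := Nat.mul_pos Nat.card_pos Nat.card_pos
  refine Nat.eq_of_mul_eq_mul_left hpos ?_
  calc Nat.card H * Nat.card ↥(H ⊓ A) * H.relIndex (H ⊔ A)
      = Nat.card H * H.relIndex (H ⊔ A) * Nat.card ↥(H ⊓ A) := by ring
    _ = Nat.card H * (Nat.card ↥(H ⊓ A) * H.relIndex A) := h1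
    _ = _ := by ring


/-- Let K be a normal subgroup of a finite group G, p a prime and P a Sylow p-subgroup of G; let N be the normalizer of P ∩ K inside the subgroup PK. Then the number of Sylow p-subgroups of G equals the product of the numbers of Sylow p-subgroups of G/K, of K, and of N/(P ∩ K). (The normality of P ∩ K in N, which always holds, is assumed as a hypothesis so that the quotient can be formed.) -/
theorem result {G : Type*} [Group G] [Finite G]
    (p : ℕ) [Fact p.Prime] (K : Subgroup G) [K.Normal] (P : Sylow p G) (N : Subgroup G)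
    (hN : N = ((P : Subgroup G) ⊔ K) ⊓ Subgroup.normalizer (((P : Subgroup G) ⊓ K : Subgroup G) : Set G))
    [hn : (((P : Subgroup G) ⊓ K).subgroupOf N).Normal] :
    Nat.card (Sylow p G) =
      Nat.card (Sylow p (G ⧸ K)) * Nat.card (Sylow p K) * Nat.card (Sylow p (N ⧸ ((P : Subgroup G) ⊓ K).subgroupOf N)) := by

  classical
  set M := (P : Subgroup G) ⊔ K with hM
  set D := (P : Subgroup G) ⊓ K with hD
  set NP := Subgroup.normalizer ((P : Subgroup G) : Set G) with hNP
  set B := Subgroup.normalizer (M : Set G) with hB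
  have hNM : N ≤ M := hN.le.trans inf_le_left
  have hPD : (P : Subgroup G) ≤ Subgroup.normalizer (D : Set G) := fun y hy =>
    Subgroup.mem_normalizer_iff.2 fun a => by
      have hk : a ∈ K ↔ y * a * y⁻¹ ∈ K := ⟨fun h => (inferInstance : K.Normal).conj_mem a h y, fun h => by
        simpa [mul_assoc] using (inferInstance : K.Normal).conj_mem _ h y⁻¹⟩
      have hp' : a ∈ (P : Subgroup G) ↔ y * a * y⁻¹ ∈ (P : Subgroup G) := Subgroup.mem_normalizer_iff.1 (Subgroup.le_normalizer hy) a
      exact and_congr hp' hk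
  have hPN : (P : Subgroup G) ≤ N := by rw [hN]; exact le_inf le_sup_left hPD
  -- the quotient
  set q := QuotientGroup.mk' K with hq
  have hqs : Function.Surjective q := QuotientGroup.mk'_surjective K
  have hBi : Nat.card (Sylow p (G ⧸ K)) = B.index := by
    rw [Sylow.card_eq_index_normalizer (P.mapSurjective hqs),
      show Subgroup.normalizer ((P.mapSurjective hqs : Sylow p (G ⧸ K)) : Set (G ⧸ K)) = Subgroup.normalizer (((P : Subgroup G).map q : Subgroup (G ⧸ K)) : Set (G ⧸ K)) from rfl,
      ← Subgroup.index_comap_of_surjective _ hqs,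
      Subgroup.comap_normalizer_eq_of_surjective _ hqs, Subgroup.comap_map_eq,
      QuotientGroup.ker_mk']
  have hNPB : NP ≤ B := fun x hx => by
    refine Subgroup.mem_normalizer_iff.2 fun a => ?_
    have hle : ∀ y ∈ NP, ∀ a ∈ M, y * a * y⁻¹ ∈ M := fun y hy => by
      have h1 : M ≤ M.comap (MulAut.conj y).toMonoidHom := sup_le
        (fun a ha => Subgroup.mem_sup_left ((Subgroup.mem_normalizer_iff.1 hy a).1 ha))
        (fun a ha => Subgroup.mem_sup_right ((inferInstance : K.Normal).conj_mem a ha y))
      exact fun a ha => h1 ha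
    exact ⟨hle x hx a, fun h => by simpa [mul_assoc] using hle x⁻¹ (inv_mem hx) _ h⟩
  -- Frattini inside `B`
  have hfr : B = NP ⊔ M := by
    refine le_antisymm (fun x hx => ?_) (sup_le hNPB Subgroup.le_normalizer)
    obtain ⟨s, hs, hsx⟩ := Cfsg.Agent.Transfer.exists_mem_mul_mem_normalizer P (S := M) le_sup_left x
      (fun a ha => (Subgroup.mem_normalizer_iff.1 hx a).1 (Subgroup.mem_sup_left ha))
    rw [show x = s⁻¹ * (s * x) by group]
    exact mul_mem (Subgroup.mem_sup_right (inv_mem hs)) (Subgroup.mem_sup_left hsx)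
  have hMN : Subgroup.relIndex NP B = Subgroup.relIndex NP M := by
    rw [hfr]; exact relIndex_sup_of_le_normalizer (hNPB)
  have hDK : D ≤ K := inf_le_right
  let DK : Sylow p K := (show IsPGroup p ↥((P : Subgroup G).subgroupOf K) from P.isPGroup'.comap_subtype).toSylow
    (Cfsg.Agent.Grp.sylow_inf_normal_relIndex P K)
  have hDK' : (DK : Subgroup K) = D.subgroupOf K := by
    show (P : Subgroup G).subgroupOf K = _
    rw [hD, Subgroup.inf_subgroupOf_right]
  have hKi : Nat.card (Sylow p K) = (Subgroup.normalizer (D : Set G)).relIndex K := by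
    rw [Sylow.card_eq_index_normalizer DK]
    show (Subgroup.normalizer ((DK : Subgroup K) : Set K)).index = _
    rw [hDK', ← Subgroup.subgroupOf_normalizer_eq hDK]
    rfl
  have hNK : N ⊔ K = M := le_antisymm (sup_le hNM le_sup_right) (sup_le (hPN.trans le_sup_left) le_sup_right)
  have hNrel : N.relIndex M = Nat.card (Sylow p K) := by
    rw [← hNK, relIndex_sup_of_le_normalizer (by rw [Subgroup.normalizer_eq_top]; exact le_top), hKi, hN]
    rw [← Subgroup.inf_relIndex_right, ← Subgroup.inf_relIndex_right (H := Subgroup.normalizer (D : Set G))]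
    congr 1
    apply le_antisymm
    · exact le_inf (inf_le_left.trans inf_le_right) inf_le_right
    · exact le_inf (le_inf (inf_le_right.trans le_sup_right) inf_le_left) inf_le_right
  have hNPN : NP ⊓ M ≤ N := fun x hx => by
    rw [hN]
    refine ⟨hx.2, Subgroup.mem_normalizer_iff.2 fun a => and_congr (Subgroup.mem_normalizer_iff.1 hx.1 a) ?_⟩
    exact ⟨fun h => (inferInstance : K.Normal).conj_mem a h x, fun h => by
      simpa [mul_assoc] using (inferInstance : K.Normal).conj_mem _ h x⁻¹⟩
  have hMrel : NP.relIndex M = NP.relIndex N * N.relIndex M := by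
    rw [← Subgroup.inf_relIndex_right NP M, ← Subgroup.relIndex_mul_relIndex (NP ⊓ M) N M hNPN hNM]
    congr 1
    rw [← Subgroup.inf_relIndex_right, ← Subgroup.inf_relIndex_right NP N, inf_assoc, inf_eq_right.2 hNM]
  have hNi : Nat.card (Sylow p (N ⧸ D.subgroupOf N)) = NP.relIndex N := by
    rw [Cfsg.Agent.Transfer.card_sylow_quotient, Sylow.card_eq_index_normalizer (P.subtype hPN),
      show Subgroup.normalizer ((P.subtype hPN : Sylow p N) : Set N) = Subgroup.normalizer (((P : Subgroup G).subgroupOf N : Subgroup N) : Set N) from rfl,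
      ← Subgroup.subgroupOf_normalizer_eq hPN]
    · rfl
    · intro R
      exact ((show IsPGroup p ↥(D.subgroupOf N) from (P.isPGroup'.to_le inf_le_left).comap_subtype).le_sylow_of_normal R).trans Subgroup.le_normalizer
  rw [Sylow.card_eq_index_normalizer P, hBi, hNi, ← hNrel, mul_assoc, mul_comm (N.relIndex M), ← hMrel, ← hMN,
    mul_comm]
  exact (Subgroup.relIndex_mul_index hNPB).symm

end Cfsg.Agent.S4341
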