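import Cfsg.Statements.S4342
import Cfsg.Agent.Lib.Transfer.SylowNumber
import Cfsg.Agent.Lib.Grp.Basic

set_option maxHeartbeats 1000000
set_option maxRecDepth 8000

set_option autoImplicit false
open Cfsg

namespace Cfsg.Agent.S4342

/-- Let H be a normal subgroup of a finite group G and p a prime not dividing the index of H. Then the number of Sylow p-subgroups of H/Z(H) equals the number of Sylow p-subgroups of G. -/
theorem result {G : Type*} [Group G] [Finite G]
    (p : ℕ) [Fact p.Prime] (H : Subgroup G) [H.Normal] (hp : ¬ p ∣ H.index) :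
    Nat.card (Sylow p (H ⧸ Subgroup.center H)) = Nat.card (Sylow p G) := by
  rw [Agent.Transfer.card_sylow_quotient]
  · refine Agent.Transfer.card_sylow_subgroup H fun P => ?_
    refine Agent.Grp.le_of_coprime_index ?_
    obtain ⟨n, hn⟩ := IsPGroup.iff_card.mp P.isPGroup'
    rw [hn]
    exact ((Fact.out : p.Prime).coprime_iff_not_dvd.mpr hp).pow_left n
  · intro P z hz
    refine Subgroup.mem_normalizer_iff.mpr fun y => ?_
    rw [← Subgroup.mem_center_iff.mp hz y, mul_inv_cancel_right]

end Cfsg.Agent.S4342
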