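import Cfsg.Statements.S4344
import Mathlib

set_option maxHeartbeats 1000000
set_option maxRecDepth 8000

set_option autoImplicit false
open Cfsg

namespace Cfsg.Agent.S4344

/-- Let S be a finite non-abelian simple group, M a maximal subgroup of S and C a cyclic normal subgroup of M. If a Sylow p-subgroup P of S (for a prime p dividing the order of S) is contained in C, then the number of Sylow p-subgroups of S equals the index of M. -/
theorem result {S : Type*} [Group S] [Finite S]
    [IsSimpleGroup S] (hS : ¬ IsMulCommutative S) (p : ℕ) [Fact p.Prime] (hp : p ∣ Nat.card S)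
    (M : Subgroup S) (hM : IsCoatom M) (C : Subgroup S) (hCM : C ≤ M) (hCn : (C.subgroupOf M).Normal)
    (hC : IsCyclic C) (P : Sylow p S) (hP : (P : Subgroup S) ≤ C) :
    Nat.card (Sylow p S) = M.index := by
  haveI : IsCyclic C := hC
  have hPn : M ≤ Subgroup.normalizer ((P : Subgroup S) : Set S) := by
    intro m hm
    have hmC : m ∈ Subgroup.normalizer (C : Set S) :=
      (Subgroup.normal_subgroupOf_iff_le_normalizer hCM).mp hCn hm
    refine Subgroup.mem_normalizer_fintype fun x hx => ?_
    obtain ⟨n, hn⟩ := IsPGroup.iff_card.mp P.isPGroup'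
    have h1 : m * x * m⁻¹ ∈ C := (Subgroup.mem_normalizer_iff.mp hmC x).mp (hP hx)
    set Z := Subgroup.zpowers (m * x * m⁻¹)
    have hZC : Z ≤ C := Subgroup.zpowers_le.mpr h1
    have hp' : IsPGroup p Z := by
      rw [IsPGroup.iff_card]
      obtain ⟨k, -, hk⟩ := (Nat.dvd_prime_pow (Fact.out : p.Prime)).mp (hn ▸ Subgroup.orderOf_dvd_natCard _ hx)
      exact ⟨k, by rw [Nat.card_zpowers, ← hk]; exact (MulAut.conj m).orderOf_eq x⟩
    have hcomm : ∀ a ∈ C, ∀ b ∈ C, a * b = b * a := fun a ha b hb => by
      letI := IsCyclic.commGroup (α := C)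
      exact congrArg Subtype.val (mul_comm (⟨a, ha⟩ : C) ⟨b, hb⟩)
    have hn' : Z ≤ Subgroup.normalizer ((P : Subgroup S) : Set S) := fun z hz =>
      Subgroup.centralizer_le_normalizer _ (Subgroup.mem_centralizer_iff.mpr fun b hb => hcomm b (hP hb) z (hZC hz))
    have hsup : IsPGroup p ↥((P : Subgroup S) ⊔ Z) := P.isPGroup'.to_sup_of_normal_left' hp' hn'
    have := P.3 hsup le_sup_left
    exact this.le (Subgroup.mem_sup_right (Subgroup.mem_zpowers _))
  have hP1 : (P : Subgroup S) ≠ ⊥ := P.ne_bot_of_dvd_card hp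
  have hne : Subgroup.normalizer ((P : Subgroup S) : Set S) ≠ ⊤ := fun e => by
    rcases (Subgroup.normalizer_eq_top_iff.mp e).eq_bot_or_eq_top with h | h
    · exact hP1 h
    · apply hM.1
      rw [← top_le_iff, ← h]
      exact hP.trans hCM
  rw [P.card_eq_index_normalizer]
  rcases hM.le_iff.mp hPn with h | h
  · exact absurd h hne
  · exact congrArg Subgroup.index h

end Cfsg.Agent.S4344
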