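import Cfsg.Statements.S4345
import Mathlib
import Cfsg.Agent.Lib.Transfer.SylowNumber
import Cfsg.Agent.Lib.Grp.Basic
import Cfsg.Agent.Lib.Grp.Solvable

set_option maxHeartbeats 1000000
set_option maxRecDepth 8000

set_option autoImplicit false
open Cfsg

namespace Cfsg.Agent.S4345

universe u
theorem sylow_number_step {G : Type*} [Group G] [Finite G] {p : ℕ} [Fact p.Prime] (V : Subgroup G)
    [V.Normal] : ∃ m, m ≡ 1 [MOD p] ∧ m ∣ Nat.card V ∧
      Nat.card (Sylow p G) = m * Nat.card (Sylow p (G ⧸ V)) := by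
  obtain ⟨P⟩ := (inferInstance : Nonempty (Sylow p G))
  have hf := QuotientGroup.mk'_surjective V
  set f := QuotientGroup.mk' V
  set W : Subgroup G := (P : Subgroup G) ⊔ V with hW
  set M : Subgroup G := Subgroup.normalizer (W : Set G) with hM
  have hWeq : ((P : Subgroup G).map f).comap f = W := by
    rw [Subgroup.comap_map_eq, QuotientGroup.ker_mk']
  have hMeq : (Subgroup.normalizer (((P : Subgroup G).map f : Subgroup (G ⧸ V)) : Set (G ⧸ V))).comap f = M := by
    rw [Subgroup.comap_normalizer_eq_of_surjective _ hf, hWeq]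
  have hn' : Nat.card (Sylow p (G ⧸ V)) = M.index := by
    rw [(P.mapSurjective hf).card_eq_index_normalizer, ← hMeq,
      Subgroup.index_comap_of_surjective _ hf]
    rfl
  have hle : Subgroup.normalizer ((P : Subgroup G) : Set G) ≤ M := by
    rw [← hMeq, ← Subgroup.map_le_iff_le_comap]
    exact Subgroup.le_normalizer_map f
  have hWM : W ≤ M := Subgroup.le_normalizer
  have hPW : (P : Subgroup G) ≤ W := le_sup_left
  have hPM : (P : Subgroup G) ≤ M := hPW.trans hWM
  have hn : Nat.card (Sylow p G) = Nat.card (Sylow p M) * Nat.card (Sylow p (G ⧸ V)) := by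
    rw [hn', P.card_eq_index_normalizer, (P.subtype hPM).card_eq_index_normalizer]
    show (Subgroup.normalizer ((P : Subgroup G) : Set G)).index = _
    rw [← Subgroup.relIndex_mul_index hle]
    congr 1
    show _ = (Subgroup.normalizer (((P : Subgroup G).subgroupOf M : Subgroup M) : Set M)).index
    rw [← Subgroup.subgroupOf_normalizer_eq hPM]
    rfl
  refine ⟨_, card_sylow_modEq_one p M, ?_, hn⟩
  -- all Sylow subgroups of `M` lie in `W`
  set W' := W.subgroupOf M with hW'
  have hW'n : W'.Normal := Subgroup.normal_in_normalizer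
  have hall : ∀ R : Sylow p M, (R : Subgroup M) ≤ W' := by
    intro R
    obtain ⟨g, rfl⟩ := MulAction.exists_smul_eq M (P.subtype hPM) R
    intro z hz
    rw [Sylow.coe_subgroup_smul, Subgroup.mem_pointwise_smul_iff_inv_smul_mem] at hz
    have h1 : (MulAut.conj g)⁻¹ • z ∈ W' := by
      have h0 : (((MulAut.conj g)⁻¹ • z : M) : G) ∈ (P : Subgroup G) := hz
      exact hPW h0
    have h2 := hW'n.conj_mem _ h1 g
    simpa [MulAut.smul_def, mul_assoc] using h2
  rw [← Cfsg.Agent.Transfer.card_sylow_subgroup W' hall]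
  have h3 := ((P.subtype hPM).subtype (hall _)).card_dvd_index
  refine h3.trans ?_
  show (((P : Subgroup G).subgroupOf M).subgroupOf (W.subgroupOf M)).index ∣ _
  rw [show (((P : Subgroup G).subgroupOf M).subgroupOf (W.subgroupOf M)).index =
    ((P : Subgroup G).subgroupOf M).relIndex (W.subgroupOf M) from rfl,
    Subgroup.relIndex_subgroupOf hWM, hW]
  have e1 := Subgroup.relIndex_mul_relIndex ((P : Subgroup G) ⊓ V) (P : Subgroup G)
    ((P : Subgroup G) ⊔ V) inf_le_left le_sup_left
  have e2 := Subgroup.relIndex_mul_relIndex ((P : Subgroup G) ⊓ V) V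
    ((P : Subgroup G) ⊔ V) inf_le_right le_sup_right
  rw [Subgroup.relIndex_sup_right, Subgroup.inf_relIndex_right, mul_comm] at e2
  rw [Subgroup.inf_relIndex_left, ← e2] at e1
  rw [Nat.eq_of_mul_eq_mul_left (Nat.pos_of_ne_zero Subgroup.index_ne_zero_of_finite) e1]
  exact Subgroup.relIndex_dvd_card _ _

theorem key (p ℓ : ℕ) [Fact p.Prime] (hℓ : ℓ.Prime) :
    ∀ (n : ℕ) (G : Type u) [Group G] [Finite G], Nat.card G = n → Group.IsSolvable G →
      ℓ ^ (Nat.card (Sylow p G)).factorization ℓ ≡ 1 [MOD p] := by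
  intro n
  induction n using Nat.strong_induction_on with
  | _ n ih =>
  intro G _ _ hn hG
  rcases subsingleton_or_nontrivial G with hs | hnt
  · have : Subsingleton (Sylow p G) := ⟨fun a b => Sylow.ext (Subsingleton.elim _ _)⟩
    simp [Nat.card_unique, Nat.ModEq.refl]
  obtain ⟨V, hV, hVne, -, hmin⟩ := Cfsg.Agent.Grp.exists_minimal_normal_le (G := G) (N := ⊤) top_ne_bot
  obtain ⟨q, hq, hVp⟩ := Cfsg.Agent.Grp.minimal_normal_solvable_isPGroup
    (Group.isSolvable_of_isSolvable_injective (f := V.subtype) V.subtype_injective) hVne hmin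
  obtain ⟨m, hm1, hmd, hmeq⟩ := sylow_number_step (p := p) V
  have hind := ih (Nat.card (G ⧸ V)) (hn ▸ Cfsg.Agent.Grp.card_quotient_lt hVne) (G ⧸ V) rfl
    inferInstance
  have := Fact.mk hq
  obtain ⟨k, hk⟩ := hVp.exists_card_eq
  obtain ⟨j, -, hj⟩ := (Nat.dvd_prime_pow hq).1 (hk ▸ hmd)
  have hpos : Nat.card (Sylow p (G ⧸ V)) ≠ 0 := Nat.card_pos.ne'
  rw [hmeq, hj, Nat.factorization_mul (pow_ne_zero _ hq.ne_zero) hpos, Finsupp.add_apply, pow_add,
    hq.factorization_pow]
  rcases eq_or_ne q ℓ with rfl | hne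
  · rw [Finsupp.single_eq_same, ← hj]
    simpa using hm1.mul hind
  · rw [Finsupp.single_eq_of_ne hne.symm, pow_zero, one_mul]
    exact hind

/-- Let G be a finite solvable group and p, ℓ primes. Then the largest power of ℓ dividing the number of Sylow p-subgroups of G is congruent to 1 modulo p. -/
theorem result {G : Type*} [Group G] [Finite G]
    (hG : Group.IsSolvable G) (p ℓ : ℕ) [Fact p.Prime] (hℓ : ℓ.Prime) :
    ℓ ^ (Nat.card (Sylow p G)).factorization ℓ ≡ 1 [MOD p] := by

  exact key p ℓ hℓ _ G rfl hG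

end Cfsg.Agent.S4345
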