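import Cfsg.Statements.S4346
import Cfsg.Agent.Lib.Transfer.SylowNumber
import Cfsg.Agent.Lib.Transfer.Alperin

set_option linter.style.haveILetI false
set_option linter.unusedVariables false
-- import your own Cfsg.Agent.* helpers here

set_option autoImplicit false
open Cfsg

namespace Cfsg.Agent.S4346


theorem orderOf_ne_of_seven {α : Type*} [Fintype α] [DecidableEq α] (hα : Fintype.card α = 7)
    (σ : Equiv.Perm α) : orderOf σ ≠ 35 ∧ orderOf σ ≠ 14 := by
  have key : ∀ r : ℕ, r.Prime → r ∣ orderOf σ → ∃ k ∈ σ.cycleType, r ∣ k := by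
    intro r hr hd
    rw [← Equiv.Perm.lcm_cycleType] at hd
    by_contra hc
    push Not at hc
    have : ∀ m : Multiset ℕ, (∀ k ∈ m, ¬ r ∣ k) → ¬ r ∣ m.lcm := by
      intro m
      induction m using Multiset.induction_on with
      | empty => intro _ h; rw [Multiset.lcm_zero] at h; exact hr.not_dvd_one h
      | cons a m ih =>
        intro h hd
        rw [Multiset.lcm_cons] at hd
        rcases hr.dvd_mul.1 (hd.trans (Nat.lcm_dvd_mul a m.lcm)) with h' | h'
        · exact h a (Multiset.mem_cons_self a m) h'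
        · exact ih (fun k hk => h k (Multiset.mem_cons_of_mem hk)) h'
    exact this _ hc hd
  have hsum : σ.cycleType.sum ≤ 7 := by
    rw [Equiv.Perm.sum_cycleType, ← hα]; exact Finset.card_le_univ _
  have main : ∀ r : ℕ, r.Prime → r ≠ 7 → orderOf σ ≠ 7 * r := by
    intro r hr hr7 h
    obtain ⟨k, hk, hk7⟩ := key 7 (by norm_num) (h ▸ dvd_mul_right 7 r)
    obtain ⟨l, hl, hlr⟩ := key r hr (h ▸ dvd_mul_left r 7)
    have h2 := Equiv.Perm.two_le_of_mem_cycleType hk
    have h2l := Equiv.Perm.two_le_of_mem_cycleType hl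
    have hk7' := Nat.le_of_dvd (by omega) hk7
    obtain ⟨t, ht⟩ := Multiset.exists_cons_of_mem hk
    rw [ht, Multiset.sum_cons] at hsum
    have hl7 : l = 7 := by
      rw [ht, Multiset.mem_cons] at hl
      rcases hl with hl | hl
      · have := Multiset.le_sum_of_mem (show k ∈ σ.cycleType from ht ▸ Multiset.mem_cons_self k t)
        omega
      · have := Multiset.le_sum_of_mem hl
        omega
    rw [hl7] at hlr
    exact hr7 ((Nat.prime_dvd_prime_iff_eq hr (by norm_num)).1 hlr)
  exact ⟨main 5 (by norm_num) (by norm_num), main 2 (by norm_num) (by norm_num)⟩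

/-- In `S_7`, a prime element commuting with a Sylow 7-subgroup is a 7-element. -/
theorem centralizer_seven {α : Type*} [Fintype α] [DecidableEq α] (hα : Fintype.card α = 7)
    (I : Subgroup (Equiv.Perm α)) (S : Sylow 7 I) (hS : Nat.card (S : Subgroup I) = 7)
    (t : I) (r : ℕ) (hr : r = 5 ∨ r = 2) (ht : orderOf t = r)
    (hc : ∀ x ∈ (S : Subgroup I), t * x * t⁻¹ = x) : False := by
  haveI : Fact (Nat.Prime 7) := ⟨by norm_num⟩
  obtain ⟨⟨a, haS⟩, ha⟩ := exists_prime_orderOf_dvd_card' (G := (S : Subgroup I)) 7 (by rw [hS])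
  rw [Subgroup.orderOf_mk] at ha
  have hcomm : Commute a t := (mul_inv_eq_iff_eq_mul.1 (hc a haS)).symm
  have h := hcomm.orderOf_mul_eq_mul_orderOf_of_coprime (by
    rw [ha, ht]; rcases hr with rfl | rfl <;> norm_num)
  rw [ha, ht, ← Subgroup.orderOf_coe] at h
  rcases hr with rfl | rfl
  · exact (orderOf_ne_of_seven hα _).1 h
  · exact (orderOf_ne_of_seven hα _).2 h

theorem seven_points {α : Type*} [Fintype α] [DecidableEq α] (hα : Fintype.card α = 7)
    (I : Subgroup (Equiv.Perm α)) (h3 : ¬ 3 ∣ Nat.card I) : ¬ 35 ∣ Nat.card I ∧ Nat.card I ≠ 112 := by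
  haveI : Fact (Nat.Prime 7) := ⟨by norm_num⟩
  have h5040 : ∀ J : Subgroup (Equiv.Perm α), Nat.card J ∣ 5040 := fun J => by
    have h := Subgroup.card_subgroup_dvd_card J
    rw [Nat.card_perm, Nat.card_eq_fintype_card (α := α), hα] at h
    exact h
  have hS7 : ∀ (J : Subgroup (Equiv.Perm α)), 7 ∣ Nat.card J → ∀ S : Sylow 7 J, Nat.card (S : Subgroup J) = 7 := by
    intro J hJ S
    obtain ⟨m, hm⟩ := IsPGroup.iff_card.1 S.isPGroup'
    have h1 := S.dvd_card_of_dvd_card hJ
    have h2 : 7 ^ m ∣ 5040 := hm ▸ (Subgroup.card_subgroup_dvd_card _).trans (h5040 J)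
    have hm1 : m ≤ 1 := by
      by_contra h
      exact absurd ((pow_dvd_pow 7 (show 2 ≤ m by omega)).trans h2) (by norm_num)
    interval_cases m
    · rw [hm] at h1; norm_num at h1
    · rw [hm, pow_one]
  constructor
  · intro h35
    let S : Sylow 7 I := default
    have hS := hS7 I (Nat.dvd_trans (by norm_num) h35) S
    set N := Subgroup.normalizer (S : Set I) with hN
    have h5N : ¬ 5 ∣ Nat.card N := by
      intro h5
      haveI : Fact (Nat.Prime 5) := ⟨by norm_num⟩
      obtain ⟨t, ht⟩ := exists_prime_orderOf_dvd_card' (G := N) 5 h5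
      rw [← Subgroup.orderOf_coe] at ht
      refine centralizer_seven hα I S hS t 5 (Or.inl rfl) ht
        (Cfsg.Agent.Transfer.conj_eq_self_of_counting (q := 5) (k := 1) (S : Subgroup I) t.2
          (by rw [ht, pow_one]) fun d hd hne hmod => ?_)
      rw [hS] at hd hne hmod
      have hd1 : d = 1 := ((Nat.dvd_prime (by norm_num)).1 hd).resolve_right hne
      subst hd1
      exact absurd hmod (by decide)
    have hn7 : Nat.card (Sylow 7 I) = N.index := S.card_eq_index_normalizer
    have hmod := card_sylow_modEq_one 7 I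
    have hd : Nat.card I ∣ 5040 := h5040 I
    have h5n : 5 ∣ N.index := by
      have h5 : 5 ∣ Nat.card N * N.index := by
        rw [N.card_mul_index]; exact Nat.dvd_trans (by norm_num) h35
      exact ((Nat.Prime.dvd_mul (by norm_num)).1 h5).resolve_left h5N
    have hNd : N.index ∣ 720 := by
      have h7 : 7 ∣ Nat.card N := hS ▸ Subgroup.card_dvd_of_le
        (Cfsg.Agent.Transfer.sylow_le_normalizer S)
      obtain ⟨m, hm⟩ := h7
      have h1 : 7 * (m * N.index) ∣ 7 * 720 := by
        rw [← mul_assoc, ← hm, N.card_mul_index]; exact hd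
      exact (dvd_mul_left _ m).trans (Nat.dvd_of_mul_dvd_mul_left (by norm_num) h1)
    have h80 : N.index ∣ 80 := by
      have hc : Nat.Coprime N.index (3 ^ 2) := by
        refine Nat.Coprime.pow_right 2 (Nat.coprime_comm.1 ?_)
        refine (Nat.prime_three.coprime_iff_not_dvd).2 fun h => h3 (h.trans ?_)
        exact N.index_dvd_card
      exact hc.dvd_of_dvd_mul_right (show N.index ∣ 80 * 3 ^ 2 by exact hNd)
    rw [hn7] at hmod
    have hle : N.index ≤ 80 := Nat.le_of_dvd (by norm_num) h80
    obtain ⟨c, hc⟩ := h5n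
    have hmod' : N.index % 7 = 1 := hmod
    have hc16 : c ≤ 16 := by omega
    interval_cases c <;> first | omega | (rw [hc] at h80; norm_num at h80)
  · intro h112
    set σ : I →* ℤˣ := Equiv.Perm.sign.comp I.subtype with hσ
    set J : Subgroup (Equiv.Perm α) := σ.ker.map I.subtype with hJ
    have hJc : Nat.card J = 56 := by
      have h1 := σ.ker.card_mul_index
      rw [Subgroup.index_ker, h112] at h1
      have hr : Nat.card σ.range ∣ 2 := by
        have h2 := Subgroup.card_subgroup_dvd_card σ.range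
        have h3 : Nat.card ℤˣ = 2 := by rw [Nat.card_eq_fintype_card]; rfl
        rwa [h3] at h2
      rw [hJ, Subgroup.card_subtype]
      rcases (Nat.dvd_prime Nat.prime_two).1 hr with h | h
      · exfalso
        rw [h, mul_one] at h1
        have hle : I ≤ alternatingGroup α := fun a ha => by
          have hk : σ.ker = ⊤ := Subgroup.eq_top_of_card_eq _ (h1.trans h112.symm)
          have hm : (⟨a, ha⟩ : I) ∈ σ.ker := by rw [hk]; exact Subgroup.mem_top _
          exact Equiv.Perm.mem_alternatingGroup.2 (MonoidHom.mem_ker.1 hm)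
        have h4 := Subgroup.card_dvd_of_le hle
        haveI : Nontrivial α := Fintype.one_lt_card_iff_nontrivial.1 (by omega)
        rw [h112, nat_card_alternatingGroup, Nat.card_eq_fintype_card, hα] at h4
        exact absurd h4 (by decide)
      · rw [h] at h1; omega
    let S : Sylow 7 J := default
    have hS := hS7 J (by rw [hJc]; norm_num) S
    set N := Subgroup.normalizer (S : Set J) with hN
    have hn7 : Nat.card (Sylow 7 J) = N.index := S.card_eq_index_normalizer
    have hmod := card_sylow_modEq_one 7 J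
    rw [hn7] at hmod
    have h7N : 7 ∣ Nat.card N := hS ▸ Subgroup.card_dvd_of_le (Cfsg.Agent.Transfer.sylow_le_normalizer S)
    have hNle : N.index * Nat.card N = 56 := by rw [N.index_mul_card, hJc]
    -- the normalizer of the Sylow subgroup is the Sylow subgroup
    have hN7 : Nat.card N = 7 := by
      obtain ⟨m, hm⟩ := h7N
      rw [hm] at hNle
      have hm8 : N.index * m = 8 := by nlinarith
      by_contra hne
      have h2 : 2 ∣ Nat.card N := by
        rw [hm]
        have hm1 : m ≠ 1 := fun h => hne (by rw [hm, h, mul_one])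
        obtain ⟨j, -, hj⟩ := (Nat.dvd_prime_pow Nat.prime_two).1 (show m ∣ 2 ^ 3 from ⟨N.index, by rw [mul_comm, hm8]; rfl⟩)
        rcases j with _ | j
        · exact absurd hj hm1
        · exact dvd_mul_of_dvd_right (hj ▸ dvd_pow_self 2 j.succ_ne_zero) 7
      have hi : N.index ≤ 4 := by
        have : 2 ≤ m := by
          rcases m with _ | _ | m <;> simp_all
        nlinarith
      have hi1 : N.index = 1 := by
        have h' : N.index % 7 = 1 := hmod
        omega
      -- the normalizer is everything: look at an element of order 2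
      haveI : Fact (Nat.Prime 2) := ⟨Nat.prime_two⟩
      obtain ⟨t, ht⟩ := exists_prime_orderOf_dvd_card' (G := N) 2 h2
      rw [← Subgroup.orderOf_coe] at ht
      set K := (Subgroup.centralizer (S : Set J)).subgroupOf N with hK
      have hK2 : 2 ∣ Nat.card K := by
        have h1 : K = (S : Subgroup J).normalizerMonoidHom.ker := (Subgroup.normalizerMonoidHom_ker _).symm
        have hidx : K.index ∣ 6 := by
          rw [h1, Subgroup.index_ker]
          haveI : IsCyclic (S : Subgroup J) := isCyclic_of_prime_card (p := 7) hS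
          have h6 : Nat.card (MulAut (S : Subgroup J)) = 6 := by
            rw [IsCyclic.card_mulAut, hS]; decide
          exact h6 ▸ Subgroup.card_subgroup_dvd_card _
        have h2 := K.card_mul_index
        have hN56 : Nat.card N = 56 := by rw [← hm] at hNle; rw [hi1, one_mul] at hNle; exact hNle
        rw [hN56] at h2
        by_contra hodd
        have h8 : 8 ∣ K.index := (Nat.Coprime.pow_left 3 ((Nat.prime_two.coprime_iff_not_dvd).2 hodd)).dvd_of_dvd_mul_left
          (show 2 ^ 3 ∣ Nat.card K * K.index by rw [h2]; norm_num)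
        exact absurd (h8.trans hidx) (by norm_num)
      obtain ⟨u, hu⟩ := exists_prime_orderOf_dvd_card' (G := K) 2 hK2
      rw [← Subgroup.orderOf_coe, ← Subgroup.orderOf_coe] at hu
      exact centralizer_seven hα J S hS _ 2 (Or.inr rfl) hu fun x hx => by
        have he : x * ((u : N) : J) = ((u : N) : J) * x := u.2 x hx
        rw [← he, mul_inv_cancel_right]
    -- Burnside: a normal subgroup of order 8, which fixes every point
    have hSN : (S : Subgroup J) = N := Subgroup.eq_of_le_of_card_ge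
      (Cfsg.Agent.Transfer.sylow_le_normalizer S) (by rw [hN7, hS])
    haveI : IsCyclic (S : Subgroup J) := isCyclic_of_prime_card (p := 7) hS
    have hle : Subgroup.normalizer (S : Set J) ≤ Subgroup.centralizer (S : Set J) := fun g hg x hx => by
      have hgS : g ∈ (S : Subgroup J) := hSN.ge hg
      exact congrArg Subtype.val (IsCyclic.isMulCommutative.is_comm.comm
        (⟨x, hx⟩ : (S : Subgroup J)) ⟨g, hgS⟩)
    obtain ⟨M, hMn, hMc, hMd⟩ : ∃ M : Subgroup J, M.Normal ∧ M.IsComplement' (S : Subgroup J) ∧ ¬ 7 ∣ Nat.card M :=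
      ⟨_, inferInstance, MonoidHom.ker_transferSylow_isComplement' S hle,
        MonoidHom.not_dvd_card_ker_transferSylow S hle⟩
    have hM8 : Nat.card M = 8 := by
      have h1 := Subgroup.IsComplement.card_mul hMc
      change Nat.card M * Nat.card (S : Subgroup J) = _ at h1
      rw [hS, hJc] at h1
      omega
    set M' := M.map J.subtype with hM'
    have hMp : IsPGroup 2 M' := by
      refine IsPGroup.of_card (n := 3) ?_
      rw [hM', Subgroup.card_subtype, hM8]; rfl
    haveI : Fact (Nat.Prime 2) := ⟨Nat.prime_two⟩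
    have hmod2 := hMp.card_modEq_card_fixedPoints (α := α)
    obtain ⟨g, hg⟩ := exists_prime_orderOf_dvd_card' (G := J) 7 (by rw [hJc]; norm_num)
    rw [← Subgroup.orderOf_coe] at hg
    set F := MulAction.fixedPoints M' α with hF
    have hFg : ∀ a ∈ F, (g : Equiv.Perm α) • a ∈ F := by
      rintro a ha ⟨_, ⟨m, hm, rfl⟩⟩
      have hc : g⁻¹ * m * g ∈ M := by simpa using hMn.conj_mem m hm g⁻¹
      have := ha ⟨_, ⟨_, hc, rfl⟩⟩
      change (m : Equiv.Perm α) ((g : Equiv.Perm α) a) = (g : Equiv.Perm α) a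
      have h' : ((g : Equiv.Perm α)⁻¹ * (m : Equiv.Perm α) * (g : Equiv.Perm α)) a = a := this
      calc (m : Equiv.Perm α) ((g : Equiv.Perm α) a) =
          (g : Equiv.Perm α) (((g : Equiv.Perm α)⁻¹ * (m : Equiv.Perm α) * (g : Equiv.Perm α)) a) := by simp
        _ = _ := by rw [h']
    obtain ⟨a, ha⟩ : F.Nonempty := by
      by_contra he
      rw [Set.not_nonempty_iff_eq_empty] at he
      rw [Nat.card_eq_fintype_card (α := α), hα] at hmod2
      have : Nat.card F = 0 := by rw [he]; simp
      rw [this] at hmod2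
      exact absurd hmod2 (by decide)
    have horb : ∀ b, b ∈ F := by
      intro b
      haveI : Nontrivial α := Fintype.one_lt_card_iff_nontrivial.1 (by omega)
      have hcyc : (g : Equiv.Perm α).IsCycle := Equiv.Perm.isCycle_of_prime_order'' (by rw [hα]; norm_num) (by rw [hg, hα])
      have hsupp : (g : Equiv.Perm α).support = Finset.univ :=
        Finset.eq_univ_of_card _ (by rw [← hcyc.orderOf, hg, hα])
      have hmv : ∀ c, (g : Equiv.Perm α) c ≠ c := fun c =>
        Equiv.Perm.mem_support.1 (hsupp ▸ Finset.mem_univ c)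
      obtain ⟨i, hi⟩ := hcyc.exists_pow_eq (hmv a) (hmv b)
      rw [← hi]
      induction i generalizing b with
      | zero => simpa using ha
      | succ i ih =>
        rw [pow_succ', Equiv.Perm.mul_apply]
        exact hFg _ (ih _ rfl)
    have hMbot : M' = ⊥ := by
      rw [eq_bot_iff]
      exact fun m hm => Subgroup.mem_bot.2 (Equiv.ext fun b => horb b ⟨m, hm⟩)
    rw [hM', Subgroup.map_eq_bot_iff_of_injective _ J.subtype_injective] at hMbot
    rw [hMbot, Subgroup.card_bot] at hM8
    omega


/-- No finite group has exactly 22 Sylow 3-subgroups. -/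
theorem result {G : Type*} [Group G] [Finite G] : Nat.card (Sylow 3 G) ≠ 22 := by
  haveI : Fact (Nat.Prime 3) := ⟨by norm_num⟩
  revert G
  intro G _ _
  refine Cfsg.Agent.Transfer.card_sylow_ne_of_reduced ?_ G
  clear! G
  intro G _ _ h22 hfaith hgen
  classical
  haveI : Fintype (Sylow 3 G) := Fintype.ofFinite _
  let Adj : Sylow 3 G → Sylow 3 G → Prop := fun R Q =>
    ((R : Subgroup G) ⊓ (Q : Subgroup G)).relIndex (R : Subgroup G) = 3
  have hcard : ∀ R Q : Sylow 3 G, Nat.card (R : Subgroup G) = Nat.card (Q : Subgroup G) := fun R Q => by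
    rw [R.card_eq_multiplicity, Q.card_eq_multiplicity]
  have hmul : ∀ R Q : Sylow 3 G, Nat.card ((R : Subgroup G) ⊓ (Q : Subgroup G) : Subgroup G) *
      ((R : Subgroup G) ⊓ (Q : Subgroup G)).relIndex (R : Subgroup G) = Nat.card (R : Subgroup G) :=
    fun R Q => Cfsg.Agent.Grp.card_mul_relIndex inf_le_left
  have hsymm : ∀ R Q, Adj R Q → Adj Q R := by
    intro R Q h
    have h1 := hmul R Q
    have h2 := hmul Q R
    rw [inf_comm] at h2
    change ((Q : Subgroup G) ⊓ (R : Subgroup G)).relIndex (Q : Subgroup G) = 3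
    rw [inf_comm]
    rw [show ((R : Subgroup G) ⊓ (Q : Subgroup G)).relIndex (R : Subgroup G) = 3 from h, hcard R Q] at h1
    exact Nat.eq_of_mul_eq_mul_left Nat.card_pos (h2.trans h1.symm)
  have hne : ∀ R Q, Adj R Q → R ≠ Q := by
    rintro R Q h rfl
    have h' : ((R : Subgroup G) ⊓ (R : Subgroup G)).relIndex (R : Subgroup G) = 3 := h
    rw [inf_idem, Subgroup.relIndex_self] at h'
    exact absurd h' (by norm_num)
  have hpow : ∀ R Q : Sylow 3 G, R ≠ Q → ∃ k, 1 ≤ k ∧
      ((R : Subgroup G) ⊓ (Q : Subgroup G)).relIndex (R : Subgroup G) = 3 ^ k := by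
    intro R Q hRQ
    obtain ⟨k, hk⟩ := R.isPGroup'.card_orbit Q
    rw [Cfsg.Agent.Transfer.card_orbit_sylow] at hk
    refine ⟨k, ?_, hk⟩
    rcases k with _ | k
    · rw [pow_zero, Subgroup.relIndex_eq_one] at hk
      exact absurd (Sylow.ext (R.3 Q.isPGroup' (hk.trans inf_le_right))).symm hRQ
    · omega
  have horbne : ∀ R Q : Sylow 3 G, Q ≠ R → R ∉ MulAction.orbit (R : Subgroup G) Q := by
    rintro R Q hQ ⟨x, hx⟩
    exact hQ (smul_left_cancel (x : G) (show (x : G) • Q = (x : G) • R from
      hx.trans (Cfsg.Agent.Transfer.smul_sylow_self R x.2).symm))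
  have hlt : ∀ R Q : Sylow 3 G, Q ≠ R →
      ((R : Subgroup G) ⊓ (Q : Subgroup G)).relIndex (R : Subgroup G) = 3 ∨
      ((R : Subgroup G) ⊓ (Q : Subgroup G)).relIndex (R : Subgroup G) = 9 := by
    intro R Q hQ
    obtain ⟨k, hk1, hk⟩ := hpow R Q (Ne.symm hQ)
    have hb : (MulAction.orbit (R : Subgroup G) Q).ncard ≤ 21 := by
      have h1 := Set.ncard_le_ncard (show MulAction.orbit (R : Subgroup G) Q ⊆ (Set.univ : Set (Sylow 3 G)) \ {R} from fun S hS =>
        ⟨Set.mem_univ S, fun h : S = R => horbne R Q hQ (h ▸ hS)⟩) (Set.toFinite _)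
      rw [Set.ncard_sdiff (Set.subset_univ _) (Set.toFinite _), Set.ncard_univ, h22, Set.ncard_singleton] at h1
      exact h1
    rw [← Nat.card_coe_set_eq, Cfsg.Agent.Transfer.card_orbit_sylow, hk] at hb
    have hk2 : k ≤ 2 := by
      by_contra h
      have := Nat.pow_le_pow_right (show 0 < 3 by norm_num) (show 3 ≤ k by omega)
      omega
    interval_cases k
    · exact Or.inl (by rw [hk, pow_one])
    · exact Or.inr (by rw [hk]; norm_num)
  -- intersections along an orbit
  have hnormD : ∀ R Q : Sylow 3 G, Adj R Q → ∀ x ∈ (R : Subgroup G),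
      x ∈ Subgroup.normalizer (((R : Subgroup G) ⊓ (Q : Subgroup G) : Subgroup G) : Set G) := by
    intro R Q h x hx
    have hn : (((R : Subgroup G) ⊓ (Q : Subgroup G)).subgroupOf (R : Subgroup G)).Normal := by
      refine Subgroup.normal_of_index_eq_minFac_card ?_
      obtain ⟨m, hm⟩ := IsPGroup.iff_card.1 R.isPGroup'
      rw [show (((R : Subgroup G) ⊓ (Q : Subgroup G)).subgroupOf (R : Subgroup G)).index = 3 from h, hm]
      rcases m with _ | m
      · exfalso
        have h7 := (show ((R : Subgroup G) ⊓ (Q : Subgroup G)).relIndex (R : Subgroup G) = 3 from h) ▸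
          Subgroup.relIndex_dvd_card ((R : Subgroup G) ⊓ (Q : Subgroup G)) (R : Subgroup G)
        rw [hm] at h7
        exact absurd (Nat.le_of_dvd (by norm_num) h7) (by norm_num)
      · exact ((Nat.pow_minFac m.succ_ne_zero).trans (Nat.Prime.minFac_eq (by norm_num))).symm
    exact (Subgroup.normal_subgroupOf_iff_le_normalizer inf_le_left).1 hn hx
  -- triangles have a common intersection
  have htri : ∀ R Q z, Adj R Q → Adj R z → Adj Q z →
      (R : Subgroup G) ⊓ (z : Subgroup G) = (R : Subgroup G) ⊓ (Q : Subgroup G) := by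
    intro R Q z hRQ hRz hQz
    have hsame : ∀ A B : Sylow 3 G, Adj A B → ∀ C : Sylow 3 G, Adj A C →
        (A : Subgroup G) ⊓ (B : Subgroup G) ≤ (C : Subgroup G) →
        (A : Subgroup G) ⊓ (C : Subgroup G) = (A : Subgroup G) ⊓ (B : Subgroup G) := by
      intro A B hAB C hAC hle
      refine (Subgroup.eq_of_le_of_card_ge (le_inf inf_le_left hle) ?_).symm
      have h1 := hmul A B
      have h2 := hmul A C
      rw [show ((A : Subgroup G) ⊓ (B : Subgroup G)).relIndex (A : Subgroup G) = 3 from hAB] at h1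
      rw [show ((A : Subgroup G) ⊓ (C : Subgroup G)).relIndex (A : Subgroup G) = 3 from hAC] at h2
      omega
    set D := (R : Subgroup G) ⊓ (Q : Subgroup G) with hD
    by_cases hDz : D ≤ (z : Subgroup G)
    · exact hsame R Q hRQ z hRz hDz
    obtain ⟨d, hd, hdz⟩ := SetLike.not_le_iff_exists.1 hDz
    have hz' : d • z ≠ z := fun h =>
      hdz (Cfsg.Agent.Transfer.mem_sylow_of_smul_eq z R.isPGroup' hd.1 h)
    have key : ∀ A : Sylow 3 G, Adj A z → d ∈ (A : Subgroup G) →
        (A : Subgroup G) ⊓ (z : Subgroup G) = (z : Subgroup G) ⊓ ((d • z : Sylow 3 G) : Subgroup G) := by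
      intro A hAz hdA
      have hle : (A : Subgroup G) ⊓ (z : Subgroup G) ≤ (z : Subgroup G) ⊓ ((d • z : Sylow 3 G) : Subgroup G) := by
        refine le_inf inf_le_right fun w hw => (Cfsg.Agent.Transfer.mem_smul_sylow z).2 ?_
        have h2 := (Subgroup.mem_normalizer_iff.1 (Subgroup.inv_mem _ (hnormD A z hAz d hdA)) w).1 hw
        rw [inv_inv] at h2
        exact h2.2
      refine Subgroup.eq_of_le_of_card_ge hle ?_
      obtain ⟨k, hk1, hk⟩ := hpow z (d • z) (Ne.symm hz')
      have h1 := hmul z (d • z)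
      have h2 := hmul A z
      rw [hk] at h1
      rw [show ((A : Subgroup G) ⊓ (z : Subgroup G)).relIndex (A : Subgroup G) = 3 from hAz, hcard A z] at h2
      have h3 : 3 ≤ 3 ^ k := by
        calc 3 = 3 ^ 1 := (pow_one 3).symm
          _ ≤ 3 ^ k := Nat.pow_le_pow_right (by norm_num) hk1
      nlinarith
    exfalso
    refine hdz (?_ : d ∈ (z : Subgroup G))
    have he := (key R hRz hd.1).trans (key Q hQz hd.2).symm
    have hle : (R : Subgroup G) ⊓ (z : Subgroup G) ≤ D :=
      le_inf inf_le_left (he.le.trans inf_le_left)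
    have heq := hsame R z hRz Q hRQ (hle.trans inf_le_right)
    exact (heq.le hd).2
  -- the point stabilizer is maximal
  let P : Sylow 3 G := default
  set N := Subgroup.normalizer (P : Set G) with hN
  have hPN : (P : Subgroup G) ≤ N := Cfsg.Agent.Transfer.sylow_le_normalizer P
  have hN22 : N.index = 22 := by rw [hN, ← P.card_eq_index_normalizer, h22]
  have hmax : ∀ H : Subgroup G, N ≤ H → H = N ∨ H = ⊤ := by
    intro H hH
    have hPH : (P : Subgroup G) ≤ H := hPN.trans hH
    have h1 : Nat.card (Sylow 3 H) = N.relIndex H := by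
      rw [(P.subtype hPH).card_eq_index_normalizer]
      have he := Subgroup.subgroupOf_normalizer_eq hPH
      change _ = (Subgroup.normalizer ((P : Subgroup G) : Set G)).relIndex H
      rw [Subgroup.relIndex, he]
      rfl
    have h2 : N.relIndex H % 3 = 1 := by rw [← h1]; exact card_sylow_modEq_one 3 H
    have h3 : N.relIndex H ∣ 22 := hN22 ▸ Subgroup.relIndex_dvd_index_of_le hH
    have h4 := Subgroup.relIndex_mul_index hH
    rw [hN22] at h4
    have hle : N.relIndex H ≤ 22 := Nat.le_of_dvd (by norm_num) h3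
    have h5 : N.relIndex H = 1 ∨ N.relIndex H = 22 := by
      interval_cases h : N.relIndex H <;> first | omega | (exfalso; omega)
    rcases h5 with h | h
    · exact Or.inl (le_antisymm (Subgroup.relIndex_eq_one.1 h) hH)
    · refine Or.inr (Subgroup.index_eq_one.1 ?_)
      rw [h] at h4
      omega
  obtain ⟨Q₀, hQ₀⟩ : ∃ Q, Adj P Q := by
    by_contra hc
    push Not at hc
    have hd := Cfsg.Agent.Transfer.dvd_ncard_of_orbits (H := (P : Subgroup G)) (k := 9)
      ((Set.univ : Set (Sylow 3 G)) \ {P})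
      (fun a ha b hb => ⟨Set.mem_univ b, fun h : b = P => horbne P a ha.2 (h ▸ hb)⟩)
      (fun a ha => by
        rw [← Nat.card_coe_set_eq, Cfsg.Agent.Transfer.card_orbit_sylow]
        exact (hlt P a ha.2).resolve_left (hc a))
    rw [Set.ncard_sdiff (Set.subset_univ _), Set.ncard_univ, h22, Set.ncard_singleton] at hd
    omega
  let Γ : Sylow 3 G → Set (Sylow 3 G) := fun R => {Q | Adj R Q}
  let cls : Sylow 3 G → Sylow 3 G → Set (Sylow 3 G) := fun R Q =>
    {z | Adj R z ∧ (R : Subgroup G) ⊓ (z : Subgroup G) = (R : Subgroup G) ⊓ (Q : Subgroup G)}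
  -- invariance of `Γ R` under `R`
  have hrel : ∀ R Q : Sylow 3 G, ∀ x ∈ (R : Subgroup G),
      ((R : Subgroup G) ⊓ ((x • Q : Sylow 3 G) : Subgroup G)).relIndex (R : Subgroup G) =
        ((R : Subgroup G) ⊓ (Q : Subgroup G)).relIndex (R : Subgroup G) := by
    intro R Q x hx
    rw [← Cfsg.Agent.Transfer.card_orbit_sylow, ← Cfsg.Agent.Transfer.card_orbit_sylow]
    have : MulAction.orbit (R : Subgroup G) (x • Q) = MulAction.orbit (R : Subgroup G) Q :=
      MulAction.orbit_eq_iff.2 ⟨⟨x, hx⟩, rfl⟩
    rw [this]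
  have horb3 : ∀ R Q : Sylow 3 G, Adj R Q → MulAction.orbit (R : Subgroup G) Q ⊆ cls R Q := by
    rintro R Q h _ ⟨x, rfl⟩
    refine ⟨(hrel R Q x x.2).trans h, ?_⟩
    have hx := Subgroup.mem_normalizer_iff.1 (hnormD R Q h x x.2)
    have hx' := Subgroup.mem_normalizer_iff.1 (Subgroup.inv_mem _ (hnormD R Q h x x.2))
    ext w
    constructor
    · rintro ⟨hwR, hw⟩
      have hm : (x : G)⁻¹ * w * x ∈ (Q : Subgroup G) := (Cfsg.Agent.Transfer.mem_smul_sylow Q).1 hw
      have h2 := (hx _).1 ⟨(R : Subgroup G).mul_mem ((R : Subgroup G).mul_mem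
        ((R : Subgroup G).inv_mem x.2) hwR) x.2, hm⟩
      simpa [mul_assoc] using h2
    · intro hw
      refine ⟨hw.1, (Cfsg.Agent.Transfer.mem_smul_sylow Q).2 ?_⟩
      have h2 := ((hx' w).1 hw).2
      rwa [inv_inv] at h2
  -- if all neighbours of `P` give one intersection, it is trivial
  have hone : (∀ z, Adj P z → (P : Subgroup G) ⊓ (z : Subgroup G) = (P : Subgroup G) ⊓ (Q₀ : Subgroup G)) →
      Nat.card (P : Subgroup G) = 3 := by
    intro hall
    set D := (P : Subgroup G) ⊓ (Q₀ : Subgroup G) with hD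
    have hND : N ≤ Subgroup.normalizer (D : Set G) := by
      intro g hg
      have hgP : g • P = P := Sylow.smul_eq_iff_mem_normalizer.2 hg
      have hmem : ∀ w, w ∈ (P : Subgroup G) ↔ g * w * g⁻¹ ∈ (P : Subgroup G) :=
        fun w => Subgroup.mem_set_normalizer_iff.1 hg w
      have hmap : D.map (MulAut.conj g).toMonoidHom = (P : Subgroup G) ⊓ ((g • Q₀ : Sylow 3 G) : Subgroup G) := by
        ext w
        constructor
        · rintro ⟨v, hv, rfl⟩
          refine ⟨(hmem v).1 hv.1, (Cfsg.Agent.Transfer.mem_smul_sylow Q₀).2 ?_⟩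
          simp only [MulEquiv.coe_toMonoidHom, MulAut.conj_apply, mul_assoc, inv_mul_cancel_left,
            inv_mul_cancel, mul_one]
          exact hv.2
        · rintro ⟨hw1, hw2⟩
          refine ⟨g⁻¹ * w * g, ⟨(hmem _).2 ?_, (Cfsg.Agent.Transfer.mem_smul_sylow Q₀).1 hw2⟩, ?_⟩
          · simp only [mul_assoc, mul_inv_cancel_left, mul_inv_cancel, mul_one]; exact hw1
          · simp [mul_assoc]
      have hadj : Adj P (g • Q₀) := by
        have h1 := hmul P Q₀
        have h2 := hmul P (g • Q₀)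
        rw [← hmap, Subgroup.card_map_of_injective (MulEquiv.injective _), hmap] at h2
        rw [show ((P : Subgroup G) ⊓ (Q₀ : Subgroup G)).relIndex (P : Subgroup G) = 3 from hQ₀] at h1
        exact Nat.eq_of_mul_eq_mul_left Nat.card_pos (h2.trans h1.symm)
      rw [Subgroup.mem_normalizer_iff]
      intro w
      have he := hmap.trans (hall _ hadj)
      constructor
      · intro hw
        exact he.le ⟨w, hw, rfl⟩
      · intro hw
        obtain ⟨v, hv, hve⟩ := he.ge hw
        have : v = w := (MulAut.conj g).injective hve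
        rwa [← this]
    rcases hmax _ hND with h | h
    · exfalso
      have hQN : (Q₀ : Subgroup G) ≤ N := fun x hx => h.le (by
        rw [hD, inf_comm]; exact hnormD Q₀ P (hsymm P Q₀ hQ₀) x hx)
      have h2 := Q₀.isPGroup'.inf_normalizer_sylow P
      rw [← hN, inf_eq_left.2 hQN] at h2
      exact hne P Q₀ hQ₀ (Sylow.ext (Q₀.3 P.isPGroup' (h2.le.trans inf_le_right)))
    · have hn : D.Normal := Subgroup.normalizer_eq_top_iff.1 h
      have hb : D = ⊥ := by
        rw [eq_bot_iff]
        intro d hd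
        refine Subgroup.mem_bot.2 (hfaith d fun R => ?_)
        obtain ⟨r, rfl⟩ := MulAction.exists_smul_eq G P R
        refine Cfsg.Agent.Transfer.smul_sylow_self _ ((Cfsg.Agent.Transfer.mem_smul_sylow P).2 ?_)
        have := (hn.conj_mem d hd r⁻¹).1
        rwa [inv_inv] at this
      have h1 := hmul P Q₀
      rw [show ((P : Subgroup G) ⊓ (Q₀ : Subgroup G)).relIndex (P : Subgroup G) = 3 from hQ₀,
        ← hD, hb, Subgroup.card_bot] at h1
      omega
  -- conjugation preserves adjacency
  have hint : ∀ (g : G) (R Q : Sylow 3 G),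
      ((g • R : Sylow 3 G) : Subgroup G) ⊓ ((g • Q : Sylow 3 G) : Subgroup G) =
        ((R : Subgroup G) ⊓ (Q : Subgroup G)).map (MulAut.conj g).toMonoidHom := by
    intro g R Q
    rw [Subgroup.map_inf _ _ _ (MulEquiv.injective _), Sylow.coe_subgroup_smul, Sylow.coe_subgroup_smul]
    rfl
  have hadjsmul : ∀ (g : G) (R Q : Sylow 3 G), Adj (g • R) (g • Q) ↔ Adj R Q := by
    intro g R Q
    have he : (((g • R : Sylow 3 G) : Subgroup G) ⊓ ((g • Q : Sylow 3 G) : Subgroup G)).relIndex
        ((g • R : Sylow 3 G) : Subgroup G) = ((R : Subgroup G) ⊓ (Q : Subgroup G)).relIndex (R : Subgroup G) := by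
      rw [hint, show ((g • R : Sylow 3 G) : Subgroup G) = (R : Subgroup G).map (MulAut.conj g).toMonoidHom by
        rw [Sylow.coe_subgroup_smul]; rfl, Subgroup.relIndex_map_map_of_injective _ _ (MulEquiv.injective _)]
    change (_ = 3) ↔ (_ = 3)
    rw [he]
  have hclsΓ : ∀ R Q, cls R Q ⊆ Γ R := fun R Q z hz => hz.1
  -- Step 1: a Sylow subgroup has order 3
  have hP3 : Nat.card (P : Subgroup G) = 3 := by
    by_contra hP3
    have hnall : ¬ ∀ z, Adj P z → (P : Subgroup G) ⊓ (z : Subgroup G) = (P : Subgroup G) ⊓ (Q₀ : Subgroup G) :=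
      fun h => hP3 (hone h)
    let S : Set (Sylow 3 G) := {z | z ≠ P ∧ ¬ Adj P z}
    have hΓ3 : ∀ Q, Adj P Q → 3 ∣ (cls P Q).ncard := by
      intro Q hQ
      refine Cfsg.Agent.Transfer.dvd_ncard_of_orbits (H := (P : Subgroup G)) _ (fun a ha b hb => ?_) fun a ha => ?_
      · obtain ⟨h1, h2⟩ := horb3 P a ha.1 hb
        exact ⟨h1, h2.trans ha.2⟩
      · rw [← Nat.card_coe_set_eq, Cfsg.Agent.Transfer.card_orbit_sylow]; exact ha.1
    have hΓd : 3 ∣ (Γ P).ncard :=
      Cfsg.Agent.Transfer.dvd_ncard_of_orbits (H := (P : Subgroup G)) _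
        (fun a ha b hb => (horb3 P a ha hb).1)
        (fun a ha => by rw [← Nat.card_coe_set_eq, Cfsg.Agent.Transfer.card_orbit_sylow]; exact ha)
    have hSd : 9 ∣ S.ncard := by
      refine Cfsg.Agent.Transfer.dvd_ncard_of_orbits (H := (P : Subgroup G)) _ (fun a ha b hb => ?_) fun a ha => ?_
      · refine ⟨fun h => horbne P a ha.1 (h ▸ hb), ?_⟩
        obtain ⟨x, rfl⟩ := hb
        exact fun h => ha.2 ((hrel P a x x.2).symm.trans h)
      · rw [← Nat.card_coe_set_eq, Cfsg.Agent.Transfer.card_orbit_sylow]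
        exact (hlt P a ha.1).resolve_left ha.2
    have hsum : (Γ P).ncard + S.ncard = 21 := by
      have hu : Γ P ∪ S = (Set.univ : Set (Sylow 3 G)) \ {P} := by
        ext z
        constructor
        · rintro (h | h)
          · exact ⟨Set.mem_univ z, fun he : z = P => hne P z h he.symm⟩
          · exact ⟨Set.mem_univ z, h.1⟩
        · intro h
          by_cases ha : Adj P z
          · exact Or.inl ha
          · exact Or.inr ⟨h.2, ha⟩
      have hd : Disjoint (Γ P) S := Set.disjoint_left.2 fun z h1 h2 => h2.2 h1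
      rw [← Set.ncard_union_eq hd, hu, Set.ncard_sdiff (Set.subset_univ _), Set.ncard_univ, h22,
        Set.ncard_singleton]
    have hclslt : ∀ Q, Adj P Q → (cls P Q).ncard < (Γ P).ncard := by
      intro Q hQ
      refine Set.ncard_lt_ncard ⟨hclsΓ P Q, fun h => hnall fun z hz => ?_⟩ (Set.toFinite _)
      exact ((h hz).2).trans ((h hQ₀).2).symm
    have hclspos : ∀ Q, Adj P Q → 0 < (cls P Q).ncard := fun Q hQ =>
      (Set.ncard_pos (Set.toFinite _)).2 ⟨Q, hQ, rfl⟩
    have hall : ∀ R Q, R ≠ Q → (∀ z, z ≠ P → Adj P z) → Adj R Q := by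
      intro R Q hRQ h
      obtain ⟨g, rfl⟩ := MulAction.exists_smul_eq G P R
      have h1 := (hadjsmul g P (g⁻¹ • Q)).2 (h _ fun he => hRQ (by rw [← he, smul_inv_smul]))
      rwa [smul_inv_smul] at h1
    have hΓ12 : (Γ P).ncard = 12 ∧ S.ncard = 9 := by
      have h1 := hclslt Q₀ hQ₀
      have h2 := hclspos Q₀ hQ₀
      have h3 := hΓ3 Q₀ hQ₀
      obtain ⟨a, ha⟩ := hΓd
      obtain ⟨b, hb⟩ := hSd
      obtain ⟨c, hc⟩ := h3
      have hb0 : b ≠ 0 := by
        rintro rfl
        rw [Nat.mul_zero, Set.ncard_eq_zero (Set.toFinite _)] at hb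
        have hfull : ∀ z, z ≠ P → Adj P z := fun z hz => by
          by_contra h
          exact (Set.eq_empty_iff_forall_notMem.1 hb z) ⟨hz, h⟩
        refine hnall fun z hz => ?_
        rcases eq_or_ne z Q₀ with rfl | hzQ
        · rfl
        exact htri P Q₀ z hQ₀ hz (hall Q₀ z hzQ.symm hfull)
      omega
    -- every class has three members
    have hcls3 : ∀ Q, Adj P Q → (cls P Q).ncard = 3 := by
      intro Q hQ
      have h1 := hclslt Q hQ
      have h2 := hclspos Q hQ
      obtain ⟨c, hc⟩ := hΓ3 Q hQ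
      by_contra hne3
      haveI : Fintype (Subgroup G) := Fintype.ofFinite _
      set k := (cls P Q).ncard with hk
      have hk69 : k = 6 ∨ k = 9 := by omega
      let Z : Finset (Subgroup G) := Finset.univ.filter fun D =>
        ∃ A B : Sylow 3 G, Adj A B ∧ (cls A B).ncard = k ∧ D = (A : Subgroup G) ⊓ (B : Subgroup G)
      have hcont : ∀ A B, Adj A B → {z : Sylow 3 G | (A : Subgroup G) ⊓ (B : Subgroup G) ≤ (z : Subgroup G)}
          = insert A (cls A B) := by
        intro A B hAB
        ext z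
        constructor
        · intro hz
          rcases eq_or_ne z A with rfl | hzA
          · exact Set.mem_insert _ _
          refine Set.mem_insert_of_mem _ ?_
          have hle : (A : Subgroup G) ⊓ (B : Subgroup G) ≤ (A : Subgroup G) ⊓ (z : Subgroup G) := le_inf inf_le_left hz
          have hAz : Adj A z := by
            rcases hlt A z hzA with h | h
            · exact h
            · exfalso
              have e1 := hmul A B
              have e2 := hmul A z
              rw [show ((A : Subgroup G) ⊓ (B : Subgroup G)).relIndex (A : Subgroup G) = 3 from hAB] at e1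
              rw [h] at e2
              have := Nat.le_of_dvd Nat.card_pos (Subgroup.card_dvd_of_le hle)
              have : 0 < Nat.card (A : Subgroup G) := Nat.card_pos
              omega
          refine ⟨hAz, (Subgroup.eq_of_le_of_card_ge hle ?_).symm⟩
          have e1 := hmul A B
          have e2 := hmul A z
          rw [show ((A : Subgroup G) ⊓ (B : Subgroup G)).relIndex (A : Subgroup G) = 3 from hAB] at e1
          rw [show ((A : Subgroup G) ⊓ (z : Subgroup G)).relIndex (A : Subgroup G) = 3 from hAz] at e2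
          omega
        · rintro (rfl | hz)
          · exact (inf_le_left : (z : Subgroup G) ⊓ (B : Subgroup G) ≤ (z : Subgroup G))
          · exact hz.2.ge.trans inf_le_right
      have hnm : ∀ A B, A ∉ cls A B := fun A B h => hne A A h.1 rfl
      have hk1 : ∀ D ∈ Z, (Finset.univ.filter fun z : Sylow 3 G => D ≤ (z : Subgroup G)).card = k + 1 := by
        intro D hD
        obtain ⟨A, B, hAB, hk', rfl⟩ := (Finset.mem_filter.1 hD).2
        rw [← Set.ncard_coe_finset, Finset.coe_filter]
        simp only [Finset.mem_univ, true_and]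
        rw [hcont A B hAB, Set.ncard_insert_of_notMem (hnm A B) (Set.toFinite _), hk']
      have hZmem : ∀ D ∈ Z, ∀ R : Sylow 3 G, D ≤ (R : Subgroup G) →
          ∃ B, Adj R B ∧ (cls R B).ncard = k ∧ D = (R : Subgroup G) ⊓ (B : Subgroup G) := by
        intro D hD R hR
        obtain ⟨A, B, hAB, hk', rfl⟩ := (Finset.mem_filter.1 hD).2
        rcases eq_or_ne R A with rfl | hRA
        · exact ⟨B, hAB, hk', rfl⟩
        have hRm : R ∈ cls A B := by
          have : R ∈ insert A (cls A B) := hcont A B hAB ▸ hR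
          exact (Set.mem_insert_iff.1 this).resolve_left hRA
        have he : (R : Subgroup G) ⊓ (A : Subgroup G) = (A : Subgroup G) ⊓ (B : Subgroup G) := by
          rw [inf_comm]; exact hRm.2
        refine ⟨A, hsymm A R hRm.1, ?_, he.symm⟩
        have h1 := hcont R A (hsymm A R hRm.1)
        rw [he, hcont A B hAB] at h1
        have h2 := congrArg Set.ncard h1
        rw [Set.ncard_insert_of_notMem (hnm A B) (Set.toFinite _),
          Set.ncard_insert_of_notMem (hnm R A) (Set.toFinite _)] at h2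
        omega
      let cnt : Sylow 3 G → ℕ := fun R => (Z.filter fun D => D ≤ (R : Subgroup G)).card
      have hcnt : ∀ R, cnt R = cnt P := by
        intro R
        obtain ⟨g, rfl⟩ := MulAction.exists_smul_eq G P R
        refine (Finset.card_bij (fun D _ => D.map (MulAut.conj g).toMonoidHom) ?_ ?_ ?_).symm
        · intro D hD
          obtain ⟨hDZ, hDP⟩ := Finset.mem_filter.1 hD
          obtain ⟨B, hB, hk', rfl⟩ := hZmem D hDZ P hDP
          refine Finset.mem_filter.2 ⟨Finset.mem_filter.2 ⟨Finset.mem_univ _, g • P, g • B, (hadjsmul g P B).2 hB, ?_, (hint g P B).symm⟩, ?_⟩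
          · rw [← hk']
            refine (Set.ncard_congr (fun z _ => g • z) ?_ (fun a b _ _ h => smul_left_cancel g h) ?_).symm
            · intro z hz
              exact ⟨(hadjsmul g P z).2 hz.1, by rw [hint, hint, hz.2]⟩
            · intro w hw
              refine ⟨g⁻¹ • w, ⟨(hadjsmul g P _).1 (by rw [smul_inv_smul]; exact hw.1), ?_⟩, smul_inv_smul g w⟩
              apply Subgroup.map_injective (f := (MulAut.conj g).toMonoidHom) (MulAut.conj g).injective
              have := hw.2
              rw [← smul_inv_smul g w, hint, hint] at this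
              exact this
          · rw [← hint]; exact inf_le_left
        · exact fun a _ b _ h => Subgroup.map_injective (MulEquiv.injective (MulAut.conj g)) h
        · intro D hD
          obtain ⟨hDZ, hDR⟩ := Finset.mem_filter.1 hD
          obtain ⟨B, hB, hk', rfl⟩ := hZmem D hDZ (g • P) hDR
          have hB' : Adj P (g⁻¹ • B) := (hadjsmul g P _).1 (by rw [smul_inv_smul]; exact hB)
          refine ⟨(P : Subgroup G) ⊓ ((g⁻¹ • B : Sylow 3 G) : Subgroup G),
            Finset.mem_filter.2 ⟨Finset.mem_filter.2 ⟨Finset.mem_univ _, P, g⁻¹ • B, hB', ?_, rfl⟩, inf_le_left⟩, ?_⟩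
          · rw [← hk']
            refine Set.ncard_congr (fun z _ => g • z) ?_ (fun a b _ _ h => smul_left_cancel g h) ?_
            · intro z hz
              refine ⟨(hadjsmul g P z).2 hz.1, ?_⟩
              rw [hint, hz.2, ← hint, smul_inv_smul]
            · intro w hw
              refine ⟨g⁻¹ • w, ⟨(hadjsmul g P _).1 (by rw [smul_inv_smul]; exact hw.1), ?_⟩, smul_inv_smul g w⟩
              apply Subgroup.map_injective (f := (MulAut.conj g).toMonoidHom) (MulAut.conj g).injective
              rw [← hint, ← hint, smul_inv_smul, smul_inv_smul]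
              exact hw.2
          · rw [← hint, smul_inv_smul]
      have hdc := Finset.sum_card_bipartiteAbove_eq_sum_card_bipartiteBelow (s := Z)
        (t := (Finset.univ : Finset (Sylow 3 G))) (fun D R => D ≤ ((R : Sylow 3 G) : Subgroup G))
      simp only [Finset.bipartiteAbove, Finset.bipartiteBelow] at hdc
      rw [Finset.sum_congr rfl hk1, Finset.sum_congr rfl (fun R _ => hcnt R), Finset.sum_const,
        Finset.sum_const, Finset.card_univ, ← Nat.card_eq_fintype_card, h22] at hdc
      simp only [smul_eq_mul] at hdc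
      have hpos : 0 < cnt P := Finset.card_pos.2 ⟨_, Finset.mem_filter.2
        ⟨Finset.mem_filter.2 ⟨Finset.mem_univ _, P, Q, hQ, hk.symm, rfl⟩, inf_le_left⟩⟩
      have hbound : cnt P * k ≤ 12 := by
        rw [← hΓ12.1, Set.ncard_eq_toFinset_card']
        rw [Finset.card_eq_sum_card_fiberwise (f := fun z : Sylow 3 G => (P : Subgroup G) ⊓ (z : Subgroup G))
          (t := Finset.univ) (fun _ _ => Finset.mem_univ _)]
        refine le_trans ?_ (Finset.sum_le_sum_of_subset (Finset.subset_univ (Z.filter fun D => D ≤ (P : Subgroup G))))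
        rw [show cnt P * k = ∑ D ∈ (Z.filter fun D => D ≤ (P : Subgroup G)), k by
          rw [Finset.sum_const, smul_eq_mul]]
        refine Finset.sum_le_sum fun D hD => ?_
        obtain ⟨hDZ, hDP⟩ := Finset.mem_filter.1 hD
        obtain ⟨B, hB, hk', rfl⟩ := hZmem D hDZ P hDP
        rw [← hk', ← Set.ncard_coe_finset]
        refine Set.ncard_le_ncard (fun z hz => ?_) (Set.toFinite _)
        exact Finset.mem_coe.2 (Finset.mem_filter.2 ⟨Set.mem_toFinset.2 hz.1, hz.2⟩)
      rcases hk69 with h | h <;> rw [h] at hbound hdc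
      · have : cnt P ≤ 2 := by omega
        interval_cases h' : cnt P <;> omega
      · have : cnt P ≤ 1 := by omega
        interval_cases h' : cnt P <;> omega
    -- points at distance two have the same neighbours
    obtain ⟨z₀, hz₀⟩ : S.Nonempty := (Set.ncard_pos (Set.toFinite _)).1 (by omega)
    have hΓcard : ∀ R, (Γ R).ncard = 12 := by
      intro R
      obtain ⟨g, rfl⟩ := MulAction.exists_smul_eq G P R
      rw [← hΓ12.1]
      refine (Set.ncard_congr (fun z _ => g • z) (fun z hz => (hadjsmul g P z).2 hz)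
        (fun a b _ _ h => smul_left_cancel g h) fun w hw => ⟨g⁻¹ • w, ?_, smul_inv_smul g w⟩).symm
      exact (hadjsmul g P _).1 (by rw [smul_inv_smul]; exact hw)
    have hsub : Γ P ⊆ Γ z₀ := by
      intro Q hQ
      have h1 : Γ Q ⊆ insert P (cls P Q \ {Q}) ∪ S := by
        intro w hw
        rcases eq_or_ne w P with rfl | hwP
        · exact Or.inl (Set.mem_insert _ _)
        by_cases ha : Adj P w
        · exact Or.inl (Set.mem_insert_of_mem _ ⟨⟨ha, htri P Q w hQ ha hw⟩, fun he : w = Q => hne Q w hw he.symm⟩)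
        · exact Or.inr ⟨hwP, ha⟩
      have hQm : Q ∈ cls P Q := ⟨hQ, rfl⟩
      have h3 : (insert P (cls P Q \ {Q})).ncard ≤ 3 := by
        refine (Set.ncard_insert_le _ _).trans ?_
        rw [Set.ncard_sdiff_singleton_of_mem hQm, hcls3 Q hQ]
      have hS9 := hΓ12.2
      have h4 : S ⊆ Γ Q := by
        intro w hw
        by_contra hwn
        have h5 : Γ Q ⊆ insert P (cls P Q \ {Q}) ∪ (S \ {w}) := fun v hv => (h1 hv).imp id
          fun hvS => ⟨hvS, fun he : v = w => hwn (he ▸ hv)⟩
        have h6 := (Set.ncard_le_ncard h5 (Set.toFinite _)).trans (Set.ncard_union_le _ _)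
        rw [hΓcard, Set.ncard_sdiff_singleton_of_mem hw] at h6
        omega
      exact hsymm _ _ (h4 hz₀)
    have heq : Γ z₀ = Γ P := (Set.eq_of_subset_of_ncard_le hsub (by rw [hΓcard, hΓcard]) (Set.toFinite _)).symm
    have hΓsmul : ∀ (g : G) R w, w ∈ Γ (g • R) ↔ g⁻¹ • w ∈ Γ R := by
      intro g R w
      change Adj (g • R) w ↔ Adj R (g⁻¹ • w)
      rw [← hadjsmul g R (g⁻¹ • w), smul_inv_smul]
    let H : Subgroup G :=
      { carrier := {g | Γ (g • P) = Γ P}
        one_mem' := by simp
        mul_mem' := fun {a b} ha hb => by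
          ext w
          have ha' : Γ (a • P) = Γ P := ha
          have hb' : Γ (b • P) = Γ P := hb
          rw [mul_smul, hΓsmul, hb', ← hΓsmul, ha']
        inv_mem' := fun {a} ha => by
          ext w
          have ha' : Γ (a • P) = Γ P := ha
          have h1 : a⁻¹⁻¹ • w ∈ Γ (a • P) ↔ a⁻¹⁻¹ • w ∈ Γ P := by rw [ha']
          rw [hΓsmul a⁻¹ P w, ← h1, hΓsmul, inv_inv, inv_smul_smul] }
    have hNH : N ≤ H := fun g hg => by
      show Γ (g • P) = Γ P
      rw [Sylow.smul_eq_iff_mem_normalizer.2 hg]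
    obtain ⟨g, hg⟩ := MulAction.exists_smul_eq G P z₀
    have hgH : g ∈ H := by show Γ (g • P) = Γ P; rw [hg]; exact heq
    rcases hmax H hNH with h | h
    · rw [h] at hgH
      exact hz₀.1 (hg.symm.trans (Sylow.smul_eq_iff_mem_normalizer.2 hgH))
    · obtain ⟨k, hk⟩ := MulAction.exists_smul_eq G P Q₀
      have hkH : Γ (k • P) = Γ P := (h ▸ Subgroup.mem_top k : k ∈ H)
      rw [hk] at hkH
      exact hne Q₀ Q₀ (hkH ▸ hQ₀ : Q₀ ∈ Γ Q₀) rfl
  -- Step 2: every Sylow subgroup meets another trivially
  have hfree : ∀ Q : Sylow 3 G, Q ≠ P → ∀ z ∈ (P : Subgroup G), z • Q = Q → z = 1 := by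
    intro Q hQ z hz h
    have hb : (P : Subgroup G) ⊓ (Q : Subgroup G) = ⊥ := by
      rw [← Subgroup.card_eq_one]
      have h1 := hmul P Q
      obtain ⟨k, hk1, hk⟩ := hpow P Q (Ne.symm hQ)
      rw [hk, hP3] at h1
      have h3 : 3 ≤ 3 ^ k := by
        calc 3 = 3 ^ 1 := (pow_one 3).symm
          _ ≤ 3 ^ k := Nat.pow_le_pow_right (by norm_num) hk1
      have hpos : 0 < Nat.card ((P : Subgroup G) ⊓ (Q : Subgroup G) : Subgroup G) := Nat.card_pos
      nlinarith
    exact hb.le ⟨hz, Cfsg.Agent.Transfer.mem_sylow_of_smul_eq Q P.isPGroup' hz h⟩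
  have horbP : ∀ Q : Sylow 3 G, Q ≠ P → (MulAction.orbit (P : Subgroup G) Q).ncard = 3 := by
    intro Q hQ
    rw [← MulAction.index_stabilizer]
    have hb : MulAction.stabilizer (P : Subgroup G) Q = ⊥ := by
      rw [eq_bot_iff]
      exact fun z hz => Subgroup.mem_bot.2 (Subtype.ext (hfree Q hQ z z.2 hz))
    rw [hb, Subgroup.index_bot, hP3]
  have hGN : Nat.card G = 22 * Nat.card N := by rw [← hN22, N.index_mul_card]
  have h9 : ¬ 3 ^ 2 ∣ Nat.card G := fun h => by
    have := P.pow_dvd_card_of_pow_dvd_card h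
    rw [hP3] at this
    exact absurd (Nat.le_of_dvd (by norm_num) this) (by norm_num)
  have heven : ∀ f : G →* ℤˣ, ∀ g, f g = 1 := by
    intro f g
    have hker := hgen f.ker ?_
    · exact MonoidHom.mem_ker.1 (by rw [hker]; exact Subgroup.mem_top g)
    intro Q x hx
    obtain ⟨k, hk⟩ := IsPGroup.iff_orderOf.1 Q.isPGroup' ⟨x, hx⟩
    rw [Subgroup.orderOf_mk] at hk
    rw [MonoidHom.mem_ker]
    have hd : orderOf (f x) ∣ 3 ^ k := hk ▸ orderOf_map_dvd _ x
    have h2 : orderOf (f x) ∣ 2 := orderOf_dvd_of_pow_eq_one (Int.units_pow_two _)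
    have hco : Nat.gcd (3 ^ k) 2 = 1 :=
      ((Nat.coprime_primes (by norm_num) Nat.prime_two).2 (by norm_num)).pow_left k
    exact orderOf_eq_one_iff.1 (Nat.dvd_one.1 (hco ▸ Nat.dvd_gcd hd h2))
  -- Step 3: the centralizer of `P` permutes the seven orbits
  set C := Subgroup.centralizer (P : Set G) with hC
  have hPC : ∀ (c : C) (a : (P : Subgroup G)), (c : G) * a = a * c := fun c a => (c.2 a a.2).symm
  let O := {A : Set (Sylow 3 G) // ∃ Q, Q ≠ P ∧ A = MulAction.orbit (P : Subgroup G) Q}
  have hcP : ∀ c : C, (c : G) • P = P := fun c => Sylow.smul_eq_iff_mem_normalizer.2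
    (Subgroup.centralizer_le_normalizer _ c.2)
  have horbC : ∀ (c : C) (Q : Sylow 3 G),
      (fun w => (c : G) • w) '' MulAction.orbit (P : Subgroup G) Q = MulAction.orbit (P : Subgroup G) ((c : G) • Q) := by
    intro c Q
    ext w
    constructor
    · rintro ⟨_, ⟨a, rfl⟩, rfl⟩
      refine ⟨a, ?_⟩
      show (a : G) • (c : G) • Q = (c : G) • (a : G) • Q
      rw [← mul_smul, ← mul_smul, hPC c a]
    · rintro ⟨a, rfl⟩
      refine ⟨(a : G) • Q, ⟨a, rfl⟩, ?_⟩
      show (c : G) • (a : G) • Q = (a : G) • (c : G) • Q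
      rw [← mul_smul, ← mul_smul, hPC c a]
  have hCP : ∀ (c : C) (Q : Sylow 3 G), Q ≠ P → (c : G) • Q ≠ P := fun c Q hQ h =>
    hQ (smul_left_cancel (c : G) (h.trans (hcP c).symm))
  letI : MulAction C O :=
    { smul := fun c A => ⟨(fun w => (c : G) • w) '' A.1, by
        obtain ⟨Q, hQ, hA⟩ := A.2
        exact ⟨(c : G) • Q, hCP c Q hQ, by rw [hA, horbC]⟩⟩
      one_smul := fun A => Subtype.ext (by
        change (fun w => ((1 : C) : G) • w) '' A.1 = A.1
        simp)
      mul_smul := fun c d A => Subtype.ext (by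
        change (fun w => ((c * d : C) : G) • w) '' A.1 = (fun w => (c : G) • w) '' ((fun w => (d : G) • w) '' A.1)
        rw [Set.image_image]
        simp [mul_smul]) }
  haveI : Fintype O := Fintype.ofFinite _
  have hO7 : Fintype.card O = 7 := by
    have hne' : ∀ A : O, ∀ Q ∈ A.1, Q ≠ P := fun A Q hQ h => by
      obtain ⟨Q', hQ', hA⟩ := A.2
      have hP : P ∈ A.1 := h ▸ hQ
      rw [hA] at hP
      exact horbne P Q' hQ' hP
    let f : (Σ A : O, A.1) → {Q : Sylow 3 G // Q ≠ P} := fun z => ⟨z.2.1, hne' z.1 _ z.2.2⟩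
    have hf : Function.Bijective f := by
      constructor
      · rintro ⟨A, a, ha⟩ ⟨B, b, hb⟩ h
        have hab : a = b := congrArg Subtype.val h
        subst hab
        have hAB : A = B := by
          obtain ⟨Q, hQ, hA⟩ := A.2
          obtain ⟨Q', hQ', hB⟩ := B.2
          refine Subtype.ext ?_
          rw [hA, hB]
          rw [hA] at ha
          rw [hB] at hb
          rw [← MulAction.orbit_eq_iff.2 ha, MulAction.orbit_eq_iff.2 hb]
        subst hAB
        rfl
      · intro Q
        exact ⟨⟨⟨MulAction.orbit (P : Subgroup G) Q.1, Q.1, Q.2, rfl⟩, Q.1, MulAction.mem_orbit_self _⟩, rfl⟩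
    have h1 := Nat.card_eq_of_bijective f hf
    have h21 : Nat.card {Q : Sylow 3 G // Q ≠ P} = 21 := by
      rw [Nat.card_eq_fintype_card, Fintype.card_subtype_compl, Fintype.card_subtype_eq,
        ← Nat.card_eq_fintype_card, h22]
    rw [h21, Nat.card_sigma] at h1
    rw [Finset.sum_congr rfl (fun A _ => show Nat.card A.1 = 3 by
      obtain ⟨Q, hQ, hA⟩ := A.2
      rw [Nat.card_coe_set_eq, hA, horbP Q hQ]), Finset.sum_const, Finset.card_univ, smul_eq_mul] at h1
    omega
  set ψ : C →* Equiv.Perm O := MulAction.toPermHom C O with hψ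
  have hker : Nat.card ψ.ker = 3 := by
    have hcube : ∀ t ∈ ψ.ker, (t : G) ^ 3 = 1 := by
      intro t ht
      refine hfaith _ fun Q => ?_
      by_cases hQ : Q = P
      · rw [hQ]; exact (congrArg (· • P) (Subgroup.coe_pow C t 3).symm).trans (hcP (t ^ 3))
      have h1 : (t • (⟨MulAction.orbit (P : Subgroup G) Q, Q, hQ, rfl⟩ : O)) =
          ⟨MulAction.orbit (P : Subgroup G) Q, Q, hQ, rfl⟩ :=
        congrArg (fun e : Equiv.Perm O => e _) (MonoidHom.mem_ker.1 ht)
      have h2 : (t : G) • Q ∈ MulAction.orbit (P : Subgroup G) Q := by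
        have h3 : (fun w => (t : G) • w) '' MulAction.orbit (P : Subgroup G) Q =
            MulAction.orbit (P : Subgroup G) Q := congrArg Subtype.val h1
        rw [← h3]
        exact ⟨Q, MulAction.mem_orbit_self _, rfl⟩
      obtain ⟨a, ha⟩ := h2
      have ha' : (a : G) • Q = (t : G) • Q := ha
      have hc : Commute (t : G) a := hPC t a
      have h4 : ∀ j : ℕ, ((t : G) ^ j) • Q = ((a : G) ^ j) • Q := by
        intro j
        induction j with
        | zero => simp
        | succ j ihj =>
          rw [pow_succ', mul_smul, ihj, ← mul_smul, (hc.pow_right j).eq, mul_smul, ← ha', ← mul_smul, ← pow_succ]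
      have ha3 : (a : G) ^ 3 = 1 := by
        have h6 := orderOf_dvd_natCard a
        rw [hP3, orderOf_dvd_iff_pow_eq_one] at h6
        exact congrArg Subtype.val h6
      rw [h4 3, ha3, one_smul]
    have hPle : ∀ a ∈ (P : Subgroup G), a ∈ C := fun a ha b hb =>
      congrArg Subtype.val ((isCyclic_of_prime_card (α := (P : Subgroup G)) (p := 3) hP3).isMulCommutative.is_comm.comm
        (⟨b, hb⟩ : (P : Subgroup G)) ⟨a, ha⟩)
    have hle : ψ.ker.map C.subtype ≤ (P : Subgroup G) := by
      rintro _ ⟨t, ht, rfl⟩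
      have hp : IsPGroup 3 (Subgroup.zpowers (t : G)) := by
        obtain ⟨j, -, hj⟩ := (Nat.dvd_prime_pow (by norm_num)).1
          (orderOf_dvd_of_pow_eq_one (hcube t ht) |>.trans (dvd_of_eq (pow_one 3).symm))
        exact IsPGroup.of_card (n := j) (by rw [Nat.card_zpowers, hj])
      have h5 := hp.inf_normalizer_sylow P
      exact (h5.le ⟨Subgroup.mem_zpowers _, Subgroup.centralizer_le_normalizer _ t.2⟩).2
    have hge : (P : Subgroup G) ≤ ψ.ker.map C.subtype := by
      intro a ha
      refine ⟨⟨a, hPle a ha⟩, MonoidHom.mem_ker.2 (Equiv.ext fun A => ?_), rfl⟩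
      obtain ⟨Q, hQ, hA⟩ := A.2
      apply Subtype.ext
      change (fun w => a • w) '' A.1 = A.1
      rw [hA, horbC ⟨a, hPle a ha⟩ Q]
      exact MulAction.orbit_eq_iff.2 ⟨⟨a, ha⟩, rfl⟩
    rw [← Subgroup.card_subtype, le_antisymm hle hge, hP3]
  set I := ψ.range with hI
  have hCc : Nat.card C = 3 * Nat.card I := by
    rw [← ψ.ker.card_mul_index, hker, Subgroup.index_ker]
  have hCN : C ≤ N := Subgroup.centralizer_le_normalizer _
  have hI3 : ¬ 3 ∣ Nat.card I := fun h => h9 (by
    rw [pow_two]
    exact (mul_dvd_mul_left 3 h).trans (hCc ▸ Subgroup.card_subgroup_dvd_card C))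
  have hI5040 : Nat.card I ∣ 5040 := by
    have h := Subgroup.card_subgroup_dvd_card I
    rw [Nat.card_perm, Nat.card_eq_fintype_card (α := O), hO7] at h
    exact h
  have hI560 : Nat.card I ∣ 560 := by
    have hc : Nat.Coprime (Nat.card I) (3 ^ 2) :=
      (Nat.coprime_comm.1 (Nat.prime_three.coprime_iff_not_dvd.2 hI3)).pow_right 2
    exact hc.dvd_of_dvd_mul_right (show Nat.card I ∣ 560 * 3 ^ 2 by exact hI5040)
  obtain ⟨e, he, hNe⟩ : ∃ e, e ∣ 2 ∧ Nat.card N = 3 * Nat.card I * e := by
    refine ⟨(C.subgroupOf N).index, ?_, ?_⟩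
    · have h1 : C.subgroupOf N = (P : Subgroup G).normalizerMonoidHom.ker := (Subgroup.normalizerMonoidHom_ker _).symm
      rw [h1, Subgroup.index_ker]
      refine (Subgroup.card_subgroup_dvd_card _).trans ?_
      haveI : IsCyclic (P : Subgroup G) := isCyclic_of_prime_card (p := 3) hP3
      have : Nat.card (MulAut (P : Subgroup G)) = 2 := by
        rw [IsCyclic.card_mulAut, hP3]; decide
      rw [this]
    · rw [← (C.subgroupOf N).card_mul_index, Nat.card_congr (Subgroup.subgroupOfEquivOfLe hCN).toEquiv, hCc]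
  have h11N : ¬ 11 ∣ Nat.card N := by
    intro h
    have hd : Nat.card N ∣ 3 * 560 * 2 := hNe ▸ mul_dvd_mul (mul_dvd_mul_left 3 hI560) he
    exact absurd (h.trans hd) (by norm_num)
  -- Step 4: the Sylow 11-subgroup
  haveI : Fact (Nat.Prime 11) := ⟨by norm_num⟩
  let R : Sylow 11 G := default
  have h11G : 11 ∣ Nat.card G := hGN ▸ Dvd.dvd.mul_right (by norm_num) _
  have h121 : ¬ 11 ^ 2 ∣ Nat.card G := fun h => by
    rw [hGN] at h
    exact h11N ((Nat.Coprime.dvd_of_dvd_mul_left (show Nat.Coprime 11 2 by norm_num))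
      (Nat.dvd_of_mul_dvd_mul_left (by norm_num : 0 < 11) (show 11 * 11 ∣ 11 * (2 * Nat.card N) by
        rw [← mul_assoc 11 2]; simpa [pow_two] using h)))
  have hR : Nat.card (R : Subgroup G) = 11 := by
    obtain ⟨m, hm⟩ := IsPGroup.iff_card.1 R.isPGroup'
    have h1 := R.dvd_card_of_dvd_card h11G
    have h2 : m ≤ 1 := by
      by_contra hlt
      exact h121 ((pow_dvd_pow 11 (show 2 ≤ m by omega)).trans (hm ▸ Subgroup.card_subgroup_dvd_card _))
    interval_cases m
    · rw [hm] at h1; norm_num at h1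
    · rw [hm, pow_one]
  have hRorb : ∀ Q : Sylow 3 G, (∀ y ∈ (R : Subgroup G), y • Q = Q → y = 1) ∧
      (MulAction.orbit (R : Subgroup G) Q).ncard = 11 := by
    intro Q
    have h1 : ∀ y ∈ (R : Subgroup G), y • Q = Q → y = 1 := by
      intro y hy h
      have hd1 : orderOf y ∣ 11 := ((R : Subgroup G).orderOf_dvd_natCard hy).trans hR.dvd
      rcases (Nat.dvd_prime (by norm_num)).1 hd1 with h' | h'
      · exact orderOf_eq_one_iff.1 h'
      exfalso
      apply h11N
      obtain ⟨g, hg⟩ := MulAction.exists_smul_eq G P Q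
      have hyN : g⁻¹ * y * g ∈ N := Sylow.smul_eq_iff_mem_normalizer.1 (by
        rw [mul_smul, mul_smul, hg, h, ← hg, inv_smul_smul])
      have h2 := N.orderOf_dvd_natCard hyN
      have h3 : orderOf (g⁻¹ * y * g) = orderOf y := by
        rw [show g⁻¹ * y * g = MulAut.conj g⁻¹ y by simp, MulEquiv.orderOf_eq]
      rw [h3, h'] at h2
      exact h2
    refine ⟨h1, ?_⟩
    rw [← MulAction.index_stabilizer]
    have hb : MulAction.stabilizer (R : Subgroup G) Q = ⊥ := by
      rw [eq_bot_iff]
      exact fun z hz => Subgroup.mem_bot.2 (Subtype.ext (h1 z z.2 hz))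
    rw [hb, Subgroup.index_bot, hR]
  let A₁ := MulAction.orbit (R : Subgroup G) P
  obtain ⟨Qb, hQb⟩ : ∃ Qb, Qb ∉ A₁ := by
    by_contra hc
    push Not at hc
    have h1 : A₁.ncard = 11 := (hRorb P).2
    rw [Set.eq_univ_of_forall hc, Set.ncard_univ, h22] at h1
    omega
  let A₂ := MulAction.orbit (R : Subgroup G) Qb
  have hdisj : Disjoint A₁ A₂ := Set.disjoint_left.2 fun z hz1 hz2 => hQb (by
    change Qb ∈ MulAction.orbit (R : Subgroup G) P
    rw [← MulAction.orbit_eq_iff.2 hz1, MulAction.orbit_eq_iff.2 hz2]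
    exact MulAction.mem_orbit_self Qb)
  have hcover2 : ∀ Q, Q ∈ A₁ ∨ Q ∈ A₂ := by
    have h1 : A₁ ∪ A₂ = Set.univ := by
      refine Set.eq_of_subset_of_ncard_le (Set.subset_univ _) ?_ (Set.toFinite _)
      rw [Set.ncard_univ, h22, Set.ncard_union_eq hdisj, (hRorb P).2, (hRorb Qb).2]
    exact fun Q => (h1 ▸ Set.mem_univ Q : Q ∈ A₁ ∪ A₂)
  have hsame2 : ∀ Q Q' W : Sylow 3 G, W ∉ MulAction.orbit (R : Subgroup G) Q → Q' ∉ MulAction.orbit (R : Subgroup G) Q →
      Q' ∈ MulAction.orbit (R : Subgroup G) W := by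
    intro Q Q' W hW hQ'
    rcases hcover2 Q with h | h <;> rcases hcover2 W with h' | h' <;> rcases hcover2 Q' with h'' | h'' <;>
      rw [MulAction.orbit_eq_iff.2 h] at hW hQ' <;>
      first
      | exact absurd h' hW
      | exact absurd h'' hQ'
      | (rw [MulAction.orbit_eq_iff.2 h']; exact h'')
  have hcent : ∀ t : G, (∀ y ∈ (R : Subgroup G), t * y = y * t) → ∀ r : ℕ, r.Prime → r ≠ 11 → orderOf t = r → False := by
    intro t ht r hr hr11 hord
    have hcomm : ∀ (Q : Sylow 3 G) (y : G), y ∈ (R : Subgroup G) → t • y • Q = y • t • Q := fun Q y hy => by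
      rw [← mul_smul, ← mul_smul, ht y hy]
    have hmove : ∀ Q : Sylow 3 G, t • Q ∈ MulAction.orbit (R : Subgroup G) Q → t • Q = Q := by
      intro Q ⟨a, ha⟩
      have ha' : (a : G) • Q = t • Q := ha
      have hc : Commute t (a : G) := ht a a.2
      have h4 : ∀ j : ℕ, (t ^ j) • Q = ((a : G) ^ j) • Q := by
        intro j
        induction j with
        | zero => simp
        | succ j ihj =>
          rw [pow_succ', mul_smul, ihj, ← mul_smul, (hc.pow_right j).eq, mul_smul, ← ha', ← mul_smul, ← pow_succ]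
      have h5 := h4 r
      rw [← hord, pow_orderOf_eq_one, one_smul, hord] at h5
      have h6 : (a : G) ^ r = 1 := (hRorb Q).1 _ (pow_mem a.2 r) h5.symm
      have h7 : orderOf (a : G) ∣ Nat.gcd 11 r :=
        Nat.dvd_gcd (((R : Subgroup G).orderOf_dvd_natCard a.2).trans hR.dvd) (orderOf_dvd_of_pow_eq_one h6)
      rw [(Nat.coprime_primes (by norm_num) hr).2 (Ne.symm hr11), Nat.dvd_one, orderOf_eq_one_iff] at h7
      rw [← ha', h7, one_smul]
    by_cases hex : ∃ Q : Sylow 3 G, t • Q = Q
    · obtain ⟨Q, hQ⟩ := hex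
      have h1 : ∀ W ∈ MulAction.orbit (R : Subgroup G) Q, t • W = W := by
        rintro W ⟨a, rfl⟩
        show t • (a : G) • Q = (a : G) • Q
        rw [hcomm Q a a.2, hQ]
      have h2 : t = 1 := hfaith t fun W => by
        by_cases hW : W ∈ MulAction.orbit (R : Subgroup G) Q
        · exact h1 W hW
        refine hmove W (hsame2 Q (t • W) W hW fun h => hW ?_)
        have := smul_left_cancel t (h1 _ h)
        rwa [this] at h
      rw [h2, orderOf_one] at hord
      exact hr.ne_one hord.symm
    push Not at hex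
    have hnot : ∀ Q : Sylow 3 G, t • Q ∉ MulAction.orbit (R : Subgroup G) Q := fun Q h => hex Q (hmove Q h)
    have ht2 : ∀ Q : Sylow 3 G, t • t • Q ∈ MulAction.orbit (R : Subgroup G) Q := by
      intro Q
      by_contra h
      exact hnot (t • Q) (hsame2 Q (t • t • Q) (t • Q) (hnot Q) h)
    have hr2 : r = 2 := by
      by_contra hne
      obtain ⟨j, hj⟩ := hr.odd_of_ne_two hne
      have hpar : ∀ j : ℕ, (t ^ (2 * j)) • P ∈ MulAction.orbit (R : Subgroup G) P := by
        intro j
        induction j with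
        | zero => rw [Nat.mul_zero, pow_zero, one_smul]; exact MulAction.mem_orbit_self _
        | succ j ihj =>
          obtain ⟨a, ha⟩ := ihj
          rw [show 2 * (j + 1) = 2 + 2 * j by ring, pow_add, mul_smul, ← ha, pow_two, mul_smul]
          show t • t • (a : G) • P ∈ _
          rw [hcomm _ _ a.2, hcomm _ _ a.2]
          obtain ⟨b, hb⟩ := ht2 P
          rw [← hb]
          exact ⟨a * b, mul_smul (a : G) (b : G) P⟩
      obtain ⟨a, ha⟩ := hpar j
      have h1 : (t ^ r) • P = t • (a : G) • P := by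
        rw [hj, pow_succ', mul_smul, ← ha]; rfl
      rw [← hord, pow_orderOf_eq_one, one_smul, hcomm _ _ a.2] at h1
      refine hnot P ⟨a⁻¹, ?_⟩
      show (a : G)⁻¹ • P = t • P
      rw [inv_smul_eq_iff]; exact h1
    set φ : G →* Equiv.Perm (Sylow 3 G) := MulAction.toPermHom G (Sylow 3 G) with hφ
    have hsupp : (φ t).support = Finset.univ := by
      ext S
      simp only [Equiv.Perm.mem_support, Finset.mem_univ, iff_true]
      exact hex S
    have hσ2 : φ t ^ 2 = 1 := by
      rw [← map_pow, ← hr2, ← hord, pow_orderOf_eq_one, map_one]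
    have hct : ∀ n ∈ (φ t).cycleType, n = 2 := by
      intro n hn
      have h1 : n ∣ 2 := (Equiv.Perm.dvd_of_mem_cycleType hn).trans (orderOf_dvd_of_pow_eq_one hσ2)
      exact le_antisymm (Nat.le_of_dvd (by norm_num) h1) (Equiv.Perm.two_le_of_mem_cycleType hn)
    have hsum : (φ t).cycleType.sum = 2 * Multiset.card (φ t).cycleType := by
      rw [Multiset.eq_replicate_card.2 hct, Multiset.sum_replicate, Multiset.card_replicate, smul_eq_mul, mul_comm]
    have hk : Multiset.card (φ t).cycleType = 11 := by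
      have : (φ t).cycleType.sum = 22 := by
        rw [Equiv.Perm.sum_cycleType, hsupp, Finset.card_univ, ← Nat.card_eq_fintype_card, h22]
      omega
    have hs : Equiv.Perm.sign (φ t) = 1 := heven (Equiv.Perm.sign.comp φ) t
    rw [Equiv.Perm.sign_of_cycleType, hsum, hk] at hs
    exact absurd hs (by decide)
  set M := Subgroup.normalizer (R : Set G) with hM
  have hRM : (R : Subgroup G) ≤ M := Cfsg.Agent.Transfer.sylow_le_normalizer R
  haveI : IsCyclic (R : Subgroup G) := isCyclic_of_prime_card (p := 11) hR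
  set CR := (Subgroup.centralizer (R : Set G)).subgroupOf M with hCR
  have hCR11 : Nat.card CR = 11 := by
    have hle : (R : Subgroup G).subgroupOf M ≤ CR := fun a ha b hb =>
      congrArg Subtype.val (IsCyclic.isMulCommutative.is_comm.comm (⟨b, hb⟩ : (R : Subgroup G)) ⟨(a : G), ha⟩)
    have hR' : Nat.card ((R : Subgroup G).subgroupOf M) = 11 := by
      rw [Nat.card_congr (Subgroup.subgroupOfEquivOfLe hRM).toEquiv, hR]
    have hd := Subgroup.card_dvd_of_le hle
    rw [hR'] at hd
    obtain ⟨m, hm⟩ := hd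
    by_contra hne
    have hm1 : m ≠ 1 := fun h => hne (by rw [hm, h, mul_one])
    obtain ⟨r, hr, hrm⟩ := Nat.exists_prime_and_dvd hm1
    haveI := Fact.mk hr
    by_cases hr11 : r = 11
    · subst hr11
      exact h121 (by
        rw [pow_two]
        exact (mul_dvd_mul_left 11 hrm).trans
          (hm ▸ (Subgroup.card_subgroup_dvd_card CR).trans (Subgroup.card_subgroup_dvd_card M)))
    · obtain ⟨t, ht⟩ := exists_prime_orderOf_dvd_card' (G := CR) r (hm ▸ hrm.mul_left 11)
      have ht' : orderOf ((t : M) : G) = r := by rw [Subgroup.orderOf_coe, Subgroup.orderOf_coe, ht]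
      exact hcent _ (fun y hy => (t.2 y hy).symm) r hr hr11 ht'
  have hCR10 : CR.index ∣ 10 := by
    have h1 : CR = (R : Subgroup G).normalizerMonoidHom.ker := (Subgroup.normalizerMonoidHom_ker _).symm
    rw [h1, Subgroup.index_ker]
    refine (Subgroup.card_subgroup_dvd_card _).trans ?_
    have : Nat.card (MulAut (R : Subgroup G)) = 10 := by
      rw [IsCyclic.card_mulAut, hR]; decide
    rw [this]
  have hMc : Nat.card M = 11 * CR.index := by rw [← CR.card_mul_index, hCR11]
  have hnpc : ∀ r : ℕ, r.Prime → r ≠ 3 → r ∣ Nat.card G → ¬ Cfsg.HasNormalPComplement r G := by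
    intro r hr hr3 hrd hnp
    haveI := Fact.mk hr
    have htop := hgen (Cfsg.pResidual r G) fun Q x hx => by
      refine Cfsg.Agent.Transfer.mem_pResidual_of_coprime ?_
      obtain ⟨k, hk⟩ := IsPGroup.iff_orderOf.1 Q.isPGroup' ⟨x, hx⟩
      rw [Subgroup.orderOf_mk] at hk
      rw [hk]
      exact ((Nat.coprime_primes (by norm_num) hr).2 (Ne.symm hr3)).pow_left k
    have := Cfsg.Agent.Transfer.hasNormalPComplement_iff_not_dvd.1 hnp
    rw [htop, Subgroup.card_top] at this
    exact this hrd
  have hidx1 : CR.index ≠ 1 := by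
    intro h
    refine hnpc 11 (by norm_num) (by norm_num) h11G
      ⟨R, _, inferInstance, MonoidHom.ker_transferSylow_isComplement' R ?_⟩
    intro g hg y hy
    have hm : (⟨g, hg⟩ : M) ∈ CR := by rw [Subgroup.index_eq_one.1 h]; exact Subgroup.mem_top _
    exact hm y hy
  -- an element of `M` outside the centralizer fixes at most one point of each orbit
  have hfix1 : ∀ u ∈ M, u ∉ Subgroup.centralizer (R : Set G) → ∀ Q W : Sylow 3 G,
      u • Q = Q → u • W = W → W ∈ MulAction.orbit (R : Subgroup G) Q → W = Q := by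
    intro u hu hnc Q W hQ hW ⟨a, ha⟩
    have ha' : (a : G) • Q = W := ha
    by_cases ha1 : (a : G) = 1
    · rw [← ha', ha1, one_smul]
    exfalso
    apply hnc
    have h1 : u * a * u⁻¹ ∈ (R : Subgroup G) := (Subgroup.mem_set_normalizer_iff.1 hu a).1 a.2
    have h2 : (u * a * u⁻¹) • Q = W := by
      rw [mul_smul, mul_smul, inv_smul_eq_iff.2 hQ.symm, ha', hW]
    have h3 : (a : G)⁻¹ * (u * a * u⁻¹) = 1 := (hRorb Q).1 _
      ((R : Subgroup G).mul_mem ((R : Subgroup G).inv_mem a.2) h1)
      (by rw [mul_smul, h2, ← ha', inv_smul_smul])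
    rw [inv_mul_eq_one] at h3
    have hgena : Subgroup.zpowers (a : G) = (R : Subgroup G) := by
      refine Subgroup.eq_of_le_of_card_ge (Subgroup.zpowers_le.2 a.2) ?_
      have h4 : orderOf (a : G) ∣ 11 := ((R : Subgroup G).orderOf_dvd_natCard a.2).trans hR.dvd
      rw [Nat.card_zpowers, hR, ((Nat.dvd_prime (by norm_num)).1 h4).resolve_left fun h => ha1 (orderOf_eq_one_iff.1 h)]
    intro y hy
    have hy' : y ∈ Subgroup.zpowers (a : G) := hgena.ge hy
    obtain ⟨i, rfl⟩ := hy'
    exact ((Commute.zpow_left (h := (mul_inv_eq_iff_eq_mul.1 h3.symm).symm) i)).eq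
  have hno5 : ¬ 5 ∣ CR.index := by
    intro h5
    haveI : Fact (Nat.Prime 5) := ⟨by norm_num⟩
    obtain ⟨u, hu⟩ := exists_prime_orderOf_dvd_card' (G := M) 5 (hMc ▸ h5.mul_left 11)
    have hu' : orderOf (u : G) = 5 := by rw [Subgroup.orderOf_coe, hu]
    have hnc : (u : G) ∉ Subgroup.centralizer (R : Set G) := fun h =>
      hcent u (fun y hy => (h y hy).symm) 5 (by norm_num) (by norm_num) hu'
    let F : Set (Sylow 3 G) := {Q | (u : G) • Q = Q}
    have hF2 : F.ncard = 2 := by
      have hp : IsPGroup 5 (Subgroup.zpowers (u : G)) := IsPGroup.of_card (n := 1) (by rw [Nat.card_zpowers, hu', pow_one])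
      have hmod := hp.card_modEq_card_fixedPoints (α := Sylow 3 G)
      have he : MulAction.fixedPoints (Subgroup.zpowers (u : G)) (Sylow 3 G) = F := by
        ext Q
        constructor
        · intro h; exact h ⟨u, Subgroup.mem_zpowers _⟩
        · rintro h ⟨z, i, rfl⟩
          have hs : (u : G) ∈ MulAction.stabilizer G Q := h
          exact (Subgroup.zpow_mem _ hs i : _)
      rw [he, h22, Nat.card_coe_set_eq] at hmod
      have hle : F.ncard ≤ 2 := by
        have hsub : ∀ A : Set (Sylow 3 G), (∀ Q ∈ A, ∀ W ∈ A, W ∈ MulAction.orbit (R : Subgroup G) Q) →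
            (F ∩ A).ncard ≤ 1 := fun A hA => (Set.ncard_le_one (Set.toFinite _)).2 fun Q hQ W hW =>
          (hfix1 u u.2 hnc Q W hQ.1 hW.1 (hA Q hQ.2 W hW.2)).symm
        have hA : ∀ X : Sylow 3 G, ∀ Q ∈ MulAction.orbit (R : Subgroup G) X,
            ∀ W ∈ MulAction.orbit (R : Subgroup G) X, W ∈ MulAction.orbit (R : Subgroup G) Q :=
          fun X Q hQ W hW => by rw [MulAction.orbit_eq_iff.2 hQ]; exact hW
        have hF : F = (F ∩ A₁) ∪ (F ∩ A₂) := by
          rw [← Set.inter_union_distrib_left, Set.inter_eq_left.2]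
          exact fun Q _ => hcover2 Q
        rw [hF]
        exact (Set.ncard_union_le _ _).trans (Nat.add_le_add (hsub A₁ (hA P)) (hsub A₂ (hA Qb)))
      have hmod' : 22 % 5 = F.ncard % 5 := hmod
      omega
    obtain ⟨Q₁, Q₂, h12, hFeq⟩ := Set.ncard_eq_two.1 hF2
    obtain ⟨g, hg⟩ := MulAction.exists_smul_eq G Q₁ P
    set v : G := g * u * g⁻¹ with hv
    have hvfix : ∀ W, v • W = W ↔ (W = P ∨ W = g • Q₂) := by
      intro W
      have h1 : v • W = W ↔ g⁻¹ • W ∈ F := by
        change _ ↔ (u : G) • g⁻¹ • W = g⁻¹ • W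
        rw [hv, mul_smul, mul_smul]
        exact smul_eq_iff_eq_inv_smul g
      rw [h1, hFeq, Set.mem_insert_iff, Set.mem_singleton_iff, inv_smul_eq_iff, inv_smul_eq_iff, hg]
    have hB : g • Q₂ ≠ P := fun h => h12 (smul_left_cancel g (hg.trans h.symm))
    have hvN : v ∈ N := Sylow.smul_eq_iff_mem_normalizer.1 ((hvfix P).2 (Or.inl rfl))
    have hinv : ∀ W ∈ MulAction.orbit (P : Subgroup G) (g • Q₂), v • W ∈ MulAction.orbit (P : Subgroup G) (g • Q₂) := by
      rintro _ ⟨a, rfl⟩
      have ha : v * (a : G) * v⁻¹ ∈ (P : Subgroup G) := (Subgroup.mem_set_normalizer_iff.1 hvN a).1 a.2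
      refine ⟨⟨_, ha⟩, ?_⟩
      show (v * (a : G) * v⁻¹) • (g • Q₂) = v • (a : G) • (g • Q₂)
      rw [mul_smul, mul_smul, inv_smul_eq_iff.2 ((hvfix _).2 (Or.inr rfl)).symm]
    have hall3 : MulAction.orbit (P : Subgroup G) (g • Q₂) ⊆ {P, g • Q₂} := by
      intro W hW
      have hv5 : IsPGroup 5 (Subgroup.zpowers v) := IsPGroup.of_card (n := 1) (by
        rw [Nat.card_zpowers, hv, show g * (u : G) * g⁻¹ = MulAut.conj g (u : G) by simp, MulEquiv.orderOf_eq, hu', pow_one])
      obtain ⟨k, hk⟩ := hv5.card_orbit W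
      have hsub : MulAction.orbit (Subgroup.zpowers v) W ⊆ MulAction.orbit (P : Subgroup G) (g • Q₂) := by
        rintro _ ⟨⟨z, hz⟩, rfl⟩
        obtain ⟨i, rfl⟩ := (Submonoid.mem_powers_iff _ _).1 (mem_powers_iff_mem_zpowers.2 hz)
        show (v ^ i) • W ∈ _
        induction i with
        | zero => simpa using hW
        | succ i ih =>
          rw [pow_succ', mul_smul]
          exact hinv _ (ih (Subgroup.npow_mem_zpowers v i))
      have h3 := Set.ncard_le_ncard hsub (Set.toFinite _)
      rw [horbP _ hB, ← Nat.card_coe_set_eq, hk] at h3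
      have hk0 : k = 0 := by
        by_contra hk0
        have := Nat.pow_le_pow_right (show 0 < 5 by norm_num) (show 1 ≤ k by omega)
        omega
      rw [hk0, pow_zero, Nat.card_coe_set_eq, Set.ncard_eq_one] at hk
      obtain ⟨W', hW'⟩ := hk
      have h4 : W = W' := by
        have := MulAction.mem_orbit_self (M := Subgroup.zpowers v) W
        rwa [hW', Set.mem_singleton_iff] at this
      have h5 : v • W = W := by
        have := MulAction.mem_orbit W (⟨v, Subgroup.mem_zpowers v⟩ : Subgroup.zpowers v)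
        rw [hW', Set.mem_singleton_iff, ← h4] at this
        exact this
      exact (hvfix W).1 h5
    have h4 := (Set.ncard_le_ncard hall3 (Set.toFinite _)).trans (Set.ncard_insert_le _ _)
    rw [horbP _ hB, Set.ncard_singleton] at h4
    omega
  have hidx2 : CR.index = 2 := by
    have hle := Nat.le_of_dvd (by norm_num) hCR10
    interval_cases h : CR.index <;> omega
  have hn11 : Nat.card (Sylow 11 G) = Nat.card N := by
    have h1 : Nat.card (Sylow 11 G) * Nat.card M = Nat.card G := by
      rw [R.card_eq_index_normalizer, ← hM, M.index_mul_card]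
    rw [hMc, hidx2, hGN] at h1
    omega
  have hmod : Nat.card N % 11 = 1 := by rw [← hn11]; exact card_sylow_modEq_one 11 G
  -- Step 5: the order is 264
  have hN12 : Nat.card N = 12 := by
    obtain ⟨h35, h112⟩ := seven_points hO7 I hI3
    have key : ∀ i ∈ Nat.divisors 560, ∀ e ∈ [1, 2], ¬ 35 ∣ i → i ≠ 112 → 3 * i * e % 11 = 1 → 3 * i * e = 12 := by
      decide +kernel
    have he' : e ∈ [1, 2] := by
      rcases (Nat.dvd_prime Nat.prime_two).1 he with rfl | rfl <;> simp
    rw [hNe] at hmod ⊢
    exact key _ (Nat.mem_divisors.2 ⟨hI560, by norm_num⟩) e he' h35 h112 hmod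
  -- Step 6: twelve points
  haveI : Fact (Nat.Prime 2) := ⟨Nat.prime_two⟩
  obtain ⟨s, hs⟩ := exists_prime_orderOf_dvd_card' (G := M) 2 (by rw [hMc, hidx2]; norm_num)
  have hs' : orderOf (s : G) = 2 := by rw [Subgroup.orderOf_coe, hs]
  have hsnc : (s : G) ∉ Subgroup.centralizer (R : Set G) := fun h =>
    hcent s (fun y hy => (h y hy).symm) 2 (by norm_num) (by norm_num) hs'
  haveI : Fintype (Sylow 11 G) := Fintype.ofFinite _
  have h12 : Fintype.card (Sylow 11 G) = 12 := by rw [← Nat.card_eq_fintype_card, hn11, hN12]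
  set φ : G →* Equiv.Perm (Sylow 11 G) := MulAction.toPermHom G (Sylow 11 G) with hφ
  have hsR : (s : G) • R = R := Sylow.smul_eq_iff_mem_normalizer.2 s.2
  have hs2 : (s : G) * s = 1 := by rw [← pow_two, ← hs', pow_orderOf_eq_one]
  have hRfree : ∀ W : Sylow 11 G, W ≠ R → ∀ a ∈ (R : Subgroup G), a • W = W → a = 1 := by
    intro W hW a ha h
    have h1 := Cfsg.Agent.Transfer.mem_sylow_of_smul_eq W R.isPGroup' ha h
    by_contra ha1
    apply hW
    have hd : orderOf a = 11 := ((Nat.dvd_prime (by norm_num)).1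
      (((R : Subgroup G).orderOf_dvd_natCard ha).trans hR.dvd)).resolve_left fun h => ha1 (orderOf_eq_one_iff.1 h)
    have hz : Subgroup.zpowers a = (R : Subgroup G) :=
      Subgroup.eq_of_le_of_card_ge (Subgroup.zpowers_le.2 ha) (by rw [Nat.card_zpowers, hd, hR])
    exact Sylow.ext (R.3 W.isPGroup' (hz ▸ Subgroup.zpowers_le.2 h1))
  have hatmost : ∀ W W', W ≠ R → W' ≠ R → (s : G) • W = W → (s : G) • W' = W' → W = W' := by
    intro W W' hW hW' h h'
    have hWW : W' ∈ MulAction.orbit (R : Subgroup G) W := by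
      have horb : (MulAction.orbit (R : Subgroup G) W).ncard = 11 := by
        rw [← MulAction.index_stabilizer]
        have hb : MulAction.stabilizer (R : Subgroup G) W = ⊥ := by
          rw [eq_bot_iff]
          exact fun z hz => Subgroup.mem_bot.2 (Subtype.ext (hRfree W hW z z.2 hz))
        rw [hb, Subgroup.index_bot, hR]
      have he : MulAction.orbit (R : Subgroup G) W = (Set.univ : Set (Sylow 11 G)) \ {R} := by
        refine Set.eq_of_subset_of_ncard_le (fun X hX => ⟨Set.mem_univ X, ?_⟩) ?_ (Set.toFinite _)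
        · rintro (rfl : X = R)
          obtain ⟨a, ha⟩ := hX
          exact hW (smul_left_cancel (a : G) (show (a : G) • W = (a : G) • _ from
            ha.trans (Cfsg.Agent.Transfer.smul_sylow_self _ a.2).symm))
        · rw [Set.ncard_sdiff (Set.subset_univ _), Set.ncard_univ, Nat.card_eq_fintype_card, h12,
            Set.ncard_singleton, horb]
      rw [he]; exact ⟨Set.mem_univ _, hW'⟩
    obtain ⟨a, ha⟩ := hWW
    have ha' : (a : G) • W = W' := ha
    by_cases ha1 : (a : G) = 1
    · rw [← ha', ha1, one_smul]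
    exfalso
    apply hsnc
    have h1 : (s : G) * a * (s : G)⁻¹ ∈ (R : Subgroup G) := (Subgroup.mem_set_normalizer_iff.1 s.2 a).1 a.2
    have h2 : ((s : G) * a * (s : G)⁻¹) • W = W' := by
      rw [mul_smul, mul_smul, inv_smul_eq_iff.2 h.symm, ha', h']
    have h3 : (a : G)⁻¹ * ((s : G) * a * (s : G)⁻¹) = 1 := hRfree W hW _
      ((R : Subgroup G).mul_mem ((R : Subgroup G).inv_mem a.2) h1)
      (by rw [mul_smul, h2, ← ha', inv_smul_smul])
    rw [inv_mul_eq_one] at h3
    have hgena : Subgroup.zpowers (a : G) = (R : Subgroup G) := by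
      refine Subgroup.eq_of_le_of_card_ge (Subgroup.zpowers_le.2 a.2) ?_
      have h4 : orderOf (a : G) ∣ 11 := ((R : Subgroup G).orderOf_dvd_natCard a.2).trans hR.dvd
      rw [Nat.card_zpowers, hR, ((Nat.dvd_prime (by norm_num)).1 h4).resolve_left fun h => ha1 (orderOf_eq_one_iff.1 h)]
    intro y hy
    have hy' : y ∈ Subgroup.zpowers (a : G) := hgena.ge hy
    obtain ⟨i, rfl⟩ := hy'
    exact ((Commute.zpow_left (h := (mul_inv_eq_iff_eq_mul.1 h3.symm).symm) i)).eq
  have hσ2 : φ (s : G) ^ 2 = 1 := by rw [← map_pow, pow_two, hs2, map_one]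
  have hct : ∀ n ∈ (φ (s : G)).cycleType, n = 2 := by
    intro n hn
    have h1 : n ∣ 2 := (Equiv.Perm.dvd_of_mem_cycleType hn).trans (orderOf_dvd_of_pow_eq_one hσ2)
    exact le_antisymm (Nat.le_of_dvd (by norm_num) h1) (Equiv.Perm.two_le_of_mem_cycleType hn)
  have hsum : (φ (s : G)).cycleType.sum = 2 * Multiset.card (φ (s : G)).cycleType := by
    rw [Multiset.eq_replicate_card.2 hct, Multiset.sum_replicate, Multiset.card_replicate, smul_eq_mul, mul_comm]
  have hk : Multiset.card (φ (s : G)).cycleType = 5 := by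
    have h1 : ((Finset.univ : Finset (Sylow 11 G)).filter fun W => (s : G) • W = W).card ≤ 2 := by
      by_contra h
      obtain ⟨a, b, c, ha, hb, hc, hab, hac, hbc⟩ := Finset.two_lt_card_iff.1 (not_le.1 h)
      simp only [Finset.mem_filter, Finset.mem_univ, true_and] at ha hb hc
      rcases eq_or_ne a R with rfl | haR
      · exact hbc (hatmost b c hab.symm hac.symm hb hc)
      · rcases eq_or_ne b R with rfl | hbR
        · exact hac (hatmost a c haR hbc.symm ha hc)
        · exact hab (hatmost a b haR hbR ha hb)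
    have h2 : ((Finset.univ : Finset (Sylow 11 G)).filter fun W => (s : G) • W = W).card
        + (φ (s : G)).support.card = 12 := by
      have h5 := Finset.card_filter_add_card_filter_not (s := (Finset.univ : Finset (Sylow 11 G)))
        (p := fun W => (s : G) • W = W)
      have h6 : (φ (s : G)).support =
          (Finset.univ : Finset (Sylow 11 G)).filter fun W => ¬ (s : G) • W = W := by
        ext W
        simp [Equiv.Perm.mem_support, hφ]
      rw [Finset.card_univ, h12] at h5
      rw [h6]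
      exact h5
    have h3 : 0 < ((Finset.univ : Finset (Sylow 11 G)).filter fun W => (s : G) • W = W).card :=
      Finset.card_pos.2 ⟨R, Finset.mem_filter.2 ⟨Finset.mem_univ _, hsR⟩⟩
    have h4 : (φ (s : G)).cycleType.sum = (φ (s : G)).support.card := Equiv.Perm.sum_cycleType _
    omega
  have hsgn : Equiv.Perm.sign (φ (s : G)) = 1 := heven (Equiv.Perm.sign.comp φ) (s : G)
  rw [Equiv.Perm.sign_of_cycleType, hsum, hk] at hsgn
  exact absurd hsgn (by decide)

end Cfsg.Agent.S4346
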