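import Cfsg.Statements.S4347
import Mathlib

set_option maxHeartbeats 1000000
set_option maxRecDepth 8000

set_option autoImplicit false
open Cfsg

namespace Cfsg.Agent.S4347

/-- Let G be a finite group and p a prime. Say a Sylow p-subgroup Q is redundant when every element of p-power order lies in some Sylow p-subgroup other than Q. Then G has no redundant Sylow p-subgroup if and only if some element of p-power order lies in exactly one Sylow p-subgroup. -/
theorem result {G : Type*} [Group G] [Finite G]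
    (p : ℕ) [Fact p.Prime] :
    (¬ ∃ Q : Sylow p G, ∀ x : G, (∃ k : ℕ, orderOf x = p ^ k) → ∃ P : Sylow p G, P ≠ Q ∧ x ∈ P) ↔
      ∃ x : G, (∃ k : ℕ, orderOf x = p ^ k) ∧ ∃! P : Sylow p G, x ∈ P := by
  constructor
  · intro h
    obtain ⟨Q⟩ : Nonempty (Sylow p G) := inferInstance
    obtain ⟨x, hx⟩ := not_forall.mp (not_exists.mp h Q)
    obtain ⟨hxp, hnot⟩ := Classical.not_imp.mp hx
    obtain ⟨k, hk⟩ := hxp
    obtain ⟨P, hP⟩ := (IsPGroup.of_card (n := k) (by rw [Nat.card_zpowers, hk]) :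
      IsPGroup p (Subgroup.zpowers x)).exists_le_sylow
    refine ⟨x, ⟨k, hk⟩, P, hP (Subgroup.mem_zpowers x), fun R hR => ?_⟩
    have h1 : P = Q := by_contra fun e => hnot ⟨P, e, hP (Subgroup.mem_zpowers x)⟩
    have h2 : R = Q := by_contra fun e => hnot ⟨R, e, hR⟩
    exact h2.trans h1.symm
  · rintro ⟨x, ⟨k, hk⟩, P, hxP, huniq⟩ ⟨Q, hQ⟩
    obtain ⟨R, hRQ, hxR⟩ := hQ x ⟨k, hk⟩
    have hRP : R = P := huniq R hxR
    subst hRP
    -- conjugate `x` into `Q`
    obtain ⟨g, hg⟩ := MulAction.exists_smul_eq G R Q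
    obtain ⟨R', hR'Q, hxR'⟩ := hQ (g * x * g⁻¹) ⟨k, by rw [← hk]; exact (MulAut.conj g).orderOf_eq x⟩
    apply hR'Q
    have : g⁻¹ • R' = R := huniq _ (by
      show x ∈ ((g⁻¹ • R' : Sylow p G) : Subgroup G)
      rw [Sylow.coe_subgroup_smul]
      exact ⟨g * x * g⁻¹, hxR', by simp [mul_assoc]⟩)
    rw [← hg, ← this, smul_inv_smul]

end Cfsg.Agent.S4347
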