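import Cfsg.Statements.S4348
import Cfsg.Agent.Lib.Grp.Cores

set_option maxHeartbeats 1000000
set_option maxRecDepth 8000

set_option autoImplicit false
open Cfsg

namespace Cfsg.Agent.S4348

/-- Let G be a finite group, p a prime and P a Sylow p-subgroup of G, and let O_p(G) be the largest normal p-subgroup of G. If P/O_p(G) is cyclic, then some element of p-power order of G lies in exactly one Sylow p-subgroup. -/
theorem result {G : Type*} [Group G] [Finite G]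
    (p : ℕ) [Fact p.Prime] (P : Sylow p G)
    [hn : ((Cfsg.pCore p G).subgroupOf (P : Subgroup G)).Normal]
    (hc : IsCyclic ((P : Subgroup G) ⧸ (Cfsg.pCore p G).subgroupOf (P : Subgroup G))) :
    ∃ x : G, (∃ k : ℕ, orderOf x = p ^ k) ∧ ∃! Q : Sylow p G, x ∈ Q := by
  obtain ⟨q, hq⟩ := hc.exists_generator
  obtain ⟨⟨x, hxP⟩, rfl⟩ := QuotientGroup.mk_surjective q
  obtain ⟨k, hk⟩ := IsPGroup.iff_orderOf.mp P.isPGroup' ⟨x, hxP⟩
  rw [Subgroup.orderOf_mk] at hk
  refine ⟨x, ⟨k, hk⟩, P, hxP, fun Q hQ => ?_⟩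
  have hle : (P : Subgroup G) ≤ Q := by
    intro y hy
    obtain ⟨i, hi⟩ := hq (QuotientGroup.mk ⟨y, hy⟩)
    have h1 : (QuotientGroup.mk ((⟨x, hxP⟩ : (P : Subgroup G)) ^ i) : _ ⧸ _) = QuotientGroup.mk ⟨y, hy⟩ := hi
    have h2 : (x ^ i)⁻¹ * y ∈ Cfsg.pCore p G :=
      Subgroup.mem_subgroupOf.mp (QuotientGroup.eq.mp h1)
    have h3 := (Q : Subgroup G).mul_mem (zpow_mem (show x ∈ (Q : Subgroup G) from hQ) i)
      (Agent.Grp.pCore_le_sylow Q h2)
    simpa [mul_assoc] using h3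
  exact Sylow.ext (P.3 Q.isPGroup' hle)

end Cfsg.Agent.S4348
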