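import Cfsg.Statements.S4354
import Mathlib
-- import your own Cfsg.Agent.* helpers here

set_option autoImplicit false
open Cfsg

namespace Cfsg.Agent.S4354

section
open Subgroup

variable {G : Type*} [Group G] [Finite G] {p : ℕ} [Fact p.Prime]

lemma exists_central_sylow (x : G) (hx : ∃ k : ℕ, orderOf x = p ^ k)
    (hc : ¬ p ∣ (centralizer ({x} : Set G)).index) :
    ∃ P : Sylow p G, x ∈ P ∧ ∀ y ∈ P, y * x = x * y := by
  obtain ⟨Q⟩ := (inferInstance : Nonempty (Sylow p ↥(centralizer ({x} : Set G))))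
  have hi : ¬ p ∣ ((Q : Subgroup _).map (centralizer ({x} : Set G)).subtype).index := by
    rw [index_map_subtype]
    intro hd
    rcases (Fact.out : p.Prime).dvd_mul.1 hd with h | h
    · exact Q.not_dvd_index h
    · exact hc h
  let P := (Q.2.map (centralizer ({x} : Set G)).subtype).toSylow hi
  have hP : ∀ y ∈ P, y * x = x * y := by
    intro y hy
    obtain ⟨z, _, rfl⟩ := hy
    exact mem_centralizer_singleton_iff.1 z.2
  refine ⟨P, ?_, hP⟩
  have hz : IsPGroup p ↥(zpowers x) := by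
    obtain ⟨k, hk⟩ := hx
    exact IsPGroup.of_card (by rw [Nat.card_zpowers, hk])
  have hn : zpowers x ≤ normalizer ((P : Subgroup G) : Set G) := by
    rw [zpowers_le]
    refine mem_set_normalizer_iff.2 fun y => ⟨fun hy => ?_, fun hy => ?_⟩
    · rwa [← hP y hy, mul_inv_cancel_right]
    · have h := hP _ hy
      rw [show y = x * y * x⁻¹ from ?_]
      · exact hy
      · have : x * y * x⁻¹ * x = x * (x * y * x⁻¹) := h
        simp only [inv_mul_cancel_right] at this
        exact mul_left_cancel this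
  have hsup : IsPGroup p ↥((P : Subgroup G) ⊔ zpowers x) := IsPGroup.to_sup_of_normal_left' P.2 hz hn
  have := P.3 hsup le_sup_left
  have hh : zpowers x ≤ P := this ▸ le_sup_right
  exact hh (mem_zpowers x)

lemma comm_of_le_sylow (hab : ∀ Q : Sylow p G, IsMulCommutative Q) {a b : G} {R : Subgroup G}
    (hR : IsPGroup p R) (ha : a ∈ R) (hb : b ∈ R) : a * b = b * a := by
  obtain ⟨Q, hQ⟩ := hR.exists_le_sylow
  have := hab Q
  exact congrArg Subtype.val (mul_comm' (⟨a, hQ ha⟩ : (Q : Subgroup G)) ⟨b, hQ hb⟩)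

lemma normal_class_cond (N : Subgroup G) [N.Normal]
    (h : ∀ x : G, (∃ k : ℕ, orderOf x = p ^ k) → ¬ p ∣ (centralizer ({x} : Set G)).index)
    (x : N) (hx : ∃ k : ℕ, orderOf x = p ^ k) : ¬ p ∣ (centralizer ({x} : Set N)).index := by
  have hx' : ∃ k : ℕ, orderOf (x : G) = p ^ k := by
    obtain ⟨k, hk⟩ := hx; exact ⟨k, by rw [Subgroup.orderOf_coe, hk]⟩
  obtain ⟨P1, _, hP1⟩ := exists_central_sylow (x : G) hx' (h _ hx')
  have hpg : IsPGroup p ↥((P1 : Subgroup G).subgroupOf N) :=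
    P1.2.comap_of_injective N.subtype Subtype.val_injective
  obtain ⟨Q, hQ⟩ := hpg.exists_le_sylow
  obtain ⟨P2, hP2⟩ := (Q.2.map N.subtype).exists_le_sylow
  obtain ⟨g, rfl⟩ := MulAction.exists_smul_eq G P1 P2
  have hle : Nat.card (Q : Subgroup N) ≤ Nat.card ((P1 : Subgroup G).subgroupOf N) := by
    refine Nat.card_le_card_of_injective (fun q => ⟨⟨g⁻¹ * (q.1 : G) * g, ?_⟩, ?_⟩) ?_
    · simpa using ‹N.Normal›.conj_mem _ q.1.2 g⁻¹
    · have hm := hP2 (mem_map_of_mem _ q.2)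
      rw [Sylow.smul_def, Sylow.pointwise_smul_def] at hm
      have hm' := Subgroup.mem_pointwise_smul_iff_inv_smul_mem.1 hm
      simpa [mem_subgroupOf, MulAut.smul_def, MulAut.conj_inv_apply] using hm'
    · intro a b hab
      simp only [Subtype.mk.injEq, mul_left_inj, mul_right_inj, SetLike.coe_eq_coe] at hab
      exact hab
  have heq := eq_of_le_of_card_ge hQ hle
  have hQc : (Q : Subgroup N) ≤ centralizer ({x} : Set N) := by
    rw [← heq]
    intro y hy
    exact mem_centralizer_singleton_iff.2 (Subtype.ext (hP1 _ hy))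
  exact fun hd => Q.not_dvd_index (hd.trans (index_dvd_of_le hQc))

lemma quot_class_cond (N : Subgroup G) [N.Normal]
    (h : ∀ x : G, (∃ k : ℕ, orderOf x = p ^ k) → ¬ p ∣ (centralizer ({x} : Set G)).index)
    (x : G ⧸ N) (hx : ∃ k : ℕ, orderOf x = p ^ k) : ¬ p ∣ (centralizer ({x} : Set (G ⧸ N))).index := by
  have hs := QuotientGroup.mk'_surjective N
  have hz : IsPGroup p ↥(zpowers x) := by
    obtain ⟨k, hk⟩ := hx
    exact IsPGroup.of_card (by rw [Nat.card_zpowers, hk])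
  obtain ⟨Pb, hPb⟩ := hz.exists_le_sylow
  obtain ⟨P, rfl⟩ := Sylow.mapSurjective_surjective hs p Pb
  obtain ⟨y, hy, rfl⟩ := hPb (mem_zpowers x)
  have hy' : ∃ k : ℕ, orderOf y = p ^ k := by
    obtain ⟨k, hk⟩ := (IsPGroup.iff_orderOf.1 P.2) ⟨y, hy⟩
    exact ⟨k, by rw [← hk, ← Subgroup.orderOf_coe]⟩
  have hle : (centralizer ({y} : Set G)).map (QuotientGroup.mk' N) ≤
      centralizer ({QuotientGroup.mk' N y} : Set (G ⧸ N)) := by
    rintro _ ⟨z, hz, rfl⟩
    rw [mem_centralizer_singleton_iff]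
    rw [← map_mul, ← map_mul, mem_centralizer_singleton_iff.1 hz]
  exact fun hd => h y hy' (hd.trans ((index_dvd_of_le hle).trans (index_map_dvd _ hs)))

end

/-- Let G be a finite group and p a prime such that the Sylow p-subgroups of G are non-abelian while every element of p-power order has conjugacy class size prime to p, and suppose no nontrivial proper normal subgroup N of G has this property and no quotient G/N by such an N has it. Then G is simple. -/
theorem result {G : Type*} [Group G] [Finite G]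
    (p : ℕ) [Fact p.Prime] (h : ((∃ P : Sylow p G, ¬ IsMulCommutative P) ∧ ∀ x : G, (∃ k : ℕ, orderOf x = p ^ k) → ¬ p ∣ (Subgroup.centralizer ({x} : Set G)).index))
    (hmin : ∀ (N : Subgroup G) [N.Normal], N ≠ ⊥ → N ≠ ⊤ →
      ¬ ((∃ P : Sylow p N, ¬ IsMulCommutative P) ∧ ∀ x : N, (∃ k : ℕ, orderOf x = p ^ k) → ¬ p ∣ (Subgroup.centralizer ({x} : Set N)).index) ∧
      ¬ ((∃ P : Sylow p (G ⧸ N), ¬ IsMulCommutative P) ∧ ∀ x : (G ⧸ N), (∃ k : ℕ, orderOf x = p ^ k) → ¬ p ∣ (Subgroup.centralizer ({x} : Set (G ⧸ N))).index)) :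
    IsSimpleGroup G := by
  obtain ⟨⟨P, hP⟩, hc⟩ := h
  have hnt : Nontrivial G := by
    by_contra hh
    rw [not_nontrivial_iff_subsingleton] at hh
    exact hP ⟨⟨fun a b => Subsingleton.elim _ _⟩⟩
  refine ⟨fun N hN => ?_⟩
  by_contra hne
  obtain ⟨hb, ht⟩ := not_or.1 hne
  obtain ⟨h1, h2⟩ := hmin N hb ht
  have habN : ∀ Q : Sylow p N, IsMulCommutative Q := fun Q => by
    by_contra hQ; exact h1 ⟨⟨Q, hQ⟩, normal_class_cond N hc⟩
  have habQ : ∀ Q : Sylow p (G ⧸ N), IsMulCommutative Q := fun Q => by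
    by_contra hQ; exact h2 ⟨⟨Q, hQ⟩, quot_class_cond N hc⟩
  let π := QuotientGroup.mk' N
  have hs : Function.Surjective π := QuotientGroup.mk'_surjective N
  let Pb := P.mapSurjective hs
  haveI : IsMulCommutative (Pb : Subgroup (G ⧸ N)) := habQ Pb
  have key : ∀ x ∈ P, ∃ w ∈ P, (∀ y ∈ P, y * w = w * y) ∧ w⁻¹ * x ∈ N := by
    intro x hx
    have hx' : ∃ k : ℕ, orderOf x = p ^ k := by
      obtain ⟨k, hk⟩ := (IsPGroup.iff_orderOf.1 P.2) ⟨x, hx⟩
      exact ⟨k, by rw [← hk, ← Subgroup.orderOf_coe]⟩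
    obtain ⟨P1, hx1, hc1⟩ := exists_central_sylow x hx' (hc x hx')
    obtain ⟨g, rfl⟩ := MulAction.exists_smul_eq G P P1
    have hconj : ∀ y ∈ P, g * y * g⁻¹ ∈ g • P := by
      intro y hy
      exact ⟨y, hy, by simp⟩
    obtain ⟨z, hz, hzx⟩ := hx1
    have hzx' : g * z * g⁻¹ = x := by simpa using hzx
    subst hzx'
    have hzc : ∀ y ∈ P, y * z = z * y := by
      intro y hy
      have h := hc1 _ (hconj y hy)
      simpa [mul_assoc] using congrArg (fun t => g⁻¹ * t * g) h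
    have hzb : π z ∈ Pb := ⟨z, hz, rfl⟩
    have hxb : π (g * z * g⁻¹) ∈ Pb := ⟨_, hx, rfl⟩
    obtain ⟨nb, hnb, heq⟩ := Pb.conj_eq_normalizer_conj_of_mem (π z) ((π g)⁻¹) hzb
      (by simpa [map_mul, map_inv] using hxb)
    obtain ⟨n, rfl⟩ := hs nb
    -- move `n⁻¹` into the normalizer of `P`
    have hsub : ((n⁻¹ • P : Sylow p G) : Subgroup G) ≤ (P : Subgroup G) ⊔ N := by
      rintro _ ⟨y, hy, rfl⟩
      have hh := (Subgroup.mem_set_normalizer_iff.1 ((Subgroup.normalizer _).inv_mem hnb) (π y)).1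
        ⟨y, hy, rfl⟩
      obtain ⟨y', hy', he⟩ := hh
      have he' : π y' = π (n⁻¹ * y * n) := by simpa [map_mul, map_inv] using he
      have hN' : y'⁻¹ * (n⁻¹ * y * n) ∈ N := (QuotientGroup.eq).1 he'
      have : n⁻¹ * y * n ∈ (P : Subgroup G) ⊔ N := by
        rw [← mul_inv_cancel_left y' (n⁻¹ * y * n)]
        exact mul_mem (Subgroup.mem_sup_left hy') (Subgroup.mem_sup_right hN')
      simpa using this
    obtain ⟨⟨m, hm⟩, hmm⟩ := MulAction.exists_smul_eq (↥((P : Subgroup G) ⊔ N))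
      (P.subtype le_sup_left) ((n⁻¹ • P).subtype hsub)
    simp_rw [Sylow.smul_subtype, Subgroup.smul_def] at hmm
    have hmm' : m • P = n⁻¹ • P := Sylow.subtype_injective hmm
    set n' := m⁻¹ * n⁻¹ with hn'
    have hn'P : n' • P = P := by rw [hn', mul_smul, ← hmm', inv_smul_smul]
    have hn'c : ∀ y ∈ P, n' * y * n'⁻¹ ∈ P := fun y hy => by
      have : n' * y * n'⁻¹ ∈ n' • P := ⟨y, hy, by simp⟩
      rwa [hn'P] at this
    have hn'c' : ∀ y ∈ P, n'⁻¹ * y * n' ∈ P := fun y hy => by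
      rw [← hn'P] at hy
      obtain ⟨u, hu, rfl⟩ := hy
      simpa [mul_assoc] using hu
    refine ⟨n' * z * n'⁻¹, hn'c z hz, ?_, ?_⟩
    · intro y hy
      have h := congrArg (fun t => n' * t * n'⁻¹) (hzc _ (hn'c' y hy))
      simpa [mul_assoc] using h
    · rw [← QuotientGroup.eq]
      show π (n' * z * n'⁻¹) = π (g * z * g⁻¹)
      have hmP : π m ∈ Pb := by
        have h1 : Subgroup.map π ((P : Subgroup G) ⊔ N) = Pb := by
          rw [Subgroup.map_sup, QuotientGroup.map_mk'_self, sup_bot_eq]; rfl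
        have := Subgroup.mem_map_of_mem π hm
        rwa [h1] at this
      have e1 : π (g * z * g⁻¹) = (π n)⁻¹ * π z * π n := by
        rw [← heq]; simp [map_mul, map_inv]
      have e2 : π (n' * z * n'⁻¹) = (π m)⁻¹ * ((π n)⁻¹ * π z * π n) * π m := by
        simp [hn', map_mul, map_inv, mul_assoc]
      rw [e2, ← e1]
      have hcm := congrArg Subtype.val (mul_comm'
        (⟨_, Pb.1.inv_mem hmP⟩ : (Pb : Subgroup (G ⧸ N))) ⟨_, hxb⟩)
      simp only [Subgroup.coe_mul] at hcm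
      rw [hcm, inv_mul_cancel_right]
  apply hP
  refine ⟨⟨fun ⟨a, ha⟩ ⟨b, hb'⟩ => Subtype.ext ?_⟩⟩
  show a * b = b * a
  obtain ⟨u, hu, huc, hua⟩ := key a ha
  obtain ⟨v, hv, hvc, hvb⟩ := key b hb'
  have hab : (u⁻¹ * a) * (v⁻¹ * b) = (v⁻¹ * b) * (u⁻¹ * a) := by
    have hR : IsPGroup p ↥((P : Subgroup G).subgroupOf N) :=
      P.2.comap_of_injective N.subtype Subtype.val_injective
    have := comm_of_le_sylow habN hR
      (a := ⟨_, hua⟩) (b := ⟨_, hvb⟩)
      (P.1.mul_mem (P.1.inv_mem hu) ha) (P.1.mul_mem (P.1.inv_mem hv) hb')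
    exact congrArg Subtype.val this
  have cu : ∀ y ∈ P, Commute u y := fun y hy => (huc y hy).symm
  have cv : ∀ y ∈ P, Commute v y := fun y hy => (hvc y hy).symm
  have ha' : a = u * (u⁻¹ * a) := (mul_inv_cancel_left u a).symm
  have hb'' : b = v * (v⁻¹ * b) := (mul_inv_cancel_left v b).symm
  have c1 : Commute u v := cu v hv
  have c2 : Commute u (v⁻¹ * b) := cu _ (P.1.mul_mem (P.1.inv_mem hv) hb')
  have c3 : Commute (u⁻¹ * a) v := (cv _ (P.1.mul_mem (P.1.inv_mem hu) ha)).symm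
  have c4 : Commute (u⁻¹ * a) (v⁻¹ * b) := hab
  have : Commute (u * (u⁻¹ * a)) (v * (v⁻¹ * b)) :=
    (c1.mul_left c3).mul_right (c2.mul_left c4)
  rw [← ha', ← hb''] at this
  exact this

end Cfsg.Agent.S4354
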