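import Cfsg.Statements.S4358
import Mathlib

set_option maxHeartbeats 1000000
set_option maxRecDepth 8000

set_option autoImplicit false
open Cfsg
open scoped Pointwise

namespace Cfsg.Agent.S4358

section

open Matrix

variable {F : Type*} [Field F] {p : ℕ} [hp : Fact p.Prime]

/-- The monomial matrix with entries `d` on the shifted diagonal. -/
def mon (d : Fin p → F) (k : Fin p) : Matrix (Fin p) (Fin p) F :=
  Matrix.of fun i j => if j = i + k then d i else 0

theorem mon_apply (d : Fin p → F) (k i j : Fin p) : mon d k i j = if j = i + k then d i else 0 := rfl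

theorem mon_mul (d e : Fin p → F) (k l : Fin p) : mon d k * mon e l = mon (fun i => d i * e (i + k)) (k + l) := by
  ext i j
  rw [Matrix.mul_apply, Finset.sum_eq_single (i + k) (fun b _ hb => by rw [mon_apply, if_neg hb, zero_mul]) (by simp),
    mon_apply, if_pos rfl, mon_apply, mon_apply, add_assoc]
  split <;> simp

theorem mon_one : mon (fun _ => (1 : F)) 0 = (1 : Matrix (Fin p) (Fin p) F) := by
  ext i j
  rw [mon_apply, add_zero, Matrix.one_apply]
  by_cases h : i = j
  · rw [if_pos h.symm, if_pos h]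
  · rw [if_neg (Ne.symm h), if_neg h]

theorem mon_pow (d : Fin p → F) (k : Fin p) (n : ℕ) :
    ∃ e : Fin p → F, (mon d k) ^ n = mon e (n • k) ∧ ((∀ i, d i ^ p = 1) → ∀ i, e i ^ p = 1) := by
  induction n with
  | zero => exact ⟨fun _ => 1, by rw [pow_zero, zero_smul, mon_one], fun _ i => one_pow p⟩
  | succ n ih =>
    obtain ⟨e, he, he'⟩ := ih
    exact ⟨fun i => e i * d (i + n • k), by rw [pow_succ, he, mon_mul, succ_nsmul],
      fun h i => by rw [mul_pow, he' h, h, one_mul]⟩

theorem fin_generated {k : Fin p} (hk : k ≠ 0) (j : Fin p) : ∃ n : ℕ, n • k = j := by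
  have h := AddSubgroup.eq_bot_or_eq_top_of_prime_card (H := AddSubgroup.zmultiples k)
    (hp := ⟨by rw [Nat.card_fin]; exact hp.out⟩)
  rcases h with h | h
  · exact absurd (AddSubgroup.mem_bot.1 (h ▸ AddSubgroup.mem_zmultiples k)) hk
  · have : j ∈ AddSubgroup.zmultiples k := h ▸ AddSubgroup.mem_top j
    rw [mem_zmultiples_iff_mem_range_addOrderOf] at this
    obtain ⟨n, -, hn⟩ := Finset.mem_image.1 this
    exact ⟨n, hn⟩

theorem p_smul (k : Fin p) : p • k = 0 := by
  have h := card_nsmul_eq_zero' (G := Fin p) (x := k)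
  rwa [Nat.card_fin] at h

/-- The `p`-th power of a monomial matrix with nonzero shift is scalar. -/
theorem mon_pow_prime (d : Fin p → F) {k : Fin p} (hk : k ≠ 0) (hd : ∀ i, d i ^ p = 1) :
    ∃ c : F, c ^ p = 1 ∧ (mon d k) ^ p = c • (1 : Matrix (Fin p) (Fin p) F) := by
  obtain ⟨e, he, he'⟩ := mon_pow d k p
  rw [p_smul] at he
  have hcomm : mon d k * mon e 0 = mon e 0 * mon d k := by rw [← he]; exact (Commute.self_pow _ p).eq
  have hstep : ∀ i, e (i + k) = e i := fun i => by
    have h := congrFun (congrFun hcomm i) (i + k)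
    rw [mon_mul, mon_mul, mon_apply, mon_apply, if_pos (by rw [add_zero]), if_pos (by rw [zero_add]), add_zero, mul_comm (e i)] at h
    exact mul_left_cancel₀ (fun h0 => by have := hd i; rw [h0, zero_pow hp.out.ne_zero] at this; exact zero_ne_one this) h
  have hall : ∀ n : ℕ, e (n • k) = e 0 := by
    intro n
    induction n with
    | zero => rw [zero_smul]
    | succ n ih => rw [succ_nsmul, hstep, ih]
  refine ⟨e 0, he' hd 0, ?_⟩
  rw [he]
  ext i j
  rw [mon_apply, add_zero, Matrix.smul_apply, Matrix.one_apply, smul_eq_mul]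
  obtain ⟨n, rfl⟩ := fin_generated hk i
  by_cases h : n • k = j
  · rw [if_pos h.symm, if_pos h, mul_one, hall]
  · rw [if_neg (Ne.symm h), if_neg h, mul_zero]

theorem units_pow_eq_one {a : F} (h : a ^ p = 1) : a ≠ 0 := fun h0 => by
  rw [h0, zero_pow hp.out.ne_zero] at h; exact zero_ne_one h

/-- The monomial `p`-subgroup. -/
def monGroup [Fintype F] : Subgroup (Matrix.GeneralLinearGroup (Fin p) F) where
  carrier := {g | ∃ d k, (∀ i, d i ^ p = 1) ∧ (g : Matrix (Fin p) (Fin p) F) = mon d k}
  one_mem' := ⟨fun _ => 1, 0, fun _ => one_pow p, by rw [Units.val_one, mon_one]⟩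
  mul_mem' := by
    rintro g h ⟨d, k, hd, hg⟩ ⟨e, l, he, hh⟩
    exact ⟨fun i => d i * e (i + k), k + l, fun i => by rw [mul_pow, hd, he, one_mul], by rw [Units.val_mul, hg, hh, mon_mul]⟩
  inv_mem' := by
    rintro g ⟨d, k, hd, hg⟩
    have h : g⁻¹ = g ^ (orderOf g - 1) := by
      rw [eq_comm, ← mul_eq_one_iff_eq_inv, ← pow_succ, Nat.sub_add_cancel (orderOf_pos g), pow_orderOf_eq_one]
    obtain ⟨e, he, he'⟩ := mon_pow d k (orderOf g - 1)
    exact ⟨e, _, he' hd, by rw [h, Units.val_pow_eq_pow_val, hg, he]⟩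

/-- The monomial group has order `p ^ (p + 1)`. -/
theorem card_monGroup [Fintype F] (h1 : p ∣ Fintype.card F - 1) :
    Nat.card (monGroup (F := F) (p := p)) = p ^ (p + 1) := by
  classical
  let μ := (powMonoidHom p : Fˣ →* Fˣ).ker
  have hμ : Nat.card μ = p := by
    rw [IsCyclic.card_powMonoidHom_ker, Nat.card_units, Nat.card_eq_fintype_card, Nat.gcd_eq_right h1]
  have hval : ∀ z : μ, ((z : Fˣ) : F) ^ p = 1 := fun z => by rw [← Units.val_pow_eq_pow_val]; exact congrArg Units.val z.2
  let mk : (Fin p → μ) × Fin p → monGroup (F := F) (p := p) := fun x =>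
    let d : Fin p → F := fun i => ((x.1 i : Fˣ) : F)
    let e : Fin p → F := fun i => (((x.1 (i + -x.2))⁻¹ : μ) : Fˣ)
    have h1' : mon d x.2 * mon e (-x.2) = 1 := by
      rw [mon_mul, add_neg_cancel, ← mon_one]
      congr 1
      funext i
      show ((x.1 i : Fˣ) : F) * ((((x.1 (i + x.2 + -x.2))⁻¹ : μ) : Fˣ) : F) = 1
      rw [add_neg_cancel_right, ← Units.val_mul, ← Subgroup.coe_mul, mul_inv_cancel]
      rfl
    have h2' : mon e (-x.2) * mon d x.2 = 1 := by
      rw [mon_mul, neg_add_cancel, ← mon_one]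
      congr 1
      funext i
      show ((((x.1 (i + -x.2))⁻¹ : μ) : Fˣ) : F) * ((x.1 (i + -x.2) : Fˣ) : F) = 1
      rw [← Units.val_mul, ← Subgroup.coe_mul, inv_mul_cancel]
      rfl
    ⟨⟨mon d x.2, mon e (-x.2), h1', h2'⟩, d, x.2, fun i => hval _, rfl⟩
  have hinj : Function.Injective mk := fun x y h => by
    have h' : mon (fun i => ((x.1 i : Fˣ) : F)) x.2 = mon (fun i => ((y.1 i : Fˣ) : F)) y.2 :=
      congrArg Units.val (congrArg Subtype.val h)
    have hk : x.2 = y.2 := by
      have h0 := congrFun (congrFun h' 0) x.2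
      rw [mon_apply, mon_apply, if_pos (zero_add _).symm] at h0
      by_contra hne
      rw [if_neg (by rw [zero_add]; exact hne)] at h0
      exact Units.ne_zero _ h0
    refine Prod.ext (funext fun i => Subtype.ext (Units.ext ?_)) hk
    have h0 := congrFun (congrFun h' i) (i + x.2)
    rwa [mon_apply, mon_apply, if_pos rfl, hk, if_pos rfl] at h0
  have hsurj : Function.Surjective mk := by
    rintro ⟨g, d, k, hd, hg⟩
    refine ⟨(fun i => ⟨Units.mk0 (d i) (units_pow_eq_one (hd i)), Units.ext (by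
      show d i ^ p = 1
      exact hd i)⟩, k), Subtype.ext (Units.ext ?_)⟩
    exact hg.symm
  rw [← Nat.card_congr (Equiv.ofBijective mk ⟨hinj, hsurj⟩), Nat.card_prod, Nat.card_fun, hμ, Nat.card_fin, pow_succ]

theorem factorization_card_GL [Fintype F] (hp2 : p ≠ 2) (h1 : p ∣ Fintype.card F - 1)
    (h2 : ¬ p ^ 2 ∣ Fintype.card F - 1) :
    (Nat.card (Matrix.GeneralLinearGroup (Fin p) F)).factorization p = p + 1 := by
  have hq : 1 < Fintype.card F := Fintype.one_lt_card
  have hodd : Odd p := hp.out.odd_of_ne_two hp2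
  have hpq : ¬ p ∣ Fintype.card F := fun h => hp.out.one_lt.ne' (Nat.dvd_one.1 (by
    have := Nat.dvd_sub h h1
    rwa [Nat.sub_sub_self hq.le] at this))
  have hv : ∀ m : ℕ, m ≠ 0 → padicValNat p (Fintype.card F ^ m - 1) = 1 + padicValNat p m := fun m hm => by
    have h := padicValNat.pow_sub_pow (p := p) hodd (x := Fintype.card F) (y := 1) hq h1 hpq hm
    rw [one_pow] at h
    rw [h]
    congr 1
    refine le_antisymm ?_ (one_le_padicValNat_of_dvd (by omega) h1)
    by_contra hlt
    exact h2 ((pow_dvd_pow p (by omega : 2 ≤ padicValNat p (Fintype.card F - 1))).trans pow_padicValNat_dvd)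
  rw [Matrix.card_GL_field, Nat.factorization_prod (fun i _ => Nat.sub_ne_zero_of_lt (Nat.pow_lt_pow_right hq i.2)),
    Finsupp.finset_sum_apply]
  have hterm : ∀ i : Fin p, (Fintype.card F ^ p - Fintype.card F ^ (i : ℕ)).factorization p =
      1 + if i = 0 then 1 else 0 := fun i => by
    have e : Fintype.card F ^ p - Fintype.card F ^ (i : ℕ) =
        Fintype.card F ^ (i : ℕ) * (Fintype.card F ^ (p - (i : ℕ)) - 1) := by
      rw [Nat.mul_sub_one, ← pow_add, Nat.add_sub_cancel' i.2.le]
    have hne : Fintype.card F ^ (p - (i : ℕ)) - 1 ≠ 0 :=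
      Nat.sub_ne_zero_of_lt (Nat.one_lt_pow (Nat.sub_ne_zero_of_lt i.2) hq)
    rw [Nat.factorization_def _ hp.out, e, padicValNat.mul (pow_ne_zero _ (by omega)) hne,
      padicValNat.eq_zero_of_not_dvd (fun h => hpq (hp.out.dvd_of_dvd_pow h)), zero_add,
      hv _ (Nat.sub_ne_zero_of_lt i.2)]
    congr 1
    by_cases hi : i = 0
    · rw [if_pos hi, hi, Fin.val_zero, Nat.sub_zero, padicValNat_self]
    · rw [if_neg hi, padicValNat.eq_zero_of_not_dvd]
      intro h
      have h0 : (i : ℕ) ≠ 0 := fun h0 => hi (Fin.ext h0)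
      have := Nat.le_of_dvd (Nat.sub_pos_of_lt i.2) h
      omega
  rw [Finset.sum_congr rfl fun i _ => hterm i, Finset.sum_add_distrib, Finset.sum_const, Finset.card_univ, Fintype.card_fin,
    Finset.sum_ite_eq' Finset.univ (0 : Fin p) (fun _ => 1), if_pos (Finset.mem_univ _), smul_eq_mul, mul_one]

/-- A root of unity other than one. -/
theorem exists_root [Fintype F] (h1 : p ∣ Fintype.card F - 1) : ∃ ω : F, ω ^ p = 1 ∧ ω ≠ 1 := by
  classical
  obtain ⟨u, hu⟩ := exists_prime_orderOf_dvd_card' (G := Fˣ) p (by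
    rw [Nat.card_units, Nat.card_eq_fintype_card]; exact h1)
  refine ⟨u, by rw [← Units.val_pow_eq_pow_val, ← hu, pow_orderOf_eq_one, Units.val_one], fun e => ?_⟩
  rw [Units.val_eq_one] at e
  rw [e, orderOf_one] at hu
  exact hp.out.one_lt.ne hu

/-- A diagonal probe of nonzero trace separating two indices. -/
theorem exists_probe [Fintype F] (hp2 : p ≠ 2) (h1 : p ∣ Fintype.card F - 1) {a b : Fin p} (hab : a ≠ b) :
    ∃ e : Fin p → F, (∀ i, e i ^ p = 1) ∧ (∑ i, e i) ≠ 0 ∧ e a ≠ e b := by
  classical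
  obtain ⟨ω, hω, hω1⟩ := exists_root (F := F) h1
  have hω2 : (ω ^ 2) ^ p = 1 := by rw [← pow_mul, mul_comm, pow_mul, hω, one_pow]
  have hω21 : ω ^ 2 ≠ 1 := fun h => hω1 (by
    have := pow_gcd_eq_one.2 ⟨h, hω⟩
    rwa [show Nat.gcd 2 p = 1 from (Nat.coprime_primes Nat.prime_two hp.out).2 (Ne.symm hp2), pow_one] at this)
  have hωω : ω ^ 2 ≠ ω := fun h => hω1 (mul_left_cancel₀ (units_pow_eq_one hω) (by rw [mul_one, ← pow_two]; exact h))
  have hsum : ∀ w : F, ∑ i, (if i = a then w else (1 : F)) = w + ((p - 1 : ℕ) : F) := fun w => by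
    rw [← Finset.add_sum_erase _ _ (Finset.mem_univ a), if_pos rfl,
      Finset.sum_congr rfl (fun i hi => if_neg (Finset.ne_of_mem_erase hi)), Finset.sum_const,
      Finset.card_erase_of_mem (Finset.mem_univ a), Finset.card_univ, Fintype.card_fin, nsmul_one]
  obtain ⟨w, hw, hw1, hw2⟩ : ∃ w : F, w ^ p = 1 ∧ w ≠ 1 ∧ w + ((p - 1 : ℕ) : F) ≠ 0 := by
    by_cases h : ω + ((p - 1 : ℕ) : F) = 0
    · exact ⟨ω ^ 2, hω2, hω21, fun h' => hωω (add_right_cancel (h'.trans h.symm))⟩
    · exact ⟨ω, hω, hω1, h⟩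
  refine ⟨fun i => if i = a then w else 1, fun i => ?_, by rw [hsum]; exact hw2, ?_⟩
  · show (if i = a then w else (1 : F)) ^ p = 1
    by_cases hi : i = a
    · rw [if_pos hi, hw]
    · rw [if_neg hi, one_pow]
  · show (if a = a then w else (1 : F)) ≠ if b = a then w else 1
    rw [if_pos rfl, if_neg (Ne.symm hab)]
    exact hw1

/-- A unit with a row having two nonzero entries does not normalise the monomial group. -/
theorem exists_moved [Fintype F] (hp2 : p ≠ 2) (h1 : p ∣ Fintype.card F - 1)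
    (g : Matrix.GeneralLinearGroup (Fin p) F) {i a b : Fin p} (hab : a ≠ b)
    (ha : (g : Matrix (Fin p) (Fin p) F) i a ≠ 0) (hb : (g : Matrix (Fin p) (Fin p) F) i b ≠ 0) :
    ∃ e ∈ monGroup (F := F) (p := p), g * e * g⁻¹ ∉ monGroup (F := F) (p := p) := by
  classical
  obtain ⟨e, he, htr, hne⟩ := exists_probe (F := F) hp2 h1 hab
  have hinv : ∀ j, e j * (e j)⁻¹ = 1 := fun j => mul_inv_cancel₀ (units_pow_eq_one (he j))
  let E : Matrix.GeneralLinearGroup (Fin p) F := ⟨mon e 0, mon (fun j => (e j)⁻¹) 0,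
    by rw [mon_mul, add_zero, ← mon_one]; congr 1; funext j; rw [add_zero, hinv],
    by rw [mon_mul, add_zero, ← mon_one]; congr 1; funext j; rw [add_zero, mul_comm, hinv]⟩
  refine ⟨E, ⟨e, 0, he, rfl⟩, ?_⟩
  rintro ⟨f, l, hf, hfl⟩
  have hl : l = 0 := by
    by_contra hl
    have h := congrArg Matrix.trace hfl
    rw [Units.val_mul, Units.val_mul, Matrix.trace_mul_cycle, ← Units.val_mul, inv_mul_cancel, Units.val_one, one_mul] at h
    refine htr ?_
    have hE : Matrix.trace (E : Matrix (Fin p) (Fin p) F) = ∑ j, e j :=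
      Finset.sum_congr rfl fun j _ => by
        show mon e 0 j j = e j
        rw [mon_apply, if_pos (add_zero j).symm]
    rw [← hE, h]
    exact Finset.sum_eq_zero fun j _ => by
      show mon f l j j = 0
      rw [mon_apply, if_neg (fun e' => hl (left_eq_add.1 e'))]
  subst hl
  have h : (g : Matrix (Fin p) (Fin p) F) * mon e 0 = mon f 0 * (g : Matrix (Fin p) (Fin p) F) := by
    rw [← hfl, ← Units.val_mul, inv_mul_cancel_right, Units.val_mul]
  have key : ∀ j, (g : Matrix (Fin p) (Fin p) F) i j ≠ 0 → e j = f i := fun j hj => by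
    have h' := congrFun (congrFun h i) j
    rw [Matrix.mul_apply, Finset.sum_eq_single j (fun c _ hc => by
        rw [mon_apply, add_zero, if_neg (Ne.symm hc), mul_zero]) (by simp),
      mon_apply, if_pos (add_zero j).symm, Matrix.mul_apply, Finset.sum_eq_single i (fun c _ hc => by
        rw [mon_apply, add_zero, if_neg hc, zero_mul]) (by simp), mon_apply, if_pos (add_zero i).symm,
      mul_comm (f i)] at h'
    exact mul_left_cancel₀ hj h'
  exact hne ((key a ha).trans (key b hb).symm)

theorem exists_unit (A B : Matrix (Fin p) (Fin p) F) (h : A * B = 1) :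
    ∃ g : Matrix.GeneralLinearGroup (Fin p) F, (g : Matrix (Fin p) (Fin p) F) = A :=
  ⟨⟨A, B, h, mul_eq_one_comm.1 h⟩, rfl⟩

/-- Every element of the monomial group lies in a conjugate moved by a suitable unit. -/
theorem exists_mover [Fintype F] (hp2 : p ≠ 2) (h1 : p ∣ Fintype.card F - 1)
    (x : Matrix.GeneralLinearGroup (Fin p) F) (hx : x ∈ monGroup (F := F) (p := p)) :
    ∃ g : Matrix.GeneralLinearGroup (Fin p) F, (∃ y ∈ monGroup (F := F) (p := p), g * y = x * g) ∧
      ∃ e ∈ monGroup (F := F) (p := p), g * e * g⁻¹ ∉ monGroup (F := F) (p := p) := by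
  classical
  obtain ⟨d, k, hd, hxd⟩ := hx
  by_cases hk : k = 0
  · subst hk
    by_cases hrep : ∀ i j, d i = d j → i = j
    · -- distinct eigenvalues: conjugate to a permutation matrix
      let Vm : Matrix (Fin p) (Fin p) F := Matrix.vandermonde d
      have hdet : Vm.det ≠ 0 := Matrix.det_vandermonde_ne_zero_iff.2 hrep
      let g := Matrix.GeneralLinearGroup.mkOfDetNeZero Vm hdet
      have hg : (g : Matrix (Fin p) (Fin p) F) = Vm := rfl
      have hperm : mon (fun _ => (1 : F)) (-1 : Fin p) * mon (fun _ => (1 : F)) 1 = 1 := by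
        rw [mon_mul, neg_add_cancel, ← mon_one]; simp
      obtain ⟨S, hS⟩ := exists_unit _ _ hperm
      refine ⟨g, ⟨S, ⟨fun _ => 1, -1, fun _ => one_pow p, hS⟩, Units.ext ?_⟩, ?_⟩
      · rw [Units.val_mul, Units.val_mul, hS, hxd, hg]
        ext i j
        rw [Matrix.mul_apply, Matrix.mul_apply, Finset.sum_eq_single (j + 1) (fun c _ hc => by
            rw [mon_apply, if_neg (fun e => hc (by rw [e]; exact (neg_add_cancel_right c 1).symm)), mul_zero]) (by simp),
          mon_apply, if_pos (add_neg_cancel_right j 1).symm, mul_one,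
          Finset.sum_eq_single i (fun c _ hc => by rw [mon_apply, add_zero, if_neg hc, zero_mul]) (by simp),
          mon_apply, if_pos (add_zero i).symm]
        show d i ^ ((j + 1 : Fin p) : ℕ) = d i * d i ^ (j : ℕ)
        rw [Fin.val_add, Fin.val_one', Nat.add_mod_mod, ← pow_eq_pow_mod _ (hd i), pow_succ']
      · refine exists_moved hp2 h1 g (i := 0) (a := 0) (b := 1) (fun e => ?_) ?_ ?_
        · have := congrArg Fin.val e
          rw [Fin.val_zero, Fin.val_one', Nat.mod_eq_of_lt hp.out.one_lt] at this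
          exact zero_ne_one this
        · show d 0 ^ ((0 : Fin p) : ℕ) ≠ 0
          exact pow_ne_zero _ (units_pow_eq_one (hd 0))
        · show d 0 ^ ((1 : Fin p) : ℕ) ≠ 0
          exact pow_ne_zero _ (units_pow_eq_one (hd 0))
    · -- a repeated eigenvalue: a transvection
      push Not at hrep
      obtain ⟨i, j, hij, hne⟩ := hrep
      obtain ⟨g, hg⟩ := exists_unit (Matrix.transvection i j (1 : F)) (Matrix.transvection i j (-1 : F))
        (by rw [Matrix.transvection_mul_transvection_same i j hne, add_neg_cancel, Matrix.transvection_zero])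
      refine ⟨g, ⟨x, ⟨d, 0, hd, hxd⟩, Units.ext ?_⟩, exists_moved hp2 h1 g (i := i) (a := i) (b := j) hne ?_ ?_⟩
      · rw [Units.val_mul, Units.val_mul, hg, hxd]
        ext r c
        rw [Matrix.mul_apply, Matrix.mul_apply, Finset.sum_eq_single c (fun u _ hu => by
            rw [mon_apply, add_zero, if_neg (Ne.symm hu), mul_zero]) (by simp),
          mon_apply, if_pos (add_zero c).symm, Finset.sum_eq_single r (fun u _ hu => by
            rw [mon_apply, add_zero, if_neg hu, zero_mul]) (by simp), mon_apply, if_pos (add_zero r).symm]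
        simp only [Matrix.transvection, Matrix.add_apply, Matrix.one_apply, Matrix.single_apply]
        by_cases hrc : r = c
        · subst hrc; exact mul_comm _ _
        · rw [if_neg hrc, zero_add]
          by_cases hh : i = r ∧ j = c
          · obtain ⟨rfl, rfl⟩ := hh
            rw [if_pos ⟨rfl, rfl⟩, one_mul, mul_one, hij]
          · rw [if_neg hh, zero_mul, mul_zero]
      · rw [hg]; simp [Matrix.transvection, Matrix.one_apply, hne, hne.symm]
      · rw [hg]; simp [Matrix.transvection, Matrix.one_apply, hne, hne.symm]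
  obtain ⟨c, hc, hxp⟩ := mon_pow_prime d hk hd
  have hk' : (0 : Fin p) ≠ k := Ne.symm hk
  by_cases hc1 : c = 1
  swap
  · -- no eigenvalue minus one
    have hc' : (1 : F) + c ≠ 0 := fun h0 => hc1 (by
      have e : c = -1 := eq_neg_of_add_eq_zero_right h0
      have h := hc
      rw [e, (hp.out.odd_of_ne_two hp2).neg_one_pow] at h
      rw [e, h])
    have h := mul_neg_geom_sum (-(mon d k)) p
    rw [sub_neg_eq_add, (hp.out.odd_of_ne_two hp2).neg_pow, hxp, sub_neg_eq_add] at h
    obtain ⟨g, hg⟩ := exists_unit (1 + mon d k) ((1 + c)⁻¹ • ∑ i ∈ Finset.range p, (-(mon d k)) ^ i) (by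
      rw [Matrix.mul_smul, h, smul_add, smul_smul, ← add_smul]
      nth_rw 1 [← mul_one (1 + c)⁻¹]
      rw [← mul_add, inv_mul_cancel₀ hc', one_smul])
    refine ⟨g, ⟨x, ⟨d, k, hd, hxd⟩, Units.ext ?_⟩, exists_moved hp2 h1 g (i := 0) (a := 0) (b := k) hk' ?_ ?_⟩
    · rw [Units.val_mul, Units.val_mul, hg, hxd, add_mul, mul_add, one_mul, mul_one]
    · rw [hg, Matrix.add_apply, Matrix.one_apply, if_pos rfl, mon_apply, if_neg (by rw [zero_add]; exact hk'), add_zero]
      exact one_ne_zero
    · rw [hg, Matrix.add_apply, Matrix.one_apply, if_neg hk', zero_add, mon_apply, if_pos (zero_add k).symm]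
      exact units_pow_eq_one (hd 0)
  -- eigenvalue one occurs: add a multiple of the norm
  rw [hc1, one_smul] at hxp
  let J : Matrix (Fin p) (Fin p) F := ∑ n ∈ Finset.range p, (mon d k) ^ n
  have hJx : J * mon d k = J := by
    have h := geom_sum_mul (mon d k) p
    rw [hxp, sub_self, mul_sub, mul_one, sub_eq_zero] at h
    exact h
  have hxJ : mon d k * J = J := by
    have h := mul_geom_sum (mon d k) p
    rw [hxp, sub_self, sub_mul, one_mul, sub_eq_zero] at h
    exact h
  have hJpow : ∀ n : ℕ, J * (mon d k) ^ n = J := fun n => by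
    induction n with
    | zero => rw [pow_zero, mul_one]
    | succ n ih => rw [pow_succ, ← mul_assoc, ih, hJx]
  have hJJ : J * J = (p : F) • J := by
    show J * ∑ n ∈ Finset.range p, (mon d k) ^ n = _
    rw [Finset.mul_sum, Finset.sum_congr rfl fun n _ => hJpow n, Finset.sum_const, Finset.card_range, Nat.cast_smul_eq_nsmul]
  have hJentry : ∀ m : ℕ, m < p → ∀ n ∈ Finset.range p, n ≠ m → ((mon d k) ^ n) 0 (m • k) = 0 := fun m hm n hn hne => by
    obtain ⟨e, he, -⟩ := mon_pow d k n
    rw [he, mon_apply, if_neg]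
    rw [zero_add]
    intro h
    have hadd : addOrderOf k = p := addOrderOf_eq_prime (p_smul k) hk
    have := (nsmul_eq_nsmul_iff_modEq).1 h
    rw [hadd] at this
    exact hne (Nat.ModEq.eq_of_lt_of_lt this hm (Finset.mem_range.1 hn)).symm
  have hJ0 : J 0 0 = 1 := by
    show (∑ n ∈ Finset.range p, (mon d k) ^ n) 0 0 = 1
    rw [Matrix.sum_apply, Finset.sum_eq_single 0 (fun n hn hne => by
      have := hJentry 0 hp.out.pos n hn hne
      rwa [zero_smul] at this) (by simp [hp.out.pos.ne']), pow_zero, Matrix.one_apply, if_pos rfl]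
  have hJk : J 0 k = d 0 := by
    show (∑ n ∈ Finset.range p, (mon d k) ^ n) 0 k = d 0
    rw [Matrix.sum_apply, Finset.sum_eq_single 1 (fun n hn hne => by
      have := hJentry 1 hp.out.one_lt n hn hne
      rwa [one_smul] at this) (by simp [hp.out.one_lt]), pow_one, mon_apply, if_pos (zero_add k).symm]
  obtain ⟨β, hβ0, hβ1, hβp⟩ : ∃ β : F, β ≠ 0 ∧ 1 + β ≠ 0 ∧ 1 + (p : F) * β ≠ 0 := by
    by_contra hno
    push Not at hno
    have hp0 : (p : F) ≠ 0 := fun h0 => by
      have hd' : ringChar F ∣ p := (ringChar.spec F p).1 h0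
      have hd2 : ringChar F ∣ Fintype.card F := (ringChar.spec F _).1 (Nat.cast_card_eq_zero F)
      rcases hp.out.eq_one_or_self_of_dvd _ hd' with e | e
      · exact CharP.ringChar_ne_one e
      · rw [e] at hd2
        have hle : 1 ≤ Fintype.card F := Fintype.card_pos
        have := Nat.dvd_sub hd2 h1
        rw [Nat.sub_sub_self hle] at this
        exact hp.out.one_lt.ne' (Nat.dvd_one.1 this)
    have hsub : (Finset.univ : Finset F) ⊆ {0, -1, -(p : F)⁻¹} := fun β _ => by
      simp only [Finset.mem_insert, Finset.mem_singleton]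
      by_cases h0 : β = 0
      · exact Or.inl h0
      by_cases h1' : 1 + β = 0
      · exact Or.inr (Or.inl (eq_neg_of_add_eq_zero_right h1'))
      · refine Or.inr (Or.inr ?_)
        have h := eq_neg_of_add_eq_zero_right (hno β h0 h1')
        rw [← mul_right_inj' hp0, h, mul_neg, mul_inv_cancel₀ hp0]
    have h3 := (Finset.card_le_card hsub).trans Finset.card_le_three
    rw [Finset.card_univ] at h3
    have := Nat.le_of_dvd (by have := Fintype.one_lt_card (α := F); omega) h1
    have hp3 : 3 ≤ p := by have := hp.out.two_le; omega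
    omega
  let γ : F := -β / (1 + (p : F) * β)
  obtain ⟨g, hg⟩ := exists_unit (1 + β • J) (1 + γ • J) (by
    rw [add_mul, one_mul, mul_add, mul_one, Matrix.smul_mul, Matrix.mul_smul, hJJ, smul_smul, smul_smul, add_assoc, ← add_assoc (γ • J),
      ← add_smul, ← add_smul, show γ + β + β * γ * (p : F) = 0 by
        have key : γ * (1 + (p : F) * β) = -β := div_mul_cancel₀ _ hβp
        linear_combination key, zero_smul, add_zero])
  refine ⟨g, ⟨x, ⟨d, k, hd, hxd⟩, Units.ext ?_⟩, exists_moved hp2 h1 g (i := 0) (a := 0) (b := k) hk' ?_ ?_⟩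
  · rw [Units.val_mul, Units.val_mul, hg, hxd, add_mul, mul_add, Matrix.smul_mul, Matrix.mul_smul, hJx, hxJ, one_mul, mul_one]
  · rw [hg, Matrix.add_apply, Matrix.one_apply, if_pos rfl, Matrix.smul_apply, hJ0, smul_eq_mul, mul_one]
    exact hβ1
  · rw [hg, Matrix.add_apply, Matrix.one_apply, if_neg hk', Matrix.smul_apply, hJk, smul_eq_mul, zero_add]
    exact mul_ne_zero hβ0 (units_pow_eq_one (hd 0))

end


/-- Let p be an odd prime and F a finite field with q elements such that p divides q - 1 but p² does not. Then GL(p, F) has a Sylow p-subgroup Q such that every element of p-power order lies in some Sylow p-subgroup other than Q (a redundant Sylow p-subgroup). -/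
theorem result {F : Type*} [Field F] [Fintype F] (p : ℕ) [Fact p.Prime]
    (hp : p ≠ 2) (h1 : p ∣ Fintype.card F - 1) (h2 : ¬ p ^ 2 ∣ Fintype.card F - 1) :
    ∃ Q : Sylow p (Matrix.GeneralLinearGroup (Fin p) F), ∀ x : Matrix.GeneralLinearGroup (Fin p) F,
      (∃ k : ℕ, orderOf x = p ^ k) → ∃ P : Sylow p (Matrix.GeneralLinearGroup (Fin p) F), P ≠ Q ∧ x ∈ P := by

  classical
  let Q0 : Subgroup (Matrix.GeneralLinearGroup (Fin p) F) := monGroup
  have hcard : Nat.card Q0 = p ^ (Nat.card (Matrix.GeneralLinearGroup (Fin p) F)).factorization p := by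
    rw [factorization_card_GL hp h1 h2]; exact card_monGroup h1
  refine ⟨Sylow.ofCard Q0 hcard, fun x hx => ?_⟩
  by_cases hxQ : x ∈ Q0
  swap
  · obtain ⟨k, hk⟩ := hx
    obtain ⟨P, hP⟩ := (IsPGroup.of_card (show Nat.card (Subgroup.zpowers x) = p ^ k by rw [Nat.card_zpowers, hk])).exists_le_sylow
    refine ⟨P, fun e => hxQ ?_, hP (Subgroup.mem_zpowers x)⟩
    have := hP (Subgroup.mem_zpowers x)
    rwa [e, Sylow.coe_ofCard] at this
  -- move `Q` by a unit
  obtain ⟨g, ⟨y, hy, hgy⟩, e, heQ, hge⟩ := exists_mover hp h1 x hxQ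
  refine ⟨g • Sylow.ofCard Q0 hcard, fun he => hge ?_, ?_⟩
  · have h' := congrArg (fun P : Sylow p _ => (P : Subgroup (Matrix.GeneralLinearGroup (Fin p) F))) he
    simp only [Sylow.coe_ofCard] at h'
    show g * e * g⁻¹ ∈ Q0
    rw [← h']
    show g * e * g⁻¹ ∈ MulAut.conj g • Q0
    exact ⟨e, heQ, rfl⟩
  · show x ∈ MulAut.conj g • Q0
    exact ⟨y, hy, by
      show g * y * g⁻¹ = x
      rw [hgy, mul_inv_cancel_right]⟩

end Cfsg.Agent.S4358
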