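import Cfsg.Statements.S4359
import Cfsg.Agent.Lib.Grp.Coprime
import Cfsg.Agent.Lib.Grp.Basic

set_option maxHeartbeats 1000000
set_option maxRecDepth 8000

set_option autoImplicit false
open Pointwise
open Cfsg

namespace Cfsg.Agent.S4359

open Cfsg.Agent Subgroup
open scoped Pointwise commutatorElement

section
universe u
variable {G : Type u} [Group G]

/-- Commutation facts for a doubly infinite sequence of elements of prime order. -/
structure Seq (y : ℤ → G) (p r t : ℕ) : Prop where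
  pow : ∀ i, y i ^ p = 1
  comm : ∀ i j : ℤ, i ≤ j → j < i + r → y i * y j = y j * y i
  ncomm : ∀ i : ℤ, y i * y (i + r) ≠ y (i + r) * y i
  rel : ∀ a b : ℤ, a < b → b < a + t → ⁅y a, y b⁆ ∈ closure (y '' Set.Ioo a b)

variable {y : ℤ → G} {p r t : ℕ}

theorem Seq.comm' (h : Seq y p r t) {i j : ℤ} (h1 : i < j + r) (h2 : j < i + r) : y i * y j = y j * y i := by
  rcases le_total i j with e | e
  · exact h.comm i j e h2
  · exact (h.comm j i e h1).symm

/-- Elements of two ranges commute when every difference is less than `r`. -/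
theorem Seq.comm_closure (h : Seq y p r t) {A B : Set ℤ} (hd : ∀ i ∈ A, ∀ j ∈ B, i < j + r ∧ j < i + r)
    {a b : G} (ha : a ∈ closure (y '' A)) (hb : b ∈ closure (y '' B)) : a * b = b * a := by
  have : closure (y '' A) ≤ centralizer (y '' B) := by
    rw [closure_le]
    rintro _ ⟨i, hi, rfl⟩
    refine mem_centralizer_iff.2 ?_
    rintro _ ⟨j, hj, rfl⟩
    exact (h.comm' (hd i hi j hj).1 (hd i hi j hj).2).symm
  have h2 := this ha
  rw [← centralizer_closure] at h2
  exact (mem_centralizer_iff.1 h2 b hb).symm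

theorem Seq.low_step (h : Seq y p r t) (hp : p.Prime) (a u : ℤ) (hau : a < u) (hur : u < a + r) (hut : u + r < a + t)
    (hc : ⁅y a, y (a + r)⁆ ∈ closure (y '' Set.Ico u (a + r))) :
    ⁅y a, y (a + r)⁆ ∈ closure (y '' Set.Ico (u + 1) (a + r)) := by
  set b := a + (r : ℤ) with hb
  set c := ⁅y a, y b⁆ with hcd
  set W := closure (y '' Set.Ico (u + 1) b) with hW
  -- split off the lowest generator
  have hle : closure (y '' Set.Ico u b) ≤ zpowers (y u) ⊔ W := by
    rw [closure_le]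
    rintro _ ⟨i, hi, rfl⟩
    rcases eq_or_lt_of_le hi.1 with e | e
    · exact Subgroup.mem_sup_left (e ▸ mem_zpowers _)
    · exact Subgroup.mem_sup_right (subset_closure ⟨i, ⟨e, hi.2⟩, rfl⟩)
  have hnorm : zpowers (y u) ≤ normalizer (W : Set G) := by
    rw [zpowers_le]
    refine centralizer_le_normalizer (W : Set G) (mem_centralizer_iff.2 fun w hw => ?_)
    exact h.comm_closure (A := Set.Ico (u + 1) b) (B := {u}) (fun i hi j hj => by
      rw [Set.mem_singleton_iff.1 hj]; exact ⟨by have := hi.1; have := hi.2; omega, by have := hi.1; have := hi.2; omega⟩)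
      hw (subset_closure ⟨u, rfl, rfl⟩)
  have hc' : c ∈ ((zpowers (y u) ⊔ W : Subgroup G) : Set G) := hle hc
  rw [Subgroup.coe_mul_of_left_le_normalizer_right _ _ hnorm] at hc'
  obtain ⟨_, ⟨e, rfl⟩, w, hw, he⟩ := hc'
  set z := y (u + r) with hz
  have hzb : z * y b = y b * z := h.comm' (by omega) (by omega)
  set k := ⁅z, y a⁆ with hk
  have hkW : k ∈ closure (y '' Set.Ioo a (u + r)) := by
    rw [hk, ← commutatorElement_inv]
    exact inv_mem (h.rel a (u + r) (by omega) (by omega))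
  have hkb : k * y b = y b * k := h.comm_closure (B := {b}) (fun i hi j hj => by
    rw [Set.mem_singleton_iff.1 hj]; exact ⟨by have := hi.1; have := hi.2; omega, by have := hi.1; have := hi.2; omega⟩)
    hkW (subset_closure ⟨b, rfl, rfl⟩)
  have hkc : k * c = c * k := h.comm_closure (fun i hi j hj => by
    exact ⟨by have := hi.1; have := hi.2; have := hj.1; have := hj.2; omega, by have := hi.1; have := hi.2; have := hj.1; have := hj.2; omega⟩)
    hkW hc
  have hzc : z * c = c * z := by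
    refine mul_inv_eq_iff_eq_mul.1 ?_
    calc z * c * z⁻¹ = (z * y a * z⁻¹) * (z * y b * z⁻¹) * (z * y a * z⁻¹)⁻¹ * (z * y b * z⁻¹)⁻¹ := by
          rw [hcd, commutatorElement_def]; group
      _ = (k * y a) * y b * (k * y a)⁻¹ * (y b)⁻¹ := by
          rw [show z * y a * z⁻¹ = k * y a by rw [hk, commutatorElement_def]; group,
            show z * y b * z⁻¹ = y b by rw [hzb, mul_inv_cancel_right]]
      _ = k * c * (y b * k⁻¹ * (y b)⁻¹) := by rw [hcd, commutatorElement_def]; group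
      _ = k * c * k⁻¹ := by
          rw [show y b * k⁻¹ = k⁻¹ * y b from ((show Commute k (y b) from hkb).inv_left).eq.symm, mul_inv_cancel_right]
      _ = c := by rw [hkc, mul_inv_cancel_right]
  have hzw : z * w = w * z := (h.comm_closure (A := Set.Ico (u + 1) b) (B := {u + (r : ℤ)}) (fun i hi j hj => by
    rw [Set.mem_singleton_iff.1 hj]; exact ⟨by have := hi.1; have := hi.2; omega, by have := hi.1; have := hi.2; omega⟩)
    hw (subset_closure ⟨_, rfl, rfl⟩)).symm
  have hze : Commute z (y u ^ e) := by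
    have h1 : y u ^ e = c * w⁻¹ := by rw [← he]; show _ = y u ^ e * w * w⁻¹; group
    rw [h1]
    exact (show Commute z c from hzc).mul_right (show Commute z w from hzw).inv_right
  by_cases hpe : (p : ℤ) ∣ e
  · obtain ⟨m, rfl⟩ := hpe
    rw [← he]
    show y u ^ ((p : ℤ) * m) * w ∈ W
    rw [zpow_mul, zpow_natCast, h.pow, one_zpow, one_mul]
    exact hw
  · exfalso
    have hco : IsCoprime e (p : ℤ) := by
      rw [Int.isCoprime_iff_gcd_eq_one]
      rcases (Nat.dvd_prime hp).1 (show Int.gcd e p ∣ p from by exact_mod_cast Int.gcd_dvd_right e (p : ℤ)) with h' | h'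
      · exact h'
      · exact absurd (h' ▸ Int.gcd_dvd_left e (p : ℤ)) hpe
    obtain ⟨α, β, hαβ⟩ := hco
    have : y u = (y u ^ e) ^ α := by
      conv_lhs => rw [← zpow_one (y u), ← hαβ]
      rw [zpow_add, zpow_mul', zpow_mul', zpow_natCast, h.pow, one_zpow, mul_one]
    have hcomm : Commute z (y u) := by rw [this]; exact hze.zpow_right α
    exact h.ncomm u hcomm.eq.symm

theorem Seq.low (h : Seq y p r t) (hp : p.Prime) (hrt : r < t) (a : ℤ) :
    ⁅y a, y (a + r)⁆ ∈ closure (y '' Set.Ico (a + t - r) (a + r)) := by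
  have key : ∀ n : ℕ, a + 1 + n ≤ a + t - r →
      ⁅y a, y (a + r)⁆ ∈ closure (y '' Set.Ico (a + 1 + n) (a + r)) := by
    intro n hn
    induction n with
    | zero =>
      have h1 := h.rel a (a + r) (by
        rcases Nat.eq_zero_or_pos r with e | e
        · subst e
          exact absurd (show y a * y (a + ((0 : ℕ) : ℤ)) = y (a + ((0 : ℕ) : ℤ)) * y a by rw [Nat.cast_zero, add_zero]) (h.ncomm a)
        · omega) (by omega)
      rwa [show Set.Ico (a + 1 + ((0 : ℕ) : ℤ)) (a + r) = Set.Ioo a (a + r) by ext i; simp only [Set.mem_Ico, Set.mem_Ioo, Nat.cast_zero, add_zero]; omega]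
    | succ n ih =>
      by_cases hu : a + 1 + (n : ℤ) < a + r
      · have := h.low_step hp a (a + 1 + n) (by omega) hu (by omega) (ih (by omega))
        rwa [show a + 1 + ((n + 1 : ℕ) : ℤ) = a + 1 + n + 1 by push_cast; ring]
      · have hih := ih (by omega)
        rw [show Set.Ico (a + 1 + (n : ℤ)) (a + r) = ∅ from Set.Ico_eq_empty (by omega), Set.image_empty,
          Subgroup.closure_empty, mem_bot] at hih
        rw [hih]
        exact one_mem _
  have := key (t - r - 1) (by omega)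
  rwa [show a + 1 + ((t - r - 1 : ℕ) : ℤ) = a + t - r by omega] at this

theorem Seq.flip (h : Seq y p r t) : Seq (fun i => y (-i)) p r t where
  pow i := h.pow _
  comm i j h1 h2 := (h.comm (-j) (-i) (by omega) (by omega)).symm
  ncomm i := by
    have := h.ncomm (-i - r)
    rw [show -i - (r : ℤ) + r = -i by ring, show -i - (r : ℤ) = -(i + r) by ring] at this
    exact this.symm
  rel a b h1 h2 := by
    have := h.rel (-b) (-a) (by omega) (by omega)
    rw [← commutatorElement_inv]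
    refine inv_mem ?_
    refine closure_mono ?_ this
    rintro _ ⟨i, hi, rfl⟩
    exact ⟨-i, ⟨by have := hi.2; omega, by have := hi.1; omega⟩, by simp⟩

/-- The key inequality. -/
theorem Seq.two_mul_le (h : Seq y p r t) (hp : p.Prime) (hrt : r < t)
    (hdisj : ∀ m : ℤ, 0 < m → m < r → ∀ x : G, x ∈ closure (y '' Set.Ico 1 m) → x ∈ closure (y '' Set.Ico m r) → x = 1) :
    2 * t ≤ 3 * r := by
  by_contra hlt
  push Not at hlt
  have h1 := h.low hp hrt 0
  simp only [zero_add] at h1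
  have h2 := h.flip.low hp hrt (-(r : ℤ))
  simp only [neg_neg, neg_add_cancel, neg_zero] at h2
  have h2' : ⁅y 0, y (r : ℤ)⁆ ∈ closure (y '' Set.Icc 1 (2 * (r : ℤ) - t)) := by
    rw [← commutatorElement_inv]
    refine inv_mem ?_
    refine closure_mono ?_ h2
    rintro _ ⟨i, hi, rfl⟩
    exact ⟨-i, ⟨by have := hi.2; omega, by have := hi.1; omega⟩, rfl⟩
  refine h.ncomm 0 ?_
  rw [zero_add, ← commutatorElement_eq_one_iff_mul_comm]
  by_cases hr : (r : ℤ) ≤ t - r
  · rw [show Set.Ico ((t : ℤ) - r) r = ∅ from Set.Ico_eq_empty (by omega), Set.image_empty, Subgroup.closure_empty, mem_bot] at h1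
    exact h1
  · refine hdisj (t - r) (by omega) (by omega) _ ?_ h1
    refine closure_mono (Set.image_mono fun i hi => ?_) h2'
    exact ⟨hi.1, by have := hi.2; omega⟩

variable [Finite G]

theorem hnorm {p : ℕ} (hp : p.Prime) {H M : Subgroup G} (hHM : H ≤ M) (hM : IsPGroup p M) (hi : H.relIndex M = p) :
    M ≤ normalizer (H : Set G) := by
  haveI := Fact.mk hp
  refine (normal_subgroupOf_iff_le_normalizer hHM).1 (normal_of_index_eq_minFac_card ?_)
  obtain ⟨m, hm⟩ := IsPGroup.iff_card.1 hM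
  rw [hm]
  have : m ≠ 0 := by
    rintro rfl
    have := (H.subgroupOf M).index_dvd_card
    rw [hm, pow_zero, show (H.subgroupOf M).index = p from hi, Nat.dvd_one] at this
    exact hp.ne_one this
  rw [hp.pow_minFac this]; exact hi


theorem chain (P : Subgroup G) (g : G) (p : ℕ) (hp : p.Prime)
    (hN : ((P ⊓ MulAut.conj g⁻¹ • P).subgroupOf (MulAut.conj g⁻¹ • P)).Normal)
    (hidx : (P ⊓ MulAut.conj g⁻¹ • P).relIndex (MulAut.conj g⁻¹ • P) = p)
    (h1 : ∀ Q : Subgroup G, Q ≤ P → (Q.subgroupOf P).Normal → MulAut.conj g • Q = Q → Q = ⊥) :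
    ∃ (J : ℕ → Subgroup G) (t : ℕ), J 0 = P ∧ (∀ k, J (k + 1) = P ⊓ MulAut.conj g⁻¹ • J k) ∧
      (∀ k x, x ∈ J k ↔ ∀ i ≤ k, g ^ i * x * (g ^ i)⁻¹ ∈ P) ∧
      (∀ k, k < t → Nat.card (J (k + 1)) * p = Nat.card (J k)) ∧ J t = ⊥ ∧ Nat.card P = p ^ t ∧ 1 ≤ t ∧ IsPGroup p P := by
  classical
  haveI := Fact.mk hp
  set P₁ := MulAut.conj g⁻¹ • P with hP₁
  have mem_s : ∀ (H : Subgroup G) (a x : G), x ∈ MulAut.conj a • H ↔ a⁻¹ * x * a ∈ H := fun H a x => by
    rw [Subgroup.mem_pointwise_smul_iff_inv_smul_mem, ← map_inv, MulAut.smul_def, MulAut.conj_apply, inv_inv]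
  have hsm : ∀ (H : Subgroup G) (x : G), x ∈ MulAut.conj g⁻¹ • H ↔ g * x * g⁻¹ ∈ H := fun H x => by
    rw [mem_s, inv_inv]
  obtain ⟨J, J0, Js⟩ : ∃ J : ℕ → Subgroup G, J 0 = P ∧ ∀ k, J (k + 1) = P ⊓ MulAut.conj g⁻¹ • J k :=
    ⟨fun k => Nat.rec P (fun _ H => P ⊓ MulAut.conj g⁻¹ • H) k, rfl, fun k => rfl⟩
  have Jle : ∀ k, J k ≤ P := fun k => by
    cases k with
    | zero => exact J0.le
    | succ k => rw [Js]; exact inf_le_left
  have Jmem : ∀ k x, x ∈ J k ↔ ∀ i ≤ k, g ^ i * x * (g ^ i)⁻¹ ∈ P := by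
    intro k
    induction k with
    | zero =>
      intro x
      exact ⟨fun hx i hi => by rw [Nat.le_zero.1 hi]; simpa [J0] using hx, fun hx => by simpa [J0] using hx 0 le_rfl⟩
    | succ k ih =>
      intro x
      rw [Js, mem_inf, hsm, ih]
      constructor
      · rintro ⟨h0, hx⟩ i hi
        cases i with
        | zero => simpa using h0
        | succ i =>
          have := hx i (by omega)
          rwa [show g ^ i * (g * x * g⁻¹) * (g ^ i)⁻¹ = g ^ (i + 1) * x * (g ^ (i + 1))⁻¹ by rw [pow_succ]; group] at this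
      · intro hx
        refine ⟨by simpa using hx 0 (by omega), fun i hi => ?_⟩
        have := hx (i + 1) (by omega)
        rwa [show g ^ i * (g * x * g⁻¹) * (g ^ i)⁻¹ = g ^ (i + 1) * x * (g ^ (i + 1))⁻¹ by rw [pow_succ]; group]
  have Jant : ∀ k, J (k + 1) ≤ J k := fun k x hx => (Jmem k x).2 fun i hi => (Jmem (k + 1) x).1 hx i (by omega)
  -- it stabilises
  obtain ⟨T₀, hT₀⟩ : ∃ k, J (k + 1) = J k := by
    by_contra h
    push Not at h
    have : ∀ k, Nat.card (J k) + k ≤ Nat.card P := by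
      intro k
      induction k with
      | zero => simp [J0]
      | succ k ih =>
        have : Nat.card (J (k + 1)) < Nat.card (J k) := by
          refine lt_of_le_of_ne (Nat.le_of_dvd Nat.card_pos (card_dvd_of_le (Jant k))) fun e => h k ?_
          exact Subgroup.eq_of_le_of_card_ge (Jant k) e.ge
        omega
    have := this (Nat.card P + 1)
    omega
  have hex : ∃ k, J (k + 1) = J k := ⟨T₀, hT₀⟩
  obtain ⟨t, hJt, hJlt⟩ : ∃ t, J (t + 1) = J t ∧ ∀ k, k < t → J (k + 1) ≠ J k :=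
    ⟨@Nat.find _ (Classical.decPred _) hex, @Nat.find_spec _ (Classical.decPred _) hex,
      fun k hk => @Nat.find_min _ (Classical.decPred _) hex k hk⟩
  set L := J t with hLdef
  have hL : MulAut.conj g • L = L := by
    have h3 : L ≤ MulAut.conj g⁻¹ • L := by
      conv_lhs => rw [← hJt, Js]
      exact inf_le_right
    have h4 : MulAut.conj g⁻¹ • L = L := (Subgroup.eq_of_le_of_card_ge h3 (Grp.card_conj_smul _ _).le).symm
    conv_lhs => rw [← h4]
    rw [smul_smul, ← map_mul, mul_inv_cancel, map_one, one_smul]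
  have hLpow : ∀ (i : ℕ) (x : G), x ∈ L → (g ^ i)⁻¹ * x * g ^ i ∈ L := by
    intro i
    induction i with
    | zero => simp
    | succ i ih =>
      intro x hx
      have h3 : g⁻¹ * x * g ∈ L := by rw [← mem_s, hL]; exact hx
      have := ih _ h3
      rwa [show (g ^ i)⁻¹ * (g⁻¹ * x * g) * g ^ i = (g ^ (i + 1))⁻¹ * x * g ^ (i + 1) by rw [pow_succ']; group] at this
  -- the `p'`-elements
  have hpel : ∀ k, ∀ x ∈ P, ¬ p ∣ orderOf x → (g ^ k)⁻¹ * x * g ^ k ∈ J k := by
    intro k
    induction k with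
    | zero => intro x hx _; simpa [J0] using hx
    | succ k ih =>
      intro x hx hpx
      set x' := (g ^ (k + 1))⁻¹ * x * g ^ (k + 1) with hx'
      have h3 := ih x hx hpx
      have e : g * x' * g⁻¹ = (g ^ k)⁻¹ * x * g ^ k := by rw [hx', pow_succ]; group
      rw [Js, mem_inf, hsm, e]
      refine ⟨?_, h3⟩
      have hmem : x' ∈ P₁ := by rw [hP₁, hsm, e]; exact Jle k h3
      have hord : orderOf x' = orderOf x := by
        rw [hx', show (g ^ (k + 1))⁻¹ * x * g ^ (k + 1) = MulAut.conj (g ^ (k + 1))⁻¹ x by rw [MulAut.conj_apply, inv_inv],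
          MulEquiv.orderOf_eq]
      haveI := hN
      have hq : orderOf (QuotientGroup.mk' ((P ⊓ P₁).subgroupOf P₁) ⟨x', hmem⟩) = 1 := by
        refine Nat.eq_one_of_dvd_coprimes (hp.coprime_iff_not_dvd.2 hpx) ?_ ?_
        · refine (_root_.orderOf_dvd_natCard _).trans (dvd_of_eq ?_)
          show Subgroup.index _ = p
          rw [← hidx]; rfl
        · refine (orderOf_map_dvd _ _).trans ?_
          rw [Subgroup.orderOf_mk, hord]
      rw [orderOf_eq_one_iff, QuotientGroup.mk'_apply, QuotientGroup.eq_one_iff] at hq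
      exact (mem_inf.1 (mem_subgroupOf.1 hq)).1
  have hQle : ∀ x ∈ P, ¬ p ∣ orderOf x → x ∈ L := fun x hx hpx => by
    have hg : ∀ i : ℕ, ∀ y ∈ L, g ^ i * y * (g ^ i)⁻¹ ∈ L := by
      intro i y hy
      obtain ⟨m, hm⟩ : ∃ m : ℕ, g ^ i = (g ^ m)⁻¹ := ⟨(orderOf g - 1) * i, by
        refine eq_inv_of_mul_eq_one_left ?_
        rw [← pow_add, show i + (orderOf g - 1) * i = (1 + (orderOf g - 1)) * i by ring,
          show (1 + (orderOf g - 1)) = orderOf g by have := orderOf_pos g; omega, pow_mul, pow_orderOf_eq_one, one_pow]⟩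
      rw [hm, inv_inv]
      exact hLpow m y hy
    have := hg t _ (hpel t x hx hpx)
    rwa [show g ^ t * ((g ^ t)⁻¹ * x * g ^ t) * (g ^ t)⁻¹ = x by group] at this
  have hPp : IsPGroup p P := by
    set O := closure {x | x ∈ P ∧ ¬ p ∣ orderOf x} with hO
    have hOP : O ≤ P := (closure_le _).2 fun x hx => hx.1
    have hg : MulAut.conj g • O = O := by
      refine Subgroup.eq_of_le_of_card_ge ?_ (Grp.card_conj_smul _ _).ge
      intro z hz
      rw [mem_s] at hz
      have key : O ≤ O.comap (MulAut.conj g).toMonoidHom := by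
        rw [hO, closure_le]
        rintro x ⟨hx, hpx⟩
        refine subset_closure ⟨Jle t ?_, ?_⟩
        · show MulAut.conj g x ∈ L
          rw [← hL]
          exact Subgroup.smul_mem_pointwise_smul _ _ _ (hQle x hx hpx)
        · show ¬ p ∣ orderOf (MulAut.conj g x)
          rwa [MulEquiv.orderOf_eq]
      have := key hz
      rwa [mem_comap, MulEquiv.coe_toMonoidHom, MulAut.conj_apply,
        show g * (g⁻¹ * z * g) * g⁻¹ = z by group] at this
    have hOn : (O.subgroupOf P).Normal := by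
      refine ⟨fun z hz q => mem_subgroupOf.2 ?_⟩
      have key : O ≤ O.comap (MulAut.conj (q : G)).toMonoidHom := by
        rw [hO, closure_le]
        rintro x ⟨hx, hpx⟩
        refine subset_closure ⟨P.mul_mem (P.mul_mem q.2 hx) (P.inv_mem q.2), ?_⟩
        show ¬ p ∣ orderOf (MulAut.conj (q : G) x)
        rwa [MulEquiv.orderOf_eq]
      exact key (mem_subgroupOf.1 hz)
    have hObot := h1 O hOP hOn hg
    have hall : ∀ x ∈ P, ¬ p ∣ orderOf x → x = 1 := fun x hx hpx => by
      have : x ∈ O := subset_closure ⟨hx, hpx⟩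
      rwa [hObot, mem_bot] at this
    intro x
    refine ⟨(orderOf x).factorization p, ?_⟩
    have h3 := hall ((x : G) ^ p ^ (orderOf x).factorization p) (P.pow_mem x.2 _) (by
      rw [orderOf_pow' _ (pow_ne_zero _ hp.ne_zero), Subgroup.orderOf_coe,
        Nat.gcd_eq_right (Nat.ordProj_dvd _ _)]
      exact Nat.not_dvd_ordCompl hp (orderOf_pos x).ne')
    exact Subtype.ext h3
  obtain ⟨N₀, hN₀⟩ := IsPGroup.iff_card.1 hPp
  have Jp : ∀ k : ℕ, IsPGroup p ↥(J k) := fun k => hPp.to_le (Jle k)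
  have Jrel : ∀ k, (J (k + 1)).relIndex (MulAut.conj g⁻¹ • J k) ∣ p := by
    intro k
    have hle : MulAut.conj g⁻¹ • J k ≤ P₁ := Subgroup.pointwise_smul_le_pointwise_smul_iff.2 (Jle k)
    rw [Js, inf_relIndex_right]
    have h3 : P.relIndex (MulAut.conj g⁻¹ • J k) = (P ⊓ P₁).relIndex (MulAut.conj g⁻¹ • J k) := by
      rw [← inf_relIndex_right P, ← inf_relIndex_right (P ⊓ P₁), inf_assoc, inf_eq_right.2 hle]
    rw [h3, ← relIndex_subgroupOf hle]
    haveI := hN
    refine (relIndex_dvd_index_of_normal _ _).trans (dvd_of_eq ?_)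
    exact hidx
  have hcard : ∀ k, k < t → Nat.card (J (k + 1)) * p = Nat.card (J k) := by
    intro k hk
    have h3 := Grp.card_mul_relIndex (show J (k + 1) ≤ MulAut.conj g⁻¹ • J k by rw [Js]; exact inf_le_right)
    rw [Grp.card_conj_smul] at h3
    rcases (Nat.dvd_prime hp).1 (Jrel k) with e | e
    · rw [e, mul_one] at h3
      exact absurd (Subgroup.eq_of_le_of_card_ge (Jant k) h3.ge) (hJlt k hk)
    · rw [e] at h3; exact h3
  have hτ : ∀ k, MulAut.conj g • J (k + 1) ≤ J k := by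
    intro k z hz
    rw [mem_s] at hz
    refine (Jmem k z).2 fun i hi => ?_
    have := (Jmem (k + 1) _).1 hz (i + 1) (by omega)
    rwa [show g ^ (i + 1) * (g⁻¹ * z * g) * (g ^ (i + 1))⁻¹ = g ^ i * z * (g ^ i)⁻¹ by rw [pow_succ]; group] at this
  -- `L` is normal in `P`, hence trivial
  have hLle : ∀ k, k ≤ t → L ≤ J k := fun k hk => by
    obtain ⟨d, hd⟩ : ∃ d, t = k + d := ⟨t - k, by omega⟩
    rw [hLdef, hd]
    clear hd
    induction d with
    | zero => exact le_rfl
    | succ d ih => exact (Jant _).trans ih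
  have hLn : ∀ k, k ≤ t → J k ≤ normalizer (L : Set G) := by
    intro k hk
    obtain ⟨d, hd⟩ : ∃ d, t = k + d := ⟨t - k, by omega⟩
    induction d generalizing k with
    | zero => rw [hLdef, hd, add_zero]; exact le_normalizer
    | succ d ih =>
      rcases Nat.eq_zero_or_pos d with rfl | hd0
      · have h3 := hcard k (by omega)
        refine hnorm hp (hLle k hk) (Jp k) ?_
        have h4 := Grp.card_mul_relIndex (hLle k hk)
        rw [hLdef, hd, zero_add] at h4 ⊢
        rw [← h3] at h4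
        exact Nat.eq_of_mul_eq_mul_left Nat.card_pos h4
      · have ihk := ih (k + 1) (by omega) (by omega)
        have hne : MulAut.conj g • J (k + 1) ≠ J (k + 1) := fun e => by
          refine hJlt (k + 1) (by omega) ?_
          rw [Js (k + 1)]
          conv_lhs => rw [← e, smul_smul, ← map_mul, inv_mul_cancel, map_one, one_smul]
          exact inf_eq_right.2 (Jle _)
        have hsup : J (k + 1) ⊔ MulAut.conj g • J (k + 1) = J k := by
          refine Subgroup.eq_of_le_of_card_ge (sup_le (Jant k) (hτ k)) ?_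
          obtain ⟨a, ha⟩ := IsPGroup.iff_card.1 ((Jp k).to_le (sup_le (Jant k) (hτ k)))
          obtain ⟨b, hb⟩ := IsPGroup.iff_card.1 (Jp (k + 1))
          rw [← hcard k (by omega), hb, ha, ← pow_succ]
          refine Nat.pow_le_pow_right hp.pos ?_
          by_contra hab
          have hle : Nat.card ↥(J (k + 1) ⊔ MulAut.conj g • J (k + 1)) ≤ Nat.card (J (k + 1)) := by
            rw [ha, hb]; exact Nat.pow_le_pow_right hp.pos (by omega)
          have e1 := Subgroup.eq_of_le_of_card_ge (le_sup_left : J (k + 1) ≤ J (k + 1) ⊔ MulAut.conj g • J (k + 1)) hle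
          have e2 : MulAut.conj g • J (k + 1) ≤ J (k + 1) := le_of_le_of_eq le_sup_right e1.symm
          exact hne (Subgroup.eq_of_le_of_card_ge e2 (Grp.card_conj_smul _ _).ge)
        rw [← hsup]
        refine sup_le ihk fun z hz => ?_
        rw [mem_s] at hz
        have h3 := ihk hz
        rw [Grp.mem_normalizer_iff_smul] at h3 ⊢
        rw [show z = g * (g⁻¹ * z * g) * g⁻¹ by group, map_mul, map_mul, ← smul_smul, ← smul_smul,
          show MulAut.conj g⁻¹ • L = L by
            conv_lhs => rw [← hL, smul_smul, ← map_mul, inv_mul_cancel, map_one, one_smul],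
          h3, hL]
  have hLbot : L = ⊥ := by
    refine h1 L (Jle t) ((normal_subgroupOf_iff_le_normalizer (Jle t)).2 ?_) hL
    rw [← J0]; exact hLn 0 (Nat.zero_le t)
  have hJcard : ∀ d k, k + d = t → Nat.card (J k) = p ^ d := by
    intro d
    induction d with
    | zero => intro k hk; rw [show k = t by omega]; rw [show J t = ⊥ from hLbot, Subgroup.card_bot, pow_zero]
    | succ d ih => intro k hk; rw [← hcard k (by omega), ih (k + 1) (by omega), pow_succ]
  have hPcard : Nat.card P = p ^ t := by rw [← hJcard t 0 (by omega), J0]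
  have ht1 : 1 ≤ t := by
    by_contra h
    have h3 : Nat.card P₁ = 1 := by rw [hP₁, Grp.card_conj_smul, hPcard, show t = 0 by omega, pow_zero]
    have := relIndex_dvd_card (P ⊓ P₁) P₁
    rw [hidx, h3, Nat.dvd_one] at this
    exact hp.ne_one this
  exact ⟨J, t, J0, Js, Jmem, hcard, hLbot, hPcard, ht1, hPp⟩

theorem main (P : Subgroup G) (g : G) (p : ℕ) (hp : p.Prime)
    (hN : ((P ⊓ MulAut.conj g⁻¹ • P).subgroupOf (MulAut.conj g⁻¹ • P)).Normal)
    (hidx : (P ⊓ MulAut.conj g⁻¹ • P).relIndex (MulAut.conj g⁻¹ • P) = p)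
    (n : ℕ) (hn : 1 ≤ n) (K : Subgroup G) (hK : K = ⨆ i ∈ Finset.range (n + 1), MulAut.conj (g ^ i)⁻¹ • P)
    (h1 : ∀ Q : Subgroup G, Q ≤ P → (Q.subgroupOf P).Normal → MulAut.conj g • Q = Q → Q = ⊥)
    (h2 : P ⊓ (Subgroup.center K).map K.subtype = ⊥) :
    ∃ t : ℕ, Nat.card P = p ^ t ∧ 1 ≤ t ∧ t ≤ 3 * n ∧ t ≠ 3 * n - 1 := by
  classical
  haveI := Fact.mk hp
  obtain ⟨J, t, J0, Js, Jmem, hcard, hLbot, hPcard, ht1, hPp⟩ := chain P g p hp hN hidx h1
  have mem_s : ∀ (H : Subgroup G) (a x : G), x ∈ MulAut.conj a • H ↔ a⁻¹ * x * a ∈ H := fun H a x => by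
    rw [Subgroup.mem_pointwise_smul_iff_inv_smul_mem, ← map_inv, MulAut.smul_def, MulAut.conj_apply, inv_inv]
  have hsm : ∀ (H : Subgroup G) (x : G), x ∈ MulAut.conj g⁻¹ • H ↔ g * x * g⁻¹ ∈ H := fun H x => by
    rw [mem_s, inv_inv]
  have Jle : ∀ k, J k ≤ P := fun k => by
    cases k with
    | zero => exact J0.le
    | succ k => rw [Js]; exact inf_le_left
  have Jant : ∀ k, J (k + 1) ≤ J k := fun k x hx => (Jmem k x).2 fun i hi => (Jmem (k + 1) x).1 hx i (by omega)
  have Jp : ∀ k : ℕ, IsPGroup p ↥(J k) := fun k => hPp.to_le (Jle k)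
  have hτ : ∀ k, MulAut.conj g • J (k + 1) ≤ J k := by
    intro k z hz
    rw [mem_s] at hz
    refine (Jmem k z).2 fun i hi => ?_
    have := (Jmem (k + 1) _).1 hz (i + 1) (by omega)
    rwa [show g ^ (i + 1) * (g⁻¹ * z * g) * (g ^ (i + 1))⁻¹ = g ^ i * z * (g ^ i)⁻¹ by rw [pow_succ]; group] at this
  have hJcard : ∀ d k, k + d = t → Nat.card (J k) = p ^ d := by
    intro d
    induction d with
    | zero => intro k hk; rw [show k = t by omega, hLbot, Subgroup.card_bot, pow_zero]
    | succ d ih => intro k hk; rw [← hcard k (by omega), ih (k + 1) (by omega), pow_succ]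
  refine ⟨t, hPcard, ht1, ?_⟩
  -- generators
  obtain ⟨x, hx, hx1⟩ : ∃ x ∈ J (t - 1), x ≠ 1 := by
    refine (Subgroup.bot_or_exists_ne_one (J (t - 1))).resolve_left fun e => ?_
    have := hJcard 1 (t - 1) (by omega)
    rw [e, Subgroup.card_bot, pow_one] at this
    exact hp.ne_one this.symm
  have hxp : x ^ p = 1 := by
    have := hJcard 1 (t - 1) (by omega)
    rw [pow_one] at this
    exact congrArg Subtype.val (this ▸ pow_card_eq_one' : (⟨x, hx⟩ : J (t - 1)) ^ p = 1)
  set y : ℤ → G := fun i => g ^ i * x * (g ^ i)⁻¹ with hy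
  have yconj : ∀ a i : ℤ, g ^ a * y i * (g ^ a)⁻¹ = y (a + i) := fun a i => by simp only [hy, zpow_add]; group
  let W : ℤ → ℤ → Subgroup G := fun a b => closure (y '' Set.Ico a b)
  have Wmem : ∀ a b i : ℤ, a ≤ i → i < b → y i ∈ W a b := fun a b i h3 h4 => subset_closure ⟨i, ⟨h3, h4⟩, rfl⟩
  have Wshift : ∀ a b c : ℤ, ∀ z, z ∈ W b c → g ^ a * z * (g ^ a)⁻¹ ∈ W (a + b) (a + c) := by
    intro a b c z hz
    have : W b c ≤ (W (a + b) (a + c)).comap (MulAut.conj (g ^ a)).toMonoidHom := by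
      rw [closure_le]
      rintro _ ⟨i, hi, rfl⟩
      show MulAut.conj (g ^ a) (y i) ∈ W (a + b) (a + c)
      rw [MulAut.conj_apply, yconj]
      exact Wmem _ _ _ (by have := hi.1; omega) (by have := hi.2; omega)
    exact this hz
  have hWJ : ∀ m : ℕ, m ≤ t → W 0 m = J (t - m) := by
    intro m
    induction m with
    | zero =>
      intro _
      rw [Nat.sub_zero, show J t = ⊥ from hLbot]
      show closure (y '' Set.Ico (0 : ℤ) ((0 : ℕ) : ℤ)) = ⊥
      simp
    | succ m ih =>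
      intro hm
      have hin : ∀ i : ℕ, i ≤ m → y i ∈ J (t - (m + 1)) := by
        intro i hi
        refine (Jmem _ _).2 fun j hj => ?_
        have := (Jmem (t - 1) x).1 hx (j + i) (by omega)
        simp only [hy, zpow_natCast]
        rwa [show g ^ j * (g ^ i * x * (g ^ i)⁻¹) * (g ^ j)⁻¹ = g ^ (j + i) * x * (g ^ (j + i))⁻¹ by rw [pow_add]; group]
      have hle : W 0 ((m + 1 : ℕ) : ℤ) ≤ J (t - (m + 1)) := by
        rw [closure_le]
        rintro _ ⟨i, hi, rfl⟩
        obtain ⟨i, rfl⟩ := Int.eq_ofNat_of_zero_le hi.1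
        exact hin i (by have := hi.2; omega)
      refine Subgroup.eq_of_le_of_card_ge hle ?_
      obtain ⟨b, hb⟩ := IsPGroup.iff_card.1 ((Jp _).to_le hle)
      rw [hJcard (m + 1) _ (by omega), hb]
      refine Nat.pow_le_pow_right hp.pos ?_
      by_contra hb'
      have hle' : W 0 (m : ℤ) ≤ W 0 ((m + 1 : ℕ) : ℤ) := closure_mono (Set.image_mono (Set.Ico_subset_Ico_right (by omega)))
      have e := Subgroup.eq_of_le_of_card_ge hle' (by
        rw [hb, ih (by omega), hJcard m _ (by omega)]; exact Nat.pow_le_pow_right hp.pos (by omega))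
      have hym : y m ∈ J (t - m) := by
        rw [← ih (by omega), e]
        exact Wmem _ _ _ (by omega) (by omega)
      have hx2 : x ∈ J t := by
        refine (Jmem t x).2 fun j hj => ?_
        rcases Nat.lt_or_ge j t with hjt | hjt
        · exact (Jmem (t - 1) x).1 hx j (by omega)
        · have := (Jmem _ _).1 hym (t - m) le_rfl
          simp only [hy, zpow_natCast] at this
          rwa [show g ^ (t - m) * (g ^ m * x * (g ^ m)⁻¹) * (g ^ (t - m))⁻¹ = g ^ (t - m + m) * x * (g ^ (t - m + m))⁻¹ by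
            rw [pow_add]; group, show t - m + m = j by omega] at this
      rw [show J t = ⊥ from hLbot, mem_bot] at hx2
      exact hx1 hx2
  have hP' : W 0 t = P := by rw [hWJ t le_rfl, Nat.sub_self, J0]
  -- the relations
  have hrel : ∀ a b : ℤ, a < b → b < a + t → ⁅y a, y b⁆ ∈ closure (y '' Set.Ioo a b) := by
    intro a b hab hbt
    obtain ⟨m, hm⟩ : ∃ m : ℕ, b = a + m := ⟨(b - a).toNat, by omega⟩
    subst hm
    obtain ⟨d, rfl⟩ : ∃ d, m = d + 1 := ⟨m - 1, by omega⟩
    have e1 : W 0 ((d + 2 : ℕ) : ℤ) = J (t - (d + 2)) := hWJ _ (by omega)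
    have e2 : W 0 ((d + 1 : ℕ) : ℤ) = J (t - (d + 2) + 1) := by rw [hWJ _ (by omega)]; congr 1; omega
    have hB : MulAut.conj g • J (t - (d + 2) + 1) ≤ J (t - (d + 2)) := hτ _
    have hidxA : (J (t - (d + 2) + 1)).relIndex (J (t - (d + 2))) = p := by
      have h3 := Grp.card_mul_relIndex (Jant (t - (d + 2)))
      rw [← hcard (t - (d + 2)) (by omega)] at h3
      exact Nat.eq_of_mul_eq_mul_left Nat.card_pos h3
    have hidxB : (MulAut.conj g • J (t - (d + 2) + 1)).relIndex (J (t - (d + 2))) = p := by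
      have h3 := Grp.card_mul_relIndex hB
      rw [Grp.card_conj_smul, ← hcard (t - (d + 2)) (by omega)] at h3
      exact Nat.eq_of_mul_eq_mul_left Nat.card_pos h3
    have nA := hnorm hp (Jant _) (Jp _) hidxA
    have nB := hnorm hp hB (Jp _) hidxB
    have hmb : y ((d + 1 : ℕ) : ℤ) ∈ MulAut.conj g • J (t - (d + 2) + 1) := by
      rw [mem_s, ← e2]
      have : g⁻¹ * y ((d + 1 : ℕ) : ℤ) * g = y (d : ℤ) := by
        have := yconj (-1) ((d + 1 : ℕ) : ℤ)
        simp only [zpow_neg, zpow_one, inv_inv] at this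
        rw [this]; congr 1; push_cast; ring
      rw [this]
      exact Wmem _ _ _ (by omega) (by omega)
    have hy0 : y 0 ∈ J (t - (d + 2) + 1) := e2 ▸ Wmem _ _ _ le_rfl (by omega)
    have hy0' : y 0 ∈ J (t - (d + 2)) := Jant _ hy0
    have hyb' : y ((d + 1 : ℕ) : ℤ) ∈ J (t - (d + 2)) := e1 ▸ Wmem _ _ _ (by omega) (by omega)
    have hc1 : ⁅y 0, y ((d + 1 : ℕ) : ℤ)⁆ ∈ J (t - (d + 2) + 1) := by
      rw [commutatorElement_def, mul_assoc, mul_assoc, ← mul_assoc (y ((d + 1 : ℕ) : ℤ))]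
      exact mul_mem hy0 ((mem_normalizer_iff.1 (nA hyb') _).1 (inv_mem hy0))
    have hc2 : ⁅y 0, y ((d + 1 : ℕ) : ℤ)⁆ ∈ MulAut.conj g • J (t - (d + 2) + 1) := by
      rw [commutatorElement_def]
      exact mul_mem ((mem_normalizer_iff.1 (nB hy0') _).1 hmb) (inv_mem hmb)
    -- the intersection is the inner window
    have hint : g⁻¹ * ⁅y 0, y ((d + 1 : ℕ) : ℤ)⁆ * g ∈ W 0 (d : ℤ) := by
      rw [hWJ d (by omega), show t - d = t - (d + 2) + 1 + 1 by omega, Js, mem_inf, hsm]
      rw [mem_s] at hc2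
      refine ⟨Jle _ hc2, ?_⟩
      rwa [show g * (g⁻¹ * ⁅y 0, y ((d + 1 : ℕ) : ℤ)⁆ * g) * g⁻¹ = ⁅y 0, y ((d + 1 : ℕ) : ℤ)⁆ by group]
    have h4 := Wshift (a + 1) 0 d _ hint
    rw [show g ^ (a + 1) * (g⁻¹ * ⁅y 0, y ((d + 1 : ℕ) : ℤ)⁆ * g) * (g ^ (a + 1))⁻¹ =
        g ^ a * ⁅y 0, y ((d + 1 : ℕ) : ℤ)⁆ * (g ^ a)⁻¹ by rw [zpow_add_one]; group,
      show g ^ a * ⁅y 0, y ((d + 1 : ℕ) : ℤ)⁆ * (g ^ a)⁻¹ = ⁅g ^ a * y 0 * (g ^ a)⁻¹, g ^ a * y ((d + 1 : ℕ) : ℤ) * (g ^ a)⁻¹⁆ by
        simp only [commutatorElement_def]; group, yconj, yconj] at h4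
    simp only [add_zero] at h4
    have hsub : ∀ b c : ℤ, a < b → c ≤ a + ((d + 1 : ℕ) : ℤ) → W b c ≤ closure (y '' Set.Ioo a (a + ((d + 1 : ℕ) : ℤ))) :=
      fun b c hb hc => Subgroup.closure_mono (Set.image_mono fun i hi => ⟨by have := hi.1; omega, by have := hi.2; omega⟩)
    refine hsub _ _ ?_ ?_ h4
    · omega
    · push_cast; omega
  -- abelian windows
  let Ab : ℕ → Prop := fun m => ∀ i j : ℕ, i < m → j < m → y i * y j = y j * y i
  have hAb1 : Ab 1 := fun i j hi hj => by rw [show i = j by omega]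
  have hne : ∃ r, 1 ≤ r ∧ r ≤ t ∧ Ab r ∧ (r = t ∨ ¬ Ab (r + 1)) := by
    by_contra h
    push Not at h
    have : ∀ m, 1 ≤ m → m ≤ t → Ab m := by
      intro m hm
      induction m, hm using Nat.le_induction with
      | base => exact fun _ => hAb1
      | succ m hm ih => exact fun hmt => (h m hm (by omega) (ih (by omega))).2
    exact (h t ht1 le_rfl (this t ht1 le_rfl)).1 rfl
  obtain ⟨r, hr1, hrt, hr, hrmax⟩ := hne
  have hcomm : ∀ i j : ℤ, i ≤ j → j < i + r → y i * y j = y j * y i := by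
    intro i j hij hjr
    obtain ⟨m, rfl⟩ : ∃ m : ℕ, j = i + m := ⟨(j - i).toNat, by omega⟩
    have := congrArg (fun z => g ^ i * z * (g ^ i)⁻¹) (hr 0 m (by omega) (by omega))
    rw [show g ^ i * (y ((0 : ℕ) : ℤ) * y (m : ℤ)) * (g ^ i)⁻¹ = g ^ i * y ((0:ℕ) : ℤ) * (g ^ i)⁻¹ * (g ^ i * y (m : ℤ) * (g ^ i)⁻¹) by group,
      show g ^ i * (y (m : ℤ) * y ((0 : ℕ) : ℤ)) * (g ^ i)⁻¹ = g ^ i * y (m : ℤ) * (g ^ i)⁻¹ * (g ^ i * y ((0:ℕ) : ℤ) * (g ^ i)⁻¹) by group,
      yconj, yconj, Nat.cast_zero, add_zero] at this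
    exact this
  have hcrux : 2 * t ≤ 3 * r := by
    rcases Nat.lt_or_ge r t with hlt | hge
    swap
    · omega
    have hnab : ¬ Ab (r + 1) := hrmax.resolve_left (by omega)
    have hn0 : y 0 * y (r : ℤ) ≠ y (r : ℤ) * y 0 := by
      intro e
      refine hnab fun i j hi hj => ?_
      rcases le_total i j with hij | hij
      · rcases Nat.lt_or_ge j (i + r) with h' | h'
        · exact hcomm i j (by omega) (by omega)
        · rw [show i = 0 by omega, show j = r by omega]; exact_mod_cast e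
      · rcases Nat.lt_or_ge i (j + r) with h' | h'
        · exact (hcomm j i (by omega) (by omega)).symm
        · rw [show j = 0 by omega, show i = r by omega]; exact_mod_cast e.symm
    have hseq : Seq y p r t := by
      refine ⟨fun i => by simp only [hy]; rw [conj_pow, hxp, mul_one, mul_inv_cancel], hcomm, fun i e => hn0 ?_, hrel⟩
      have := congrArg (fun z => g ^ (-i) * z * (g ^ (-i))⁻¹) e
      rw [show g ^ (-i) * (y i * y (i + r)) * (g ^ (-i))⁻¹ = g ^ (-i) * y i * (g ^ (-i))⁻¹ * (g ^ (-i) * y (i + r) * (g ^ (-i))⁻¹) by group,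
        show g ^ (-i) * (y (i + r) * y i) * (g ^ (-i))⁻¹ = g ^ (-i) * y (i + r) * (g ^ (-i))⁻¹ * (g ^ (-i) * y i * (g ^ (-i))⁻¹) by group,
        yconj, yconj, neg_add_cancel, neg_add_cancel_left] at this
      exact this
    refine hseq.two_mul_le hp hlt fun m hm0 hmr z hz1 hz2 => ?_
    obtain ⟨m, rfl⟩ : ∃ k : ℕ, m = k := ⟨m.toNat, by omega⟩
    -- disjointness by counting
    have hz1' : z ∈ W 0 m := closure_mono (Set.image_mono (Set.Ico_subset_Ico_left (by omega))) hz1
    have hsup : W 0 m ⊔ W m r = W 0 r := by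
      rw [← Subgroup.closure_union, ← Set.image_union]
      congr 2
      ext i; simp only [Set.mem_union, Set.mem_Ico]; omega
    have hcardm : Nat.card (W (m : ℤ) r) = p ^ (r - m) := by
      have : W (m : ℤ) r = MulAut.conj (g ^ (m : ℤ)) • W 0 ((r - m : ℕ) : ℤ) := by
        ext z
        rw [mem_s]
        constructor
        · intro hz
          have := Wshift (-(m : ℤ)) m r z hz
          rw [zpow_neg, inv_inv, neg_add_cancel] at this
          rwa [show -(m : ℤ) + r = ((r - m : ℕ) : ℤ) by omega] at this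
        · intro hz
          have := Wshift (m : ℤ) 0 _ _ hz
          rw [add_zero, show (m : ℤ) + ((r - m : ℕ) : ℤ) = r by omega,
            show g ^ (m : ℤ) * ((g ^ (m : ℤ))⁻¹ * z * g ^ (m : ℤ)) * (g ^ (m : ℤ))⁻¹ = z by group] at this
          exact this
      rw [this, Grp.card_conj_smul, hWJ (r - m) (by omega), hJcard (r - m) _ (by omega)]
    have hmn : W 0 (m : ℤ) ≤ normalizer (W (m : ℤ) r : Set G) := by
      refine le_trans ?_ (centralizer_le_normalizer (W (m : ℤ) r : Set G))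
      intro a ha
      exact mem_centralizer_iff.2 fun b hb => hseq.comm_closure (A := Set.Ico (m : ℤ) r) (B := Set.Ico 0 m) (fun i hi j hj => by
        exact ⟨by have := hi.1; have := hi.2; have := hj.1; have := hj.2; omega, by have := hi.1; have := hi.2; have := hj.1; have := hj.2; omega⟩) hb ha
    have h3 := Grp.card_sup_mul_card_inf hmn
    rw [hsup, hcardm, hWJ r (by omega), hJcard r _ (by omega), hWJ m (by omega), hJcard m _ (by omega), ← pow_add,
      show m + (r - m) = r by omega] at h3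
    have h4 : Nat.card ↥(J (t - m) ⊓ W (m : ℤ) r) = 1 :=
      Nat.eq_of_mul_eq_mul_left (pow_pos hp.pos r) (by rw [mul_one]; exact h3)
    rw [Subgroup.card_eq_one, ← hWJ m (by omega)] at h4
    have : z ∈ W 0 (m : ℤ) ⊓ W (m : ℤ) r := ⟨hz1', hz2⟩
    rwa [h4, mem_bot] at this
  have hfinal : 2 * r ≤ n + t := by
    by_contra hlt
    push Not at hlt
    set j : ℕ := t - r with hj
    have hjP : y (j : ℤ) ∈ P := hP' ▸ Wmem _ _ _ (by omega) (by omega)
    have hgen : ∀ i : ℕ, i ≤ n → MulAut.conj (g ^ i)⁻¹ • P ≤ centralizer ({y (j : ℤ)} : Set G) := by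
      intro i hi z hz
      rw [mem_s, inv_inv, ← hP'] at hz
      have h5 := Wshift (-(i : ℤ)) 0 t _ hz
      rw [zpow_neg, zpow_natCast, inv_inv,
        show (g ^ i)⁻¹ * (g ^ i * z * (g ^ i)⁻¹) * g ^ i = z by group] at h5
      refine mem_centralizer_singleton_iff.2 ?_
      have : closure (y '' Set.Ico (-(i : ℤ) + 0) (-(i : ℤ) + t)) ≤ centralizer ({y (j : ℤ)} : Set G) := by
        rw [closure_le]
        rintro _ ⟨k, hk, rfl⟩
        refine mem_centralizer_singleton_iff.2 ?_
        rcases le_total k (j : ℤ) with e | e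
        · exact hcomm k j e (by have := hk.1; omega)
        · exact (hcomm j k e (by have := hk.2; omega)).symm
      exact mem_centralizer_singleton_iff.1 (this h5)
    have hKc : K ≤ centralizer ({y (j : ℤ)} : Set G) := by
      rw [hK]; exact iSup₂_le fun i hi => hgen i (by simpa using Nat.lt_succ_iff.1 (Finset.mem_range.1 hi))
    have hjK : y (j : ℤ) ∈ K := by
      rw [hK]
      exact Subgroup.mem_iSup_of_mem 0 (Subgroup.mem_iSup_of_mem (by simp) (by simpa using hjP))
    have : y (j : ℤ) ∈ P ⊓ (center K).map K.subtype :=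
      ⟨hjP, ⟨⟨_, hjK⟩, mem_center_iff.2 fun k => Subtype.ext (mem_centralizer_singleton_iff.1 (hKc k.2)), rfl⟩⟩
    rw [h2, mem_bot] at this
    simp only [hy, mul_inv_eq_one, mul_eq_left] at this
    exact hx1 this
  omega

end


/-- Let P be a subgroup of a finite group G and g an element such that P ∩ g⁻¹Pg is a normal subgroup of prime index p in g⁻¹Pg. Let n ≥ 1 and let K be the subgroup generated by P and its conjugates g⁻ⁱPgⁱ for i ≤ n. Suppose that g normalizes no non-identity normal subgroup of P and that P meets the center of K trivially. Then the order of P is pᵗ for some t with 1 ≤ t ≤ 3n and t ≠ 3n - 1. -/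
theorem result {G : Type*} [Group G] [Finite G]
    (P : Subgroup G) (g : G) (p : ℕ) (hp : p.Prime)
    (hN : ((P ⊓ MulAut.conj g⁻¹ • P).subgroupOf (MulAut.conj g⁻¹ • P)).Normal)
    (hidx : (P ⊓ MulAut.conj g⁻¹ • P).relIndex (MulAut.conj g⁻¹ • P) = p)
    (n : ℕ) (hn : 1 ≤ n) (K : Subgroup G) (hK : K = ⨆ i ∈ Finset.range (n + 1), MulAut.conj (g ^ i)⁻¹ • P)
    (h1 : ∀ Q : Subgroup G, Q ≤ P → (Q.subgroupOf P).Normal → MulAut.conj g • Q = Q → Q = ⊥)
    (h2 : P ⊓ (Subgroup.center K).map K.subtype = ⊥) :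
    ∃ t : ℕ, Nat.card P = p ^ t ∧ 1 ≤ t ∧ t ≤ 3 * n ∧ t ≠ 3 * n - 1 := by

  exact main P g p hp hN hidx n hn K hK h1 h2

end Cfsg.Agent.S4359
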