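import Cfsg.Statements.S4365
import Mathlib

set_option maxHeartbeats 1000000
set_option maxRecDepth 8000

set_option autoImplicit false
open Cfsg

namespace Cfsg.Agent.S4365

/-- Let P be a finite p-group whose conjugacy class sizes are exactly 1 and pᵃ for some a ≥ 1. Then every element of P has its p-th power in the center of P (P/Z(P) has exponent p). -/
theorem result {P : Type*} [Group P] [Finite P] (p : ℕ) [Fact p.Prime]
    (hP : IsPGroup p P) (a : ℕ) (ha : 1 ≤ a)
    (hcs : {k : ℕ | ∃ x : P, (Subgroup.centralizer ({x} : Set P)).index = k} = {1, p ^ a}) (x : P) :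
    x ^ p ∈ Subgroup.center P := by
  classical
  have hdich : ∀ t : P, t ∈ Subgroup.center P ∨ (Subgroup.centralizer ({t} : Set P)).index = p ^ a := fun t => by
    have h1 : (Subgroup.centralizer ({t} : Set P)).index ∈ ({1, p ^ a} : Set ℕ) := hcs ▸ ⟨t, rfl⟩
    rcases h1 with h1 | h1
    · refine Or.inl (Subgroup.mem_center_iff.2 fun y => ?_)
      exact Subgroup.mem_centralizer_singleton_iff.1 (Subgroup.index_eq_one.1 h1 ▸ Subgroup.mem_top y)
    · exact Or.inr h1
  have heq : ∀ s t : P, s ∉ Subgroup.center P → t ∉ Subgroup.center P →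
      Subgroup.centralizer ({s} : Set P) ≤ Subgroup.centralizer ({t} : Set P) →
      Subgroup.centralizer ({s} : Set P) = Subgroup.centralizer ({t} : Set P) := fun s t hs ht hle => by
    refine le_antisymm hle (Subgroup.relIndex_eq_one.1 ?_)
    have h1 := Subgroup.relIndex_mul_index hle
    rw [(hdich s).resolve_left hs, (hdich t).resolve_left ht] at h1
    exact (mul_eq_right₀ (pow_ne_zero _ (Fact.out : p.Prime).ne_zero)).1 h1
  have hC : ∀ s y : P, y ∈ Subgroup.centralizer ({s} : Set P) ↔ Commute y s := fun s y =>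
    Subgroup.mem_centralizer_singleton_iff
  have hcomm : ∀ c ∈ Subgroup.center P, ∀ y : P, Commute y c := fun c hc y => Subgroup.mem_center_iff.1 hc y
  have hlong : ∀ g : P, g ^ p ∉ Subgroup.center P →
      Subgroup.centralizer ({g} : Set P) = Subgroup.centralizer ({g ^ p} : Set P) := fun g hg =>
    heq g (g ^ p) (fun h => hg (Subgroup.pow_mem _ h p)) hg fun y hy => (hC _ _).2 (((hC _ _).1 hy).pow_right p)
  by_contra hx
  have hxZ : x ∉ Subgroup.center P := fun h => hx (Subgroup.pow_mem _ h p)
  -- an element of the second centre of order `p` modulo the centre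
  obtain ⟨z, hz, hzp, hz2⟩ : ∃ z : P, z ∉ Subgroup.center P ∧ z ^ p ∈ Subgroup.center P ∧
      ∀ y : P, z * y * z⁻¹ * y⁻¹ ∈ Subgroup.center P := by
    have hQ := hP.to_quotient (Subgroup.center P)
    haveI : Nontrivial (P ⧸ Subgroup.center P) :=
      ⟨⟨(x : P), 1, fun h => hxZ ((QuotientGroup.eq_one_iff x).1 h)⟩⟩
    haveI := hQ.center_nontrivial
    obtain ⟨n, hn, hcard⟩ := (hQ.to_subgroup (Subgroup.center _)).nontrivial_iff_card.1 inferInstance
    obtain ⟨w, hw⟩ := exists_prime_orderOf_dvd_card' (G := Subgroup.center (P ⧸ Subgroup.center P)) p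
      (hcard ▸ dvd_pow_self p hn.ne')
    obtain ⟨z, hz⟩ := QuotientGroup.mk_surjective (w : P ⧸ Subgroup.center P)
    refine ⟨z, fun h => ?_, ?_, fun y => ?_⟩
    · rw [(QuotientGroup.eq_one_iff z).2 h] at hz
      rw [show w = 1 from Subtype.ext hz.symm, orderOf_one] at hw
      exact (Fact.out : p.Prime).ne_one hw.symm
    · rw [← QuotientGroup.eq_one_iff, QuotientGroup.mk_pow, hz, ← Subgroup.coe_pow, ← hw, pow_orderOf_eq_one]
      rfl
    · rw [← QuotientGroup.eq_one_iff, QuotientGroup.mk_mul, QuotientGroup.mk_mul, QuotientGroup.mk_mul,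
        QuotientGroup.mk_inv, QuotientGroup.mk_inv, hz, mul_inv_eq_one, mul_inv_eq_iff_eq_mul]
      exact (Subgroup.mem_center_iff.1 w.2 _).symm
  -- if `u` has order `p` modulo the centre, it commutes with `g ^ p` once `[u, g]` is central
  have hkill : ∀ u g : P, u ^ p ∈ Subgroup.center P → u * g * u⁻¹ * g⁻¹ ∈ Subgroup.center P → Commute u (g ^ p) := by
    intro u g hu hc
    set c := u * g * u⁻¹ * g⁻¹ with hcdef
    have hcg : ∀ n : ℕ, (u ^ n) * g * (u ^ n)⁻¹ = c ^ n * g := by
      intro n
      induction n with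
      | zero => simp
      | succ n ih =>
        calc u ^ (n + 1) * g * (u ^ (n + 1))⁻¹ = u * (u ^ n * g * (u ^ n)⁻¹) * u⁻¹ := by rw [pow_succ']; group
          _ = u * (c ^ n * g) * u⁻¹ := by rw [ih]
          _ = c ^ n * (u * g * u⁻¹) := by
              rw [← mul_assoc, ((hcomm c hc u).pow_right n).eq]; group
          _ = c ^ n * (c * g) := by rw [hcdef]; group
          _ = c ^ (n + 1) * g := by rw [← mul_assoc, ← pow_succ]
    have h1 := hcg p
    rw [(hcomm _ hu g).symm.eq, mul_inv_cancel_right] at h1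
    have hc1 : c ^ p = 1 := right_eq_mul.1 h1
    have h2 : u * g ^ p * u⁻¹ = g ^ p := by
      rw [← conj_pow, show u * g * u⁻¹ = c * g by rw [hcdef]; group, ((hcomm c hc g).symm).mul_pow, hc1, one_mul]
    exact mul_inv_eq_iff_eq_mul.1 h2
  set C := Subgroup.centralizer ({z} : Set P) with hCdef
  have hgC : ∀ g : P, g ^ p ∉ Subgroup.center P → Subgroup.centralizer ({g} : Set P) = C := by
    intro g hg
    have hzg : Commute z g := by
      have h1 : z ∈ Subgroup.centralizer ({g ^ p} : Set P) := (hC _ _).2 (hkill z g hzp (hz2 g))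
      rw [← hlong g hg] at h1
      exact (hC _ _).1 h1
    have hgz : (g * z) ^ p ∉ Subgroup.center P := by
      rw [hzg.symm.mul_pow]
      exact fun h => hg (by simpa using Subgroup.mul_mem _ h (Subgroup.inv_mem _ hzp))
    refine heq g z (fun h => hg (Subgroup.pow_mem _ h p)) hz fun y hy => (hC _ _).2 ?_
    have h2 : y ∈ Subgroup.centralizer ({(g * z) ^ p} : Set P) := by
      rw [hzg.symm.mul_pow, hC]
      exact (((hC _ _).1 hy).pow_right p).mul_right (hcomm _ hzp y)
    rw [← hlong _ hgz, hC] at h2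
    simpa using ((hC _ _).1 hy).inv_right.mul_right h2
  haveI hCn : C.Normal := by
    refine ⟨fun c hc y => (hC _ _).2 ?_⟩
    have h1 : Commute c (y⁻¹ * z * y) := by
      have hd : z⁻¹ * (y⁻¹ * z * y) ∈ Subgroup.center P := by
        have h2 := Subgroup.inv_mem _ (hz2 y⁻¹)
        rw [show z⁻¹ * (y⁻¹ * z * y) = z⁻¹ * (z * y⁻¹ * z⁻¹ * y⁻¹⁻¹)⁻¹ * z by group,
          (hcomm _ h2 z⁻¹).eq, inv_mul_cancel_right]
        exact h2
      simpa using ((hC _ _).1 hc).mul_right (hcomm _ hd c)
    rw [Commute, SemiconjBy] at h1 ⊢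
    calc y * c * y⁻¹ * z = y * (c * (y⁻¹ * z * y)) * y⁻¹ := by group
      _ = y * ((y⁻¹ * z * y) * c) * y⁻¹ := by rw [h1]
      _ = z * (y * c * y⁻¹) := by group
  have hout : ∀ y : P, y ∉ C → y ^ p ∈ Subgroup.center P := fun y hy => by
    by_contra h
    exact hy (hgC y h ▸ (hC _ _).2 (Commute.refl y))
  -- the abelian normal subgroup `X = Z(C)`
  set X := C ⊓ Subgroup.centralizer (C : Set P) with hXdef
  haveI hXn : X.Normal := inferInstance
  haveI hXc : IsMulCommutative X := IsMulCommutative.of_comm fun s t =>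
    Subtype.ext ((Subgroup.mem_centralizer_iff.1 t.2.2) s s.2.1)
  have hxX : x ∈ X := by
    refine Subgroup.mem_inf.2 ⟨hgC x hx ▸ (hC _ _).2 (Commute.refl x), Subgroup.mem_centralizer_iff.2 fun c hc => ?_⟩
    rw [SetLike.mem_coe, ← hgC x hx] at hc
    exact (hC _ _).1 hc
  have hQp : ∀ q : P ⧸ C, q ^ p = 1 := fun q => by
    obtain ⟨y, rfl⟩ := QuotientGroup.mk_surjective q
    by_cases hy : y ∈ C
    · rw [(QuotientGroup.eq_one_iff y).2 hy, one_pow]
    · rw [← QuotientGroup.mk_pow, QuotientGroup.eq_one_iff]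
      exact Subgroup.center_le_centralizer _ (hout y hy)
  let ψ : P ⧸ C → X := Quotient.lift (fun y => (⟨y * x * y⁻¹, hXn.conj_mem x hxX y⟩ : X)) (fun y y' h => by
    have h' : y⁻¹ * y' ∈ C := QuotientGroup.leftRel_apply.1 h
    refine Subtype.ext ?_
    show y * x * y⁻¹ = y' * x * y'⁻¹
    have h2 := Subgroup.mem_centralizer_iff.1 hxX.2 _ h'
    calc y * x * y⁻¹ = y * (x * (y⁻¹ * y')) * y'⁻¹ := by group
      _ = y * ((y⁻¹ * y') * x) * y'⁻¹ := by rw [h2]
      _ = y' * x * y'⁻¹ := by group)
  have hψ : ∀ y : P, (ψ y : P) = y * x * y⁻¹ := fun y => rfl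
  open scoped IsMulCommutative in
  have hnorm : ∀ w : P ⧸ C, w ≠ 1 → ((∏ i ∈ Finset.range p, ψ (w ^ i) : X) : P) ∈ Subgroup.center P := by
    intro w hw
    obtain ⟨y, rfl⟩ := QuotientGroup.mk_surjective w
    have hy : y ∉ C := fun h => hw ((QuotientGroup.eq_one_iff y).2 h)
    have hxy : x * y ∉ C := fun h => hy (by simpa using C.mul_mem (C.inv_mem hxX.1) h)
    have hfor : ∀ n : ℕ, ((∏ i ∈ Finset.range n, ψ ((y : P ⧸ C) ^ i) : X) : P) * y ^ n = (x * y) ^ n := by
      intro n
      induction n with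
      | zero => simp
      | succ n ih =>
        rw [Finset.prod_range_succ, Subgroup.coe_mul, pow_succ (x * y), ← ih, ← QuotientGroup.mk_pow, hψ, pow_succ]
        group
    have h1 := Subgroup.mul_mem _ (hout _ hxy) (Subgroup.inv_mem _ (hout _ hy))
    rwa [← hfor, mul_inv_cancel_right] at h1
  by_cases hQ : Nat.card (P ⧸ C) = p
  · -- all noncentral class sizes equal `p`
    have hap : p ^ a = p := by rw [← (hdich z).resolve_left hz, ← hCdef, ← hQ]; rfl
    have hder : ∀ s t : P, s * t * s⁻¹ * t⁻¹ ∈ Subgroup.center P := by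
      intro s t
      refine Subgroup.mem_center_iff.2 fun r => ?_
      rcases hdich r with hr | hr
      · exact ((hcomm r hr _).symm).eq
      · haveI hn : (Subgroup.centralizer ({r} : Set P)).Normal := by
          refine _root_.Subgroup.NormalizerCondition.normal_of_coatom _
            (haveI := hP.isNilpotent; Group.normalizerCondition_of_isNilpotent) ?_
          refine ⟨fun h => ?_, fun K hK => ?_⟩
          · rw [h, Subgroup.index_top, hap] at hr
            exact (Fact.out : p.Prime).ne_one hr.symm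
          · have h1 := Subgroup.relIndex_mul_index hK.le
            rw [hr, hap] at h1
            rcases (Fact.out : p.Prime).eq_one_or_self_of_dvd _ (Dvd.intro_left _ h1) with h2 | h2
            · exact Subgroup.index_eq_one.1 h2
            · rw [h2] at h1
              exact absurd (Subgroup.relIndex_eq_one.1 ((mul_eq_right₀ (Fact.out : p.Prime).ne_zero).1 h1)) hK.not_ge
        haveI : IsCyclic (P ⧸ Subgroup.centralizer ({r} : Set P)) :=
          isCyclic_of_prime_card (p := p) (by rw [← Subgroup.index_eq_card, hr, hap])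
        have h1 : s * t * s⁻¹ * t⁻¹ ∈ Subgroup.centralizer ({r} : Set P) := by
          rw [← QuotientGroup.eq_one_iff, QuotientGroup.mk_mul, QuotientGroup.mk_mul, QuotientGroup.mk_mul,
            QuotientGroup.mk_inv, QuotientGroup.mk_inv, mul_comm' (s : P ⧸ Subgroup.centralizer ({r} : Set P)) (t : P ⧸ Subgroup.centralizer ({r} : Set P)), mul_inv_cancel_right,
            mul_inv_cancel]
        exact ((hC _ _).1 h1).symm.eq
    obtain ⟨y, hy⟩ : ∃ y, y ∉ C := by
      by_contra h
      push Not at h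
      exact hz (Subgroup.mem_center_iff.2 fun y => (hC _ _).1 (h y))
    have h1 : y ∈ Subgroup.centralizer ({x ^ p} : Set P) := (hC _ _).2 (hkill y x (hout y hy) (hder y x))
    rw [← hlong x hx, hgC x hx] at h1
    exact hy h1
  · obtain ⟨u, v, hu, huv, hv⟩ : ∃ u v : P ⧸ C, u ≠ 1 ∧ Commute u v ∧ v ∉ Subgroup.zpowers u := by
      haveI : Nontrivial (P ⧸ C) := by
        by_contra h
        rw [not_nontrivial_iff_subsingleton, QuotientGroup.subsingleton_iff] at h
        exact hz (Subgroup.mem_center_iff.2 fun y => (hC _ _).1 (hCdef ▸ h ▸ Subgroup.mem_top y))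
      haveI := (hP.to_quotient C).center_nontrivial
      obtain ⟨u, hu⟩ := exists_ne (1 : Subgroup.center (P ⧸ C))
      by_contra hc
      push Not at hc
      have htop : Subgroup.zpowers (u : P ⧸ C) = ⊤ := eq_top_iff.2 fun v _ =>
        hc u v (fun h => hu (Subtype.ext h)) ((Subgroup.mem_center_iff.1 u.2 v).symm)
      refine hQ ?_
      rw [← Subgroup.card_top, ← htop, Nat.card_zpowers, orderOf_eq_prime (hQp _) fun h => hu (Subtype.ext h)]
    let e : P ⧸ C → ZMod p → P ⧸ C := fun q k => q ^ k.val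
    have hemul : ∀ (q : P ⧸ C) (k i : ZMod p), e q (k * i) = (e q k) ^ i.val := fun q k i => by
      show q ^ (k * i).val = (q ^ k.val) ^ i.val
      rw [← pow_mul, ZMod.val_mul, ← pow_eq_pow_mod _ (hQp q)]
    have hrange : ∀ f : ℕ → X, (open scoped IsMulCommutative in
        ∏ i : ZMod p, f i.val = ∏ i ∈ Finset.range p, f i) := fun f => by
      open scoped IsMulCommutative in
      exact Finset.prod_nbij' (fun i => i.val) (fun i => (i : ZMod p))
        (fun i _ => Finset.mem_range.2 (ZMod.val_lt i)) (fun i _ => Finset.mem_univ _)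
        (fun i _ => ZMod.natCast_zmod_val i) (fun i hi => ZMod.val_cast_of_lt (Finset.mem_range.1 hi)) (fun i _ => rfl)
    open scoped IsMulCommutative in
    apply hx
    open scoped IsMulCommutative in
    exact by
      set Φ : ZMod p → ZMod p → X := fun i j => ψ (e u i * e v j) with hΦ
      have hline : ∀ k, ((∏ i, Φ i (k * i) : X) : P) ∈ Subgroup.center P := fun k => by
        have hw : u * e v k ≠ 1 := fun h => hv (by
          by_cases hk : k = 0
          · exact absurd (by simpa [e, hk] using h) hu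
          · have h2 : e v k ∈ Subgroup.zpowers u := by
              rw [eq_inv_of_mul_eq_one_right h]; exact Subgroup.inv_mem _ (Subgroup.mem_zpowers u)
            have h3 : e v (k * k⁻¹) ∈ Subgroup.zpowers u := by rw [hemul]; exact Subgroup.pow_mem _ h2 _
            rw [mul_inv_cancel₀ hk] at h3
            simpa [e, ZMod.val_one] using h3)
        have := hnorm _ hw
        rw [← hrange (fun i => ψ ((u * e v k) ^ i))] at this
        convert this using 4 with i
        show e u i * e v (k * i) = _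
        rw [hemul, (huv.pow_right _).mul_pow]
      have hv1 : v ≠ 1 := fun h => hv (h ▸ Subgroup.one_mem _)
      have hcol : ∀ i, ((∏ j, Φ i j : X) : P) ∈ Subgroup.center P := fun i => by
        obtain ⟨y, hy⟩ := QuotientGroup.mk_surjective (e u i)
        let c : X →* X := (MulAut.conjNormal y).toMonoidHom
        have hc : ∀ j, Φ i j = c (ψ (v ^ j.val)) := fun j => by
          obtain ⟨w, hw⟩ := QuotientGroup.mk_surjective (v ^ j.val)
          apply Subtype.ext
          show (ψ (e u i * v ^ j.val) : P) = _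
          rw [← hy, ← hw, ← QuotientGroup.mk_mul, hψ]
          show _ = y * (ψ w : P) * y⁻¹
          rw [hψ]; group
        rw [Fintype.prod_congr _ _ hc, ← map_prod, hrange (fun i => ψ (v ^ i))]
        have h1 := hnorm v hv1
        show y * _ * y⁻¹ ∈ _
        rw [(hcomm _ h1 y).eq, mul_inv_cancel_right]
        exact h1
      have hid : (∏ k, ∏ i, Φ i (k * i)) * ∏ j, Φ 0 j = Φ 0 0 ^ p * ∏ i, ∏ j, Φ i j := by
        rw [Finset.prod_comm, Fintype.prod_eq_mul_prod_compl (0 : ZMod p),
          Fintype.prod_eq_mul_prod_compl (0 : ZMod p) (fun i => ∏ j, Φ i j)]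
        have h2 : ∀ i ∈ ({0} : Finset (ZMod p))ᶜ, ∏ k, Φ i (k * i) = ∏ j, Φ i j := fun i hi =>
          Equiv.prod_comp (Equiv.mulRight₀ i (by simpa using hi)) (Φ i)
        rw [Finset.prod_congr rfl h2]
        simp only [mul_zero, Finset.prod_const, Finset.card_univ, ZMod.card]
        rw [mul_assoc, mul_comm (∏ i ∈ ({0} : Finset (ZMod p))ᶜ, _)]
      have h00 : ((Φ 0 0 : X) : P) = x := by
        show (ψ (u ^ (0 : ZMod p).val * v ^ (0 : ZMod p).val) : P) = x
        rw [ZMod.val_zero, pow_zero, pow_zero, one_mul, ← QuotientGroup.mk_one, hψ]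
        group
      let Z' : Subgroup X := (Subgroup.center P).comap X.subtype
      have h1 : (∏ k, ∏ i, Φ i (k * i)) * ∏ j, Φ 0 j ∈ Z' :=
        Z'.mul_mem (Z'.prod_mem fun k _ => hline k) (hcol 0)
      rw [hid] at h1
      have h2 := (Z'.mul_mem_cancel_right (Z'.prod_mem fun i _ => hcol i)).1 h1
      rw [Subgroup.mem_comap, Subgroup.coe_subtype, Subgroup.coe_pow, h00] at h2
      exact h2

end Cfsg.Agent.S4365
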