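import Cfsg.Statements.S4370
import Cfsg.Agent.Lib.Grp.AmbivalentSolvable
import Cfsg.Agent.Lib.Transfer.RankOneCyclic
import Cfsg.Agent.Lib.Transfer.TypeP
import Cfsg.Agent.Lib.Grp.Cores
import Mathlib

set_option maxHeartbeats 1000000
set_option maxRecDepth 8000

set_option autoImplicit false
open Cfsg

namespace Cfsg.Agent.S4370

theorem two_mul_eq_zero {N : ℕ} [NeZero N] {j : ZMod (2 * N)} (h : j + j = 0) : j = 0 ∨ j = (N : ZMod (2 * N)) := by
  haveI : NeZero (2 * N) := ⟨Nat.mul_ne_zero two_ne_zero (NeZero.ne N)⟩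
  have h1 : 2 * N ∣ j.val + j.val := by
    rw [← ZMod.natCast_eq_zero_iff, Nat.cast_add, ZMod.natCast_val, ZMod.cast_id', id, h]
  obtain ⟨c, hc⟩ := h1
  have hlt := j.val_lt
  rcases Nat.lt_or_ge c 1 with hc0 | hc1
  · left
    obtain rfl : c = 0 := by omega
    exact (ZMod.val_eq_zero j).1 (by omega)
  · right
    have hc2 : c = 1 := by
      by_contra hne
      have : 2 * N * 2 ≤ 2 * N * c := Nat.mul_le_mul_left _ (by omega)
      omega
    subst hc2
    have : j.val = N := by omega
    rw [show (N : ZMod (2 * N)) = ((j.val : ℕ) : ZMod (2 * N)) by rw [this], ZMod.natCast_val, ZMod.cast_id', id]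

theorem quaternion_centralizer (N : ℕ) [NeZero N] (x : QuaternionGroup N) (hx : x ∉ Subgroup.center (QuaternionGroup N)) :
    IsCyclic (Subgroup.centralizer ({x} : Set (QuaternionGroup N))) := by
  haveI : NeZero (2 * N) := ⟨Nat.mul_ne_zero two_ne_zero (NeZero.ne N)⟩
  rcases x with i | i
  · refine Subgroup.isCyclic_of_le (H := Subgroup.centralizer _) (H' := Subgroup.zpowers (QuaternionGroup.a 1)) ?_
    intro y hy
    rw [Subgroup.mem_centralizer_singleton_iff] at hy
    rcases y with j | j
    · exact ⟨(j.val : ℤ), by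
        show (QuaternionGroup.a 1 : QuaternionGroup N) ^ (j.val : ℤ) = QuaternionGroup.a j
        rw [zpow_natCast, QuaternionGroup.a_one_pow, ZMod.natCast_val, ZMod.cast_id', id]⟩
    · exfalso
      rw [QuaternionGroup.xa_mul_a, QuaternionGroup.a_mul_xa, QuaternionGroup.xa.injEq] at hy
      have hi : i + i = 0 := by linear_combination hy
      refine hx (Subgroup.mem_center_iff.2 fun y => ?_)
      rcases y with j' | j'
      · rw [QuaternionGroup.a_mul_a, QuaternionGroup.a_mul_a, add_comm]
      · rw [QuaternionGroup.xa_mul_a, QuaternionGroup.a_mul_xa]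
        congr 1
        linear_combination hi
  · refine Subgroup.isCyclic_of_le (H := Subgroup.centralizer _) (H' := Subgroup.zpowers (QuaternionGroup.xa i)) ?_
    have hsq : QuaternionGroup.a (N : ZMod (2 * N)) ∈ Subgroup.zpowers (QuaternionGroup.xa i : QuaternionGroup N) := by
      have h := (Subgroup.zpowers (QuaternionGroup.xa i : QuaternionGroup N)).mul_mem (Subgroup.mem_zpowers _) (Subgroup.mem_zpowers _)
      rwa [QuaternionGroup.xa_mul_xa, add_sub_cancel_right] at h
    intro y hy
    rw [Subgroup.mem_centralizer_singleton_iff] at hy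
    rcases y with j | j
    · rw [QuaternionGroup.a_mul_xa, QuaternionGroup.xa_mul_a, QuaternionGroup.xa.injEq] at hy
      rcases two_mul_eq_zero (show j + j = 0 by linear_combination -hy) with rfl | rfl
      · exact Subgroup.one_mem _
      · exact hsq
    · rw [QuaternionGroup.xa_mul_xa, QuaternionGroup.xa_mul_xa, QuaternionGroup.a.injEq] at hy
      rcases two_mul_eq_zero (show (j - i) + (j - i) = 0 by linear_combination -hy) with h | h
      · rw [sub_eq_zero.1 h]; exact Subgroup.mem_zpowers _
      · rw [show j = i + (N : ZMod (2 * N)) by linear_combination h, ← QuaternionGroup.xa_mul_a]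
        exact Subgroup.mul_mem _ (Subgroup.mem_zpowers _) hsq


/-- Let G be a finite non-abelian nilpotent group. Then the centralizer of every non-central element of G is cyclic if and only if G is isomorphic to the direct product of a generalized quaternion group and a cyclic group of odd order. -/
theorem result {G : Type*} [Group G] [Finite G] (hG : Group.IsNilpotent G)
    (hna : ¬ IsMulCommutative G) :
    (∀ x : G, x ∉ Subgroup.center G → IsCyclic (Subgroup.centralizer ({x} : Set G))) ↔
      ∃ (k m : ℕ), 1 ≤ k ∧ Odd m ∧ Nonempty (G ≃* QuaternionGroup (2 ^ k) × Multiplicative (ZMod m)) := by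

  classical
  constructor
  · intro hc
    obtain ⟨x₀, hx₀⟩ : ∃ x : G, x ∉ Subgroup.center G := by
      by_contra h
      push Not at h
      exact hna ⟨⟨fun a b => (Subgroup.mem_center_iff.1 (h b) a)⟩⟩
    have habel : ∀ A : Subgroup G, (∀ a ∈ A, ∀ b ∈ A, a * b = b * a) → IsCyclic A := by
      intro A hA
      by_cases hAZ : A ≤ Subgroup.center G
      · haveI := hc x₀ hx₀
        exact Subgroup.isCyclic_of_le (H' := Subgroup.centralizer ({x₀} : Set G))
          fun a ha => Subgroup.mem_centralizer_singleton_iff.2 (Subgroup.mem_center_iff.1 (hAZ ha) x₀).symm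
      · obtain ⟨x, hx, hxZ⟩ := SetLike.not_le_iff_exists.1 hAZ
        haveI := hc x hxZ
        exact Subgroup.isCyclic_of_le (H' := Subgroup.centralizer ({x} : Set G))
          fun a ha => Subgroup.mem_centralizer_singleton_iff.2 (hA a ha x hx)
    have hsub : ∀ (P : Subgroup G) (A : Subgroup P), IsMulCommutative A → IsCyclic A := fun P A hA => by
      haveI := habel (A.map P.subtype) (by
        rintro _ ⟨a, ha, rfl⟩ _ ⟨b, hb, rfl⟩
        exact congrArg (fun t : A => ((t : P) : G)) (hA.is_comm.comm (⟨a, ha⟩ : A) ⟨b, hb⟩))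
      exact isCyclic_of_surjective (A.equivMapOfInjective P.subtype P.subtype_injective).symm
        (A.equivMapOfInjective P.subtype P.subtype_injective).symm.surjective
    haveI : Fact (Nat.Prime 2) := ⟨Nat.prime_two⟩
    obtain ⟨P⟩ : Nonempty (Sylow 2 G) := inferInstance
    have hPn : (P : Subgroup G).Normal := (Cfsg.Agent.Grp.isNilpotent_iff_sylow_normal.1 hG) 2 inferInstance P
    haveI := hPn
    obtain ⟨K, hK⟩ := Subgroup.exists_right_complement'_of_coprime (N := (P : Subgroup G)) P.card_coprime_index
    have hKodd : Odd (Nat.card K) := by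
      rw [← hK.symm.index_eq_card, Nat.odd_iff]
      have := P.not_dvd_index
      omega
    have hcomm : ∀ a ∈ (P : Subgroup G), ∀ b ∈ K, a * b = b * a := fun a ha b hb => by
      refine Cfsg.Agent.Transfer.TypeP.commute_of_coprime_orderOf (F := ⊤)
        (Group.nilpotent_of_mulEquiv Subgroup.topEquiv.symm) (Subgroup.mem_top a) (Subgroup.mem_top b) ?_
      obtain ⟨j, hj⟩ := IsPGroup.iff_orderOf.1 P.2 ⟨a, ha⟩
      rw [Subgroup.orderOf_mk] at hj
      rw [hj]
      exact (Nat.Coprime.coprime_dvd_right (K.orderOf_dvd_natCard hb) (Nat.coprime_two_left.2 hKodd)).pow_left j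
    have hKc : IsCyclic K := by
      haveI : Group.IsNilpotent G := hG
      haveI : IsZGroup K := ⟨fun q hq Q => by
        haveI := Fact.mk hq
        by_cases hq2 : q = 2
        · subst hq2
          haveI : Subsingleton (Q : Subgroup K) := by
            obtain ⟨j, hj⟩ := IsPGroup.iff_card.1 Q.2
            refine (Nat.card_eq_one_iff_unique.1 ?_).1
            refine Nat.eq_one_of_dvd_coprimes ((Nat.coprime_two_left.2 hKodd).pow_left j) hj.dvd (Subgroup.card_subgroup_dvd_card _)
          infer_instance
        · refine Cfsg.Agent.Transfer.RankOneCyclic.aux _ _ rfl hq2 Q.2 fun A hA => ?_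
          haveI := hA
          haveI : IsMulCommutative (A.map (Q : Subgroup K).subtype) := inferInstance
          haveI := hsub K (A.map (Q : Subgroup K).subtype) inferInstance
          exact isCyclic_of_surjective (A.equivMapOfInjective _ (Q : Subgroup K).subtype_injective).symm
            (A.equivMapOfInjective _ (Q : Subgroup K).subtype_injective).symm.surjective⟩
      infer_instance
    have he : Function.Bijective (fun t : ↥(P : Subgroup G) × K => (t.1 : G) * t.2) := hK
    let e : ↥(P : Subgroup G) × K ≃* G := MulEquiv.ofBijective (MonoidHom.mk' (fun t => (t.1 : G) * t.2) (fun s t => by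
      show ((s.1 * t.1 : (P : Subgroup G)) : G) * ((s.2 * t.2 : K) : G) = (s.1 : G) * s.2 * ((t.1 : G) * t.2)
      rw [Subgroup.coe_mul, Subgroup.coe_mul]
      calc (s.1 : G) * t.1 * ((s.2 : G) * t.2) = (s.1 : G) * ((t.1 : G) * s.2) * t.2 := by group
        _ = (s.1 : G) * ((s.2 : G) * t.1) * t.2 := by rw [hcomm _ t.1.2 _ s.2.2]
        _ = _ := by group)) he
    rcases Cfsg.Agent.Grp.Ambivalent.cyclic_or_quaternion P.2 (fun u v hu hv => by
      obtain ⟨z, hz⟩ : ∃ z : (P : Subgroup G), orderOf z = 2 ∧ z ∈ Subgroup.center (P : Subgroup G) := by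
        haveI : Nontrivial (P : Subgroup G) := ⟨⟨u, 1, fun h => by rw [h, orderOf_one] at hu; omega⟩⟩
        haveI := P.2.center_nontrivial
        obtain ⟨j, hj⟩ := IsPGroup.iff_card.1 (P.2.to_subgroup (Subgroup.center (P : Subgroup G)))
        obtain ⟨z, hz⟩ := exists_prime_orderOf_dvd_card' (G := Subgroup.center (P : Subgroup G)) 2 (hj ▸ dvd_pow_self 2 (by
          rintro rfl
          have := Finite.one_lt_card (α := Subgroup.center (P : Subgroup G))
          omega))
        exact ⟨z, by rw [Subgroup.orderOf_coe, hz], z.2⟩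
      have key : ∀ w : (P : Subgroup G), orderOf w = 2 → w = z := by
        intro w hw
        have hcz : Commute w z := Subgroup.mem_center_iff.1 hz.2 w
        haveI : IsMulCommutative (Subgroup.closure ({w, z} : Set (P : Subgroup G))) := Subgroup.isMulCommutative_closure (by
          rintro a (rfl | rfl) b (rfl | rfl) <;> first | rfl | exact hcz.eq | exact hcz.eq.symm)
        have hcy := hsub (P : Subgroup G) (Subgroup.closure ({w, z} : Set (P : Subgroup G))) inferInstance
        haveI : Fact (Nat.Prime 2) := ⟨Nat.prime_two⟩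
        obtain ⟨i, hi⟩ := Cfsg.Agent.Transfer.RankOneCyclic.mem_zpowers_of_pow_eq_one hcy
          (Subgroup.subset_closure (by simp : z ∈ ({w, z} : Set _))) hz.1
          (Subgroup.subset_closure (by simp : w ∈ ({w, z} : Set _))) (orderOf_dvd_iff_pow_eq_one.1 hw.dvd)
        simp only at hi
        rcases Int.emod_two_eq_zero_or_one i with h0 | h1
        · exfalso
          rw [← zpow_mod_orderOf, hz.1, Nat.cast_ofNat, h0, zpow_zero] at hi
          rw [← hi, orderOf_one] at hw
          omega
        · rw [← zpow_mod_orderOf, hz.1, Nat.cast_ofNat, h1, zpow_one] at hi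
          exact hi.symm
      rw [key u hu, key v hv]) with hcy | ⟨n, ⟨f⟩⟩
    · exfalso
      refine hna ⟨⟨fun a b => ?_⟩⟩
      obtain ⟨s, rfl⟩ := e.surjective a
      obtain ⟨t, rfl⟩ := e.surjective b
      rw [← map_mul, ← map_mul, show s * t = t * s from Prod.ext (IsCyclic.commGroup.mul_comm s.1 t.1) (IsCyclic.commGroup.mul_comm s.2 t.2)]
    · refine ⟨n + 1, Nat.card K, by omega, hKodd, ⟨e.symm.trans (MulEquiv.prodCongr f ?_)⟩⟩
      exact (zmodCyclicMulEquiv hKc).symm
  · rintro ⟨k, m, -, hm, ⟨e⟩⟩ x hx
    haveI : NeZero m := ⟨by rintro rfl; simp at hm⟩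
    set q := (e x).1 with hq
    have hqc : q ∉ Subgroup.center (QuaternionGroup (2 ^ k)) := fun h => hx (Subgroup.mem_center_iff.2 fun y => e.injective (by
      rw [map_mul, map_mul]
      exact Prod.ext (Subgroup.mem_center_iff.1 h _) (mul_comm _ _)))
    haveI := quaternion_centralizer (2 ^ k) q hqc
    haveI : NeZero (2 * 2 ^ k) := ⟨by positivity⟩
    have hco : (Nat.card (Subgroup.centralizer ({q} : Set (QuaternionGroup (2 ^ k))))).Coprime
        (Nat.card (Multiplicative (ZMod m))) := by
      refine Nat.Coprime.coprime_dvd_left (Subgroup.card_subgroup_dvd_card _) ?_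
      rw [Nat.card_eq_fintype_card, QuaternionGroup.card, Nat.card_congr Multiplicative.toAdd, Nat.card_zmod,
        show 4 * 2 ^ k = 2 ^ (k + 2) by ring]
      exact (Nat.coprime_two_left.2 hm).pow_left _
    haveI : IsCyclic (Subgroup.centralizer ({q} : Set (QuaternionGroup (2 ^ k))) × Multiplicative (ZMod m)) :=
      Group.isCyclic_prod_iff.2 ⟨inferInstance, inferInstance, hco⟩
    let g : Subgroup.centralizer ({q} : Set (QuaternionGroup (2 ^ k))) × Multiplicative (ZMod m) →*
        Subgroup.centralizer ({x} : Set G) :=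
      { toFun := fun t => ⟨e.symm (t.1.1, t.2), Subgroup.mem_centralizer_singleton_iff.2 (e.injective (by
          rw [map_mul, map_mul, e.apply_symm_apply]
          exact Prod.ext (Subgroup.mem_centralizer_singleton_iff.1 t.1.2) (mul_comm _ _)))⟩
        map_one' := Subtype.ext (by simp [← Prod.one_eq_mk])
        map_mul' := fun s t => Subtype.ext (by simp [← map_mul]) }
    refine isCyclic_of_surjective g fun y => ?_
    refine ⟨(⟨(e y.1).1, Subgroup.mem_centralizer_singleton_iff.2 ?_⟩, (e y.1).2), Subtype.ext (e.symm_apply_apply _)⟩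
    have h := congrArg (fun z => (e z).1) (Subgroup.mem_centralizer_singleton_iff.1 y.2)
    simpa [map_mul] using h

end Cfsg.Agent.S4370
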