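import Cfsg.Statements.S4376
import Cfsg.Agent.Lib.Transfer.OrderTypeExample

set_option maxHeartbeats 1000000
set_option maxRecDepth 8000
set_option synthInstance.maxSize 4000
set_option synthInstance.maxHeartbeats 100000

set_option autoImplicit false
open Cfsg

namespace Cfsg.Agent.S4376

open Cfsg.Agent.Transfer.OrderType Cfsg.Agent.Transfer.OrderTypeExample

abbrev P2 (X : Type) := X × X
abbrev P3 (X : Type) := X × X × X
abbrev P4 (X : Type) := X × X × X × X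
abbrev d14 : DihedralGroup 7 →* ℤˣ := dsign
abbrev d8s : DihedralGroup 4 →* ℤˣ := dsign
abbrev FA := fib (fibHom sign42 rsign) rsign
abbrev FB := fib d14 d14
abbrev FC := fib sign42 d8s
abbrev FD := fib (d14.coprod d8s) signS4
abbrev FE := fib d14 sign42
abbrev FF := fib (d14.coprod d14) rsign
abbrev FG := fib rsign rsign

abbrev GS : Type := P3 AGL × C7 × P3 FA × P2 FB × P3 FC × P3 FD

abbrev HN : Type :=
  P3 L × P3 signS4.ker × P4 F21 × P2 FE × P3 FF × P3 (DihedralGroup 4) × P3 FG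

theorem sol3 {X : Type} [Group X] (_h : Group.IsSolvable X) : Group.IsSolvable (P3 X) :=
  inferInstance

theorem sol2 {X Y : Type} [Group X] [Group Y] (_h : Group.IsSolvable X) (_h' : Group.IsSolvable Y) :
    Group.IsSolvable (X × Y) := inferInstance

theorem solvable_GS : Group.IsSolvable GS :=
  sol2 (sol3 inferInstance) <| sol2 inferInstance <| sol2 (sol3 inferInstance) <|
    sol2 (sol2 inferInstance inferInstance) <| sol2 (sol3 inferInstance) (sol3 inferInstance)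

theorem not_solvable_HN : ¬ Group.IsSolvable HN := by
  intro h
  let p : HN →* L :=
    { toFun := fun x => x.1.1, map_one' := rfl, map_mul' := fun _ _ => rfl }
  have hp : Function.Surjective p := fun x => ⟨((x, 1, 1), 1), rfl⟩
  exact not_isSolvable_L (Group.isSolvable_of_surjective hp)

/-- Positions of the divisors of `84`. -/
def tbl (l : List ℕ) (n : ℕ) : ℕ :=
  l.getD ([1, 2, 3, 4, 6, 7, 12, 14, 21, 28, 42, 84].idxOf n) 0

theorem pow_gcd_iff {X : Type} [Monoid X] {ks : List ℕ} (h : ∀ x : X, ∃ k ∈ ks, x ^ k = 1)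
    (n : ℕ) (x : X) : x ^ n = 1 ↔ ∃ k ∈ ks, x ^ Nat.gcd n k = 1 := by
  constructor
  · intro hn
    obtain ⟨k, hk, hxk⟩ := h x
    exact ⟨k, hk, pow_gcd_eq_one.mpr ⟨hn, hxk⟩⟩
  · rintro ⟨k, -, hk⟩
    obtain ⟨c, hc⟩ := Nat.gcd_dvd_left n k
    rw [hc, pow_mul, hk, one_pow]

theorem root_small {X : Type} [Monoid X] [Fintype X] [DecidableEq X] {ks : List ℕ}
    (h : ∀ x : X, ∃ k ∈ ks, x ^ k = 1) (n : ℕ) :
    rootCount X n = (Finset.univ.filter fun x : X => ∃ k ∈ ks, x ^ Nat.gcd n k = 1).card := by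
  rw [rootCount, Nat.card_eq_fintype_card, Fintype.card_subtype]
  simp only [pow_gcd_iff h n]

theorem fiber_small {X : Type} [Monoid X] [Fintype X] [DecidableEq X] {ks : List ℕ}
    (h : ∀ x : X, ∃ k ∈ ks, x ^ k = 1) (χ : X →* ℤˣ) (n : ℕ) (a : ℤˣ) :
    fiberRootCount χ n a =
      (Finset.univ.filter fun x : X => χ x = a ∧ ∃ k ∈ ks, x ^ Nat.gcd n k = 1).card := by
  rw [fiberRootCount, Nat.card_eq_fintype_card, Fintype.card_subtype]
  simp only [pow_gcd_iff h n]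

theorem exp_of {X : Type} [Monoid X] {ks : List ℕ} (hk : ∀ k ∈ ks, k ∣ 84)
    (h : ∀ x : X, ∃ k ∈ ks, x ^ k = 1) (x : X) : x ^ 84 = 1 := by
  obtain ⟨k, hk', hx⟩ := h x
  obtain ⟨c, hc⟩ := hk k hk'
  rw [hc, pow_mul, hx, one_pow]

theorem o42 : ∀ x : F42, ∃ k ∈ [6, 7], x ^ k = 1 := by decide +kernel
theorem o21 : ∀ x : F21, ∃ k ∈ [3, 7], x ^ k = 1 := by decide +kernel
theorem oAGL : ∀ x : AGL, ∃ k ∈ [6, 7], x ^ k = 1 := by decide +kernel
theorem oS4 : ∀ x : S4, ∃ k ∈ [3, 4], x ^ k = 1 := by decide +kernel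
theorem o14 : ∀ x : DihedralGroup 7, ∃ k ∈ [2, 7], x ^ k = 1 := by decide +kernel
theorem o8 : ∀ x : DihedralGroup 4, ∃ k ∈ [4], x ^ k = 1 := by decide +kernel
theorem o7 : ∀ x : C7, ∃ k ∈ [7], x ^ k = 1 := by decide +kernel

theorem hit (φ : L) (m : ℕ) (v : V) : (φ ^ m) v = (⇑φ)^[m] v := by
  induction m generalizing v with
  | zero => rfl
  | succ m ih => rw [pow_succ, MulAut.mul_apply, ih, Function.iterate_succ_apply]

theorem oL : ∀ φ : L, ∃ k ∈ ([3, 4, 7] : List ℕ), φ ^ k = 1 := by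
  intro φ
  have key : ∀ t : V × V × V, (∀ v, v ≠ 1 → lin t v ≠ 1) → ∃ k ∈ ([3, 4, 7] : List ℕ),
      (lin t)^[k] e1 = e1 ∧ (lin t)^[k] e2 = e2 ∧ (lin t)^[k] e3 = e3 := by decide +kernel
  obtain ⟨k, hk, h1, h2, h3⟩ := key (φ e1, φ e2, φ e3) (fun v hv h => by
    rw [← eq_lin, EmbeddingLike.map_eq_one_iff] at h
    exact hv h)
  refine ⟨k, hk, DFunLike.coe_injective ?_⟩
  rw [eq_lin (φ ^ k), eq_lin (1 : L), hit, hit, hit, eq_lin φ, h1, h2, h3]
  rfl

theorem lin_gcd (φ : L) (n : ℕ) :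
    φ ^ n = 1 ↔ ∃ k ∈ ([3, 4, 7] : List ℕ), (lin (φ e1, φ e2, φ e3))^[Nat.gcd n k] e1 = e1 ∧
      (lin (φ e1, φ e2, φ e3))^[Nat.gcd n k] e2 = e2 ∧
      (lin (φ e1, φ e2, φ e3))^[Nat.gcd n k] e3 = e3 := by
  rw [pow_gcd_iff oL]
  refine exists_congr fun k => and_congr_right fun _ => ?_
  rw [← eq_lin, ← hit, ← hit, ← hit]
  constructor
  · intro h
    simp [h]
  · rintro ⟨h1, h2, h3⟩
    apply DFunLike.coe_injective
    rw [eq_lin (φ ^ _), eq_lin (1 : L), h1, h2, h3]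
    rfl

theorem root_L (n : ℕ) : rootCount L n = (Finset.univ.filter fun t : V × V × V =>
      (∀ v, v ≠ 1 → lin t v ≠ 1) ∧ ∃ k ∈ ([3, 4, 7] : List ℕ), (lin t)^[Nat.gcd n k] e1 = e1 ∧
        (lin t)^[Nat.gcd n k] e2 = e2 ∧ (lin t)^[Nat.gcd n k] e3 = e3).card := by
  rw [← Nat.card_eq_finsetCard]
  refine Nat.card_congr (Equiv.ofBijective
    (fun φ => ⟨(φ.1 e1, φ.1 e2, φ.1 e3),
      Finset.mem_filter.mpr ⟨Finset.mem_univ _, ?_, (lin_gcd φ.1 n).mp φ.2⟩⟩) ⟨?_, ?_⟩)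
  · intro v hv h
    rw [← eq_lin, EmbeddingLike.map_eq_one_iff] at h
    exact hv h
  · intro φ ψ h
    simp only [Subtype.mk.injEq] at h
    apply Subtype.ext
    apply DFunLike.coe_injective
    rw [eq_lin φ.1, eq_lin ψ.1, h]
  · rintro ⟨⟨a, b, c⟩, hmem⟩
    obtain ⟨-, hgood, hk⟩ := Finset.mem_filter.mp hmem
    let f : V →* V := MonoidHom.mk' (lin (a, b, c)) (lin_mul _)
    have finj : Function.Injective f := by
      rw [injective_iff_map_eq_one]
      intro v hv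
      by_contra hne
      exact hgood v hne hv
    let φ : L := MulEquiv.ofBijective f ⟨finj, Finite.surjective_of_injective finj⟩
    have hb : ∀ a b c : V, lin (a, b, c) e1 = a ∧ lin (a, b, c) e2 = b ∧ lin (a, b, c) e3 = c := by
      decide +kernel
    have hφ : (φ e1, φ e2, φ e3) = (a, b, c) := by
      change (lin (a, b, c) e1, lin (a, b, c) e2, lin (a, b, c) e3) = _
      rw [(hb a b c).1, (hb a b c).2.1, (hb a b c).2.2]
    refine ⟨⟨φ, (lin_gcd φ n).mpr ?_⟩, Subtype.ext hφ⟩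
    rw [hφ]
    exact hk

theorem exp_prod {X Y : Type} [Monoid X] [Monoid Y] (hX : ∀ x : X, x ^ 84 = 1)
    (hY : ∀ y : Y, y ^ 84 = 1) : ∀ p : X × Y, p ^ 84 = 1 :=
  fun p => Prod.ext (hX p.1) (hY p.2)

theorem exp_sub {X : Type} [Group X] (K : Subgroup X) (hX : ∀ x : X, x ^ 84 = 1) :
    ∀ p : K, p ^ 84 = 1 :=
  fun p => Subtype.ext (hX p.1)

theorem exp3 {X : Type} [Monoid X] (h : ∀ x : X, x ^ 84 = 1) : ∀ p : P3 X, p ^ 84 = 1 :=
  exp_prod h (exp_prod h h)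

theorem exp2 {X : Type} [Monoid X] (h : ∀ x : X, x ^ 84 = 1) : ∀ p : P2 X, p ^ 84 = 1 :=
  exp_prod h h

theorem exp4 {X : Type} [Monoid X] (h : ∀ x : X, x ^ 84 = 1) : ∀ p : P4 X, p ^ 84 = 1 :=
  exp_prod h (exp_prod h (exp_prod h h))

theorem x42 : ∀ x : F42, x ^ 84 = 1 := exp_of (by decide) o42
theorem x14 : ∀ x : DihedralGroup 7, x ^ 84 = 1 := exp_of (by decide) o14
theorem x8 : ∀ x : DihedralGroup 4, x ^ 84 = 1 := exp_of (by decide) o8
theorem xS4 : ∀ x : S4, x ^ 84 = 1 := exp_of (by decide) oS4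

theorem expGS : ∀ x : GS, x ^ 84 = 1 :=
  exp_prod (exp3 (exp_of (by decide) oAGL)) <| exp_prod (exp_of (by decide) o7) <|
    exp_prod (exp3 (exp_sub _ (exp_prod (exp_sub _ (exp_prod x42 x8)) x8))) <|
    exp_prod (exp2 (exp_sub _ (exp_prod x14 x14))) <|
    exp_prod (exp3 (exp_sub _ (exp_prod x42 x8)))
      (exp3 (exp_sub _ (exp_prod (exp_prod x14 x8) xS4)))

theorem expHN : ∀ x : HN, x ^ 84 = 1 :=
  exp_prod (exp3 (exp_of (by decide) oL)) <| exp_prod (exp3 (exp_sub _ xS4)) <|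
    exp_prod (exp4 (exp_of (by decide) o21)) <|
    exp_prod (exp2 (exp_sub _ (exp_prod x14 x42))) <|
    exp_prod (exp3 (exp_sub _ (exp_prod (exp_prod x14 x14) x8))) <|
    exp_prod (exp3 x8) (exp3 (exp_sub _ (exp_prod x8 x8)))

theorem sum_units (f : ℤˣ → ℕ) : ∑ a, f a = f 1 + f (-1) := by
  rw [show (Finset.univ : Finset ℤˣ) = {1, -1} by decide, Finset.sum_pair (by decide)]

theorem t14 : ∀ n ∈ Nat.divisors 84,
    fiberRootCount d14 n 1 = tbl [1, 1, 1, 1, 1, 7, 1, 7, 7, 7, 7, 7] n ∧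
    fiberRootCount d14 n (-1) = tbl [0, 7, 0, 7, 7, 0, 7, 7, 0, 7, 7, 7] n := by
  simp only [fiber_small o14]
  decide +kernel

theorem t42 : ∀ n ∈ Nat.divisors 84,
    fiberRootCount sign42 n 1 = tbl [1, 1, 15, 1, 15, 7, 15, 7, 21, 7, 21, 21] n ∧
    fiberRootCount sign42 n (-1) = tbl [0, 7, 0, 7, 21, 0, 21, 7, 0, 7, 21, 21] n := by
  simp only [fiber_small o42]
  decide +kernel

theorem t8r : ∀ n ∈ Nat.divisors 84,
    fiberRootCount rsign n 1 = tbl [1, 4, 1, 4, 4, 1, 4, 4, 1, 4, 4, 4] n ∧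
    fiberRootCount rsign n (-1) = tbl [0, 2, 0, 4, 2, 0, 4, 2, 0, 4, 2, 4] n := by
  simp only [fiber_small o8]
  decide +kernel

theorem t8s : ∀ n ∈ Nat.divisors 84,
    fiberRootCount d8s n 1 = tbl [1, 2, 1, 4, 2, 1, 4, 2, 1, 4, 2, 4] n ∧
    fiberRootCount d8s n (-1) = tbl [0, 4, 0, 4, 4, 0, 4, 4, 0, 4, 4, 4] n := by
  simp only [fiber_small o8]
  decide +kernel

theorem tS4 : ∀ n ∈ Nat.divisors 84,
    fiberRootCount signS4 n 1 = tbl [1, 4, 9, 4, 12, 1, 12, 4, 9, 4, 12, 12] n ∧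
    fiberRootCount signS4 n (-1) = tbl [0, 6, 0, 12, 6, 0, 12, 6, 0, 12, 6, 12] n := by
  simp only [fiber_small oS4]
  decide +kernel

theorem r21 : ∀ n ∈ Nat.divisors 84,
    rootCount F21 n = tbl [1, 1, 15, 1, 15, 7, 15, 7, 21, 7, 21, 21] n := by
  simp only [root_small o21]
  decide +kernel

theorem r7 : ∀ n ∈ Nat.divisors 84,
    rootCount C7 n = tbl [1, 1, 1, 1, 1, 7, 1, 7, 7, 7, 7, 7] n := by
  simp only [root_small o7]
  decide +kernel

theorem r8 : ∀ n ∈ Nat.divisors 84,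
    rootCount (DihedralGroup 4) n = tbl [1, 6, 1, 8, 6, 1, 8, 6, 1, 8, 6, 8] n := by
  simp only [root_small o8]
  decide +kernel

theorem rAGL : ∀ n ∈ Nat.divisors 84,
    rootCount AGL n = tbl [1, 8, 57, 8, 120, 49, 120, 56, 105, 56, 168, 168] n := by
  simp only [root_small oAGL]
  decide +kernel

theorem rL : ∀ n ∈ Nat.divisors 84,
    rootCount L n = tbl [1, 22, 57, 64, 78, 49, 120, 70, 105, 112, 126, 168] n := by
  simp only [root_L]
  decide +kernel

theorem root_fib {X Y : Type} [Group X] [Group Y] [Finite X] [Finite Y] (χ : X →* ℤˣ)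
    (ψ : Y →* ℤˣ) (n : ℕ) :
    rootCount (fib χ ψ) n = fiberRootCount χ n 1 * fiberRootCount ψ n 1 +
      fiberRootCount χ n (-1) * fiberRootCount ψ n (-1) := by
  rw [rootCount_eq_sum (fibHom χ ψ), sum_units, fiberRootCount_fib, fiberRootCount_fib]

theorem root_eq_of_mem (m : ℕ) (hm : m ∈ Nat.divisors 84) :
    rootCount GS m = rootCount HN m := by
  have hinv : ((-1 : ℤˣ))⁻¹ = -1 := by decide
  simp only [GS, HN, P2, P3, P4, FA, FB, FC, FD, FE, FF, FG, rootCount_prod, root_fib,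
    rootCount_ker, fiberRootCount_coprod, fiberRootCount_fib, sum_units, inv_one, one_mul, hinv,
    mul_one, neg_mul_neg, (t14 m hm).1, (t14 m hm).2, (t42 m hm).1, (t42 m hm).2,
    (t8r m hm).1, (t8r m hm).2, (t8s m hm).1, (t8s m hm).2, (tS4 m hm).1, (tS4 m hm).2,
    r21 m hm, r7 m hm, r8 m hm, rAGL m hm, rL m hm]
  revert m
  decide +kernel

/-- There are finite groups G and H having the same number of elements of each order (the same order type) with G solvable and H not solvable. -/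
theorem result :
    ∃ (G : Type) (_ : Group G) (_ : Finite G) (H : Type) (_ : Group H) (_ : Finite H),
      Group.IsSolvable G ∧ ¬ Group.IsSolvable H ∧ ∀ n : ℕ, Nat.card {g : G // orderOf g = n} = Nat.card {h : H // orderOf h = n} := by
  refine ⟨GS, inferInstance, inferInstance, HN, inferInstance, inferInstance, solvable_GS,
    not_solvable_HN, fun n => card_orderOf_eq (fun k => ?_) n⟩
  rw [rootCount_eq_gcd expGS k, rootCount_eq_gcd expHN k]
  exact root_eq_of_mem _ (Nat.mem_divisors.mpr ⟨Nat.gcd_dvd_right _ _, by decide⟩)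

end Cfsg.Agent.S4376
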