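import Cfsg.Statements.S4377
import Cfsg.Agent.Lib.Transfer.OrderType

set_option maxHeartbeats 1000000
set_option maxRecDepth 8000

set_option autoImplicit false
open Cfsg

namespace Cfsg.Agent.S4377

/-- Two finite groups have the same number of elements of each order if and only if, for every n, they have the same number of elements g with gⁿ = 1. -/
theorem result {G H : Type*} [Group G] [Finite G] [Group H] [Finite H] :
    (∀ n : ℕ, Nat.card {g : G // orderOf g = n} = Nat.card {h : H // orderOf h = n}) ↔
      ∀ n : ℕ, Nat.card {g : G // g ^ n = 1} = Nat.card {h : H // h ^ n = 1} := by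
  constructor
  · intro h n
    rcases eq_or_ne n 0 with rfl | hn
    · have hG := Agent.Transfer.OrderType.rootCount_eq_sum_orderOf (X := G) (n := Nat.card G * Nat.card H)
        (Nat.mul_ne_zero Nat.card_pos.ne' Nat.card_pos.ne')
      have hH := Agent.Transfer.OrderType.rootCount_eq_sum_orderOf (X := H) (n := Nat.card G * Nat.card H)
        (Nat.mul_ne_zero Nat.card_pos.ne' Nat.card_pos.ne')
      rw [Finset.sum_congr rfl fun d _ => h d, ← hH] at hG
      unfold Agent.Transfer.OrderType.rootCount at hG
      have e1 : ∀ g : G, g ^ (Nat.card G * Nat.card H) = 1 := fun g => by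
        rw [pow_mul, pow_card_eq_one', one_pow]
      have e2 : ∀ g : H, g ^ (Nat.card G * Nat.card H) = 1 := fun g => by
        rw [mul_comm, pow_mul, pow_card_eq_one', one_pow]
      rw [Nat.card_congr (Equiv.subtypeUnivEquiv e1), Nat.card_congr (Equiv.subtypeUnivEquiv e2)] at hG
      rw [Nat.card_congr (Equiv.subtypeUnivEquiv fun g : G => pow_zero g),
        Nat.card_congr (Equiv.subtypeUnivEquiv fun g : H => pow_zero g)]
      exact hG
    · have hG := Agent.Transfer.OrderType.rootCount_eq_sum_orderOf (X := G) hn
      have hH := Agent.Transfer.OrderType.rootCount_eq_sum_orderOf (X := H) hn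
      rw [Finset.sum_congr rfl fun d _ => h d, ← hH] at hG
      exact hG
  · intro h n
    exact Agent.Transfer.OrderType.card_orderOf_eq h n

end Cfsg.Agent.S4377
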