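import Cfsg.Statements.S4385
import Cfsg.Agent.S4359
import Cfsg.Agent.Lib.Grp.Coprime
import Cfsg.Agent.Lib.Grp.Basic
import Cfsg.Agent.Lib.Grp.Cores

set_option maxHeartbeats 1000000
set_option maxRecDepth 8000

set_option autoImplicit false
open Pointwise
open Cfsg

namespace Cfsg.Agent.S4385

open Cfsg.Agent Subgroup
open scoped Pointwise commutatorElement

section
universe u
variable {G : Type u} [Group G] [Finite G]

theorem commutator_closure_mem {A B : Set G} (U : Subgroup G) (hA : ∀ a ∈ A, a ∈ normalizer (U : Set G))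
    (hB : ∀ b ∈ B, b ∈ normalizer (U : Set G)) (h : ∀ a ∈ A, ∀ b ∈ B, ⁅a, b⁆ ∈ U) :
    ∀ x ∈ closure A, ∀ q ∈ closure B, ⁅x, q⁆ ∈ U := by
  have hN : ∀ x ∈ normalizer (U : Set G), ∀ u ∈ U, x * u * x⁻¹ ∈ U := fun x hx u hu => (mem_normalizer_iff.1 hx u).1 hu
  have hA' : closure A ≤ normalizer (U : Set G) := (closure_le _).2 hA
  have hB' : closure B ≤ normalizer (U : Set G) := (closure_le _).2 hB
  have h1 : ∀ a ∈ A, ∀ q ∈ closure B, ⁅a, q⁆ ∈ U := by
    intro a ha q hq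
    induction hq using closure_induction with
    | mem b hb => exact h a ha b hb
    | one => rw [commutatorElement_one_right]; exact one_mem _
    | mul u v hu hv iu iv =>
      rw [show ⁅a, u * v⁆ = ⁅a, u⁆ * (u * ⁅a, v⁆ * u⁻¹) by simp only [commutatorElement_def]; group]
      exact mul_mem iu (hN u (hB' hu) _ iv)
    | inv u hu iu =>
      rw [show ⁅a, u⁻¹⁆ = u⁻¹ * ⁅a, u⁆⁻¹ * u⁻¹⁻¹ by simp only [commutatorElement_def]; group]
      exact hN _ (inv_mem (hB' hu)) _ (inv_mem iu)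
  intro x hx q hq
  induction hx using closure_induction with
  | mem a ha => exact h1 a ha q hq
  | one => rw [commutatorElement_one_left]; exact one_mem _
  | mul u v hu hv iu iv =>
    rw [show ⁅u * v, q⁆ = u * ⁅v, q⁆ * u⁻¹ * ⁅u, q⁆ by simp only [commutatorElement_def]; group]
    exact mul_mem (hN u (hA' hu) _ iv) iu
  | inv u hu iu =>
    rw [show ⁅u⁻¹, q⁆ = u⁻¹ * ⁅u, q⁆⁻¹ * u⁻¹⁻¹ by simp only [commutatorElement_def]; group]
    exact hN _ (inv_mem (hA' hu)) _ (inv_mem iu)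

theorem drop_low {y : ℤ → G} (h : S4359.Seq y 2 4 6) (a : ℤ) :
    ⁅y a, y (a + 5)⁆ ∈ closure (y '' Set.Ico (a + 2) (a + 5)) := by
  set d := ⁅y a, y (a + 5)⁆ with hd
  set W := closure (y '' Set.Ico (a + 2) (a + 5)) with hW
  have hrel := h.rel a (a + 5) (by omega) (by push_cast; omega)
  have hle : closure (y '' Set.Ioo a (a + 5)) ≤ zpowers (y (a + 1)) ⊔ W := by
    rw [closure_le]
    rintro _ ⟨i, hi, rfl⟩
    by_cases e : i = a + 1
    · exact Subgroup.mem_sup_left (e ▸ mem_zpowers _)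
    · exact Subgroup.mem_sup_right (subset_closure ⟨i, ⟨by have := hi.1; omega, hi.2⟩, rfl⟩)
  have hu : y (a + 1) ∈ centralizer (W : Set G) := mem_centralizer_iff.2 fun w hw =>
    h.comm_closure (A := Set.Ico (a + 2) (a + 5)) (B := {a + 1}) (fun i hi j hj => by
      rw [Set.mem_singleton_iff.1 hj]; have := hi.1; have := hi.2; constructor <;> (push_cast; omega))
      hw (subset_closure ⟨a + 1, rfl, rfl⟩)
  have hd' : d ∈ ((zpowers (y (a + 1)) ⊔ W : Subgroup G) : Set G) := hle hrel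
  rw [Subgroup.coe_mul_of_left_le_normalizer_right _ _ (zpowers_le.2 (centralizer_le_normalizer _ hu))] at hd'
  obtain ⟨_, ⟨e, rfl⟩, w, hw, he⟩ := hd'
  have he' : y (a + 1) ^ e * w = d := he
  have hexp : ∀ z ∈ closure (y '' Set.Ioo a (a + 5)), z * z = 1 := by
    intro z hz
    induction hz using closure_induction with
    | mem x hx => obtain ⟨i, -, rfl⟩ := hx; rw [← pow_two]; exact h.pow i
    | one => exact mul_one 1
    | mul u v hu hv iu iv =>
      have hc := h.comm_closure (A := Set.Ioo a (a + 5)) (B := Set.Ioo a (a + 5)) (fun i hi j hj => by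
        have := hi.1; have := hi.2; have := hj.1; have := hj.2; constructor <;> (push_cast; omega)) hu hv
      calc u * v * (u * v) = u * (v * u) * v := by group
        _ = u * u * (v * v) := by rw [← hc]; group
        _ = 1 := by rw [iu, iv, one_mul]
    | inv u hu iu => rw [← mul_inv_rev, iu, inv_one]
  set z := y (a + 5) with hz
  have hzz : z * z = 1 := by rw [hz, ← pow_two]; exact h.pow _
  have hzd : Commute z d := by
    refine mul_inv_eq_iff_eq_mul.1 ?_
    have h1 : z * d * z⁻¹ = d⁻¹ := by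
      calc z * d * z⁻¹ = z * y a * z * (y a)⁻¹ * (z * z)⁻¹ := by rw [hd, commutatorElement_def]; group
        _ = z * y a * z⁻¹ * (y a)⁻¹ := by rw [hzz, inv_one, mul_one, inv_eq_of_mul_eq_one_right hzz]
        _ = d⁻¹ := by rw [hd, commutatorElement_def]; group
    rw [h1]
    exact inv_eq_of_mul_eq_one_right (hexp d hrel)
  have hzw : Commute z w := (h.comm_closure (A := Set.Ico (a + 2) (a + 5)) (B := {a + 5}) (fun i hi j hj => by
    rw [Set.mem_singleton_iff.1 hj]; have := hi.1; have := hi.2; constructor <;> (push_cast; omega))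
    hw (subset_closure ⟨_, rfl, rfl⟩)).symm
  have hze : Commute z (y (a + 1) ^ e) := by
    rw [show y (a + 1) ^ e = d * w⁻¹ by rw [← he']; group]
    exact hzd.mul_right hzw.inv_right
  rcases Int.even_or_odd' e with ⟨m, rfl | rfl⟩
  · rw [← he', zpow_mul, show y (a + 1) ^ (2 : ℤ) = 1 by rw [show (2 : ℤ) = ((2 : ℕ) : ℤ) from rfl, zpow_natCast]; exact h.pow _,
      one_zpow, one_mul]
    exact hw
  · exfalso
    rw [zpow_add_one, zpow_mul, show y (a + 1) ^ (2 : ℤ) = 1 by rw [show (2 : ℤ) = ((2 : ℕ) : ℤ) from rfl, zpow_natCast]; exact h.pow _,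
      one_zpow, one_mul] at hze
    refine h.ncomm (a + 1) ?_
    rw [show a + 1 + ((4 : ℕ) : ℤ) = a + 5 by push_cast; ring]
    exact hze.eq.symm

theorem six {y : ℤ → G} (h : S4359.Seq y 2 4 6) (i j : ℤ) (hi : -1 ≤ i) (hi' : i ≤ 5) (hj : 0 ≤ j) (hj' : j ≤ 4) :
    ⁅y i, y j⁆ ∈ closure (y '' Set.Icc 1 3) := by
  by_cases hd : i < j + 4 ∧ j < i + 4
  · rw [commutatorElement_eq_one_iff_mul_comm.2 (h.comm' (by push_cast; omega) (by push_cast; omega))]
    exact one_mem _
  have hl := h.low Nat.prime_two (by norm_num)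
  have hf := h.flip.low Nat.prime_two (by norm_num)
  have hmono : ∀ {A : Set ℤ}, A ⊆ Set.Icc 1 3 → closure (y '' A) ≤ closure (y '' Set.Icc 1 3) := fun hA =>
    Subgroup.closure_mono (Set.image_mono hA)
  obtain ⟨rfl, rfl⟩ | ⟨rfl, rfl⟩ | ⟨rfl, rfl⟩ | ⟨rfl, rfl⟩ | ⟨rfl, rfl⟩ | ⟨rfl, rfl⟩ :
      (i = -1 ∧ j = 3) ∨ (i = 0 ∧ j = 4) ∨ (i = 4 ∧ j = 0) ∨ (i = 5 ∧ j = 1) ∨ (i = -1 ∧ j = 4) ∨ (i = 5 ∧ j = 0) := by
    omega
  · have := hl (-1); norm_num at this
    exact hmono (fun k hk => ⟨by have := hk.1; omega, by have := hk.2; omega⟩) this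
  · have := hl 0; norm_num at this
    exact hmono (fun k hk => ⟨by have := hk.1; omega, by have := hk.2; omega⟩) this
  · have := hl 0; norm_num at this
    rw [← commutatorElement_inv]
    exact inv_mem (hmono (fun k hk => ⟨by have := hk.1; omega, by have := hk.2; omega⟩) this)
  · have := hf (-5); norm_num at this
    refine Subgroup.closure_mono ?_ this
    rintro _ ⟨k, hk, rfl⟩
    exact ⟨-k, ⟨by have := hk.2; omega, by have := hk.1; omega⟩, rfl⟩
  · have := drop_low h (-1); norm_num at this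
    exact hmono (fun k hk => ⟨by have := hk.1; omega, by have := hk.2; omega⟩) this
  · have := drop_low h.flip (-5); norm_num at this
    refine Subgroup.closure_mono ?_ this
    rintro _ ⟨k, hk, rfl⟩
    exact ⟨-k, ⟨by have := hk.2; omega, by have := hk.1; omega⟩, rfl⟩

/-- An automorphism of a group of order four has order dividing six. -/
theorem mulAut_four {A : Type u} [Group A] [Finite A] (h4 : Nat.card A = 4) (σ : MulAut A) : σ ^ 6 = 1 := by
  classical
  haveI := Fintype.ofFinite A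
  have hc : Fintype.card {a : A // a ≠ 1} = 3 := by
    rw [Fintype.card_subtype_compl, Fintype.card_subtype_eq, ← Nat.card_eq_fintype_card, h4]
  let π : MulAut A →* Equiv.Perm {a : A // a ≠ 1} :=
    MonoidHom.mk' (fun f => Equiv.Perm.subtypePerm (f.toEquiv : Equiv.Perm A) (fun a => by
      show f a ≠ 1 ↔ a ≠ 1
      exact (map_eq_one_iff f f.injective).not)) (fun f f' => Equiv.ext fun a => Subtype.ext rfl)
  have hπ : Function.Injective π := fun f f' e => MulEquiv.ext fun a => by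
    by_cases ha : a = 1
    · rw [ha, map_one, map_one]
    · exact congrArg Subtype.val (DFunLike.congr_fun e ⟨a, ha⟩)
  refine hπ ?_
  rw [map_pow, map_one]
  have h6 : Nat.card (Equiv.Perm {a : A // a ≠ 1}) = 6 := by
    rw [Nat.card_perm, Nat.card_eq_fintype_card, hc]; rfl
  exact h6 ▸ pow_card_eq_one'

/-- Structure of `H / O(H)` when the 2-core is elementary of order 4 or 8. -/
theorem shape {Γ : Type u} [Group Γ] [Finite Γ] (Q : Subgroup Γ) [Q.Normal] (n : ℕ) (hn : 2 ≤ n) (hodd : Odd n)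
    (e : Γ ⧸ Q ≃* DihedralGroup n) (τ : Γ) (hτ : τ * τ = 1) (hτQ : τ ∉ Q)
    (hQc : ∀ a ∈ Q, ∀ b ∈ Q, a * b = b * a) (hQe : ∀ a ∈ Q, a * a = 1)
    (hQ8 : Nat.card Q = 4 ∨ Nat.card Q = 8) (D : Subgroup Γ) (hDQ : D ≤ Q) (hD2 : Nat.card Q = 2 * Nat.card D)
    (hDτ : ∀ d ∈ D, τ * d = d * τ) (hQτ : ¬ ∀ q ∈ Q, τ * q = q * τ)
    (hF : Nat.card ↥(Q ⊓ center Γ) ^ 2 ≤ Nat.card D) :
    (Nat.card Q = 4 → Nonempty (Γ ⧸ Cfsg.oddCore Γ ≃* Equiv.Perm (Fin 4))) ∧
    (Nat.card Q = 8 → Nonempty (Γ ⧸ Cfsg.oddCore Γ ≃* Equiv.Perm (Fin 4) × Multiplicative (ZMod 2))) := by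
  classical
  haveI : Fact (Nat.Prime 2) := ⟨Nat.prime_two⟩
  haveI : NeZero n := ⟨by omega⟩
  have hQp : IsPGroup 2 Q := by
    rcases hQ8 with h | h
    · exact IsPGroup.of_card (n := 2) (by rw [h]; rfl)
    · exact IsPGroup.of_card (n := 3) (by rw [h]; rfl)
  set π : Γ →* DihedralGroup n := e.toMonoidHom.comp (QuotientGroup.mk' Q) with hπ
  have hπs : Function.Surjective π := e.surjective.comp (QuotientGroup.mk'_surjective Q)
  have hπk : ∀ x : Γ, π x = 1 ↔ x ∈ Q := fun x => by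
    show e (QuotientGroup.mk' Q x) = 1 ↔ _
    rw [map_eq_one_iff e e.injective, QuotientGroup.mk'_apply, QuotientGroup.eq_one_iff]
  -- a lift of odd order of a generating rotation
  obtain ⟨ρ, j, hρodd, hρπ, hjn⟩ : ∃ (ρ : Γ) (j : ZMod n), Odd (orderOf ρ) ∧ π ρ = DihedralGroup.r j ∧
      ∀ k : ℕ, (DihedralGroup.r j : DihedralGroup n) ^ k = 1 → n ∣ k := by
    obtain ⟨ρ₀, hρ₀⟩ := hπs (DihedralGroup.r 1)
    set a := (orderOf ρ₀).factorization 2
    refine ⟨ρ₀ ^ 2 ^ a, ((2 ^ a : ℕ) : ZMod n), ?_, by rw [map_pow, hρ₀, DihedralGroup.r_one_pow], fun k hk => ?_⟩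
    · rw [orderOf_pow' _ (pow_ne_zero _ two_ne_zero), Nat.gcd_eq_right (Nat.ordProj_dvd _ _), ← Nat.not_even_iff_odd,
        even_iff_two_dvd]
      exact Nat.not_dvd_ordCompl Nat.prime_two (orderOf_pos ρ₀).ne'
    · rw [← DihedralGroup.r_one_pow, ← pow_mul, ← orderOf_dvd_iff_pow_eq_one, DihedralGroup.orderOf_r_one] at hk
      exact ((Nat.coprime_two_right.2 hodd).pow_right a).dvd_of_dvd_mul_left hk
  have hjinj : ∀ m : ℤ, (DihedralGroup.r j : DihedralGroup n) ^ m = 1 → (n : ℤ) ∣ m := fun m hm => by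
    have h1 := orderOf_dvd_iff_zpow_eq_one.2 hm
    refine dvd_trans ?_ h1
    exact_mod_cast hjn _ (pow_orderOf_eq_one _)
  have hrot : ∀ c : ZMod n, ∃ k : ℕ, (DihedralGroup.r j : DihedralGroup n) ^ k = DihedralGroup.r c := by
    intro c
    have hord : orderOf (DihedralGroup.r j : DihedralGroup n) = n := by
      refine Nat.dvd_antisymm ?_ (hjn _ (pow_orderOf_eq_one _))
      rw [orderOf_dvd_iff_pow_eq_one, DihedralGroup.r_pow, ZMod.natCast_self, mul_zero, DihedralGroup.r_zero]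
    have htop : zpowers (DihedralGroup.r j : DihedralGroup n) = zpowers (DihedralGroup.r 1) := by
      refine Subgroup.eq_of_le_of_card_ge (zpowers_le.2 ?_) ?_
      · exact ⟨(j.val : ℤ), show (DihedralGroup.r 1 : DihedralGroup n) ^ (j.val : ℤ) = _ by rw [zpow_natCast, DihedralGroup.r_one_pow, ZMod.natCast_zmod_val]⟩
      · rw [Nat.card_zpowers, Nat.card_zpowers, hord, DihedralGroup.orderOf_r_one]
    have : (DihedralGroup.r c : DihedralGroup n) ∈ zpowers (DihedralGroup.r j) :=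
      htop ▸ ⟨(c.val : ℤ), show (DihedralGroup.r 1 : DihedralGroup n) ^ (c.val : ℤ) = _ by rw [zpow_natCast, DihedralGroup.r_one_pow, ZMod.natCast_zmod_val]⟩
    obtain ⟨k, hk⟩ := (mem_powers_iff_mem_zpowers.2 this)
    exact ⟨k, hk⟩
  obtain ⟨c₀, hc₀⟩ : ∃ c : ZMod n, π τ = DihedralGroup.sr c := by
    cases hπτ : π τ with
    | sr c => exact ⟨c, rfl⟩
    | r c =>
      exfalso
      obtain ⟨k, hk⟩ := hrot c
      have h1 : π τ * π τ = 1 := by rw [← map_mul, hτ, map_one]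
      rw [hπτ, ← hk, ← pow_add] at h1
      obtain ⟨m, hm⟩ := hjn _ h1
      obtain ⟨i, hi⟩ := hodd
      obtain ⟨l, hl⟩ : n ∣ k := (Nat.coprime_two_right.2 ⟨i, hi⟩).dvd_of_dvd_mul_left ⟨m, by omega⟩
      refine hτQ ((hπk τ).1 ?_)
      rw [hπτ, ← hk, hl, pow_mul, show (DihedralGroup.r j : DihedralGroup n) ^ n = 1 by
        rw [DihedralGroup.r_pow, ZMod.natCast_self, mul_zero, DihedralGroup.r_zero], one_pow]
  set τ' := ρ * τ * ρ⁻¹ with hτ'
  have hgen : closure ((Q : Set Γ) ∪ {τ, τ'}) = ⊤ := by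
    set T := closure ((Q : Set Γ) ∪ {τ, τ'})
    have hQT : Q ≤ T := fun q hq => subset_closure (Or.inl hq)
    have hr : π (τ' * τ) = DihedralGroup.r j * DihedralGroup.r j := by
      rw [hτ', map_mul, map_mul, map_mul, map_inv, hρπ, hc₀, DihedralGroup.inv_r, DihedralGroup.r_mul_sr,
        DihedralGroup.sr_mul_r, DihedralGroup.sr_mul_sr, DihedralGroup.r_mul_r]
      congr 1; ring
    have hsr : ∀ c : ZMod n, ∃ x ∈ T, π x = DihedralGroup.r c := by
      intro c
      obtain ⟨k, hk⟩ := hrot c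
      obtain ⟨i, hi⟩ := hodd
      refine ⟨(τ' * τ) ^ (k * (i + 1)), pow_mem (mul_mem (subset_closure (by simp)) (subset_closure (by simp))) _, ?_⟩
      rw [map_pow, hr, ← hk, ← pow_two, ← pow_mul, show 2 * (k * (i + 1)) = n * k + k by rw [hi]; ring, pow_add, pow_mul,
        show (DihedralGroup.r j : DihedralGroup n) ^ n = 1 by
          rw [DihedralGroup.r_pow, ZMod.natCast_self, mul_zero, DihedralGroup.r_zero], one_pow, one_mul]
    refine eq_top_iff.2 fun x _ => ?_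
    have key : ∀ w ∈ T, π w = π x → x ∈ T := fun w hw he => by
      have : w⁻¹ * x ∈ Q := (hπk _).1 (by rw [map_mul, map_inv, he, inv_mul_cancel])
      simpa using T.mul_mem hw (hQT this)
    cases hx : π x with
    | r c =>
      obtain ⟨w, hw, he⟩ := hsr c
      exact key w hw (he.trans hx.symm)
    | sr c =>
      obtain ⟨w, hw, he⟩ := hsr (c - c₀)
      refine key (τ * w) (T.mul_mem (subset_closure (by simp)) hw) ?_
      rw [map_mul, hc₀, he, hx, DihedralGroup.sr_mul_r, add_sub_cancel]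
  -- centralizer of `τ` in `Q`
  have hCτ : ∀ q ∈ Q, τ * q = q * τ → q ∈ D := by
    intro q hq hqτ
    by_contra hqD
    refine hQτ ?_
    set C := Q ⊓ centralizer ({τ} : Set Γ) with hC
    have hDC : D ≤ C := le_inf hDQ fun d hd => mem_centralizer_singleton_iff.2 (hDτ d hd).symm
    have hqC : q ∈ C := ⟨hq, mem_centralizer_singleton_iff.2 hqτ.symm⟩
    obtain ⟨a, ha⟩ := IsPGroup.iff_card.1 (hQp.to_le (inf_le_left : C ≤ Q))
    obtain ⟨b, hb⟩ := IsPGroup.iff_card.1 (hQp.to_le hDQ)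
    have hlt : Nat.card D < Nat.card C := lt_of_le_of_ne (Nat.le_of_dvd Nat.card_pos (card_dvd_of_le hDC)) fun e =>
      hqD ((Subgroup.eq_of_le_of_card_ge hDC e.ge).ge hqC)
    have hab : b < a := (Nat.pow_lt_pow_iff_right (a := 2) (by omega)).1 (by rw [← ha, ← hb]; exact hlt)
    have hCQ : C = Q := Subgroup.eq_of_le_of_card_ge inf_le_left (by
      rw [hD2, hb, ha, ← pow_succ']; exact Nat.pow_le_pow_right two_pos hab)
    intro x hx
    exact (mem_centralizer_singleton_iff.1 (hCQ.ge hx).2).symm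
  set F := Q ⊓ center Γ with hFdef
  have hFmem : ∀ q ∈ Q, τ * q = q * τ → τ' * q = q * τ' → q ∈ F := fun q hq h1 h2 => by
    refine ⟨hq, mem_center_iff.2 fun x => ?_⟩
    have : closure ((Q : Set Γ) ∪ {τ, τ'}) ≤ centralizer ({q} : Set Γ) := by
      rw [closure_le]
      rintro z (hz | rfl | rfl)
      · exact mem_centralizer_singleton_iff.2 (hQc z hz q hq)
      · exact mem_centralizer_singleton_iff.2 h1
      · exact mem_centralizer_singleton_iff.2 h2
    exact mem_centralizer_singleton_iff.1 (this (hgen ▸ mem_top x))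
  have hFle : Nat.card D ≤ 2 * Nat.card F := by
    set D' := MulAut.conj ρ • D with hD'
    have hD'Q : D' ≤ Q := fun z hz => by
      obtain ⟨d, hd, rfl⟩ := hz
      exact (inferInstance : Q.Normal).conj_mem d (hDQ hd) ρ
    have hle : D ⊓ D' ≤ F := fun z hz => by
      refine hFmem z (hDQ hz.1) (hDτ z hz.1) ?_
      obtain ⟨d, hd, rfl⟩ := hz.2
      show ρ * τ * ρ⁻¹ * (ρ * d * ρ⁻¹) = ρ * d * ρ⁻¹ * (ρ * τ * ρ⁻¹)
      calc ρ * τ * ρ⁻¹ * (ρ * d * ρ⁻¹) = ρ * (τ * d) * ρ⁻¹ := by group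
        _ = ρ * d * ρ⁻¹ * (ρ * τ * ρ⁻¹) := by rw [hDτ d hd]; group
    have hnorm : D ≤ normalizer (D' : Set Γ) := fun d hd => Subgroup.mem_normalizer_fintype fun z hz => by
      rw [hQc d (hDQ hd) z (hD'Q hz), mul_inv_cancel_right]; exact hz
    have h1 := Grp.card_sup_mul_card_inf hnorm
    rw [Grp.card_conj_smul] at h1
    have h2 : Nat.card ↥(D ⊔ D') ≤ 2 * Nat.card D := hD2 ▸ Nat.le_of_dvd Nat.card_pos (card_dvd_of_le (sup_le hDQ hD'Q))
    have h3 : Nat.card ↥(D ⊓ D') ≤ Nat.card F := Nat.le_of_dvd Nat.card_pos (card_dvd_of_le hle)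
    have h4 : Nat.card D * Nat.card D ≤ 2 * Nat.card D * Nat.card F := by
      rw [← h1]; exact Nat.mul_le_mul h2 h3
    nlinarith [(Nat.card_pos : 0 < Nat.card D)]
  have hFcard : (Nat.card Q = 4 → Nat.card F = 1) ∧ (Nat.card Q = 8 → Nat.card F = 2) := by
    have h2 : Nat.card F ≤ 2 := by nlinarith [(Nat.card_pos : 0 < Nat.card F)]
    constructor <;> intro h <;> [(by_contra hne; have h3 : Nat.card F = 2 := by have := (Nat.card_pos : 0 < Nat.card F); omega); omega]
    rw [h3] at hF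
    omega
  have hFQ4 : Nat.card Q = 4 * Nat.card F := by
    rcases hQ8 with h | h
    · rw [hFcard.1 h, h]
    · rw [hFcard.2 h, h]
  haveI hFn : F.Normal := inferInstance
  have hcop : ∀ x : Γ, Odd (orderOf x) → (Nat.card (zpowers x)).Coprime (Nat.card Q) := fun x hx => by
    rw [Nat.card_zpowers]
    obtain ⟨k, hk⟩ := IsPGroup.iff_card.1 hQp
    rw [hk]
    exact (Nat.coprime_two_right.2 hx).pow_right k
  have series : ∀ (x : Γ) (N : Subgroup Γ), Odd (orderOf x) → (∀ q ∈ Q, q * x * q⁻¹ * x⁻¹ ∈ N) →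
      (∀ q ∈ N, q * x = x * q) → ∀ q ∈ Q, x * q = q * x := by
    intro x N hx hN hNx q hq
    have h1 : zpowers x ≤ centralizer (Q : Set Γ) := by
      refine Grp.le_centralizer_of_series (zpowers x) Q N (fun z _ => by rw [normalizer_eq_top]; exact mem_top z)
        (hcop x hx) (Or.inl inferInstance) (commutator_le.2 fun q hq z hz => ?_) ?_
      · obtain ⟨k, rfl⟩ := hz
        have key : ∀ m : ℕ, q * x ^ m * q⁻¹ * (x ^ m)⁻¹ ∈ N := by
          intro m
          induction m with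
          | zero => simp
          | succ m ih =>
            have hc : x ^ m * (q * x * q⁻¹ * x⁻¹) * (x ^ m)⁻¹ = q * x * q⁻¹ * x⁻¹ := by
              rw [((show Commute (q * x * q⁻¹ * x⁻¹) x from hNx _ (hN q hq)).pow_right m).eq.symm, mul_inv_cancel_right]
            rw [show q * x ^ (m + 1) * q⁻¹ * (x ^ (m + 1))⁻¹ =
              q * x ^ m * q⁻¹ * (x ^ m)⁻¹ * (x ^ m * (q * x * q⁻¹ * x⁻¹) * (x ^ m)⁻¹) by rw [pow_succ]; group, hc]
            exact N.mul_mem ih (hN q hq)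
        obtain ⟨m, hm⟩ := (mem_powers_iff_mem_zpowers (x := x) (y := x ^ k)).2 (zpow_mem_zpowers x k)
        show q * x ^ k * q⁻¹ * (x ^ k)⁻¹ ∈ N
        rw [show x ^ k = x ^ m from hm.symm]
        exact key m
      · rw [commutator_eq_bot_iff_le_centralizer]
        intro a ha
        refine mem_centralizer_iff.2 ?_
        rintro _ ⟨k, rfl⟩
        exact ((show Commute a x from hNx a ha).zpow_right k).eq.symm
    exact (mem_centralizer_iff.1 (h1 (mem_zpowers x)) q hq).symm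
  -- `ρ³` centralizes `Q`
  have hρ3 : ∀ q ∈ Q, ρ ^ 3 * q = q * ρ ^ 3 := by
    have h3o : Odd (orderOf (ρ ^ 3)) := hρodd.of_dvd_nat (orderOf_pow_dvd 3)
    have hcard4 : Nat.card (Q.map (QuotientGroup.mk' F)) = 4 := by
      have h1 := Subgroup.card_mul_index (F.subgroupOf Q)
      have h2 : Nat.card (F.subgroupOf Q) = Nat.card F := Nat.card_congr (subgroupOfEquivOfLe inf_le_left).toEquiv
      have h3 : F.relIndex Q = Nat.card (Q.map (QuotientGroup.mk' F)) := by
        rw [← Subgroup.relIndex_bot_left (Q.map (QuotientGroup.mk' F))]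
        conv_rhs => rw [← Subgroup.map_bot (QuotientGroup.mk' F), Subgroup.relIndex_map_map]
        rw [QuotientGroup.ker_mk', bot_sup_eq, sup_eq_left.2 (inf_le_left : F ≤ Q)]
      rw [← h3]
      rw [h2, hFQ4, mul_comm 4] at h1
      exact Nat.eq_of_mul_eq_mul_left Nat.card_pos h1
    haveI : (Q.map (QuotientGroup.mk' F)).Normal := Subgroup.Normal.map inferInstance _ (QuotientGroup.mk'_surjective F)
    have h6 := mulAut_four hcard4 (MulAut.conjNormal (QuotientGroup.mk' F ρ))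
    rw [← map_pow, ← map_pow] at h6
    have hN : ∀ q ∈ Q, q * ρ ^ 6 * q⁻¹ * (ρ ^ 6)⁻¹ ∈ F := fun q hq => by
      have h7 : (QuotientGroup.mk' F (ρ ^ 6)) * QuotientGroup.mk' F q * (QuotientGroup.mk' F (ρ ^ 6))⁻¹ = QuotientGroup.mk' F q :=
        congrArg Subtype.val (DFunLike.congr_fun h6 (⟨QuotientGroup.mk' F q, ⟨q, hq, rfl⟩⟩ : Q.map (QuotientGroup.mk' F)))
      rw [← QuotientGroup.eq_one_iff, ← QuotientGroup.mk'_apply, map_mul, map_mul, map_mul, map_inv, map_inv]
      rw [show QuotientGroup.mk' F q * QuotientGroup.mk' F (ρ ^ 6) * (QuotientGroup.mk' F q)⁻¹ * (QuotientGroup.mk' F (ρ ^ 6))⁻¹ =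
        QuotientGroup.mk' F q * (QuotientGroup.mk' F (ρ ^ 6) * QuotientGroup.mk' F q * (QuotientGroup.mk' F (ρ ^ 6))⁻¹)⁻¹ by group,
        h7, mul_inv_cancel]
    have h6c := series (ρ ^ 6) F (hρodd.of_dvd_nat (orderOf_pow_dvd 6)) hN fun q hq => ((mem_center_iff.1 hq.2) _).symm
    intro q hq
    obtain ⟨m, hm⟩ := exists_pow_eq_self_of_coprime (x := ρ ^ 3) (n := 2) (Nat.coprime_two_left.2 h3o)
    rw [← hm, ← pow_mul ρ 3 2]
    exact ((show Commute (ρ ^ (3 * 2)) q from h6c q hq).pow_left m).eq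
  have hρnc : ¬ ∀ q ∈ Q, ρ * q = q * ρ := fun h => by
    have hDF : D ≤ F := fun d hd => by
      refine hFmem d (hDQ hd) (hDτ d hd) ?_
      have h1 : ρ⁻¹ * d = d * ρ⁻¹ := ((show Commute ρ d from h d (hDQ hd)).inv_left).eq
      calc ρ * τ * ρ⁻¹ * d = ρ * (τ * d) * ρ⁻¹ := by rw [mul_assoc, h1]; group
        _ = ρ * d * (τ * ρ⁻¹) := by rw [hDτ d hd]; group
        _ = d * (ρ * τ * ρ⁻¹) := by rw [h d (hDQ hd)]; group
    have h1 : Nat.card D ≤ Nat.card F := Nat.le_of_dvd Nat.card_pos (card_dvd_of_le hDF)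
    rcases hQ8 with h8 | h8
    · rw [hFcard.1 h8] at h1; omega
    · rw [hFcard.2 h8] at h1; omega
  have hEF : ∀ q ∈ Q, ρ * q = q * ρ → q ∈ F := by
    intro q hq hqρ
    by_contra hqF
    set E := Q ⊓ centralizer ({ρ} : Set Γ) with hE
    have hFE : F ≤ E := fun f hf => ⟨hf.1, mem_centralizer_singleton_iff.2 ((mem_center_iff.1 hf.2 ρ).symm)⟩
    have hEQ : E ≠ Q := fun he => hρnc fun x hx => (mem_centralizer_singleton_iff.1 (he.ge hx).2).symm
    have hqE : q ∈ E := ⟨hq, mem_centralizer_singleton_iff.2 hqρ.symm⟩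
    have hEi : E.relIndex Q = 2 := by
      have h1 := Grp.card_mul_relIndex (inf_le_left : E ≤ Q)
      obtain ⟨a, ha⟩ := IsPGroup.iff_card.1 (hQp.to_le (inf_le_left : E ≤ Q))
      obtain ⟨b, hb⟩ := IsPGroup.iff_card.1 (hQp.to_le (inf_le_left : F ≤ Q))
      obtain ⟨c, hc⟩ := IsPGroup.iff_card.1 hQp
      have h2 : b < a := (Nat.pow_lt_pow_iff_right (a := 2) (by omega)).1 (by
        rw [← ha, ← hb]
        exact lt_of_le_of_ne (Nat.le_of_dvd Nat.card_pos (card_dvd_of_le hFE)) fun e =>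
          hqF ((Subgroup.eq_of_le_of_card_ge hFE e.ge).ge hqE))
      have h3 : a < c := (Nat.pow_lt_pow_iff_right (a := 2) (by omega)).1 (by
        rw [← ha, ← hc]
        exact lt_of_le_of_ne (Nat.le_of_dvd Nat.card_pos (card_dvd_of_le inf_le_left)) fun e =>
          hEQ (Subgroup.eq_of_le_of_card_ge inf_le_left e.ge))
      have h4 : c = b + 2 := Nat.pow_right_injective (le_refl 2) (show 2 ^ c = 2 ^ (b + 2) by
        rw [← hc, hFQ4, hb, pow_add]; ring)
      rw [ha, hc, show c = a + 1 by omega, pow_succ] at h1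
      exact Nat.eq_of_mul_eq_mul_left (pow_pos two_pos a) h1
    refine hρnc (series ρ E hρodd (fun x hx => ?_) fun x hx => mem_centralizer_singleton_iff.1 hx.2)
    have hx2 : ρ * x⁻¹ * ρ⁻¹ ∈ Q := (inferInstance : Q.Normal).conj_mem _ (inv_mem hx) ρ
    have hiff : x ∈ E ↔ ρ * x⁻¹ * ρ⁻¹ ∈ E := by
      constructor
      · intro h'
        rw [show ρ * x⁻¹ * ρ⁻¹ = x⁻¹ by
          rw [((show Commute x ρ from mem_centralizer_singleton_iff.1 h'.2).inv_left).eq.symm, mul_inv_cancel_right]]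
        exact inv_mem h'
      · intro h'
        have h1 := mem_centralizer_singleton_iff.1 h'.2
        have h2 : ρ * x⁻¹ * ρ⁻¹ = x⁻¹ := by
          calc ρ * x⁻¹ * ρ⁻¹ = ρ⁻¹ * (ρ * (ρ * x⁻¹ * ρ⁻¹)) := by group
            _ = x⁻¹ := by rw [← h1]; group
        exact inv_mem_iff.1 (h2 ▸ h')
    have h2 := (mul_mem_iff_of_index_two (H := E.subgroupOf Q) hEi (a := ⟨x, hx⟩) (b := ⟨_, hx2⟩)).2 hiff
    have h3 : x * (ρ * x⁻¹ * ρ⁻¹) ∈ E := h2
    rwa [show x * (ρ * x⁻¹ * ρ⁻¹) = x * ρ * x⁻¹ * ρ⁻¹ by group] at h3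
  -- the odd core
  have hρn : ρ ^ n = 1 := by
    have h1 : ρ ^ n ∈ Q := (hπk _).1 (by
      rw [map_pow, hρπ, DihedralGroup.r_pow, ZMod.natCast_self, mul_zero, DihedralGroup.r_zero])
    obtain ⟨k, hk⟩ := IsPGroup.iff_orderOf.1 hQp ⟨_, h1⟩
    rw [Subgroup.orderOf_mk] at hk
    rcases Nat.eq_zero_or_pos k with rfl | hk0
    · rwa [pow_zero, orderOf_eq_one_iff] at hk
    · obtain ⟨i, hi⟩ := hρodd.of_dvd_nat (orderOf_pow_dvd (x := ρ) n)
      have := dvd_pow_self 2 (Nat.pos_iff_ne_zero.1 hk0)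
      rw [← hk] at this
      omega
  have hρord : orderOf ρ = n := Nat.dvd_antisymm (orderOf_dvd_of_pow_eq_one hρn) (hjn _ (by
    rw [← hρπ, ← map_pow, pow_orderOf_eq_one, map_one]))
  have hτρ : τ * ρ * τ⁻¹ * ρ ∈ Q := (hπk _).1 (by
    rw [map_mul, map_mul, map_mul, map_inv, hρπ, hc₀, DihedralGroup.inv_sr, DihedralGroup.sr_mul_r, DihedralGroup.sr_mul_sr,
      DihedralGroup.r_mul_r, ← DihedralGroup.r_zero]
    congr 1; ring)
  set O := zpowers (ρ ^ 3) with hO
  have hOn : O.Normal := by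
    rw [← normalizer_eq_top_iff, eq_top_iff, ← hgen, closure_le]
    have hρN : ∀ z : Γ, z ∈ zpowers ρ → z ∈ normalizer (O : Set Γ) := fun z hz => Subgroup.mem_normalizer_fintype fun w hw => by
      obtain ⟨a, rfl⟩ := hz
      obtain ⟨b, rfl⟩ := hw
      refine ⟨b, show (ρ ^ 3) ^ b = ρ ^ a * (ρ ^ 3) ^ b * (ρ ^ a)⁻¹ from ?_⟩
      rw [(((Commute.refl ρ).pow_right 3).zpow_zpow a b).eq, mul_inv_cancel_right]
    have hQN : ∀ z ∈ Q, z ∈ normalizer (O : Set Γ) := fun z hz => Subgroup.mem_normalizer_fintype fun w hw => by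
      obtain ⟨b, rfl⟩ := hw
      refine ⟨b, show (ρ ^ 3) ^ b = z * (ρ ^ 3) ^ b * z⁻¹ from ?_⟩
      rw [((show Commute z (ρ ^ 3) from (hρ3 z hz).symm).zpow_right b).eq, mul_inv_cancel_right]
    have hτN : τ ∈ normalizer (O : Set Γ) := by
      set u := τ * ρ * τ⁻¹ with hu
      have h1 : u = τ * ρ * τ⁻¹ * ρ * ρ⁻¹ := by rw [hu]; group
      have hu3 : τ * ρ ^ 3 * τ⁻¹ = u ^ 3 := by rw [hu, conj_pow]
      have h3 : u ^ 3 * (ρ ^ 3) ∈ Q := (hπk _).1 (by
        have hq := (hπk _).2 hτρ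
        rw [map_mul, map_pow, map_pow]
        rw [map_mul] at hq
        have : π u = (π ρ)⁻¹ := eq_inv_of_mul_eq_one_left hq
        rw [this, inv_pow, inv_mul_cancel])
      have hcm : Commute (u ^ 3 * ρ ^ 3) (ρ ^ 3)⁻¹ := (show Commute (u ^ 3 * ρ ^ 3) (ρ ^ 3) from (hρ3 _ h3).symm).inv_right
      have hoddu : Odd (orderOf (u ^ 3)) := by
        rw [← hu3, show τ * ρ ^ 3 * τ⁻¹ = MulAut.conj τ (ρ ^ 3) from rfl, MulEquiv.orderOf_eq]
        exact hρodd.of_dvd_nat (orderOf_pow_dvd 3)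
      have hsq : (u ^ 3) ^ 2 ∈ O := by
        rw [show u ^ 3 = u ^ 3 * ρ ^ 3 * (ρ ^ 3)⁻¹ by group, hcm.mul_pow, pow_two (u ^ 3 * ρ ^ 3), hQe _ h3, one_mul]
        exact O.pow_mem (inv_mem (mem_zpowers _)) 2
      obtain ⟨m, hm⟩ := exists_pow_eq_self_of_coprime (x := u ^ 3) (n := 2) (Nat.coprime_two_left.2 hoddu)
      have hmem : τ * ρ ^ 3 * τ⁻¹ ∈ O := by rw [hu3, ← hm]; exact O.pow_mem hsq m
      refine Subgroup.mem_normalizer_fintype fun w hw => ?_
      obtain ⟨b, rfl⟩ := hw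
      show τ * (ρ ^ 3) ^ b * τ⁻¹ ∈ O
      rw [← conj_zpow]
      exact O.zpow_mem hmem b
    rintro z (hz | rfl | rfl)
    · exact hQN z hz
    · exact hτN
    · exact mul_mem (mul_mem (hρN ρ (mem_zpowers _)) hτN) (inv_mem (hρN ρ (mem_zpowers _)))
  haveI := hOn
  haveI hCn : (Cfsg.oddCore Γ).Normal := Grp.pPrimeCore_isNormal
  have hOO : Cfsg.oddCore Γ = O := by
    have hle : O ≤ Cfsg.oddCore Γ := Grp.le_pPrimeCore hOn (by
      rw [hO, Nat.card_zpowers]; exact Nat.coprime_two_right.2 (hρodd.of_dvd_nat (orderOf_pow_dvd 3)))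
    refine le_antisymm (fun x hx => ?_) hle
    have hxodd : Odd (orderOf x) := by
      have h1 := Grp.pPrimeCore_coprime (p := 2) (G := Γ)
      exact (Nat.coprime_two_right.1 h1).of_dvd_nat (Subgroup.orderOf_dvd_natCard _ hx)
    obtain ⟨k, hk⟩ : ∃ k : ℕ, π x = DihedralGroup.r j ^ k := by
      cases hπx : π x with
      | r c => obtain ⟨k, hk⟩ := hrot c; exact ⟨k, hk.symm⟩
      | sr c =>
        exfalso
        have h1 : orderOf (π x) ∣ orderOf x := orderOf_map_dvd _ _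
        rw [hπx, DihedralGroup.orderOf_sr] at h1
        obtain ⟨i, hi⟩ := hxodd
        omega
    have hq : x * (ρ ^ k)⁻¹ ∈ Q := (hπk _).1 (by rw [map_mul, map_inv, map_pow, hρπ, hk, mul_inv_cancel])
    have hxc : ∀ q ∈ Q, x * q = q * x := fun q hq' =>
      (mem_centralizer_iff.1 (Grp.commute_of_coprime_normal (M := Cfsg.oddCore Γ) (N := Q) (by
        obtain ⟨b, hb⟩ := IsPGroup.iff_card.1 hQp
        rw [hb]
        exact Grp.pPrimeCore_coprime.pow_right b) hx) q hq').symm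
    have h3k : 3 ∣ k := by
      by_contra h3
      refine hρnc fun q hq' => ?_
      have hρk : Commute (ρ ^ k) q := by
        rw [show ρ ^ k = (x * (ρ ^ k)⁻¹)⁻¹ * x by group]
        exact ((show Commute (x * (ρ ^ k)⁻¹) q from hQc _ hq q hq').inv_left).mul_left (show Commute x q from hxc q hq')
      have hcop3 : Nat.Coprime k 3 := (Nat.prime_three.coprime_iff_not_dvd.2 h3).symm
      obtain ⟨a, b, hab⟩ := Nat.isCoprime_iff_coprime.2 hcop3
      have : ρ = (ρ ^ k) ^ a * (ρ ^ 3) ^ b := by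
        rw [← zpow_natCast ρ k, ← zpow_natCast ρ 3, ← zpow_mul, ← zpow_mul, ← zpow_add, mul_comm (k : ℤ), mul_comm ((3:ℕ) : ℤ), hab, zpow_one]
      rw [this]
      exact ((hρk.zpow_left a).mul_left ((show Commute (ρ ^ 3) q from hρ3 q hq').zpow_left b)).eq
    obtain ⟨i, rfl⟩ := h3k
    have hmem : ρ ^ (3 * i) ∈ O := by rw [pow_mul]; exact pow_mem (mem_zpowers _) i
    have h1 : x * (ρ ^ (3 * i))⁻¹ = 1 := by
      have h2 : x * (ρ ^ (3 * i))⁻¹ ∈ Cfsg.oddCore Γ := mul_mem hx (inv_mem (hle hmem))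
      by_contra hne
      have h3 : orderOf (x * (ρ ^ (3 * i))⁻¹) = 2 := orderOf_eq_prime (by rw [pow_two]; exact hQe _ hq) hne
      have h4 := Subgroup.orderOf_dvd_natCard _ h2
      rw [h3] at h4
      exact (Nat.prime_two.coprime_iff_not_dvd.1 (Grp.pPrimeCore_coprime (p := 2) (G := Γ)).symm) h4
    rwa [mul_inv_eq_one.1 h1]
  have h3n : 3 ∣ n := by
    by_contra h3
    refine hρnc fun q hq => ?_
    have hcop3 : Nat.Coprime n 3 := (Nat.prime_three.coprime_iff_not_dvd.2 h3).symm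
    obtain ⟨a, b, hab⟩ := Nat.isCoprime_iff_coprime.2 hcop3
    have : ρ = (ρ ^ n) ^ a * (ρ ^ 3) ^ b := by
      rw [← zpow_natCast ρ n, ← zpow_natCast ρ 3, ← zpow_mul, ← zpow_mul, ← zpow_add, mul_comm (n : ℤ), mul_comm ((3:ℕ) : ℤ), hab, zpow_one]
    rw [this, hρn, one_zpow, one_mul]
    exact ((show Commute (ρ ^ 3) q from hρ3 q hq).zpow_left b).eq
  have hXcard : Nat.card (Γ ⧸ Cfsg.oddCore Γ) = 6 * Nat.card Q := by
    rw [← Subgroup.index_eq_card]
    have h1 := Q.card_mul_index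
    rw [Subgroup.index_eq_card, Nat.card_congr e.toEquiv, DihedralGroup.nat_card] at h1
    have h2 := (Cfsg.oddCore Γ).card_mul_index
    rw [← h1] at h2
    have h3 : Nat.card (Cfsg.oddCore Γ) * 3 = n := by
      rw [hOO, hO, Nat.card_zpowers, orderOf_pow' _ (by norm_num), hρord, Nat.gcd_eq_right h3n, Nat.div_mul_cancel h3n]
    rw [← h3] at h2
    exact Nat.eq_of_mul_eq_mul_left Nat.card_pos (h2.trans (by ring))
  -- pass to the quotient
  set m := QuotientGroup.mk' (Cfsg.oddCore Γ) with hm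
  have hms : Function.Surjective m := QuotientGroup.mk'_surjective _
  have hminj : ∀ q ∈ Q, m q = 1 → q = 1 := fun q hq he => by
    rw [hm, QuotientGroup.mk'_apply, QuotientGroup.eq_one_iff] at he
    by_contra hne
    have h4 := Subgroup.orderOf_dvd_natCard _ he
    rw [orderOf_eq_prime (show q ^ 2 = 1 by rw [pow_two]; exact hQe q hq) hne] at h4
    exact (Nat.prime_two.coprime_iff_not_dvd.1 (Grp.pPrimeCore_coprime (p := 2) (G := Γ)).symm) h4
  have hinjQ : ∀ a ∈ Q, ∀ b ∈ Q, m a = m b → a = b := fun a ha b hb he =>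
    mul_inv_eq_one.1 (hminj _ (mul_mem ha (inv_mem hb)) (by rw [map_mul, map_inv, he, mul_inv_cancel]))
  set Qb := Q.map m with hQb
  set Fb := F.map m with hFb
  haveI hQbn : Qb.Normal := Subgroup.Normal.map inferInstance _ hms
  have hcardmap : ∀ K : Subgroup Γ, K ≤ Q → Nat.card (K.map m) = Nat.card K := fun K hK =>
    (Nat.card_congr (Equiv.ofBijective (fun x : K => (⟨m x, ⟨x, x.2, rfl⟩⟩ : K.map m))
      ⟨fun a b he => Subtype.ext (hinjQ _ (hK a.2) _ (hK b.2) (congrArg Subtype.val he)),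
        by rintro ⟨_, x, hx, rfl⟩; exact ⟨⟨x, hx⟩, rfl⟩⟩)).symm
  set r := m ρ with hr
  have hr3 : r ^ 3 = 1 := by
    rw [hr, ← map_pow, hm, QuotientGroup.mk'_apply, QuotientGroup.eq_one_iff, hOO]; exact mem_zpowers _
  have hr1 : r ≠ 1 := fun he => hρnc fun q hq => by
    rw [hr, hm, QuotientGroup.mk'_apply, QuotientGroup.eq_one_iff, hOO] at he
    obtain ⟨b, hb⟩ := he
    rw [← (show (ρ ^ 3) ^ b = ρ from hb)]
    exact ((show Commute (ρ ^ 3) q from hρ3 q hq).zpow_left b).eq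
  have hrord : orderOf r = 3 := orderOf_eq_prime hr3 hr1
  haveI : Fact (Nat.Prime 3) := ⟨Nat.prime_three⟩
  set R := zpowers r with hR
  have hR3 : Nat.card R = 3 := by rw [hR, Nat.card_zpowers, hrord]
  have hQR : Qb ⊓ R = ⊥ := Grp.inf_eq_bot_of_coprime (by
    rw [hQb, hcardmap Q le_rfl, hR3]
    rcases hQ8 with h | h <;> rw [h] <;> norm_num)
  set τb := m τ with hτb
  have hτr : τb * r * τb⁻¹ * r ∈ Qb := ⟨_, hτρ, by rw [map_mul, map_mul, map_mul, map_inv]⟩
  have hgenb : closure ((Qb : Set (Γ ⧸ Cfsg.oddCore Γ)) ∪ {τb, r * τb * r⁻¹}) = ⊤ := by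
    rw [eq_top_iff, ← Subgroup.map_top_of_surjective m hms, ← hgen, MonoidHom.map_closure]
    refine Subgroup.closure_mono ?_
    rintro _ ⟨z, hz | rfl | rfl, rfl⟩
    · exact Or.inl ⟨z, hz, rfl⟩
    · exact Or.inr (Or.inl rfl)
    · exact Or.inr (Or.inr (show m (ρ * τ * ρ⁻¹) = r * τb * r⁻¹ by rw [map_mul, map_mul, map_inv]))
  set L2 := Qb ⊔ R with hL2
  have hL2n : L2.Normal := by
    rw [← normalizer_eq_top_iff, eq_top_iff, ← hgenb, closure_le]
    have hr' : r ∈ L2 := Subgroup.mem_sup_right (mem_zpowers r)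
    have hτN : τb ∈ normalizer (L2 : Set (Γ ⧸ Cfsg.oddCore Γ)) := by
      refine Subgroup.mem_normalizer_fintype fun w hw => ?_
      have hle : L2 ≤ L2.comap (MulAut.conj τb).toMonoidHom := by
        refine sup_le (fun q hq => Subgroup.mem_sup_left (hQbn.conj_mem q hq τb)) (zpowers_le.2 ?_)
        show τb * r * τb⁻¹ ∈ L2
        rw [show τb * r * τb⁻¹ = τb * r * τb⁻¹ * r * r⁻¹ by group]
        exact mul_mem (Subgroup.mem_sup_left hτr) (inv_mem hr')
      exact hle hw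
    rintro z (hz | rfl | rfl)
    · exact le_normalizer (Subgroup.mem_sup_left hz)
    · exact hτN
    · exact mul_mem (mul_mem (le_normalizer hr') hτN) (inv_mem (le_normalizer hr'))
  haveI := hL2n
  have hRQn : R ≤ normalizer (Qb : Set (Γ ⧸ Cfsg.oddCore Γ)) := fun z _ => by rw [normalizer_eq_top]; exact mem_top z
  have hL2card : Nat.card L2 = 3 * Nat.card Q := by
    rw [hL2, sup_comm, Grp.card_sup_coprime hRQn (by
      rw [hR3, hQb, hcardmap Q le_rfl]
      rcases hQ8 with h | h <;> rw [h] <;> norm_num), hR3, hQb, hcardmap Q le_rfl]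
  set N := normalizer (R : Set (Γ ⧸ Cfsg.oddCore Γ)) with hN
  have hNsup : N ⊔ Qb = ⊤ := by
    set S := R.subgroupOf L2 with hS
    have hSp : IsPGroup 3 S := IsPGroup.of_card (n := 1)
      ((Nat.card_congr (subgroupOfEquivOfLe (le_sup_right : R ≤ L2)).toEquiv).trans (by rw [hR3, pow_one]))
    have hSi : ¬ 3 ∣ S.index := by
      have h1 := S.card_mul_index
      rw [Nat.card_congr (subgroupOfEquivOfLe (le_sup_right : R ≤ L2)).toEquiv, hR3, hL2card] at h1
      rw [Nat.eq_of_mul_eq_mul_left (by norm_num : 0 < 3) h1]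
      rcases hQ8 with h | h <;> rw [h] <;> norm_num
    have hf := Sylow.normalizer_sup_eq_top (hSp.toSylow hSi)
    rw [IsPGroup.toSylow_coe, hS, Subgroup.subgroupOf_map_subtype, inf_eq_left.2 (le_sup_right : R ≤ L2)] at hf
    refine eq_top_iff.2 (hf.ge.trans (sup_le le_sup_left ?_))
    exact sup_le le_sup_right (le_normalizer.trans le_sup_left)
  have hEFb : ∀ q ∈ Qb, r * q = q * r → q ∈ Fb := by
    rintro _ ⟨q, hq, rfl⟩ he
    refine ⟨q, hEF q hq ?_, rfl⟩
    have h1 : m (ρ * q * ρ⁻¹) = m q := by rw [map_mul, map_mul, map_inv, ← hr, he, mul_inv_cancel_right]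
    exact mul_inv_eq_iff_eq_mul.1 (hinjQ _ ((inferInstance : Q.Normal).conj_mem q hq ρ) _ hq h1)
  have hFbc : Fb ≤ center (Γ ⧸ Cfsg.oddCore Γ) := by
    rintro _ ⟨f, hf, rfl⟩
    refine mem_center_iff.2 fun x => ?_
    obtain ⟨w, rfl⟩ := hms x
    rw [← map_mul, ← map_mul, mem_center_iff.1 hf.2 w]
  have hFbN : Fb ≤ N := fun f hf => Subgroup.mem_normalizer_fintype fun w hw => by
    rwa [show f * w * f⁻¹ = w by rw [← (mem_center_iff.1 (hFbc hf) w), mul_inv_cancel_right]]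
  have hNQ : N ⊓ Qb = Fb := by
    refine le_antisymm (fun q hq => hEFb q hq.2 ?_) (le_inf hFbN (map_mono inf_le_left))
    have h1 : q * r * q⁻¹ * r⁻¹ ∈ Qb ⊓ R := by
      refine ⟨?_, mul_mem ((mem_normalizer_iff.1 hq.1 r).1 (mem_zpowers r)) (R.inv_mem (mem_zpowers r))⟩
      rw [show q * r * q⁻¹ * r⁻¹ = q * (r * q⁻¹ * r⁻¹) by group]
      exact mul_mem (show q ∈ Qb from hq.2) (hQbn.conj_mem _ (inv_mem (show q ∈ Qb from hq.2)) r)
    rw [hQR, mem_bot, mul_inv_eq_one, mul_inv_eq_iff_eq_mul] at h1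
    exact h1.symm
  have hNcard : Nat.card N = 6 * Nat.card F := by
    have h1 := Grp.card_sup_mul_card_inf (H := N) (N := Qb) (fun z _ => by rw [normalizer_eq_top]; exact mem_top z)
    rw [hNsup, hNQ, Subgroup.card_top, hXcard, hQb, hcardmap Q le_rfl, hFb, hcardmap F inf_le_left] at h1
    exact (Nat.eq_of_mul_eq_mul_right (Nat.card_pos : 0 < Nat.card Q) (by rw [← h1]; ring)).symm
  have hNi : N.index = 4 := by
    have h1 := N.card_mul_index
    rw [hNcard, hXcard, hFQ4] at h1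
    exact Nat.eq_of_mul_eq_mul_left (by have := (Nat.card_pos : 0 < Nat.card F); omega : 0 < 6 * Nat.card F) (h1.trans (by ring))
  set L := N.normalCore with hL
  haveI : L.Normal := Subgroup.normalCore_normal N
  have hLN : L ≤ N := Subgroup.normalCore_le N
  have hrL : r ∉ L := fun hrL => hρnc (series ρ F hρodd (fun q hq => ?_) fun f hf => mem_center_iff.1 hf.2 ρ |>.symm)
  swap
  · have h1 : m (q * ρ * q⁻¹ * ρ⁻¹) ∈ N ⊓ Qb := by
      refine ⟨?_, ⟨_, ?_, rfl⟩⟩
      · rw [map_mul, map_mul, map_mul, map_inv, map_inv, ← hr]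
        exact N.mul_mem (hLN ((inferInstance : L.Normal).conj_mem r hrL _)) (N.inv_mem (hLN hrL))
      · rw [show q * ρ * q⁻¹ * ρ⁻¹ = q * (ρ * q⁻¹ * ρ⁻¹) by group]
        exact mul_mem hq ((inferInstance : Q.Normal).conj_mem _ (inv_mem hq) ρ)
    rw [hNQ] at h1
    obtain ⟨f, hf, he⟩ := h1
    have hqq : q * ρ * q⁻¹ * ρ⁻¹ ∈ Q := by
      rw [show q * ρ * q⁻¹ * ρ⁻¹ = q * (ρ * q⁻¹ * ρ⁻¹) by group]
      exact mul_mem hq ((inferInstance : Q.Normal).conj_mem _ (inv_mem hq) ρ)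
    exact hinjQ f hf.1 _ hqq he ▸ hf
  have hLF : L ≤ Fb := by
    intro l hl
    have hlr : l * r = r * l := by
      have h1 : l * r * l⁻¹ * r⁻¹ ∈ L := by
        rw [show l * r * l⁻¹ * r⁻¹ = l * (r * l⁻¹ * r⁻¹) by group]
        exact mul_mem hl ((inferInstance : L.Normal).conj_mem _ (inv_mem hl) r)
      have h2 : l * r * l⁻¹ * r⁻¹ ∈ R := mul_mem ((mem_normalizer_iff.1 (hLN hl) r).1 (mem_zpowers r)) (inv_mem (mem_zpowers r))
      have h3 : l * r * l⁻¹ * r⁻¹ = 1 := by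
        by_contra hne
        have h4 : zpowers (l * r * l⁻¹ * r⁻¹) = R := Subgroup.eq_of_le_of_card_ge (zpowers_le.2 h2) (by
          rw [hR3, Nat.card_zpowers]
          rcases (Nat.dvd_prime Nat.prime_three).1 (hR3 ▸ Subgroup.orderOf_dvd_natCard _ h2) with h | h
          · exact absurd (orderOf_eq_one_iff.1 h) hne
          · exact h.ge)
        exact hrL ((zpowers_le.2 h1) (h4.ge (mem_zpowers r)))
      exact mul_inv_eq_iff_eq_mul.1 (mul_inv_eq_one.1 h3)
    by_cases hlQ : l ∈ L2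
    · have hlQ' : l ∈ ((R ⊔ Qb : Subgroup _) : Set (Γ ⧸ Cfsg.oddCore Γ)) := by
        rw [hL2, sup_comm] at hlQ; exact hlQ
      rw [Subgroup.coe_mul_of_left_le_normalizer_right _ _ hRQn] at hlQ'
      obtain ⟨a, ha, q, hq, rfl⟩ := hlQ'
      obtain ⟨k, rfl⟩ := ha
      have hqr : r * q = q * r := by
        have h5 : Commute (r ^ k * q) r := hlr
        have h6 : Commute q r := by
          have := ((Commute.refl r).zpow_left k).inv_left.mul_left h5
          rwa [inv_mul_cancel_left] at this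
        exact h6.eq.symm
      have hqF := hEFb q hq hqr
      have hk : r ^ k ∈ L ⊔ Fb := by
        have := mul_mem (Subgroup.mem_sup_left hl : r ^ k * q ∈ L ⊔ Fb) (inv_mem (Subgroup.mem_sup_right hqF))
        rwa [mul_inv_cancel_right] at this
      show r ^ k * q ∈ Fb
      rcases eq_or_ne (k % 3) 0 with h0 | h0
      · obtain ⟨c, rfl⟩ := Int.dvd_of_emod_eq_zero h0
        rw [zpow_mul, show r ^ (3 : ℤ) = 1 by rw [show (3 : ℤ) = ((3 : ℕ) : ℤ) from rfl, zpow_natCast, hr3], one_zpow, one_mul]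
        exact hqF
      · exfalso
        have h7 : (r ^ k * q) ^ 2 = (r ^ k) ^ 2 := by
          rw [((show Commute r q from hqr).zpow_left k).mul_pow]
          obtain ⟨q₀, hq₀, rfl⟩ := hq
          rw [← map_pow m q₀, pow_two q₀, hQe q₀ hq₀, map_one, mul_one]
        refine hrL ?_
        have h8 : (r ^ k) ^ 2 ∈ L := h7 ▸ L.pow_mem hl 2
        have h9 : r ∈ zpowers ((r ^ k) ^ 2) := by
          have h10 : zpowers ((r ^ k) ^ 2) = R := Subgroup.eq_of_le_of_card_ge (zpowers_le.2 (pow_mem (zpow_mem_zpowers r k) 2)) (by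
            rw [hR3, Nat.card_zpowers]
            have hdvd : orderOf ((r ^ k) ^ 2) ∣ 3 := hR3 ▸ Subgroup.orderOf_dvd_natCard R (pow_mem (zpow_mem_zpowers r k) 2)
            rcases (Nat.dvd_prime Nat.prime_three).1 hdvd with h | h
            · rw [orderOf_eq_one_iff, ← zpow_natCast, ← zpow_mul, ← orderOf_dvd_iff_zpow_eq_one, hrord] at h
              push_cast at h; omega
            · exact h.ge)
          rw [h10]; exact mem_zpowers r
        exact zpowers_le.2 h8 h9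
    · exfalso
      -- an element outside `L2` inverts `r` modulo `Qb`
      have hidx2 : L2.index = 2 := by
        have h1 := L2.card_mul_index
        rw [hL2card, hXcard] at h1
        exact Nat.eq_of_mul_eq_mul_left (by have := (Nat.card_pos : 0 < Nat.card Q); omega : 0 < 3 * Nat.card Q) (h1.trans (by ring))
      have hτL2 : τb ∉ L2 := fun h => by
        have h1 : (⊤ : Subgroup (Γ ⧸ Cfsg.oddCore Γ)) ≤ L2 := by
          rw [← hgenb, closure_le]
          rintro z (hz | rfl | rfl)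
          · exact Subgroup.mem_sup_left hz
          · exact h
          · exact hL2n.conj_mem _ h r
        rw [top_le_iff.1 h1, index_top] at hidx2; omega
      have h1 : τb⁻¹ * l ∈ L2 := (mul_mem_iff_of_index_two hidx2).2 (iff_of_false (fun h => hτL2 (inv_mem_iff.1 h)) hlQ)
      set π' := QuotientGroup.mk' Qb with hπ'
      have hcommQ : Commute (π' (τb⁻¹ * l)) (π' r) := by
        have h1' : τb⁻¹ * l ∈ ((R ⊔ Qb : Subgroup _) : Set (Γ ⧸ Cfsg.oddCore Γ)) := by
          rw [hL2, sup_comm] at h1; exact h1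
        rw [Subgroup.coe_mul_of_left_le_normalizer_right _ _ hRQn] at h1'
        obtain ⟨_, ⟨k, rfl⟩, q, hq, he⟩ := h1'
        replace he : r ^ k * q = τb⁻¹ * l := he
        rw [← he, map_mul, show π' q = 1 from (QuotientGroup.eq_one_iff q).2 hq, mul_one, map_zpow]
        exact (Commute.refl _).zpow_left k
      have hinv : π' τb * π' r * (π' τb)⁻¹ = (π' r)⁻¹ := by
        refine eq_inv_of_mul_eq_one_left ?_
        rw [← map_inv, ← map_mul, ← map_mul, ← map_mul]
        exact (QuotientGroup.eq_one_iff _).2 hτr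
      have hl' : π' l * π' r * (π' l)⁻¹ = (π' r)⁻¹ := by
        rw [show π' l = π' τb * π' (τb⁻¹ * l) by rw [← map_mul, mul_inv_cancel_left],
          mul_assoc (π' τb), hcommQ.eq]
        rw [← hinv]; group
      rw [← map_mul, hlr, map_mul, mul_inv_cancel_right] at hl'
      have h2 : r * r ∈ Qb ⊓ R := ⟨(QuotientGroup.eq_one_iff _).1 (by
        show π' (r * r) = 1
        rw [map_mul]
        nth_rw 1 [hl']
        exact inv_mul_cancel _), mul_mem (mem_zpowers r) (mem_zpowers r)⟩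
      rw [hQR, mem_bot, ← pow_two, ← orderOf_dvd_iff_pow_eq_one, hrord] at h2
      omega
  have hact : ∃ φ : (Γ ⧸ Cfsg.oddCore Γ) →* Equiv.Perm (Fin 4), φ.ker ≤ Fb := by
    have hc : Nat.card ((Γ ⧸ Cfsg.oddCore Γ) ⧸ N) = 4 := by rw [← Subgroup.index_eq_card, hNi]
    let ee : (Γ ⧸ Cfsg.oddCore Γ) ⧸ N ≃ Fin 4 := (Finite.equivFin _).trans (finCongr hc)
    refine ⟨ee.permCongrHom.toMonoidHom.comp (MulAction.toPermHom _ _), le_trans (le_of_eq ?_) hLF⟩
    rw [hL, Subgroup.normalCore_eq_ker]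
    ext g
    simp [MonoidHom.mem_ker]
  obtain ⟨φ, hφ⟩ := hact
  refine ⟨fun h4 => ?_, fun h8 => ?_⟩
  · have hinj : Function.Injective φ := (MonoidHom.ker_eq_bot_iff φ).1 (eq_bot_iff.2 (hφ.trans (by
      rw [hFb, Subgroup.card_eq_one.1 (hFcard.1 h4), Subgroup.map_bot])))
    refine ⟨MulEquiv.ofBijective φ ((Nat.bijective_iff_injective_and_card _).2 ⟨hinj, ?_⟩)⟩
    rw [hXcard, h4, Nat.card_perm, Nat.card_fin]; rfl
  · obtain ⟨f, hf, hf1⟩ := (Subgroup.bot_or_exists_ne_one F).resolve_left (fun h => by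
      have := hFcard.2 h8; rw [h, Subgroup.card_bot] at this; omega)
    have hFf : ∀ x ∈ F, x = 1 ∨ x = f := by
      intro x hx
      haveI := Fintype.ofFinite F
      have h2 := hFcard.2 h8
      rw [Nat.card_eq_fintype_card] at h2
      by_contra hne
      push Not at hne
      have h3 : ({(1 : F), ⟨x, hx⟩, ⟨f, hf⟩} : Finset F).card ≤ 2 := (Finset.card_le_univ _).trans_eq h2
      rw [Finset.card_insert_of_notMem (by simp [Subtype.ext_iff, Ne.symm hne.1, Ne.symm hf1]),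
        Finset.card_insert_of_notMem (by simp [Subtype.ext_iff, hne.2]), Finset.card_singleton] at h3
      omega
    obtain ⟨q, hq, hqD⟩ : ∃ q ∈ Q, q ∉ D := by
      by_contra h
      push Not at h
      have := Nat.le_of_dvd Nat.card_pos (card_dvd_of_le (show Q ≤ D from h))
      have : 0 < Nat.card D := Nat.card_pos
      omega
    set c := q * (τ * q * τ⁻¹) with hcdef
    have hq' : τ * q * τ⁻¹ ∈ Q := (inferInstance : Q.Normal).conj_mem q hq τ
    have hcQ : c ∈ Q := mul_mem hq hq'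
    have hcc : τ * c * τ⁻¹ = c := by
      have e1 : τ * c * τ⁻¹ = (τ * q * τ⁻¹) * ((τ * τ) * q * (τ * τ)⁻¹) := by rw [hcdef]; group
      rw [e1, hτ, one_mul, inv_one, mul_one, hcdef]
      exact hQc _ hq' _ hq
    have hcD : c ∈ D := hCτ c hcQ (mul_inv_eq_iff_eq_mul.1 hcc)
    have hcF : c ∉ F := by
      intro hcF
      refine hρnc ?_
      have hDi : D.relIndex Q = 2 := by
        have h1 := Grp.card_mul_relIndex hDQ
        rw [hD2, mul_comm 2] at h1
        exact Nat.eq_of_mul_eq_mul_left Nat.card_pos h1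
      set K : Subgroup Γ := (centralizer ((Q.map (QuotientGroup.mk' F)) : Set (Γ ⧸ F))).comap (QuotientGroup.mk' F) with hK
      haveI : (Q.map (QuotientGroup.mk' F)).Normal := Subgroup.Normal.map inferInstance _ (QuotientGroup.mk'_surjective F)
      haveI : K.Normal := inferInstance
      have hτK : τ ∈ K := by
        refine mem_centralizer_iff.2 ?_
        rintro _ ⟨x, hx, rfl⟩
        have hd : τ * x * τ⁻¹ * x⁻¹ ∈ F := by
          by_cases hxD : x ∈ D
          · rw [hDτ x hxD, mul_inv_cancel_right, mul_inv_cancel]; exact one_mem _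
          · have hxq : q⁻¹ * x ∈ D := (mul_mem_iff_of_index_two (H := D.subgroupOf Q) hDi
              (a := ⟨q⁻¹, inv_mem hq⟩) (b := ⟨x, hx⟩)).2 (iff_of_false (fun h => hqD (inv_mem_iff.1 h)) hxD)
            have e2 : τ * (q⁻¹ * x) * τ⁻¹ = q⁻¹ * x := by rw [hDτ _ hxq, mul_inv_cancel_right]
            have e4 : τ * x * τ⁻¹ * x⁻¹ = (τ * q * τ⁻¹) * (τ * (q⁻¹ * x) * τ⁻¹) * x⁻¹ := by group
            rw [e4, e2, show τ * q * τ⁻¹ * (q⁻¹ * x) * x⁻¹ = τ * q * τ⁻¹ * q⁻¹ by group,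
              inv_eq_of_mul_eq_one_right (hQe q hq), ← hQc q hq _ hq']
            exact hcF
        show QuotientGroup.mk' F x * QuotientGroup.mk' F τ = QuotientGroup.mk' F τ * QuotientGroup.mk' F x
        rw [← map_mul, ← map_mul]
        refine (QuotientGroup.eq.2 ?_)
        have := (inferInstance : F.Normal).conj_mem _ hd (x * τ)⁻¹
        rwa [show (x * τ)⁻¹ * (τ * x * τ⁻¹ * x⁻¹) * (x * τ)⁻¹⁻¹ = (x * τ)⁻¹ * (τ * x) by group] at this
      have htop : (⊤ : Subgroup Γ) ≤ K := by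
        rw [← hgen, closure_le]
        rintro z (hz | rfl | rfl)
        · refine mem_centralizer_iff.2 ?_
          rintro _ ⟨x, hx, rfl⟩
          rw [← map_mul, ← map_mul, hQc x hx z hz]
        · exact hτK
        · exact (inferInstance : K.Normal).conj_mem _ hτK ρ
      refine series ρ F hρodd (fun x hx => ?_) fun y hy => (mem_center_iff.1 hy.2 ρ).symm
      have h1 := mem_centralizer_iff.1 (htop (mem_top ρ)) _ ⟨x, hx, rfl⟩
      rw [← QuotientGroup.eq_one_iff, ← QuotientGroup.mk'_apply, map_mul, map_mul, map_mul, map_inv, map_inv, h1]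
      group
    set W := zpowers q ⊔ zpowers c with hW
    have hWQ : W ≤ Q := sup_le (zpowers_le.2 hq) (zpowers_le.2 hcQ)
    have hWel : ∀ w ∈ W, w = 1 ∨ w = q ∨ w = c ∨ w = q * c := by
      intro w hw
      have hn : zpowers q ≤ normalizer ((zpowers c : Subgroup Γ) : Set Γ) := zpowers_le.2
        (centralizer_le_normalizer _ (mem_centralizer_iff.2 fun z hz => (hQc q hq z ((zpowers_le.2 hcQ) hz)).symm))
      have hw' : w ∈ ((zpowers q ⊔ zpowers c : Subgroup Γ) : Set Γ) := hw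
      rw [Subgroup.coe_mul_of_left_le_normalizer_right _ _ hn] at hw'
      obtain ⟨_, ⟨i, rfl⟩, _, ⟨l, rfl⟩, rfl⟩ := hw'
      have key : ∀ u ∈ Q, ∀ i : ℤ, u ^ i = 1 ∨ u ^ i = u := fun u hu i => by
        rcases Int.even_or_odd' i with ⟨s, rfl | rfl⟩
        · left; rw [zpow_mul, zpow_two, hQe u hu, one_zpow]
        · right; rw [zpow_add_one, zpow_mul, zpow_two, hQe u hu, one_zpow, one_mul]
      show q ^ i * c ^ l = 1 ∨ _
      rcases key q hq i with h | h <;> rcases key c hcQ l with h' | h' <;> simp [h, h']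
    have hfW : f ∉ W := by
      intro hfW
      have hfD : f ∈ D := hCτ f hf.1 ((mem_center_iff.1 hf.2 τ))
      rcases hWel f hfW with h | h | h | h
      · exact hf1 h
      · exact hqD (h ▸ hfD)
      · exact hcF (h ▸ hf)
      · refine hqD ?_
        have := D.mul_mem hfD (inv_mem hcD)
        rwa [h, mul_inv_cancel_right] at this
    set M := W.map m ⊔ zpowers τb with hM
    set Pb := Qb ⊔ zpowers τb with hPb
    have hτW : zpowers τb ≤ normalizer ((W.map m : Subgroup _) : Set (Γ ⧸ Cfsg.oddCore Γ)) := by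
      rw [zpowers_le]
      refine Subgroup.mem_normalizer_fintype fun w hw => ?_
      obtain ⟨u, hu, rfl⟩ := hw
      refine ⟨τ * u * τ⁻¹, ?_, by rw [map_mul, map_mul, map_inv]⟩
      have hle : W ≤ W.comap (MulAut.conj τ).toMonoidHom := by
        refine sup_le (zpowers_le.2 ?_) (zpowers_le.2 ?_)
        · show τ * q * τ⁻¹ ∈ W
          rw [show τ * q * τ⁻¹ = q⁻¹ * c by rw [hcdef]; group]
          exact mul_mem (inv_mem (Subgroup.mem_sup_left (mem_zpowers q))) (Subgroup.mem_sup_right (mem_zpowers c))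
        · show τ * c * τ⁻¹ ∈ W
          rw [hcc]; exact Subgroup.mem_sup_right (mem_zpowers c)
      exact hle hu
    have hτb2 : τb ^ 2 = 1 := by rw [hτb, ← map_pow, pow_two, hτ, map_one]
    have hτb1 : τb ∉ Qb := fun h => by
      obtain ⟨u, hu, he⟩ := h
      have h1 : τ * u⁻¹ ∈ Cfsg.oddCore Γ := (QuotientGroup.eq_one_iff _).1 (show m (τ * u⁻¹) = 1 by
        rw [map_mul, map_inv, he, ← hτb, mul_inv_cancel])
      rw [hOO] at h1
      obtain ⟨b, hb⟩ := h1
      have h3 := congrArg π hb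
      simp only [map_zpow, map_pow, map_mul, map_inv, (hπk u).2 hu, inv_one, mul_one, hρπ, hc₀] at h3
      rw [DihedralGroup.r_pow, DihedralGroup.r_zpow] at h3
      exact absurd h3 (by simp)
    have hzc : ∀ K : Subgroup (Γ ⧸ Cfsg.oddCore Γ), K ≤ Qb → zpowers τb ≤ normalizer (K : Set _) →
        Nat.card ↥(K ⊔ zpowers τb) = 2 * Nat.card K := fun K hK hn => by
      have hi : zpowers τb ⊓ K = ⊥ := by
        refine eq_bot_iff.2 fun z hz => ?_
        obtain ⟨k, rfl⟩ := hz.1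
        rcases Int.even_or_odd' k with ⟨s, rfl | rfl⟩
        · show τb ^ (2 * s) ∈ (⊥ : Subgroup _)
          rw [mem_bot, zpow_mul, zpow_two, ← pow_two, hτb2, one_zpow]
        · exfalso
          refine hτb1 (hK ?_)
          have h2 := hz.2
          change τb ^ (2 * s + 1) ∈ K at h2
          rwa [zpow_add_one, zpow_mul, zpow_two, ← pow_two, hτb2, one_zpow, one_mul] at h2
      have h1 := Grp.card_sup_mul_card_inf hn
      rw [hi, Subgroup.card_bot, mul_one, sup_comm, Nat.card_zpowers, orderOf_eq_prime hτb2 (fun h => hτb1 (h ▸ one_mem _))] at h1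
      exact h1
    have hPcard : Nat.card Pb = 16 := by
      rw [hPb, hzc Qb le_rfl (fun z _ => by rw [normalizer_eq_top]; exact mem_top z), hQb, hcardmap Q le_rfl, h8]
    have hWcard : Nat.card W = 4 := by
      haveI := Fintype.ofFinite W
      refine le_antisymm ?_ ?_
      · refine le_trans ?_ (Finset.card_le_four (a := (1 : Γ)) (b := q) (c := c) (d := q * c))
        rw [← Nat.card_eq_finsetCard]
        exact Nat.card_le_card_of_injective
          (fun x : W => (⟨x.1, by simpa using hWel x x.2⟩ : {a // a ∈ ({1, q, c, q * c} : Finset Γ)}))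
          (fun a b he => Subtype.ext (congrArg (fun z : {a // a ∈ ({1, q, c, q * c} : Finset Γ)} => (z : Γ)) he))
      · obtain ⟨a, ha⟩ := IsPGroup.iff_card.1 (hQp.to_le hWQ)
        rw [ha]
        refine le_of_eq_of_le (show 4 = 2 ^ 2 by rfl) (Nat.pow_le_pow_right two_pos ?_)
        by_contra hlt
        have h1 : Nat.card W ≤ 2 := ha ▸ (Nat.pow_le_pow_right two_pos (show a ≤ 1 by omega))
        have h3 : ({(1 : W), ⟨q, Subgroup.mem_sup_left (mem_zpowers q)⟩, ⟨c, Subgroup.mem_sup_right (mem_zpowers c)⟩} : Finset W).card ≤ 2 := by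
          refine (Finset.card_le_univ _).trans ?_
          rwa [← Nat.card_eq_fintype_card]
        have hq1 : q ≠ 1 := fun h => hqD (h ▸ one_mem _)
        have hc1 : c ≠ 1 := fun h => hcF (h ▸ one_mem _)
        have hqc : q ≠ c := fun h => hqD (h ▸ hcD)
        rw [Finset.card_insert_of_notMem (by simp [Subtype.ext_iff, Ne.symm hq1, Ne.symm hc1]),
          Finset.card_insert_of_notMem (by simp [Subtype.ext_iff, hqc]), Finset.card_singleton] at h3
        omega
    have hMle : M ≤ Pb := sup_le ((map_mono hWQ).trans le_sup_left) le_sup_right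
    have hMi : (M.subgroupOf Pb).index = 2 := by
      have h1 := Grp.card_mul_relIndex hMle
      rw [hM, hzc _ (map_mono hWQ) hτW, hcardmap W hWQ, hWcard, hPcard] at h1
      show M.relIndex Pb = 2
      rw [hM]
      omega
    haveI := Subgroup.normal_of_index_eq_two hMi
    have hfM : m f ∉ M := by
      intro hfM
      have hfM' : m f ∈ ((W.map m ⊔ zpowers τb : Subgroup _) : Set (Γ ⧸ Cfsg.oddCore Γ)) := hfM
      rw [Subgroup.coe_mul_of_right_le_normalizer_left _ _ hτW] at hfM'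
      obtain ⟨_, ⟨w, hw, rfl⟩, _, ⟨k, rfl⟩, he⟩ := hfM'
      have he' : m w * τb ^ k = m f := he
      rcases Int.even_or_odd' k with ⟨s, rfl | rfl⟩
      · rw [zpow_mul, zpow_two, ← pow_two, hτb2, one_zpow, mul_one] at he'
        exact hfW (hinjQ w (hWQ hw) f hf.1 he' ▸ hw)
      · rw [zpow_add_one, zpow_mul, zpow_two, ← pow_two, hτb2, one_zpow, one_mul] at he'
        refine hτb1 ?_
        rw [show τb = (m w)⁻¹ * m f by rw [← he']; group]
        exact mul_mem (inv_mem (mem_map_of_mem m (hWQ hw))) (mem_map_of_mem m hf.1)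
    haveI := isCyclic_of_prime_card (show Nat.card (↥Pb ⧸ M.subgroupOf Pb) = 2 by rw [← Subgroup.index_eq_card, hMi])
    let eC : ↥Pb ⧸ M.subgroupOf Pb ≃* Multiplicative (ZMod 2) :=
      (mulEquivOfPrimeCardEq (p := 2) (by rw [← Subgroup.index_eq_card, hMi]) (by simp))
    let φ₂ : ↥Pb →* Multiplicative (ZMod 2) := eC.toMonoidHom.comp (QuotientGroup.mk' _)
    set ψ := MonoidHom.transfer φ₂ with hψ
    have hPi : Pb.index = 3 := by
      have h1 := Pb.card_mul_index
      rw [hPcard, hXcard, h8] at h1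
      omega
    have hfc : ∀ g : Γ ⧸ Cfsg.oddCore Γ, g * m f = m f * g := fun g =>
      mem_center_iff.1 (hFbc (mem_map_of_mem m hf)) g
    have hψf : ψ (m f) ≠ 1 := by
      rw [hψ, MonoidHom.transfer_eq_pow φ₂ (m f) (fun k g _ => by
        rw [((show Commute g (m f) from hfc g).pow_right k).inv_mul_cancel])]
      have hfP : m f ∈ Pb := Subgroup.mem_sup_left (mem_map_of_mem m hf.1)
      have h1 : (⟨(m f) ^ Pb.index, MonoidHom.transfer_eq_pow_aux (m f) (fun k g _ => by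
        rw [((show Commute g (m f) from hfc g).pow_right k).inv_mul_cancel])⟩ : Pb) = ⟨m f, hfP⟩ := by
        refine Subtype.ext ?_
        show (m f) ^ Pb.index = m f
        rw [hPi, pow_succ, pow_two, ← map_mul, hQe f hf.1, map_one, one_mul]
      rw [h1]
      intro he
      refine hfM ?_
      have h2 : (QuotientGroup.mk' (M.subgroupOf Pb)) ⟨m f, hfP⟩ = 1 := eC.injective (by rw [map_one]; exact he)
      exact mem_subgroupOf.1 ((QuotientGroup.eq_one_iff _).1 h2)
    have hinj : Function.Injective (φ.prod ψ) := by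
      refine (MonoidHom.ker_eq_bot_iff _).1 (eq_bot_iff.2 fun x hx => ?_)
      rw [MonoidHom.mem_ker, MonoidHom.prod_apply, Prod.mk_eq_one] at hx
      obtain ⟨u, hu, rfl⟩ := hφ hx.1
      rcases hFf u hu with rfl | rfl
      · rw [map_one]; exact one_mem _
      · exact absurd hx.2 hψf
    refine ⟨MulEquiv.ofBijective (φ.prod ψ) ((Nat.bijective_iff_injective_and_card _).2 ⟨hinj, ?_⟩)⟩
    rw [hXcard, h8, Nat.card_prod, Nat.card_perm, Nat.card_fin]; simp [Nat.factorial]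

theorem windows (P : Subgroup G) (g : G) (p : ℕ) (hp : p.Prime)
    (hN : ((P ⊓ MulAut.conj g⁻¹ • P).subgroupOf (MulAut.conj g⁻¹ • P)).Normal)
    (hidx : (P ⊓ MulAut.conj g⁻¹ • P).relIndex (MulAut.conj g⁻¹ • P) = p)
    (n : ℕ) (hn : 1 ≤ n) (K : Subgroup G) (hK : K = ⨆ i ∈ Finset.range (n + 1), MulAut.conj (g ^ i)⁻¹ • P)
    (h1 : ∀ Q : Subgroup G, Q ≤ P → (Q.subgroupOf P).Normal → MulAut.conj g • Q = Q → Q = ⊥)
    (h2 : P ⊓ (Subgroup.center K).map K.subtype = ⊥) :
    ∃ (t r : ℕ) (y : ℤ → G), Nat.card P = p ^ t ∧ 1 ≤ t ∧ 1 ≤ r ∧ r ≤ t ∧ 2 * t ≤ 3 * r ∧ 2 * r ≤ n + t ∧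
      (∀ i, y i ^ p = 1) ∧ (∀ i j : ℤ, i ≤ j → j < i + r → y i * y j = y j * y i) ∧
      (∀ a b : ℤ, a < b → b < a + t → ⁅y a, y b⁆ ∈ closure (y '' Set.Ioo a b)) ∧
      closure (y '' Set.Ico (0 : ℤ) t) = P ∧ closure (y '' Set.Ico (0 : ℤ) (t - 1)) = P ⊓ MulAut.conj g⁻¹ • P ∧
      (∀ a i : ℤ, g ^ a * y i * (g ^ a)⁻¹ = y (a + i)) ∧ (r < t → S4359.Seq y p r t) := by
  classical
  haveI := Fact.mk hp
  obtain ⟨J, t, J0, Js, Jmem, hcard, hLbot, hPcard, ht1, hPp⟩ := S4359.chain P g p hp hN hidx h1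
  have mem_s : ∀ (H : Subgroup G) (a x : G), x ∈ MulAut.conj a • H ↔ a⁻¹ * x * a ∈ H := fun H a x => by
    rw [Subgroup.mem_pointwise_smul_iff_inv_smul_mem, ← map_inv, MulAut.smul_def, MulAut.conj_apply, inv_inv]
  have hsm : ∀ (H : Subgroup G) (x : G), x ∈ MulAut.conj g⁻¹ • H ↔ g * x * g⁻¹ ∈ H := fun H x => by
    rw [mem_s, inv_inv]
  have Jle : ∀ k, J k ≤ P := fun k => by
    cases k with
    | zero => exact J0.le
    | succ k => rw [Js]; exact inf_le_left
  have Jant : ∀ k, J (k + 1) ≤ J k := fun k x hx => (Jmem k x).2 fun i hi => (Jmem (k + 1) x).1 hx i (by omega)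
  have Jp : ∀ k : ℕ, IsPGroup p ↥(J k) := fun k => hPp.to_le (Jle k)
  have hτ : ∀ k, MulAut.conj g • J (k + 1) ≤ J k := by
    intro k z hz
    rw [mem_s] at hz
    refine (Jmem k z).2 fun i hi => ?_
    have := (Jmem (k + 1) _).1 hz (i + 1) (by omega)
    rwa [show g ^ (i + 1) * (g⁻¹ * z * g) * (g ^ (i + 1))⁻¹ = g ^ i * z * (g ^ i)⁻¹ by rw [pow_succ]; group] at this
  have hJcard : ∀ d k, k + d = t → Nat.card (J k) = p ^ d := by
    intro d
    induction d with
    | zero => intro k hk; rw [show k = t by omega, hLbot, Subgroup.card_bot, pow_zero]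
    | succ d ih => intro k hk; rw [← hcard k (by omega), ih (k + 1) (by omega), pow_succ]
  -- generators
  obtain ⟨x, hx, hx1⟩ : ∃ x ∈ J (t - 1), x ≠ 1 := by
    refine (Subgroup.bot_or_exists_ne_one (J (t - 1))).resolve_left fun e => ?_
    have := hJcard 1 (t - 1) (by omega)
    rw [e, Subgroup.card_bot, pow_one] at this
    exact hp.ne_one this.symm
  have hxp : x ^ p = 1 := by
    have := hJcard 1 (t - 1) (by omega)
    rw [pow_one] at this
    exact congrArg Subtype.val (this ▸ pow_card_eq_one' : (⟨x, hx⟩ : J (t - 1)) ^ p = 1)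
  set y : ℤ → G := fun i => g ^ i * x * (g ^ i)⁻¹ with hy
  have yconj : ∀ a i : ℤ, g ^ a * y i * (g ^ a)⁻¹ = y (a + i) := fun a i => by simp only [hy, zpow_add]; group
  let W : ℤ → ℤ → Subgroup G := fun a b => closure (y '' Set.Ico a b)
  have Wmem : ∀ a b i : ℤ, a ≤ i → i < b → y i ∈ W a b := fun a b i h3 h4 => subset_closure ⟨i, ⟨h3, h4⟩, rfl⟩
  have Wshift : ∀ a b c : ℤ, ∀ z, z ∈ W b c → g ^ a * z * (g ^ a)⁻¹ ∈ W (a + b) (a + c) := by
    intro a b c z hz
    have : W b c ≤ (W (a + b) (a + c)).comap (MulAut.conj (g ^ a)).toMonoidHom := by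
      rw [closure_le]
      rintro _ ⟨i, hi, rfl⟩
      show MulAut.conj (g ^ a) (y i) ∈ W (a + b) (a + c)
      rw [MulAut.conj_apply, yconj]
      exact Wmem _ _ _ (by have := hi.1; omega) (by have := hi.2; omega)
    exact this hz
  have hWJ : ∀ m : ℕ, m ≤ t → W 0 m = J (t - m) := by
    intro m
    induction m with
    | zero =>
      intro _
      rw [Nat.sub_zero, show J t = ⊥ from hLbot]
      show closure (y '' Set.Ico (0 : ℤ) ((0 : ℕ) : ℤ)) = ⊥
      simp
    | succ m ih =>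
      intro hm
      have hin : ∀ i : ℕ, i ≤ m → y i ∈ J (t - (m + 1)) := by
        intro i hi
        refine (Jmem _ _).2 fun j hj => ?_
        have := (Jmem (t - 1) x).1 hx (j + i) (by omega)
        simp only [hy, zpow_natCast]
        rwa [show g ^ j * (g ^ i * x * (g ^ i)⁻¹) * (g ^ j)⁻¹ = g ^ (j + i) * x * (g ^ (j + i))⁻¹ by rw [pow_add]; group]
      have hle : W 0 ((m + 1 : ℕ) : ℤ) ≤ J (t - (m + 1)) := by
        rw [closure_le]
        rintro _ ⟨i, hi, rfl⟩
        obtain ⟨i, rfl⟩ := Int.eq_ofNat_of_zero_le hi.1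
        exact hin i (by have := hi.2; omega)
      refine Subgroup.eq_of_le_of_card_ge hle ?_
      obtain ⟨b, hb⟩ := IsPGroup.iff_card.1 ((Jp _).to_le hle)
      rw [hJcard (m + 1) _ (by omega), hb]
      refine Nat.pow_le_pow_right hp.pos ?_
      by_contra hb'
      have hle' : W 0 (m : ℤ) ≤ W 0 ((m + 1 : ℕ) : ℤ) := closure_mono (Set.image_mono (Set.Ico_subset_Ico_right (by omega)))
      have e := Subgroup.eq_of_le_of_card_ge hle' (by
        rw [hb, ih (by omega), hJcard m _ (by omega)]; exact Nat.pow_le_pow_right hp.pos (by omega))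
      have hym : y m ∈ J (t - m) := by
        rw [← ih (by omega), e]
        exact Wmem _ _ _ (by omega) (by omega)
      have hx2 : x ∈ J t := by
        refine (Jmem t x).2 fun j hj => ?_
        rcases Nat.lt_or_ge j t with hjt | hjt
        · exact (Jmem (t - 1) x).1 hx j (by omega)
        · have := (Jmem _ _).1 hym (t - m) le_rfl
          simp only [hy, zpow_natCast] at this
          rwa [show g ^ (t - m) * (g ^ m * x * (g ^ m)⁻¹) * (g ^ (t - m))⁻¹ = g ^ (t - m + m) * x * (g ^ (t - m + m))⁻¹ by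
            rw [pow_add]; group, show t - m + m = j by omega] at this
      rw [show J t = ⊥ from hLbot, mem_bot] at hx2
      exact hx1 hx2
  have hP' : W 0 t = P := by rw [hWJ t le_rfl, Nat.sub_self, J0]
  -- the relations
  have hrel : ∀ a b : ℤ, a < b → b < a + t → ⁅y a, y b⁆ ∈ closure (y '' Set.Ioo a b) := by
    intro a b hab hbt
    obtain ⟨m, hm⟩ : ∃ m : ℕ, b = a + m := ⟨(b - a).toNat, by omega⟩
    subst hm
    obtain ⟨d, rfl⟩ : ∃ d, m = d + 1 := ⟨m - 1, by omega⟩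
    have e1 : W 0 ((d + 2 : ℕ) : ℤ) = J (t - (d + 2)) := hWJ _ (by omega)
    have e2 : W 0 ((d + 1 : ℕ) : ℤ) = J (t - (d + 2) + 1) := by rw [hWJ _ (by omega)]; congr 1; omega
    have hB : MulAut.conj g • J (t - (d + 2) + 1) ≤ J (t - (d + 2)) := hτ _
    have hidxA : (J (t - (d + 2) + 1)).relIndex (J (t - (d + 2))) = p := by
      have h3 := Grp.card_mul_relIndex (Jant (t - (d + 2)))
      rw [← hcard (t - (d + 2)) (by omega)] at h3
      exact Nat.eq_of_mul_eq_mul_left Nat.card_pos h3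
    have hidxB : (MulAut.conj g • J (t - (d + 2) + 1)).relIndex (J (t - (d + 2))) = p := by
      have h3 := Grp.card_mul_relIndex hB
      rw [Grp.card_conj_smul, ← hcard (t - (d + 2)) (by omega)] at h3
      exact Nat.eq_of_mul_eq_mul_left Nat.card_pos h3
    have nA := S4359.hnorm hp (Jant _) (Jp _) hidxA
    have nB := S4359.hnorm hp hB (Jp _) hidxB
    have hmb : y ((d + 1 : ℕ) : ℤ) ∈ MulAut.conj g • J (t - (d + 2) + 1) := by
      rw [mem_s, ← e2]
      have : g⁻¹ * y ((d + 1 : ℕ) : ℤ) * g = y (d : ℤ) := by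
        have := yconj (-1) ((d + 1 : ℕ) : ℤ)
        simp only [zpow_neg, zpow_one, inv_inv] at this
        rw [this]; congr 1; push_cast; ring
      rw [this]
      exact Wmem _ _ _ (by omega) (by omega)
    have hy0 : y 0 ∈ J (t - (d + 2) + 1) := e2 ▸ Wmem _ _ _ le_rfl (by omega)
    have hy0' : y 0 ∈ J (t - (d + 2)) := Jant _ hy0
    have hyb' : y ((d + 1 : ℕ) : ℤ) ∈ J (t - (d + 2)) := e1 ▸ Wmem _ _ _ (by omega) (by omega)
    have hc1 : ⁅y 0, y ((d + 1 : ℕ) : ℤ)⁆ ∈ J (t - (d + 2) + 1) := by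
      rw [commutatorElement_def, mul_assoc, mul_assoc, ← mul_assoc (y ((d + 1 : ℕ) : ℤ))]
      exact mul_mem hy0 ((mem_normalizer_iff.1 (nA hyb') _).1 (inv_mem hy0))
    have hc2 : ⁅y 0, y ((d + 1 : ℕ) : ℤ)⁆ ∈ MulAut.conj g • J (t - (d + 2) + 1) := by
      rw [commutatorElement_def]
      exact mul_mem ((mem_normalizer_iff.1 (nB hy0') _).1 hmb) (inv_mem hmb)
    -- the intersection is the inner window
    have hint : g⁻¹ * ⁅y 0, y ((d + 1 : ℕ) : ℤ)⁆ * g ∈ W 0 (d : ℤ) := by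
      rw [hWJ d (by omega), show t - d = t - (d + 2) + 1 + 1 by omega, Js, mem_inf, hsm]
      rw [mem_s] at hc2
      refine ⟨Jle _ hc2, ?_⟩
      rwa [show g * (g⁻¹ * ⁅y 0, y ((d + 1 : ℕ) : ℤ)⁆ * g) * g⁻¹ = ⁅y 0, y ((d + 1 : ℕ) : ℤ)⁆ by group]
    have h4 := Wshift (a + 1) 0 d _ hint
    rw [show g ^ (a + 1) * (g⁻¹ * ⁅y 0, y ((d + 1 : ℕ) : ℤ)⁆ * g) * (g ^ (a + 1))⁻¹ =
        g ^ a * ⁅y 0, y ((d + 1 : ℕ) : ℤ)⁆ * (g ^ a)⁻¹ by rw [zpow_add_one]; group,
      show g ^ a * ⁅y 0, y ((d + 1 : ℕ) : ℤ)⁆ * (g ^ a)⁻¹ = ⁅g ^ a * y 0 * (g ^ a)⁻¹, g ^ a * y ((d + 1 : ℕ) : ℤ) * (g ^ a)⁻¹⁆ by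
        simp only [commutatorElement_def]; group, yconj, yconj] at h4
    simp only [add_zero] at h4
    have hsub : ∀ b c : ℤ, a < b → c ≤ a + ((d + 1 : ℕ) : ℤ) → W b c ≤ closure (y '' Set.Ioo a (a + ((d + 1 : ℕ) : ℤ))) :=
      fun b c hb hc => Subgroup.closure_mono (Set.image_mono fun i hi => ⟨by have := hi.1; omega, by have := hi.2; omega⟩)
    refine hsub _ _ ?_ ?_ h4
    · omega
    · push_cast; omega
  -- abelian windows
  let Ab : ℕ → Prop := fun m => ∀ i j : ℕ, i < m → j < m → y i * y j = y j * y i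
  have hAb1 : Ab 1 := fun i j hi hj => by rw [show i = j by omega]
  have hne : ∃ r, 1 ≤ r ∧ r ≤ t ∧ Ab r ∧ (r = t ∨ ¬ Ab (r + 1)) := by
    by_contra h
    push Not at h
    have : ∀ m, 1 ≤ m → m ≤ t → Ab m := by
      intro m hm
      induction m, hm using Nat.le_induction with
      | base => exact fun _ => hAb1
      | succ m hm ih => exact fun hmt => (h m hm (by omega) (ih (by omega))).2
    exact (h t ht1 le_rfl (this t ht1 le_rfl)).1 rfl
  obtain ⟨r, hr1, hrt, hr, hrmax⟩ := hne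
  have hcomm : ∀ i j : ℤ, i ≤ j → j < i + r → y i * y j = y j * y i := by
    intro i j hij hjr
    obtain ⟨m, rfl⟩ : ∃ m : ℕ, j = i + m := ⟨(j - i).toNat, by omega⟩
    have := congrArg (fun z => g ^ i * z * (g ^ i)⁻¹) (hr 0 m (by omega) (by omega))
    rw [show g ^ i * (y ((0 : ℕ) : ℤ) * y (m : ℤ)) * (g ^ i)⁻¹ = g ^ i * y ((0:ℕ) : ℤ) * (g ^ i)⁻¹ * (g ^ i * y (m : ℤ) * (g ^ i)⁻¹) by group,
      show g ^ i * (y (m : ℤ) * y ((0 : ℕ) : ℤ)) * (g ^ i)⁻¹ = g ^ i * y (m : ℤ) * (g ^ i)⁻¹ * (g ^ i * y ((0:ℕ) : ℤ) * (g ^ i)⁻¹) by group,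
      yconj, yconj, Nat.cast_zero, add_zero] at this
    exact this
  have hcrux : 2 * t ≤ 3 * r := by
    rcases Nat.lt_or_ge r t with hlt | hge
    swap
    · omega
    have hnab : ¬ Ab (r + 1) := hrmax.resolve_left (by omega)
    have hn0 : y 0 * y (r : ℤ) ≠ y (r : ℤ) * y 0 := by
      intro e
      refine hnab fun i j hi hj => ?_
      rcases le_total i j with hij | hij
      · rcases Nat.lt_or_ge j (i + r) with h' | h'
        · exact hcomm i j (by omega) (by omega)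
        · rw [show i = 0 by omega, show j = r by omega]; exact_mod_cast e
      · rcases Nat.lt_or_ge i (j + r) with h' | h'
        · exact (hcomm j i (by omega) (by omega)).symm
        · rw [show j = 0 by omega, show i = r by omega]; exact_mod_cast e.symm
    have hseq : S4359.Seq y p r t := by
      refine ⟨fun i => by simp only [hy]; rw [conj_pow, hxp, mul_one, mul_inv_cancel], hcomm, fun i e => hn0 ?_, hrel⟩
      have := congrArg (fun z => g ^ (-i) * z * (g ^ (-i))⁻¹) e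
      rw [show g ^ (-i) * (y i * y (i + r)) * (g ^ (-i))⁻¹ = g ^ (-i) * y i * (g ^ (-i))⁻¹ * (g ^ (-i) * y (i + r) * (g ^ (-i))⁻¹) by group,
        show g ^ (-i) * (y (i + r) * y i) * (g ^ (-i))⁻¹ = g ^ (-i) * y (i + r) * (g ^ (-i))⁻¹ * (g ^ (-i) * y i * (g ^ (-i))⁻¹) by group,
        yconj, yconj, neg_add_cancel, neg_add_cancel_left] at this
      exact this
    refine hseq.two_mul_le hp hlt fun m hm0 hmr z hz1 hz2 => ?_
    obtain ⟨m, rfl⟩ : ∃ k : ℕ, m = k := ⟨m.toNat, by omega⟩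
    -- disjointness by counting
    have hz1' : z ∈ W 0 m := closure_mono (Set.image_mono (Set.Ico_subset_Ico_left (by omega))) hz1
    have hsup : W 0 m ⊔ W m r = W 0 r := by
      rw [← Subgroup.closure_union, ← Set.image_union]
      congr 2
      ext i; simp only [Set.mem_union, Set.mem_Ico]; omega
    have hcardm : Nat.card (W (m : ℤ) r) = p ^ (r - m) := by
      have : W (m : ℤ) r = MulAut.conj (g ^ (m : ℤ)) • W 0 ((r - m : ℕ) : ℤ) := by
        ext z
        rw [mem_s]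
        constructor
        · intro hz
          have := Wshift (-(m : ℤ)) m r z hz
          rw [zpow_neg, inv_inv, neg_add_cancel] at this
          rwa [show -(m : ℤ) + r = ((r - m : ℕ) : ℤ) by omega] at this
        · intro hz
          have := Wshift (m : ℤ) 0 _ _ hz
          rw [add_zero, show (m : ℤ) + ((r - m : ℕ) : ℤ) = r by omega,
            show g ^ (m : ℤ) * ((g ^ (m : ℤ))⁻¹ * z * g ^ (m : ℤ)) * (g ^ (m : ℤ))⁻¹ = z by group] at this
          exact this
      rw [this, Grp.card_conj_smul, hWJ (r - m) (by omega), hJcard (r - m) _ (by omega)]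
    have hmn : W 0 (m : ℤ) ≤ normalizer (W (m : ℤ) r : Set G) := by
      refine le_trans ?_ (centralizer_le_normalizer (W (m : ℤ) r : Set G))
      intro a ha
      exact mem_centralizer_iff.2 fun b hb => hseq.comm_closure (A := Set.Ico (m : ℤ) r) (B := Set.Ico 0 m) (fun i hi j hj => by
        exact ⟨by have := hi.1; have := hi.2; have := hj.1; have := hj.2; omega, by have := hi.1; have := hi.2; have := hj.1; have := hj.2; omega⟩) hb ha
    have h3 := Grp.card_sup_mul_card_inf hmn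
    rw [hsup, hcardm, hWJ r (by omega), hJcard r _ (by omega), hWJ m (by omega), hJcard m _ (by omega), ← pow_add,
      show m + (r - m) = r by omega] at h3
    have h4 : Nat.card ↥(J (t - m) ⊓ W (m : ℤ) r) = 1 :=
      Nat.eq_of_mul_eq_mul_left (pow_pos hp.pos r) (by rw [mul_one]; exact h3)
    rw [Subgroup.card_eq_one, ← hWJ m (by omega)] at h4
    have : z ∈ W 0 (m : ℤ) ⊓ W (m : ℤ) r := ⟨hz1', hz2⟩
    rwa [h4, mem_bot] at this
  have hfinal : 2 * r ≤ n + t := by
    by_contra hlt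
    push Not at hlt
    set j : ℕ := t - r with hj
    have hjP : y (j : ℤ) ∈ P := hP' ▸ Wmem _ _ _ (by omega) (by omega)
    have hgen : ∀ i : ℕ, i ≤ n → MulAut.conj (g ^ i)⁻¹ • P ≤ centralizer ({y (j : ℤ)} : Set G) := by
      intro i hi z hz
      rw [mem_s, inv_inv, ← hP'] at hz
      have h5 := Wshift (-(i : ℤ)) 0 t _ hz
      rw [zpow_neg, zpow_natCast, inv_inv,
        show (g ^ i)⁻¹ * (g ^ i * z * (g ^ i)⁻¹) * g ^ i = z by group] at h5
      refine mem_centralizer_singleton_iff.2 ?_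
      have : closure (y '' Set.Ico (-(i : ℤ) + 0) (-(i : ℤ) + t)) ≤ centralizer ({y (j : ℤ)} : Set G) := by
        rw [closure_le]
        rintro _ ⟨k, hk, rfl⟩
        refine mem_centralizer_singleton_iff.2 ?_
        rcases le_total k (j : ℤ) with e | e
        · exact hcomm k j e (by have := hk.1; omega)
        · exact (hcomm j k e (by have := hk.2; omega)).symm
      exact mem_centralizer_singleton_iff.1 (this h5)
    have hKc : K ≤ centralizer ({y (j : ℤ)} : Set G) := by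
      rw [hK]; exact iSup₂_le fun i hi => hgen i (by simpa using Nat.lt_succ_iff.1 (Finset.mem_range.1 hi))
    have hjK : y (j : ℤ) ∈ K := by
      rw [hK]
      exact Subgroup.mem_iSup_of_mem 0 (Subgroup.mem_iSup_of_mem (by simp) (by simpa using hjP))
    have : y (j : ℤ) ∈ P ⊓ (center K).map K.subtype :=
      ⟨hjP, ⟨⟨_, hjK⟩, mem_center_iff.2 fun k => Subtype.ext (mem_centralizer_singleton_iff.1 (hKc k.2)), rfl⟩⟩
    rw [h2, mem_bot] at this
    simp only [hy, mul_inv_eq_one, mul_eq_left] at this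
    exact hx1 this
  refine ⟨t, r, y, hPcard, ht1, hr1, hrt, hcrux, hfinal, fun i => ?_, hcomm, hrel, hP', ?_, fun a i => yconj a i, fun hlt => ?_⟩
  · simp only [hy]; rw [conj_pow, hxp, mul_one, mul_inv_cancel]
  · have h := hWJ (t - 1) (by omega)
    rw [show t - (t - 1) = 0 + 1 by omega, Js, J0] at h
    rw [show (t : ℤ) - 1 = ((t - 1 : ℕ) : ℤ) by omega]
    exact h
  · refine ⟨fun i => by simp only [hy]; rw [conj_pow, hxp, mul_one, mul_inv_cancel], hcomm, fun i e => ?_, hrel⟩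
    refine hrmax.resolve_left (by omega) fun a b ha hb => ?_
    have e0 : y 0 * y (r : ℤ) = y (r : ℤ) * y 0 := by
      have := congrArg (fun z => g ^ (-i) * z * (g ^ (-i))⁻¹) e
      rw [show g ^ (-i) * (y i * y (i + r)) * (g ^ (-i))⁻¹ = g ^ (-i) * y i * (g ^ (-i))⁻¹ * (g ^ (-i) * y (i + r) * (g ^ (-i))⁻¹) by group,
        show g ^ (-i) * (y (i + r) * y i) * (g ^ (-i))⁻¹ = g ^ (-i) * y (i + r) * (g ^ (-i))⁻¹ * (g ^ (-i) * y i * (g ^ (-i))⁻¹) by group,
        yconj, yconj, neg_add_cancel, neg_add_cancel_left] at this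
      exact this
    rcases le_total a b with hab | hab
    · rcases Nat.lt_or_ge b (a + r) with h' | h'
      · exact hcomm a b (by omega) (by omega)
      · rw [show a = 0 by omega, show b = r by omega]; exact_mod_cast e0
    · rcases Nat.lt_or_ge a (b + r) with h' | h'
      · exact (hcomm b a (by omega) (by omega)).symm
      · rw [show b = 0 by omega, show a = r by omega]; exact_mod_cast e0.symm

/-- Closures of pairwise commuting involutions. -/
theorem elem {A : Set G} (hc : ∀ a ∈ A, ∀ b ∈ A, a * b = b * a) (he : ∀ a ∈ A, a * a = 1) :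
    (∀ a ∈ closure A, ∀ b ∈ closure A, a * b = b * a) ∧ ∀ a ∈ closure A, a * a = 1 := by
  have hcom : closure A ≤ centralizer (closure A : Set G) := by
    rw [centralizer_closure, closure_le]
    exact fun a ha => mem_centralizer_iff.2 fun b hb => hc b hb a ha
  refine ⟨fun a ha b hb => (mem_centralizer_iff.1 (hcom ha) b hb).symm, fun a ha => ?_⟩
  induction ha using closure_induction with
  | mem x hx => exact he x hx
  | one => exact mul_one 1
  | mul u v hu hv iu iv =>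
    calc u * v * (u * v) = u * (v * u) * v := by group
      _ = u * u * (v * v) := by rw [mem_centralizer_iff.1 (hcom hu) v hv]; group
      _ = 1 := by rw [iu, iv, one_mul]
  | inv u hu iu => rw [← mul_inv_rev, iu, inv_one]

/-- Facts about a group with dihedral quotient by its 2-core. -/
theorem dih {Γ : Type u} [Group Γ] [Finite Γ] (n : ℕ) (hn : 2 ≤ n) (e : Γ ⧸ Cfsg.pCore 2 Γ ≃* DihedralGroup n)
    (P' : Subgroup Γ) (hP' : IsPGroup 2 P') (hPi : ¬ 2 ∣ P'.index) :
    Odd n ∧ Cfsg.pCore 2 Γ ≤ P' ∧ Nat.card P' = 2 * Nat.card (Cfsg.pCore 2 Γ) ∧ Nat.card Γ = n * Nat.card P' ∧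
      ∃ h : Γ, P' ⊔ MulAut.conj h • P' = ⊤ ∧ P' ⊔ MulAut.conj h⁻¹ • P' = ⊤ := by
  haveI : Fact (Nat.Prime 2) := ⟨Nat.prime_two⟩
  haveI : NeZero n := ⟨by omega⟩
  set Q := Cfsg.pCore 2 Γ with hQ
  set π : Γ →* DihedralGroup n := e.toMonoidHom.comp (QuotientGroup.mk' Q) with hπ
  have hπs : Function.Surjective π := e.surjective.comp (QuotientGroup.mk'_surjective Q)
  have hπk : ∀ x : Γ, π x = 1 ↔ x ∈ Q := fun x => by
    show e (QuotientGroup.mk' Q x) = 1 ↔ _
    rw [map_eq_one_iff e e.injective, QuotientGroup.mk'_apply, QuotientGroup.eq_one_iff]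
  have hQp : IsPGroup 2 Q := Grp.pCore_isPGroup
  have hodd : Odd n := by
    by_contra heven
    rw [Nat.not_odd_iff_even] at heven
    obtain ⟨m, hm⟩ := heven
    set w : DihedralGroup n := DihedralGroup.r (m : ZMod n) with hw
    have hmm : (m : ZMod n) + (m : ZMod n) = 0 := by rw [← Nat.cast_add, ← hm, ZMod.natCast_self]
    have hw2 : w ^ 2 = 1 := by rw [pow_two, hw, DihedralGroup.r_mul_r, hmm, DihedralGroup.r_zero]
    have hw1 : w ≠ 1 := by
      rw [hw, ← DihedralGroup.r_zero, Ne, DihedralGroup.r.injEq, ZMod.natCast_eq_zero_iff]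
      intro h
      have := Nat.le_of_dvd (by omega) h
      omega
    have hwc : ∀ z : DihedralGroup n, z * w = w * z := by
      rintro (i | i)
      · rw [hw, DihedralGroup.r_mul_r, DihedralGroup.r_mul_r, add_comm]
      · rw [hw, DihedralGroup.sr_mul_r, DihedralGroup.r_mul_sr, sub_eq_add_neg]
        congr 2
        exact (neg_eq_of_add_eq_zero_left hmm).symm
    have hwn : (zpowers w).Normal := ⟨fun a ha g => by
      obtain ⟨k, rfl⟩ := ha
      show g * w ^ k * g⁻¹ ∈ zpowers w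
      rw [((show Commute g w from hwc g).zpow_right k).eq, mul_inv_cancel_right]
      exact zpow_mem_zpowers w k⟩
    set N := (zpowers w).comap π with hN
    have hle : N ≤ Q := by
      refine Grp.le_pCore (hwn.comap π) ?_
      intro x
      obtain ⟨k, hk⟩ := hQp ⟨(x : Γ) ^ 2, (hπk _).1 (by
        obtain ⟨j, hj⟩ := (x.2 : π x ∈ zpowers w)
        rw [map_pow, ← (show w ^ j = π x from hj), ← zpow_natCast, ← zpow_mul, mul_comm, zpow_mul, zpow_natCast, hw2, one_zpow])⟩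
      refine ⟨k + 1, Subtype.ext ?_⟩
      have := congrArg Subtype.val hk
      simp only [Subgroup.coe_pow, Subgroup.coe_one] at this ⊢
      rw [pow_succ', pow_mul]
      exact this
    obtain ⟨x, hx⟩ := hπs w
    exact hw1 (hx ▸ (hπk x).2 (hle (show π x ∈ zpowers w from hx ▸ mem_zpowers w)))
  have hQP : Q ≤ P' := Grp.pCore_le_sylow (hP'.toSylow hPi)
  have hΓ : Nat.card Γ = Nat.card Q * (2 * n) := by
    rw [← Q.card_mul_index, Subgroup.index_eq_card, Nat.card_congr e.toEquiv, DihedralGroup.nat_card]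
  obtain ⟨a, ha⟩ := IsPGroup.iff_card.1 hP'
  obtain ⟨b, hb⟩ := IsPGroup.iff_card.1 hQp
  have hab : a = b + 1 := by
    have h1 := P'.card_mul_index
    rw [ha, hΓ, hb, ← mul_assoc, ← pow_succ] at h1
    have c1 : Nat.Coprime (2 ^ a) n := (Nat.coprime_two_left.2 hodd).pow_left a
    have c2 : Nat.Coprime (2 ^ (b + 1)) P'.index := (Nat.prime_two.coprime_iff_not_dvd.2 hPi).pow_left _
    exact Nat.pow_right_injective (le_refl 2) (Nat.dvd_antisymm (c1.dvd_of_dvd_mul_right (h1 ▸ dvd_mul_right _ _))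
      (c2.dvd_of_dvd_mul_right (h1.symm ▸ dvd_mul_right _ _)))
  have hP2 : Nat.card P' = 2 * Nat.card Q := by rw [ha, hb, hab, pow_succ']
  refine ⟨hodd, hQP, hP2, by rw [hΓ, hP2]; ring, ?_⟩
  obtain ⟨τ, hτP, hτQ⟩ : ∃ τ ∈ P', τ ∉ Q := by
    by_contra h
    push Not at h
    have := Nat.le_of_dvd Nat.card_pos (card_dvd_of_le (show P' ≤ Q from h))
    have : 0 < Nat.card Q := Nat.card_pos
    omega
  obtain ⟨c₀, hc₀⟩ : ∃ c : ZMod n, π τ = DihedralGroup.sr c := by
    cases hπτ : π τ with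
    | sr c => exact ⟨c, rfl⟩
    | r c =>
      exfalso
      obtain ⟨k, hk⟩ := IsPGroup.iff_orderOf.1 hP' ⟨τ, hτP⟩
      rw [Subgroup.orderOf_mk] at hk
      have h1 : orderOf (π τ) ∣ 2 ^ k := hk ▸ orderOf_map_dvd π τ
      have h2 : orderOf (π τ) ∣ n := by
        rw [hπτ, orderOf_dvd_iff_pow_eq_one, DihedralGroup.r_pow, ZMod.natCast_self, mul_zero, DihedralGroup.r_zero]
      exact hτQ ((hπk τ).1 (orderOf_eq_one_iff.1 (Nat.eq_one_of_dvd_coprimes ((Nat.coprime_two_left.2 hodd).pow_left k) h1 h2)))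
  have key : ∀ (h : Γ) (u v : ZMod n), π h = DihedralGroup.r u → v * (u + u) = 1 → P' ⊔ MulAut.conj h • P' = ⊤ := by
    intro h u v hu huv
    set T := P' ⊔ MulAut.conj h • P'
    have h1 : τ ∈ T := Subgroup.mem_sup_left hτP
    have h2 : h * τ * h⁻¹ ∈ T := Subgroup.mem_sup_right ⟨τ, hτP, rfl⟩
    have hr : π (h * τ * h⁻¹ * τ) = DihedralGroup.r (u + u) := by
      rw [map_mul, map_mul, map_mul, map_inv, hu, hc₀, DihedralGroup.inv_r, DihedralGroup.r_mul_sr,
        DihedralGroup.sr_mul_r, DihedralGroup.sr_mul_sr]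
      congr 1; ring
    refine eq_top_iff.2 fun x _ => ?_
    have key' : ∀ w ∈ T, π w = π x → x ∈ T := fun w hw he => by
      have : w⁻¹ * x ∈ Q := (hπk _).1 (by rw [map_mul, map_inv, he, inv_mul_cancel])
      simpa using T.mul_mem hw (Subgroup.mem_sup_left (hQP this) : w⁻¹ * x ∈ T)
    have hrot : ∀ c : ZMod n, ∃ w ∈ T, π w = DihedralGroup.r c := fun c =>
      ⟨(h * τ * h⁻¹ * τ) ^ (c * v).val, T.pow_mem (T.mul_mem h2 h1) _, by
        rw [map_pow, hr, DihedralGroup.r_pow, ZMod.natCast_zmod_val, show (u + u) * (c * v) = c * (v * (u + u)) by ring, huv, mul_one]⟩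
    cases hx : π x with
    | r c =>
      obtain ⟨w, hw, he⟩ := hrot c
      exact key' w hw (he.trans hx.symm)
    | sr c =>
      obtain ⟨w, hw, he⟩ := hrot (c - c₀)
      refine key' (τ * w) (T.mul_mem h1 hw) ?_
      rw [map_mul, hc₀, he, hx, DihedralGroup.sr_mul_r, add_sub_cancel]
  obtain ⟨h, hh⟩ := hπs (DihedralGroup.r 1)
  obtain ⟨i, hi⟩ := hodd
  have h2i : ((i + 1 : ℕ) : ZMod n) * (1 + 1) = 1 := by
    have : ((2 * (i + 1) : ℕ) : ZMod n) = 1 := by
      rw [show 2 * (i + 1) = n + 1 by omega, Nat.cast_add, ZMod.natCast_self, zero_add, Nat.cast_one]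
    push_cast at this ⊢
    linear_combination this
  refine ⟨h, key h 1 _ hh h2i, key h⁻¹ (-1) (-((i + 1 : ℕ) : ZMod n)) (by rw [map_inv, hh, DihedralGroup.inv_r]) ?_⟩
  rw [show -((i + 1 : ℕ) : ZMod n) * (-1 + -1) = ((i + 1 : ℕ) : ZMod n) * (1 + 1) by ring, h2i]

theorem two_sq : ∀ z : Multiplicative (ZMod 2) × Multiplicative (ZMod 2), z ^ 2 = 1 := by decide

/-- The case of a 2-core of order two. -/
theorem klein {Γ : Type u} [Group Γ] [Finite Γ] (n : ℕ) (hn : 2 ≤ n) (hodd : Odd n)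
    (e : Γ ⧸ Cfsg.pCore 2 Γ ≃* DihedralGroup n) (P' : Subgroup Γ) (hP4 : Nat.card P' = 4) (hPe : ∀ a ∈ P', a * a = 1)
    (hQ2 : Nat.card (Cfsg.pCore 2 Γ) = 2) (hΓ : Nat.card Γ = n * Nat.card P') :
    Nonempty (Γ ⧸ Cfsg.oddCore Γ ≃* Multiplicative (ZMod 2) × Multiplicative (ZMod 2)) := by
  haveI : Fact (Nat.Prime 2) := ⟨Nat.prime_two⟩
  haveI : NeZero n := ⟨by omega⟩
  haveI hQn : (Cfsg.pCore 2 Γ).Normal := Grp.pCore_isNormal
  haveI hCn : (Cfsg.oddCore Γ).Normal := Grp.pPrimeCore_isNormal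
  set Q := Cfsg.pCore 2 Γ with hQ
  set π : Γ →* DihedralGroup n := e.toMonoidHom.comp (QuotientGroup.mk' Q) with hπ
  have hπs : Function.Surjective π := e.surjective.comp (QuotientGroup.mk'_surjective Q)
  have hπk : ∀ x : Γ, π x = 1 ↔ x ∈ Q := fun x => by
    show e (QuotientGroup.mk' Q x) = 1 ↔ _
    rw [map_eq_one_iff e e.injective, QuotientGroup.mk'_apply, QuotientGroup.eq_one_iff]
  have hQc : ∀ q ∈ Q, ∀ x : Γ, Commute x q := by
    intro q hq x
    by_cases hq1 : q = 1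
    · rw [hq1]; exact Commute.one_right x
    refine mul_inv_eq_iff_eq_mul.1 ?_
    haveI := Fintype.ofFinite Q
    have h2 := hQ2
    rw [Nat.card_eq_fintype_card] at h2
    by_contra hne
    have hm : x * q * x⁻¹ ∈ Q := hQn.conj_mem q hq x
    have hx1 : x * q * x⁻¹ ≠ 1 := fun h => hq1 (by rwa [mul_inv_eq_one, mul_eq_left] at h)
    classical
    have h3 : ({(1 : Q), ⟨q, hq⟩, ⟨_, hm⟩} : Finset Q).card ≤ 2 := (Finset.card_le_univ _).trans_eq h2
    rw [Finset.card_insert_of_notMem (by simp [Subtype.ext_iff, Ne.symm hq1, Ne.symm hx1]),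
      Finset.card_insert_of_notMem (by simp [Subtype.ext_iff, Ne.symm hne]), Finset.card_singleton] at h3
    omega
  have hQe : ∀ q ∈ Q, q ^ 2 = 1 := fun q hq => by
    have h := pow_card_eq_one' (x := (⟨q, hq⟩ : Q))
    rw [hQ2] at h
    exact congrArg Subtype.val h
  obtain ⟨ρ, hρodd, hρπ⟩ : ∃ ρ : Γ, Odd (orderOf ρ) ∧ orderOf (π ρ) = n ∧ ∀ z ∈ zpowers (DihedralGroup.r (1 : ZMod n)), z ∈ zpowers (π ρ) := by
    obtain ⟨ρ₀, hρ₀⟩ := hπs (DihedralGroup.r 1)
    set a := (orderOf ρ₀).factorization 2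
    have ho : orderOf (π (ρ₀ ^ 2 ^ a)) = n := by
      rw [map_pow, hρ₀, orderOf_pow' _ (pow_ne_zero _ two_ne_zero), DihedralGroup.orderOf_r_one,
        Nat.Coprime.gcd_eq_one ((Nat.coprime_two_right.2 hodd).pow_right a), Nat.div_one]
    refine ⟨ρ₀ ^ 2 ^ a, ?_, ho, fun z hz => ?_⟩
    · rw [orderOf_pow' _ (pow_ne_zero _ two_ne_zero), Nat.gcd_eq_right (Nat.ordProj_dvd _ _), ← Nat.not_even_iff_odd,
        even_iff_two_dvd]
      exact Nat.not_dvd_ordCompl Nat.prime_two (orderOf_pos ρ₀).ne'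
    · have heq : zpowers (π (ρ₀ ^ 2 ^ a)) = zpowers (DihedralGroup.r (1 : ZMod n)) := by
        refine Subgroup.eq_of_le_of_card_ge (zpowers_le.2 ?_) ?_
        · rw [map_pow, hρ₀]; exact pow_mem (mem_zpowers _) _
        · rw [Nat.card_zpowers, Nat.card_zpowers, ho, DihedralGroup.orderOf_r_one]
      rw [heq]; exact hz
  obtain ⟨hρn, hρr⟩ := hρπ
  set O := zpowers ρ with hO
  have hOn : O.Normal := by
    refine ⟨fun z hz x => ?_⟩
    obtain ⟨k, rfl⟩ := hz
    show x * ρ ^ k * x⁻¹ ∈ O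
    rw [← conj_zpow]
    refine O.zpow_mem ?_ k
    set u := x * ρ * x⁻¹ with hu
    have hur : π u ∈ zpowers (π ρ) := by
      refine hρr _ ?_
      rw [hu, map_mul, map_mul, map_inv]
      have hrot : ∀ a b : DihedralGroup n, b ∈ zpowers (DihedralGroup.r (1 : ZMod n)) → a * b * a⁻¹ ∈ zpowers (DihedralGroup.r (1 : ZMod n)) := by
        intro a b hb
        obtain ⟨j, rfl⟩ := hb
        show a * DihedralGroup.r 1 ^ j * a⁻¹ ∈ _
        rw [← conj_zpow]
        refine Subgroup.zpow_mem _ ?_ j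
        cases a with
        | r c => exact ⟨1, by show DihedralGroup.r (1 : ZMod n) ^ (1 : ℤ) = _; rw [zpow_one, DihedralGroup.inv_r, DihedralGroup.r_mul_r, DihedralGroup.r_mul_r]; congr 1; ring⟩
        | sr c => exact ⟨-1, by show DihedralGroup.r (1 : ZMod n) ^ (-1 : ℤ) = _; rw [zpow_neg, zpow_one, DihedralGroup.inv_r, DihedralGroup.inv_sr, DihedralGroup.sr_mul_r, DihedralGroup.sr_mul_sr]; congr 1; ring⟩
      refine hrot _ _ ?_
      cases hc : π ρ with
      | r c => exact ⟨(c.val : ℤ), show DihedralGroup.r (1 : ZMod n) ^ (c.val : ℤ) = _ by rw [zpow_natCast, DihedralGroup.r_one_pow, ZMod.natCast_zmod_val]⟩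
      | sr c => exfalso; rw [hc, DihedralGroup.orderOf_sr] at hρn; obtain ⟨i, hi⟩ := hodd; omega
    obtain ⟨j, hj⟩ := hur
    have hq : (ρ ^ j)⁻¹ * u ∈ Q := (hπk _).1 (by rw [map_mul, map_inv, map_zpow, ← hj, inv_mul_cancel])
    have hsq : u ^ 2 ∈ O := by
      rw [show u = ρ ^ j * ((ρ ^ j)⁻¹ * u) by group, (hQc _ hq (ρ ^ j)).mul_pow, hQe _ hq, mul_one]
      exact O.pow_mem (zpow_mem_zpowers ρ j) 2
    obtain ⟨m, hm⟩ := exists_pow_eq_self_of_coprime (x := u) (n := 2) (Nat.coprime_two_left.2 (by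
      rw [hu, show x * ρ * x⁻¹ = MulAut.conj x ρ from rfl, MulEquiv.orderOf_eq]; exact hρodd))
    rw [← hm]; exact O.pow_mem hsq m
  have hle : O ≤ Cfsg.oddCore Γ := Grp.le_pPrimeCore hOn (by rw [hO, Nat.card_zpowers]; exact Nat.coprime_two_right.2 hρodd)
  have hcard : Nat.card (Cfsg.oddCore Γ) = n := by
    refine le_antisymm (Nat.le_of_dvd (by omega) ?_) ((Nat.le_of_dvd (orderOf_pos ρ) (hρn ▸ orderOf_map_dvd π ρ)).trans ?_)
    · have h1 := Subgroup.card_subgroup_dvd_card (Cfsg.oddCore Γ)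
      rw [hΓ, hP4] at h1
      exact (Nat.Coprime.pow_right 2 (Grp.pPrimeCore_coprime (p := 2) (G := Γ))).dvd_of_dvd_mul_right h1
    · rw [← Nat.card_zpowers]; exact Nat.le_of_dvd Nat.card_pos (card_dvd_of_le hle)
  have hX4 : Nat.card (Γ ⧸ Cfsg.oddCore Γ) = 4 := by
    have h1 := (Cfsg.oddCore Γ).card_mul_index
    rw [Subgroup.index_eq_card, hcard, hΓ, hP4] at h1
    exact Nat.eq_of_mul_eq_mul_left (by omega) h1
  set f := (QuotientGroup.mk' (Cfsg.oddCore Γ)).comp P'.subtype with hf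
  have hfinj : Function.Injective f := by
    refine (MonoidHom.ker_eq_bot_iff f).1 (eq_bot_iff.2 fun x hx => ?_)
    rw [MonoidHom.mem_ker, hf, MonoidHom.comp_apply, QuotientGroup.mk'_apply, QuotientGroup.eq_one_iff] at hx
    rw [mem_bot]
    refine Subtype.ext ?_
    by_contra hne
    have h4 := Subgroup.orderOf_dvd_natCard _ hx
    rw [Subgroup.coe_subtype, orderOf_eq_prime (show (x : Γ) ^ 2 = 1 by rw [pow_two]; exact hPe x x.2) hne] at h4
    exact (Nat.prime_two.coprime_iff_not_dvd.1 (Grp.pPrimeCore_coprime (p := 2) (G := Γ)).symm) h4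
  let eX : P' ≃* (Γ ⧸ Cfsg.oddCore Γ) :=
    MulEquiv.ofBijective f ((Nat.bijective_iff_injective_and_card f).2 ⟨hfinj, by rw [hP4, hX4]⟩)
  haveI : IsKleinFour P' := ⟨hP4, by
    haveI : Nontrivial P' := Finite.one_lt_card_iff_nontrivial.1 (by omega)
    exact Monoid.exponent_eq_prime_iff Nat.prime_two |>.2 fun x hx => orderOf_eq_prime (Subtype.ext (by simpa [pow_two] using hPe x x.2)) hx⟩
  haveI : IsKleinFour (Multiplicative (ZMod 2) × Multiplicative (ZMod 2)) := ⟨by simp, by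
    exact Monoid.exponent_eq_prime_iff Nat.prime_two |>.2 fun x hx =>
      orderOf_eq_prime (two_sq x) hx⟩
  obtain ⟨k⟩ := IsKleinFour.nonempty_mulEquiv (G₁ := P') (G₂ := Multiplicative (ZMod 2) × Multiplicative (ZMod 2))
  exact ⟨eX.symm.trans k⟩

theorem main (H : Subgroup G) (hO : Cfsg.pCore 2 ↥H ≠ ⊥) (n : ℕ) (hn : 2 ≤ n) (hdih : Nonempty (↥H ⧸ Cfsg.pCore 2 ↥H ≃* DihedralGroup n))
    (P : Subgroup G) (hPH : P ≤ H) (hP : IsPGroup 2 P) (hPsyl : ¬ 2 ∣ P.relIndex H)
    (y : G) (hy2 : y ^ 2 ∈ P ⊔ Subgroup.centralizer (P : Set G)) (hyN : MulAut.conj y • P = P)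
    (hyQ : ∀ Q : Subgroup G, Q ≤ P → (Q.subgroupOf H).Normal → MulAut.conj y • Q = Q → Q = ⊥) :
    (Nat.card P = 4 ∨ Nat.card P = 8 ∨ Nat.card P = 16) ∧
    (Nonempty (↥H ⧸ Cfsg.oddCore ↥H ≃* Multiplicative (ZMod 2) × Multiplicative (ZMod 2)) ∨
     Nonempty (↥H ⧸ Cfsg.oddCore ↥H ≃* Equiv.Perm (Fin 4)) ∨
     Nonempty (↥H ⧸ Cfsg.oddCore ↥H ≃* Equiv.Perm (Fin 4) × Multiplicative (ZMod 2))) := by
  haveI : Fact (Nat.Prime 2) := ⟨Nat.prime_two⟩
  haveI hQ₀n : (Cfsg.pCore 2 ↥H).Normal := Grp.pCore_isNormal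
  obtain ⟨e⟩ := hdih
  have cmem : ∀ (a : G) (K : Subgroup G) (x : G), x ∈ MulAut.conj a • K ↔ a⁻¹ * x * a ∈ K := fun a K x => by
    rw [Subgroup.mem_pointwise_smul_iff_inv_smul_mem, ← map_inv, MulAut.smul_def, MulAut.conj_apply, inv_inv]
  set P' := P.subgroupOf H with hP'
  have hP'p : IsPGroup 2 P' := hP.comap_subtype
  obtain ⟨hodd, hQP', hP2', hΓ, h₀, hgen₁, hgen₂⟩ := dih n hn e P' hP'p hPsyl
  set Q := (Cfsg.pCore 2 ↥H).map H.subtype with hQdef
  set h : G := (h₀ : G) with hhdef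
  have hPmap : P'.map H.subtype = P := by rw [hP', Subgroup.subgroupOf_map_subtype, inf_eq_left.2 hPH]
  have hQP : Q ≤ P := hPmap ▸ map_mono hQP'
  have hQH : Q ≤ H := map_subtype_le _
  have hPQ : Nat.card P = 2 * Nat.card Q := by
    rw [← hPmap, Subgroup.card_map_of_injective H.subtype_injective, hQdef, Subgroup.card_map_of_injective H.subtype_injective, hP2']
  have hQnH : ∀ x ∈ H, ∀ q ∈ Q, x * q * x⁻¹ ∈ Q := by
    rintro x hx _ ⟨q, hq, rfl⟩
    exact ⟨⟨x, hx⟩ * q * ⟨x, hx⟩⁻¹, hQ₀n.conj_mem q hq _, rfl⟩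
  have hgen : ∀ a : ↥H, P' ⊔ MulAut.conj a • P' = ⊤ → H ≤ P ⊔ MulAut.conj (a : G) • P := by
    intro a ha
    calc H = (⊤ : Subgroup ↥H).map H.subtype := by rw [← MonoidHom.range_eq_map, Subgroup.range_subtype]
      _ ≤ _ := by
        rw [← ha, Subgroup.map_sup, hPmap]
        refine sup_le le_sup_left (le_trans ?_ le_sup_right)
        rintro _ ⟨_, ⟨z, hz, rfl⟩, rfl⟩
        exact ⟨z, hz, rfl⟩
  set g := y * h with hg
  set P₁ := MulAut.conj g⁻¹ • P with hP₁
  have hP₁' : P₁ = MulAut.conj h⁻¹ • P := by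
    rw [hP₁, hg, mul_inv_rev, map_mul, ← smul_smul]
    congr 1
    conv_lhs => rw [← hyN, smul_smul, ← map_mul, inv_mul_cancel, map_one, one_smul]
  have hH₁ : H ≤ P ⊔ P₁ := hP₁'.symm ▸ hgen h₀⁻¹ hgen₂
  have hH₂ : H ≤ P ⊔ MulAut.conj h • P := hgen h₀ hgen₁
  have hQP₁ : Q ≤ P₁ := fun q hq => by
    rw [hP₁', cmem, inv_inv]
    exact hQP (hQnH h h₀.2 q hq)
  have hP₁ne : ¬ P ≤ P₁ := fun hle => by
    have he : P = P₁ := Subgroup.eq_of_le_of_card_ge hle (by rw [hP₁, Grp.card_conj_smul])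
    rw [← he, sup_idem] at hH₁
    have h1 := Nat.le_of_dvd Nat.card_pos (card_dvd_of_le hH₁)
    rw [hΓ, ← Subgroup.card_map_of_injective H.subtype_injective, hPmap] at h1
    have : 0 < Nat.card P := Nat.card_pos
    nlinarith
  have hPP₁ : P ⊓ P₁ = Q := by
    refine (Subgroup.eq_of_le_of_card_ge (le_inf hQP hQP₁) ?_).symm
    obtain ⟨a, ha⟩ := IsPGroup.iff_card.1 (hP.to_le (inf_le_left : P ⊓ P₁ ≤ P))
    obtain ⟨b, hb⟩ := IsPGroup.iff_card.1 (hP.to_le hQP)
    have hlt : Nat.card ↥(P ⊓ P₁) < Nat.card P := lt_of_le_of_ne (Nat.le_of_dvd Nat.card_pos (card_dvd_of_le inf_le_left)) fun e =>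
      hP₁ne ((Subgroup.eq_of_le_of_card_ge inf_le_left e.ge).ge.trans inf_le_right)
    rw [ha, hPQ, hb, ← pow_succ'] at hlt
    rw [ha, hb]
    exact Nat.pow_le_pow_right two_pos (Nat.lt_succ_iff.1 ((Nat.pow_lt_pow_iff_right (a := 2) (by omega)).1 hlt))
  have hP₁H : P₁ ≤ H := fun x hx => by
    rw [hP₁', cmem, inv_inv] at hx
    have := H.mul_mem (H.mul_mem (H.inv_mem h₀.2) (hPH hx)) h₀.2
    rwa [show (h₀ : G)⁻¹ * (h * x * h⁻¹) * (h₀ : G) = x by rw [hhdef]; group] at this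
  have hN : ((P ⊓ P₁).subgroupOf P₁).Normal := by
    rw [hPP₁]
    exact ⟨fun q hq z => mem_subgroupOf.2 (hQnH z (hP₁H z.2) q (mem_subgroupOf.1 hq))⟩
  have hidx : (P ⊓ P₁).relIndex P₁ = 2 := by
    rw [hPP₁]
    have h1 := Grp.card_mul_relIndex hQP₁
    rw [hP₁, Grp.card_conj_smul, hPQ, mul_comm 2] at h1
    exact Nat.eq_of_mul_eq_mul_left Nat.card_pos h1
  have hy2' : ∀ z : G, P ≤ centralizer ({z} : Set G) → centralizer (P : Set G) ≤ centralizer ({z} : Set G) →
      y * y * z * (y * y)⁻¹ = z := fun z h1 h2 => by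
    have h3 := mem_centralizer_singleton_iff.1 ((sup_le h1 h2) hy2)
    rw [pow_two] at h3
    rw [h3, mul_inv_cancel_right]
  have hyP' : ∀ z ∈ P, y * z * y⁻¹ ∈ P := fun z hz => by
    rw [← hyN]; exact ⟨z, hz, rfl⟩
  set N := P ⊓ centralizer (H : Set G) ⊓ (centralizer (H : Set G)).comap (MulAut.conj y).toMonoidHom with hNdef
  have hNbot : N = ⊥ := by
    refine hyQ N (inf_le_left.trans inf_le_left) ⟨fun z hz x => ?_⟩ ?_
    · rw [mem_subgroupOf] at hz ⊢
      simp only [Subgroup.coe_mul, Subgroup.coe_inv]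
      rw [(mem_centralizer_iff.1 hz.1.2 x x.2), mul_inv_cancel_right]
      exact hz
    · refine Subgroup.eq_of_le_of_card_ge ?_ (Grp.card_conj_smul _ _).ge
      rintro _ ⟨z, hz, rfl⟩
      show y * z * y⁻¹ ∈ N
      refine ⟨⟨hyP' z hz.1.1, hz.2⟩, ?_⟩
      show y * (y * z * y⁻¹) * y⁻¹ ∈ centralizer (H : Set G)
      rw [show y * (y * z * y⁻¹) * y⁻¹ = y * y * z * (y * y)⁻¹ by group,
        hy2' z (fun p hp => mem_centralizer_singleton_iff.2 (mem_centralizer_iff.1 hz.1.2 p (hPH hp)))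
          (fun c hc => mem_centralizer_singleton_iff.2 (mem_centralizer_iff.1 hc z hz.1.1).symm)]
      exact hz.1.2
  have h1 : ∀ R : Subgroup G, R ≤ P → (R.subgroupOf P).Normal → MulAut.conj g • R = R → R = ⊥ := by
    intro R hR hRn hgR
    have hPn : ∀ p ∈ P, ∀ z ∈ R, p * z * p⁻¹ ∈ R := fun p hp z hz =>
      mem_subgroupOf.1 (hRn.conj_mem ⟨z, hR hz⟩ (mem_subgroupOf.2 hz) ⟨p, hp⟩)
    have hN1 : P ≤ normalizer (R : Set G) := fun p hp => Subgroup.mem_normalizer_fintype (hPn p hp)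
    have hhR : ∀ z, z ∈ MulAut.conj h • R ↔ y * z * y⁻¹ ∈ R := fun z => by
      rw [cmem]
      conv_rhs => rw [← hgR, cmem]
      rw [hg, show (y * h)⁻¹ * (y * z * y⁻¹) * (y * h) = h⁻¹ * z * h by group]
    have hN2 : P ⊔ MulAut.conj h • P ≤ normalizer ((MulAut.conj h • R : Subgroup G) : Set G) := by
      refine sup_le (fun p hp => Subgroup.mem_normalizer_fintype fun z hz => ?_) fun p hp => Subgroup.mem_normalizer_fintype fun z hz => ?_
      · rw [SetLike.mem_coe, hhR] at hz ⊢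
        rw [show y * (p * z * p⁻¹) * y⁻¹ = (y * p * y⁻¹) * (y * z * y⁻¹) * (y * p * y⁻¹)⁻¹ by group]
        exact hPn _ (hyP' p hp) _ hz
      · rw [SetLike.mem_coe, cmem] at hz ⊢
        rw [cmem] at hp
        rw [show h⁻¹ * (p * z * p⁻¹) * h = (h⁻¹ * p * h) * (h⁻¹ * z * h) * (h⁻¹ * p * h)⁻¹ by group]
        exact hPn _ hp _ hz
    set R' := MulAut.conj h • R with hR'
    have hnorm : ∀ x ∈ H, ∀ z ∈ R', x * z * x⁻¹ ∈ R' := fun x hx z hz => (mem_normalizer_iff.1 (hN2 (hH₂ hx)) z).1 hz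
    have hRR : R' = R := by
      refine (Subgroup.eq_of_le_of_card_ge ?_ (Grp.card_conj_smul _ _).le).symm
      intro z hz
      have h5 : h * z * h⁻¹ ∈ R' := ⟨z, hz, rfl⟩
      have h6 := hnorm h⁻¹ (H.inv_mem h₀.2) _ h5
      rwa [show h⁻¹ * (h * z * h⁻¹) * h⁻¹⁻¹ = z by group] at h6
    rw [hRR] at hnorm
    refine hyQ R hR ⟨fun z hz x => mem_subgroupOf.2 (hnorm x x.2 z (mem_subgroupOf.1 hz))⟩ ?_
    conv_rhs => rw [← hgR, hg, map_mul, ← smul_smul]
    rw [show MulAut.conj h • R = R from hRR]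
  set K := ⨆ i ∈ Finset.range 3, MulAut.conj (g ^ i)⁻¹ • P with hK
  have h2 : P ⊓ (Subgroup.center K).map K.subtype = ⊥ := by
    rw [eq_bot_iff]
    rintro z ⟨hzP, w, hwc, rfl⟩
    have hKc : ∀ i < 3, MulAut.conj (g ^ i)⁻¹ • P ≤ centralizer ({(w : G)} : Set G) := fun i hi x hx => by
      have hxK : x ∈ K := Subgroup.mem_iSup_of_mem i (Subgroup.mem_iSup_of_mem (Finset.mem_range.2 hi) hx)
      exact mem_centralizer_singleton_iff.2 (congrArg Subtype.val (mem_center_iff.1 hwc ⟨x, hxK⟩))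
    have h0 := hKc 0 (by norm_num)
    have h01 := hKc 1 (by norm_num)
    have h02 := hKc 2 (by norm_num)
    rw [pow_zero, inv_one, map_one, one_smul] at h0
    rw [pow_one] at h01
    have hwH : ∀ x ∈ H, x * (w : G) = w * x := fun x hx => mem_centralizer_singleton_iff.1 ((sup_le h0 h01) (hH₁ hx))
    have hgw : ∀ x ∈ H, x * (g * w * g⁻¹) = g * w * g⁻¹ * x := by
      intro x hx
      have hle : P ⊔ P₁ ≤ centralizer ({g * (w : G) * g⁻¹} : Set G) := by
        refine sup_le (fun p hp => mem_centralizer_singleton_iff.2 ?_) fun p hp => mem_centralizer_singleton_iff.2 ?_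
        · have h5 := mem_centralizer_singleton_iff.1 (h01 (show g⁻¹ * p * g ∈ MulAut.conj g⁻¹ • P by
            rw [cmem, inv_inv]; rwa [show g * (g⁻¹ * p * g) * g⁻¹ = p by group]))
          calc p * (g * w * g⁻¹) = g * (g⁻¹ * p * g * w) * g⁻¹ := by group
            _ = g * w * g⁻¹ * p := by rw [h5]; group
        · rw [hP₁, cmem, inv_inv] at hp
          have h5 := mem_centralizer_singleton_iff.1 (h02 (show g⁻¹ * p * g ∈ MulAut.conj (g ^ 2)⁻¹ • P by
            rw [cmem, inv_inv, pow_two]; rwa [show g * g * (g⁻¹ * p * g) * (g * g)⁻¹ = g * p * g⁻¹ by group]))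
          calc p * (g * w * g⁻¹) = g * (g⁻¹ * p * g * w) * g⁻¹ := by group
            _ = g * w * g⁻¹ * p := by rw [h5]; group
      exact mem_centralizer_singleton_iff.1 (hle (hH₁ hx))
    have hzN : (w : G) ∈ N := by
      refine ⟨⟨hzP, mem_centralizer_iff.2 hwH⟩, ?_⟩
      show y * (w : G) * y⁻¹ ∈ centralizer (H : Set G)
      rw [show y * (w : G) * y⁻¹ = g * w * g⁻¹ by
        rw [hg]
        calc y * (w : G) * y⁻¹ = y * (w * h) * h⁻¹ * y⁻¹ := by group
          _ = y * h * w * (y * h)⁻¹ := by rw [← hwH h h₀.2]; group]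
      exact mem_centralizer_iff.2 hgw
    rw [hNbot] at hzN
    exact hzN
  obtain ⟨t, r, yy, hPt, -, -, hrt, hcrux, hfin, hpow, hcomm, hrel, hPW, hQW, hshift, hseq⟩ :=
    windows P g 2 Nat.prime_two hN hidx 2 (by norm_num) K rfl h1 h2
  rw [show MulAut.conj g⁻¹ • P = P₁ from rfl, hPP₁] at hQW
  have ht2 : 2 ≤ t := by
    by_contra hlt
    have h1' : Nat.card P ≤ 2 := by rw [hPt]; exact (Nat.pow_le_pow_right two_pos (by omega : t ≤ 1))
    have h2' : Nat.card Q ≠ 1 := by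
      rw [hQdef, Subgroup.card_map_of_injective H.subtype_injective]
      exact fun h => hO (Subgroup.card_eq_one.1 h)
    have : 0 < Nat.card Q := Nat.card_pos
    omega
  have hQt : Nat.card Q = 2 ^ (t - 1) := by
    have h5 : 2 * Nat.card Q = 2 * 2 ^ (t - 1) := by rw [← hPQ, hPt, ← pow_succ']; congr 1; omega
    omega
  set Q' := MulAut.conj y • Q with hQ'
  have hyP : ∀ i : ℤ, 0 ≤ i → i < t → yy i ∈ P := fun i hi hi' => hPW ▸ subset_closure ⟨i, ⟨hi, hi'⟩, rfl⟩
  have hyQ₀ : ∀ i : ℤ, 0 ≤ i → i < (t : ℤ) - 1 → yy i ∈ Q := fun i hi hi' => hQW ▸ subset_closure ⟨i, ⟨hi, hi'⟩, rfl⟩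
  have hyQ' : ∀ i : ℤ, 1 ≤ i → i < t → yy i ∈ Q' := fun i hi hi' => by
    have h5 := hshift 1 (i - 1)
    rw [zpow_one, show (1 : ℤ) + (i - 1) = i by ring] at h5
    rw [hQ', cmem, ← h5, hg, show y⁻¹ * (y * h * yy (i - 1) * (y * h)⁻¹) * y = h * yy (i - 1) * h⁻¹ by group]
    exact hQnH h h₀.2 _ (hyQ₀ _ (by omega) (by omega))
  have hPn : P ⊔ centralizer (P : Set G) ≤ normalizer (Q : Set G) := by
    refine sup_le (fun p hp => Subgroup.mem_normalizer_fintype fun q hq => hQnH p (hPH hp) q hq) fun c hc =>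
      Subgroup.mem_normalizer_fintype fun q hq => ?_
    have := mem_centralizer_iff.1 hc q (hQP hq)
    rw [SetLike.mem_coe, ← this, mul_inv_cancel_right]
    exact hq
  have hyyQ : MulAut.conj y • Q' = Q := by
    rw [hQ', smul_smul, ← map_mul, ← pow_two]
    exact Grp.mem_normalizer_iff_smul.1 (hPn hy2)
  set D := Q ⊓ Q' with hD
  have hyD : MulAut.conj y • D = D := by
    rw [hD, Subgroup.smul_inf, hyyQ, inf_comm]
  have hQ'P : Q' ≤ P := hyN ▸ Subgroup.pointwise_smul_le_pointwise_smul_iff.2 hQP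
  have hQ'card : Nat.card Q' = Nat.card Q := Grp.card_conj_smul _ _
  have hprin : (∀ x ∈ H, ∀ q ∈ Q, ⁅x, q⁆ ∈ D) → t ≤ 2 := by
    intro hcomm'
    have hDbot : D = ⊥ := by
      refine hyQ D (inf_le_left.trans hQP) ⟨fun z hz x => mem_subgroupOf.2 ?_⟩ hyD
      rw [mem_subgroupOf] at hz
      simp only [Subgroup.coe_mul, Subgroup.coe_inv]
      rw [show (x : G) * z * (x : G)⁻¹ = ⁅(x : G), (z : G)⁆ * z by rw [commutatorElement_def]; group]
      exact D.mul_mem (hcomm' x x.2 z hz.1) hz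
    have hn' : Q' ≤ normalizer (Q : Set G) := fun x hx => Subgroup.mem_normalizer_fintype fun q hq => hQnH x (hPH (hQ'P hx)) q hq
    have h5 := Grp.card_sup_mul_card_inf hn'
    rw [inf_comm Q' Q, ← hD, hDbot, Subgroup.card_bot, mul_one, hQ'card] at h5
    have h6 := Nat.le_of_dvd Nat.card_pos (card_dvd_of_le (sup_le hQ'P hQP))
    rw [h5, hPt, hQt, ← pow_add] at h6
    have := (Nat.pow_le_pow_iff_right (a := 2) (by omega)).1 h6
    omega
  have hP₁gen : P₁ ≤ closure (yy '' Set.Ico (-1) ((t : ℤ) - 1)) := by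
    intro x hx
    rw [hP₁, cmem, inv_inv, ← hPW] at hx
    have hle : closure (yy '' Set.Ico (0 : ℤ) t) ≤ (closure (yy '' Set.Ico (-1) ((t : ℤ) - 1))).comap (MulAut.conj g⁻¹).toMonoidHom := by
      rw [closure_le]
      rintro _ ⟨i, hi, rfl⟩
      show g⁻¹ * yy i * g⁻¹⁻¹ ∈ closure (yy '' Set.Ico (-1) ((t : ℤ) - 1))
      have h5 := hshift (-1) i
      rw [zpow_neg, zpow_one] at h5
      rw [h5]
      exact subset_closure ⟨_, ⟨by have := hi.1; omega, by have := hi.2; omega⟩, rfl⟩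
    have h6 := hle hx
    rw [mem_comap, MulEquiv.coe_toMonoidHom, MulAut.conj_apply, inv_inv,
      show g⁻¹ * (g * x * g⁻¹) * g = x by group] at h6
    exact h6
  have ht4 : t ≤ 4 := by
    by_contra hlt
    obtain rfl : t = 6 := by omega
    obtain rfl : r = 4 := by omega
    have hs := hseq (by norm_num)
    set U := closure (yy '' Set.Icc 1 3) with hU
    have hUD : U ≤ D := le_inf ((closure_le _).2 (by rintro _ ⟨i, hi, rfl⟩; exact hyQ₀ i (by have := hi.1; omega) (by have := hi.2; push_cast; omega)))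
      ((closure_le _).2 (by rintro _ ⟨i, hi, rfl⟩; exact hyQ' i hi.1 (by have := hi.2; push_cast; omega)))
    have hUn : ∀ i : ℤ, -1 ≤ i → i ≤ 5 → yy i ∈ normalizer (U : Set G) := fun i hi hi' => Subgroup.mem_normalizer_fintype fun u hu => by
      have hle : U ≤ U.comap (MulAut.conj (yy i)).toMonoidHom := by
        rw [hU, closure_le]
        rintro _ ⟨k, hk, rfl⟩
        show yy i * yy k * (yy i)⁻¹ ∈ U
        rw [show yy i * yy k * (yy i)⁻¹ = ⁅yy i, yy k⁆ * yy k by rw [commutatorElement_def]; group]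
        exact U.mul_mem (six hs i k hi hi' (by have := hk.1; omega) (by have := hk.2; omega)) (subset_closure ⟨k, hk, rfl⟩)
      exact hle hu
    have hHle : H ≤ closure (yy '' Set.Icc (-1) 5) := hH₁.trans (sup_le
      (hPW.ge.trans (Subgroup.closure_mono (Set.image_mono fun i hi => ⟨by have := hi.1; omega, by have := hi.2; push_cast at *; omega⟩)))
      (hP₁gen.trans (Subgroup.closure_mono (Set.image_mono fun i hi => ⟨hi.1, by have := hi.2; push_cast at *; omega⟩))))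
    have := hprin fun x hx q hq => hUD (by
      rw [← hQW] at hq
      refine commutator_closure_mem U ?_ ?_ ?_ x (hHle hx) q hq
      · rintro _ ⟨i, hi, rfl⟩; exact hUn i hi.1 hi.2
      · rintro _ ⟨i, hi, rfl⟩; exact hUn i (by have := hi.1; omega) (by have := hi.2; push_cast at *; omega)
      · rintro _ ⟨i, hi, rfl⟩ _ ⟨j, hj, rfl⟩
        exact six hs i j hi.1 hi.2 hj.1 (by have := hj.2; push_cast at *; omega))
    omega
  refine ⟨?_, ?_⟩
  · rw [hPt]
    interval_cases t <;> norm_num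
  -- `Q` is elementary abelian
  obtain ⟨hQc, hQe⟩ : (∀ a ∈ Q, ∀ b ∈ Q, a * b = b * a) ∧ ∀ a ∈ Q, a * a = 1 := by
    rw [← hQW]
    refine elem ?_ ?_
    · rintro _ ⟨i, hi, rfl⟩ _ ⟨j, hj, rfl⟩
      rcases le_total i j with hij | hij
      · exact hcomm i j hij (by have := hi.1; have := hj.2; omega)
      · exact (hcomm j i hij (by have := hj.1; have := hi.2; omega)).symm
    · rintro _ ⟨i, -, rfl⟩; rw [← pow_two]; exact hpow i
  rcases Nat.lt_or_ge t 3 with ht | ht
  · obtain rfl : t = 2 := by omega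
    refine Or.inl (klein n hn hodd e P' ?_ ?_ ?_ hΓ)
    · rw [← Subgroup.card_map_of_injective H.subtype_injective, hPmap, hPt]; rfl
    · obtain ⟨-, hPe⟩ := elem (A := yy '' Set.Ico (0 : ℤ) 2)
        (by
          rintro _ ⟨i, hi, rfl⟩ _ ⟨j, hj, rfl⟩
          rcases le_total i j with hij | hij
          · exact hcomm i j hij (by have := hi.1; have := hj.2; omega)
          · exact (hcomm j i hij (by have := hj.1; have := hi.2; omega)).symm)
        (by rintro _ ⟨i, -, rfl⟩; rw [← pow_two]; exact hpow i)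
      intro a ha
      refine Subtype.ext (hPe _ ?_)
      have : (a : G) ∈ P := mem_subgroupOf.1 ha
      rw [← hPW] at this
      exact_mod_cast this
    · rw [← Subgroup.card_map_of_injective H.subtype_injective]
      exact hQt
  right
  set τ := yy ((t : ℤ) - 1) with hτdef
  have hτP : τ ∈ P := hyP _ (by omega) (by omega)
  have hτQ' : τ ∈ Q' := hyQ' _ (by omega) (by omega)
  have hgenP : P ≤ Q ⊔ zpowers τ := by
    rw [← hPW, closure_le]
    rintro _ ⟨i, hi, rfl⟩
    by_cases h5 : i < (t : ℤ) - 1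
    · exact Subgroup.mem_sup_left (hyQ₀ i hi.1 h5)
    · exact Subgroup.mem_sup_right (show yy i ∈ zpowers τ by rw [show i = (t : ℤ) - 1 by have := hi.2; omega]; exact mem_zpowers _)
  have hτQ : τ ∉ Q := fun h5 => by
    have := Nat.le_of_dvd Nat.card_pos (card_dvd_of_le (hgenP.trans (sup_le le_rfl (zpowers_le.2 h5))))
    have : 0 < Nat.card Q := Nat.card_pos
    omega
  have hQτ : ¬ ∀ q ∈ Q, τ * q = q * τ := fun hall => by
    have hPC : P ≤ centralizer (Q : Set G) := hgenP.trans (sup_le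
      (fun q hq => mem_centralizer_iff.2 fun z hz => hQc z hz q hq)
      (zpowers_le.2 (mem_centralizer_iff.2 fun z hz => (hall z hz).symm)))
    have hHC : H ≤ centralizer (Q : Set G) := hH₁.trans (sup_le hPC fun x hx => by
      rw [hP₁', cmem, inv_inv] at hx
      refine mem_centralizer_iff.2 fun q hq => ?_
      have h5 := mem_centralizer_iff.1 (hPC hx) _ (hQnH h h₀.2 q hq)
      calc q * x = h⁻¹ * ((h * q * h⁻¹) * (h * x * h⁻¹)) * h := by group
        _ = x * q := by rw [h5]; group)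
    have := hprin fun x hx q hq => by
      rw [commutatorElement_eq_one_iff_mul_comm.2 (mem_centralizer_iff.1 (hHC hx) q hq).symm]
      exact one_mem _
    omega
  have hQ'c : ∀ a ∈ Q', ∀ b ∈ Q', a * b = b * a := by
    rintro _ ⟨a, ha, rfl⟩ _ ⟨b, hb, rfl⟩
    show MulAut.conj y a * MulAut.conj y b = MulAut.conj y b * MulAut.conj y a
    rw [← map_mul, ← map_mul, hQc a ha b hb]
  have hDτ : ∀ d ∈ D, τ * d = d * τ := fun d hd => hQ'c τ hτQ' d hd.2
  have hn' : Q' ≤ normalizer (Q : Set G) := fun x hx => Subgroup.mem_normalizer_fintype fun q hq => hQnH x (hPH (hQ'P hx)) q hq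
  have hDcard : Nat.card Q = 2 * Nat.card D := by
    have h5 := Grp.card_sup_mul_card_inf hn'
    have hsup : Q' ⊔ Q = P := le_antisymm (sup_le hQ'P hQP) (hgenP.trans (sup_le le_sup_right ((zpowers_le.2 hτQ').trans le_sup_left)))
    rw [inf_comm Q' Q, ← hD, hsup, hQ'card, hPQ] at h5
    have : 0 < Nat.card Q := Nat.card_pos
    nlinarith
  set Γc := Cfsg.pCore 2 ↥H ⊓ center ↥H with hΓc
  set F := Γc.map H.subtype with hF
  have hFD : F ≤ D := by
    rintro _ ⟨z, hz, rfl⟩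
    have hzQ : (z : G) ∈ Q := ⟨z, hz.1, rfl⟩
    by_contra hzD
    refine hQτ fun q hq => ?_
    have hDi : D.relIndex Q = 2 := by
      have h5 := Grp.card_mul_relIndex (inf_le_left : D ≤ Q)
      rw [hDcard, mul_comm 2] at h5
      exact Nat.eq_of_mul_eq_mul_left Nat.card_pos h5
    have hτz : τ * (z : G) = z * τ := congrArg Subtype.val (mem_center_iff.1 hz.2 ⟨τ, hPH hτP⟩)
    by_cases hqD : q ∈ D
    · exact hDτ q hqD
    · have h5 : (z : G)⁻¹ * q ∈ D := (mul_mem_iff_of_index_two (H := D.subgroupOf Q) hDi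
        (a := ⟨(z : G)⁻¹, inv_mem hzQ⟩) (b := ⟨q, hq⟩)).2 (iff_of_false (fun h => hzD (inv_mem_iff.1 h)) hqD)
      have h6 := (show Commute τ (z : G) from hτz).mul_right (show Commute τ ((z : G)⁻¹ * q) from hDτ _ h5)
      rwa [mul_inv_cancel_left] at h6
  have hFbound : Nat.card F ^ 2 ≤ Nat.card D := by
    have hyF : MulAut.conj y • F ≤ D := le_of_le_of_eq (Subgroup.pointwise_smul_le_pointwise_smul_iff.2 hFD) hyD
    have hcen : ∀ z ∈ F, z ∈ centralizer (H : Set G) := by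
      rintro _ ⟨z, hz, rfl⟩
      exact mem_centralizer_iff.2 fun x hx => congrArg Subtype.val (mem_center_iff.1 hz.2 ⟨x, hx⟩)
    have hinf : F ⊓ MulAut.conj y • F = ⊥ := by
      rw [eq_bot_iff]
      rintro _ ⟨hz1, w, hw, rfl⟩
      have hwN : w ∈ N := ⟨⟨hQP (hFD hw).1, hcen w hw⟩, hcen _ hz1⟩
      rw [hNbot, mem_bot] at hwN
      subst hwN
      show (MulAut.conj y) 1 ∈ (⊥ : Subgroup G)
      rw [map_one]
      exact one_mem _
    have hn'' : F ≤ normalizer ((MulAut.conj y • F : Subgroup G) : Set G) := fun z hz => Subgroup.mem_normalizer_fintype fun w hw => by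
      rw [hQc z (hFD hz).1 w (hyF hw).1, mul_inv_cancel_right]; exact hw
    have h5 := Grp.card_sup_mul_card_inf hn''
    rw [hinf, Subgroup.card_bot, mul_one, Grp.card_conj_smul] at h5
    rw [pow_two, ← h5]
    exact Nat.le_of_dvd Nat.card_pos (card_dvd_of_le (sup_le hFD hyF))
  set D₀ := D.subgroupOf H with hD₀
  have hD₀card : Nat.card D₀ = Nat.card D := Nat.card_congr (subgroupOfEquivOfLe (inf_le_left.trans hQH)).toEquiv
  have hQ₀card : Nat.card (Cfsg.pCore 2 ↥H) = Nat.card Q := (Subgroup.card_map_of_injective H.subtype_injective).symm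
  have hmemQ : ∀ x : ↥H, x ∈ Cfsg.pCore 2 ↥H → (x : G) ∈ Q := fun x hx => ⟨x, hx, rfl⟩
  obtain ⟨s4, s8⟩ := shape (Cfsg.pCore 2 ↥H) n hn hodd e ⟨τ, hPH hτP⟩ (Subtype.ext (show τ * τ = 1 by rw [← pow_two]; exact hpow _))
    (fun h5 => hτQ (hmemQ _ h5)) (fun a ha b hb => Subtype.ext (hQc _ (hmemQ a ha) _ (hmemQ b hb)))
    (fun a ha => Subtype.ext (hQe _ (hmemQ a ha)))
    (by rw [hQ₀card, hQt]; interval_cases t <;> norm_num) D₀
    (fun x hx => by
      obtain ⟨z, hz, hzx⟩ := (mem_subgroupOf.1 hx).1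
      exact (Subtype.ext hzx : z = x) ▸ hz)
    (by rw [hQ₀card, hD₀card, hDcard]) (fun d hd => Subtype.ext (hDτ _ (mem_subgroupOf.1 hd)))
    (fun hall => hQτ fun q hq => by
      obtain ⟨z, hz, rfl⟩ := hq
      exact congrArg Subtype.val (hall z hz))
    (by
      rw [hD₀card]
      refine le_of_eq_of_le ?_ hFbound
      rw [hF, Subgroup.card_map_of_injective H.subtype_injective])
  interval_cases t
  · exact Or.inl (s4 (by rw [hQ₀card, hQt]; rfl))
  · exact Or.inr (s8 (by rw [hQ₀card, hQt]; rfl))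

end


/-- Let H be a subgroup of a finite group G whose largest normal 2-subgroup O_2(H) is nontrivial and such that H/O_2(H) is a dihedral group of order at least 4. Let P be a Sylow 2-subgroup of H and S a Sylow 2-subgroup of G containing P. Suppose y ∈ S lies outside P, normalizes P, has y² in the product of P with the centralizer of P in G, and normalizes no non-identity normal subgroup of H contained in P. Then P has order 4, 8 or 16, and H modulo its largest normal subgroup of odd order is isomorphic to the four-group, to the symmetric group of degree 4, or to the direct product of the symmetric group of degree 4 with a group of order 2. -/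
theorem result {G : Type*} [Group G] [Finite G]
    (H : Subgroup G) (hO : Cfsg.pCore 2 ↥H ≠ ⊥) (n : ℕ) (hn : 2 ≤ n) (hdih : Nonempty (↥H ⧸ Cfsg.pCore 2 ↥H ≃* DihedralGroup n))
    (P : Subgroup G) (hPH : P ≤ H) (hP : IsPGroup 2 P) (hPsyl : ¬ 2 ∣ P.relIndex H)
    (S : Sylow 2 G) (hPS : P ≤ (S : Subgroup G)) (y : G) (hyS : y ∈ (S : Subgroup G)) (hyP : y ∉ P)
    (hy2 : y ^ 2 ∈ P ⊔ Subgroup.centralizer (P : Set G)) (hyN : MulAut.conj y • P = P)
    (hyQ : ∀ Q : Subgroup G, Q ≤ P → (Q.subgroupOf H).Normal → MulAut.conj y • Q = Q → Q = ⊥) :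
    (Nat.card P = 4 ∨ Nat.card P = 8 ∨ Nat.card P = 16) ∧
    (Nonempty (↥H ⧸ Cfsg.oddCore ↥H ≃* Multiplicative (ZMod 2) × Multiplicative (ZMod 2)) ∨
     Nonempty (↥H ⧸ Cfsg.oddCore ↥H ≃* Equiv.Perm (Fin 4)) ∨
     Nonempty (↥H ⧸ Cfsg.oddCore ↥H ≃* Equiv.Perm (Fin 4) × Multiplicative (ZMod 2))) := by

  exact main H hO n hn hdih P hPH hP hPsyl y hy2 hyN hyQ

end Cfsg.Agent.S4385
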