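import Cfsg.Statements.S4387
import Cfsg.Agent.Lib.Grp.Basic

set_option maxHeartbeats 1000000
set_option maxRecDepth 8000

set_option autoImplicit false
open Pointwise
open Cfsg
open scoped Pointwise

namespace Cfsg.Agent.S4387

/-- Let G be a non-trivial finite group in which any two maximal subgroups are conjugate. Then G is cyclic of prime-power order. -/
theorem result {G : Type*} [Group G] [Finite G] [Nontrivial G]
    (h : ∀ M N : Subgroup G, IsCoatom M → IsCoatom N → ∃ g : G, N = MulAut.conj g • M) :
    IsCyclic G ∧ IsPrimePow (Nat.card G) := by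
  obtain ⟨M, hM, -⟩ := (eq_top_or_exists_le_coatom (⊥ : Subgroup G)).resolve_left bot_ne_top
  obtain ⟨p, hp, hpd⟩ := Nat.exists_prime_and_dvd (ne_of_gt (Finite.one_lt_card (α := G)))
  haveI := Fact.mk hp
  obtain ⟨P⟩ : Nonempty (Sylow p G) := inferInstance
  have hPtop : (P : Subgroup G) = ⊤ := by
    by_contra hne
    have hall : ∀ q, q.Prime → ¬ q ∣ M.index := by
      intro q hq hd
      haveI := Fact.mk hq
      obtain ⟨Q⟩ : Nonempty (Sylow q G) := inferInstance
      have hQ : (Q : Subgroup G) ≠ ⊤ := by
        intro e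
        apply hne
        rcases eq_or_ne q p with rfl | hqp
        · haveI : Subsingleton (Sylow q G) := by
            haveI : (Q : Subgroup G).Normal := e ▸ inferInstance
            haveI := Sylow.unique_of_normal Q inferInstance
            infer_instance
          rw [Subsingleton.elim P Q]; exact e
        · exfalso
          have hc : Nat.card G = Nat.card (Q : Subgroup G) := by rw [e, Subgroup.card_top]
          obtain ⟨k, hk⟩ := IsPGroup.iff_card.mp Q.isPGroup'
          rw [hc, hk] at hpd
          exact hqp ((Nat.prime_dvd_prime_iff_eq hp hq).mp (hp.dvd_of_dvd_pow hpd)).symm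
      obtain ⟨N, hN, hQN⟩ := (eq_top_or_exists_le_coatom (Q : Subgroup G)).resolve_left hQ
      obtain ⟨g, rfl⟩ := h M N hM hN
      apply Q.not_dvd_index
      have h1 := Subgroup.index_dvd_of_le hQN
      rw [← Agent.Grp.map_conj_eq_smul, Subgroup.index_map_of_bijective (MulAut.conj g).bijective M] at h1
      exact hd.trans h1
    exact hM.1 (Subgroup.index_eq_one.mp (Nat.eq_one_iff_not_exists_prime_dvd.mpr hall))
  have hG : IsPGroup p G := (hPtop ▸ P.isPGroup' : IsPGroup p (⊤ : Subgroup G)).of_equiv Subgroup.topEquiv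
  haveI := hG.isNilpotent
  refine ⟨?_, ?_⟩
  · obtain ⟨g, hg⟩ : ∃ g, g ∉ M := by
      by_contra! hall
      exact hM.1 ((Subgroup.eq_top_iff' M).mpr hall)
    refine ⟨⟨g, fun x => ?_⟩⟩
    have htop : Subgroup.zpowers g = ⊤ := by
      by_contra hne
      obtain ⟨N, hN, hle⟩ := (eq_top_or_exists_le_coatom _).resolve_left hne
      obtain ⟨c, rfl⟩ := h M N hM hN
      haveI : M.Normal :=
        Subgroup.NormalizerCondition.normal_of_coatom M Group.normalizerCondition_of_isNilpotent hM
      rw [Agent.Grp.mem_normalizer_iff_smul.mp (by rw [Subgroup.normalizer_eq_top]; trivial)] at hle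
      exact hg (hle (Subgroup.mem_zpowers g))
    exact (Subgroup.eq_top_iff' _).mp htop x
  · obtain ⟨k, hk⟩ := IsPGroup.iff_card.mp hG
    refine ⟨p, k, hp.prime, ?_, hk.symm⟩
    by_contra h0
    have := Finite.one_lt_card (α := G)
    rw [hk, Nat.eq_zero_of_not_pos h0, pow_zero] at this
    omega

end Cfsg.Agent.S4387
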