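import Cfsg.Statements.S4394
import Cfsg.Agent.Lib.Transfer.SemiExtraLength
import Cfsg.Agent.Lib.Char.StarConstruction

set_option maxHeartbeats 1000000
set_option maxRecDepth 8000

set_option autoImplicit false
open Cfsg

namespace Cfsg.Agent.S4394

open Cfsg.Agent Cfsg.Agent.Transfer Subgroup Cfsg.Agent.Char.Star
open scoped commutatorElement Pointwise

section
universe u v

theorem good_of_aut {T : Type u} [Group T] [Finite T] {p q : ℕ} [hp : Fact p.Prime] (hT : IsPGroup p T)
    (hq : q.Prime) (hpq : q ≠ p) (σ : MulAut T) (hσq : σ ^ q = 1) (hσ : σ ≠ 1)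
    (hinv : ∀ M : Subgroup T, M.Normal → M ≠ ⊤ → (∀ a ∈ M, σ a ∈ M) → ∀ a ∈ M, σ a = a)
    (hna : center T ≠ ⊤) : SemiExtraLength.Good p T := by
  haveI := hT.isNilpotent
  have hfix : ¬ ∀ a : T, σ (a⁻¹ * σ a) = a⁻¹ * σ a := fun h => hσ (MulEquiv.ext fun a => by
    set d := a⁻¹ * σ a with hd
    have hpw : ∀ i : ℕ, (σ ^ i) a = a * d ^ i := by
      intro i
      induction i with
      | zero => simp
      | succ i ih =>
        rw [pow_succ', MulAut.mul_apply, ih, map_mul, map_pow, h a, pow_succ', ← mul_assoc, hd, mul_inv_cancel_left]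
    have h1 := hpw q
    rw [hσq, MulAut.one_apply] at h1
    obtain ⟨i, hi⟩ := IsPGroup.iff_orderOf.1 hT d
    have h2 : d = 1 := orderOf_eq_one_iff.1 (Nat.eq_one_of_dvd_coprimes
      (((Nat.coprime_primes hq hp.out).2 hpq).pow_right i) (orderOf_dvd_of_pow_eq_one (mul_eq_left.1 h1.symm)) hi.dvd)
    rw [hd, inv_mul_eq_one] at h2
    exact h2.symm)
  have hσM : ∀ (M : Subgroup T) (e : ∀ a ∈ M, σ a ∈ M), ∀ a, σ a ∈ M → a ∈ M := fun M e a ha => by
    have hp' : ∀ i : ℕ, ∀ b ∈ M, (σ ^ i) b ∈ M := by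
      intro i
      induction i with
      | zero => exact fun b hb => hb
      | succ i ih => exact fun b hb => by rw [pow_succ', MulAut.mul_apply]; exact e _ (ih b hb)
    have := hp' (q - 1) _ ha
    rwa [← MulAut.mul_apply, ← pow_succ, Nat.sub_add_cancel hq.one_le, hσq, MulAut.one_apply] at this
  -- proper invariant normal subgroups are central
  have hcen : ∀ M : Subgroup T, M.Normal → M ≠ ⊤ → (∀ a ∈ M, σ a ∈ M) → M ≤ center T := by
    intro M hMn hM e
    have h0 := hinv M hMn hM e
    set C := centralizer (M : Set T)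
    haveI := hMn
    haveI hCn : C.Normal := Subgroup.normal_centralizer
    have hd : ∀ a : T, a⁻¹ * σ a ∈ C := fun a => mem_centralizer_iff.2 fun m hm => by
      have h1 : σ (a * m * a⁻¹) = a * m * a⁻¹ := h0 _ (hMn.conj_mem m hm a)
      rw [map_mul, map_mul, map_inv, h0 m hm] at h1
      calc m * (a⁻¹ * σ a) = a⁻¹ * (a * m * a⁻¹) * σ a := by group
        _ = a⁻¹ * σ a * m := by rw [← h1]; group
    have hCe : ∀ a ∈ C, σ a ∈ C := fun a ha => by
      rw [show σ a = a * (a⁻¹ * σ a) by group]; exact C.mul_mem ha (hd a)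
    have hC : C = ⊤ := by
      by_contra hC
      exact hfix fun a => hinv C hCn hC hCe _ (hd a)
    exact fun m hm => mem_center_iff.2 fun g =>
      (mem_centralizer_iff.1 (show g ∈ C from hC.ge (mem_top g)) m hm).symm
  have hZe : ∀ a ∈ center T, σ a ∈ center T := fun a ha => mem_center_iff.2 fun g => by
    obtain ⟨g, rfl⟩ := σ.surjective g
    rw [← map_mul, ← map_mul, mem_center_iff.1 ha g]
  have hΦ : frattini T ≤ center T := by
    refine hcen _ inferInstance (fun e => ?_) fun a ha => ?_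
    · haveI : Nontrivial T := by
        by_contra h
        rw [not_nontrivial_iff_subsingleton] at h
        exact hna (Subsingleton.elim _ _)
      obtain ⟨M, hM, -⟩ := (eq_top_or_exists_le_coatom (⊥ : Subgroup T)).resolve_left bot_ne_top
      exact hM.1 (top_le_iff.1 (e ▸ frattini_le_coatom hM))
    · exact (Subgroup.characteristic_iff_map_le.1 inferInstance σ) (mem_map_of_mem _ ha)
  have hc2 : ∀ a b : T, ⁅a, b⁆ ∈ center T := fun a b =>
    hΦ (Grp.pGroup_commutator_le_frattini hT (commutator_mem_commutator (mem_top a) (mem_top b)))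
  have hcfix : ∀ x ∈ center T, σ x = x := fun x hx => hinv _ inferInstance hna hZe x hx
  have hnorm : ∀ M : Subgroup T, center T ≤ M → M.Normal := fun M h => ⟨fun x hx g => by
    rw [show g * x * g⁻¹ = ⁅g, x⁆ * x by rw [commutatorElement_def]; group]
    exact M.mul_mem (h (hc2 g x)) hx⟩
  have hmulC : ∀ a a' b : T, ⁅a * a', b⁆ = ⁅a, b⁆ * ⁅a', b⁆ := fun a a' b => by
    rw [commutatorElement_mul_left_eq_conj_mul, mem_center_iff.1 (hc2 a' b) a, mul_inv_cancel_right,
      mem_center_iff.1 (hc2 a' b) ⁅a, b⁆]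
  -- fixed points modulo the centre
  let F : Subgroup T :=
    { carrier := {a | a⁻¹ * σ a ∈ center T}
      one_mem' := by simp
      mul_mem' := fun {a c} ha hc => by
        show (a * c)⁻¹ * σ (a * c) ∈ center T
        rw [map_mul, show (a * c)⁻¹ * (σ a * σ c) = c⁻¹ * (a⁻¹ * σ a) * σ c by group,
          mem_center_iff.1 ha c⁻¹, mul_assoc]
        exact mul_mem ha hc
      inv_mem' := fun {a} ha => by
        show a⁻¹⁻¹ * σ a⁻¹ ∈ center T
        have := inv_mem ((inferInstance : (center T).Normal).conj_mem _ ha a)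
        rwa [show (a * (a⁻¹ * σ a) * a⁻¹)⁻¹ = a⁻¹⁻¹ * (σ a)⁻¹ by group, ← map_inv] at this }
  have hZF : center T ≤ F := fun a ha => mul_mem (inv_mem ha) (hZe a ha)
  have hFe : ∀ a ∈ F, σ a ∈ F := fun a ha => by
    show (σ a)⁻¹ * σ (σ a) ∈ center T
    rw [← map_inv, ← map_mul]
    exact hZe _ ha
  have hF : ∀ a ∈ F, a ∈ center T := hcen F (hnorm F hZF)
    (fun e => hfix fun a => hcfix _ (show a ∈ F from e ▸ mem_top a)) hFe
  refine ⟨hc2, fun a => hΦ (Grp.pGroup_pow_mem_frattini hT a), fun a ha c hc => ?_, fun hidx => ⟨?_, fun h2 => ?_⟩⟩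
  · let f : T →* T :=
      { toFun := fun b => ⁅a, b⁆
        map_one' := commutatorElement_one_right a
        map_mul' := fun b b' => by
          rw [commutatorElement_mul_right_eq_mul_conj, mul_assoc ⁅a, b⁆, mul_assoc ⁅a, b⁆,
            mem_center_iff.1 (hc2 a b') b, mul_inv_cancel_right] }
    have hfZ : f.range ≤ center T := by rintro _ ⟨b, rfl⟩; exact hc2 a b
    let M : Subgroup T :=
      { carrier := {x | ∀ b, ⁅x, b⁆ ∈ f.range}
        one_mem' := fun b => by rw [commutatorElement_one_left]; exact one_mem _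
        mul_mem' := fun {x x'} hx hx' b => by rw [hmulC]; exact mul_mem (hx b) (hx' b)
        inv_mem' := fun {x} hx b => by
          have h1 := hmulC x x⁻¹ b
          rw [mul_inv_cancel, commutatorElement_one_left] at h1
          rw [eq_inv_of_mul_eq_one_right h1.symm]
          exact inv_mem (hx b) }
    have hZM : center T ≤ M := fun z hz b => by
      rw [commutatorElement_eq_one_iff_mul_comm.2 (mem_center_iff.1 hz b).symm]
      exact one_mem _
    by_contra hne
    push Not at hne
    have hcr : c ∉ f.range := fun ⟨b, hb⟩ => hne b hb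
    have hM : M ≠ ⊤ := fun e => hcr ((show commutator T ≤ f.range by
      rw [_root_.commutator_def, commutator_le]
      exact fun x _ y _ => (show x ∈ M from e ▸ mem_top x) y) hc)
    refine ha (hcen M (hnorm M hZM) hM (fun x hx b => ?_) (fun b => ⟨b, rfl⟩))
    obtain ⟨b, rfl⟩ := σ.surjective b
    obtain ⟨w, hw⟩ := hx b
    rw [← map_commutatorElement, ← hw, hcfix _ (hfZ ⟨w, rfl⟩)]
    exact ⟨w, rfl⟩
  · rintro rfl
    have hZmap : (center T).map σ.toMonoidHom = center T := le_antisymm
      (by rintro _ ⟨z, hz, rfl⟩; exact hZe z hz)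
      (fun z hz => by
        obtain ⟨w, rfl⟩ := σ.surjective z
        exact ⟨w, hσM _ hZe w hz, rfl⟩)
    set τ : MulAut (T ⧸ center T) := QuotientGroup.congr (center T) (center T) σ hZmap with hτ
    have hτmk : ∀ a : T, τ (a : T ⧸ center T) = ((σ a : T) : T ⧸ center T) := fun a => rfl
    have hτq : τ ^ q = 1 := by
      refine MulEquiv.ext fun x => ?_
      obtain ⟨a, rfl⟩ := QuotientGroup.mk_surjective x
      have : ∀ i : ℕ, (τ ^ i) (a : T ⧸ center T) = (((σ ^ i) a : T) : T ⧸ center T) := by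
        intro i
        induction i with
        | zero => rfl
        | succ i ih => rw [pow_succ', pow_succ', MulAut.mul_apply, ih, hτmk, MulAut.mul_apply]
      rw [this q, hσq]
      rfl
    letI : MulAction (zpowers τ) (T ⧸ center T) := MulAction.compHom _ (zpowers τ).subtype
    haveI := Fact.mk hq
    have hpg : IsPGroup q (zpowers τ) := by
      obtain ⟨i, -, hi⟩ := (Nat.dvd_prime_pow hq).1 (show orderOf τ ∣ q ^ 1 by
        rw [pow_one]; exact orderOf_dvd_of_pow_eq_one hτq)
      exact IsPGroup.of_card (n := i) (by rw [Nat.card_zpowers, hi])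
    have hmod := hpg.card_modEq_card_fixedPoints (T ⧸ center T)
    have h1 : Nat.card (MulAction.fixedPoints (zpowers τ) (T ⧸ center T)) = 1 := by
      refine Nat.card_eq_one_iff_unique.2 ⟨⟨fun x y => Subtype.ext ?_⟩, ⟨⟨1, fun g => ?_⟩⟩⟩
      · have : ∀ z : MulAction.fixedPoints (zpowers τ) (T ⧸ center T), (z : T ⧸ center T) = 1 := by
          rintro ⟨z, hz⟩
          obtain ⟨a, rfl⟩ := QuotientGroup.mk_surjective z
          refine (QuotientGroup.eq_one_iff a).2 (hF a ?_)
          show a⁻¹ * σ a ∈ center T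
          rw [← QuotientGroup.eq, ← hτmk]
          exact (hz ⟨τ, mem_zpowers τ⟩).symm
        rw [this x, this y]
      · exact map_one (g : MulAut (T ⧸ center T))
    rw [h1, ← Subgroup.index_eq_card, hidx] at hmod
    have hq8 : q ∣ 2 ^ 3 := by
      have := (Nat.modEq_iff_dvd' (by norm_num)).1 hmod.symm
      simpa using this
    obtain rfl := (Nat.prime_dvd_prime_iff_eq hq Nat.prime_two).1 (hq.dvd_of_dvd_pow hq8)
    obtain ⟨a, haZ⟩ : ∃ a, a ∉ center T := by
      by_contra h
      push Not at h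
      exact hna (eq_top_iff.2 fun x _ => h x)
    have hb : a * σ a ∈ F := by
      show (a * σ a)⁻¹ * σ (a * σ a) ∈ center T
      rw [map_mul, ← MulAut.mul_apply, ← sq, hσq, MulAut.one_apply,
        show (a * σ a)⁻¹ * (σ a * a) = ⁅(σ a)⁻¹, a⁻¹⁆ by group]
      exact hc2 _ _
    have hbZ := hF _ hb
    set M := center T ⊔ zpowers a with hM
    have hMT : M ≠ ⊤ := fun e => haZ (mem_center_iff.2 fun g => by
      have hle : M ≤ centralizer ({a} : Set T) := sup_le (center_le_centralizer _)
        (zpowers_le.2 (mem_centralizer_iff.2 fun x hx => by rw [Set.mem_singleton_iff.1 hx]))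
      exact (mem_centralizer_iff.1 (hle (e.ge (mem_top g))) a rfl).symm)
    refine haZ (hcen M (hnorm M le_sup_left) hMT (fun x hx => ?_) (mem_sup_right (mem_zpowers a)))
    have hle : M ≤ M.comap σ.toMonoidHom := sup_le (fun z hz => mem_sup_left (hZe z hz))
      (zpowers_le.2 (show σ a ∈ M by
        rw [show σ a = a⁻¹ * (a * σ a) by group]
        exact mul_mem (inv_mem (mem_sup_right (mem_zpowers a))) (mem_sup_left hbZ)))
    exact hle hx
  · refine ⟨σ, fun a ha h => ha (hF a ?_)⟩
    show a⁻¹ * σ a ∈ center T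
    have := (inferInstance : (center T).Normal).conj_mem _ h a⁻¹
    rwa [show a⁻¹ * (σ a * a⁻¹) * a⁻¹⁻¹ = a⁻¹ * σ a by group] at this

theorem good_of_minimal {X : Type v} [Group X] [Finite X] {p : ℕ} [hp : Fact p.Prime]
    (hX : Cfsg.IsMinimalNonNilpotent X) (P : Sylow p X) (hPn : (P : Subgroup X).Normal) (hP1 : (P : Subgroup X) ≠ ⊥)
    (hna : center (P : Subgroup X) ≠ ⊤) : SemiExtraLength.Good p (P : Subgroup X) := by
  haveI := hPn
  obtain ⟨K, hK⟩ := Subgroup.exists_right_complement'_of_coprime (N := (P : Subgroup X)) P.card_coprime_index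
  have hKtop : K ≠ ⊤ := fun e => hP1 (by
    have := hK.disjoint
    rwa [e, disjoint_top] at this)
  haveI hKnil : Group.IsNilpotent K := hX.2 K hKtop
  -- an element of prime-power order not centralising `P`
  obtain ⟨q, hq, hqp, x, hxq, hx⟩ : ∃ q : ℕ, q.Prime ∧ q ≠ p ∧ ∃ x : X, (∃ n : ℕ, orderOf x = q ^ n) ∧
      x ∉ centralizer ((P : Subgroup X) : Set X) := by
    by_contra h
    push Not at h
    have hKc : K ≤ centralizer ((P : Subgroup X) : Set X) := by
      intro k hk
      have hcop : (Nat.card K).Coprime p := by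
        rw [← hK.symm.index_eq_card]
        exact (hp.out.coprime_iff_not_dvd.2 P.not_dvd_index).symm
      suffices ∀ m : ℕ, ∀ k : X, orderOf k = m → m.Coprime p → k ∈ centralizer ((P : Subgroup X) : Set X) from
        this _ k rfl (hcop.coprime_dvd_left (Subgroup.orderOf_dvd_natCard _ hk))
      intro m
      induction m using Nat.strong_induction_on with
      | _ m ih =>
        intro k hkm hmp
        rcases eq_or_ne m 1 with rfl | hm1
        · rw [orderOf_eq_one_iff.1 hkm]; exact one_mem _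
        have hm0 : m ≠ 0 := hkm ▸ (orderOf_pos k).ne'
        set r := m.minFac with hr
        have hrp : r.Prime := Nat.minFac_prime hm1
        set a := r ^ m.factorization r with ha
        set b := m / r ^ m.factorization r with hb
        have hab : a * b = m := Nat.ordProj_mul_ordCompl_eq_self m r
        have hco : a.Coprime b := (Nat.coprime_ordCompl hrp hm0).pow_left _
        have hrd : r ∣ m := Nat.minFac_dvd m
        have hfac : 0 < m.factorization r := hrp.factorization_pos_of_dvd hm0 hrd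
        have ha1 : 1 < a := Nat.one_lt_pow hfac.ne' hrp.one_lt
        have hb0 : 0 < b := Nat.pos_of_ne_zero fun e => hm0 (by rw [← hab, e, mul_zero])
        have hrne : r ≠ p := fun e => hp.out.coprime_iff_not_dvd.1 hmp.symm (e ▸ hrd)
        have h1 : k ^ b ∈ centralizer ((P : Subgroup X) : Set X) := h r hrp hrne (k ^ b) ⟨m.factorization r, by
          rw [orderOf_pow' _ hb0.ne', hkm, Nat.gcd_eq_right ⟨a, by rw [mul_comm]; exact hab.symm⟩,
            Nat.div_eq_of_eq_mul_left hb0 hab.symm]⟩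
        have h2 : k ^ a ∈ centralizer ((P : Subgroup X) : Set X) := by
          refine ih b ?_ _ ?_ (hmp.coprime_dvd_left ⟨a, by rw [mul_comm]; exact hab.symm⟩)
          · rw [← hab]; exact lt_mul_of_one_lt_left hb0 ha1
          · rw [orderOf_pow' _ (by omega), hkm, Nat.gcd_eq_right ⟨b, hab.symm⟩, ← hab,
              Nat.mul_div_cancel_left _ (by omega)]
        obtain ⟨u, w, huw⟩ := Nat.isCoprime_iff_coprime.2 hco
        rw [show k = (k ^ a) ^ u * (k ^ b) ^ w by
          rw [← zpow_natCast k a, ← zpow_natCast k b, ← zpow_mul, ← zpow_mul, ← zpow_add, mul_comm (a : ℤ) u,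
            mul_comm (b : ℤ) w, huw, zpow_one]]
        exact mul_mem (zpow_mem h2 u) (zpow_mem h1 w)
    have hcomm : ∀ (a : (P : Subgroup X)) (k : K), Commute ((P : Subgroup X).subtype a) (K.subtype k) := fun a k =>
      mem_centralizer_iff.1 (hKc k.2) a a.2
    haveI := P.isPGroup'.isNilpotent
    refine hX.1 (Group.nilpotent_of_surjective (MonoidHom.noncommCoprod _ _ hcomm) fun g => ?_)
    obtain ⟨⟨a, k⟩, hg, -⟩ := Subgroup.isComplement_iff_existsUnique.1 hK g
    exact ⟨(a, k), hg⟩
  haveI := Fact.mk hq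
  obtain ⟨n, hn⟩ := hxq
  set φ : X →* MulAut (P : Subgroup X) := MulAut.conjNormal with hφ
  have hxcop : (orderOf x).Coprime p := by
    rw [hn]; exact ((Nat.coprime_primes hq hp.out).2 hqp).pow_left n
  -- proper subgroups containing `x` centralise their `p`-elements
  have hcen : ∀ L : Subgroup X, L ≠ ⊤ → ∀ a ∈ L, ∀ y ∈ L, (∃ i : ℕ, orderOf a = p ^ i) → (orderOf y).Coprime p →
      a * y = y * a := fun L hL a ha y hy ⟨i, hi⟩ hy' => congrArg Subtype.val
    (commute_of_coprime_order (hX.2 L hL) (x := (⟨a, ha⟩ : L)) (y := ⟨y, hy⟩) (by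
      rw [Subgroup.orderOf_mk, Subgroup.orderOf_mk, hi]; exact hy'.symm.pow_left i))
  have hPord : ∀ a : (P : Subgroup X), ∃ i : ℕ, orderOf (a : X) = p ^ i := fun a => by
    obtain ⟨i, hi⟩ := IsPGroup.iff_orderOf.1 P.isPGroup' a
    exact ⟨i, by rw [Subgroup.orderOf_coe, hi]⟩
  have hPcop : ∀ y ∈ (P : Subgroup X), (orderOf y).Coprime p → y = 1 := fun y hy hc => by
    obtain ⟨i, hi⟩ := hPord ⟨y, hy⟩
    change orderOf y = _ at hi
    exact orderOf_eq_one_iff.1 (Nat.eq_one_of_dvd_coprimes (hc.pow_right i) dvd_rfl hi.dvd)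
  have htop : (P : Subgroup X) ⊔ zpowers x = ⊤ := by
    by_contra hne
    exact hx (mem_centralizer_iff.2 fun a ha => hcen _ hne a (mem_sup_left ha) x
      (mem_sup_right (mem_zpowers x)) (hPord ⟨a, ha⟩) hxcop)
  have hσq : φ x ^ q = 1 := by
    rw [← map_pow]
    have hne : (P : Subgroup X) ⊔ zpowers (x ^ q) ≠ ⊤ := by
      intro e
      have hxm : x ∈ (P : Subgroup X) ⊔ zpowers (x ^ q) := e ▸ mem_top x
      rw [← SetLike.mem_coe, Subgroup.normal_mul] at hxm
      obtain ⟨a, ha, _, ⟨j, rfl⟩, hj⟩ := hxm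
      change a * (x ^ q) ^ j = x at hj
      have ha' : a = x ^ (1 - (q : ℤ) * j) := by
        rw [zpow_sub, zpow_one, zpow_mul, zpow_natCast]
        exact eq_mul_inv_of_mul_eq hj
      have ha1 : a = 1 := hPcop a ha (by rw [ha']; exact hxcop.coprime_dvd_left (orderOf_dvd_of_mem_zpowers (zpow_mem_zpowers x _)))
      rw [ha', ← orderOf_dvd_iff_zpow_eq_one, hn] at ha1
      have hn0 : n ≠ 0 := fun e => hx (by
        rw [e, pow_zero, orderOf_eq_one_iff] at hn
        rw [hn]; exact one_mem _)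
      have h3 : (q : ℤ) ∣ 1 := by
        have h4 : (q : ℤ) ∣ 1 - (q : ℤ) * j := (Int.natCast_dvd_natCast.2 (dvd_pow_self q hn0)).trans ha1
        have := dvd_add h4 (dvd_mul_right (q : ℤ) j)
        simpa using this
      exact hq.one_lt.ne' (Nat.dvd_one.1 (Int.natCast_dvd_natCast.1 (by exact_mod_cast h3)))
    refine MulEquiv.ext fun a => Subtype.ext ?_
    rw [hφ, MulAut.conjNormal_apply, MulAut.one_apply, ← hcen _ hne a (mem_sup_left a.2) (x ^ q)
      (mem_sup_right (mem_zpowers _)) (hPord a) (hxcop.coprime_dvd_left (orderOf_pow_dvd q)), mul_inv_cancel_right]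
  refine good_of_aut P.isPGroup' hq hqp (φ x) hσq (fun e => hx (mem_centralizer_iff.2 fun a ha => ?_))
    (fun M _ hM he a ha => ?_) hna
  · have h1 := congrArg Subtype.val (DFunLike.congr_fun e ⟨a, ha⟩)
    rw [hφ, MulAut.conjNormal_apply, MulAut.one_apply] at h1
    exact (mul_inv_eq_iff_eq_mul.1 h1).symm
  · set M' := M.map (P : Subgroup X).subtype with hM'
    have hxM : zpowers x ≤ normalizer (M' : Set X) := zpowers_le.2 (Subgroup.mem_normalizer_fintype (by
      rintro _ ⟨b, hb, rfl⟩
      exact ⟨φ x b, he b hb, MulAut.conjNormal_apply x b⟩))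
    have hne : M' ⊔ zpowers x ≠ ⊤ := fun e => hM (eq_top_iff.2 fun b _ => by
      have hb : (b : X) ∈ M' ⊔ zpowers x := e ▸ mem_top _
      rw [← SetLike.mem_coe, Subgroup.coe_mul_of_right_le_normalizer_left _ _ hxM] at hb
      obtain ⟨c, hc, z, hz, hcz⟩ := hb
      obtain ⟨c', hc', rfl⟩ := hc
      change (c' : X) * z = b at hcz
      have hz1 : z = 1 := hPcop z (by
        rw [show z = (c' : X)⁻¹ * b by rw [← hcz]; group]
        exact mul_mem (inv_mem c'.2) b.2) (hxcop.coprime_dvd_left (orderOf_dvd_of_mem_zpowers hz))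
      rw [hz1, mul_one] at hcz
      rwa [← show c' = b from Subtype.ext hcz])
    refine Subtype.ext ?_
    rw [hφ, MulAut.conjNormal_apply, ← hcen _ hne a (mem_sup_left (mem_map_of_mem _ ha)) x
      (mem_sup_right (mem_zpowers x)) (hPord a) hxcop, mul_inv_cancel_right]

theorem main {G : Type u} [Group G] [Finite G] {X : Type v} [Group X] [Finite X] {p : ℕ} [hp : Fact p.Prime]
    (hX : Cfsg.IsMinimalNonNilpotent X) (P : Sylow p X) (hPn : (P : Subgroup X).Normal) (hP1 : (P : Subgroup X) ≠ ⊥)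
    (hG : Cfsg.IsPSolvable p G) (Q : Sylow p G) (e : (Q : Subgroup G) ≃* (P : Subgroup X)) :
    Cfsg.PLengthLE p 1 G := by
  refine Grp.pLengthLE_one_of_index fun {_} => ?_
  set O := Cfsg.pPrimeCore p G
  set π := QuotientGroup.mk' O
  have hπ : Function.Surjective π := QuotientGroup.mk'_surjective O
  have hO : Cfsg.pPrimeCore p (G ⧸ O) = ⊥ := Grp.pPrimeCore_quotient_eq_bot
  have hK : Cfsg.IsPSolvable p (G ⧸ O) := Grp.isPSolvable_map hG π hπ
  set Q' := Q.mapSurjective hπ
  have hinj : Function.Injective (π.subgroupMap (Q : Subgroup G)) := (injective_iff_map_eq_one _).2 fun t ht => by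
    have h1 : (t : G) ∈ O := (QuotientGroup.eq_one_iff _).1 (congrArg Subtype.val ht)
    obtain ⟨i, hi⟩ := IsPGroup.iff_orderOf.1 Q.isPGroup' t
    rw [← Subgroup.orderOf_coe] at hi
    have hcop : (Nat.card O).Coprime p := Grp.pPrimeCore_coprime
    exact Subtype.ext (orderOf_eq_one_iff.1 (Nat.eq_one_of_dvd_coprimes (hcop.pow_right i)
      (Subgroup.orderOf_dvd_natCard _ h1) hi.dvd))
  let eQ : (P : Subgroup X) ≃* (Q' : Subgroup (G ⧸ O)) :=
    e.symm.trans (MulEquiv.ofBijective (π.subgroupMap (Q : Subgroup G)) ⟨hinj, π.subgroupMap_surjective _⟩)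
  by_cases hna : center (P : Subgroup X) = ⊤
  · set U := Cfsg.pCore p (G ⧸ O)
    haveI : U.Normal := Grp.pCore_isNormal
    obtain ⟨S, hS⟩ := (Grp.pCore_isPGroup : IsPGroup p U).exists_le_sylow
    obtain ⟨c, hc⟩ := MulAction.exists_smul_eq (G ⧸ O) S Q'
    intro hd
    refine Q'.not_dvd_index (hd.trans (index_dvd_of_le fun x hx => ?_))
    refine Grp.centralizer_pCore_le_of_pSolvable hK hO (mem_centralizer_iff.2 fun u hu => ?_)
    have huQ : u ∈ (Q' : Subgroup (G ⧸ O)) := by
      rw [← hc]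
      refine ⟨c⁻¹ * u * c, hS ?_, show c * (c⁻¹ * u * c) * c⁻¹ = u by group⟩
      have := (inferInstance : U.Normal).conj_mem u hu c⁻¹
      rwa [inv_inv] at this
    obtain ⟨a, ha⟩ := eQ.surjective ⟨u, huQ⟩
    obtain ⟨b, hb⟩ := eQ.surjective ⟨x, hx⟩
    have hab : a * b = b * a := mem_center_iff.1 (hna ▸ mem_top b) a
    have := congrArg (fun z => ((eQ z : (Q' : Subgroup (G ⧸ O))) : G ⧸ O)) hab
    simp only [map_mul, Subgroup.coe_mul, ha, hb] at this
    exact this
  · exact SemiExtraLength.not_dvd_index hK hO Q'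
      (SemiExtraLength.good_of_equiv eQ (good_of_minimal hX P hPn hP1 hna))

end


/-- Let X be a finite minimal non-nilpotent group (not nilpotent, every proper subgroup nilpotent) with a nontrivial normal Sylow p-subgroup P. If G is a finite p-solvable group whose Sylow p-subgroups are isomorphic to P, then G has p-length at most 1. -/
theorem result {G X : Type*} [Group G] [Finite G] [Group X] [Finite X] (p : ℕ) [Fact p.Prime]
    (hX : Cfsg.IsMinimalNonNilpotent X) (P : Sylow p X) (hPn : (P : Subgroup X).Normal) (hP1 : (P : Subgroup X) ≠ ⊥)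
    (hG : Cfsg.IsPSolvable p G) (Q : Sylow p G) (hQ : Nonempty (↥(Q : Subgroup G) ≃* ↥(P : Subgroup X))) : Cfsg.PLengthLE p 1 G := by

  obtain ⟨e⟩ := hQ
  exact main hX P hPn hP1 hG Q e

end Cfsg.Agent.S4394
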