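import Cfsg.Statements.S4395
import Cfsg.Agent.Lib.Transfer.SchmidtModels
import Cfsg.Agent.Lib.Transfer.Frobenius
import Cfsg.Agent.Lib.Grp.Signalizer

set_option maxHeartbeats 1000000
set_option maxRecDepth 8000

set_option autoImplicit false
universe u
open Cfsg

namespace Cfsg.Agent.S4395

open Cfsg.Agent Cfsg.Agent.Transfer Cfsg.Agent.Transfer.Schmidt
open scoped Pointwise

section helpers

variable {p q r : ℕ} [hp : Fact p.Prime] [hq : Fact q.Prime]

theorem coprime_of_dvd_pow (hpq : p ≠ q) {n : ℕ} (h : n ∣ q ^ r) : Nat.Coprime n p :=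
  Nat.Coprime.coprime_dvd_left h (((Nat.coprime_primes hq.out hp.out).2 hpq.symm).pow_left r)

/-- Every element prime to `p` normalizing a `p`-subgroup centralizes it, in a proper subgroup. -/
theorem centralizes_of_proper {G : Type*} [Group G] [Finite G]
    (h : ∀ K : Subgroup G, K ≠ ⊤ → Cfsg.HasNormalPComplement p ↥K) {U : Subgroup G} (hU : IsPGroup p U)
    {g : G} (hg : g ∈ Subgroup.normalizer (U : Set G)) (hgc : (orderOf g).Coprime p)
    (hne : U ⊔ Subgroup.zpowers g ≠ ⊤) : ∀ u ∈ U, g * u * g⁻¹ = u := by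
  intro u hu
  set H := U ⊔ Subgroup.zpowers g with hH
  have hgH : g ∈ H := Subgroup.mem_sup_right (Subgroup.mem_zpowers g)
  have hUp : IsPGroup p (U.subgroupOf H) := hU.comap_subtype
  have hF := frobeniusCondition_of_hasNormalPComplement (h H hne) hUp (U.subgroupOf H) le_rfl ⟨g, hgH⟩
    (by
      rw [Subgroup.mem_normalizer_iff]
      intro x
      simp only [Subgroup.mem_subgroupOf, Subgroup.coe_mul, Subgroup.coe_inv]
      exact Subgroup.mem_normalizer_iff.mp hg x)
    (by rw [Subgroup.orderOf_mk]; exact hgc)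
  have := congrArg Subtype.val
    (Subgroup.mem_centralizer_iff.mp hF ⟨u, Subgroup.mem_sup_left hu⟩ (Subgroup.mem_subgroupOf.mpr hu))
  exact mul_inv_eq_iff_eq_mul.mpr this.symm

/-- The structure of a minimal non-`p`-nilpotent group of order `p ^ t * q ^ r`. -/
theorem exists_structure (hpq : p ≠ q) {X : Type*} [Group X] [Finite X]
    (hnot : ¬ Cfsg.HasNormalPComplement p X)
    (hprop : ∀ K : Subgroup X, K ≠ ⊤ → Cfsg.HasNormalPComplement p ↥K) {t : ℕ}
    (hX : Nat.card X = p ^ t * q ^ r) :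
    ∃ (P : Subgroup X) (y : X) (α : MulAut P), (∀ u : P, (α u : X) = y * u * y⁻¹) ∧
      orderOf y = q ^ r ∧ P ⊔ Subgroup.zpowers y = ⊤ ∧ IsSchmidt p q P α := by
  classical
  obtain ⟨S⟩ := (inferInstance : Nonempty (Sylow p X))
  rw [hasNormalPComplement_iff_frobeniusCondition S] at hnot
  rw [FrobeniusCondition] at hnot
  push Not at hnot
  obtain ⟨P, hPS, g, hg, hgc, hgn⟩ := hnot
  have hP : IsPGroup p P := S.isPGroup'.to_le hPS
  have htop : P ⊔ Subgroup.zpowers g = ⊤ := by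
    by_contra hne
    refine hgn (Subgroup.mem_centralizer_iff.mpr fun u hu => ?_)
    exact (mul_inv_eq_iff_eq_mul.mp (centralizes_of_proper hprop hP hg hgc hne u hu)).symm
  obtain ⟨s, hs⟩ := IsPGroup.iff_card.mp hP
  have hnorm : Subgroup.zpowers g ≤ Subgroup.normalizer (P : Set X) := Subgroup.zpowers_le.mpr hg
  have hgq : orderOf g ∣ q ^ r :=
    Nat.Coprime.dvd_of_dvd_mul_left (hgc.pow_right t) (hX ▸ orderOf_dvd_natCard g)
  have hcopP : ∀ z : X, z ∈ Subgroup.zpowers g → (Nat.card P).Coprime (Nat.card (Subgroup.zpowers z)) :=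
    fun z hz => by
      rw [hs, Nat.card_zpowers]
      exact ((coprime_of_dvd_pow hpq ((orderOf_dvd_of_mem_zpowers hz).trans hgq)).pow_right s).symm
  have hcard : ∀ (U : Subgroup X) (z : X), U ≤ P → z ∈ Subgroup.zpowers g → z ∈ Subgroup.normalizer (U : Set X) →
      Nat.card ↥(U ⊔ Subgroup.zpowers z) = Nat.card U * orderOf z := by
    intro U z hU hz hn
    rw [← Nat.card_zpowers, sup_comm, Cfsg.Agent.Grp.card_sup_coprime (Subgroup.zpowers_le.mpr hn)
      ((hcopP z hz).coprime_dvd_left (Subgroup.card_dvd_of_le hU)).symm, mul_comm]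
  have htot := hcard P g le_rfl (Subgroup.mem_zpowers g) hg
  rw [htop, Subgroup.card_top, hX, hs] at htot
  have hgr : orderOf g = q ^ r := by
    refine Nat.dvd_antisymm hgq ?_
    exact Nat.Coprime.dvd_of_dvd_mul_left
      ((((Nat.coprime_primes hq.out hp.out).2 hpq.symm).pow_left r).pow_right s) ⟨p ^ t, by rw [← htot]; ring⟩
  have hst : Nat.card P = p ^ t := by
    rw [hs]
    rw [hgr] at htot
    exact (Nat.eq_of_mul_eq_mul_right (pow_pos hq.out.pos r) htot).symm
  have hPn : ∀ u ∈ P, g * u * g⁻¹ ∈ P := fun u hu => Grp.mem_conj_normalizer hg hu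
  let α : MulAut P :=
    { toFun := fun u => ⟨g * u * g⁻¹, hPn u u.2⟩
      invFun := fun u => ⟨g⁻¹ * u * g⁻¹⁻¹, Grp.mem_conj_normalizer (inv_mem hg) u.2⟩
      left_inv := fun u => Subtype.ext (by show g⁻¹ * (g * (u : X) * g⁻¹) * g⁻¹⁻¹ = u; group)
      right_inv := fun u => Subtype.ext (by show g * (g⁻¹ * (u : X) * g⁻¹⁻¹) * g⁻¹ = u; group)
      map_mul' := fun u v => Subtype.ext (by
        show g * ((u : X) * v) * g⁻¹ = g * u * g⁻¹ * (g * v * g⁻¹); group) }
  have hαpow : ∀ (n : ℕ) (u : P), (((α ^ n) u : P) : X) = g ^ n * u * (g ^ n)⁻¹ := by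
    intro n
    induction n with
    | zero => intro u; simp
    | succ n ih =>
      intro u
      rw [pow_succ', MulAut.mul_apply]
      show g * (((α ^ n) u : P) : X) * g⁻¹ = _
      rw [ih]; group
  refine ⟨P, g, α, fun u => rfl, hgr, htop, hP, ?_, fun e => ?_, fun U hU hne u hu => ?_⟩
  · refine MulEquiv.ext fun u => Subtype.ext ?_
    rw [hαpow]
    refine centralizes_of_proper hprop hP (pow_mem hg q) (coprime_of_dvd_pow hpq ((orderOf_pow_dvd q).trans hgq))
      (fun e => ?_) u u.2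
    have h1 := hcard P (g ^ q) le_rfl (pow_mem (Subgroup.mem_zpowers g) q) (pow_mem hg q)
    rw [e, Subgroup.card_top, hX, hst, orderOf_pow, hgr] at h1
    have h2 := Nat.eq_of_mul_eq_mul_left (pow_pos hp.out.pos t) h1
    have hgc' : q ^ r ≠ 0 := pow_ne_zero _ hq.out.ne_zero
    rcases Nat.eq_zero_or_pos r with rfl | hr'
    · refine hgn ?_
      rw [pow_zero, orderOf_eq_one_iff] at hgr
      rw [hgr]; exact one_mem _
    rw [Nat.gcd_eq_right (dvd_pow_self q hr'.ne')] at h2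
    have := Nat.div_lt_self (Nat.pos_of_ne_zero hgc') hq.out.one_lt
    omega
  · refine hgn (Subgroup.mem_centralizer_iff.mpr fun u hu => ?_)
    have h1 : g * u * g⁻¹ = u := congrArg Subtype.val (DFunLike.congr_fun e ⟨u, hu⟩)
    exact (mul_inv_eq_iff_eq_mul.mp h1).symm
  · set U' := U.map P.subtype with hU'
    have hU'n : ∀ v ∈ U', g * v * g⁻¹ ∈ U' := by
      rintro _ ⟨v, hv, rfl⟩
      exact ⟨α v, hU v hv, rfl⟩
    have hgU : g ∈ Subgroup.normalizer (U' : Set X) := by
      have hle : U'.map (MulAut.conj g).toMonoidHom = U' := by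
        refine Subgroup.eq_of_le_of_card_ge ?_ ?_
        · rintro _ ⟨v, hv, rfl⟩; exact hU'n v hv
        · exact (Subgroup.card_map_of_injective (f := (MulAut.conj g).toMonoidHom) (MulAut.conj g).injective).ge
      refine Subgroup.mem_normalizer_iff.mpr fun v => ⟨hU'n v, fun hv => ?_⟩
      obtain ⟨w, hw, hwe⟩ := hle.ge hv
      rwa [(MulAut.conj g).injective hwe] at hw
    refine Subtype.ext (centralizes_of_proper hprop (hP.to_le (Subgroup.map_subtype_le U)) hgU hgc
      (fun e => hne ?_) u ⟨u, hu, rfl⟩)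
    have h1 := hcard U' g (Subgroup.map_subtype_le U) (Subgroup.mem_zpowers g) hgU
    rw [e, Subgroup.card_top, hX, hgr, Subgroup.card_map_of_injective P.subtype_injective] at h1
    refine Subgroup.eq_top_of_card_eq U ?_
    rw [hst]
    exact (Nat.eq_of_mul_eq_mul_right (pow_pos hq.out.pos r) h1).symm

variable {P₀ : Type} [Group P₀] [Finite P₀] {α₀ : MulAut P₀}

/-- The action of the cyclic group of order `q ^ r` through an automorphism of order `q`. -/
theorem exists_action (hr : 1 ≤ r) [NeZero (q ^ r)] (hα : α₀ ^ q = 1) :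
    ∃ θ : Multiplicative (ZMod (q ^ r)) →* MulAut P₀, ∀ c, θ c = α₀ ^ (Multiplicative.toAdd c).val :=
  ⟨{ toFun := fun c => α₀ ^ (Multiplicative.toAdd c).val
     map_one' := by simp
     map_mul' := fun c d => by
      rw [← pow_add, pow_mod hα, pow_mod hα ((Multiplicative.toAdd c).val + _), toAdd_mul, ZMod.val_add,
        Nat.mod_mod_of_dvd _ (dvd_pow_self q (by omega))] }, fun c => rfl⟩

theorem rightHom_eq_one (hpq : p ≠ q) [NeZero (q ^ r)] {θ : Multiplicative (ZMod (q ^ r)) →* MulAut P₀}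
    {U : Subgroup (P₀ ⋊[θ] Multiplicative (ZMod (q ^ r)))} (hU : IsPGroup p U) :
    ∀ u ∈ U, u.right = 1 := by
  intro u hu
  obtain ⟨i, hi⟩ := IsPGroup.iff_orderOf.mp hU ⟨u, hu⟩
  rw [Subgroup.orderOf_mk] at hi
  have h1 : orderOf u.right ∣ p ^ i := hi ▸ orderOf_map_dvd SemidirectProduct.rightHom u
  have h2 : orderOf u.right ∣ q ^ r := by
    have := orderOf_dvd_natCard u.right
    rwa [Nat.card_congr Multiplicative.toAdd, Nat.card_zmod] at this
  exact orderOf_eq_one_iff.mp (Nat.eq_one_of_dvd_coprimes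
    (((coprime_of_dvd_pow (r := r) hpq dvd_rfl).symm).pow_left i) h1 h2)

/-- A conjugate of an element prime to `p` lies in the cyclic complement. -/
theorem exists_conj_inr (hpq : p ≠ q) [NeZero (q ^ r)] {n : ℕ} (hc : Nat.card P₀ = p ^ n)
    {θ : Multiplicative (ZMod (q ^ r)) →* MulAut P₀} {g : P₀ ⋊[θ] Multiplicative (ZMod (q ^ r))}
    (hg : (orderOf g).Coprime p) :
    ∃ (x : P₀ ⋊[θ] Multiplicative (ZMod (q ^ r))) (c : Multiplicative (ZMod (q ^ r))),
      x * g * x⁻¹ = SemidirectProduct.inr c := by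
  haveI : Finite (P₀ ⋊[θ] Multiplicative (ZMod (q ^ r))) := Finite.of_equiv _ SemidirectProduct.equivProd.symm
  have hG : Nat.card (P₀ ⋊[θ] Multiplicative (ZMod (q ^ r))) = p ^ n * q ^ r := by
    rw [Nat.card_congr SemidirectProduct.equivProd, Nat.card_prod, hc,
      Nat.card_congr Multiplicative.toAdd, Nat.card_zmod]
  set C := (SemidirectProduct.inr : _ →* P₀ ⋊[θ] Multiplicative (ZMod (q ^ r))).range with hC
  have hCc : Nat.card C = q ^ r := by
    rw [← Nat.card_congr (MonoidHom.ofInjective SemidirectProduct.inr_injective).toEquiv,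
      Nat.card_congr Multiplicative.toAdd, Nat.card_zmod]
  have hCi : C.index = p ^ n := by
    have := C.card_mul_index
    rw [hCc, hG, mul_comm (p ^ n)] at this
    exact Nat.eq_of_mul_eq_mul_left (pow_pos hq.out.pos r) this
  let Q : Sylow q (P₀ ⋊[θ] Multiplicative (ZMod (q ^ r))) := (IsPGroup.of_card (n := r) hCc).toSylow (by
    rw [hCi]
    exact fun hd => hpq ((Nat.prime_dvd_prime_iff_eq hq.out hp.out).1 (hq.out.dvd_of_dvd_pow hd)).symm)
  have hgq : orderOf g ∣ q ^ r :=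
    Nat.Coprime.dvd_of_dvd_mul_left (hg.pow_right n) (hG ▸ orderOf_dvd_natCard g)
  obtain ⟨i, -, hi⟩ := (Nat.dvd_prime_pow hq.out).mp hgq
  obtain ⟨R, hR⟩ := (IsPGroup.of_card (n := i) (by rw [Nat.card_zpowers, hi]) :
    IsPGroup q (Subgroup.zpowers g)).exists_le_sylow
  obtain ⟨x, hx⟩ := MulAction.exists_smul_eq (P₀ ⋊[θ] Multiplicative (ZMod (q ^ r))) R Q
  have h1 : x * g * x⁻¹ ∈ (Q : Subgroup (P₀ ⋊[θ] Multiplicative (ZMod (q ^ r)))) := by
    rw [← hx, Sylow.coe_subgroup_smul, Subgroup.mem_pointwise_smul_iff_inv_smul_mem]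
    simpa [mul_assoc] using hR (Subgroup.mem_zpowers g)
  obtain ⟨c, hc'⟩ := h1
  exact ⟨x, c, hc'.symm⟩

/-- The semidirect product is minimal non-`p`-nilpotent. -/
theorem isMinimal_model (hpq : p ≠ q) (hr : 1 ≤ r) [NeZero (q ^ r)] (hs : IsSchmidt p q P₀ α₀)
    {θ : Multiplicative (ZMod (q ^ r)) →* MulAut P₀} (hθ : ∀ c, θ c = α₀ ^ (Multiplicative.toAdd c).val)
    [Finite (P₀ ⋊[θ] Multiplicative (ZMod (q ^ r)))] :
    ¬ Cfsg.HasNormalPComplement p (P₀ ⋊[θ] Multiplicative (ZMod (q ^ r))) ∧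
      ∀ K : Subgroup (P₀ ⋊[θ] Multiplicative (ZMod (q ^ r))), K ≠ ⊤ → Cfsg.HasNormalPComplement p ↥K := by
  classical
  have hq2 : 1 < q ^ r := Nat.one_lt_pow (by omega) hq.out.one_lt
  haveI : Fact (1 < q ^ r) := ⟨hq2⟩
  have horder : ∀ c : Multiplicative (ZMod (q ^ r)),
      (orderOf (SemidirectProduct.inr c : P₀ ⋊[θ] Multiplicative (ZMod (q ^ r)))).Coprime p := fun c => by
    refine coprime_of_dvd_pow (r := r) hpq ((orderOf_map_dvd _ c).trans ?_)
    have := orderOf_dvd_natCard c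
    rwa [Nat.card_congr Multiplicative.toAdd, Nat.card_zmod] at this
  have hconj : ∀ (c : Multiplicative (ZMod (q ^ r))) (u : P₀),
      (SemidirectProduct.inr c : P₀ ⋊[θ] Multiplicative (ZMod (q ^ r))) * SemidirectProduct.inl u *
        (SemidirectProduct.inr c)⁻¹ = SemidirectProduct.inl (θ c u) := fun c u => by
    rw [← map_inv]; exact (SemidirectProduct.inl_aut c u).symm
  refine ⟨fun hN => hs.ne_one (MulEquiv.ext fun u => ?_), fun K hK => ?_⟩
  · set R := (SemidirectProduct.inl : P₀ →* P₀ ⋊[θ] Multiplicative (ZMod (q ^ r))).range with hR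
    have hRp : IsPGroup p R := hs.pgroup.of_equiv (MonoidHom.ofInjective SemidirectProduct.inl_injective)
    set g : P₀ ⋊[θ] Multiplicative (ZMod (q ^ r)) := SemidirectProduct.inr (Multiplicative.ofAdd 1)
    have hgR : g ∈ Subgroup.normalizer (R : Set (P₀ ⋊[θ] Multiplicative (ZMod (q ^ r)))) := by
      rw [hR, SemidirectProduct.range_inl_eq_ker_rightHom, Subgroup.normalizer_eq_top]
      exact Subgroup.mem_top g
    have h1 := Subgroup.mem_centralizer_iff.mp
      (frobeniusCondition_of_hasNormalPComplement hN hRp R le_rfl g hgR (horder _)) _ ⟨u, rfl⟩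
    have h2 := hconj (Multiplicative.ofAdd 1) u
    rw [show SemidirectProduct.inr (Multiplicative.ofAdd 1) = g from rfl, ← h1, mul_inv_cancel_right] at h2
    have h3 := (SemidirectProduct.inl_injective h2).symm
    rw [hθ, toAdd_ofAdd, ZMod.val_one, pow_one] at h3
    exact h3
  obtain ⟨SK⟩ := (inferInstance : Nonempty (Sylow p K))
  rw [hasNormalPComplement_iff_frobeniusCondition SK]
  intro U hU g hg hgc
  set U' : Subgroup (P₀ ⋊[θ] Multiplicative (ZMod (q ^ r))) := U.map K.subtype with hU'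
  have hU'p : IsPGroup p U' := (SK.isPGroup'.to_le hU).map _
  have hgc' : (orderOf (g : P₀ ⋊[θ] Multiplicative (ZMod (q ^ r)))).Coprime p := by
    rwa [Subgroup.orderOf_coe]
  obtain ⟨n, hn⟩ := IsPGroup.iff_card.mp hs.pgroup
  obtain ⟨x, c, hxc⟩ := exists_conj_inr hpq hn hgc'
  refine Subgroup.mem_centralizer_iff.mpr fun v hv => Subtype.ext ?_
  -- pull back to the kernel
  have hleft : ∀ w ∈ U', ∃ z : P₀, x * w * x⁻¹ = SemidirectProduct.inl z := fun w hw => by
    refine ⟨(x * w * x⁻¹).left, SemidirectProduct.ext rfl ?_⟩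
    rw [SemidirectProduct.mul_right, SemidirectProduct.mul_right, SemidirectProduct.inv_right,
      rightHom_eq_one hpq hU'p w hw, mul_one, mul_inv_cancel, SemidirectProduct.right_inl]
  let W : Subgroup P₀ := U'.comap ((MulAut.conj x⁻¹).toMonoidHom.comp SemidirectProduct.inl)
  have hWmem : ∀ z : P₀, z ∈ W ↔ x⁻¹ * SemidirectProduct.inl z * x⁻¹⁻¹ ∈ U' := fun z => Iff.rfl
  obtain ⟨z, hz⟩ := hleft (v : P₀ ⋊[θ] Multiplicative (ZMod (q ^ r))) ⟨v, hv, rfl⟩
  have hzW : z ∈ W := by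
    rw [hWmem, ← hz]
    have e : x⁻¹ * (x * (v : P₀ ⋊[θ] Multiplicative (ZMod (q ^ r))) * x⁻¹) * x⁻¹⁻¹ = v := by group
    rw [e]
    exact ⟨v, hv, rfl⟩
  suffices hfix : θ c z = z by
    have h1 := hconj c z
    rw [hfix, ← hxc, ← hz] at h1
    have h2 : x * ((g : P₀ ⋊[θ] Multiplicative (ZMod (q ^ r))) * v * (g : P₀ ⋊[θ] Multiplicative (ZMod (q ^ r)))⁻¹) * x⁻¹ =
        x * v * x⁻¹ := by
      refine Eq.trans ?_ h1
      group
    exact (mul_inv_eq_iff_eq_mul.mp (mul_left_cancel (mul_right_cancel h2))).symm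
  rw [hθ]
  by_cases hdiv : q ∣ (Multiplicative.toAdd c).val
  · rw [pow_mod hs.pow_eq, Nat.mod_eq_zero_of_dvd hdiv]
    rfl
  refine (hs.pow (hq.out.coprime_iff_not_dvd.mpr hdiv).symm).inv_fixed W (fun w hw => ?_) (fun e => hK ?_) z hzW
  · rw [← hθ, hWmem, ← hconj, ← hxc]
    obtain ⟨w', hw', hw'e⟩ := (hWmem w).mp hw
    have e : x⁻¹ * (x * (g : P₀ ⋊[θ] Multiplicative (ZMod (q ^ r))) * x⁻¹ * SemidirectProduct.inl w *
        (x * (g : P₀ ⋊[θ] Multiplicative (ZMod (q ^ r))) * x⁻¹)⁻¹) * x⁻¹⁻¹ =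
        (g : P₀ ⋊[θ] Multiplicative (ZMod (q ^ r))) * (x⁻¹ * SemidirectProduct.inl w * x⁻¹⁻¹) *
          (g : P₀ ⋊[θ] Multiplicative (ZMod (q ^ r)))⁻¹ := by group
    rw [e, ← hw'e]
    exact ⟨g * w' * g⁻¹, Grp.mem_conj_normalizer hg hw', rfl⟩
  · set K' := K.map (MulAut.conj x).toMonoidHom with hK'
    suffices h : K' = ⊤ by
      refine Subgroup.map_injective (MulAut.conj x).injective (h.trans ?_)
      rw [Subgroup.map_top_of_surjective _ (MulAut.conj x).surjective]
    have hinl : ∀ w, SemidirectProduct.inl w ∈ K' := fun w => by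
      have hw : x⁻¹ * SemidirectProduct.inl w * x⁻¹⁻¹ ∈ U' := (hWmem w).mp (e ▸ Subgroup.mem_top w)
      refine ⟨_, Subgroup.map_subtype_le U hw, ?_⟩
      show x * (x⁻¹ * SemidirectProduct.inl w * x⁻¹⁻¹) * x⁻¹ = _
      group
    have hc : SemidirectProduct.inr c ∈ K' := ⟨g, g.2, hxc⟩
    have hgen : ∀ d : Multiplicative (ZMod (q ^ r)), d ∈ Subgroup.zpowers c := by
      intro d
      obtain ⟨i, hi⟩ : IsUnit (Multiplicative.toAdd c) := by
        rw [← ZMod.natCast_zmod_val (Multiplicative.toAdd c), ZMod.isUnit_iff_coprime]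
        exact (hq.out.coprime_iff_not_dvd.mpr hdiv).symm.pow_right r
      refine ⟨((Multiplicative.toAdd d * (↑i⁻¹ : ZMod (q ^ r))).val : ℤ), ?_⟩
      apply Multiplicative.toAdd.injective
      show Multiplicative.toAdd (c ^ _) = _
      rw [zpow_natCast, toAdd_pow, nsmul_eq_mul, ZMod.natCast_zmod_val, ← hi, mul_assoc, Units.inv_mul, mul_one]
    refine eq_top_iff.mpr fun w _ => ?_
    rw [← SemidirectProduct.inl_left_mul_inr_right w]
    refine K'.mul_mem (hinl _) ?_
    obtain ⟨i, hi⟩ := hgen w.right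
    rw [← hi, map_zpow]
    exact K'.zpow_mem hc i

/-- The model maps onto a group with the same data. -/
theorem exists_hom [NeZero (q ^ r)] {θ : Multiplicative (ZMod (q ^ r)) →* MulAut P₀}
    (hθ : ∀ c, θ c = α₀ ^ (Multiplicative.toAdd c).val) {X : Type*} [Group X] [Finite X] {P : Subgroup X}
    {y : X} (hy : orderOf y = q ^ r) (htop : P ⊔ Subgroup.zpowers y = ⊤) (φ : P₀ →* P)
    (hφ : Function.Surjective φ) (hP : IsPGroup p P) (hpq : p ≠ q)
    (hcompat : ∀ u, (φ (α₀ u) : X) = y * φ u * y⁻¹) (hker : ∀ u ∈ φ.ker, u ∈ Subgroup.center P₀ ∧ α₀ u = u) :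
    ∃ ψ : P₀ ⋊[θ] Multiplicative (ZMod (q ^ r)) →* X,
      Function.Surjective ψ ∧ ψ.ker ≤ Subgroup.center (P₀ ⋊[θ] Multiplicative (ZMod (q ^ r))) := by
  let f : Multiplicative (ZMod (q ^ r)) →* X :=
    { toFun := fun c => y ^ (Multiplicative.toAdd c).val
      map_one' := by simp
      map_mul' := fun c d => by
        rw [← pow_add, toAdd_mul, ZMod.val_add]
        conv_rhs => rw [← pow_mod_orderOf, hy] }
  have hpw : ∀ (n : ℕ) u, (φ ((α₀ ^ n) u) : X) = y ^ n * φ u * (y ^ n)⁻¹ := by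
    intro n
    induction n with
    | zero => intro u; simp
    | succ n ih => intro u; rw [pow_succ', MulAut.mul_apply, hcompat, ih]; group
  let ψ : P₀ ⋊[θ] Multiplicative (ZMod (q ^ r)) →* X :=
    SemidirectProduct.lift (P.subtype.comp φ) f (fun c => MonoidHom.ext fun u => by
      show (φ (θ c u) : X) = y ^ _ * φ u * (y ^ _)⁻¹
      rw [hθ, hpw])
  refine ⟨ψ, ?_, fun w hw => ?_⟩
  · rw [← MonoidHom.range_eq_top, eq_top_iff, ← htop]
    refine sup_le (fun v hv => ?_) (Subgroup.zpowers_le.mpr ?_)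
    · obtain ⟨u, hu⟩ := hφ ⟨v, hv⟩
      exact ⟨SemidirectProduct.inl u, by rw [SemidirectProduct.lift_inl]; exact congrArg Subtype.val hu⟩
    · refine ⟨SemidirectProduct.inr (Multiplicative.ofAdd 1), ?_⟩
      rw [SemidirectProduct.lift_inr]
      show y ^ (1 : ZMod (q ^ r)).val = y
      rw [ZMod.val_one_eq_one_mod, ← hy, pow_mod_orderOf, pow_one]
  · rw [MonoidHom.mem_ker] at hw
    have h1 : (φ w.left : X) * y ^ (Multiplicative.toAdd w.right).val = 1 := hw
    have h2 : y ^ (Multiplicative.toAdd w.right).val = 1 := by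
      have hmem : y ^ (Multiplicative.toAdd w.right).val ∈ P := by
        rw [eq_inv_of_mul_eq_one_right h1]; exact inv_mem (φ w.left).2
      obtain ⟨i, hi⟩ := IsPGroup.iff_orderOf.mp hP ⟨_, hmem⟩
      rw [Subgroup.orderOf_mk] at hi
      exact orderOf_eq_one_iff.mp (Nat.eq_one_of_dvd_coprimes
        (((coprime_of_dvd_pow (r := r) hpq dvd_rfl).symm).pow_left i) hi.dvd
        ((orderOf_pow_dvd _).trans hy.dvd))
    have hright : w.right = 1 := by
      have hd := orderOf_dvd_of_pow_eq_one h2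
      rw [hy] at hd
      have h3 : (Multiplicative.toAdd w.right).val = 0 := Nat.eq_zero_of_dvd_of_lt hd (ZMod.val_lt _)
      exact (ZMod.val_eq_zero _).mp h3
    rw [h2, mul_one] at h1
    obtain ⟨hc, hf⟩ := hker w.left (Subtype.ext h1)
    refine Subgroup.mem_center_iff.mpr fun v => SemidirectProduct.ext ?_ ?_
    · rw [SemidirectProduct.mul_left, SemidirectProduct.mul_left, hright, map_one, MulAut.one_apply, hθ,
        pow_apply_fixed hf, Subgroup.mem_center_iff.mp hc v.left]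
    · rw [SemidirectProduct.mul_right, SemidirectProduct.mul_right, hright, mul_one, one_mul]

end helpers

/-- Let p ≠ q be primes, r ≥ 1, a the multiplicative order of p modulo q, and a₀ = a when a is odd, a₀ = 3a/2 when a is even. Call a finite group minimal non-p-nilpotent when it has no normal p-complement but every proper subgroup has one. Then there is a minimal non-p-nilpotent group G₀ of order p^a₀ · q^r such that every minimal non-p-nilpotent group of order p^t · q^r (any t) is a quotient of G₀ by a central subgroup. -/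
theorem result (p q r : ℕ) [Fact p.Prime] [Fact q.Prime] (hpq : p ≠ q) (hr : 1 ≤ r) (a a₀ : ℕ)
    (ha : a = orderOf (p : ZMod q)) (ha₀ : a₀ = if a % 2 = 1 then a else 3 * a / 2) :
    ∃ (G₀ : Type u) (_ : Group G₀) (_ : Finite G₀),
      (¬ Cfsg.HasNormalPComplement p G₀ ∧ ∀ K : Subgroup G₀, K ≠ ⊤ → Cfsg.HasNormalPComplement p ↥K) ∧ Nat.card G₀ = p ^ a₀ * q ^ r ∧
      ∀ (X : Type u) [Group X] [Finite X], (¬ Cfsg.HasNormalPComplement p X ∧ ∀ K : Subgroup X, K ≠ ⊤ → Cfsg.HasNormalPComplement p ↥K) →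
        (∃ t : ℕ, Nat.card X = p ^ t * q ^ r) → ∃ φ : G₀ →* X, Function.Surjective φ ∧ φ.ker ≤ Subgroup.center G₀ := by

  classical
  haveI : NeZero (q ^ r) := ⟨pow_ne_zero _ (Fact.out : q.Prime).ne_zero⟩
  obtain ⟨ζ, hζ⟩ := exists_zeta hpq ha
  obtain ⟨P₀, iG, iF, α₀, π₀, hM⟩ := exists_model hpq ha hζ
  obtain ⟨θ, hθ⟩ := exists_action hr hM.2.1.pow_eq
  haveI : Finite (P₀ ⋊[θ] Multiplicative (ZMod (q ^ r))) := Finite.of_equiv _ SemidirectProduct.equivProd.symm
  let e : ULift.{u} (P₀ ⋊[θ] Multiplicative (ZMod (q ^ r))) ≃* P₀ ⋊[θ] Multiplicative (ZMod (q ^ r)) := MulEquiv.ulift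
  obtain ⟨hmin1, hmin2⟩ := isMinimal_model hpq hr hM.2.1 hθ
  refine ⟨ULift.{u} (P₀ ⋊[θ] Multiplicative (ZMod (q ^ r))), inferInstance, inferInstance,
    ⟨fun h => hmin1 ((hasNormalPComplement_congr e).mp h), fun K hK => ?_⟩, ?_, ?_⟩
  · refine (hasNormalPComplement_congr (K.equivMapOfInjective e.toMonoidHom e.injective)).mpr
      (hmin2 _ fun h => hK ?_)
    refine Subgroup.map_injective e.injective (h.trans ?_)
    rw [Subgroup.map_top_of_surjective _ e.surjective]
  · rw [Nat.card_congr e.toEquiv, Nat.card_congr SemidirectProduct.equivProd, Nat.card_prod, hM.1,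
      Nat.card_congr Multiplicative.toAdd, Nat.card_zmod, ha₀]
  rintro X _ _ ⟨hnot, hprop⟩ ⟨t, ht⟩
  obtain ⟨P, y, α, hα, hy, htop, hs⟩ := exists_structure hpq hnot hprop ht
  obtain ⟨j, φ, hj, hφ, hcompat, hker⟩ := exists_universal hpq ha hζ hM hs
  have hy' : orderOf (y ^ j) = q ^ r := by
    rw [orderOf_pow, hy, (Nat.Coprime.pow_left r hj.symm).gcd_eq_one, Nat.div_one]
  have htop' : P ⊔ Subgroup.zpowers (y ^ j) = ⊤ := by
    rw [← htop]
    congr 1
    refine Subgroup.eq_of_le_of_card_ge (Subgroup.zpowers_le.mpr (pow_mem (Subgroup.mem_zpowers y) j)) ?_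
    rw [Nat.card_zpowers, Nat.card_zpowers, hy', hy]
  have hαj : ∀ (n : ℕ) (v : P), (((α ^ n) v : P) : X) = y ^ n * v * (y ^ n)⁻¹ := by
    intro n
    induction n with
    | zero => intro v; simp
    | succ n ih => intro v; rw [pow_succ', MulAut.mul_apply, hα, ih]; group
  obtain ⟨ψ, hψ, hψk⟩ := exists_hom hθ hy' htop' φ hφ hs.pgroup hpq
    (fun u => by rw [hcompat, hαj]) (fun u hu => hM.2.2.2.2 u (hker hu))
  refine ⟨ψ.comp e.toMonoidHom, hψ.comp e.surjective, fun w hw => ?_⟩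
  refine Subgroup.mem_center_iff.mpr fun v => e.injective ?_
  rw [map_mul, map_mul]
  exact Subgroup.mem_center_iff.mp (hψk (show e w ∈ ψ.ker from hw)) (e v)

end Cfsg.Agent.S4395
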