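import Cfsg.Statements.S4397
import Mathlib
import Cfsg.Agent.Lib.Grp.Basic
import Cfsg.Agent.Lib.Grp.Frattini

set_option maxHeartbeats 1000000
set_option maxRecDepth 8000

set_option autoImplicit false
open Cfsg
open scoped commutatorElement Pointwise

namespace Cfsg.Agent.S4397

universe u

theorem isCyclic_of_involutions {Q : Type*} [CommGroup Q] [Finite Q] (hQ : IsPGroup 2 Q)
    (h : ∀ u v : Q, u ^ 2 = 1 → v ^ 2 = 1 → u ≠ 1 → v ≠ 1 → u = v) : IsCyclic Q := by
  classical
  haveI := Fintype.ofFinite Q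
  have key : ∀ k : ℕ, Nat.card (powMonoidHom (2 ^ k) : Q →* Q).ker ≤ 2 ^ k := by
    intro k
    induction k with
    | zero =>
      have : (powMonoidHom (2 ^ 0) : Q →* Q).ker = ⊥ := by ext x; simp
      rw [this, Subgroup.card_bot, pow_zero]
    | succ k ih =>
      let f : (powMonoidHom (2 ^ (k + 1)) : Q →* Q).ker →* (powMonoidHom (2 ^ k) : Q →* Q).ker :=
        { toFun := fun x => ⟨(x : Q) ^ 2, by
            have := x.2
            rw [MonoidHom.mem_ker, powMonoidHom_apply] at this ⊢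
            rwa [← pow_mul, ← pow_succ']⟩
          map_one' := Subtype.ext (one_pow 2)
          map_mul' := fun a b => Subtype.ext (mul_pow (a : Q) b 2) }
      have hker : Nat.card f.ker ≤ 2 := by
        by_cases he : ∀ x : f.ker, x = 1
        · haveI : Subsingleton f.ker := ⟨fun a b => (he a).trans (he b).symm⟩
          rw [Nat.card_of_subsingleton (1 : f.ker)]; omega
        · push Not at he
          obtain ⟨u, hu⟩ := he
          have h1 : ∀ x : f.ker, ((x : (powMonoidHom (2 ^ (k + 1)) : Q →* Q).ker) : Q) ^ 2 = 1 := fun x =>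
            congrArg Subtype.val x.2
          have hle : (Set.univ : Set f.ker) ⊆ {1, u} := fun x _ => by
            by_cases hx : x = 1
            · exact Or.inl hx
            · exact Or.inr (Subtype.ext (Subtype.ext (h _ _ (h1 x) (h1 u)
                (fun e => hx (Subtype.ext (Subtype.ext e))) (fun e => hu (Subtype.ext (Subtype.ext e))))))
          have := Set.ncard_le_ncard hle
          rw [Set.ncard_univ] at this
          exact this.trans ((Set.ncard_insert_le _ _).trans (by rw [Set.ncard_singleton]))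
      have h2 := Subgroup.card_mul_index f.ker
      rw [Subgroup.index_ker] at h2
      have h3 := Subgroup.card_le_card_group f.range
      calc Nat.card (powMonoidHom (2 ^ (k + 1)) : Q →* Q).ker = Nat.card f.ker * Nat.card f.range := h2.symm
        _ ≤ 2 * 2 ^ k := Nat.mul_le_mul hker (h3.trans ih)
        _ = 2 ^ (k + 1) := by ring
  refine isCyclic_of_card_pow_eq_one_le fun n hn => ?_
  obtain ⟨m, hm⟩ := hQ.exists_card_eq
  obtain ⟨v, -, hv⟩ := (Nat.dvd_prime_pow Nat.prime_two).1 (Nat.gcd_dvd_right n (2 ^ m))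
  have hle : (({a | a ^ n = 1} : Finset Q) : Set Q) ⊆ ((powMonoidHom (2 ^ v) : Q →* Q).ker : Set Q) := fun a ha => by
    rw [Finset.coe_filter] at ha
    rw [SetLike.mem_coe, MonoidHom.mem_ker, powMonoidHom_apply, ← hv]
    exact pow_gcd_eq_one.2 ⟨ha.2, by rw [← hm, pow_card_eq_one']⟩
  have h1 := Set.ncard_le_ncard hle
  rw [Set.ncard_coe_finset, ← Nat.card_coe_set_eq] at h1
  exact h1.trans ((key v).trans (hv ▸ Nat.gcd_le_left _ hn))

/-- Every elementary abelian subgroup has order at most four. -/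
theorem card_le_four {S : Type*} [Group S] [Finite S] (hr : Cfsg.SectionalPRankLE 2 2 S) (A : Subgroup S)
    (hc : ∀ a ∈ A, ∀ b ∈ A, a * b = b * a) (he : ∀ a ∈ A, a ^ 2 = 1) : Nat.card A ≤ 4 := by
  have h := hr A ⊥ ⊤ ⟨⟨fun a b => Subtype.ext (by
    obtain ⟨a', ha⟩ := QuotientGroup.mk'_surjective (⊥ : Subgroup A) a.1
    obtain ⟨b', hb⟩ := QuotientGroup.mk'_surjective (⊥ : Subgroup A) b.1
    show a.1 * b.1 = b.1 * a.1
    rw [← ha, ← hb, ← map_mul, ← map_mul]
    exact congrArg _ (Subtype.ext (hc _ a'.2 _ b'.2)))⟩⟩ (fun a _ => by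
    obtain ⟨a', rfl⟩ := QuotientGroup.mk'_surjective (⊥ : Subgroup A) a
    rw [← map_pow, show a' ^ 2 = 1 from Subtype.ext (he _ a'.2), map_one])
  rwa [Subgroup.card_top, ← Subgroup.index_eq_card, Subgroup.index_bot] at h

theorem metacyclic_of_generator {S : Type*} [Group S] (N : Subgroup S) [hN : N.Normal] (hcyc : IsCyclic N) (x : S)
    (hx : N ⊔ Subgroup.zpowers x = ⊤) : Cfsg.IsMetacyclic S := by
  refine ⟨N, hN, hcyc, QuotientGroup.mk' N x, fun q => ?_⟩
  obtain ⟨g, rfl⟩ := QuotientGroup.mk'_surjective N q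
  have hg : g ∈ N ⊔ Subgroup.zpowers x := hx ▸ Subgroup.mem_top g
  have h1 := Subgroup.mem_map_of_mem (QuotientGroup.mk' N) hg
  rw [Subgroup.map_sup, QuotientGroup.map_mk'_self, bot_sup_eq, MonoidHom.map_zpowers] at h1
  exact h1

theorem exists_gen {S : Type*} [Group S] (N : Subgroup S) [N.Normal] (h : IsCyclic (S ⧸ N)) :
    ∃ x : S, N ⊔ Subgroup.zpowers x = ⊤ := by
  obtain ⟨q, hq⟩ := h.exists_generator
  obtain ⟨x, rfl⟩ := QuotientGroup.mk'_surjective N q
  refine ⟨x, eq_top_iff.2 fun g _ => ?_⟩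
  obtain ⟨k, hk⟩ := hq (QuotientGroup.mk' N g)
  have h1 : x ^ (-k) * g ∈ N := by
    rw [← QuotientGroup.eq_one_iff]
    show QuotientGroup.mk' N (x ^ (-k) * g) = 1
    rw [map_mul, map_zpow, zpow_neg, ← hk, inv_mul_cancel]
  rw [show g = x ^ k * (x ^ (-k) * g) by group]
  exact mul_mem (Subgroup.mem_sup_right (zpow_mem (Subgroup.mem_zpowers x) k)) (Subgroup.mem_sup_left h1)

theorem abelian_case {S : Type u} [CommGroup S] [Finite S] (h2 : IsPGroup 2 S) (hr : Cfsg.SectionalPRankLE 2 2 S) :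
    Cfsg.IsMetacyclic S := by
  classical
  obtain ⟨a, ha⟩ := Finite.exists_max (fun g : S => orderOf g)
  refine ⟨Subgroup.zpowers a, inferInstance, inferInstance, ?_⟩
  have hlift : ∀ u : S ⧸ Subgroup.zpowers a, u ^ 2 = 1 → ∃ b : S, b ^ 2 = 1 ∧ QuotientGroup.mk' _ b = u := by
    intro u hu
    obtain ⟨b, rfl⟩ := QuotientGroup.mk'_surjective _ u
    by_cases hb2 : b ^ 2 = 1
    · exact ⟨b, hb2, rfl⟩
    rw [← map_pow, QuotientGroup.mk'_apply, QuotientGroup.eq_one_iff, mem_zpowers_iff_mem_range_orderOf] at hu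
    obtain ⟨i, -, hi⟩ := Finset.mem_image.1 hu
    rcases Nat.even_or_odd i with ⟨j, hj⟩ | hodd
    · refine ⟨b * (a ^ j)⁻¹, ?_, ?_⟩
      · rw [mul_pow, ← hi, inv_pow, ← pow_mul, hj, show j * 2 = j + j by ring, mul_inv_cancel]
      · rw [map_mul, map_inv, show QuotientGroup.mk' (Subgroup.zpowers a) (a ^ j) = 1 from
          (QuotientGroup.eq_one_iff _).2 (pow_mem (Subgroup.mem_zpowers a) j), inv_one, mul_one]
    · exfalso
      obtain ⟨m, hm⟩ := IsPGroup.iff_orderOf.1 h2 a
      obtain ⟨j, hj⟩ := IsPGroup.iff_orderOf.1 h2 b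
      have h1 : orderOf (b ^ 2) = orderOf a := by
        rw [← hi]
        exact Nat.Coprime.orderOf_pow (by rw [hm]; exact Nat.Coprime.pow_left _ (Nat.coprime_two_left.2 hodd))
      rcases j with _ | j
      · rw [pow_zero, orderOf_eq_one_iff] at hj
        exact hb2 (by rw [hj, one_pow])
      · rw [orderOf_pow' _ (by norm_num : (2 : ℕ) ≠ 0), hj, pow_succ', Nat.gcd_eq_right (dvd_mul_right 2 _),
          Nat.mul_div_cancel_left _ (by norm_num : 0 < 2)] at h1
        have h3 := ha b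
        rw [hj, ← h1, pow_succ'] at h3
        have := Nat.two_pow_pos j
        omega
  refine isCyclic_of_involutions (h2.to_quotient _) fun u v hu hv hu1 hv1 => ?_
  by_contra hne
  obtain ⟨b, hb, rfl⟩ := hlift u hu
  obtain ⟨c, hc, rfl⟩ := hlift v hv
  obtain ⟨m, hm⟩ := IsPGroup.iff_orderOf.1 h2 a
  rcases m with _ | m
  · rw [pow_zero, orderOf_eq_one_iff] at hm
    have hb1 : b = 1 := orderOf_eq_one_iff.1 (le_antisymm (by have := ha b; rwa [hm, orderOf_one] at this) (orderOf_pos b))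
    exact hu1 (by rw [hb1, map_one])
  have ha0 : (a ^ 2 ^ m) ^ 2 = 1 := by rw [← pow_mul, ← pow_succ, ← hm, pow_orderOf_eq_one]
  have ha1 : a ^ 2 ^ m ≠ 1 := fun e => by
    have := orderOf_dvd_of_pow_eq_one e
    rw [hm, Nat.pow_dvd_pow_iff_le_right (le_refl 2)] at this
    omega
  let E : Subgroup S := (powMonoidHom 2 : S →* S).ker
  have hE : Nat.card E ≤ 4 := card_le_four hr E (fun x _ y _ => mul_comm x y) (fun x hx => hx)
  have hz : ∀ x ∈ Subgroup.zpowers a, QuotientGroup.mk' (Subgroup.zpowers a) x = 1 := fun x hx => (QuotientGroup.eq_one_iff x).2 hx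
  have haq : QuotientGroup.mk' (Subgroup.zpowers a) (a ^ 2 ^ m) = 1 := hz _ (pow_mem (Subgroup.mem_zpowers a) _)
  classical
  have hsub : (({1, a ^ 2 ^ m, b, c, b * c} : Finset S) : Set S) ⊆ E := by
    intro x hx
    simp only [Finset.coe_insert, Finset.coe_singleton, Set.mem_insert_iff, Set.mem_singleton_iff] at hx
    show x ^ 2 = 1
    rcases hx with rfl | rfl | rfl | rfl | rfl
    · exact one_pow 2
    · exact ha0
    · exact hb
    · exact hc
    · rw [mul_pow, hb, hc, one_mul]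
  have hbc : QuotientGroup.mk' (Subgroup.zpowers a) (b * c) ≠ 1 := fun e => hne (by
    rw [map_mul] at e
    calc _ = QuotientGroup.mk' (Subgroup.zpowers a) b * (QuotientGroup.mk' (Subgroup.zpowers a) c) ^ 2 := by rw [hv, mul_one]
      _ = _ := by rw [pow_two, ← mul_assoc, e, one_mul])
  have hcard : ({1, a ^ 2 ^ m, b, c, b * c} : Finset S).card = 5 := by
    have n1 : b ≠ 1 := fun e => hu1 (by rw [e, map_one])
    have n2 : c ≠ 1 := fun e => hv1 (by rw [e, map_one])
    have n3 : b * c ≠ 1 := fun e => hbc (by rw [e, map_one])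
    have n4 : a ^ 2 ^ m ≠ b := fun e => hu1 (by rw [← e, haq])
    have n5 : a ^ 2 ^ m ≠ c := fun e => hv1 (by rw [← e, haq])
    have n6 : a ^ 2 ^ m ≠ b * c := fun e => hbc (by rw [← e, haq])
    have n7 : b ≠ c := fun e => hne (by rw [e])
    have n8 : b ≠ b * c := fun e => n2 (mul_left_cancel (e.symm.trans (mul_one b).symm))
    have n9 : c ≠ b * c := fun e => n1 (mul_right_cancel (e.symm.trans (one_mul c).symm))
    simp [Ne.symm n1, Ne.symm n2, Ne.symm n3, Ne.symm ha1, n4, n5, n6, n7, n8, n9]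
  have h5 := Set.ncard_le_ncard hsub
  rw [Set.ncard_coe_finset, hcard, ← Nat.card_coe_set_eq] at h5
  exact absurd (h5.trans hE) (by norm_num)

theorem main_aux (n : ℕ) : ∀ (S : Type u) [Group S] [Finite S], Nat.card S = n → IsPGroup 2 S →
    Cfsg.SectionalPRankLE 2 2 S → Cfsg.IsMetacyclic S := by
  induction n using Nat.strong_induction_on with
  | _ n ih =>
  intro S _ _ hn h2 hr
  classical
  by_cases hab : ∀ a b : S, a * b = b * a
  · exact @abelian_case S { (inferInstance : Group S) with mul_comm := hab } _ h2 hr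
  -- a central involution in the derived subgroup
  haveI hnil := h2.isNilpotent
  obtain ⟨z, hzc, hz2, hz1, hzd⟩ : ∃ z : S, z ∈ Subgroup.center S ∧ z ^ 2 = 1 ∧ z ≠ 1 ∧ z ∈ commutator S := by
    have hne : commutator S ≠ ⊥ := fun e => hab fun a b => by
      rw [← commutatorElement_eq_one_iff_mul_comm, ← Subgroup.mem_bot, ← e]
      exact Subgroup.commutator_mem_commutator (Subgroup.mem_top a) (Subgroup.mem_top b)
    haveI : Nontrivial (commutator S) := (Subgroup.nontrivial_iff_ne_bot _).2 hne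
    have hne2 : commutator S ⊓ Subgroup.center S ≠ ⊥ := Grp.inf_center_ne_bot (commutator S) hne
    obtain ⟨x, hx, hx1⟩ := (Subgroup.bot_or_exists_ne_one _).resolve_left hne2
    obtain ⟨k, hk⟩ := IsPGroup.iff_orderOf.1 h2 x
    rcases k with _ | k
    · exact absurd (orderOf_eq_one_iff.1 (by rw [hk, pow_zero])) hx1
    refine ⟨x ^ 2 ^ k, pow_mem hx.2 _, by rw [← pow_mul, ← pow_succ, ← hk, pow_orderOf_eq_one], fun e => ?_, pow_mem hx.1 _⟩
    have := orderOf_dvd_of_pow_eq_one e
    rw [hk, Nat.pow_dvd_pow_iff_le_right (le_refl 2)] at this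
    omega
  have hzc' : ∀ g : S, g * z = z * g := fun g => Subgroup.mem_center_iff.1 hzc g
  let Z := Subgroup.zpowers z
  haveI : Z.Normal := ⟨fun x hx g => by
    have hx' : x ∈ Subgroup.center S := (Subgroup.zpowers_le.2 hzc) hx
    rwa [Subgroup.mem_center_iff.1 hx' g, mul_inv_cancel_right]⟩
  have hZcard : Nat.card Z = 2 := by rw [Nat.card_zpowers, orderOf_eq_prime hz2 hz1]
  have hZ : ∀ x ∈ Z, x = 1 ∨ x = z := fun x hx => by
    obtain ⟨i, -, hi⟩ := Finset.mem_image.1 (mem_zpowers_iff_mem_range_orderOf.1 hx)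
    rcases Nat.even_or_odd i with ⟨j, hj⟩ | ⟨j, hj⟩
    · left; rw [← hi, hj, ← two_mul, pow_mul, hz2, one_pow]
    · right; rw [← hi, hj, pow_succ, pow_mul, hz2, one_pow, one_mul]
  have hlt : Nat.card (S ⧸ Z) < n := by
    rw [← hn, Subgroup.card_eq_card_quotient_mul_card_subgroup Z, hZcard]
    have := Nat.card_pos (α := S ⧸ Z); omega
  have hrq : Cfsg.SectionalPRankLE 2 2 (S ⧸ Z) := by
    intro H N _ A hA hexp
    let f := (QuotientGroup.mk' N).comp ((QuotientGroup.mk' Z).subgroupComap H)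
    have hf : Function.Surjective f := (QuotientGroup.mk'_surjective N).comp
      ((QuotientGroup.mk' Z).subgroupComap_surjective_of_surjective H (QuotientGroup.mk'_surjective Z))
    let e := QuotientGroup.quotientKerEquivOfSurjective f hf
    have h := hr (H.comap (QuotientGroup.mk' Z)) f.ker (A.map e.symm.toMonoidHom)
      ⟨⟨by
        rintro ⟨_, a, ha, rfl⟩ ⟨_, b, hb, rfl⟩
        refine Subtype.ext ?_
        show e.symm a * e.symm b = e.symm b * e.symm a
        rw [← map_mul, ← map_mul]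
        exact congrArg e.symm (congrArg Subtype.val (hA.is_comm.comm ⟨a, ha⟩ ⟨b, hb⟩))⟩⟩
      (by rintro _ ⟨a, ha, rfl⟩; rw [← map_pow, hexp a ha, map_one])
    rwa [Subgroup.card_map_of_injective e.symm.injective] at h
  obtain ⟨Nq, hNn, hNc, hQc⟩ := ih _ hlt (S ⧸ Z) rfl (h2.to_quotient Z) hrq
  haveI := hNn
  let A := Nq.comap (QuotientGroup.mk' Z)
  obtain ⟨x', hx'⟩ := exists_gen Nq hQc
  obtain ⟨x, rfl⟩ := QuotientGroup.mk'_surjective Z x'
  obtain ⟨⟨a', ha'⟩, hagen⟩ := hNc.exists_generator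
  obtain ⟨a, rfl⟩ := QuotientGroup.mk'_surjective Z a'
  have hZA : Z ≤ A := fun y hy => by
    show QuotientGroup.mk' Z y ∈ Nq
    rw [show QuotientGroup.mk' Z y = 1 from (QuotientGroup.eq_one_iff y).2 hy]
    exact one_mem _
  have hAeq : A = Subgroup.zpowers a ⊔ Z := by
    refine le_antisymm (fun y hy => ?_) (sup_le (Subgroup.zpowers_le.2 ha') hZA)
    obtain ⟨k, hk⟩ := hagen ⟨_, hy⟩
    have hk' : (QuotientGroup.mk' Z a) ^ k = QuotientGroup.mk' Z y := congrArg Subtype.val hk
    have h1 : a ^ (-k) * y ∈ Z := by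
      rw [← QuotientGroup.eq_one_iff]
      show QuotientGroup.mk' Z (a ^ (-k) * y) = 1
      rw [map_mul, map_zpow, zpow_neg, hk', inv_mul_cancel]
    rw [show y = a ^ k * (a ^ (-k) * y) by group]
    exact mul_mem (Subgroup.mem_sup_left (zpow_mem (Subgroup.mem_zpowers a) k)) (Subgroup.mem_sup_right h1)
  have hAx : A ⊔ Subgroup.zpowers x = ⊤ := by
    have h1 := congrArg (Subgroup.comap (QuotientGroup.mk' Z)) hx'
    rw [← MonoidHom.map_zpowers, ← Subgroup.map_comap_eq_self_of_surjective (QuotientGroup.mk'_surjective Z) Nq,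
      ← Subgroup.map_sup, Subgroup.comap_map_eq, Subgroup.comap_top, QuotientGroup.ker_mk'] at h1
    rwa [sup_right_comm, sup_of_le_left hZA] at h1
  haveI hAn : A.Normal := inferInstance
  by_cases hzA : z ∈ Subgroup.zpowers a
  · refine metacyclic_of_generator A ?_ x hAx
    rw [hAeq, sup_of_le_left (Subgroup.zpowers_le.2 hzA)]
    infer_instance
  have hAab : ∀ u ∈ A, Commute a u := fun u hu => by
    rw [hAeq, Subgroup.mem_sup_of_normal_right] at hu
    obtain ⟨y, hy, w, hw, rfl⟩ := hu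
    obtain ⟨k, rfl⟩ := hy
    exact (Commute.zpow_right (Commute.refl a) k).mul_right
      (Subgroup.mem_center_iff.1 (Subgroup.zpowers_le.2 hzc hw) a)
  let c := ⁅x, a⁆
  have hcA : c ∈ A := by
    show x * a * x⁻¹ * a⁻¹ ∈ A
    exact A.mul_mem (hAn.conj_mem a ha' x) (A.inv_mem ha')
  -- `c = z`
  have hcz : c = z := by
    obtain ⟨y, hy, w, hw, hyw⟩ := (Subgroup.mem_sup_of_normal_right (s := Subgroup.zpowers a) (t := Z)).1 (hAeq ▸ hcA)
    obtain ⟨i, hi⟩ := Subgroup.mem_zpowers_iff.1 hy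
    have hconj : x * c * x⁻¹ = c ^ (1 + i) := by
      have h1 : x * a * x⁻¹ = c * a := by simp [c, _root_.commutatorElement_def, mul_assoc]
      have hwc : w ∈ Subgroup.center S := Subgroup.zpowers_le.2 hzc hw
      calc x * c * x⁻¹ = (x * a * x⁻¹) ^ i * w := by
            rw [conj_zpow]
            conv_lhs => rw [← hyw, ← hi, ← mul_assoc, mul_assoc (x * a ^ i), ← Subgroup.mem_center_iff.1 hwc x⁻¹, ← mul_assoc]
        _ = c ^ i * a ^ i * w := by rw [h1, Commute.mul_zpow (hAab c hcA).symm]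
        _ = c ^ i * c := by rw [mul_assoc, hi, hyw]
        _ = c ^ (1 + i) := by rw [add_comm, zpow_add_one]
    let C := Subgroup.zpowers c
    haveI hCn : C.Normal := by
      rw [← Subgroup.normalizer_eq_top_iff, ← top_le_iff, ← hAx, sup_le_iff, Subgroup.zpowers_le]
      constructor
      · intro u hu
        refine Subgroup.mem_normalizer_fintype fun v hv => ?_
        obtain ⟨k, rfl⟩ := hv
        have hcu : Commute u (c ^ k) := by
          rw [hAeq, Subgroup.mem_sup_of_normal_right] at hu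
          obtain ⟨y, hy, w, hw, rfl⟩ := hu
          obtain ⟨j, rfl⟩ := hy
          exact ((Commute.zpow_left (hAab c hcA) j).mul_left
            ((Subgroup.mem_center_iff.1 (Subgroup.zpowers_le.2 hzc hw) c).symm)).zpow_right k
        rw [hcu.eq, mul_inv_cancel_right]
        exact zpow_mem (Subgroup.mem_zpowers c) k
      · refine Subgroup.mem_normalizer_fintype fun v hv => ?_
        obtain ⟨k, rfl⟩ := hv
        rw [← conj_zpow, hconj, ← zpow_mul]
        exact zpow_mem (Subgroup.mem_zpowers c) _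
    have hzC : z ∈ C := by
      let K : Subgroup (S ⧸ C) := Subgroup.closure (QuotientGroup.mk' C '' {a, x, z})
      have hcl : Subgroup.closure ({a, x, z} : Set S) = ⊤ := by
        rw [eq_top_iff, ← hAx, hAeq]
        refine sup_le (sup_le ?_ ?_) ?_ <;> refine Subgroup.zpowers_le.2 (Subgroup.subset_closure ?_) <;> simp
      have hKtop : K = ⊤ := by
        show Subgroup.closure _ = ⊤
        rw [← MonoidHom.map_closure, hcl, Subgroup.map_top_of_surjective _ (QuotientGroup.mk'_surjective C)]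
      have hcomm : ∀ p q : S ⧸ C, p * q = q * p := by
        haveI : IsMulCommutative K := Subgroup.isMulCommutative_closure (by
          have hax : QuotientGroup.mk' C x * QuotientGroup.mk' C a = QuotientGroup.mk' C a * QuotientGroup.mk' C x := by
            rw [← map_mul, ← map_mul, show x * a = c * (a * x) by simp [c, _root_.commutatorElement_def, mul_assoc],
              map_mul, show QuotientGroup.mk' C c = 1 from (QuotientGroup.eq_one_iff c).2 (Subgroup.mem_zpowers c), one_mul]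
          have hzq : ∀ g : S, QuotientGroup.mk' C g * QuotientGroup.mk' C z = QuotientGroup.mk' C z * QuotientGroup.mk' C g :=
            fun g => by rw [← map_mul, ← map_mul, hzc']
          rintro _ ⟨p, hp, rfl⟩ _ ⟨q, hq, rfl⟩
          simp only [Set.mem_insert_iff, Set.mem_singleton_iff] at hp hq
          rcases hp with rfl | rfl | rfl <;> rcases hq with rfl | rfl | rfl <;>
            first | rfl | exact hax | exact hax.symm | exact hzq _ | exact (hzq _).symm)
        intro p q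
        exact congrArg Subtype.val (mul_comm' (⟨p, hKtop ▸ Subgroup.mem_top p⟩ : K) ⟨q, hKtop ▸ Subgroup.mem_top q⟩)
      have hle : commutator S ≤ C := by
        rw [commutator_def, Subgroup.commutator_le]
        intro p _ q _
        rw [← QuotientGroup.eq_one_iff]
        show QuotientGroup.mk' C ⁅p, q⁆ = 1
        rw [map_commutatorElement, commutatorElement_eq_one_iff_mul_comm]
        exact hcomm _ _
      exact hle hzd
    obtain ⟨m, hm⟩ := hzC
    have hm' : c ^ m = z := hm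
    have h1 : a ^ (i * m) * w ^ m = z := by
      rw [← hm', ← hyw, ← hi, Commute.mul_zpow ((hAab w (hZA hw)).zpow_left i), zpow_mul]
    have hwm : w ^ m = z := by
      rcases hZ _ (zpow_mem hw m) with e | e
      · exfalso
        rw [e, mul_one] at h1
        exact hzA (h1 ▸ zpow_mem (Subgroup.mem_zpowers a) _)
      · exact e
    have hw' : w = z := (hZ w hw).resolve_left fun e => hz1 (by rw [← hwm, e, one_zpow])
    have ham : a ^ (i * m) = 1 := by rw [hwm] at h1; exact mul_eq_right.1 h1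
    have hmodd : Odd m := by
      rcases Int.even_or_odd m with ⟨j, hj⟩ | h
      · exfalso; refine hz1 ?_
        rw [← hwm, hw', hj, ← two_mul, zpow_mul, zpow_ofNat, hz2, one_zpow]
      · exact h
    obtain ⟨k, hk⟩ := IsPGroup.iff_orderOf.1 h2 (a ^ i)
    have hai : a ^ i = 1 := by
      have hd : ((2 ^ k : ℕ) : ℤ) ∣ m := by
        rw [← hk, orderOf_dvd_iff_zpow_eq_one, ← zpow_mul, ham]
      rcases k with _ | k
      · rw [pow_zero] at hk; exact orderOf_eq_one_iff.1 hk
      · exfalso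
        obtain ⟨t, ht⟩ := hmodd
        have : (2 : ℤ) ∣ m := (show (2 : ℤ) ∣ ((2 ^ (k + 1) : ℕ) : ℤ) by push_cast; exact dvd_pow_self 2 (Nat.succ_ne_zero k)).trans hd
        omega
    rw [← hyw, ← hi, hai, one_mul, hw']
  have hxa : x * a = z * (a * x) := by rw [← hcz]; simp [c, _root_.commutatorElement_def, mul_assoc]
  have hgen : Subgroup.zpowers a ⊔ Subgroup.zpowers x ⊔ Z = ⊤ := by rw [sup_right_comm, ← hAeq, hAx]
  -- commutators lie in `Z`
  have hcommZ : ∀ g h : S, ⁅g, h⁆ ∈ Z := by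
    have hcl : ∀ g : S, g ∈ Subgroup.closure ({a, x, z} : Set S) := fun g => by
      have : g ∈ Subgroup.zpowers a ⊔ Subgroup.zpowers x ⊔ Z := hgen ▸ Subgroup.mem_top g
      exact (sup_le (sup_le (Subgroup.zpowers_le.2 (Subgroup.subset_closure (by simp))) (Subgroup.zpowers_le.2 (Subgroup.subset_closure (by simp)))) (Subgroup.zpowers_le.2 (Subgroup.subset_closure (by simp)))) this
    have key : ∀ g h : S ⧸ Z, g * h = h * g := by
      have hKtop : Subgroup.closure (QuotientGroup.mk' Z '' {a, x, z}) = ⊤ := by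
        rw [← MonoidHom.map_closure, show Subgroup.closure ({a, x, z} : Set S) = ⊤ from eq_top_iff.2 fun g _ => hcl g,
          Subgroup.map_top_of_surjective _ (QuotientGroup.mk'_surjective Z)]
      have hz' : QuotientGroup.mk' Z z = 1 := (QuotientGroup.eq_one_iff z).2 (Subgroup.mem_zpowers z)
      haveI : IsMulCommutative (Subgroup.closure (QuotientGroup.mk' Z '' {a, x, z})) := Subgroup.isMulCommutative_closure (by
        rintro _ ⟨p, hp, rfl⟩ _ ⟨q, hq, rfl⟩
        simp only [Set.mem_insert_iff, Set.mem_singleton_iff] at hp hq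
        have hax : QuotientGroup.mk' Z x * QuotientGroup.mk' Z a = QuotientGroup.mk' Z a * QuotientGroup.mk' Z x := by
          rw [← map_mul, ← map_mul, hxa, map_mul, hz', one_mul]
        rcases hp with rfl | rfl | rfl <;> rcases hq with rfl | rfl | rfl <;>
          first | rfl | exact hax | exact hax.symm | rw [hz', one_mul, mul_one])
      intro g h
      exact congrArg Subtype.val (mul_comm' (⟨g, hKtop ▸ Subgroup.mem_top g⟩ :
        Subgroup.closure (QuotientGroup.mk' Z '' {a, x, z})) ⟨h, hKtop ▸ Subgroup.mem_top h⟩)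
    intro g h
    rw [← QuotientGroup.eq_one_iff]
    show QuotientGroup.mk' Z ⁅g, h⁆ = 1
    rw [map_commutatorElement, commutatorElement_eq_one_iff_mul_comm]
    exact key _ _
  have hsq : ∀ g h : S, ∃ w ∈ Z, (g * h) ^ 2 = g ^ 2 * h ^ 2 * w := fun g h => by
    refine ⟨⁅h, g⁆, hcommZ h g, ?_⟩
    have hc : ∀ y : S, y * ⁅h, g⁆ = ⁅h, g⁆ * y := fun y =>
      Subgroup.mem_center_iff.1 (Subgroup.zpowers_le.2 hzc (hcommZ h g)) y
    calc (g * h) ^ 2 = g * (⁅h, g⁆ * (g * h)) * h := by simp [pow_two, _root_.commutatorElement_def, mul_assoc]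
      _ = _ := by rw [← hc, pow_two, pow_two]; simp only [mul_assoc]; rw [hc h]
  let Sq : Subgroup S :=
    { carrier := {g | ∃ h : S, ∃ w ∈ Z, g = h ^ 2 * w}
      one_mem' := ⟨1, 1, one_mem _, by simp⟩
      mul_mem' := by
        rintro _ _ ⟨g, v, hv, rfl⟩ ⟨h, w, hw, rfl⟩
        obtain ⟨u, hu, he⟩ := hsq g h
        refine ⟨g * h, u⁻¹ * (v * w), mul_mem (inv_mem hu) (mul_mem hv hw), ?_⟩
        have hvc : ∀ y : S, y * v = v * y := fun y => Subgroup.mem_center_iff.1 (Subgroup.zpowers_le.2 hzc hv) y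
        rw [he, mul_assoc (g ^ 2) v, ← mul_assoc v, ← hvc (h ^ 2)]
        simp [mul_assoc]
      inv_mem' := by
        rintro _ ⟨g, v, hv, rfl⟩
        refine ⟨g⁻¹, v⁻¹, inv_mem hv, ?_⟩
        rw [mul_inv_rev, inv_pow, Subgroup.mem_center_iff.1 (inv_mem (Subgroup.zpowers_le.2 hzc hv)) (g ^ 2)⁻¹] }
  -- two maximal subgroups
  have hxA : ¬ x ∈ A := fun hxA => hab fun p q => by
    have hAtop : A = ⊤ := by rw [← hAx, sup_of_le_left (Subgroup.zpowers_le.2 hxA)]
    have : z = 1 := by rw [← hcz]; exact commutatorElement_eq_one_iff_mul_comm.2 (hAab x hxA).symm.eq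
    exact absurd this hz1
  obtain ⟨M, hM, hAM⟩ := (eq_top_or_exists_le_coatom A).resolve_left fun e => hxA (e ▸ Subgroup.mem_top x)
  have hxz : Subgroup.zpowers x ⊔ Z ≠ ⊤ := fun e => by
    have : a ∈ Subgroup.centralizer ({x} : Set S) := by
      have h1 : Subgroup.zpowers x ⊔ Z ≤ Subgroup.centralizer ({x} : Set S) := sup_le
        (Subgroup.zpowers_le.2 (Subgroup.mem_centralizer_singleton_iff.2 rfl))
        (Subgroup.zpowers_le.2 (Subgroup.mem_centralizer_singleton_iff.2 (hzc' x).symm))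
      exact h1 (e ▸ Subgroup.mem_top a)
    exact hz1 (by rw [← hcz]; exact commutatorElement_eq_one_iff_mul_comm.2 (Subgroup.mem_centralizer_singleton_iff.1 this).symm)
  obtain ⟨M', hM', hxM'⟩ := (eq_top_or_exists_le_coatom _).resolve_left hxz
  haveI := Fact.mk Nat.prime_two
  obtain ⟨hMn, hMi⟩ := Grp.coatom_index_eq_of_pGroup h2 hM
  obtain ⟨hM'n, hM'i⟩ := Grp.coatom_index_eq_of_pGroup h2 hM'
  have hxM : x ∉ M := fun h => hM.1 (eq_top_iff.2 (hAx ▸ sup_le hAM (Subgroup.zpowers_le.2 h)))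
  have haM' : a ∉ M' := fun h => hM'.1 (eq_top_iff.2 (hgen ▸ sup_le (sup_le (Subgroup.zpowers_le.2 h)
    (le_sup_left.trans hxM')) (le_sup_right.trans hxM')))
  have hsqM : Sq ≤ M ⊓ M' := by
    rintro _ ⟨g, w, hw, rfl⟩
    exact ⟨M.mul_mem (Subgroup.sq_mem_of_index_two hMi g) (hAM (hZA hw)),
      M'.mul_mem (Subgroup.sq_mem_of_index_two hM'i g) (hxM' (Subgroup.mem_sup_right hw))⟩
  have hsqI : 4 ≤ Sq.index := by
    have h1 : ¬ M ≤ M ⊓ M' := fun h => haM' ((le_inf_iff.1 h).2 (hAM ha'))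
    have h4 := Subgroup.index_dvd_of_le (inf_le_left : M ⊓ M' ≤ M)
    have h5 := Subgroup.index_dvd_of_le hsqM
    have h6 := Subgroup.relIndex_mul_index (inf_le_left : M ⊓ M' ≤ M)
    rw [hMi] at h6
    have h7 : (M ⊓ M').relIndex M ≠ 1 := fun e => h1 (Subgroup.relIndex_eq_one.1 e)
    have h8 : (M ⊓ M').relIndex M ≠ 0 := Subgroup.index_ne_zero_of_finite
    have := Nat.le_of_dvd (Nat.pos_of_ne_zero Subgroup.index_ne_zero_of_finite) h5
    omega
  by_cases hroot : ∃ g, g ∉ Sq ∧ z ∈ Subgroup.zpowers g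
  · obtain ⟨g, hgSq, hzg⟩ := hroot
    obtain ⟨h, hh⟩ : ∃ h : S, Subgroup.zpowers g ⊔ Subgroup.zpowers h = ⊤ := by
      by_contra hno
      push Not at hno
      obtain ⟨N₁, hN₁, hle₁⟩ := (eq_top_or_exists_le_coatom _).resolve_left (hno a)
      obtain ⟨N₂, hN₂, hle₂⟩ := (eq_top_or_exists_le_coatom _).resolve_left (hno x)
      obtain ⟨hn₁, hi₁⟩ := Grp.coatom_index_eq_of_pGroup h2 hN₁
      obtain ⟨hn₂, hi₂⟩ := Grp.coatom_index_eq_of_pGroup h2 hN₂
      have hga : g ∈ N₁ ∧ a ∈ N₁ := ⟨hle₁ (Subgroup.mem_sup_left (Subgroup.mem_zpowers g)),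
        hle₁ (Subgroup.mem_sup_right (Subgroup.mem_zpowers a))⟩
      have hgx : g ∈ N₂ ∧ x ∈ N₂ := ⟨hle₂ (Subgroup.mem_sup_left (Subgroup.mem_zpowers g)),
        hle₂ (Subgroup.mem_sup_right (Subgroup.mem_zpowers x))⟩
      have hz1' : z ∈ N₁ := (Subgroup.zpowers_le.2 hga.1) hzg
      have hz2' : z ∈ N₂ := (Subgroup.zpowers_le.2 hgx.1) hzg
      have hxN₁ : x ∉ N₁ := fun h => hN₁.1 (eq_top_iff.2 (hgen ▸ sup_le (sup_le (Subgroup.zpowers_le.2 hga.2)
        (Subgroup.zpowers_le.2 h)) (Subgroup.zpowers_le.2 hz1')))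
      have haN₂ : a ∉ N₂ := fun h => hN₂.1 (eq_top_iff.2 (hgen ▸ sup_le (sup_le (Subgroup.zpowers_le.2 h)
        (Subgroup.zpowers_le.2 hgx.2)) (Subgroup.zpowers_le.2 hz2')))
      have hg : g ∈ A ⊔ Subgroup.zpowers x := hAx ▸ Subgroup.mem_top g
      rw [Subgroup.mem_sup_of_normal_left] at hg
      obtain ⟨u, hu, v, hv, rfl⟩ := hg
      obtain ⟨j, rfl⟩ := hv
      rw [hAeq, Subgroup.mem_sup_of_normal_right] at hu
      obtain ⟨u, hu, w, hw, rfl⟩ := hu
      obtain ⟨i, rfl⟩ := hu
      have hw1 : w ∈ N₁ := Subgroup.zpowers_le.2 hz1' hw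
      have hw2 : w ∈ N₂ := Subgroup.zpowers_le.2 hz2' hw
      have hje : Even j := by
        by_contra hodd
        obtain ⟨t, ht⟩ := Int.not_even_iff_odd.1 hodd
        refine hxN₁ ?_
        have h1 : x ^ j ∈ N₁ := (N₁.mul_mem_cancel_left (N₁.mul_mem (zpow_mem hga.2 i) hw1)).1 hga.1
        rw [ht, zpow_add_one, zpow_mul, zpow_ofNat] at h1
        exact (N₁.mul_mem_cancel_left (zpow_mem (Subgroup.sq_mem_of_index_two hi₁ x) t)).1 h1
      have hie : Even i := by
        by_contra hodd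
        obtain ⟨t, ht⟩ := Int.not_even_iff_odd.1 hodd
        refine haN₂ ?_
        have h1 : a ^ i ∈ N₂ := (N₂.mul_mem_cancel_right hw2).1 ((N₂.mul_mem_cancel_right (zpow_mem hgx.2 j)).1 hgx.1)
        rw [ht, zpow_add_one, zpow_mul, zpow_ofNat] at h1
        exact (N₂.mul_mem_cancel_left (zpow_mem (Subgroup.sq_mem_of_index_two hi₂ a) t)).1 h1
      have hsq' : ∀ y : S, y ^ 2 ∈ Sq := fun y => ⟨y, 1, one_mem _, (mul_one _).symm⟩
      obtain ⟨t, rfl⟩ := hje
      obtain ⟨s, rfl⟩ := hie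
      refine hgSq (mul_mem (mul_mem ?_ ⟨1, w, hw, by simp⟩) ?_)
      · beta_reduce; rw [← two_mul, zpow_mul, zpow_ofNat]; exact zpow_mem (hsq' a) s
      · beta_reduce; rw [← two_mul, zpow_mul, zpow_ofNat]; exact zpow_mem (hsq' x) t
    haveI : (Subgroup.zpowers g).Normal := ⟨fun y hy q => by
      have h1 : ⁅q, y⁆ ∈ Subgroup.zpowers g := Subgroup.zpowers_le.2 hzg (hcommZ q y)
      have := mul_mem h1 hy
      simpa [_root_.commutatorElement_def, mul_assoc] using this⟩
    exact metacyclic_of_generator _ inferInstance h hh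
  -- no root of `z`: an elementary abelian subgroup of order eight
  push Not at hroot
  exfalso
  have hno : ∀ (N : ℕ) (h : S) (k : ℕ), Nat.card S ≤ k + N → h ^ 2 ^ (k + 1) ≠ z := by
    intro N
    induction N with
    | zero =>
      intro h k hlt he
      obtain ⟨j, hj⟩ := IsPGroup.iff_orderOf.1 h2 h
      have h1 : 2 ^ j ≤ Nat.card S := hj ▸ Nat.le_of_dvd Nat.card_pos (orderOf_dvd_natCard h)
      have h2' : j < 2 ^ j := Nat.lt_two_pow_self
      refine hz1 (he.symm.trans ?_)
      rw [← Nat.add_sub_of_le (show j ≤ k + 1 by omega), pow_add, pow_mul, ← hj, pow_orderOf_eq_one, one_pow]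
    | succ N ihN =>
      intro h k hlt he
      have hhS : h ∈ Sq := by
        by_contra hc
        exact hroot h hc (he ▸ pow_mem (Subgroup.mem_zpowers h) _)
      obtain ⟨g, w, hw, rfl⟩ := hhS
      have hcw : Commute (g ^ 2) w := Subgroup.mem_center_iff.1 (Subgroup.zpowers_le.2 hzc hw) (g ^ 2)
      have hw2 : w ^ 2 ^ (k + 1) = 1 := by
        rcases hZ w hw with rfl | rfl
        · exact one_pow _
        · rw [pow_succ', pow_mul, hz2, one_pow]
      rw [hcw.mul_pow, hw2, mul_one, ← pow_mul, ← pow_succ'] at he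
      exact ihN g (k + 1) (by omega) he
  have hroot2 : ∀ h : S, h ^ 2 ∈ Z → h ^ 2 = 1 := fun h hh => (hZ _ hh).resolve_right fun e =>
    hno (Nat.card S) h 0 (by omega) (by rw [zero_add, pow_one]; exact e)
  have hmul2 : ∀ g h : S, g ^ 2 ∈ Z → h ^ 2 ∈ Z → (g * h) ^ 2 ∈ Z := fun g h hg hh => by
    obtain ⟨w, hw, e⟩ := hsq g h
    rw [e]; exact mul_mem (mul_mem hg hh) hw
  let U : Subgroup S :=
    { carrier := {g | g ^ 2 ∈ Z}
      one_mem' := by show (1 : S) ^ 2 ∈ Z; rw [one_pow]; exact one_mem _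
      mul_mem' := fun {g h} hg hh => hmul2 g h hg hh
      inv_mem' := fun {g} hg => by show g⁻¹ ^ 2 ∈ Z; rw [inv_pow]; exact inv_mem hg }
  have hU2 : ∀ g ∈ U, g ^ 2 = 1 := fun g hg => hroot2 g hg
  have hUc : ∀ g ∈ U, ∀ h ∈ U, g * h = h * g := fun g hg h hh => by
    have h1 := hU2 _ (U.mul_mem hg hh)
    have hgi : g⁻¹ = g := inv_eq_of_mul_eq_one_right (by rw [← pow_two]; exact hU2 g hg)
    have hhi : h⁻¹ = h := inv_eq_of_mul_eq_one_right (by rw [← pow_two]; exact hU2 h hh)
    calc g * h = (g * h)⁻¹ := (inv_eq_of_mul_eq_one_right (by rw [← pow_two]; exact h1)).symm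
      _ = h * g := by rw [mul_inv_rev, hgi, hhi]
  have hU4 := card_le_four hr U hUc hU2
  have hcq : ∀ p q : S ⧸ Z, p * q = q * p := fun p q => by
    obtain ⟨g, rfl⟩ := QuotientGroup.mk'_surjective Z p
    obtain ⟨h, rfl⟩ := QuotientGroup.mk'_surjective Z q
    rw [← commutatorElement_eq_one_iff_mul_comm, ← map_commutatorElement]
    exact (QuotientGroup.eq_one_iff _).2 (hcommZ g h)
  letI : CommGroup (S ⧸ Z) := { (inferInstance : Group (S ⧸ Z)) with mul_comm := hcq }
  let f : S ⧸ Z →* S ⧸ Z := powMonoidHom 2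
  have hmapU : f.ker.comap (QuotientGroup.mk' Z) = U := by
    ext g
    show (QuotientGroup.mk' Z g) ^ 2 = 1 ↔ g ^ 2 ∈ Z
    rw [← map_pow]; exact QuotientGroup.eq_one_iff _
  have hmapS : f.range.comap (QuotientGroup.mk' Z) = Sq := by
    ext g
    constructor
    · rintro ⟨q, hq⟩
      obtain ⟨h, rfl⟩ := QuotientGroup.mk'_surjective Z q
      refine ⟨h, (h ^ 2)⁻¹ * g, ?_, by group⟩
      rw [← QuotientGroup.eq_one_iff]
      show QuotientGroup.mk' Z ((h ^ 2)⁻¹ * g) = 1
      rw [map_mul, map_inv, ← hq, map_pow]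
      exact inv_mul_cancel _
    · rintro ⟨h, w, hw, rfl⟩
      refine ⟨QuotientGroup.mk' Z h, ?_⟩
      rw [map_mul, show QuotientGroup.mk' Z w = 1 from (QuotientGroup.eq_one_iff w).2 hw, mul_one, map_pow]
      rfl
  have hidx := Subgroup.index_comap_of_surjective f.range (QuotientGroup.mk'_surjective Z)
  rw [hmapS] at hidx
  have h1 := Subgroup.card_mul_index f.range
  have h2' := Subgroup.card_mul_index f.ker
  rw [Subgroup.index_ker] at h2'
  have h3 : Nat.card f.ker = f.range.index := Nat.eq_of_mul_eq_mul_left Nat.card_pos (by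
    rw [h1, mul_comm]; exact h2')
  have h4 : Nat.card U = Nat.card f.ker * 2 := by
    have e1 := Subgroup.card_mul_index U
    have e2 := Subgroup.index_comap_of_surjective f.ker (QuotientGroup.mk'_surjective Z)
    rw [hmapU] at e2
    have e3 := Subgroup.card_mul_index f.ker
    have e4 := Subgroup.card_eq_card_quotient_mul_card_subgroup Z
    rw [hZcard] at e4
    rw [e2] at e1
    refine Nat.eq_of_mul_eq_mul_right (Nat.pos_of_ne_zero (Subgroup.index_ne_zero_of_finite (H := f.ker))) ?_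
    rw [e1, e4, ← e3]; ring
  omega


/-- A finite 2-group of sectional 2-rank at most 2 (every section has no elementary abelian subgroup of order 8) is metacyclic: it has a cyclic normal subgroup with cyclic quotient. -/
theorem result {S : Type*} [Group S] [Finite S] (h2 : IsPGroup 2 S) (hr : Cfsg.SectionalPRankLE 2 2 S) : Cfsg.IsMetacyclic S := by

  exact main_aux _ S rfl h2 hr

end Cfsg.Agent.S4397
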