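import Cfsg.Statements.S4398
import Cfsg.Agent.Lib.Transfer.MaxClass

set_option maxHeartbeats 1000000
set_option maxRecDepth 8000

set_option autoImplicit false
open Cfsg

namespace Cfsg.Agent.S4398

/-- Let S be a finite 2-group of sectional 2-rank at most 2 that contains a subgroup isomorphic to the dihedral group of order 8 or to the quaternion group of order 8. Then S is dihedral of order at least 8, semidihedral of order at least 16 (order 2^(k+4) with an element a of order 2^(k+3) and an involution b with b a b⁻¹ = a^(2^(k+2)−1)), or generalized quaternion of order at least 8. -/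
theorem result {S : Type*} [Group S] [Finite S] (h2 : IsPGroup 2 S) (hr : Cfsg.SectionalPRankLE 2 2 S)
    (hsub : ∃ H : Subgroup S, Nonempty (↥H ≃* DihedralGroup 4) ∨ Nonempty (↥H ≃* QuaternionGroup 2)) :
    ((∃ k : ℕ, Nonempty (S ≃* DihedralGroup (2 ^ (k + 2)))) ∨
      (∃ k : ℕ, Nat.card S = 2 ^ (k + 4) ∧ ∃ a b : S, orderOf a = 2 ^ (k + 3) ∧ orderOf b = 2 ∧ b * a * b⁻¹ = a ^ (2 ^ (k + 2) - 1)) ∨
      (∃ k : ℕ, Nonempty (S ≃* QuaternionGroup (2 ^ (k + 1))))) := by
  haveI : Fact (Nat.Prime 2) := ⟨Nat.prime_two⟩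
  obtain ⟨H, hH⟩ := hsub
  have hH8 : Nat.card H = 2 ^ 3 := by
    rcases hH with ⟨⟨e⟩⟩ | ⟨⟨e⟩⟩
    · rw [Nat.card_congr e.toEquiv, DihedralGroup.nat_card]; norm_num
    · rw [Nat.card_congr e.toEquiv, Nat.card_eq_fintype_card, QuaternionGroup.card]; norm_num
  have hHna : ¬ IsMulCommutative H := fun hc => by
    rcases hH with ⟨⟨e⟩⟩ | ⟨⟨e⟩⟩
    · have h := congrArg e (hc.is_comm.comm (e.symm (DihedralGroup.r 1)) (e.symm (DihedralGroup.sr 0)))
      simp only [map_mul, MulEquiv.apply_symm_apply] at h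
      revert h; decide
    · have h := congrArg e (hc.is_comm.comm (e.symm (QuaternionGroup.a 1)) (e.symm (QuaternionGroup.xa 0)))
      simp only [map_mul, MulEquiv.apply_symm_apply] at h
      revert h; decide
  have hC : Subgroup.centralizer (H : Set S) ≤ H := by
    intro g hg
    by_contra hgH
    obtain ⟨m, hm⟩ := h2.exists_orderOf_eq_pow g
    classical
    have hex : ∃ j, g ^ 2 ^ j ∈ H := ⟨m, by rw [← hm, pow_orderOf_eq_one]; exact H.one_mem⟩
    obtain ⟨j, hj⟩ : ∃ j, Nat.find hex = j + 1 := ⟨Nat.find hex - 1, by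
      have : Nat.find hex ≠ 0 := fun h0 => hgH (by simpa [h0] using Nat.find_spec hex)
      omega⟩
    set c := g ^ 2 ^ j with hc
    have hcH : c ∉ H := Nat.find_min hex (by omega)
    have hc2 : c ^ 2 ∈ H := by
      rw [hc, ← pow_mul, ← pow_succ, ← hj]; exact Nat.find_spec hex
    have hcC : c ∈ Subgroup.centralizer (H : Set S) := pow_mem hg _
    let f : H × Subgroup.zpowers c →* S := MonoidHom.noncommCoprod H.subtype (Subgroup.zpowers c).subtype
      (fun h u => Subgroup.mem_centralizer_iff.1 (Subgroup.zpowers_le.2 hcC u.2) h h.2)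
    set M := f.range with hM
    have hHM : H ≤ M := fun h hh => ⟨(⟨h, hh⟩, 1), show h * ((1 : Subgroup.zpowers c) : S) = h by simp⟩
    have hcM : c ∈ M := ⟨(1, ⟨c, Subgroup.mem_zpowers c⟩), show ((1 : H) : S) * c = c by simp⟩
    -- the centre of `H` inside `M`
    let N : Subgroup M := ((Subgroup.center H).map H.subtype).subgroupOf M
    have hZc : ∀ z : Subgroup.center H, ∀ y ∈ M, y * (z : S) = (z : S) * y := by
      rintro z _ ⟨⟨h, u⟩, rfl⟩
      show (h : S) * u * (z : S) = (z : S) * ((h : S) * u)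
      have h1 : (h : S) * (z : S) = (z : S) * h := congrArg Subtype.val (Subgroup.mem_center_iff.1 z.2 h)
      have h2 : (z : S) * (u : S) = (u : S) * (z : S) :=
        Subgroup.mem_centralizer_iff.1 (Subgroup.zpowers_le.2 hcC u.2) (z : S) (z : H).2
      rw [mul_assoc, ← h2, ← mul_assoc, h1, mul_assoc]
    haveI : N.Normal := ⟨fun w hw y => by
      obtain ⟨z, hz, hzw⟩ := Subgroup.mem_subgroupOf.1 hw
      have : y * w * y⁻¹ = w := by
        refine Subtype.ext ?_
        show (y : S) * w * (y : S)⁻¹ = w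
        rw [← hzw, Subgroup.coe_subtype, hZc ⟨z, hz⟩ y y.2, mul_inv_cancel_right]
      rwa [this]⟩
    have hZ2 : Nat.card (Subgroup.center H) = 2 := by
      have hpH : IsPGroup 2 H := h2.to_subgroup H
      obtain ⟨j, hj⟩ := IsPGroup.iff_card.1 (hpH.to_subgroup (Subgroup.center H))
      haveI : Nontrivial H := Finite.one_lt_card_iff_nontrivial.1 (by rw [hH8]; norm_num)
      haveI := hpH.center_nontrivial
      have h1 := Finite.one_lt_card (α := Subgroup.center H)
      have hnc : ¬ IsCyclic (H ⧸ Subgroup.center H) := fun hcy =>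
        hHna ⟨⟨commutative_of_cyclic_center_quotient (QuotientGroup.mk' (Subgroup.center H))
          (by rw [QuotientGroup.ker_mk'])⟩⟩
      have h3 := Subgroup.card_eq_card_quotient_mul_card_subgroup (Subgroup.center H)
      rw [hj] at h1 h3 ⊢
      rw [hH8] at h3
      rcases (show j = 0 ∨ j = 1 ∨ 2 ≤ j by omega) with rfl | rfl | hj2
      · simp at h1
      · rfl
      · refine absurd ?_ hnc
        have h4 : 2 ^ 2 ≤ 2 ^ j := Nat.pow_le_pow_right two_pos hj2
        have h5 : Nat.card (H ⧸ Subgroup.center H) * 4 ≤ 8 :=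
          le_trans (Nat.mul_le_mul_left _ h4) (le_of_eq (by rw [← h3]; norm_num))
        have h6 : 0 < Nat.card (H ⧸ Subgroup.center H) := Nat.card_pos
        rcases (show Nat.card (H ⧸ Subgroup.center H) = 1 ∨ Nat.card (H ⧸ Subgroup.center H) = 2 by omega) with e | e
        · haveI : Subsingleton (H ⧸ Subgroup.center H) := (Nat.card_eq_one_iff_unique.1 e).1
          infer_instance
        · exact isCyclic_of_prime_card (p := 2) e
    have hsq : ∀ h : H, h ^ 2 ∈ Subgroup.center H := fun h => by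
      rw [← QuotientGroup.eq_one_iff, QuotientGroup.mk_pow]
      have h3 := Subgroup.card_eq_card_quotient_mul_card_subgroup (Subgroup.center H)
      rw [hH8, hZ2] at h3
      obtain ⟨m, hm, hord⟩ : ∃ m, m ≤ 2 ∧ orderOf (h : H ⧸ Subgroup.center H) = 2 ^ m :=
        (Nat.dvd_prime_pow Nat.prime_two).1 ((orderOf_dvd_natCard _).trans (dvd_of_eq (by omega)))
      rcases (show m ≤ 1 ∨ m = 2 by omega) with hm1 | rfl
      · exact orderOf_dvd_iff_pow_eq_one.1 (hord ▸ (pow_dvd_pow 2 hm1).trans (dvd_of_eq (pow_one 2)))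
      · haveI : IsCyclic (H ⧸ Subgroup.center H) :=
          isCyclic_of_orderOf_eq_card (h : H ⧸ Subgroup.center H) (by omega)
        exact absurd ⟨⟨commutative_of_cyclic_center_quotient (QuotientGroup.mk' (Subgroup.center H))
          (by rw [QuotientGroup.ker_mk'])⟩⟩ hHna
    have hcc : c ^ 2 ∈ (Subgroup.center H).map H.subtype := ⟨⟨c ^ 2, hc2⟩, Subgroup.mem_center_iff.2 fun h =>
      Subtype.ext (Subgroup.mem_centralizer_iff.1 (pow_mem hcC 2) h h.2), rfl⟩
    have hMsq : ∀ y : M, y ^ 2 ∈ N := by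
      rintro ⟨_, ⟨h, u⟩, rfl⟩
      rw [Subgroup.mem_subgroupOf]
      show (f (h, u)) ^ 2 ∈ _
      obtain ⟨i, hi⟩ := Subgroup.mem_zpowers_iff.1 u.2
      show ((h : S) * u) ^ 2 ∈ _
      rw [Commute.mul_pow (Subgroup.mem_centralizer_iff.1 (Subgroup.zpowers_le.2 hcC u.2) h h.2), ← hi,
        show (c ^ i) ^ 2 = (c ^ 2) ^ i by rw [← zpow_natCast, ← zpow_natCast, ← zpow_mul, ← zpow_mul, mul_comm]]
      exact mul_mem ⟨h ^ 2, hsq h, rfl⟩ (zpow_mem hcc i)
    have hexp : ∀ w : M ⧸ N, w ^ 2 = 1 := fun w => by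
      obtain ⟨y, rfl⟩ := QuotientGroup.mk_surjective w
      rw [← QuotientGroup.mk_pow, QuotientGroup.eq_one_iff]
      exact hMsq y
    have hinv : ∀ w : M ⧸ N, w⁻¹ = w := fun w => inv_eq_of_mul_eq_one_right (by rw [← pow_two, hexp])
    have hle := hr M N ⊤ ⟨⟨fun u v => Subtype.ext (by
      show (u : M ⧸ N) * v = v * u
      rw [← hinv ((u : M ⧸ N) * v), mul_inv_rev, hinv, hinv])⟩⟩ (fun w _ => hexp w)
    rw [Subgroup.card_top] at hle
    have hNcard : Nat.card N = 2 := by
      rw [Nat.card_congr (Subgroup.subgroupOfEquivOfLe (H := (Subgroup.center H).map H.subtype) (K := M)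
          ((Subgroup.map_subtype_le _).trans hHM)).toEquiv,
        Subgroup.card_map_of_injective H.subtype_injective, hZ2]
    have hM16 : 16 ≤ Nat.card M := by
      obtain ⟨e, he⟩ := IsPGroup.iff_card.1 (h2.to_subgroup M)
      have hlt : Nat.card H < Nat.card M := by
        refine lt_of_le_of_ne (Subgroup.card_le_of_le hHM) fun h => hcH ?_
        rw [Subgroup.eq_of_le_of_card_ge hHM h.ge]; exact hcM
      rw [he] at hlt ⊢
      rw [hH8] at hlt
      exact le_trans (by norm_num) (Nat.pow_le_pow_right two_pos ((Nat.pow_lt_pow_iff_right one_lt_two).1 hlt))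
    have h3 := Subgroup.card_eq_card_quotient_mul_card_subgroup N
    rw [hNcard] at h3
    omega
  obtain ⟨n, hn⟩ := IsPGroup.iff_card.1 h2
  have hc := Cfsg.Agent.Transfer.MaxClass.class_of_nonabelian_cube hn H hH8 hHna hC
  have hn3 : 3 ≤ n := by
    have h1 := Subgroup.card_subgroup_dvd_card H
    rwa [hH8, hn, Nat.pow_dvd_pow_iff_le_right one_lt_two] at h1
  obtain ⟨h4, hne⟩ := Cfsg.Agent.Transfer.MaxClass.index_four_of_class hn3 hn hc
  exact Cfsg.Agent.Transfer.MaxClass.classify h2 h4 hne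

end Cfsg.Agent.S4398
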