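import Cfsg.Statements.S4402
import Cfsg.Agent.Lib.Spor.WreathD8Quot

set_option autoImplicit false
open Cfsg

namespace Cfsg.Agent.S4402

open Cfsg.Agent.Spor.WreathD8

/-- Let S be a finite 2-group of sectional 2-rank at most 4 and P a proper subgroup isomorphic to the wreath product of the dihedral group of order 8 by a group of order 2 (equivalently, to a Sylow 2-subgroup of the symmetric group of degree 8; order 128). Then Z(S) = Z(P) has order 2, P has index 2 in its normalizer N_S(P), N_S(P)/Z(S) is again isomorphic to that wreath product, and every elementary abelian subgroup V of order 16 that is normal in P satisfies N_S(V) = P. -/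
theorem result {S : Type*} [Group S] [Finite S] (h2 : IsPGroup 2 S) (hr : Cfsg.SectionalPRankLE 2 4 S)
    (P : Subgroup S) (hPlt : P ≠ ⊤) (hP : ∃ T : Sylow 2 (Equiv.Perm (Fin 8)), Nonempty (↥P ≃* ↥(T : Subgroup (Equiv.Perm (Fin 8))))) :
    Subgroup.center S = (Subgroup.center ↥P).map P.subtype ∧ Nat.card ↥(Subgroup.center S) = 2 ∧
    P.relIndex (Subgroup.normalizer (P : Set S)) = 2 ∧
    (∃ (_ : ((Subgroup.center S).subgroupOf (Subgroup.normalizer (P : Set S))).Normal) (T : Sylow 2 (Equiv.Perm (Fin 8))),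
      Nonempty (↥(Subgroup.normalizer (P : Set S)) ⧸ (Subgroup.center S).subgroupOf (Subgroup.normalizer (P : Set S)) ≃*
        ↥(T : Subgroup (Equiv.Perm (Fin 8))))) ∧
    ∀ V : Subgroup S, V ≤ P → (∀ g ∈ P, ∀ v ∈ V, g * v * g⁻¹ ∈ V) → Cfsg.IsElementaryAbelian 2 V → Nat.card ↥V = 16 →
      Subgroup.normalizer (V : Set S) = P := by
  obtain ⟨T, ⟨eq⟩⟩ := hP
  obtain ⟨FT⟩ := exists_frame_sylow T
  obtain ⟨F⟩ : Nonempty (Frame P) := ⟨FT.ofEquiv eq⟩
  obtain ⟨hc, hciff⟩ := F.center_eq h2 hr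
  obtain ⟨hidx, hq⟩ := F.quotient_equiv h2 hr hPlt
  refine ⟨hc, ?_, hidx, ?_, ?_⟩
  · have hs : (Subgroup.center S : Set S) = {1, F.φ Cfsg.Agent.Spor.WreathD8.e} := Set.ext fun g => hciff g
    rw [← SetLike.coe_sort_coe, Nat.card_coe_set_eq, hs, Set.ncard_pair]
    intro h'
    rw [← map_one F.φ] at h'
    exact absurd (F.φ_inj h') (by decide +kernel)
  · have hn : ((Subgroup.center S).subgroupOf (Subgroup.normalizer (P : Set S))).Normal := inferInstance
    obtain ⟨e'⟩ := @hq hn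
    exact ⟨hn, T, ⟨e'.trans eq⟩⟩
  · intro V hVP hVn hV hV16
    have hcm : ∀ x ∈ V, ∀ y ∈ V, x * y = y * x ∧ x * x = 1 := fun x hx y hy =>
      ⟨congrArg Subtype.val (hV.1.is_comm.comm ⟨x, hx⟩ ⟨y, hy⟩), by rw [← pow_two]; exact hV.2 x hx⟩
    rcases F.classify V hVP hVn hcm hV16 with rfl | rfl
    · exact F.normalizer_V1 h2 hr
    · exact F.normalizer_V2 h2 hr

end Cfsg.Agent.S4402
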