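import Cfsg.Statements.S4404
import Cfsg.Agent.Lib.Transfer.SmallCommutatorAction
import Cfsg.Agent.Lib.Transfer.OmegaMetacyclic
import Cfsg.Agent.Lib.Grp.Cores
import Cfsg.Agent.Lib.Grp.Hall
import Cfsg.Agent.S1450
import Cfsg.Agent.S1452

set_option maxHeartbeats 1000000
set_option maxRecDepth 8000

set_option autoImplicit false
open Cfsg

namespace Cfsg.Agent.S4404

open Cfsg.Agent Cfsg.Agent.Transfer Cfsg.Agent.Transfer.SmallComm Subgroup
open scoped commutatorElement Pointwise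

section
universe u
variable {S : Type u} [Group S] [Finite S]

theorem elem_mono {r : ℕ} {A B : Subgroup S} (h : A ≤ B) (hB : Cfsg.IsElementaryAbelian r B) :
    Cfsg.IsElementaryAbelian r A :=
  ⟨⟨⟨fun a b => Subtype.ext (congrArg Subtype.val (hB.1.is_comm.comm ⟨a, h a.2⟩ ⟨b, h b.2⟩) : ((a : S) * b = b * a))⟩⟩,
    fun a ha => hB.2 a (h ha)⟩

theorem not_cyclic_of_elem {r : ℕ} [hr : Fact r.Prime] {A : Subgroup S} (hA : Cfsg.IsElementaryAbelian r A)
    (h2 : r ^ 2 ≤ Nat.card A) : ¬ IsCyclic A := fun hc => by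
  haveI := hc
  obtain ⟨w, hw⟩ := IsCyclic.exists_generator (α := A)
  have h1 : orderOf w ∣ r := orderOf_dvd_of_pow_eq_one (Subtype.ext (hA.2 w w.2))
  rw [orderOf_eq_card_of_forall_mem_zpowers hw] at h1
  have := Nat.le_of_dvd hr.out.pos h1
  nlinarith [hr.out.two_le]

theorem elem_isPGroup' {r : ℕ} {A : Subgroup S} (hA : Cfsg.IsElementaryAbelian r A) : IsPGroup r A := fun a =>
  ⟨1, Subtype.ext (by rw [pow_one]; exact hA.2 a a.2)⟩

/-- The conclusion from an elementary group and a noncyclic part centralising `D`. -/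
theorem finish {r : ℕ} [hr : Fact r.Prime] (hr2 : r ≠ 2) {B K D : Subgroup S} (hB : Cfsg.IsElementaryAbelian r B)
    (hB3 : r ^ 3 ≤ Nat.card B) (hKB : K ≤ B) (hK2 : r ^ 2 ≤ Nat.card K) (hKD : K ≤ centralizer (D : Set S)) :
    ∃ (r : ℕ) (F : Subgroup S), r.Prime ∧ r ≠ 2 ∧ Cfsg.IsElementaryAbelian r F ∧ Nat.card ↥F = r ^ 3 ∧
      ¬ IsCyclic ↥(F ⊓ centralizer (D : Set S)) := by
  obtain ⟨n, hn⟩ := IsPGroup.iff_card.1 (elem_isPGroup' hB)
  obtain ⟨m, hm⟩ := IsPGroup.iff_card.1 (elem_isPGroup' (elem_mono hKB hB))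
  have hn3 : 3 ≤ n := (Nat.pow_le_pow_iff_right hr.out.one_lt).1 (hn ▸ hB3)
  have hm2 : 2 ≤ m := (Nat.pow_le_pow_iff_right hr.out.one_lt).1 (hm ▸ hK2)
  obtain ⟨K0, hK0⟩ := Sylow.exists_subgroup_card_pow_prime r (n := 2) (G := K) (hm ▸ pow_dvd_pow r hm2)
  have hK0B : K0.map K.subtype ≤ B := (map_subtype_le K0).trans hKB
  have hc0 : Nat.card ↥((K0.map K.subtype).subgroupOf B) = r ^ 2 := by
    rw [Nat.card_congr (subgroupOfEquivOfLe hK0B).toEquiv, Subgroup.card_map_of_injective K.subtype_injective, hK0]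
  obtain ⟨F, hFc, hF⟩ := Sylow.exists_subgroup_card_pow_succ (hn ▸ pow_dvd_pow r hn3 : r ^ (2 + 1) ∣ Nat.card B) hc0
  refine ⟨r, F.map B.subtype, hr.out, hr2, elem_mono (map_subtype_le F) hB, by
    rw [Subgroup.card_map_of_injective B.subtype_injective, hFc], fun hc => ?_⟩
  have hle : K0.map K.subtype ≤ F.map B.subtype ⊓ centralizer (D : Set S) := le_inf
    (fun g hg => ⟨⟨g, hK0B hg⟩, hF (show g ∈ K0.map K.subtype from hg), rfl⟩) ((map_subtype_le K0).trans hKD)
  haveI := hc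
  exact not_cyclic_of_elem (elem_mono hK0B hB)
    (by rw [Subgroup.card_map_of_injective K.subtype_injective, hK0]) (Subgroup.isCyclic_of_le hle)

theorem rank_lift {r : ℕ} {A B : Subgroup S} (hA : Cfsg.IsElementaryAbelian r A) (h : A ≤ B)
    (hc : r ^ 3 ≤ Nat.card A) (hr : 1 < r) : ¬ Cfsg.PRankLE r 2 B := fun hB => by
  have h1 := hB (A.subgroupOf B)
    ⟨⟨fun a b => Subtype.ext (Subtype.ext (congrArg Subtype.val (hA.1.is_comm.comm ⟨((a : B) : S), a.2⟩ ⟨((b : B) : S), b.2⟩) : ((a : B) : S) * (b : B) = (b : B) * (a : B)))⟩⟩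
    (fun a ha => Subtype.ext (hA.2 _ ha))
  rw [Nat.card_congr (subgroupOfEquivOfLe h).toEquiv] at h1
  have := Nat.pow_lt_pow_right hr (show 2 < 3 by norm_num)
  omega

/-- A normal abelian subgroup of rank three around a noncyclic normal subgroup. -/
theorem exists_omega {r : ℕ} [hr : Fact r.Prime] (hr2 : r ≠ 2) {P : Subgroup S} (hP : IsPGroup r P)
    (hrk : ¬ Cfsg.PRankLE r 2 P) {N : Subgroup S} (hNP : N ≤ P) (hN : P ≤ normalizer (N : Set S))
    (hNc : ¬ IsCyclic N) :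
    ∃ B0 B : Subgroup S, B0 ≤ N ∧ B0 ≤ B ∧ B ≤ P ∧ P ≤ normalizer (B : Set S) ∧
      Cfsg.IsElementaryAbelian r B ∧ r ^ 3 ≤ Nat.card B ∧ r ^ 2 ≤ Nat.card B0 := by
  haveI : (N.subgroupOf P).Normal := (normal_subgroupOf_iff_le_normalizer hNP).2 hN
  obtain ⟨E, hEN, hEn, hE, hE2⟩ := exists_normal_elementary hr2 hP (N.subgroupOf P) fun hc => hNc (by
    haveI := hc
    exact isCyclic_of_surjective _ (subgroupOfEquivOfLe hNP).surjective)
  haveI := hEn
  obtain ⟨A, hEA, hAn, hAc, hA3⟩ := Cfsg.Agent.S1452.result r hr2 hP hrk E hE hE2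
  have hAab : ∀ a ∈ A, ∀ b ∈ A, a * b = b * a := fun a ha b hb =>
    mem_centralizer_iff.1 (hAc.ge hb) a ha
  let Ω : Subgroup P :=
    { carrier := {a | a ∈ A ∧ a ^ r = 1}
      one_mem' := ⟨A.one_mem, one_pow _⟩
      mul_mem' := fun {a b} ha hb => ⟨A.mul_mem ha.1 hb.1, by
        rw [Commute.mul_pow (hAab a ha.1 b hb.1 : Commute a b), ha.2, hb.2, one_mul]⟩
      inv_mem' := fun {a} ha => ⟨A.inv_mem ha.1, by rw [inv_pow, ha.2, inv_one]⟩ }
  haveI : Ω.Normal := ⟨fun a ha g => ⟨hAn.conj_mem a ha.1 g, by rw [conj_pow, ha.2, mul_one, mul_inv_cancel]⟩⟩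
  refine ⟨E.map P.subtype, Ω.map P.subtype, (map_mono hEN).trans (by
      rw [Subgroup.subgroupOf_map_subtype]; exact inf_le_left),
    map_mono (fun a ha => ⟨hEA ha, hE.2 a ha⟩), map_subtype_le _, ?_, ⟨?_, ?_⟩, ?_, ?_⟩
  · intro g hg
    refine Subgroup.mem_normalizer_fintype ?_
    rintro _ ⟨a, ha, rfl⟩
    exact ⟨⟨g, hg⟩ * a * ⟨g, hg⟩⁻¹, Normal.conj_mem inferInstance a ha _, rfl⟩
  · refine ⟨⟨?_⟩⟩
    rintro ⟨_, a, ha, rfl⟩ ⟨_, b, hb, rfl⟩
    exact Subtype.ext (show (a : S) * b = b * a from congrArg Subtype.val (hAab a ha.1 b hb.1))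
  · rintro _ ⟨a, ha, rfl⟩
    exact (congrArg Subtype.val ha.2 : ((a ^ r : P) : S) = 1)
  · rw [Subgroup.card_map_of_injective P.subtype_injective]
    by_contra hlt
    push Not at hlt
    refine hA3 fun C hC hCp => ?_
    haveI := hC
    have h1 : C.map A.subtype ≤ Ω := by
      rintro _ ⟨c, hc, rfl⟩
      exact ⟨c.2, congrArg Subtype.val (hCp c hc)⟩
    have h2 := card_dvd_of_le h1
    rw [Subgroup.card_map_of_injective A.subtype_injective] at h2
    obtain ⟨k, hk⟩ := IsPGroup.iff_card.1 ((hP.to_subgroup A).to_subgroup C)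
    rw [hk] at h2 ⊢
    have h3 : r ^ k < r ^ 3 := lt_of_le_of_lt (Nat.le_of_dvd Nat.card_pos h2) hlt
    have h4 := (Nat.pow_lt_pow_iff_right hr.out.one_lt).1 h3
    exact Nat.pow_le_pow_right hr.out.pos (by omega)
  · rw [Subgroup.card_map_of_injective P.subtype_injective, hE2]

end


/-- Let S be a finite solvable group and M a normal elementary abelian 2-subgroup of S. Suppose S contains an elementary abelian subgroup of order p³ for some odd prime p, and a cyclic 3-subgroup Q such that the cubes of the elements of Q centralize M and the commutator subgroup [Q, M] has order 4 (a four-group inside M). Then S contains an elementary abelian subgroup F of order r³, for some odd prime r, whose centralizer of [Q, M] in F — the subgroup C_F([Q, M]) — is not cyclic. -/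
theorem result {S : Type*} [Group S] [Finite S]
    [Group.IsSolvable S] (M : Subgroup S) [M.Normal] (hM : Cfsg.IsElementaryAbelian 2 M)
    (p : ℕ) (hp : p.Prime) (hp2 : p ≠ 2) (E : Subgroup S) (hE : Cfsg.IsElementaryAbelian p E) (hE3 : Nat.card ↥E = p ^ 3)
    (Q : Subgroup S) (hQc : IsCyclic ↥Q) (hQ3 : IsPGroup 3 ↥Q)
    (hQ1 : ∀ x ∈ Q, x ^ 3 ∈ Subgroup.centralizer (M : Set S)) (hQM : Nat.card ↥⁅Q, M⁆ = 4) :
    ∃ (r : ℕ) (F : Subgroup S), r.Prime ∧ r ≠ 2 ∧ Cfsg.IsElementaryAbelian r F ∧ Nat.card ↥F = r ^ 3 ∧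
      ¬ IsCyclic ↥(F ⊓ Subgroup.centralizer ((⁅Q, M⁆ : Subgroup S) : Set S)) := by
  haveI := hQc
  obtain ⟨x, hx⟩ := IsCyclic.exists_generator (α := Q)
  have hMN : ∀ g : S, g ∈ Subgroup.normalizer (M : Set S) := fun g => by
    rw [Subgroup.normalizer_eq_top]; exact Subgroup.mem_top g
  have hDx : cimg M (x : S) = ⁅Q, M⁆ := by
    refine le_antisymm ((Subgroup.closure_le _).2 fun y ⟨v, hv, e⟩ => e ▸
      Subgroup.commutator_mem_commutator x.2 hv) (Subgroup.commutator_le.2 fun q hq v hv => ?_)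
    obtain ⟨n, hn⟩ := (isOfFinOrder_of_finite x).mem_powers_iff_mem_zpowers.2 (hx ⟨q, hq⟩)
    have hq' : (x : S) ^ n = q := congrArg Subtype.val hn
    subst hq'
    clear hn hq
    induction n generalizing v with
    | zero => rw [pow_zero, commutatorElement_one_left]; exact one_mem _
    | succ n ih =>
      have hw : (x : S) ^ n * v * ((x : S) ^ n)⁻¹ ∈ M := ‹M.Normal›.conj_mem v hv _
      rw [show ⁅(x : S) ^ (n + 1), v⁆ = ⁅(x : S), (x : S) ^ n * v * ((x : S) ^ n)⁻¹⁆ * ⁅(x : S) ^ n, v⁆ by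
        simp only [commutatorElement_def, pow_succ']; group]
      exact mul_mem ((mem_cimg hM (hMN _)).2 ⟨_, hw, rfl⟩) (ih v hv)
  have hctx : Ctx M (x : S) := ⟨hM, hMN _, hQ1 x x.2, by rw [hDx]; exact hQM⟩
  rw [← hDx]
  haveI : Fact (Nat.Prime 3) := ⟨Nat.prime_three⟩
  have hQ2 : Q ≠ ⊥ := fun e => by
    rw [e, Subgroup.commutator_bot_left, Subgroup.card_bot] at hQM
    norm_num at hQM
  by_cases h3 : Cfsg.PRankLE 3 2 S
  swap
  · -- rank three for the prime `3`
    obtain ⟨T, hT⟩ := hQ3.exists_le_sylow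
    unfold Cfsg.PRankLE at h3
    push Not at h3
    obtain ⟨E', hE'c, hE'p, hE'3⟩ := h3
    have hE' : Cfsg.IsElementaryAbelian 3 E' := ⟨hE'c, hE'p⟩
    obtain ⟨T', hT'⟩ := (elem_isPGroup' hE').exists_le_sylow
    obtain ⟨g, hg⟩ := MulAction.exists_smul_eq S T' T
    obtain ⟨k, hk⟩ := IsPGroup.iff_card.1 (elem_isPGroup' hE')
    have hk3 : 3 ≤ k := by
      by_contra hlt
      push Not at hlt
      rw [hk] at hE'3
      exact absurd (Nat.pow_le_pow_right (by norm_num : 0 < 3) (Nat.lt_succ_iff.1 hlt)) (not_le.2 hE'3)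
    have hrk : ¬ Cfsg.PRankLE 3 2 (T : Subgroup S) := by
      refine rank_lift (A := MulAut.conj g • E') ⟨?_, ?_⟩ ?_ ?_ (by norm_num)
      · rw [← Grp.map_conj_eq_smul]
        haveI := hE'.1
        exact Subgroup.map_isMulCommutative _ _
      · rintro _ ⟨a, ha, rfl⟩
        show (g * a * g⁻¹) ^ 3 = 1
        rw [conj_pow, hE'.2 a ha, mul_one, mul_inv_cancel]
      · exact (Subgroup.pointwise_smul_le_pointwise_smul_iff.2 hT').trans (le_of_eq (by rw [← hg]; rfl))
      · rw [Grp.card_conj_smul, hk]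
        exact Nat.pow_le_pow_right (by norm_num) hk3
    obtain ⟨-, B, -, -, hBT, hTB, hB, hB3, -⟩ := exists_omega (by norm_num) T.isPGroup' hrk le_rfl
      Subgroup.le_normalizer (fun hc => hrk fun C _ hCp => by
        haveI := hc
        obtain ⟨w, hw⟩ := IsCyclic.exists_generator (α := C)
        rw [← orderOf_eq_card_of_forall_mem_zpowers hw]
        exact le_trans (Nat.le_of_dvd (by norm_num)
          (orderOf_dvd_of_pow_eq_one (Subtype.ext (hCp w w.2)))) (by norm_num))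
    obtain ⟨L, hLB, -, hLr, hLD⟩ := hctx.exists_hyperplane (r := 3) (by norm_num) (fun g _ => hMN g)
      (hTB (hT x.2)) (fun a ha => by rw [hB.2 a ha]; exact one_mem _)
      (fun a ha b hb => by
        have e : a * b = b * a := congrArg Subtype.val (hB.1.is_comm.comm ⟨a, ha⟩ ⟨b, hb⟩)
        rw [commutatorElement_def, e, mul_inv_cancel_right, mul_inv_cancel]
        exact one_mem _)
    refine finish (by norm_num) hB hB3 hLB ?_ (le_centralizer_iff.1 hLD)
    have h1 := Grp.card_mul_relIndex hLB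
    have h2 := Nat.le_of_dvd (by norm_num) hLr
    nlinarith
  -- rank at most two for the prime `3`
  haveI := Fact.mk hp
  have hp3 : p ≠ 3 := fun e => by
    subst e
    have := h3 E hE.1 hE.2
    rw [hE3] at this
    norm_num at this
  have hp5 : 5 ≤ p := by
    by_contra hlt
    push Not at hlt
    interval_cases p <;> first | omega | exact absurd hp (by norm_num)
  -- a Hall `{p, 3}`-subgroup containing `Q`
  obtain ⟨a, a', ha', hc0⟩ := Nat.exists_eq_pow_mul_and_not_dvd (Nat.card_pos (α := S)).ne' p hp.ne_one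
  obtain ⟨b, c, hc, rfl⟩ := Nat.exists_eq_pow_mul_and_not_dvd (n := a')
    (fun e => ha' (by rw [e]; exact dvd_zero p)) 3 (by norm_num)
  have hcard : Nat.card S = p ^ a * 3 ^ b * c := by rw [hc0]; ring
  have hpc : ¬ p ∣ c := fun h => ha' (dvd_mul_of_dvd_right h _)
  have hcop : (p ^ a * 3 ^ b).Coprime c :=
    Nat.Coprime.mul_left ((hp.coprime_iff_not_dvd.2 hpc).pow_left a) ((Nat.prime_three.coprime_iff_not_dvd.2 hc).pow_left b)
  obtain ⟨H₀, hH₀⟩ := Grp.exists_hall (G := S) hcard hcop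
  obtain ⟨kQ, hkQ⟩ := IsPGroup.iff_card.1 hQ3
  obtain ⟨g₁, hg₁⟩ := Grp.exists_conj_le_hall hcard hcop hH₀ (K := Q) (by
    rw [hkQ]; exact (Nat.prime_three.coprime_iff_not_dvd.2 hc).pow_left _)
  set H := MulAut.conj g₁ • H₀ with hH
  have hHc : Nat.card H = p ^ a * 3 ^ b := by rw [hH, Grp.card_conj_smul, hH₀]
  obtain ⟨g₂, hg₂⟩ := Grp.exists_conj_le_hall hcard hcop hHc (K := E) (by
    rw [hE3]; exact (hp.coprime_iff_not_dvd.2 hpc).pow_left _)
  set E' := MulAut.conj g₂⁻¹ • E with hE'd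
  have hE'H : E' ≤ H := by
    rwa [hE'd, map_inv, ← Subgroup.subset_pointwise_smul_iff]
  have hE'3 : Nat.card E' = p ^ 3 := by rw [hE'd, Grp.card_conj_smul, hE3]
  have hE' : Cfsg.IsElementaryAbelian p E' := by
    refine ⟨?_, ?_⟩
    · rw [hE'd, ← Grp.map_conj_eq_smul]
      haveI := hE.1
      exact Subgroup.map_isMulCommutative _ _
    · rintro _ ⟨e, he, rfl⟩
      show (g₂⁻¹ * e * g₂⁻¹⁻¹) ^ p = 1
      rw [conj_pow, hE.2 e he, mul_one, mul_inv_cancel]
  have hodd : Odd (Nat.card H) := by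
    rw [hHc]
    exact ((hp.odd_of_ne_two hp2).pow).mul ((by decide : Odd 3).pow)
  have hd3 : 3 ∣ Nat.card H := (dvd_trans (by
    rw [hkQ]
    exact dvd_pow_self 3 fun e => hQ2 (Subgroup.card_eq_one.1 (by rw [hkQ, e, pow_zero])))
    (Subgroup.card_dvd_of_le hg₁))
  have hr3 : Cfsg.PRankLE 3 2 H := fun C hC hCp => by
    haveI := hC
    have := h3 (C.map H.subtype) (Subgroup.map_isMulCommutative _ _)
      (by rintro _ ⟨d, hd, rfl⟩; rw [← map_pow, hCp d hd, map_one])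
    rwa [Subgroup.card_map_of_injective H.subtype_injective] at this
  obtain ⟨hidx, -⟩ := Cfsg.Agent.S1450.result hodd 3 hd3 hr3
  set P0 := Cfsg.pPrimeCore 3 H with hP0
  haveI : P0.Normal := Subgroup.sSup_normal _ (fun _ h => h.1)
  have hcop0 : (Nat.card P0).Coprime 3 := Grp.pPrimeCore_coprime
  have hP0p : IsPGroup p P0 := by
    obtain ⟨j, hj, e⟩ := (Nat.dvd_prime_pow hp).1 (((hcop0.pow_right b)).dvd_of_dvd_mul_right
      (hHc ▸ Subgroup.card_subgroup_dvd_card P0))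
    exact IsPGroup.of_card (n := j) e
  set P := P0.map H.subtype with hP
  have hxH : (x : S) ∈ H := hg₁ x.2
  have hxP : (x : S) ∈ Subgroup.normalizer (P : Set S) := by
    refine Subgroup.mem_normalizer_fintype ?_
    rintro _ ⟨y, hy, rfl⟩
    exact ⟨⟨x, hxH⟩ * y * ⟨x, hxH⟩⁻¹, Subgroup.Normal.conj_mem inferInstance y hy _, rfl⟩
  have hE'P : E' ≤ P := by
    intro e he
    refine ⟨⟨e, hE'H he⟩, ?_, rfl⟩
    show (⟨e, hE'H he⟩ : H) ∈ P0
    rw [← QuotientGroup.eq_one_iff, ← orderOf_eq_one_iff]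
    by_contra hne
    obtain ⟨q, hq, hqd⟩ := Nat.exists_prime_and_dvd hne
    have h1 := hqd.trans (orderOf_dvd_natCard _)
    rw [← Subgroup.index_eq_card] at h1
    have h2 := hidx q hq h1
    have h4 := hqd.trans ((orderOf_map_dvd (QuotientGroup.mk' P0) _).trans
      (orderOf_dvd_of_pow_eq_one (n := p) (Subtype.ext (by rw [Subgroup.coe_pow]; exact hE'.2 e he))))
    have := (Nat.prime_dvd_prime_iff_eq hq hp).1 h4
    omega
  have hPp : IsPGroup p P := hP0p.map _
  obtain ⟨L, hLP, hPL, hLr, hLD⟩ := hctx.exists_normal_of_pgroup hp5 hPp (fun g _ => hMN g) hxP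
  have hEL : p ^ 2 ≤ Nat.card ↥(E' ⊓ L) := by
    have h1 : L.relIndex E' ∣ p := (Dvd.dvd.trans ?_ hLr)
    · rw [← Subgroup.inf_relIndex_right, inf_comm] at h1
      have h5 := Grp.card_mul_relIndex (inf_le_left : E' ⊓ L ≤ E')
      rw [hE'3] at h5
      have h6 := Nat.le_of_dvd hp.pos h1
      nlinarith [hp.two_le]
    · haveI : (L.subgroupOf P).Normal := (Subgroup.normal_subgroupOf_iff_le_normalizer hLP).2 hPL
      have h7 := Subgroup.relIndex_dvd_index_of_normal (L.subgroupOf P) (E'.subgroupOf P)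
      rwa [Subgroup.relIndex_subgroupOf hE'P, show (L.subgroupOf P).index = L.relIndex P from rfl] at h7
  have hrkP : ¬ Cfsg.PRankLE p 2 P := rank_lift hE' hE'P hE'3.ge hp.one_lt
  obtain ⟨B0, B, hB0L, hB0B, -, -, hB, hB3, hB02⟩ := exists_omega hp2 hPp hrkP hLP hPL fun hc => by
    haveI := hc
    exact not_cyclic_of_elem (elem_mono inf_le_left hE') hEL (Subgroup.isCyclic_of_le inf_le_right)
  exact finish hp2 hB hB3 hB0B hB02 (hB0L.trans (le_centralizer_iff.1 hLD))

end Cfsg.Agent.S4404
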