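import Cfsg.Statements.S4405
import Mathlib
import Cfsg.Agent.Lib.Fus.Extraspecial
import Cfsg.Agent.Lib.Grp.Cores
import Cfsg.Agent.Lib.Grp.Coprime
import Cfsg.Agent.Lib.Grp.SameOrderConj

set_option maxHeartbeats 1000000
set_option maxRecDepth 8000

set_option autoImplicit false
open Cfsg
open scoped commutatorElement Pointwise

namespace Cfsg.Agent.S4405

/-- Let G be a finite group of order 320 = 64·5 whose largest normal 2-subgroup H = O₂(G) equals the Fitting subgroup F(G) and is extraspecial of order 32 containing no elementary abelian subgroup of order 8 (so H is the central product of a quaternion group and a dihedral group of order 8). If T is an involution of G outside H whose centralizer in H contains an elementary abelian subgroup of order 4, then C_H(T) itself is elementary abelian of order 4. -/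
theorem result {G : Type*} [Group G] [Finite G]
    (hG : Nat.card G = 320) (hHF : Cfsg.pCore 2 G = Cfsg.fittingSubgroup G)
    (hex : Cfsg.IsExtraspecial 2 ↥(Cfsg.pCore 2 G)) (h32 : Nat.card ↥(Cfsg.pCore 2 G) = 32)
    (hminus : ∀ A : Subgroup G, A ≤ Cfsg.pCore 2 G → Cfsg.IsElementaryAbelian 2 A → Nat.card ↥A ≤ 4)
    (T : G) (hT : orderOf T = 2) (hTH : T ∉ Cfsg.pCore 2 G)
    (V : Subgroup G) (hV : V ≤ Cfsg.pCore 2 G ⊓ Subgroup.centralizer ({T} : Set G)) (hV4 : Nat.card ↥V = 4) (hVe : Cfsg.IsElementaryAbelian 2 V) :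
    Nat.card ↥(Cfsg.pCore 2 G ⊓ Subgroup.centralizer ({T} : Set G)) = 4 ∧
      Cfsg.IsElementaryAbelian 2 (Cfsg.pCore 2 G ⊓ Subgroup.centralizer ({T} : Set G)) := by

  classical
  haveI := Fact.mk Nat.prime_two
  haveI h5 : Fact (Nat.Prime 5) := ⟨by norm_num⟩
  obtain ⟨H, hHdef⟩ : ∃ H : Subgroup G, H = Cfsg.pCore 2 G := ⟨_, rfl⟩
  haveI hHn : H.Normal := hHdef ▸ Grp.pCore_isNormal
  have hH2 : IsPGroup 2 H := hHdef ▸ Grp.pCore_isPGroup
  rw [← hHdef] at hex h32 hminus hTH hV hHF ⊢
  -- the centre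
  let Z : Subgroup G := H ⊓ Subgroup.centralizer (H : Set G)
  haveI hZn : Z.Normal := inferInstance
  have hZeq : Z.subgroupOf H = Subgroup.center H := by
    ext x
    rw [Subgroup.mem_subgroupOf, Subgroup.mem_center_iff]
    exact ⟨fun h y => Subtype.ext (Subgroup.mem_centralizer_iff.1 h.2 y y.2), fun h =>
      ⟨x.2, Subgroup.mem_centralizer_iff.2 fun y hy => congrArg Subtype.val (h ⟨y, hy⟩)⟩⟩
  have hZ2 : Nat.card Z = 2 := by
    rw [← Nat.card_congr (Subgroup.subgroupOfEquivOfLe (inf_le_left : Z ≤ H)).toEquiv, hZeq, hex.2]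
  have hZc : ∀ z ∈ Z, z ^ 2 = 1 := fun z hz => by
    have h : (⟨z, hz⟩ : Z) ^ Nat.card Z = 1 := pow_card_eq_one'
    rw [hZ2] at h
    exact congrArg Subtype.val h
  have hZcen : ∀ z ∈ Z, ∀ g : G, g * z = z * g := by
    intro z hz g
    rcases eq_or_ne z 1 with rfl | hne
    · rw [mul_one, one_mul]
    have hm : g * z * g⁻¹ ∈ Z := hZn.conj_mem z hz g
    have h2 : ∀ w ∈ Z, w ≠ 1 → w = z := fun w hw hw1 => by
      have := Fintype.ofFinite Z
      by_contra hwz
      have hc : ({⟨1, one_mem _⟩, ⟨z, hz⟩, ⟨w, hw⟩} : Finset Z).card = 3 := by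
        simp [Subtype.ext_iff, Ne.symm hne, Ne.symm hw1, Ne.symm hwz]
      have := Finset.card_le_univ ({⟨1, one_mem _⟩, ⟨z, hz⟩, ⟨w, hw⟩} : Finset Z)
      rw [hc, ← Nat.card_eq_fintype_card, hZ2] at this
      omega
    have := h2 _ hm (fun e => hne (conj_eq_one_iff.1 e))
    exact mul_inv_eq_iff_eq_mul.1 this
  let π := QuotientGroup.mk' Z
  let W := H.map π
  have hW16 : Nat.card W = 16 := by
    have h := Grp.SameOrder.card_map_mk Z H
    rw [inf_of_le_left (inf_le_left : Z ≤ H), hZ2, h32] at h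
    show Nat.card (H.map (QuotientGroup.mk' Z)) = 16
    omega
  -- the factor is elementary abelian
  have hcommH : ∀ a ∈ H, ∀ b ∈ H, ⁅a, b⁆ ∈ Z := fun a ha b hb => by
    have h : ⁅(⟨a, ha⟩ : H), (⟨b, hb⟩ : H)⁆ ∈ Subgroup.center H :=
      (Fus.extraspecial_two_facts hex).2 _ _
    rw [← hZeq, Subgroup.mem_subgroupOf] at h
    exact h
  have hsqH : ∀ a ∈ H, a ^ 2 ∈ Z := fun a ha => by
    have h : (⟨a, ha⟩ : H) ^ 2 ∈ Subgroup.center H := (Fus.extraspecial_two_facts hex).1 _
    rw [← hZeq, Subgroup.mem_subgroupOf] at h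
    exact h
  have hWc : ∀ u ∈ W, ∀ v ∈ W, u * v = v * u := by
    rintro _ ⟨a, ha, rfl⟩ _ ⟨b, hb, rfl⟩
    rw [← commutatorElement_eq_one_iff_mul_comm, ← map_commutatorElement]
    exact (QuotientGroup.eq_one_iff _).2 (hcommH a ha b hb)
  have hW2 : ∀ u ∈ W, u * u = 1 := by
    rintro _ ⟨a, ha, rfl⟩
    rw [← map_mul, ← pow_two]
    exact (QuotientGroup.eq_one_iff _).2 (hsqH a ha)
  -- an element of order five inverted by `T`
  have hT2 : T * T = 1 := by rw [← pow_two, ← hT, pow_orderOf_eq_one]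
  have hQ10 : Nat.card (G ⧸ H) = 10 := by
    have h := Subgroup.card_eq_card_quotient_mul_card_subgroup H
    rw [hG, h32] at h; omega
  obtain ⟨c, hc⟩ : ∃ c : G, T * (c * T * c⁻¹) ∉ H := by
    by_contra hno
    push Not at hno
    let N := H ⊔ Subgroup.zpowers T
    have hNn : N.Normal := by
      rw [← Subgroup.normalizer_eq_top_iff, eq_top_iff]
      intro g _
      refine Subgroup.mem_normalizer_fintype fun x hx => ?_
      rw [SetLike.mem_coe] at hx ⊢
      have hle : N ≤ N.comap (MulAut.conj g).toMonoidHom := by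
        refine sup_le (fun y hy => Subgroup.mem_sup_left (hHn.conj_mem y hy g)) (Subgroup.zpowers_le.2 ?_)
        show g * T * g⁻¹ ∈ N
        rw [show g * T * g⁻¹ = T * (T * (g * T * g⁻¹)) by rw [← mul_assoc T T, hT2, one_mul]]
        exact N.mul_mem (Subgroup.mem_sup_right (Subgroup.mem_zpowers T)) (Subgroup.mem_sup_left (hno g))
      exact hle hx
    have hT' : IsPGroup 2 (Subgroup.zpowers T) := IsPGroup.of_card (n := 1) (by rw [Nat.card_zpowers, hT, pow_one])
    have hN2 : IsPGroup 2 N := hH2.to_sup_of_normal_left hT'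
    exact hTH (hHdef ▸ Grp.le_pCore hNn hN2 (Subgroup.mem_sup_right (Subgroup.mem_zpowers T)))
  let T' := c * T * c⁻¹
  have hT'2 : T' * T' = 1 := by
    show c * T * c⁻¹ * (c * T * c⁻¹) = 1
    rw [show c * T * c⁻¹ * (c * T * c⁻¹) = c * (T * T) * c⁻¹ by group, hT2]
    group
  let y := (T * T') ^ 64
  have hy5 : y ^ 5 = 1 := by
    show ((T * T') ^ 64) ^ 5 = 1
    rw [← pow_mul, show 64 * 5 = 320 from rfl, ← hG, pow_card_eq_one']
  have hyH : y ∉ H := by
    let t := QuotientGroup.mk' H T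
    let t' := QuotientGroup.mk' H T'
    have htt : t * t = 1 := by rw [← map_mul, hT2, map_one]
    have htt' : t' * t' = 1 := by rw [← map_mul, hT'2, map_one]
    have hne : t * t' ≠ 1 := fun e => hc ((QuotientGroup.eq_one_iff _).1 (by rw [← map_mul] at e; exact e))
    have hne1 : t ≠ 1 := fun e => hTH ((QuotientGroup.eq_one_iff _).1 e)
    have hne1' : t' ≠ 1 := fun e => by
      have h1 : c * T * c⁻¹ ∈ H := (QuotientGroup.eq_one_iff _).1 e
      have := hHn.conj_mem _ h1 c⁻¹
      exact hTH (by simpa [mul_assoc] using this)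
    have hnc : t * t' ≠ t' * t := fun e => by
      haveI : IsMulCommutative (Subgroup.closure ({t, t'} : Set (G ⧸ H))) := Subgroup.isMulCommutative_closure (by
        rintro p hp q hq
        simp only [Set.mem_insert_iff, Set.mem_singleton_iff] at hp hq
        rcases hp with rfl | rfl <;> rcases hq with rfl | rfl <;> first | rfl | exact e | exact e.symm)
      let K := Subgroup.closure ({t, t'} : Set (G ⧸ H))
      have hall : ∀ p ∈ K, p ^ 2 = 1 := fun p hk => by
        induction hk using Subgroup.closure_induction with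
        | mem p hp =>
          simp only [Set.mem_insert_iff, Set.mem_singleton_iff] at hp
          rcases hp with rfl | rfl <;> rw [pow_two] <;> assumption
        | one => exact one_pow 2
        | mul p q hp hq ihp ihq =>
          have hpq : Commute p q := congrArg Subtype.val (mul_comm' (⟨p, hp⟩ : K) ⟨q, hq⟩)
          rw [hpq.mul_pow, ihp, ihq, one_mul]
        | inv p _ ihp => rw [inv_pow, ihp, inv_one]
      have hK2 : IsPGroup 2 K := fun k => ⟨1, Subtype.ext (by rw [pow_one]; exact hall _ k.2)⟩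
      obtain ⟨k, hk⟩ := hK2.exists_card_eq
      have hd : 2 ^ k ∣ 10 := by rw [← hk, ← hQ10]; exact Subgroup.card_subgroup_dvd_card K
      have hk1 : k ≤ 1 := by
        by_contra h
        have : 2 ^ 2 ∣ 10 := (pow_dvd_pow 2 (by omega)).trans hd
        norm_num at this
      have := Fintype.ofFinite K
      have hc3 : ({⟨1, one_mem _⟩, ⟨t, Subgroup.subset_closure (by simp)⟩, ⟨t', Subgroup.subset_closure (by simp)⟩} :
          Finset K).card = 3 := by
        have : t ≠ t' := fun e' => hne (by rw [← e', htt])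
        simp [Subtype.ext_iff, Ne.symm hne1, Ne.symm hne1', this]
      have h3 := Finset.card_le_univ ({⟨1, one_mem _⟩, ⟨t, Subgroup.subset_closure (by simp)⟩,
        ⟨t', Subgroup.subset_closure (by simp)⟩} : Finset K)
      rw [hc3, ← Nat.card_eq_fintype_card, hk] at h3
      have : 2 ^ k ≤ 2 ^ 1 := Nat.pow_le_pow_right (by norm_num) hk1
      omega
    intro hy
    have h64 : (t * t') ^ 64 = 1 := by
      rw [← map_mul, ← map_pow]; exact (QuotientGroup.eq_one_iff _).2 hy
    have hd : orderOf (t * t') ∣ 2 := by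
      have h1 := Nat.dvd_gcd (orderOf_dvd_of_pow_eq_one h64) (orderOf_dvd_natCard (t * t'))
      rw [hQ10] at h1
      exact h1
    have hs := orderOf_dvd_iff_pow_eq_one.1 hd
    refine hnc ?_
    have hti : t⁻¹ = t := inv_eq_of_mul_eq_one_right htt
    have hti' : t'⁻¹ = t' := inv_eq_of_mul_eq_one_right htt'
    calc t * t' = (t * t')⁻¹ := (inv_eq_of_mul_eq_one_right (by rw [← pow_two]; exact hs)).symm
      _ = t' * t := by rw [mul_inv_rev, hti, hti']
  have hyo : orderOf y = 5 := orderOf_eq_prime hy5 (fun e => hyH (e ▸ one_mem H))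
  have hCH : ∀ g : G, g ^ 5 = 1 → g ∈ Subgroup.centralizer (H : Set G) → g = 1 := by
    intro g hg hgC
    by_contra hg1
    let C := Subgroup.centralizer (H : Set G)
    have hd : Nat.card C ∣ 20 := by
      have h1 := Grp.SameOrder.card_map_mk H C
      have h2 : Nat.card ↥(H ⊓ C) = 2 := hZ2
      have h3 : Nat.card (C.map (QuotientGroup.mk' H)) ∣ 10 := hQ10 ▸ Subgroup.card_subgroup_dvd_card _
      rw [← h1, h2, show 20 = 10 * 2 from rfl]
      exact Nat.mul_dvd_mul_right h3 2
    obtain ⟨P⟩ : Nonempty (Sylow 5 C) := inferInstance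
    have hn1 : Nat.card (Sylow 5 C) = 1 := by
      have h1 : Nat.card (Sylow 5 C) ∣ 20 := (P.card_dvd_index).trans ((Subgroup.index_dvd_card _).trans hd)
      have h2 := card_sylow_modEq_one 5 C
      unfold Nat.ModEq at h2
      have hle := Nat.le_of_dvd (by norm_num) h1
      interval_cases (Nat.card (Sylow 5 C)) <;> omega
    haveI : Subsingleton (Sylow 5 C) := (Nat.card_eq_one_iff_unique.1 hn1).1
    haveI : (P : Subgroup C).Normal := Sylow.normal_of_subsingleton P
    haveI : (P : Subgroup C).Characteristic := Sylow.characteristic_of_normal P inferInstance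
    have hgP : (⟨g, hgC⟩ : C) ∈ (P : Subgroup C) := by
      obtain ⟨Q, hQ⟩ := (IsPGroup.of_card (n := 1) (show Nat.card (Subgroup.zpowers (⟨g, hgC⟩ : C)) = 5 ^ 1 by
        rw [Nat.card_zpowers, pow_one]
        exact orderOf_eq_prime (Subtype.ext hg) (fun e => hg1 (congrArg Subtype.val e)))).exists_le_sylow
      rw [Subsingleton.elim P Q]
      exact hQ (Subgroup.mem_zpowers _)
    have hnil : Group.IsNilpotent ((P : Subgroup C).map C.subtype) := (P.isPGroup'.map C.subtype).isNilpotent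
    have hle := Grp.le_fittingSubgroup (inferInstance : ((P : Subgroup C).map C.subtype).Normal) hnil
    rw [← hHF] at hle
    have hgH : g ∈ H := hle ⟨_, hgP, rfl⟩
    obtain ⟨k, hk⟩ := hH2 ⟨g, hgH⟩
    have h2k : g ^ 2 ^ k = 1 := congrArg Subtype.val hk
    have := pow_gcd_eq_one.2 ⟨h2k, hg⟩
    rw [show Nat.gcd (2 ^ k) 5 = 1 from Nat.Coprime.pow_left k (by norm_num), pow_one] at this
    exact hg1 this
  -- fixed points on the factor
  let t := π T
  have htt : t * t = 1 := by rw [← map_mul, hT2, map_one]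
  let A : Subgroup (G ⧸ Z) := W ⊓ Subgroup.centralizer ({t} : Set (G ⧸ Z))
  let B : Subgroup (G ⧸ Z) := W ⊓ Subgroup.centralizer ({π T'} : Set (G ⧸ Z))
  haveI hWn : W.Normal := hHn.map π (QuotientGroup.mk'_surjective Z)
  have hAB : A ⊓ B = ⊥ := by
    have hfy : A ⊓ B ≤ W ⊓ Subgroup.centralizer ({π y} : Set (G ⧸ Z)) := by
      rintro w ⟨⟨hw, hwA⟩, -, hwB⟩
      refine ⟨hw, Subgroup.mem_centralizer_singleton_iff.2 ?_⟩
      have hA' : Commute w t := Subgroup.mem_centralizer_singleton_iff.1 hwA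
      have hB' : Commute w (π T') := Subgroup.mem_centralizer_singleton_iff.1 hwB
      have : Commute w (π ((T * T') ^ 64)) := by
        rw [map_pow, map_mul]
        exact (hA'.mul_right hB').pow_right 64
      exact this.eq
    rw [eq_bot_iff]
    refine hfy.trans ?_
    let R := Subgroup.zpowers (π y)
    have hπy : π y ≠ 1 := fun e => hyH ((inf_le_left : Z ≤ H) ((QuotientGroup.eq_one_iff y).1 e))
    have hR5 : Nat.card R = 5 := by
      rw [Nat.card_zpowers]
      exact orderOf_eq_prime (by rw [← map_pow, hy5, map_one]) hπy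
    letI : MulAction R W := MulAction.compHom W ((Subgroup.normalizerMonoidHom W).comp
      (Subgroup.inclusion (by rw [Subgroup.normalizer_eq_top]; exact le_top : R ≤ Subgroup.normalizer (W : Set (G ⧸ Z)))))
    have hmod := (IsPGroup.of_card (p := 5) (n := 1) (by rw [pow_one, hR5]) : IsPGroup 5 R).card_modEq_card_fixedPoints W
    let C0 : Subgroup W := (Subgroup.centralizer ({π y} : Set (G ⧸ Z))).subgroupOf W
    have hfix : MulAction.fixedPoints R W = (C0 : Set W) := by
      ext w
      constructor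
      · intro hw
        refine Subgroup.mem_centralizer_singleton_iff.2 ?_
        exact (mul_inv_eq_iff_eq_mul.1 (congrArg Subtype.val (hw ⟨π y, Subgroup.mem_zpowers _⟩))).symm
      · intro hw r
        have hc : Commute (r : G ⧸ Z) (w : G ⧸ Z) := by
          obtain ⟨k, hk⟩ := r.2
          rw [← hk]
          exact Commute.zpow_left (Subgroup.mem_centralizer_singleton_iff.1 hw).symm k
        refine Subtype.ext ?_
        show (r : G ⧸ Z) * w * (r : G ⧸ Z)⁻¹ = w
        rw [hc.eq, mul_inv_cancel_right]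
    rw [hfix] at hmod
    change Nat.card W ≡ Nat.card C0 [MOD 5] at hmod
    rw [hW16] at hmod
    have hdC : Nat.card C0 ∣ 16 := hW16 ▸ Subgroup.card_subgroup_dvd_card C0
    have hle16 := Nat.le_of_dvd (by norm_num) hdC
    unfold Nat.ModEq at hmod
    have hcases : Nat.card C0 = 1 ∨ Nat.card C0 = 16 := by
      interval_cases (Nat.card C0) <;> first | omega | norm_num at hdC hmod ⊢
    rcases hcases with h1 | h16
    · intro w hw
      have : (⟨w, hw.1⟩ : W) ∈ C0 := hw.2
      rw [Subgroup.card_eq_one.1 h1, Subgroup.mem_bot] at this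
      exact congrArg Subtype.val this
    · exfalso
      have htop : C0 = ⊤ := Subgroup.eq_top_of_card_eq C0 (h16.trans hW16.symm)
      have hy1 : y = 1 := by
        refine hCH y hy5 (Grp.le_centralizer_of_series (Subgroup.zpowers y) H Z
          (by rw [Subgroup.normalizer_eq_top]; exact le_top)
          (by rw [Nat.card_zpowers, hyo, h32]; norm_num) (Or.inr (by haveI := hH2.isNilpotent; infer_instance)) ?_ ?_
          (Subgroup.mem_zpowers y))
        · rw [Subgroup.commutator_le]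
          intro h hh g hg
          rw [← QuotientGroup.eq_one_iff]
          show π ⁅h, g⁆ = 1
          rw [map_commutatorElement, commutatorElement_eq_one_iff_mul_comm]
          obtain ⟨k, rfl⟩ := hg
          have : (⟨π h, Subgroup.mem_map_of_mem π hh⟩ : W) ∈ C0 := htop ▸ Subgroup.mem_top _
          rw [map_zpow]
          exact (Commute.zpow_right (Subgroup.mem_centralizer_singleton_iff.1 this) k).eq
        · rw [Subgroup.commutator_eq_bot_iff_le_centralizer]
          intro z hz
          exact Subgroup.mem_centralizer_iff.2 fun g _ => hZcen z hz g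
      exact hyH (hy1 ▸ one_mem H)
  have hB : Nat.card B = Nat.card A := by
    have hmap : A.map (MulAut.conj (π c)).toMonoidHom = B := by
      ext w
      constructor
      · rintro ⟨a, ⟨ha, ha'⟩, rfl⟩
        refine ⟨hWn.conj_mem a ha _, Subgroup.mem_centralizer_singleton_iff.2 ?_⟩
        show π c * a * (π c)⁻¹ * π (c * T * c⁻¹) = π (c * T * c⁻¹) * (π c * a * (π c)⁻¹)
        rw [map_mul, map_mul, map_inv]
        have h1 : a * π T = π T * a := Subgroup.mem_centralizer_singleton_iff.1 ha'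
        calc _ = π c * (a * π T) * (π c)⁻¹ := by group
          _ = π c * (π T * a) * (π c)⁻¹ := by rw [h1]
          _ = _ := by group
      · rintro ⟨hw, hw'⟩
        refine ⟨(π c)⁻¹ * w * π c, ⟨by simpa using hWn.conj_mem w hw (π c)⁻¹,
          Subgroup.mem_centralizer_singleton_iff.2 ?_⟩, by simp [mul_assoc]⟩
        have h1 : w * π (c * T * c⁻¹) = π (c * T * c⁻¹) * w := Subgroup.mem_centralizer_singleton_iff.1 hw'
        rw [map_mul, map_mul, map_inv] at h1
        show (π c)⁻¹ * w * π c * π T = π T * ((π c)⁻¹ * w * π c)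
        calc (π c)⁻¹ * w * π c * π T = (π c)⁻¹ * (w * (π c * π T * (π c)⁻¹)) * π c := by group
          _ = (π c)⁻¹ * ((π c * π T * (π c)⁻¹) * w) * π c := by rw [h1]
          _ = _ := by group
    rw [← hmap, Subgroup.card_map_of_injective (MulAut.conj (π c)).injective]
  have hA4 : Nat.card A * Nat.card A ≤ 16 := by
    let m : A × B → W := fun p => ⟨(p.1 : G ⧸ Z) * p.2, W.mul_mem p.1.2.1 p.2.2.1⟩
    have hm : Function.Injective m := fun p q h => by
      have h' : (p.1 : G ⧸ Z) * p.2 = q.1 * q.2 := congrArg Subtype.val h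
      have h1 : (q.1 : G ⧸ Z)⁻¹ * p.1 = (q.2 : G ⧸ Z) * (p.2 : G ⧸ Z)⁻¹ := by
        rw [eq_mul_inv_iff_mul_eq, mul_assoc, h', inv_mul_cancel_left]
      have hz : (q.1 : G ⧸ Z)⁻¹ * p.1 ∈ A ⊓ B :=
        ⟨A.mul_mem (A.inv_mem q.1.2) p.1.2, h1 ▸ B.mul_mem q.2.2 (B.inv_mem p.2.2)⟩
      rw [hAB, Subgroup.mem_bot] at hz
      have e1 := inv_mul_eq_one.1 hz
      rw [hz] at h1
      exact Prod.ext (Subtype.ext e1.symm) (Subtype.ext (mul_inv_eq_one.1 h1.symm).symm)
    have := Nat.card_le_card_of_injective m hm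
    rw [Nat.card_prod, hB, hW16] at this
    exact this
  have hA4' : Nat.card A ≤ 4 := by nlinarith
  -- commutators with `T` exhaust the fixed points
  let f : W →* W :=
    { toFun := fun w => ⟨(w : G ⧸ Z)⁻¹ * (t * w * t⁻¹), W.mul_mem (W.inv_mem w.2) (hWn.conj_mem _ w.2 t)⟩
      map_one' := Subtype.ext (by simp)
      map_mul' := fun u v => Subtype.ext (by
        show ((u : G ⧸ Z) * v)⁻¹ * (t * ((u : G ⧸ Z) * v) * t⁻¹) =
          ((u : G ⧸ Z)⁻¹ * (t * u * t⁻¹)) * ((v : G ⧸ Z)⁻¹ * (t * v * t⁻¹))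
        calc _ = (v : G ⧸ Z)⁻¹ * ((u : G ⧸ Z)⁻¹ * (t * u * t⁻¹)) * (t * v * t⁻¹) := by group
          _ = ((u : G ⧸ Z)⁻¹ * (t * u * t⁻¹)) * (v : G ⧸ Z)⁻¹ * (t * v * t⁻¹) := by
            rw [hWc _ (W.inv_mem v.2) _ (W.mul_mem (W.inv_mem u.2) (hWn.conj_mem _ u.2 t))]
          _ = _ := by group) }
  have hti : t⁻¹ = t := inv_eq_of_mul_eq_one_right htt
  have hWi : ∀ w ∈ W, w⁻¹ = w := fun w hw => inv_eq_of_mul_eq_one_right (hW2 w hw)
  have hker : f.ker = A.subgroupOf W := by
    ext w
    rw [MonoidHom.mem_ker, Subgroup.mem_subgroupOf]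
    constructor
    · intro h
      refine ⟨w.2, Subgroup.mem_centralizer_singleton_iff.2 ?_⟩
      have h' : (w : G ⧸ Z)⁻¹ * (t * w * t⁻¹) = 1 := congrArg Subtype.val h
      exact eq_mul_inv_iff_mul_eq.1 (inv_mul_eq_one.1 h')
    · rintro ⟨-, h⟩
      refine Subtype.ext ?_
      show (w : G ⧸ Z)⁻¹ * (t * w * t⁻¹) = 1
      rw [← Subgroup.mem_centralizer_singleton_iff.1 h, mul_inv_cancel_right, inv_mul_cancel]
  have hfA : ∀ w, (f w : G ⧸ Z) ∈ A := fun w => by
    refine ⟨(f w).2, Subgroup.mem_centralizer_singleton_iff.2 ?_⟩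
    show (w : G ⧸ Z)⁻¹ * (t * w * t⁻¹) * t = t * ((w : G ⧸ Z)⁻¹ * (t * w * t⁻¹))
    rw [hti, hWi _ w.2]
    have h1 := hWc _ w.2 _ (hWn.conj_mem _ w.2 t)
    rw [hti] at h1
    conv_rhs => rw [h1]
    simp only [mul_assoc, htt, mul_one]
    rw [← mul_assoc t t, htt, one_mul]
  have hAcard : Nat.card A = 4 ∧ f.range = A.subgroupOf W := by
    have h1 := Subgroup.card_mul_index f.ker
    rw [Subgroup.index_ker, hker, hW16, Nat.card_congr (Subgroup.subgroupOfEquivOfLe (inf_le_left : A ≤ W)).toEquiv] at h1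
    have hle : f.range ≤ A.subgroupOf W := by rintro _ ⟨w, rfl⟩; exact hfA w
    have h2 := Subgroup.card_le_of_le hle
    rw [Nat.card_congr (Subgroup.subgroupOfEquivOfLe (inf_le_left : A ≤ W)).toEquiv] at h2
    have h4 : Nat.card A = 4 := by
      refine le_antisymm hA4' ?_
      nlinarith
    refine ⟨h4, Subgroup.eq_of_le_of_card_ge hle ?_⟩
    rw [Nat.card_congr (Subgroup.subgroupOfEquivOfLe (inf_le_left : A ≤ W)).toEquiv, h4]
    rw [h4] at h1; omega
  -- the centraliser in `H`
  let C := H ⊓ Subgroup.centralizer ({T} : Set G)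
  have hZC : Z ≤ C := fun z hz => ⟨hz.1, Subgroup.mem_centralizer_singleton_iff.2 (hZcen z hz T).symm⟩
  have hCA : C.map π ≤ A := by
    rintro _ ⟨x, hx, rfl⟩
    refine ⟨Subgroup.mem_map_of_mem π hx.1, Subgroup.mem_centralizer_singleton_iff.2 ?_⟩
    show π x * π T = π T * π x
    rw [← map_mul, ← map_mul, Subgroup.mem_centralizer_singleton_iff.1 hx.2]
  have hC8 : Nat.card C = Nat.card (C.map π) * 2 := by
    have h := Grp.SameOrder.card_map_mk Z C
    rw [inf_of_le_left hZC, hZ2] at h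
    exact h.symm
  have hCmap : Nat.card (C.map π) ≤ 4 := hAcard.1 ▸ Subgroup.card_le_of_le hCA
  have hVC : V ≤ C := hV
  have hd4 : 4 ∣ Nat.card C := hV4 ▸ Subgroup.card_dvd_of_le hVC
  have hC4 : Nat.card C = 4 := by
    by_contra hne
    have hC8' : Nat.card C = 8 ∧ Nat.card (C.map π) = 4 := by
      have := Nat.card_pos (α := ↥(C.map π)); omega
    have hfull : C.map π = A := Subgroup.eq_of_le_of_card_ge hCA (by rw [hC8'.2, hAcard.1])
    have hsq : ∀ x ∈ C, x ^ 2 = 1 := by
      intro x hx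
      have hxA : (⟨π x, Subgroup.mem_map_of_mem π hx.1⟩ : W) ∈ f.range := by
        rw [hAcard.2]; exact hCA (Subgroup.mem_map_of_mem π hx)
      obtain ⟨⟨w, hw⟩, hfw⟩ := hxA
      obtain ⟨h, hh, rfl⟩ := hw
      let u := h⁻¹ * (T * h * T⁻¹)
      have hu : π u = π x := by
        have := congrArg Subtype.val hfw
        simp only [map_mul, map_inv, u]
        exact this
      obtain ⟨z, hz, hz'⟩ := (QuotientGroup.mk'_eq_mk' Z).1 hu
      have huC : u ∈ C := by
        rw [show u = x * z⁻¹ by rw [← hz', mul_inv_cancel_right]]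
        exact C.mul_mem hx (C.inv_mem (hZC hz))
      have hTi : T⁻¹ = T := inv_eq_of_mul_eq_one_right hT2
      have hinv : T * u * T⁻¹ = u⁻¹ := by
        show T * (h⁻¹ * (T * h * T⁻¹)) * T⁻¹ = (h⁻¹ * (T * h * T⁻¹))⁻¹
        simp only [mul_inv_rev, inv_inv, hTi, mul_assoc, hT2, mul_one]
      rw [← Subgroup.mem_centralizer_singleton_iff.1 huC.2, mul_inv_cancel_right] at hinv
      have hu2 : u ^ 2 = 1 := by rw [pow_two]; exact mul_eq_one_iff_eq_inv.2 hinv
      rw [← hz', (show Commute u z from hZcen z hz u).mul_pow, hu2, hZc z hz, one_mul]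
    have hcomm : ∀ a ∈ C, ∀ b ∈ C, a * b = b * a := fun a ha b hb => by
      have hai : ∀ g ∈ C, g⁻¹ = g := fun g hg => inv_eq_of_mul_eq_one_right (by rw [← pow_two]; exact hsq g hg)
      calc a * b = (a * b)⁻¹ := (hai _ (C.mul_mem ha hb)).symm
        _ = b * a := by rw [mul_inv_rev, hai a ha, hai b hb]
    have := hminus C inf_le_left ⟨⟨⟨fun a b => Subtype.ext (hcomm _ a.2 _ b.2)⟩⟩, hsq⟩
    omega
  have hCV : C = V := (Subgroup.eq_of_le_of_card_ge hVC (by rw [hC4, hV4])).symm
  show Nat.card C = 4 ∧ Cfsg.IsElementaryAbelian 2 C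
  rw [hCV]
  exact ⟨hV4, hVe⟩

end Cfsg.Agent.S4405
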