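import Cfsg.Statements.S4406
import Mathlib

set_option maxHeartbeats 1000000
set_option maxRecDepth 8000

set_option autoImplicit false
open Cfsg

namespace Cfsg.Agent.S4406

abbrev A4 := ↥(alternatingGroup (Fin 4))

theorem sq_of_pow_four : ∀ x : A4, x * x * (x * x) = 1 → x * x = 1 := by decide +kernel

def conjP (s v : A4) : A4 := s * v * s⁻¹
set_option synthInstance.maxSize 2000 in
set_option synthInstance.maxHeartbeats 400000 in
theorem conj_cases : ∀ s : A4, s * s * s = 1 → s ≠ 1 → ∀ v : A4, v * v = 1 → v ≠ 1 → ∀ w : A4, w * w = 1 → w ≠ 1 → w ≠ v →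
    w = conjP s v ∨ w = conjP s⁻¹ v := by decide +kernel
set_option synthInstance.maxSize 2000 in
set_option synthInstance.maxHeartbeats 400000 in
theorem conj_twice : ∀ s : A4, s * s * s = 1 → s ≠ 1 → ∀ v : A4, v * v = 1 → v ≠ 1 →
    conjP s (conjP s v) = v * conjP s v ∧ conjP s v ≠ v ∧ conjP s v * conjP s v = 1 ∧
      conjP s v ≠ 1 ∧ v * conjP s v ≠ 1 ∧ v * conjP s v ≠ v ∧ v * conjP s v ≠ conjP s v := by decide +kernel

/-- In the direct product P = A₄ × A₄, let X be the Sylow 2-subgroup, X₁ and X₂ its intersections with the two direct factors, Q a Sylow 3-subgroup and Q₁, Q₂ its intersections with the two factors. Then every subgroup B of X of order 4 either meets X₁ or X₂ nontrivially, or is normalized by one of the two subgroups of Q of order 3 other than Q₁ and Q₂. -/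
theorem result
    (X : Sylow 2 (↥(alternatingGroup (Fin 4)) × ↥(alternatingGroup (Fin 4))))
    (Q : Sylow 3 (↥(alternatingGroup (Fin 4)) × ↥(alternatingGroup (Fin 4))))
    (B : Subgroup (↥(alternatingGroup (Fin 4)) × ↥(alternatingGroup (Fin 4)))) (hBX : B ≤ (X : Subgroup _)) (hB4 : Nat.card ↥B = 4) :
    B ⊓ ((X : Subgroup _) ⊓ Subgroup.prod ⊤ ⊥) ≠ ⊥ ∨ B ⊓ ((X : Subgroup _) ⊓ Subgroup.prod ⊥ ⊤) ≠ ⊥ ∨
      ∃ R : Subgroup (↥(alternatingGroup (Fin 4)) × ↥(alternatingGroup (Fin 4))), R ≤ (Q : Subgroup _) ∧ Nat.card ↥R = 3 ∧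
        R ≠ (Q : Subgroup _) ⊓ Subgroup.prod ⊤ ⊥ ∧ R ≠ (Q : Subgroup _) ⊓ Subgroup.prod ⊥ ⊤ ∧ R ≤ Subgroup.normalizer (B : Set _) := by

  classical
  by_contra hcon
  push Not at hcon
  obtain ⟨hB1, hB2, hR⟩ := hcon
  have hA : Nat.card A4 = 12 := by rw [Nat.card_eq_fintype_card]; decide
  have hXsq : ∀ x : A4 × A4, x ∈ (X : Subgroup _) → x.1 * x.1 = 1 ∧ x.2 * x.2 = 1 := by
    intro x hx
    have hcard : Nat.card (X : Subgroup (A4 × A4)) = 2 ^ 4 := by
      rw [Sylow.card_eq_multiplicity, Nat.card_prod, hA]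
      congr 1
      rw [show (12 * 12 : ℕ) = 2 ^ 4 * 9 by norm_num, Nat.factorization_mul (by norm_num) (by norm_num),
        Nat.Prime.factorization_pow Nat.prime_two, Finsupp.add_apply, Finsupp.single_eq_same,
        Nat.factorization_eq_zero_of_not_dvd (by norm_num)]
    have key : ∀ y : A4, orderOf y ∣ 2 ^ 4 → y * y = 1 := fun y hy => by
      apply sq_of_pow_four
      have h1 : orderOf y ∣ 4 := by
        have h2 : orderOf y ∣ 12 := hA ▸ orderOf_dvd_natCard y
        exact Nat.dvd_gcd hy h2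
      have h3 := orderOf_dvd_iff_pow_eq_one.1 h1
      rw [← h3]; simp [pow_succ, mul_assoc]
    have h1 : orderOf x ∣ 2 ^ 4 := hcard ▸ Subgroup.orderOf_dvd_natCard _ hx
    exact ⟨key _ ((orderOf_map_dvd (MonoidHom.fst A4 A4) x).trans h1), key _ ((orderOf_map_dvd (MonoidHom.snd A4 A4) x).trans h1)⟩
  have hinj1 : ∀ a ∈ B, a.1 = 1 → a = 1 := fun a ha h => by
    have : a ∈ B ⊓ ((X : Subgroup _) ⊓ Subgroup.prod ⊥ ⊤) := ⟨ha, hBX ha, h, trivial⟩
    rwa [hB2, Subgroup.mem_bot] at this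
  have hinj2 : ∀ a ∈ B, a.2 = 1 → a = 1 := fun a ha h => by
    have : a ∈ B ⊓ ((X : Subgroup _) ⊓ Subgroup.prod ⊤ ⊥) := ⟨ha, hBX ha, trivial, h⟩
    rwa [hB1, Subgroup.mem_bot] at this
  -- the Sylow `3`-subgroup is the product of its projections
  haveI : Fact (Nat.Prime 3) := ⟨Nat.prime_three⟩
  have hQcard : Nat.card (Q : Subgroup (A4 × A4)) = 3 ^ 2 := by
    rw [Sylow.card_eq_multiplicity, Nat.card_prod, hA]
    congr 1
    rw [show (12 * 12 : ℕ) = 3 ^ 2 * 16 by norm_num, Nat.factorization_mul (by norm_num) (by norm_num),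
      Nat.Prime.factorization_pow Nat.prime_three, Finsupp.add_apply, Finsupp.single_eq_same,
      Nat.factorization_eq_zero_of_not_dvd (by norm_num)]
  set P1 := (Q : Subgroup (A4 × A4)).map (MonoidHom.fst A4 A4) with hP1
  set P2 := (Q : Subgroup (A4 × A4)).map (MonoidHom.snd A4 A4) with hP2
  have hle3 : ∀ P : Subgroup A4, Nat.card P ∣ 3 ^ 2 → Nat.card P ∣ 3 := fun P h => by
    have h2 : Nat.card P ∣ 12 := hA ▸ Subgroup.card_subgroup_dvd_card P
    exact Nat.dvd_gcd h h2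
  have hd1 := hle3 P1 (hQcard ▸ Subgroup.card_map_dvd _ _)
  have hd2 := hle3 P2 (hQcard ▸ Subgroup.card_map_dvd _ _)
  have hle : (Q : Subgroup (A4 × A4)) ≤ P1.prod P2 := fun x hx => ⟨⟨x, hx, rfl⟩, ⟨x, hx, rfl⟩⟩
  have hprod : Nat.card ↥(P1.prod P2) = Nat.card P1 * Nat.card P2 := by
    rw [Nat.card_congr (P1.prodEquiv P2).toEquiv, Nat.card_prod]
  have h9 : 9 ≤ Nat.card P1 * Nat.card P2 := by
    have := Subgroup.card_le_of_le hle
    rw [hQcard, hprod] at this; exact this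
  have hc1 : Nat.card P1 = 3 := by
    have := Nat.le_of_dvd (by norm_num) hd1; have := Nat.le_of_dvd (by norm_num) hd2; nlinarith
  have hc2 : Nat.card P2 = 3 := by
    have := Nat.le_of_dvd (by norm_num) hd1; have := Nat.le_of_dvd (by norm_num) hd2; nlinarith
  have hQeq : (Q : Subgroup (A4 × A4)) = P1.prod P2 :=
    Subgroup.eq_of_le_of_card_ge hle (by rw [hprod, hc1, hc2, hQcard]; norm_num)
  have hgen : ∀ P : Subgroup A4, Nat.card P = 3 → ∃ s ∈ P, s ≠ 1 ∧ s * s * s = 1 := fun P hP => by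
    haveI : Nontrivial P := Finite.one_lt_card_iff_nontrivial.1 (by omega)
    obtain ⟨⟨s, hs⟩, hs1⟩ := exists_ne (1 : P)
    refine ⟨s, hs, fun h => hs1 (Subtype.ext h), ?_⟩
    have := congrArg Subtype.val (pow_card_eq_one' (x := (⟨s, hs⟩ : P)))
    rw [hP, Subgroup.coe_pow, Subgroup.coe_one] at this
    rw [← this]; simp [pow_succ, mul_assoc]
  obtain ⟨s, hsP, hs1, hs3⟩ := hgen P1 hc1
  obtain ⟨t, htP, ht1, ht3⟩ := hgen P2 hc2
  -- a first element of `B`
  haveI : Nontrivial B := Finite.one_lt_card_iff_nontrivial.1 (by omega)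
  obtain ⟨⟨⟨u1, w1⟩, hb1⟩, hb1ne⟩ := exists_ne (1 : B)
  have hne1 : (u1, w1) ≠ (1 : A4 × A4) := fun h => hb1ne (Subtype.ext h)
  have hu1 : u1 ≠ 1 := fun h => hne1 (hinj1 _ hb1 h)
  have hw1 : w1 ≠ 1 := fun h => hne1 (hinj2 _ hb1 h)
  obtain ⟨hu1sq, hw1sq⟩ := hXsq _ (hBX hb1)
  obtain ⟨hs2, hs2ne, hs2sq, hs2n1, hp1, hpu, hpv⟩ := conj_twice s hs3 hs1 u1 hu1sq hu1
  simp only [conjP] at hs2 hs2ne hs2sq hs2n1 hp1 hpu hpv
  -- the element of `B` over the conjugate of `u1`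
  have hsurj : ∃ w2, (s * u1 * s⁻¹, w2) ∈ B := by
    set f : B →* A4 := (MonoidHom.fst A4 A4).comp B.subtype
    have hfi : Function.Injective f := (injective_iff_map_eq_one f).2 fun a ha => Subtype.ext (hinj1 a a.2 ha)
    have hr : Nat.card f.range = 4 := (Nat.card_congr (MonoidHom.ofInjective hfi).toEquiv).symm.trans hB4
    set S : Finset A4 := Finset.univ.filter fun x => x * x = 1
    have hsub : Finset.univ.filter (· ∈ f.range) ⊆ S := fun x hx => by
      obtain ⟨b, rfl⟩ := (Finset.mem_filter.1 hx).2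
      exact Finset.mem_filter.2 ⟨Finset.mem_univ _, (hXsq _ (hBX b.2)).1⟩
    have hS : S.card = 4 := by decide +kernel
    have heq := Finset.eq_of_subset_of_card_le hsub (by
      rw [hS]
      refine le_of_eq ?_
      refine hr.symm.trans ?_
      rw [Nat.card_eq_fintype_card, Fintype.card_subtype])
    have hmem : s * u1 * s⁻¹ ∈ Finset.univ.filter (· ∈ f.range) := by
      rw [heq]; exact Finset.mem_filter.2 ⟨Finset.mem_univ _, hs2sq⟩
    obtain ⟨⟨⟨a, b⟩, hab⟩, e⟩ := (Finset.mem_filter.1 hmem).2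
    exact ⟨b, (show a = s * u1 * s⁻¹ from e) ▸ hab⟩
  obtain ⟨w2, hb2⟩ := hsurj
  have hw2 : w2 ≠ 1 := fun h => hs2n1 (congrArg Prod.fst (hinj2 _ hb2 h))
  have hw2ne : w2 ≠ w1 := fun h => by
    have h1 := B.mul_mem hb2 (B.inv_mem hb1)
    have h2 := hinj2 _ h1 (by show w2 * w1⁻¹ = 1; rw [h, mul_inv_cancel])
    exact hs2ne (mul_inv_eq_one.1 (congrArg Prod.fst h2))
  obtain ⟨r, hrP, hr1, hr3, hrw⟩ : ∃ r ∈ P2, r ≠ 1 ∧ r * r * r = 1 ∧ w2 = r * w1 * r⁻¹ := by
    rcases conj_cases t ht3 ht1 w1 hw1sq hw1 w2 (hXsq _ (hBX hb2)).2 hw2 hw2ne with h | h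
    · exact ⟨t, htP, ht1, ht3, h⟩
    · exact ⟨t⁻¹, inv_mem htP, inv_ne_one.2 ht1, by
        rw [← mul_inv_rev, ← mul_inv_rev, inv_eq_one, ← mul_assoc, ht3], by rw [inv_inv]; simpa only [conjP, inv_inv] using h⟩
  subst hrw
  obtain ⟨hr2, hr2ne, -, -, -, -, -⟩ := conj_twice r hr3 hr1 w1 hw1sq hw1
  simp only [conjP] at hr2
  set g : A4 × A4 := (s, r) with hg
  have hgQ : g ∈ (Q : Subgroup (A4 × A4)) := by rw [hQeq]; exact ⟨hsP, hrP⟩
  have hgB : ∀ x ∈ B, g * x * g⁻¹ ∈ B := by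
    have hclo : B ≤ Subgroup.closure {(u1, w1), (s * u1 * s⁻¹, r * w1 * r⁻¹)} := by
      set C := Subgroup.closure ({(u1, w1), (s * u1 * s⁻¹, r * w1 * r⁻¹)} : Set (A4 × A4))
      have hCB : C ≤ B := (Subgroup.closure_le _).2 (by rintro x (rfl | rfl); exacts [hb1, hb2])
      refine (Subgroup.eq_of_le_of_card_ge hCB ?_).ge
      have hsub : ({1, (u1, w1), (s * u1 * s⁻¹, r * w1 * r⁻¹), (u1, w1) * (s * u1 * s⁻¹, r * w1 * r⁻¹)} : Finset (A4 × A4)) ⊆
          Finset.univ.filter (· ∈ C) := by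
        intro x hx
        simp only [Finset.mem_insert, Finset.mem_singleton] at hx
        refine Finset.mem_filter.2 ⟨Finset.mem_univ _, ?_⟩
        have m1 : (u1, w1) ∈ C := Subgroup.subset_closure (Set.mem_insert _ _)
        have m2 : (s * u1 * s⁻¹, r * w1 * r⁻¹) ∈ C := Subgroup.subset_closure (Set.mem_insert_of_mem _ rfl)
        rcases hx with rfl | rfl | rfl | rfl
        exacts [one_mem _, m1, m2, mul_mem m1 m2]
      have h4 := Finset.card_le_card hsub
      rw [hB4]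
      rw [Nat.card_eq_fintype_card, Fintype.card_subtype]
      refine le_trans (le_of_eq ?_) h4
      rw [Finset.card_insert_of_notMem, Finset.card_insert_of_notMem, Finset.card_insert_of_notMem, Finset.card_singleton]
      · simp only [Finset.mem_singleton, Prod.mk_mul_mk, Prod.mk.injEq]
        exact fun h => hpv h.1.symm
      · simp only [Finset.mem_insert, Finset.mem_singleton, Prod.mk_mul_mk, Prod.mk.injEq]
        rintro (h | h)
        · exact hs2ne h.1.symm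
        · exact hpu h.1.symm
      · simp only [Finset.mem_insert, Finset.mem_singleton, Prod.mk_mul_mk, Prod.mk_eq_one, Prod.one_eq_mk, Prod.mk.injEq]
        rintro (h | h | h)
        · exact hu1 h.1.symm
        · exact hs2n1 h.1.symm
        · exact hp1 h.1.symm
    intro x hx
    have hle' : B ≤ B.comap (MulAut.conj g).toMonoidHom := hclo.trans ((Subgroup.closure_le _).2 (by
      rintro y (rfl | rfl)
      · exact hb2
      · show g * _ * g⁻¹ ∈ B
        have e : g * (s * u1 * s⁻¹, r * w1 * r⁻¹) * g⁻¹ = (u1, w1) * (s * u1 * s⁻¹, r * w1 * r⁻¹) := by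
          rw [hg, Prod.inv_mk, Prod.mk_mul_mk, Prod.mk_mul_mk, Prod.mk_mul_mk, hs2, hr2]
        rw [e]; exact B.mul_mem hb1 hb2))
    exact hle' hx
  have hgN : g ∈ Subgroup.normalizer (B : Set (A4 × A4)) := by
    have heq : B.map (MulAut.conj g).toMonoidHom = B := Subgroup.eq_of_le_of_card_ge
      (by rintro _ ⟨a, ha, rfl⟩; exact hgB a ha) (Subgroup.card_map_of_injective (MulAut.conj g).injective).ge
    refine Subgroup.mem_normalizer_iff.2 fun m => ⟨hgB m, fun h => ?_⟩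
    rw [← heq] at h
    obtain ⟨a, ha, hae⟩ := h
    rwa [← (MulAut.conj g).injective (show MulAut.conj g a = MulAut.conj g m from hae)]
  have hord : orderOf g = 3 := orderOf_eq_prime (by
    rw [hg, Prod.pow_mk, Prod.mk_eq_one]; exact ⟨by rw [← hs3]; simp [pow_succ, mul_assoc], by rw [← hr3]; simp [pow_succ, mul_assoc]⟩) (fun h => hs1 (congrArg Prod.fst h))
  refine hR (Subgroup.zpowers g) (Subgroup.zpowers_le.2 hgQ) (by rw [Nat.card_zpowers, hord]) ?_ ?_ (Subgroup.zpowers_le.2 hgN)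
  · intro e
    have := e ▸ Subgroup.mem_zpowers g
    exact hr1 this.2.2
  · intro e
    have := e ▸ Subgroup.mem_zpowers g
    exact hs1 this.2.1

end Cfsg.Agent.S4406
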