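import Cfsg.Statements.S4408
import Mathlib
import Cfsg.Agent.Lib.Grp.Basic
import Cfsg.Agent.Lib.Grp.Cores
import Cfsg.Agent.Lib.Grp.Solvable

set_option maxHeartbeats 1000000
set_option maxRecDepth 8000

set_option autoImplicit false
open Cfsg

namespace Cfsg.Agent.S4408

/-- An element of `M \ A` which every involution of `I` fixes or inverts modulo `A`. -/
theorem exists_eigen {G : Type*} [Group G] (I : Finset G) (hI2 : ∀ x ∈ I, x * x = 1)
    (hIc : ∀ x ∈ I, ∀ y ∈ I, x * y = y * x) (A M : Subgroup G)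
    (hcen : ∀ a ∈ A, ∀ m ∈ M, a * m = m * a) (hcom : ∀ m ∈ M, ∀ l ∈ M, m * l * m⁻¹ * l⁻¹ ∈ A)
    (hAI : ∀ x ∈ I, ∀ a ∈ A, x * a * x⁻¹ ∈ A) (hMI : ∀ x ∈ I, ∀ m ∈ M, x * m * x⁻¹ ∈ M) (hAM : A ≤ M)
    (u₀ : G) (hu₀ : u₀ ∈ M) (hu₀' : u₀ ∉ A) :
    ∃ u ∈ M, u ∉ A ∧ ∀ x ∈ I, u⁻¹ * (x * u * x⁻¹) ∈ A ∨ u * (x * u * x⁻¹) ∈ A := by
  classical
  induction I using Finset.induction with
  | empty => exact ⟨u₀, hu₀, hu₀', by simp⟩
  | insert y s hys ih =>
    obtain ⟨u, huM, huA, hu⟩ := ih (fun x hx => hI2 x (Finset.mem_insert_of_mem hx))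
      (fun x hx z hz => hIc x (Finset.mem_insert_of_mem hx) z (Finset.mem_insert_of_mem hz))
      (fun x hx => hAI x (Finset.mem_insert_of_mem hx)) (fun x hx => hMI x (Finset.mem_insert_of_mem hx))
    set v := y * u * y⁻¹ with hv
    have hy := Finset.mem_insert_self y s
    have hvM : v ∈ M := hMI y hy u huM
    by_cases hfix : u⁻¹ * v ∈ A
    · refine ⟨u, huM, huA, fun x hx => ?_⟩
      rcases Finset.mem_insert.1 hx with rfl | hx
      exacts [Or.inl hfix, hu x hx]
    refine ⟨u⁻¹ * v, M.mul_mem (M.inv_mem huM) hvM, hfix, fun x hx => ?_⟩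
    rcases Finset.mem_insert.1 hx with rfl | hxs
    · right
      have hxx : x⁻¹ = x := inv_eq_of_mul_eq_one_right (hI2 x hy)
      have he : x * (u⁻¹ * v) * x⁻¹ = v⁻¹ * u := by
        calc x * (u⁻¹ * v) * x⁻¹ = v⁻¹ * ((x * x) * u * (x * x)⁻¹) := by rw [hv]; group
          _ = v⁻¹ * u := by rw [hI2 x hy]; group
      rw [he, mul_assoc, mul_inv_cancel_left, inv_mul_cancel]
      exact A.one_mem
    · have hx' : x ∈ insert y s := Finset.mem_insert_of_mem hxs
      have hxv : x * v * x⁻¹ = y * (x * u * x⁻¹) * y⁻¹ := by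
        rw [hv, show x * (y * u * y⁻¹) * x⁻¹ = (x * y) * u * (x * y)⁻¹ by group, hIc x hx' y hy]
        group
      rcases hu x hxs with h | h
      · left
        obtain ⟨a, ha, hxu⟩ : ∃ a ∈ A, x * u * x⁻¹ = u * a := ⟨_, h, by rw [mul_inv_cancel_left]⟩
        have hxw : x * (u⁻¹ * v) * x⁻¹ = (u * a)⁻¹ * (v * (y * a * y⁻¹)) := by
          rw [show x * (u⁻¹ * v) * x⁻¹ = (x * u * x⁻¹)⁻¹ * (x * v * x⁻¹) by group, hxv, hxu, hv]; group
        have hwM := M.mul_mem (M.inv_mem huM) hvM
        rw [hxw, show (u⁻¹ * v)⁻¹ * ((u * a)⁻¹ * (v * (y * a * y⁻¹))) = ((u⁻¹ * v)⁻¹ * a⁻¹ * (u⁻¹ * v)) * (y * a * y⁻¹) by group,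
          ← hcen _ (A.inv_mem ha) _ (M.inv_mem hwM), inv_mul_cancel_right]
        exact A.mul_mem (A.inv_mem ha) (hAI y hy a ha)
      · right
        obtain ⟨a, ha, hxu⟩ : ∃ a ∈ A, x * u * x⁻¹ = u⁻¹ * a := ⟨_, h, by rw [inv_mul_cancel_left]⟩
        have hxw : x * (u⁻¹ * v) * x⁻¹ = (u⁻¹ * a)⁻¹ * (v⁻¹ * (y * a * y⁻¹)) := by
          rw [show x * (u⁻¹ * v) * x⁻¹ = (x * u * x⁻¹)⁻¹ * (x * v * x⁻¹) by group, hxv, hxu, hv]; group
        have hwM := M.mul_mem huM (M.inv_mem hvM)
        rw [hxw, show u⁻¹ * v * ((u⁻¹ * a)⁻¹ * (v⁻¹ * (y * a * y⁻¹))) =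
            (u⁻¹ * v * u⁻¹⁻¹ * v⁻¹) * (((u * v⁻¹)⁻¹ * a⁻¹ * (u * v⁻¹)) * (y * a * y⁻¹)) by group,
          ← hcen _ (A.inv_mem ha) _ (M.inv_mem hwM), inv_mul_cancel_right]
        exact A.mul_mem (hcom _ (M.inv_mem huM) _ hvM) (A.mul_mem (A.inv_mem ha) (hAI y hy a ha))

/-- Let S be a finite solvable group whose Fitting subgroup F(S) has odd order, and let I be an elementary abelian 2-subgroup of S of order 2ⁿ with n ≥ 1. Then F(S) contains subgroups A₁, …, Aₙ of prime order, each normalized by I, pairwise commuting and generating a subgroup A of order |A₁|⋯|Aₙ| (their internal direct product), such that no non-identity element of I centralizes A. -/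
theorem result {S : Type*} [Group S] [Finite S]
    [Group.IsSolvable S] (hF : Odd (Nat.card ↥(Cfsg.fittingSubgroup S)))
    (I : Subgroup S) (hI : Cfsg.IsElementaryAbelian 2 I) (n : ℕ) (hn : 1 ≤ n) (hIn : Nat.card ↥I = 2 ^ n) :
    ∃ f : Fin n → Subgroup S, (∀ i, (Nat.card ↥(f i)).Prime) ∧ (∀ i, f i ≤ Cfsg.fittingSubgroup S) ∧
      (∀ i, I ≤ Subgroup.normalizer ((f i) : Set S)) ∧ (∀ i j, i ≠ j → ∀ a ∈ f i, ∀ b ∈ f j, a * b = b * a) ∧
      Nat.card ↥(⨆ i, f i) = ∏ i, Nat.card ↥(f i) ∧ I ⊓ Subgroup.centralizer ((⨆ i, f i : Subgroup S) : Set S) = ⊥ := by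

  classical
  have : Fintype S := Fintype.ofFinite S
  set F := Cfsg.fittingSubgroup S with hFdef
  haveI hFn : F.Normal := Cfsg.Agent.Grp.fittingSubgroup_isNormal
  haveI hFnil : Group.IsNilpotent F := Cfsg.Agent.Grp.fittingSubgroup_isNilpotent
  obtain ⟨hIcomm, hIexp⟩ := hI
  have hI2 : ∀ x ∈ I, x * x = 1 := fun x hx => by rw [← sq]; exact hIexp x hx
  have hIc : ∀ x ∈ I, ∀ y ∈ I, x * y = y * x := fun x hx y hy =>
    congrArg Subtype.val (mul_comm' (⟨x, hx⟩ : I) ⟨y, hy⟩)
  set T : Finset S := (I : Set S).toFinset with hT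
  have hTI : ∀ x, x ∈ T ↔ x ∈ I := fun x => by simp [hT]
  have hodd : ∀ t ∈ F, t * t = 1 → t = 1 := fun t ht h => by
    rw [← orderOf_eq_one_iff]
    refine Nat.eq_one_of_dvd_coprimes (Nat.Coprime.symm ((Nat.coprime_two_right.2 hF))) (orderOf_dvd_of_pow_eq_one (by rw [sq, h]))
      (F.orderOf_dvd_natCard ht)
  have hxx : ∀ x ∈ I, ∀ t : S, x * (x * t * x⁻¹) * x⁻¹ = t := fun x hx t => by
    calc x * (x * t * x⁻¹) * x⁻¹ = (x * x) * t * (x * x)⁻¹ := by group
      _ = t := by rw [hI2 x hx]; group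
  -- a maximal invariant abelian subgroup of `F`
  obtain ⟨A, ⟨hAF, hAc, hAI⟩, hAmax⟩ := (Set.toFinite {A : Subgroup S | A ≤ F ∧ IsMulCommutative A ∧
    ∀ x ∈ I, ∀ a ∈ A, x * a * x⁻¹ ∈ A}).exists_maximal ⟨⊥, bot_le, inferInstance, fun x _ a ha => by
      rw [Subgroup.mem_bot.1 ha]; simp⟩
  have hAcomm : ∀ a ∈ A, ∀ b ∈ A, a * b = b * a := fun a ha b hb =>
    congrArg Subtype.val (mul_comm' (⟨a, ha⟩ : A) ⟨b, hb⟩)
  have hself : ∀ c ∈ F, (∀ a ∈ A, a * c = c * a) → c ∈ A := by
    intro c hcF hc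
    by_contra hcA
    set C := F ⊓ Subgroup.centralizer (A : Set S) with hC
    have hcC : c ∈ C := ⟨hcF, Subgroup.mem_centralizer_iff.2 hc⟩
    have hAC : A ≤ C := le_inf hAF (fun a ha => Subgroup.mem_centralizer_iff.2 fun b hb => hAcomm b hb a ha)
    have hCI : ∀ x ∈ I, ∀ m ∈ C, x * m * x⁻¹ ∈ C := fun x hx m hm => ⟨hFn.conj_mem m hm.1 x,
      Subgroup.mem_centralizer_iff.2 fun a ha => by
        have := congrArg (fun t => x * t * x⁻¹) ((Subgroup.mem_centralizer_iff.1 hm.2) _ (hAI x hx a ha))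
        calc a * (x * m * x⁻¹) = (x * (x * a * x⁻¹) * x⁻¹) * (x * m * x⁻¹) := by rw [hxx x hx a]
          _ = x * ((x * a * x⁻¹) * m) * x⁻¹ := by group
          _ = x * (m * (x * a * x⁻¹)) * x⁻¹ := this
          _ = (x * m * x⁻¹) * (x * (x * a * x⁻¹) * x⁻¹) := by group
          _ = (x * m * x⁻¹) * a := by rw [hxx x hx a]⟩
    let M : Subgroup S :=
      { carrier := {m | m ∈ C ∧ ∀ d ∈ C, m * d * m⁻¹ * d⁻¹ ∈ A}
        one_mem' := ⟨C.one_mem, fun d _ => by simp⟩
        mul_mem' := fun {m l} hm hl => ⟨C.mul_mem hm.1 hl.1, fun d hd => by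
          rw [show m * l * d * (m * l)⁻¹ * d⁻¹ = (m * (l * d * l⁻¹ * d⁻¹) * m⁻¹) * (m * d * m⁻¹ * d⁻¹) by group,
            ← (Subgroup.mem_centralizer_iff.1 hm.1.2) _ (hl.2 d hd), mul_inv_cancel_right]
          exact A.mul_mem (hl.2 d hd) (hm.2 d hd)⟩
        inv_mem' := fun {m} hm => ⟨C.inv_mem hm.1, fun d hd => by
          have h := A.inv_mem (hm.2 d hd)
          rw [show m⁻¹ * d * m⁻¹⁻¹ * d⁻¹ = m⁻¹ * (m * d * m⁻¹ * d⁻¹)⁻¹ * m by group,
            ← (Subgroup.mem_centralizer_iff.1 (C.inv_mem hm.1).2) _ h, inv_mul_cancel_right]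
          exact h⟩ }
    have hCnil : Group.IsNilpotent C := Cfsg.Agent.Grp.isNilpotent_of_le (inf_le_left : C ≤ F) hFnil
    obtain ⟨u₀, hu₀M, hu₀A⟩ : ∃ u ∈ M, u ∉ A := by
      by_contra hno
      push Not at hno
      have hall : ∀ k, ∀ d : C, d ∈ Subgroup.upperCentralSeries C k → (d : S) ∈ A := by
        intro k
        induction k with
        | zero => intro d hd; rw [Subgroup.upperCentralSeries_zero, Subgroup.mem_bot] at hd; rw [hd]; exact A.one_mem
        | succ k ih =>
          intro d hd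
          refine hno d ⟨d.2, fun e he => ?_⟩
          exact ih ⟨_, C.mul_mem (C.mul_mem (C.mul_mem d.2 he) (C.inv_mem d.2)) (C.inv_mem he)⟩
            (Subgroup.mem_upperCentralSeries_succ_iff.1 hd ⟨e, he⟩)
      obtain ⟨k, hk⟩ := hCnil.nilpotent'
      exact hcA (hall k ⟨c, hcC⟩ (by rw [show Subgroup.upperCentralSeries C k = ⊤ from hk]; exact Subgroup.mem_top _))
    obtain ⟨u, huM, huA, hu⟩ := exists_eigen T (fun x hx => hI2 x ((hTI x).1 hx))
      (fun x hx y hy => hIc x ((hTI x).1 hx) y ((hTI y).1 hy)) A M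
      (fun a ha m hm => (Subgroup.mem_centralizer_iff.1 hm.1.2) a ha) (fun m hm l hl => hm.2 l hl.1)
      (fun x hx => hAI x ((hTI x).1 hx)) (fun x hx m hm => by
        have hxI := (hTI x).1 hx
        refine ⟨hCI x hxI m hm.1, fun d hd => ?_⟩
        have := hAI x hxI _ (hm.2 _ (hCI x hxI d hd))
        rw [show x * (m * (x * d * x⁻¹) * m⁻¹ * (x * d * x⁻¹)⁻¹) * x⁻¹ =
          (x * m * x⁻¹) * (x * (x * d * x⁻¹) * x⁻¹) * (x * m * x⁻¹)⁻¹ * (x * (x * d * x⁻¹) * x⁻¹)⁻¹ by group,
          hxx x hxI d] at this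
        exact this)
      (fun a ha => ⟨hAC ha, fun d hd => by
        rw [(Subgroup.mem_centralizer_iff.1 hd.2) a ha, mul_inv_cancel_right, mul_inv_cancel]; exact A.one_mem⟩) u₀ hu₀M hu₀A
    have hnew := hAmax (y := A ⊔ Subgroup.zpowers u) ⟨sup_le hAF (Subgroup.zpowers_le.2 huM.1.1), ?_, ?_⟩ le_sup_left
    · exact huA (hnew (Subgroup.mem_sup_right (Subgroup.mem_zpowers u)))
    · have hsub : A ⊔ Subgroup.zpowers u = Subgroup.closure ((A : Set S) ∪ {u}) := by
        rw [Subgroup.closure_union, Subgroup.closure_eq, Subgroup.zpowers_eq_closure]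
      refine IsMulCommutative.of_comm fun s t => Subtype.ext ?_
      have hle : A ⊔ Subgroup.zpowers u ≤ Subgroup.centralizer ((A ⊔ Subgroup.zpowers u : Subgroup S) : Set S) := by
        rw [hsub, Subgroup.centralizer_closure, Subgroup.closure_le]
        rintro a ha
        refine Subgroup.mem_centralizer_iff.2 fun b hb => ?_
        rcases ha with ha | ha <;> rcases hb with hb | hb
        · exact hAcomm b hb a ha
        · rw [Set.mem_singleton_iff.1 hb]; exact ((Subgroup.mem_centralizer_iff.1 huM.1.2) a ha).symm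
        · rw [Set.mem_singleton_iff.1 ha]; exact (Subgroup.mem_centralizer_iff.1 huM.1.2) b hb
        · rw [Set.mem_singleton_iff.1 ha, Set.mem_singleton_iff.1 hb]
      exact (Subgroup.mem_centralizer_iff.1 (hle t.2)) s s.2
    · intro x hx t ht
      refine (sup_le (fun a ha => Subgroup.mem_sup_left (hAI x hx a ha)) (Subgroup.zpowers_le.2 ?_) :
        A ⊔ Subgroup.zpowers u ≤ (A ⊔ Subgroup.zpowers u).comap (MulAut.conj x).toMonoidHom) ht
      show x * u * x⁻¹ ∈ A ⊔ Subgroup.zpowers u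
      have hu' : u ∈ A ⊔ Subgroup.zpowers u := Subgroup.mem_sup_right (Subgroup.mem_zpowers u)
      rcases hu x ((hTI x).2 hx) with h | h
      · rw [show x * u * x⁻¹ = u * (u⁻¹ * (x * u * x⁻¹)) by group]
        exact Subgroup.mul_mem _ hu' (Subgroup.mem_sup_left h)
      · rw [show x * u * x⁻¹ = u⁻¹ * (u * (x * u * x⁻¹)) by group]
        exact Subgroup.mul_mem _ (Subgroup.inv_mem _ hu') (Subgroup.mem_sup_left h)
  -- `I` is faithful on `A`
  have hfaith : ∀ x ∈ I, (∀ a ∈ A, a * x = x * a) → x = 1 := by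
    intro x hx hxA
    set B : Subgroup F := (Subgroup.centralizer ({x} : Set S)).subgroupOf F with hB
    have hBtop : B = ⊤ := by
      by_contra hne
      obtain ⟨g, hgn, hgB⟩ : ∃ g, g ∈ Subgroup.normalizer (B : Set F) ∧ g ∉ B :=
        SetLike.exists_of_lt (Group.normalizerCondition_of_isNilpotent B (lt_top_iff_ne_top.2 hne))
      refine hgB ?_
      set t := (g : S)⁻¹ * (x * g * x⁻¹) with ht
      have htF : t ∈ F := F.mul_mem (F.inv_mem g.2) (hFn.conj_mem _ g.2 x)
      have htB : ∀ b : F, b ∈ B → (b : S) * t = t * b := by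
        intro b hb
        have hgb := (Subgroup.mem_normalizer_iff.1 hgn b).1 hb
        rw [hB, Subgroup.mem_subgroupOf, Subgroup.mem_centralizer_singleton_iff] at hb hgb
        push_cast at hgb
        calc (b : S) * t = (g : S)⁻¹ * (((g : S) * b * (g : S)⁻¹) * x) * g * x⁻¹ := by rw [ht]; group
          _ = (g : S)⁻¹ * (x * ((g : S) * b * (g : S)⁻¹)) * g * x⁻¹ := by rw [hgb]
          _ = (g : S)⁻¹ * x * g * (b * x⁻¹) := by group
          _ = (g : S)⁻¹ * x * g * (x⁻¹ * b) := by rw [((show Commute (b : S) x from hb).inv_right).eq]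
          _ = t * b := by rw [ht]; group
      have htA : t ∈ A := hself t htF fun a ha => htB ⟨a, hAF ha⟩ (by
        rw [hB, Subgroup.mem_subgroupOf, Subgroup.mem_centralizer_singleton_iff]; exact hxA a ha)
      have hxt : x * t * x⁻¹ = t := by rw [← hxA t htA, mul_inv_cancel_right]
      have hxg : x * g * x⁻¹ = g * t := by rw [ht, mul_inv_cancel_left]
      have h2 : t * t = 1 := by
        have h3 : (g : S) = g * t * t := by
          calc (g : S) = x * (x * g * x⁻¹) * x⁻¹ := (hxx x hx _).symm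
            _ = x * ((g : S) * t) * x⁻¹ := by rw [hxg]
            _ = (x * g * x⁻¹) * (x * t * x⁻¹) := by group
            _ = g * t * t := by rw [hxg, hxt]
        rw [mul_assoc] at h3
        exact left_eq_mul.1 h3
      rw [hodd t htF h2, mul_one] at hxg
      rw [hB, Subgroup.mem_subgroupOf, Subgroup.mem_centralizer_singleton_iff]
      exact (mul_inv_eq_iff_eq_mul.1 hxg).symm
    have hxF : x ∈ F := Cfsg.Agent.Grp.centralizer_fittingSubgroup_le (Subgroup.mem_centralizer_iff.2 fun f hf => by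
      have h : (⟨f, hf⟩ : F) ∈ B := hBtop ▸ Subgroup.mem_top _
      rw [hB, Subgroup.mem_subgroupOf, Subgroup.mem_centralizer_singleton_iff] at h
      exact h)
    exact hodd x hxF (hI2 x hx)
  -- greedy choice
  have hstep : ∀ k ≤ n, ∃ f : Fin k → Subgroup S, (∀ i, (Nat.card (f i)).Prime) ∧ (∀ i, f i ≤ A) ∧
      (∀ i, I ≤ Subgroup.normalizer ((f i) : Set S)) ∧ Nat.card ↥(⨆ i, f i) = ∏ i, Nat.card (f i) ∧
      Nat.card ↥(I ⊓ Subgroup.centralizer ((⨆ i, f i : Subgroup S) : Set S)) = 2 ^ (n - k) := by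
    intro k
    induction k with
    | zero =>
      intro _
      refine ⟨Fin.elim0, fun i => i.elim0, fun i => i.elim0, fun i => i.elim0, ?_, ?_⟩
      · rw [iSup_of_empty, Subgroup.card_bot, Finset.univ_eq_empty, Finset.prod_empty]
      · rw [iSup_of_empty, show I ⊓ Subgroup.centralizer ((⊥ : Subgroup S) : Set S) = I from
          inf_eq_left.2 fun y _ => Subgroup.mem_centralizer_iff.2 fun d hd => by rw [Subgroup.mem_bot.1 hd]; simp,
          hIn, Nat.sub_zero]
    | succ k ih =>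
      intro hk
      obtain ⟨f, hfp, hfA, hfI, hfcard, hfK⟩ := ih (by omega)
      set D := ⨆ i, f i with hD
      set K := I ⊓ Subgroup.centralizer (D : Set S) with hK
      obtain ⟨x, hxK, hx1⟩ : ∃ x ∈ K, x ≠ 1 := by
        by_contra h
        push Not at h
        rw [(Subgroup.eq_bot_iff_forall K).2 h, Subgroup.card_bot] at hfK
        have : 1 < 2 ^ (n - k) := Nat.one_lt_pow (by omega) (by norm_num)
        omega
      obtain ⟨a₀, ha₀, hne⟩ : ∃ a ∈ A, a * x ≠ x * a := by
        by_contra h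
        push Not at h
        exact hx1 (hfaith x hxK.1 h)
      let V : Subgroup S :=
        { carrier := {a | a ∈ A ∧ x * a * x⁻¹ = a⁻¹}
          one_mem' := ⟨A.one_mem, by simp⟩
          mul_mem' := fun {a b} ha hb => ⟨A.mul_mem ha.1 hb.1, by
            rw [show x * (a * b) * x⁻¹ = (x * a * x⁻¹) * (x * b * x⁻¹) by group, ha.2, hb.2, ← mul_inv_rev,
              hAcomm b hb.1 a ha.1]⟩
          inv_mem' := fun {a} ha => ⟨A.inv_mem ha.1, by
            rw [show x * a⁻¹ * x⁻¹ = (x * a * x⁻¹)⁻¹ by group, ha.2]⟩ }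
      have hw : a₀⁻¹ * (x * a₀ * x⁻¹) ∈ V := ⟨A.mul_mem (A.inv_mem ha₀) (hAI x hxK.1 a₀ ha₀), by
        rw [show x * (a₀⁻¹ * (x * a₀ * x⁻¹)) * x⁻¹ = (x * a₀ * x⁻¹)⁻¹ * (x * (x * a₀ * x⁻¹) * x⁻¹) by group,
          hxx x hxK.1]; group⟩
      obtain ⟨u, huV, hu1, hu⟩ := exists_eigen T (fun y hy => hI2 y ((hTI y).1 hy))
        (fun y hy z hz => hIc y ((hTI y).1 hy) z ((hTI z).1 hz)) ⊥ V
        (fun a ha m _ => by rw [Subgroup.mem_bot.1 ha]; simp)
        (fun m hm l hl => by rw [hAcomm m hm.1 l hl.1, mul_inv_cancel_right, mul_inv_cancel]; exact Subgroup.one_mem _)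
        (fun y _ a ha => by rw [Subgroup.mem_bot.1 ha]; simp)
        (fun y hy m hm => ⟨hAI y ((hTI y).1 hy) m hm.1, by
          rw [show x * (y * m * y⁻¹) * x⁻¹ = (x * y) * m * (x * y)⁻¹ by group, hIc x hxK.1 y ((hTI y).1 hy),
            show (y * x) * m * (y * x)⁻¹ = y * (x * m * x⁻¹) * y⁻¹ by group, hm.2]; group⟩)
        bot_le _ hw (fun h => hne (by
          rw [Subgroup.mem_bot, inv_mul_eq_one] at h
          exact mul_inv_eq_iff_eq_mul.1 h.symm |>.symm))
      rw [Subgroup.mem_bot] at hu1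
      obtain ⟨q, hq, hqd⟩ := Nat.exists_prime_and_dvd (fun h => hu1 (orderOf_eq_one_iff.1 h))
      haveI := Fact.mk hq
      set a := u ^ (orderOf u / q) with ha
      have hao : orderOf a = q := orderOf_pow_orderOf_div (orderOf_pos u).ne' hqd
      have haA : a ∈ A := A.pow_mem huV.1 _
      have haeig : ∀ y ∈ I, y * a * y⁻¹ = a ∨ y * a * y⁻¹ = a⁻¹ := by
        intro y hy
        rcases hu y ((hTI y).2 hy) with h | h <;> rw [Subgroup.mem_bot] at h
        · left
          rw [inv_mul_eq_one] at h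
          rw [ha, ← conj_pow, ← h]
        · right
          rw [ha, ← conj_pow, eq_inv_of_mul_eq_one_right h, inv_pow]
      have hxa : x * a * x⁻¹ = a⁻¹ := by rw [ha, ← conj_pow, huV.2, inv_pow]
      have ha1 : a ≠ 1 := fun h => hq.ne_one (by rw [← hao, h, orderOf_one])
      have hxna : a * x ≠ x * a := by
        intro h
        rw [← h, mul_inv_cancel_right] at hxa
        exact ha1 (hodd a (hAF haA) (mul_eq_one_iff_eq_inv.2 hxa))
      have haD : a ∉ D := fun h => hxna ((Subgroup.mem_centralizer_iff.1 hxK.2) a h)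
      refine ⟨Fin.snoc f (Subgroup.zpowers a), ?_, ?_, ?_, ?_, ?_⟩
      · intro i; induction i using Fin.lastCases with
        | last => rw [Fin.snoc_last, Nat.card_zpowers, hao]; exact hq
        | cast i => rw [Fin.snoc_castSucc]; exact hfp i
      · intro i; induction i using Fin.lastCases with
        | last => rw [Fin.snoc_last]; exact Subgroup.zpowers_le.2 haA
        | cast i => rw [Fin.snoc_castSucc]; exact hfA i
      · intro i; induction i using Fin.lastCases with
        | last =>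
          rw [Fin.snoc_last]
          intro y hy
          refine Subgroup.mem_normalizer_fintype fun t ht => ?_
          obtain ⟨m, rfl⟩ := ht
          refine ?_
          show y * a ^ m * y⁻¹ ∈ Subgroup.zpowers a
          rw [← conj_zpow]
          rcases haeig y hy with h | h <;> rw [h]
          · exact ⟨m, rfl⟩
          · exact Subgroup.zpow_mem _ (Subgroup.inv_mem _ (Subgroup.mem_zpowers a)) m
        | cast i => rw [Fin.snoc_castSucc]; exact hfI i
      all_goals
        have hsup : (⨆ i, (Fin.snoc f (Subgroup.zpowers a) : Fin (k + 1) → Subgroup S) i) = D ⊔ Subgroup.zpowers a := by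
          refine le_antisymm (iSup_le fun i => ?_) (sup_le (iSup_le fun i => ?_) ?_)
          · induction i using Fin.lastCases with
            | last => rw [Fin.snoc_last]; exact le_sup_right
            | cast i => rw [Fin.snoc_castSucc]; exact (le_iSup f i).trans le_sup_left
          · exact le_iSup_of_le i.castSucc (by rw [Fin.snoc_castSucc])
          · exact le_iSup_of_le (Fin.last k) (by rw [Fin.snoc_last])
        rw [hsup]
      · have hDA : D ≤ A := iSup_le hfA
        let φ := D.subtype.noncommCoprod (Subgroup.zpowers a).subtype fun s t =>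
          hAcomm _ (hDA s.2) _ (Subgroup.zpowers_le.2 haA t.2)
        have hφi : Function.Injective φ := by
          rw [injective_iff_map_eq_one]
          rintro ⟨⟨s, hs⟩, ⟨t, ht⟩⟩ hst
          have hst' : s * t = 1 := hst
          have ht1 : t = 1 := by
            by_contra ht1
            have htD : t ∈ D := by rw [eq_inv_of_mul_eq_one_right hst']; exact D.inv_mem hs
            refine haD ((Subgroup.zpowers_le.2 htD) ?_)
            have h1 : orderOf t = q := by
              have h2 := orderOf_dvd_natCard (⟨t, ht⟩ : Subgroup.zpowers a)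
              rw [Subgroup.orderOf_mk, Nat.card_zpowers, hao] at h2
              exact (hq.eq_one_or_self_of_dvd _ h2).resolve_left (fun e => ht1 (orderOf_eq_one_iff.1 e))
            have h3 : Subgroup.zpowers t = Subgroup.zpowers a := Subgroup.eq_of_le_of_card_ge (Subgroup.zpowers_le.2 ht)
              (by rw [Nat.card_zpowers, Nat.card_zpowers, h1, hao])
            rw [h3]; exact Subgroup.mem_zpowers a
          rw [ht1, mul_one] at hst'
          exact Prod.ext (Subtype.ext hst') (Subtype.ext ht1)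
        have hr : φ.range = D ⊔ Subgroup.zpowers a := by
          refine (MonoidHom.noncommCoprod_range D.subtype (Subgroup.zpowers a).subtype _).trans ?_
          rw [Subgroup.range_subtype, Subgroup.range_subtype]
        rw [← hr, ← Nat.card_congr (MonoidHom.ofInjective hφi).toEquiv, Nat.card_prod, hfcard, Fin.prod_univ_castSucc]
        simp [Fin.snoc_castSucc, Fin.snoc_last]
      · set K' := I ⊓ Subgroup.centralizer ((D ⊔ Subgroup.zpowers a : Subgroup S) : Set S) with hK'
        have hK'eq : ∀ y, y ∈ K' ↔ y ∈ K ∧ a * y = y * a := by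
          intro y
          constructor
          · rintro ⟨h1, h2⟩
            exact ⟨⟨h1, Subgroup.centralizer_le (fun s hs => Subgroup.mem_sup_left hs) h2⟩,
              (Subgroup.mem_centralizer_iff.1 h2) a (Subgroup.mem_sup_right (Subgroup.mem_zpowers a))⟩
          · rintro ⟨⟨h1, h2⟩, h3⟩
            refine ⟨h1, Subgroup.mem_centralizer_iff.2 fun s hs => ?_⟩
            have : D ⊔ Subgroup.zpowers a ≤ Subgroup.centralizer ({y} : Set S) := sup_le
              (fun d hd => Subgroup.mem_centralizer_singleton_iff.2 ((Subgroup.mem_centralizer_iff.1 h2) d hd))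
              (Subgroup.zpowers_le.2 (Subgroup.mem_centralizer_singleton_iff.2 h3))
            exact Subgroup.mem_centralizer_singleton_iff.1 (this hs)
        have hle : K' ≤ K := fun y hy => ((hK'eq y).1 hy).1
        have hidx : (K'.subgroupOf K).index = 2 := by
          rw [Subgroup.index_eq_two_iff]
          refine ⟨⟨x, hxK⟩, fun b => ?_⟩
          simp only [Subgroup.mem_subgroupOf, hK'eq, Subgroup.coe_mul, b.2, true_and, K.mul_mem b.2 hxK]
          rcases haeig b b.2.1 with h | h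
          · refine Or.inr ⟨(mul_inv_eq_iff_eq_mul.1 h).symm, fun h2 => hxna ?_⟩
            have hb : (b : S) * a = a * b := mul_inv_eq_iff_eq_mul.1 h
            have h4 : (b : S) * (a * x) = (b : S) * (x * a) := by rw [← mul_assoc, hb, mul_assoc, h2, mul_assoc]
            exact mul_left_cancel h4
          · refine Or.inl ⟨(mul_inv_eq_iff_eq_mul.1 ?_).symm, fun h2 => ?_⟩
            · calc (b : S) * x * a * ((b : S) * x)⁻¹ = b * (x * a * x⁻¹) * (b : S)⁻¹ := by group
                _ = ((b : S) * a * (b : S)⁻¹)⁻¹ := by rw [hxa]; group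
                _ = a := by rw [h, inv_inv]
            · rw [← h2, mul_inv_cancel_right] at h
              exact ha1 (hodd a (hAF haA) (mul_eq_one_iff_eq_inv.2 h))
        have hc := Subgroup.card_mul_index (K'.subgroupOf K)
        rw [hidx, Nat.card_congr (Subgroup.subgroupOfEquivOfLe hle).toEquiv, hfK,
          show n - k = (n - (k + 1)) + 1 by omega, pow_succ] at hc
        exact Nat.eq_of_mul_eq_mul_right two_pos hc
  obtain ⟨f, hfp, hfA, hfI, hfcard, hfK⟩ := hstep n le_rfl
  refine ⟨f, hfp, fun i => (hfA i).trans hAF, hfI, fun i j _ a ha b hb => hAcomm a (hfA i ha) b (hfA j hb), hfcard, ?_⟩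
  rw [Nat.sub_self, pow_zero] at hfK
  exact Subgroup.eq_bot_of_card_eq _ hfK

end Cfsg.Agent.S4408
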