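import Cfsg.Statements.S4409
import Cfsg.Agent.S4189
import Cfsg.Agent.Lib.Grp.AmbivalentSolvable
import Cfsg.Agent.Lib.Grp.Hall
import Cfsg.Agent.Lib.Grp.Coprime
import Cfsg.Agent.Lib.Grp.Solvable
import Cfsg.Agent.Lib.Grp.Cores
import Cfsg.Agent.Lib.Grp.Frattini
import Cfsg.Agent.Lib.Fus.DihedralAut
import Cfsg.Agent.Lib.Block.CoprimeClassSizes

set_option maxHeartbeats 1000000
set_option maxRecDepth 8000

set_option autoImplicit false
open Cfsg

namespace Cfsg.Agent.S4409

open Cfsg.Agent Cfsg.Agent.Transfer Subgroup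
open scoped Pointwise commutatorElement

section
universe u
variable {S : Type u} [Group S] [Finite S]

theorem quat_facts {Y : Type u} [Group Y] (e : Nonempty (Y ≃* QuaternionGroup 2)) :
    Nat.card Y = 8 ∧ (∃ a b : Y, a * b ≠ b * a) ∧
      ∀ u v : Y, u * u = 1 → v * v = 1 → u ≠ 1 → v ≠ 1 → u = v := by
  obtain ⟨e⟩ := e
  refine ⟨?_, ?_, fun u v hu hv hu1 hv1 => e.injective ?_⟩
  · rw [Nat.card_congr e.toEquiv, Nat.card_eq_fintype_card, QuaternionGroup.card]
  · obtain ⟨a, b, h⟩ : ∃ a b : QuaternionGroup 2, a * b ≠ b * a :=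
      ⟨QuaternionGroup.a 1, QuaternionGroup.xa 0, by decide⟩
    exact ⟨e.symm a, e.symm b, fun h' => h (by simpa using congrArg e h')⟩
  · have key : ∀ a b : QuaternionGroup 2, a * a = 1 → b * b = 1 → a ≠ 1 → b ≠ 1 → a = b := by decide
    exact key _ _ (by rw [← map_mul, hu, map_one]) (by rw [← map_mul, hv, map_one])
      (fun h => hu1 (e.injective (by rw [h, map_one]))) (fun h => hv1 (e.injective (by rw [h, map_one])))

theorem not_cyclic_of_two {Y : Type u} [Group Y] [Finite Y] {u v : Y} (hu : u ^ 2 = 1) (hv : v ^ 2 = 1)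
    (hu1 : u ≠ 1) (hv1 : v ≠ 1) (huv : u ≠ v) (K : Subgroup Y) (huK : u ∈ K) (hvK : v ∈ K) : ¬ IsCyclic K := by
  classical
  intro h
  haveI := Fintype.ofFinite K
  have h1 := IsCyclic.card_pow_eq_one_le (α := K) (n := 2) two_pos
  have h2 : ({1, ⟨u, huK⟩, ⟨v, hvK⟩} : Finset K) ⊆ Finset.univ.filter (fun a : K => a ^ 2 = 1) := by
    intro a ha
    simp only [Finset.mem_insert, Finset.mem_singleton] at ha
    simp only [Finset.mem_filter, Finset.mem_univ, true_and]
    rcases ha with rfl | rfl | rfl
    · exact one_pow 2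
    · exact Subtype.ext hu
    · exact Subtype.ext hv
  have h3 := (Finset.card_le_card h2).trans h1
  rw [Finset.card_insert_of_notMem (by simp [Subtype.ext_iff, Ne.symm hu1, Ne.symm hv1]),
    Finset.card_insert_of_notMem (by simp [Subtype.ext_iff, huv]), Finset.card_singleton] at h3
  omega

/-- A 2-group without non-cyclic abelian subgroups of order 8 whose automorphism group is not a 2-group. -/
theorem small {Y : Type u} [Group Y] [Finite Y] (hY : IsPGroup 2 Y)
    (h8 : ∀ A : Subgroup Y, IsMulCommutative A → ¬ IsCyclic A → Nat.card A ≠ 8)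
    (haut : ¬ IsPGroup 2 (MulAut Y)) :
    (Nat.card Y = 4 ∧ ∀ y : Y, y * y = 1) ∨ Nonempty (Y ≃* QuaternionGroup 2) := by
  classical
  haveI : Fact (Nat.Prime 2) := ⟨Nat.prime_two⟩
  obtain ⟨n, hn⟩ := IsPGroup.iff_card.1 hY
  by_cases hB : ∃ B : Subgroup Y, Nat.card B = 8 ∧ ¬ IsMulCommutative B
  · obtain ⟨B, hB8, hBna⟩ := hB
    have hC : centralizer (B : Set Y) ≤ B := by
      intro c hc
      by_contra hcB
      obtain ⟨b, hb, b', hb', hbb⟩ : ∃ b ∈ B, ∃ b' ∈ B, b * b' ≠ b' * b := by
        by_contra h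
        push Not at h
        exact hBna ⟨⟨fun a b => Subtype.ext (h a a.2 b b.2)⟩⟩
      -- some element of order four
      obtain ⟨b₁, hb₁, h4⟩ : ∃ b₁ ∈ B, b₁ * b₁ ≠ 1 := by
        by_contra h
        push Not at h
        refine hbb ?_
        have h1 := h (b * b') (B.mul_mem hb hb')
        calc b * b' = b * b' * (b * b') * (b * b')⁻¹ := by group
          _ = (b * b')⁻¹ := by rw [h1, one_mul]
          _ = b'⁻¹ * b⁻¹ := mul_inv_rev _ _
          _ = b' * b := by rw [inv_eq_of_mul_eq_one_right (h b hb), inv_eq_of_mul_eq_one_right (h b' hb')]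
      have hcb : Commute b₁ c := (mem_centralizer_iff.1 hc b₁ hb₁)
      set D := closure ({b₁, c} : Set Y) with hD
      haveI hDc : IsMulCommutative D := isMulCommutative_closure (by
        rintro x (rfl | rfl) y (rfl | rfl)
        · rfl
        · exact hcb.eq
        · exact hcb.eq.symm
        · rfl)
      have hb₁D : b₁ ∈ D := subset_closure (Set.mem_insert _ _)
      have hcD : c ∈ D := subset_closure (Set.mem_insert_of_mem _ rfl)
      obtain ⟨i, hi⟩ := IsPGroup.iff_orderOf.1 hY b₁
      obtain ⟨j, hj⟩ := IsPGroup.iff_orderOf.1 hY c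
      have hi2 : 2 ≤ i := by
        by_contra h
        have h1 : orderOf b₁ ∣ 2 := hi ▸ (pow_dvd_pow 2 (show i ≤ 1 by omega)).trans (pow_one 2).dvd
        rw [orderOf_dvd_iff_pow_eq_one, pow_two] at h1
        exact h4 h1
      have hsmall : (2 ^ 3) ∣ Nat.card D := by
        obtain ⟨k, hk⟩ := IsPGroup.iff_card.1 (hY.to_subgroup D)
        rw [hk]
        refine pow_dvd_pow 2 ?_
        by_contra hk3
        have hle : zpowers b₁ = D := Subgroup.eq_of_le_of_card_ge (zpowers_le.2 hb₁D) (by
          rw [hk, Nat.card_zpowers, hi]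
          exact Nat.pow_le_pow_right two_pos (by omega))
        exact hcB ((zpowers_le.2 hb₁).trans' hle.ge hcD)
      by_cases hcyc : IsCyclic D
      · haveI := Fintype.ofFinite D
        -- in a cyclic group the larger cyclic subgroup contains the smaller
        have key : ∀ x y : D, orderOf x ∣ orderOf y → x ∈ zpowers y := by
          intro x y hxy
          by_contra hx
          have h1 := IsCyclic.card_pow_eq_one_le (α := D) (n := orderOf y) (orderOf_pos y)
          have h2 : insert x (Finset.univ.filter (fun a : D => a ∈ zpowers y)) ⊆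
              Finset.univ.filter (fun a : D => a ^ orderOf y = 1) := by
            intro a ha
            simp only [Finset.mem_insert, Finset.mem_filter, Finset.mem_univ, true_and] at ha ⊢
            rcases ha with rfl | ⟨m, rfl⟩
            · exact orderOf_dvd_iff_pow_eq_one.1 hxy
            · show (y ^ m) ^ orderOf y = 1
              rw [← zpow_natCast, ← zpow_mul, mul_comm, zpow_mul, zpow_natCast, pow_orderOf_eq_one, one_zpow]
          have h3 := (Finset.card_le_card h2).trans h1
          rw [Finset.card_insert_of_notMem (by simpa using hx)] at h3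
          have h5 : (Finset.univ.filter (fun a : D => a ∈ zpowers y)).card = orderOf y := by
            rw [← Nat.card_zpowers, ← Fintype.card_subtype, Nat.card_eq_fintype_card]
          omega
        rcases le_total i j with h | h
        · have h1 := key ⟨b₁, hb₁D⟩ ⟨c, hcD⟩ (by
            rw [Subgroup.orderOf_mk, Subgroup.orderOf_mk, hi, hj]; exact pow_dvd_pow 2 h)
          obtain ⟨m, hm⟩ := h1
          have hm' : c ^ m = b₁ := congrArg Subtype.val hm
          -- `b₁` centralizes `B`
          have hcen : ∀ x ∈ B, x * b₁ = b₁ * x := fun x hx => by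
            rw [← hm']
            exact (Commute.zpow_right (mem_centralizer_iff.1 hc x hx) m).eq
          have hZ : (⟨b₁, hb₁⟩ : B) ∈ center B := mem_center_iff.2 fun x => Subtype.ext (hcen x x.2)
          have hq : 4 ∣ Nat.card (center B) := by
            refine dvd_trans ?_ (Subgroup.orderOf_dvd_natCard _ hZ)
            rw [Subgroup.orderOf_mk, hi]
            exact (pow_dvd_pow 2 hi2)
          have h6 := (center B).card_mul_index
          have h7 : (center B).index ≤ 2 := by
            obtain ⟨t, ht⟩ := hq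
            rw [ht, hB8] at h6
            by_contra h
            push Not at h
            have : 0 < t := Nat.pos_of_ne_zero fun e => by rw [e, mul_zero] at ht; exact Nat.card_pos.ne' ht
            nlinarith
          refine hbb ?_
          by_contra hne
          have hc1 : (⟨b, hb⟩ : B) ∉ center B := fun h => hne (congrArg Subtype.val (mem_center_iff.1 h ⟨b', hb'⟩)).symm
          have hi2' : (center B).index = 2 := by
            have : (center B).index ≠ 1 := fun e => hc1 (index_eq_one.1 e ▸ mem_top _)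
            have : (center B).index ≠ 0 := index_ne_zero_of_finite
            omega
          have hc2 : (⟨b', hb'⟩ : B) ∉ center B := fun h => hne (congrArg Subtype.val (mem_center_iff.1 h ⟨b, hb⟩))
          have hp : (⟨b, hb⟩ : B) * ⟨b', hb'⟩ ∈ center B := (mul_mem_iff_of_index_two hi2').2 (iff_of_false hc1 hc2)
          have := congrArg Subtype.val (mem_center_iff.1 hp ⟨b, hb⟩)
          simp only [Subgroup.coe_mul] at this
          exact hne (mul_left_cancel (a := b) (by rw [this]; group))
        · have h1 := key ⟨c, hcD⟩ ⟨b₁, hb₁D⟩ (by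
            rw [Subgroup.orderOf_mk, Subgroup.orderOf_mk, hi, hj]; exact pow_dvd_pow 2 h)
          obtain ⟨m, hm⟩ := h1
          refine hcB ?_
          rw [show c = b₁ ^ m from (congrArg Subtype.val hm).symm]
          exact B.zpow_mem hb₁ m
      · obtain ⟨K, hK⟩ := Sylow.exists_subgroup_card_pow_prime 2 hsmall
        by_cases hKc : IsCyclic K
        · -- enlarge two involutions instead
          obtain ⟨u, v, hu, hv, huv⟩ : ∃ u v : D, orderOf u = 2 ∧ orderOf v = 2 ∧ u ≠ v := by
            by_contra h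
            push Not at h
            rcases Grp.Ambivalent.cyclic_or_quaternion (hY.to_subgroup D) h with h' | ⟨k, ⟨e⟩⟩
            · exact hcyc h'
            · have h0 : (QuaternionGroup.a 1 : QuaternionGroup (2 ^ (k + 1))) * QuaternionGroup.xa 0 =
                  QuaternionGroup.xa 0 * QuaternionGroup.a 1 := e.symm.injective (by
                rw [map_mul, map_mul]; exact hDc.is_comm.comm _ _)
              rw [QuaternionGroup.a_mul_xa, QuaternionGroup.xa_mul_a] at h0
              simp only [QuaternionGroup.xa.injEq, zero_sub, zero_add] at h0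
              have h2 : ((2 : ℕ) : ZMod (2 * 2 ^ (k + 1))) = 0 := by
                rw [Nat.cast_ofNat]
                first
                  | linear_combination h0
                  | linear_combination -h0
              rw [ZMod.natCast_eq_zero_iff] at h2
              have := Nat.le_of_dvd two_pos h2
              have : 1 < 2 ^ (k + 1) := Nat.one_lt_two_pow (by omega)
              omega
          have hu2 : u ^ 2 = 1 := hu ▸ pow_orderOf_eq_one u
          have hv2 : v ^ 2 = 1 := hv ▸ pow_orderOf_eq_one v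
          set E := closure ({u, v} : Set D) with hE
          have hu1 : u ≠ 1 := fun e => by rw [e, orderOf_one] at hu; omega
          have hv1 : v ≠ 1 := fun e => by rw [e, orderOf_one] at hv; omega
          have hEle : ∀ x ∈ E, x = 1 ∨ x = u ∨ x = v ∨ x = u * v := by
            intro x hx
            refine closure_induction (p := fun x _ => x = 1 ∨ x = u ∨ x = v ∨ x = u * v) ?_ (Or.inl rfl) ?_ ?_ hx
            · rintro y (rfl | rfl)
              · exact Or.inr (Or.inl rfl)
              · exact Or.inr (Or.inr (Or.inl rfl))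
            · have hc' : v * u = u * v := hDc.is_comm.comm _ _
              have huu : u * u = 1 := by rw [← pow_two]; exact hu2
              have hvv : v * v = 1 := by rw [← pow_two]; exact hv2
              have h3 : u * (u * v) = v := by rw [← mul_assoc, huu, one_mul]
              have h4 : v * (u * v) = u := by rw [← mul_assoc, hc', mul_assoc, hvv, mul_one]
              have h5 : u * v * u = v := by rw [mul_assoc, hc', h3]
              have h6 : u * v * v = u := by rw [mul_assoc, hvv, mul_one]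
              have h7 : u * v * (u * v) = 1 := by rw [← mul_assoc, h5, hvv]
              rintro a b - - (rfl | rfl | rfl | rfl) (rfl | rfl | rfl | rfl) <;>
                simp [huu, hvv, hc', h3, h4, h5, h6, h7]
            · rintro a - (rfl | rfl | rfl | rfl)
              · exact Or.inl inv_one
              · exact Or.inr (Or.inl (inv_eq_of_mul_eq_one_right (by rw [← pow_two]; exact hu2)))
              · exact Or.inr (Or.inr (Or.inl (inv_eq_of_mul_eq_one_right (by rw [← pow_two]; exact hv2))))
              · refine Or.inr (Or.inr (Or.inr (inv_eq_of_mul_eq_one_right ?_)))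
                rw [← pow_two, (show Commute u v from hDc.is_comm.comm _ _).mul_pow, hu2, hv2, one_mul]
          obtain ⟨k, hk⟩ := IsPGroup.iff_card.1 ((hY.to_subgroup D).to_subgroup E)
          have hk3 : k ≤ 3 := by
            by_contra h
            have h1 : 2 ^ 4 ≤ Nat.card E := hk ▸ Nat.pow_le_pow_right two_pos (by omega)
            have h2 : Nat.card E ≤ ({1, u, v, u * v} : Finset D).card := by
              rw [← Nat.card_eq_finsetCard]
              exact Nat.card_le_card_of_injective
                (fun x : E => (⟨x.1, by simpa using hEle x x.2⟩ : {a // a ∈ ({1, u, v, u * v} : Finset D)}))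
                (fun a b e => Subtype.ext (congrArg (fun z : {a // a ∈ ({1, u, v, u * v} : Finset D)} => (z : D)) e))
            have := h2.trans Finset.card_le_four
            omega
          obtain ⟨K', hK', hEK⟩ := Sylow.exists_subgroup_card_pow_prime_le 2 hsmall E hk hk3
          refine h8 (K'.map D.subtype) inferInstance (fun h => ?_)
            ((Subgroup.card_map_of_injective D.subtype_injective).trans hK')
          exact not_cyclic_of_two (u := (u : Y)) (v := (v : Y)) (congrArg Subtype.val hu2) (congrArg Subtype.val hv2)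
            (fun e => hu1 (Subtype.ext e)) (fun e => hv1 (Subtype.ext e)) (fun e => huv (Subtype.ext e))
            (K'.map D.subtype) ⟨u, hEK (subset_closure (Set.mem_insert _ _)), rfl⟩
            ⟨v, hEK (subset_closure (Set.mem_insert_of_mem _ rfl)), rfl⟩ h
        · refine h8 (K.map D.subtype) inferInstance (fun h => hKc ?_)
            ((Subgroup.card_map_of_injective D.subtype_injective).trans hK)
          exact (K.equivMapOfInjective _ D.subtype_injective).isCyclic.2 h
    have hn3 : 3 ≤ n := by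
      have h1 := Subgroup.card_subgroup_dvd_card B
      rw [hB8, hn, show 8 = 2 ^ 3 by rfl] at h1
      exact (Nat.pow_dvd_pow_iff_le_right (by omega)).1 h1
    have hcl := MaxClass.class_of_nonabelian_cube hn B hB8 hBna hC
    obtain ⟨h4, -⟩ := MaxClass.index_four_of_class hn3 hn hcl
    exact Or.inr (Cfsg.Agent.S4189.result hY (fun h => hBna ⟨⟨fun a b => Subtype.ext (h.is_comm.comm a.1 b.1)⟩⟩) h4 haut)
  push Not at hB
  have hcyc8 : ∀ K : Subgroup Y, Nat.card K = 8 → IsCyclic K := fun K hK => by
    by_contra h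
    exact h8 K (hB K hK) h hK
  by_cases huniq : ∀ u v : Y, orderOf u = 2 → orderOf v = 2 → u = v
  · rcases Grp.Ambivalent.cyclic_or_quaternion hY huniq with h | ⟨k, ⟨e⟩⟩
    · refine absurd (IsPGroup.of_card (n := n - 1) ?_) haut
      haveI := h
      rw [IsCyclic.card_mulAut, hn]
      rcases Nat.eq_zero_or_pos n with rfl | hn0
      · simp
      · rw [Nat.totient_prime_pow Nat.prime_two hn0]; simp
    · rcases Nat.eq_zero_or_pos k with rfl | hk
      · exact Or.inr ⟨e⟩
      · exact absurd (Fus.isPGroup_mulAut_congr e (Fus.isPGroup_mulAut_quaternionGroup (k := k + 1) (by omega))) haut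
  push Not at huniq
  obtain ⟨u, v, hu, hv, huv⟩ := huniq
  haveI : Nontrivial Y := ⟨⟨u, v, huv⟩⟩
  obtain ⟨z, hz⟩ : ∃ z : center Y, orderOf z = 2 := by
    refine exists_prime_orderOf_dvd_card' 2 ?_
    obtain ⟨k, hk⟩ := IsPGroup.iff_card.1 (hY.to_subgroup (center Y))
    rw [hk]
    refine dvd_pow_self 2 fun e => ?_
    haveI := hY.center_nontrivial
    have := Finite.one_lt_card (α := center Y)
    rw [hk, e, pow_zero] at this
    omega
  have hz' : orderOf (z : Y) = 2 := by rw [Subgroup.orderOf_coe]; exact hz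
  obtain ⟨w, hw, hwz⟩ : ∃ w : Y, orderOf w = 2 ∧ w ≠ (z : Y) := by
    by_cases e : u = (z : Y)
    · exact ⟨v, hv, fun e' => huv (e.trans e'.symm)⟩
    · exact ⟨u, hu, e⟩
  set E := closure ({(z : Y), w} : Set Y) with hE
  haveI hEc : IsMulCommutative E := isMulCommutative_closure (by
    rintro x (rfl | rfl) y (rfl | rfl)
    · rfl
    · exact (mem_center_iff.1 z.2 _).symm
    · exact mem_center_iff.1 z.2 _
    · rfl)
  have hE4 : Nat.card E ≤ 4 := by
    have hz1 : (⟨z, subset_closure (Set.mem_insert _ _)⟩ : E) ^ 2 = 1 := Subtype.ext (show (z : Y) ^ 2 = 1 from hz' ▸ pow_orderOf_eq_one _)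
    have hcard := Subgroup.card_mul_index (zpowers (⟨z, subset_closure (Set.mem_insert _ _)⟩ : E))
    rw [Nat.card_zpowers, Subgroup.orderOf_mk, hz'] at hcard
    have hle : (zpowers (⟨z, subset_closure (Set.mem_insert _ _)⟩ : E)).index ≤ 2 := by
      set zE : E := ⟨z, subset_closure (Set.mem_insert _ _)⟩
      set wE : E := ⟨w, subset_closure (Set.mem_insert_of_mem _ rfl)⟩ with hwE
      have hw2 : wE ^ 2 = 1 := Subtype.ext (show w ^ 2 = 1 from hw ▸ pow_orderOf_eq_one w)
      haveI : (zpowers zE).Normal := ⟨fun a ha g => by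
        rw [show g * a = a * g from hEc.is_comm.comm _ _, mul_inv_cancel_right]; exact ha⟩
      have hgen : zpowers (wE : E ⧸ zpowers zE) = ⊤ := by
        refine eq_top_iff.2 fun q _ => ?_
        induction q using QuotientGroup.induction_on with
        | H a =>
          refine closure_induction (p := fun x hx => ((⟨x, hx⟩ : E) : E ⧸ zpowers zE) ∈ zpowers (wE : E ⧸ zpowers zE))
            ?_ (one_mem _) (fun x y _ _ h1 h2 => mul_mem h1 h2) (fun x _ h1 => inv_mem h1) a.2
          rintro x (rfl | rfl)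
          · have : ((zE : E) : E ⧸ zpowers zE) = 1 := (QuotientGroup.eq_one_iff _).2 (mem_zpowers _)
            exact this ▸ one_mem _
          · exact mem_zpowers _
      rw [index_eq_card, ← Subgroup.card_top, ← hgen, Nat.card_zpowers]
      exact Nat.le_of_dvd two_pos (orderOf_dvd_of_pow_eq_one (by rw [← QuotientGroup.mk_pow, hw2, QuotientGroup.mk_one]))
    omega
  by_cases hn3 : 3 ≤ n
  · exfalso
    obtain ⟨k, hk⟩ := IsPGroup.iff_card.1 (hY.to_subgroup E)
    have hk2 : k ≤ 3 := by
      by_contra h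
      have : 2 ^ 4 ≤ Nat.card E := hk ▸ Nat.pow_le_pow_right two_pos (by omega)
      omega
    obtain ⟨K, hK, hEK⟩ := Sylow.exists_subgroup_card_pow_prime_le 2 (hn ▸ pow_dvd_pow 2 hn3) E hk hk2
    exact not_cyclic_of_two (u := (z : Y)) (v := w) (hz' ▸ pow_orderOf_eq_one _) (hw ▸ pow_orderOf_eq_one _)
      (fun e => by rw [e, orderOf_one] at hz'; omega) (fun e => by rw [e, orderOf_one] at hw; omega) hwz.symm K
      (hEK (subset_closure (Set.mem_insert _ _))) (hEK (subset_closure (Set.mem_insert_of_mem _ rfl))) (hcyc8 K hK)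
  · refine Or.inl ?_
    have h2 : 2 ≤ n := by
      by_contra h
      obtain rfl | rfl : n = 0 ∨ n = 1 := by omega
      · rw [pow_zero, Nat.card_eq_one_iff_unique] at hn
        exact huv (hn.1.elim _ _)
      · have := isCyclic_of_prime_card (hn.trans (pow_one 2))
        refine not_cyclic_of_two (u := u) (v := v) (hu ▸ pow_orderOf_eq_one u) (hv ▸ pow_orderOf_eq_one v)
          (fun e => by rw [e, orderOf_one] at hu; omega) (fun e => by rw [e, orderOf_one] at hv; omega) huv ⊤
          (mem_top u) (mem_top v) ?_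
        exact Subgroup.topEquiv.isCyclic.2 this
    have hn' : Nat.card Y = 4 := by rw [hn, show n = 2 by omega]; rfl
    refine ⟨hn', fun y => ?_⟩
    by_contra hy
    have h4 : orderOf y = 4 := orderOf_eq_prime_pow (p := 2) (n := 1) (by rw [pow_one, pow_two]; exact hy)
      (orderOf_dvd_iff_pow_eq_one.1 ((orderOf_dvd_natCard y).trans (by rw [hn']; norm_num)))
    haveI : IsCyclic Y := isCyclic_of_orderOf_eq_card y (h4.trans hn'.symm)
    exact not_cyclic_of_two (u := u) (v := v) (hu ▸ pow_orderOf_eq_one u) (hv ▸ pow_orderOf_eq_one v)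
      (fun e => by rw [e, orderOf_one] at hu; omega) (fun e => by rw [e, orderOf_one] at hv; omega) huv ⊤
      (mem_top u) (mem_top v) inferInstance

/-- A 2-group of maximal class has no non-cyclic abelian subgroup of order 8. -/
theorem maxclass_false {P : Type u} [Group P] [Finite P] {n : ℕ} (hP : Nat.card P = 2 ^ n)
    (hc : Group.nilpotencyClass P = n - 1) (A : Subgroup P) (hA : IsMulCommutative A) (hAc : ¬ IsCyclic A)
    (hA8 : Nat.card A = 8) : False := by
  haveI : Fact (Nat.Prime 2) := ⟨Nat.prime_two⟩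
  have hn : 3 ≤ n := by
    have h1 := Subgroup.card_subgroup_dvd_card A
    rw [hA8, hP, show 8 = 2 ^ 3 by rfl] at h1
    exact (Nat.pow_dvd_pow_iff_le_right (by omega)).1 h1
  obtain ⟨h4, hne⟩ := MaxClass.index_four_of_class hn hP hc
  obtain ⟨k, a, x, ha, hidx, hx, hfix, -⟩ := MaxClass.shape (IsPGroup.of_card hP) h4 hne
  obtain ⟨y, hyA, hy⟩ : ∃ y ∈ A, y ∉ zpowers a := by
    by_contra h
    push Not at h
    exact hAc (isCyclic_of_injective (Subgroup.inclusion (show A ≤ zpowers a from h)) (Subgroup.inclusion_injective _))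
  obtain ⟨t, ht, ht1, ht2⟩ : ∃ t ∈ A ⊓ zpowers a, t ≠ 1 ∧ t ≠ a ^ 2 ^ (k + 1) := by
    by_contra h
    push Not at h
    have h1 : Nat.card ↥(A ⊓ zpowers a) ≤ ({1, a ^ 2 ^ (k + 1)} : Set P).ncard := by
      rw [← Nat.card_coe_set_eq]
      exact Nat.card_le_card_of_injective
        (fun t : ↥(A ⊓ zpowers a) => (⟨t.1, (em (t.1 = 1)).imp_right fun e => h t.1 t.2 e⟩ : ({1, a ^ 2 ^ (k + 1)} : Set P)))
        (fun a b e => Subtype.ext (congrArg (fun z : ({1, _} : Set P) => z.1) e))
    have h2 := h1.trans (Set.ncard_insert_le _ _)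
    rw [Set.ncard_singleton] at h2
    have h3 := relIndex_mul_relIndex (⊥ : Subgroup P) (A ⊓ zpowers a) A bot_le inf_le_left
    rw [relIndex_bot_left, relIndex_bot_left, inf_relIndex_left, hA8] at h3
    have h4 : (zpowers a).relIndex A ≤ 2 := by
      rw [← hidx, ← relIndex_top_right]
      exact relIndex_le_of_le_right le_top (by rw [relIndex_top_right, hidx]; omega)
    nlinarith
  have hxy : x⁻¹ * y ∈ zpowers a := (mul_mem_iff_of_index_two hidx).2 (iff_of_false (fun h => hx (inv_mem_iff.1 h)) hy)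
  have h5 : y * t * y⁻¹ = t := by
    have : y * t = t * y := congrArg Subtype.val (hA.is_comm.comm (⟨y, hyA⟩ : A) ⟨t, ht.1⟩)
    rw [this, mul_inv_cancel_right]
  have h6 : (x⁻¹ * y) * t = t * (x⁻¹ * y) := by
    obtain ⟨i, hi⟩ := hxy
    obtain ⟨j, hj⟩ := ht.2
    rw [← hi, ← hj]
    exact (Commute.zpow_zpow_self a i j).eq
  refine (hfix t ht.2 ?_).elim ht1 ht2
  calc x * t * x⁻¹ = x * (t * (x⁻¹ * y)) * y⁻¹ := by group
    _ = y * t * y⁻¹ := by rw [← h6]; group
    _ = t := h5

theorem noMax (W : Subgroup S) (hW : IsPGroup 2 W) {A : Subgroup S} (hAW : A ≤ W)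
    (hA : IsMulCommutative A) (hAc : ¬ IsCyclic A) (hA8 : Nat.card A = 8) {B : Subgroup S} (hBW : B ≤ W)
    (hB : (Nat.card B = 4 ∧ ∀ a ∈ B, ∀ b ∈ B, a * b = b * a) ∨ Nonempty (B ≃* QuaternionGroup 2))
    (hC : ∀ c ∈ W, c ∈ centralizer (B : Set S) → c ∈ B) : False := by
  haveI : Fact (Nat.Prime 2) := ⟨Nat.prime_two⟩
  obtain ⟨n, hn⟩ := IsPGroup.iff_card.1 hW
  have hA' : IsMulCommutative (A.subgroupOf W) := ⟨⟨fun a b => Subtype.ext (Subtype.ext
    (congrArg (fun z : A => (z : S)) (hA.is_comm.comm (⟨_, mem_subgroupOf.1 a.2⟩ : A) ⟨_, mem_subgroupOf.1 b.2⟩) :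
      ((a : W) : S) * ((b : W) : S) = ((b : W) : S) * ((a : W) : S)))⟩⟩
  have hC' : centralizer ((B.subgroupOf W : Subgroup W) : Set W) ≤ B.subgroupOf W := fun c hc =>
    mem_subgroupOf.2 (hC c c.2 (mem_centralizer_iff.2 fun b hb =>
      congrArg Subtype.val (mem_centralizer_iff.1 hc ⟨b, hBW hb⟩ (mem_subgroupOf.2 hb))))
  refine maxclass_false hn ?_ (A.subgroupOf W) hA' (fun h => hAc ((subgroupOfEquivOfLe hAW).isCyclic.1 h))
    ((Nat.card_congr (subgroupOfEquivOfLe hAW).toEquiv).trans hA8)
  have hcard := Nat.card_congr (subgroupOfEquivOfLe hBW).toEquiv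
  rcases hB with ⟨h4, hab⟩ | hq
  · refine MaxClass.class_of_selfCentralizing n hn (B.subgroupOf W) (hcard.trans h4) (le_antisymm hC' ?_)
    exact fun c hc => mem_centralizer_iff.2 fun b hb => Subtype.ext (hab _ (mem_subgroupOf.1 hb) _ (mem_subgroupOf.1 hc))
  · obtain ⟨h8, ⟨a, b, hab⟩, -⟩ := quat_facts hq
    refine MaxClass.class_of_nonabelian_cube hn (B.subgroupOf W) (hcard.trans h8) (fun h => hab ?_) hC'
    exact (subgroupOfEquivOfLe hBW).symm.injective (by rw [map_mul, map_mul]; exact h.is_comm.comm _ _)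

/-- An element of odd order acting non-trivially by conjugation on a normalized subgroup. -/
theorem not_pgroup_aut (W H : Subgroup S) (hHW : H ≤ normalizer (W : Set S)) (hodd : Odd (Nat.card H))
    (hne : ¬ H ≤ centralizer (W : Set S)) : ¬ IsPGroup 2 (MulAut W) := by
  intro h
  refine hne fun x hx => ?_
  set f := W.normalizerMonoidHom ⟨x, hHW hx⟩ with hf
  obtain ⟨i, hi⟩ := IsPGroup.iff_orderOf.1 h f
  have hd : orderOf f ∣ Nat.card H := by
    rw [hf]
    refine (orderOf_map_dvd _ _).trans ?_
    rw [Subgroup.orderOf_mk]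
    exact Subgroup.orderOf_dvd_natCard H hx
  rw [hi] at hd
  obtain ⟨m, hm⟩ := hodd
  have hi0 : i = 0 := by
    by_contra h0
    have := (dvd_pow_self 2 h0).trans hd
    omega
  rw [hi0, pow_zero, orderOf_eq_one_iff] at hi
  refine mem_centralizer_iff.2 fun w hw => ?_
  have h1 : x * w * x⁻¹ = w := congrArg Subtype.val (DFunLike.congr_fun hi (⟨w, hw⟩ : W))
  exact (mul_inv_eq_iff_eq_mul.1 h1).symm

theorem main [Group.IsSolvable S] (hO : Cfsg.pPrimeCore 2 S = ⊥)
    (h8 : ∃ A : Subgroup S, IsMulCommutative ↥A ∧ ¬ IsCyclic ↥A ∧ Nat.card ↥A = 8)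
    (hmin : ∀ R : Subgroup S, R ≠ ⊤ → (∃ k : ℕ, R.index = 2 ^ k) →
      ¬ ∃ A : Subgroup S, A ≤ R ∧ IsMulCommutative ↥A ∧ ¬ IsCyclic ↥A ∧ Nat.card ↥A = 8)
    (X : Sylow 2 S) :
    (X : Subgroup S).Normal ∧
      (IsMulCommutative ↥X ∨
        (Cfsg.IsExtraspecial 2 ↥X ∧ 32 ≤ Nat.card ↥X) ∨
        (∃ (X₀ : Subgroup S) (k : ℕ), X₀ ≤ (X : Subgroup S) ∧ X₀.relIndex (X : Subgroup S) = 2 ∧
          Nonempty (↥X₀ ≃* QuaternionGroup (2 ^ (k + 1))) ∧ X₀ ⊔ ((X : Subgroup S) ⊓ Subgroup.centralizer (X₀ : Set S)) = (X : Subgroup S)) ∨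
        (Cfsg.IsSpecial 2 ↥X ∧ Nat.card ↥(Subgroup.center ↥X) = 4)) := by
  classical
  haveI h2f : Fact (Nat.Prime 2) := ⟨Nat.prime_two⟩
  set v := (Nat.card S).factorization 2 with hv
  obtain ⟨H, hH⟩ := Grp.exists_hall (G := S) (m := Nat.card S / 2 ^ v) (n := 2 ^ v)
    (by rw [mul_comm]; exact (Nat.ordProj_mul_ordCompl_eq_self _ 2).symm)
    ((Nat.coprime_ordCompl Nat.prime_two Nat.card_pos.ne').symm.pow_right v)
  have hodd : Odd (Nat.card H) := by
    rw [hH, ← Nat.not_even_iff_odd, even_iff_two_dvd]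
    exact Nat.not_dvd_ordCompl Nat.prime_two Nat.card_pos.ne'
  have hcop : ∀ W : Subgroup S, IsPGroup 2 W → (Nat.card H).Coprime (Nat.card W) := fun W hW => by
    obtain ⟨k, hk⟩ := IsPGroup.iff_card.1 hW
    rw [hk]
    exact (Nat.coprime_two_right.2 hodd).pow_right k
  have hXcard : Nat.card (X : Subgroup S) = 2 ^ v := X.card_eq_multiplicity
  have hHi : H.index = 2 ^ v := by
    have h1 := H.card_mul_index
    rw [hH] at h1
    refine Nat.eq_of_mul_eq_mul_left (hH ▸ Nat.card_pos : 0 < Nat.card S / 2 ^ v) (h1.trans ?_)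
    rw [mul_comm]; exact (Nat.ordProj_mul_ordCompl_eq_self _ 2).symm
  have hN8 : ∀ W : Subgroup S, W ⊔ H ≠ ⊤ → ∀ A : Subgroup S, A ≤ W → IsMulCommutative A → ¬ IsCyclic A → Nat.card A ≠ 8 := by
    intro W hW A hAW h1 h2 h3
    refine hmin _ hW ?_ ⟨A, hAW.trans le_sup_left, h1, h2, h3⟩
    obtain ⟨k, -, hk⟩ := (Nat.dvd_prime_pow Nat.prime_two).1 (hHi ▸ index_dvd_of_le (le_sup_right : H ≤ W ⊔ H))
    exact ⟨k, hk⟩
  have hsmall : ∀ W : Subgroup S, IsPGroup 2 W → W ⊔ H ≠ ⊤ → H ≤ normalizer (W : Set S) → ¬ H ≤ centralizer (W : Set S) →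
      (Nat.card W = 4 ∧ ∀ w ∈ W, w * w = 1) ∨ Nonempty (W ≃* QuaternionGroup 2) := by
    intro W hWp hW hHW hne
    rcases small hWp (fun A h1 h2 => by
        rw [← Subgroup.card_map_of_injective W.subtype_injective (K := A)]
        exact hN8 W hW _ (map_subtype_le _) inferInstance
          fun h => h2 ((A.equivMapOfInjective _ W.subtype_injective).isCyclic.2 h))
      (not_pgroup_aut W H hHW hodd hne) with ⟨h, h'⟩ | h
    · exact Or.inl ⟨h, fun w hw => congrArg Subtype.val (h' ⟨w, hw⟩)⟩
    · exact Or.inr h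
  -- the 2-core is the Sylow subgroup
  set R := Cfsg.pCore 2 S with hR
  haveI hRn : R.Normal := Grp.pCore_isNormal
  have hRp : IsPGroup 2 R := Grp.pCore_isPGroup
  have hCR : centralizer (R : Set S) ≤ R := Grp.centralizer_pCore_le hO
  have hRX : R ≤ (X : Subgroup S) := Grp.pCore_le_sylow X
  have hHR : H ≤ normalizer (R : Set S) := fun h _ => by rw [normalizer_eq_top]; exact mem_top h
  obtain ⟨A₀, hA₀, hA₀c, hA₀8⟩ := h8
  obtain ⟨P, hP⟩ := (IsPGroup.of_card (n := 3) (by rw [hA₀8]; rfl) : IsPGroup 2 A₀).exists_le_sylow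
  have htriv : H ≤ centralizer (R : Set S) → H = ⊥ := fun h => eq_bot_iff.2 fun x hx => by
    rw [mem_bot]
    exact Block.CoprimeClasses.eq_one_of_coprime (hcop R hRp) hx (hCR (h hx))
  have hRXeq : R = (X : Subgroup S) := by
    refine le_antisymm hRX ?_
    by_contra hlt
    have hH1 : H ≠ ⊥ := fun e => by
      rw [e, Subgroup.index_bot] at hHi
      have hS : IsPGroup 2 S := IsPGroup.of_card hHi
      exact hlt (by
        intro x _
        exact Grp.le_pCore (inferInstance : (⊤ : Subgroup S).Normal) (hS.to_subgroup ⊤) (mem_top x))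
    have hne : R ⊔ H ≠ ⊤ := fun e => by
      have h1 := Grp.card_sup_coprime hHR (hcop R hRp)
      rw [sup_comm, e, Subgroup.card_top, hH] at h1
      refine hlt (Subgroup.eq_of_le_of_card_ge hRX ?_).ge
      rw [hXcard]
      refine le_of_eq (Nat.eq_of_mul_eq_mul_left (hH ▸ Nat.card_pos : 0 < Nat.card S / 2 ^ v) ?_)
      rw [← h1, mul_comm]; exact Nat.ordProj_mul_ordCompl_eq_self _ 2
    refine noMax (P : Subgroup S) P.isPGroup' hP hA₀ hA₀c hA₀8 (Grp.pCore_le_sylow P) ?_ fun c _ hc => hCR hc
    rcases hsmall R hRp hne hHR (fun h => hH1 (htriv h)) with ⟨h, h'⟩ | h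
    · refine Or.inl ⟨h, fun a ha b hb => ?_⟩
      rw [← inv_eq_of_mul_eq_one_right (h' _ (R.mul_mem ha hb)), mul_inv_rev,
        inv_eq_of_mul_eq_one_right (h' a ha), inv_eq_of_mul_eq_one_right (h' b hb)]
    · exact Or.inr h
  have hXn : (X : Subgroup S).Normal := hRXeq ▸ hRn
  refine ⟨hXn, ?_⟩
  haveI := hXn
  set X' := (X : Subgroup S) with hX'
  have hXp : IsPGroup 2 X' := X.isPGroup'
  have hA₀X : A₀ ≤ X' := by
    letI := Sylow.unique_of_normal X hXn
    rw [Subsingleton.elim P X] at hP
    exact hP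
  by_cases hab : IsMulCommutative ↥X'
  · exact Or.inl hab
  right
  have hna : ¬ ∀ a ∈ X', ∀ b ∈ X', a * b = b * a := fun h => hab ⟨⟨fun a b => Subtype.ext (h a a.2 b b.2)⟩⟩
  have hX8 : Nat.card X' ≠ 8 := fun e => hna fun a ha b hb => by
    have := Subgroup.eq_of_le_of_card_ge hA₀X (by omega)
    exact congrArg Subtype.val (hA₀.is_comm.comm (⟨a, this.symm ▸ ha⟩ : A₀) ⟨b, this.symm ▸ hb⟩)
  have hcX : (Nat.card H).Coprime (Nat.card X') := hcop X' hXp
  have hHn : ∀ W : Subgroup S, W.Normal → H ≤ normalizer (W : Set S) := fun W hW h _ => by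
    haveI := hW; rw [normalizer_eq_top]; exact mem_top h
  have hHnt : ¬ H ≤ centralizer (X' : Set S) := fun h => by
    have hH1 := htriv (hRXeq ▸ h)
    have htop : X' = ⊤ := Subgroup.eq_top_of_card_eq _ (by rw [hXcard, ← hHi, hH1, index_bot])
    have hAtop : A₀ = ⊤ := by
      by_contra hne
      obtain ⟨k, -, hk⟩ := (Nat.dvd_prime_pow Nat.prime_two).1
        (hHi ▸ index_dvd_of_le (show H ≤ A₀ by rw [hH1]; exact bot_le))
      exact hmin A₀ hne ⟨k, hk⟩ ⟨A₀, le_rfl, hA₀, hA₀c, hA₀8⟩
    exact hX8 (by rw [htop, ← hAtop, hA₀8])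
  have hlt : ∀ W : Subgroup S, W ≤ X' → W ≠ X' → W ⊔ H ≠ ⊤ ∨ ¬ H ≤ normalizer (W : Set S) := by
    intro W hW hne
    by_contra h
    push Not at h
    refine hne (le_antisymm hW fun x hx => ?_)
    have hx' : x ∈ ((W ⊔ H : Subgroup S) : Set S) := by rw [h.1]; exact mem_top x
    rw [Subgroup.coe_mul_of_right_le_normalizer_left W H h.2] at hx'
    obtain ⟨w, hw, y, hy, rfl⟩ := hx'
    have hyX : y ∈ X' := (X'.mul_mem_cancel_left (hW hw)).1 hx
    show w * y ∈ W
    rw [Block.CoprimeClasses.eq_one_of_coprime hcX hy hyX, mul_one]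
    exact hw
  have step : ∀ W : Subgroup S, W ≤ X' → W ≠ X' → H ≤ normalizer (W : Set S) → ¬ H ≤ centralizer (W : Set S) →
      (Nat.card W = 4 ∧ ∀ w ∈ W, w * w = 1) ∨ Nonempty (W ≃* QuaternionGroup 2) := fun W hW hne hn hc =>
    hsmall W (hXp.to_le hW) ((hlt W hW hne).resolve_right (not_not.2 hn)) hn hc
  have hsol : Group.IsSolvable H ∨ Group.IsSolvable X' := Or.inl inferInstance
  have hHX : H ≤ normalizer (X' : Set S) := hHn X' hXn
  set Y := ⁅X', H⁆ with hY
  have hYX : Y ≤ X' := Grp.commutator_le_left_of_le_normalizer hHX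
  have hYY : ⁅Y, H⁆ = Y := Grp.commutator_commutator_eq H X' hHX hcX hsol
  have hHY : H ≤ normalizer (Y : Set S) := Grp.right_le_normalizer_commutator H X'
  have hYc : ¬ H ≤ centralizer (Y : Set S) := fun h => by
    have h1 : ⁅Y, H⁆ = ⊥ := by
      rw [Subgroup.commutator_comm]; exact commutator_eq_bot_iff_le_centralizer.2 h
    rw [hYY, hY, Subgroup.commutator_comm] at h1
    exact hHnt (commutator_eq_bot_iff_le_centralizer.1 h1)
  by_cases hYeq : Y = X'
  swap
  · -- `Y` is a proper subgroup
    have hYE := step Y hYX hYeq hHY hYc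
    obtain ⟨k, hk⟩ := IsPGroup.iff_card.1 (hXp.to_le hYX)
    have hdvd : 2 ^ (k + 1) ∣ Nat.card X' := by
      obtain ⟨j, hj⟩ := IsPGroup.iff_card.1 hXp
      rw [hj]
      refine pow_dvd_pow 2 ?_
      by_contra h
      exact hYeq (Subgroup.eq_of_le_of_card_ge hYX (by rw [hk, hj]; exact Nat.pow_le_pow_right two_pos (by omega)))
    obtain ⟨W₀, hW₀, hYW₀⟩ := Sylow.exists_subgroup_card_pow_prime_le 2 hdvd (Y.subgroupOf X')
      ((Nat.card_congr (subgroupOfEquivOfLe hYX).toEquiv).trans hk) (Nat.le_succ k)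
    set W := W₀.map X'.subtype with hW
    have hWX : W ≤ X' := map_subtype_le _
    have hYW : Y ≤ W := fun y hy => ⟨⟨y, hYX hy⟩, hYW₀ (mem_subgroupOf.2 hy), rfl⟩
    have hWcard : Nat.card W = 2 * Nat.card Y := by
      rw [Subgroup.card_map_of_injective X'.subtype_injective, hW₀, hk, pow_succ']
    have hHW : H ≤ normalizer (W : Set S) := fun h hh => Subgroup.mem_normalizer_fintype fun w hw => by
      rw [show h * w * h⁻¹ = ⁅h, w⁆ * w by rw [commutatorElement_def]; group]
      refine W.mul_mem (hYW ?_) hw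
      rw [hY, Subgroup.commutator_comm]
      exact Subgroup.commutator_mem_commutator hh (hWX hw)
    have hWeq : W = X' := by
      by_contra hne
      rcases step W hWX hne hHW (fun h => hYc (h.trans (centralizer_le hYW))) with ⟨h4, -⟩ | hq
      · rcases hYE with ⟨h, -⟩ | h
        · omega
        · have := (quat_facts h).1; omega
      · obtain ⟨hq8, -, huniq⟩ := quat_facts hq
        rcases hYE with ⟨h, h'⟩ | h
        · obtain ⟨a, b, ha, hb, hab⟩ : ∃ a b : Y, a ≠ 1 ∧ b ≠ 1 ∧ a ≠ b := by
            haveI := Fintype.ofFinite Y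
            rw [Nat.card_eq_fintype_card] at h
            obtain ⟨a, ha⟩ := Fintype.exists_ne_of_one_lt_card (by omega) (1 : Y)
            obtain ⟨b, hb1, hb⟩ : ∃ b : Y, b ≠ 1 ∧ b ≠ a := by
              by_contra hh
              push Not at hh
              have : (Finset.univ : Finset Y) ⊆ {1, a} := fun b _ => by
                by_cases e : b = 1
                · simp [e]
                · simp [hh b e]
              have := (Finset.card_le_card this).trans Finset.card_le_two
              rw [Finset.card_univ] at this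
              omega
            exact ⟨a, b, ha, hb1, hb.symm⟩
          exact hab (Subtype.ext (congrArg (fun z : W => (z : S)) (huniq ⟨a, hYW a.2⟩ ⟨b, hYW b.2⟩ (Subtype.ext (h' a a.2)) (Subtype.ext (h' b b.2))
            (fun e => ha (Subtype.ext (congrArg (fun z : W => (z : S)) e))) (fun e => hb (Subtype.ext (congrArg (fun z : W => (z : S)) e)))) : (a : S) = b))
        · have := (quat_facts h).1; omega
    rw [hWeq] at hWcard
    rcases hYE with ⟨h, -⟩ | h
    · exact absurd (by omega) hX8
    · have hY8 := (quat_facts h).1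
      refine Or.inr (Or.inl ⟨Y, 0, hYX, ?_, h, ?_⟩)
      · have h1 := Grp.card_mul_relIndex hYX
        rw [hWcard, hY8] at h1
        omega
      · by_cases hC : X' ⊓ centralizer (Y : Set S) ≤ Y
        · exact (noMax X' hXp hA₀X hA₀ hA₀c hA₀8 hYX (Or.inr h) fun c h1 h2 => hC ⟨h1, h2⟩).elim
        · refine Subgroup.eq_of_le_of_card_ge (sup_le hYX inf_le_left) ?_
          set T := Y ⊔ X' ⊓ centralizer (Y : Set S)
          have hTX : T ≤ X' := sup_le hYX inf_le_left
          obtain ⟨j, hj⟩ := IsPGroup.iff_card.1 (hXp.to_le hTX)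
          have h1 : Nat.card Y < Nat.card T := by
            refine lt_of_le_of_ne (Nat.le_of_dvd Nat.card_pos (card_dvd_of_le le_sup_left)) fun e => hC ?_
            exact le_sup_right.trans (Subgroup.eq_of_le_of_card_ge (le_sup_left : Y ≤ T) e.ge).ge
          rw [hj, hY8] at h1
          rw [hWcard, hY8, hj]
          have : 3 < j := (Nat.pow_lt_pow_iff_right (a := 2) (by omega)).1 h1
          exact le_trans (by norm_num) (Nat.pow_le_pow_right two_pos this)
  -- `X = [X, H]`
  set Φ := (frattini ↥X').map X'.subtype with hΦ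
  haveI hΦn : Φ.Normal := Grp.normal_of_characteristic_map _
  have hΦX : Φ ≤ X' := map_subtype_le _
  haveI hXnt : Nontrivial X' := by
    refine (nontrivial_iff_ne_bot _).2 fun e => hna fun a ha b hb => ?_
    rw [e, mem_bot] at ha hb; rw [ha, hb]
  have nongen : ∀ K : Subgroup S, K ≤ X' → X' ≤ K ⊔ Φ → K = X' := fun K hK h => by
    refine le_antisymm hK ?_
    rw [← subgroupOf_eq_top]
    refine frattini_nongenerating (eq_top_iff.2 fun x _ => ?_)
    have h1 : frattini ↥X' = Φ.subgroupOf X' := by
      rw [hΦ]; exact (comap_map_eq_self_of_injective X'.subtype_injective _).symm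
    rw [h1, ← Subgroup.subgroupOf_sup hK hΦX]
    exact mem_subgroupOf.2 (h x.2)
  have hΦne : Φ ≠ X' := fun e => by
    have := nongen ⊥ bot_le (by rw [bot_sup_eq, e])
    exact (nontrivial_iff_ne_bot _).1 hXnt this.symm
  have hsqΦ : ∀ x ∈ X', x * x ∈ Φ := fun x hx =>
    ⟨⟨x, hx⟩ ^ 2, Grp.pGroup_pow_mem_frattini hXp _, by simp [pow_two]⟩
  have hcoΦ : ∀ a ∈ X', ∀ b ∈ X', ⁅a, b⁆ ∈ Φ := fun a ha b hb =>
    ⟨⁅(⟨a, ha⟩ : X'), ⟨b, hb⟩⁆, Grp.pGroup_commutator_le_frattini hXp
      (commutator_mem_commutator (mem_top _) (mem_top _)), by simp [commutatorElement_def]⟩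
  -- the Frattini subgroup is central
  haveI hCn : (centralizer (Φ : Set S)).Normal := Subgroup.normal_centralizer
  have hcen : Φ ≤ centralizer (X' : Set S) := by
    by_cases hHΦ : H ≤ centralizer (Φ : Set S)
    · rw [← commutator_eq_bot_iff_le_centralizer, Subgroup.commutator_comm]
      have h0 : ⁅⁅X', H⁆, Φ⁆ = ⊥ := by
        refine Subgroup.commutator_commutator_eq_bot_of_rotate ?_ ?_
        · rw [commutator_eq_bot_iff_le_centralizer.2 hHΦ, Subgroup.commutator_bot_left]
        · rw [eq_bot_iff, ← commutator_eq_bot_iff_le_centralizer.2 hHΦ, Subgroup.commutator_comm H Φ]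
          exact commutator_mono (commutator_le_left Φ X') le_rfl
      rwa [← hY, hYeq] at h0
    · set C := X' ⊓ centralizer (Φ : Set S) with hC
      have hCn' : C.Normal := inferInstance
      by_cases hCX : C = X'
      · exact le_centralizer_iff.1 (hCX.ge.trans inf_le_right)
      exfalso
      rcases step Φ hΦX hΦne (hHn Φ hΦn) hHΦ with ⟨h, h'⟩ | hq
      · have hΦab : ∀ a ∈ Φ, ∀ b ∈ Φ, a * b = b * a := fun a ha b hb => by
          rw [← inv_eq_of_mul_eq_one_right (h' _ (Φ.mul_mem ha hb)), mul_inv_rev,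
            inv_eq_of_mul_eq_one_right (h' a ha), inv_eq_of_mul_eq_one_right (h' b hb)]
        have hΦC : Φ ≤ C := le_inf hΦX fun a ha => mem_centralizer_iff.2 fun b hb => hΦab b hb a ha
        rcases step C inf_le_left hCX (hHn C hCn') (fun hh => hHΦ (hh.trans (centralizer_le hΦC))) with ⟨h4, -⟩ | hq
        · exact noMax X' hXp hA₀X hA₀ hA₀c hA₀8 hΦX (Or.inl ⟨h, hΦab⟩) fun c h1 h2 =>
            (Subgroup.eq_of_le_of_card_ge hΦC (by omega)).ge ⟨h1, h2⟩
        · obtain ⟨-, -, huniq⟩ := quat_facts hq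
          have hle : Nat.card Φ ≤ 2 := by
            haveI := Fintype.ofFinite Φ
            by_contra hlt
            rw [Nat.card_eq_fintype_card] at hlt
            obtain ⟨a, ha⟩ := Fintype.exists_ne_of_one_lt_card (by omega) (1 : Φ)
            have : (Finset.univ : Finset Φ) ⊆ {1, a} := fun b _ => by
              by_cases e : b = 1
              · simp [e]
              · simp only [Finset.mem_insert, Finset.mem_singleton]
                exact Or.inr (Subtype.ext (congrArg (fun z : C => (z : S)) (huniq ⟨b, hΦC b.2⟩ ⟨a, hΦC a.2⟩ (Subtype.ext (h' b b.2))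
                  (Subtype.ext (h' a a.2)) (fun e' => e (Subtype.ext (congrArg (fun z : C => (z : S)) e')))
                  (fun e' => ha (Subtype.ext (congrArg (fun z : C => (z : S)) e')))) : (b : S) = a))
            have := (Finset.card_le_card this).trans Finset.card_le_two
            rw [Finset.card_univ] at this
            omega
          omega
      · obtain ⟨hq8, ⟨a, b, hab'⟩, -⟩ := quat_facts hq
        by_cases hWX : Φ ⊔ C = X'
        · exact hCX (nongen C inf_le_left (by rw [sup_comm, hWX]))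
        have hle : Φ ≤ Φ ⊔ C := le_sup_left
        rcases step (Φ ⊔ C) (sup_le hΦX inf_le_left) hWX (hHn _ inferInstance) (fun hh => hHΦ (hh.trans (centralizer_le hle))) with ⟨h4, -⟩ | hq'
        · have := Nat.le_of_dvd Nat.card_pos (card_dvd_of_le hle); omega
        · have := (quat_facts hq').1
          refine noMax X' hXp hA₀X hA₀ hA₀c hA₀8 hΦX (Or.inr hq) fun c h1 h2 => ?_
          rw [Subgroup.eq_of_le_of_card_ge hle (by omega)]
          exact Subgroup.mem_sup_right (show c ∈ C from ⟨h1, h2⟩)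
  set Z := X' ⊓ centralizer (X' : Set S) with hZ
  haveI : (centralizer (X' : Set S)).Normal := Subgroup.normal_centralizer
  haveI hZn : Z.Normal := inferInstance
  have hΦZ : Φ ≤ Z := le_inf hΦX hcen
  have hZab : ∀ a ∈ Z, ∀ b ∈ X', a * b = b * a := fun a ha b hb => (mem_centralizer_iff.1 ha.2 b hb).symm
  have hZne : Z ≠ X' := fun e => hna fun a ha b hb => hZab a (e.ge ha) b hb
  set D := ⁅X', X'⁆ with hD
  have hDΦ : D ≤ Φ := commutator_le.2 hcoΦ
  have hD2 : ∀ z ∈ D, z * z = 1 := by
    have hle : D ≤ ({ carrier := {z | z ∈ Z ∧ z * z = 1}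
                      one_mem' := ⟨one_mem _, mul_one 1⟩
                      mul_mem' := fun {a b} ha hb => ⟨mul_mem ha.1 hb.1, by
                        calc a * b * (a * b) = a * (b * a) * b := by group
                          _ = a * a * (b * b) := by rw [hZab b hb.1 a ha.1.1]; group
                          _ = 1 := by rw [ha.2, hb.2, one_mul]⟩
                      inv_mem' := fun {a} ha => ⟨inv_mem ha.1, by rw [← mul_inv_rev, ha.2, inv_one]⟩ } : Subgroup S) :=
      commutator_le.2 fun a ha b hb => ⟨hΦZ (hcoΦ a ha b hb), by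
        have hc := hZab _ (hΦZ (hcoΦ a ha b hb))
        have haa := hZab _ (hΦZ (hsqΦ a ha)) b hb
        have h1 : ⁅a * a, b⁆ = a * ⁅a, b⁆ * a⁻¹ * ⁅a, b⁆ := by simp only [commutatorElement_def]; group
        rw [← hc a ha, mul_inv_cancel_right] at h1
        rw [← h1, commutatorElement_eq_one_iff_mul_comm]
        exact haa⟩
    exact fun z hz => (hle hz).2
  have hDne : D ≠ ⊥ := fun e => hna fun a ha b hb =>
    commutatorElement_eq_one_iff_mul_comm.1 (mem_bot.1 (e ▸ commutator_mem_commutator ha hb))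
  have hZe : Z = (center ↥X').map X'.subtype := by
    ext x
    constructor
    · exact fun hx => ⟨⟨x, hx.1⟩, mem_center_iff.2 fun y => Subtype.ext (hZab x hx y y.2).symm, rfl⟩
    · rintro ⟨⟨x, hxX⟩, hx, rfl⟩
      exact ⟨hxX, mem_centralizer_iff.2 fun y hy => congrArg Subtype.val (mem_center_iff.1 hx ⟨y, hy⟩)⟩
  have hDe : D = (commutator ↥X').map X'.subtype := (Subgroup.map_subtype_commutator X').symm
  have hspec : D = Z → Φ = Z → Cfsg.IsSpecial 2 ↥X' := fun h1 h2 => by
    have hinj := Subgroup.map_injective X'.subtype_injective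
    exact ⟨hXp, hinj (show (frattini ↥X').map X'.subtype = (center ↥X').map X'.subtype by rw [← hΦ, h2, hZe]),
      hinj (show (commutator ↥X').map X'.subtype = (center ↥X').map X'.subtype by rw [← hDe, h1, hZe])⟩
  have hZc : Nat.card (center ↥X') = Nat.card Z := by rw [hZe, Subgroup.card_map_of_injective X'.subtype_injective]
  haveI hDn : D.Normal := inferInstance
  by_cases hHZ : H ≤ centralizer (Z : Set S)
  · -- `H` centralises the centre
    have hfix : ∀ h ∈ H, ∀ z ∈ Z, h * z = z * h := fun h hh z hz => (mem_centralizer_iff.1 (hHZ hh) z hz).symm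
    have hsq : ∀ x ∈ X', x * x ∈ D := by
      have hle : X' ≤ ({ carrier := {x | x ∈ X' ∧ x * x ∈ D}
                         one_mem' := ⟨one_mem _, by rw [mul_one]; exact one_mem _⟩
                         mul_mem' := fun {a b} ha hb => ⟨mul_mem ha.1 hb.1, by
                           have hc := hZab _ (hΦZ (hcoΦ b hb.1 a ha.1)) a ha.1
                           rw [show a * b * (a * b) = (a * ⁅b, a⁆ * a⁻¹) * (a * a) * (b * b) by
                             simp only [commutatorElement_def]; group]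
                           rw [← hc, mul_inv_cancel_right]
                           exact mul_mem (mul_mem (commutator_mem_commutator hb.1 ha.1) ha.2) hb.2⟩
                         inv_mem' := fun {a} ha => ⟨inv_mem ha.1, by rw [← mul_inv_rev]; exact inv_mem ha.2⟩ } : Subgroup S) := by
        conv_lhs => rw [← hYeq, hY]
        refine commutator_le.2 fun x hx h hh => ?_
        have h1 : x * (h * x⁻¹ * h⁻¹) = ⁅x, h⁆ := by simp only [commutatorElement_def]; group
        have hu : h * x⁻¹ * h⁻¹ ∈ X' := hXn.conj_mem _ (inv_mem hx) h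
        refine ⟨h1 ▸ mul_mem hx hu, ?_⟩
        have h2 : h * x⁻¹ * h⁻¹ * (h * x⁻¹ * h⁻¹) = (x * x)⁻¹ := by
          rw [show h * x⁻¹ * h⁻¹ * (h * x⁻¹ * h⁻¹) = h * (x * x)⁻¹ * h⁻¹ by group,
            hfix h hh _ (inv_mem (hΦZ (hsqΦ x hx))), mul_inv_cancel_right]
        have hc := hZab _ (hΦZ (hcoΦ _ hu x hx)) x hx
        rw [← h1, show x * (h * x⁻¹ * h⁻¹) * (x * (h * x⁻¹ * h⁻¹)) =
            (x * ⁅h * x⁻¹ * h⁻¹, x⁆ * x⁻¹) * (x * x) * (h * x⁻¹ * h⁻¹ * (h * x⁻¹ * h⁻¹)) by
          simp only [commutatorElement_def]; group, h2, ← hc, mul_inv_cancel_right, mul_inv_cancel_right]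
        exact commutator_mem_commutator hu hx
      exact fun x hx => (hle hx).2
    have hΦD : Φ = D := by
      refine le_antisymm ?_ hDΦ
      rw [hΦ, hDe]
      refine map_mono (Grp.frattini_le_of_elementary Nat.prime_two le_rfl fun x => ?_)
      have h1 := hsq x x.2
      rw [hDe] at h1
      obtain ⟨y, hy, e⟩ := h1
      rwa [show x ^ 2 = y from Subtype.ext (by rw [pow_two]; exact e.symm)]
    have hZD : Z = D := by
      refine le_antisymm (fun z hz => ?_) (hDΦ.trans hΦZ)
      set t := MonoidHom.transfer (Abelianization.of : X' →* Abelianization X') with ht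
      have hker : X' ≤ t.ker := by
        conv_lhs => rw [← hYeq, hY]
        exact (commutator_mono le_top le_top).trans (commutator_def S ▸ Abelianization.commutator_subset_ker t)
      have hzS : ∀ g : S, g * z = z * g := fun g => by
        have hg : g ∈ ((X' ⊔ H : Subgroup S) : Set S) := by
          have htop : X' ⊔ H = ⊤ := Subgroup.eq_top_of_card_eq _ (by
            rw [sup_comm, Grp.card_sup_coprime hHX hcX, hH, hXcard, mul_comm]
            exact Nat.ordProj_mul_ordCompl_eq_self _ 2)
          rw [htop]; exact mem_top g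
        rw [Subgroup.coe_mul_of_right_le_normalizer_left X' H hHX] at hg
        obtain ⟨x, hx, y, hy, rfl⟩ := hg
        calc x * y * z = x * (z * y) := by rw [mul_assoc, hfix y hy z hz]
          _ = z * (x * y) := by rw [← mul_assoc, ← hZab z hz x hx, mul_assoc]
      have h1 := MonoidHom.transfer_eq_pow (Abelianization.of : X' →* Abelianization X') z (fun k g _ => by
        rw [((show Commute g z from hzS g).pow_right k).inv_mul_cancel])
      have h2 : t z = 1 := hker hz.1
      rw [ht, h1] at h2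
      have h3 : z ^ X'.index ∈ D := by
        rw [hDe]
        refine ⟨⟨_, pow_mem hz.1 _⟩, ?_, rfl⟩
        rw [← Abelianization.ker_of]
        exact h2
      have hodd' : Odd X'.index := Nat.not_even_iff_odd.1 fun h => X.not_dvd_index (even_iff_two_dvd.1 h)
      obtain ⟨m, hm⟩ := hodd'
      rw [hm, pow_succ, pow_mul] at h3
      exact (D.mul_mem_cancel_left (pow_mem (by rw [pow_two]; exact hsq z hz.1) m)).1 h3
    have hS := hspec hZD.symm (hΦD.trans hZD.symm)
    have hZ2 : ∀ z ∈ Z, z * z = 1 := fun z hz => hD2 z (hZD ▸ hz)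
    have hZ4 : Nat.card Z ∣ 4 := by
      obtain ⟨k, hk⟩ := IsPGroup.iff_card.1 (hXp.to_le (show Z ≤ X' from inf_le_left))
      rw [hk, show 4 = 2 ^ 2 by rfl]
      refine pow_dvd_pow 2 ?_
      by_contra h
      obtain ⟨K, hK⟩ := Sylow.exists_subgroup_card_pow_prime 2 (G := Z) (n := 3) (hk ▸ pow_dvd_pow 2 (by omega))
      haveI : IsMulCommutative Z := ⟨⟨fun a b => Subtype.ext (hZab a a.2 b b.2.1)⟩⟩
      refine hN8 Z ((hlt Z inf_le_left hZne).resolve_right (not_not.2 (hHn Z hZn))) (K.map Z.subtype)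
        (map_subtype_le _) inferInstance (fun hc => ?_) (by rw [Subgroup.card_map_of_injective Z.subtype_injective, hK]; rfl)
      have hc' := (K.equivMapOfInjective _ Z.subtype_injective).isCyclic.2 hc
      obtain ⟨g, hg⟩ := hc'.exists_generator
      have h1 := orderOf_eq_card_of_forall_mem_zpowers hg
      have h2 : g ^ 2 = 1 := Subtype.ext (Subtype.ext (by simp [pow_two, hZ2 _ (g : Z).2]))
      have := Nat.le_of_dvd two_pos (orderOf_dvd_of_pow_eq_one h2)
      rw [h1, hK] at this
      norm_num at this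
    have hZ1 : Nat.card Z ≠ 1 := fun e => hDne (hZD ▸ Subgroup.card_eq_one.1 e)
    rcases (Nat.dvd_prime_pow (m := 2) Nat.prime_two).1 hZ4 with ⟨i, hi, hi'⟩
    interval_cases i
    · exact absurd hi' hZ1
    · refine Or.inl ⟨⟨hS, hZc.trans hi'⟩, ?_⟩
      obtain ⟨j, hj⟩ := IsPGroup.iff_card.1 hXp
      show 32 ≤ Nat.card X'
      rw [hj, show 32 = 2 ^ 5 by rfl]
      refine Nat.pow_le_pow_right two_pos ?_
      by_contra hlt5
      have hA : 3 ≤ j := by
        have h1 := card_dvd_of_le hA₀X
        rw [hA₀8, hj, show 8 = 2 ^ 3 by rfl] at h1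
        exact (Nat.pow_dvd_pow_iff_le_right (by omega)).1 h1
      obtain rfl | rfl : j = 3 ∨ j = 4 := by omega
      · exact hX8 hj
      set A := A₀.subgroupOf X' with hAdef
      have hAcard : Nat.card A = 8 := (Nat.card_congr (subgroupOfEquivOfLe hA₀X).toEquiv).trans hA₀8
      have hAi : A.index = 2 := by
        have := A.card_mul_index
        rw [hAcard, hj] at this
        omega
      have hAab : ∀ a ∈ A, ∀ b ∈ A, Commute a b := fun a ha b hb => Subtype.ext
        (congrArg (fun z : A₀ => (z : S)) (hA₀.is_comm.comm (⟨_, ha⟩ : A₀) ⟨_, hb⟩))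
      obtain ⟨x, hx⟩ : ∃ x, x ∉ A := by
        by_contra h
        push Not at h
        rw [show A = ⊤ from eq_top_iff.2 fun g _ => h g, index_top] at hAi
        omega
      have h1 := MaxClass.card_eq_commutator_mul_fixed hAi hAab hx
      have h2 : Nat.card (commutator ↥X') = 2 := by
        have h := hi'.trans (pow_one 2)
        rwa [hZD, hDe, Subgroup.card_map_of_injective X'.subtype_injective] at h
      have h3 : Nat.card {a : A // x * (a : X') * x⁻¹ = a} ≤ Nat.card (center ↥X') := by
        refine Nat.card_le_card_of_injective (fun a => ⟨(a.1 : X'), mem_center_iff.2 fun g => ?_⟩)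
          fun a b e => Subtype.ext (Subtype.ext (congrArg (fun z : center ↥X' => (z : X')) e))
        have hxa : x * (a.1 : X') = a.1 * x := mul_inv_eq_iff_eq_mul.1 a.2
        by_cases hg : g ∈ A
        · exact hAab g hg _ a.1.2
        · have hgx : x⁻¹ * g ∈ A := (mul_mem_iff_of_index_two hAi).2 (iff_of_false (fun h => hx (inv_mem_iff.1 h)) hg)
          calc g * (a.1 : X') = x * ((x⁻¹ * g) * a.1) := by group
            _ = x * (a.1 : X') * (x⁻¹ * g) := by rw [(hAab _ hgx _ a.1.2).eq, mul_assoc]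
            _ = a.1 * g := by rw [hxa]; group
      rw [hZc, hi'] at h3
      rw [hAcard, h2] at h1
      omega
    · exact Or.inr (Or.inr ⟨hS, hZc.trans hi'⟩)
  · rcases step Z inf_le_left hZne (hHn Z hZn) hHZ with ⟨h4, h4'⟩ | hq
    swap
    · obtain ⟨-, ⟨a, b, hab'⟩, -⟩ := quat_facts hq
      exact absurd (Subtype.ext (hZab a a.2 b b.2.1)) hab'
    have hDZ : D = Z := by
      refine Subgroup.eq_of_le_of_card_ge (hDΦ.trans hΦZ) ?_
      by_contra hlt4
      push Not at hlt4
      obtain ⟨i, hi, hi'⟩ := (Nat.dvd_prime_pow (m := 2) Nat.prime_two).1 (show Nat.card D ∣ 2 ^ 2 by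
        rw [show (2:ℕ) ^ 2 = Nat.card Z by rw [h4]; rfl]; exact card_dvd_of_le (hDΦ.trans hΦZ))
      have hD1 : Nat.card D ≠ 1 := fun e => hDne (Subgroup.card_eq_one.1 e)
      have hD2' : Nat.card D = 2 := by interval_cases i <;> omega
      refine hHZ fun h hh => mem_centralizer_iff.2 fun z hz => ?_
      have hDfix : ∀ d ∈ D, h * d * h⁻¹ = d := by
        intro d hd
        have h1 := hDn.conj_mem d hd h
        by_cases e : d = 1
        · rw [e]; group
        haveI := Fintype.ofFinite D
        rw [Nat.card_eq_fintype_card] at hD2'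
        by_contra hne
        have h3 : ({(1 : D), ⟨d, hd⟩, ⟨_, h1⟩} : Finset D).card ≤ 2 := (Finset.card_le_univ _).trans_eq hD2'
        rw [Finset.card_insert_of_notMem (by simp [Subtype.ext_iff, Ne.symm e, eq_comm, e]),
          Finset.card_insert_of_notMem (by simp [Subtype.ext_iff, Ne.symm hne]), Finset.card_singleton] at h3
        omega
      have hZ' : D.relIndex Z = 2 := by
        have h1 := Grp.card_mul_relIndex (hDΦ.trans hΦZ)
        rw [hD2', h4] at h1
        omega
      by_cases hzD : z ∈ D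
      · exact (mul_inv_eq_iff_eq_mul.1 (hDfix z hzD)).symm
      have hzc : h * z * h⁻¹ ∈ Z := hZn.conj_mem z hz h
      have hzn : h * z * h⁻¹ ∉ D := fun h1 => hzD (by
        have := hDn.conj_mem _ h1 h⁻¹
        rwa [show h⁻¹ * (h * z * h⁻¹) * h⁻¹⁻¹ = z by group] at this)
      have hd : z⁻¹ * (h * z * h⁻¹) ∈ D := (mul_mem_iff_of_index_two (H := D.subgroupOf Z) hZ'
        (a := ⟨z⁻¹, inv_mem hz⟩) (b := ⟨_, hzc⟩)).2 (iff_of_false (fun h => hzD (inv_mem_iff.1 h)) hzn)
      set d := z⁻¹ * (h * z * h⁻¹) with hddef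
      have he : h * z * h⁻¹ = z * d := by rw [hddef]; group
      have h2 : h * h * z * (h * h)⁻¹ = z := by
        rw [show h * h * z * (h * h)⁻¹ = h * (h * z * h⁻¹) * h⁻¹ by group, he,
          show h * (z * d) * h⁻¹ = h * z * h⁻¹ * (h * d * h⁻¹) by group, he, hDfix d hd, mul_assoc,
          show d * d = 1 from hD2 d hd, mul_one]
      have hpow : h ∈ zpowers (h ^ 2) := by
        obtain ⟨m, hm⟩ := exists_pow_eq_self_of_coprime (x := h) (n := 2) (by
          refine (Nat.coprime_two_left.2 ?_)
          exact hodd.of_dvd_nat (Subgroup.orderOf_dvd_natCard H hh))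
        exact ⟨m, show (h ^ 2) ^ (m : ℤ) = h by rw [zpow_natCast]; exact hm⟩
      have h3 : h ^ 2 ∈ centralizer ({z} : Set S) := by
        rw [mem_centralizer_singleton_iff, pow_two]
        exact mul_inv_eq_iff_eq_mul.1 h2
      exact ((mem_centralizer_singleton_iff.1 ((zpowers_le.2 h3) hpow))).symm
    exact Or.inr (Or.inr ⟨hspec hDZ (le_antisymm hΦZ (hDZ ▸ hDΦ)), hZc.trans h4⟩)

end


/-- Let S be a finite solvable group with O_{2'}(S) = 1 that contains a non-cyclic abelian subgroup of order 8, while no proper subgroup of S of 2-power index contains one. Then a Sylow 2-subgroup X of S is normal in S, and one of the following holds: X is abelian; X is extraspecial of order at least 32; X has a generalized quaternion subgroup X₀ of index 2 with X = X₀·C_X(X₀); or X is special with centre of order 4. -/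
theorem result {S : Type*} [Group S] [Finite S]
    [Group.IsSolvable S] (hO : Cfsg.pPrimeCore 2 S = ⊥)
    (h8 : ∃ A : Subgroup S, IsMulCommutative ↥A ∧ ¬ IsCyclic ↥A ∧ Nat.card ↥A = 8)
    (hmin : ∀ R : Subgroup S, R ≠ ⊤ → (∃ k : ℕ, R.index = 2 ^ k) →
      ¬ ∃ A : Subgroup S, A ≤ R ∧ IsMulCommutative ↥A ∧ ¬ IsCyclic ↥A ∧ Nat.card ↥A = 8)
    (X : Sylow 2 S) :
    (X : Subgroup S).Normal ∧
      (IsMulCommutative ↥X ∨
        (Cfsg.IsExtraspecial 2 ↥X ∧ 32 ≤ Nat.card ↥X) ∨
        (∃ (X₀ : Subgroup S) (k : ℕ), X₀ ≤ (X : Subgroup S) ∧ X₀.relIndex (X : Subgroup S) = 2 ∧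
          Nonempty (↥X₀ ≃* QuaternionGroup (2 ^ (k + 1))) ∧ X₀ ⊔ ((X : Subgroup S) ⊓ Subgroup.centralizer (X₀ : Set S)) = (X : Subgroup S)) ∨
        (Cfsg.IsSpecial 2 ↥X ∧ Nat.card ↥(Subgroup.center ↥X) = 4)) := by

  exact main hO h8 hmin X

end Cfsg.Agent.S4409
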