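import Cfsg.Statements.S4410
import Mathlib
import Cfsg.Agent.Lib.Grp.Cores
import Cfsg.Agent.Lib.Grp.Solvable

set_option maxHeartbeats 1000000
set_option maxRecDepth 8000

set_option autoImplicit false
open Cfsg

namespace Cfsg.Agent.S4410

section

variable {V : Type*} [AddCommGroup V] [Module (ZMod 2) V]

theorem add_self_zero (x : V) : x + x = 0 := by
  rw [← two_smul (ZMod 2), show (2 : ZMod 2) = 0 from rfl, zero_smul]

theorem zmod_two_cases (c : ZMod 2) : c = 0 ∨ c = 1 := by revert c; decide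

/-- `g` is the transvection of direction `a` and hyperplane `φ`. -/
def IsTv (g : V ≃ₗ[ZMod 2] V) (a : V) (φ : V →ₗ[ZMod 2] ZMod 2) : Prop :=
  φ a = 0 ∧ ∀ w, g w = w + φ w • a

theorem IsTv.conj {g : V ≃ₗ[ZMod 2] V} {a : V} {φ : V →ₗ[ZMod 2] ZMod 2} (h : IsTv g a φ) (x : V ≃ₗ[ZMod 2] V) :
    IsTv (x * g * x⁻¹) (x a) (φ.comp (x.symm : V →ₗ[ZMod 2] V)) := by
  refine ⟨by simp [h.1], fun w => ?_⟩
  show x (g (x.symm w)) = w + φ (x.symm w) • x a
  rw [h.2, map_add, map_smul, x.apply_symm_apply]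

/-- A product of two transvections is trivial, of two-power order, or of order three. -/
theorem mul_cases {u v : V ≃ₗ[ZMod 2] V} {a b : V} {φ ψ : V →ₗ[ZMod 2] ZMod 2} (hu : IsTv u a φ) (hv : IsTv v b ψ) :
    (u * v) ^ 4 = 1 ∨ (ψ a = 1 ∧ φ b = 1 ∧ (u * v) ^ 3 = 1) := by
  have happ : ∀ (g h : V ≃ₗ[ZMod 2] V) (w : V), (g * h) w = g (h w) := fun g h w => rfl
  have hua : u a = a := by rw [hu.2, hu.1, zero_smul, add_zero]
  have hvb : v b = b := by rw [hv.2, hv.1, zero_smul, add_zero]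
  rcases zmod_two_cases (ψ a) with hψ | hψ
  · left
    have hva : v a = a := by rw [hv.2, hψ, zero_smul, add_zero]
    refine LinearEquiv.ext fun w => ?_
    show u (v (u (v (u (v (u (v w))))))) = w
    have hub : u b = b + φ b • a := hu.2 b
    have hstep : ∀ (c d : ZMod 2) (w : V), u (v (w + c • a + d • b)) =
        w + (c + φ w + φ b * (d + ψ w)) • a + (d + ψ w) • b := fun c d w => by
      simp only [map_add, map_smul, hva, hvb, hua, hub, hu.2 w, hv.2 w]
      module
    have h0 := hstep 0 0 w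
    simp only [zero_smul, add_zero] at h0
    rw [h0, hstep, hstep, hstep]
    have h2 : ∀ x y z : ZMod 2, (x + z + y + z + y + z + y + z) = x + y + y + y + z + z + z + z := by decide
    generalize φ w = A at *
    generalize ψ w = B at *
    generalize φ b = C
    revert h0 hstep
    intro _ _
    rcases zmod_two_cases A with rfl | rfl <;> rcases zmod_two_cases B with rfl | rfl <;>
      rcases zmod_two_cases C with rfl | rfl <;>
      simp [show ((1 : ZMod 2) + 1) = 0 from rfl]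
  rcases zmod_two_cases (φ b) with hφ | hφ
  · left
    have hub : u b = b := by rw [hu.2, hφ, zero_smul, add_zero]
    refine LinearEquiv.ext fun w => ?_
    show u (v (u (v (u (v (u (v w))))))) = w
    have hva : v a = a + b := by rw [hv.2, hψ, one_smul]
    have hstep : ∀ (c d : ZMod 2) (w : V), u (v (w + c • a + d • b)) =
        w + (c + φ w) • a + (d + c + ψ w) • b := fun c d w => by
      simp only [map_add, map_smul, hva, hvb, hua, hub, hu.2 w, hv.2 w]
      module
    have h0 := hstep 0 0 w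
    simp only [zero_smul, add_zero] at h0
    rw [h0, hstep, hstep, hstep]
    generalize φ w = A
    generalize ψ w = B
    rcases zmod_two_cases A with rfl | rfl <;> rcases zmod_two_cases B with rfl | rfl <;>
      simp [show ((1 : ZMod 2) + 1) = 0 from rfl]
  · right
    refine ⟨hψ, hφ, LinearEquiv.ext fun w => ?_⟩
    show u (v (u (v (u (v w))))) = w
    have hub : u b = b + a := by rw [hu.2, hφ, one_smul]
    have hva : v a = a + b := by rw [hv.2, hψ, one_smul]
    have hstep : ∀ (c d : ZMod 2) (w : V), u (v (w + c • a + d • b)) =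
        w + (c + φ w + (d + c + ψ w)) • a + (d + c + ψ w) • b := fun c d w => by
      simp only [map_add, map_smul, hva, hvb, hua, hub, hu.2 w, hv.2 w]
      module
    have h0 := hstep 0 0 w
    simp only [zero_smul, add_zero] at h0
    rw [h0, hstep, hstep]
    generalize φ w = A
    generalize ψ w = B
    rcases zmod_two_cases A with rfl | rfl <;> rcases zmod_two_cases B with rfl | rfl <;>
      simp [show ((1 : ZMod 2) + 1) = 0 from rfl]

end

theorem eq_one_of_pow {G : Type*} [Monoid G] {g : G} {m n : ℕ} (h1 : g ^ m = 1) (h2 : g ^ n = 1) (h : m.Coprime n) :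
    g = 1 := by
  have := pow_gcd_eq_one.2 ⟨h1, h2⟩
  rwa [h, pow_one] at this


/-- Let V be a finite-dimensional vector space over the field with two elements and S a solvable group of linear automorphisms of V with O₂(S) = 1. If P ∈ S has order 4 and (P − 1)³ = 0 on V, then the image of (P − 1)² has at least 4 elements; equivalently, in the decomposition of V into indecomposable modules for the cyclic group generated by P, at least two summands have dimension 3. -/
theorem result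
    {V : Type*} [AddCommGroup V] [Module (ZMod 2) V] [Finite V]
    (S : Subgroup (V ≃ₗ[ZMod 2] V)) (hS : Group.IsSolvable ↥S) (hO2 : Cfsg.pCore 2 ↥S = ⊥)
    (P : V ≃ₗ[ZMod 2] V) (hPS : P ∈ S) (hP4 : orderOf P = 4)
    (hcub : ((P : V →ₗ[ZMod 2] V) - LinearMap.id) ^ 3 = 0) :
    4 ≤ Nat.card ↥(LinearMap.range (((P : V →ₗ[ZMod 2] V) - LinearMap.id) ^ 2)) := by

  classical
  haveI := Fact.mk Nat.prime_two
  by_contra hlt
  push Not at hlt
  haveI := hS
  haveI : Finite (V ≃ₗ[ZMod 2] V) := Finite.of_injective (fun g => (g : V → V)) DFunLike.coe_injective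
  haveI : Finite S := inferInstance
  -- `P ^ 2` is a transvection
  let N : V →ₗ[ZMod 2] V := (P : V →ₗ[ZMod 2] V) - LinearMap.id
  let t := P * P
  have hN : ∀ w, N w = P w - w := fun w => rfl
  have ht : ∀ w, t w = w + (N ^ 2) w := fun w => by
    show P (P w) = w + (N ^ 2) w
    rw [pow_two, Module.End.mul_apply, hN, hN, map_sub]
    have h2 := add_self_zero (P w)
    calc P (P w) = P (P w) - (P w + P w) + (w + w) := by rw [h2, add_self_zero, sub_zero, add_zero]
      _ = _ := by abel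
  have htne : t ≠ 1 := fun e => by
    have h1 : P ^ 2 = 1 := by rw [pow_two]; exact e
    have := orderOf_dvd_of_pow_eq_one h1
    rw [hP4] at this
    norm_num at this
  have ht2 : t * t = 1 := by
    show P * P * (P * P) = 1
    rw [← pow_two, ← pow_two, ← pow_mul, show 2 * 2 = orderOf P by rw [hP4], pow_orderOf_eq_one]
  obtain ⟨a, ha0, hrange⟩ : ∃ a : V, a ≠ 0 ∧ ∀ w, (N ^ 2) w = 0 ∨ (N ^ 2) w = a := by
    obtain ⟨w₀, hw₀⟩ : ∃ w, (N ^ 2) w ≠ 0 := by
      by_contra h
      push Not at h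
      exact htne (LinearEquiv.ext fun w => by rw [ht, h w, add_zero]; rfl)
    refine ⟨_, hw₀, fun w => ?_⟩
    by_contra hne
    push Not at hne
    let R := LinearMap.range (N ^ 2)
    have := Fintype.ofFinite R
    have h2 : ∀ x : R, x + x = 0 := fun x => Subtype.ext (add_self_zero (x : V))
    let x : R := ⟨_, LinearMap.mem_range_self _ w₀⟩
    let y : R := ⟨_, LinearMap.mem_range_self _ w⟩
    have hc : ({0, x, y, x + y} : Finset R).card = 4 := by
      have hx : x ≠ 0 := fun e => hw₀ (congrArg Subtype.val e)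
      have hy : y ≠ 0 := fun e => hne.1 (congrArg Subtype.val e)
      have hxy : x ≠ y := fun e => hne.2 (congrArg Subtype.val e).symm
      have h3 : x + y ≠ 0 := fun e => hxy (add_right_cancel (b := y) (by rw [e, h2]))
      simp [Ne.symm hx, Ne.symm hy, Ne.symm h3, hxy, hx, hy]
    have h4 := Finset.card_le_univ ({0, x, y, x + y} : Finset R)
    rw [hc, ← Nat.card_eq_fintype_card] at h4
    exact absurd h4 (not_le.2 hlt)
  obtain ⟨f, hf⟩ : ∃ f : V →ₗ[ZMod 2] ZMod 2, f a = 1 := by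
    by_contra h
    push Not at h
    exact ha0 ((Module.forall_dual_apply_eq_zero_iff (ZMod 2) a).1 fun f => (zmod_two_cases (f a)).resolve_right (h f))
  let φ := f.comp (N ^ 2)
  have hNφ : ∀ w, (N ^ 2) w = φ w • a := fun w => by
    show (N ^ 2) w = f ((N ^ 2) w) • a
    rcases hrange w with e | e <;> rw [e]
    · rw [map_zero, zero_smul]
    · rw [hf, one_smul]
  have hφa : φ a = 0 := by
    rcases zmod_two_cases (φ a) with e | e
    · exact e
    exfalso
    have h1 : (N ^ 2) a = a := by rw [hNφ, e, one_smul]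
    have h4 : (N ^ 3) (N a) = 0 := by rw [hcub, LinearMap.zero_apply]
    rw [← Module.End.mul_apply, ← pow_succ, show 3 + 1 = 2 + 2 from rfl, pow_add, Module.End.mul_apply, h1, h1] at h4
    exact ha0 h4
  have htv : IsTv t a φ := ⟨hφa, fun w => by rw [ht, hNφ]⟩
  -- a core of odd order which `t` does not centralise
  let T : S := ⟨t, S.mul_mem hPS hPS⟩
  obtain ⟨q, hq, x, hx, hxt⟩ : ∃ q : ℕ, q.Prime ∧ ∃ x ∈ Cfsg.pCore q S, x * T ≠ T * x := by
    by_contra h
    push Not at h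
    have hTF : T ∈ Subgroup.centralizer (Cfsg.fittingSubgroup S : Set S) := by
      refine Subgroup.mem_centralizer_iff.2 fun g hg => ?_
      have hle : Cfsg.fittingSubgroup S ≤ Subgroup.centralizer ({T} : Set S) := by
        rw [Grp.fittingSubgroup_eq_iSup_pCore]
        exact iSup_le fun q => fun y hy => Subgroup.mem_centralizer_singleton_iff.2 (h q q.2 y hy)
      exact Subgroup.mem_centralizer_singleton_iff.1 (hle hg)
    have hTF' : T ∈ Cfsg.fittingSubgroup S := Grp.centralizer_fittingSubgroup_le hTF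
    haveI := Grp.fittingSubgroup_isNilpotent (G := S)
    haveI := Grp.fittingSubgroup_isNormal (G := S)
    obtain ⟨Q, hQ⟩ := (IsPGroup.of_card (n := 1) (show Nat.card (Subgroup.zpowers (⟨T, hTF'⟩ : Cfsg.fittingSubgroup S)) = 2 ^ 1 by
      rw [Nat.card_zpowers, pow_one]
      exact orderOf_eq_prime (Subtype.ext (Subtype.ext (by rw [pow_two]; exact ht2)))
        (fun e => htne (congrArg (fun z : Cfsg.fittingSubgroup S => ((z : S) : V ≃ₗ[ZMod 2] V)) e)))).exists_le_sylow
    haveI : (Q : Subgroup (Cfsg.fittingSubgroup S)).Normal :=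
      Sylow.normal_of_normalizerCondition Group.normalizerCondition_of_isNilpotent Q
    haveI : (Q : Subgroup (Cfsg.fittingSubgroup S)).Characteristic := Sylow.characteristic_of_normal Q inferInstance
    have hle := Grp.le_pCore (inferInstance : ((Q : Subgroup (Cfsg.fittingSubgroup S)).map (Cfsg.fittingSubgroup S).subtype).Normal)
      (Q.isPGroup'.map _)
    rw [hO2] at hle
    have : T = 1 := Subgroup.mem_bot.1 (hle ⟨_, hQ (Subgroup.mem_zpowers _), rfl⟩)
    exact htne (congrArg Subtype.val this)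
  have hq2 : q ≠ 2 := by
    rintro rfl
    rw [hO2, Subgroup.mem_bot] at hx
    exact hxt (by rw [hx, one_mul, mul_one])
  haveI := Fact.mk hq
  haveI hcn : (Cfsg.pCore q S).Normal := Grp.pCore_isNormal
  -- products of transvections in the core
  have hodd : ∀ {g : S}, g ∈ Cfsg.pCore q S → (g : V ≃ₗ[ZMod 2] V) ^ 4 = 1 → g = 1 := by
    intro g hg h4
    obtain ⟨k, hk⟩ := (Grp.pCore_isPGroup (p := q) (G := S)) ⟨g, hg⟩
    exact eq_one_of_pow (m := 4) (Subtype.ext h4) (congrArg Subtype.val hk : g ^ q ^ k = 1)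
      (Nat.Coprime.pow_right k ((Nat.coprime_comm.1 (hq.coprime_iff_not_dvd.2 fun hd => hq2 ((Nat.prime_dvd_prime_iff_eq hq Nat.prime_two).1 (hq.dvd_of_dvd_pow (show q ∣ 2 ^ 2 from hd)))))))
  have key : ∀ z : S, z ∈ Cfsg.pCore q S → z * T * z⁻¹ * T ∈ Cfsg.pCore q S := fun z hz => by
    have h1 : T * z⁻¹ * T⁻¹ ∈ Cfsg.pCore q S := hcn.conj_mem _ (inv_mem hz) T
    have hTi : T⁻¹ = T := inv_eq_of_mul_eq_one_right (Subtype.ext ht2)
    rw [hTi] at h1
    simpa [mul_assoc] using mul_mem hz h1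
  let c : S → S := fun z => z * T * z⁻¹ * T
  have hTi : T⁻¹ = T := inv_eq_of_mul_eq_one_right (Subtype.ext ht2)
  have hcne : ∀ z : S, z * T ≠ T * z → c z ≠ 1 := fun z h e => h (by
    have h1 : z * T * z⁻¹ = T⁻¹ := eq_inv_of_mul_eq_one_left e
    rw [hTi] at h1
    exact mul_inv_eq_iff_eq_mul.1 h1)
  -- two nontrivial such products are equal or inverse
  have huniq : ∀ z₁ z₂ : S, z₁ ∈ Cfsg.pCore q S → z₂ ∈ Cfsg.pCore q S → c z₁ ≠ 1 → c z₂ ≠ 1 →
      c z₂ = c z₁ ∨ c z₂ = (c z₁)⁻¹ := by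
    intro z₁ z₂ h₁ h₂ n₁ n₂
    have tv₁ := htv.conj (z₁ : V ≃ₗ[ZMod 2] V)
    have tv₂ := htv.conj (z₂ : V ≃ₗ[ZMod 2] V)
    obtain ⟨e₁, f₁, -⟩ := (mul_cases tv₁ htv).resolve_left fun h => n₁ (hodd (key z₁ h₁) h)
    obtain ⟨e₂, f₂, -⟩ := (mul_cases tv₂ htv).resolve_left fun h => n₂ (hodd (key z₂ h₂) h)
    have hmem : z₁ * T * z₁⁻¹ * (z₂ * T * z₂⁻¹) ∈ Cfsg.pCore q S := by
      have := mul_mem (key z₁ h₁) (inv_mem (key z₂ h₂))
      rw [show z₁ * T * z₁⁻¹ * T * (z₂ * T * z₂⁻¹ * T)⁻¹ = z₁ * T * z₁⁻¹ * (z₂ * T⁻¹ * z₂⁻¹) by group, hTi] at this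
      exact this
    by_cases heq : z₁ * T * z₁⁻¹ * (z₂ * T * z₂⁻¹) = 1
    · left
      have h' : z₂ * T * z₂⁻¹ = (z₁ * T * z₁⁻¹)⁻¹ := eq_inv_of_mul_eq_one_right heq
      show z₂ * T * z₂⁻¹ * T = z₁ * T * z₁⁻¹ * T
      rw [h', show (z₁ * T * z₁⁻¹)⁻¹ = z₁ * T⁻¹ * z₁⁻¹ by group, hTi]
    right
    obtain ⟨g₁, g₂, -⟩ := (mul_cases tv₁ tv₂).resolve_left fun h => heq (hodd hmem h)
    have tv₁' := tv₁.conj t
    have hTT : T * T = 1 := Subtype.ext ht2
    have hmem' : T * (z₁ * T * z₁⁻¹) * T⁻¹ * (z₂ * T * z₂⁻¹) ∈ Cfsg.pCore q S := by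
      have := mul_mem (hcn.conj_mem _ (key z₁ h₁) T) (hcn.conj_mem _ (key z₂ h₂) T)
      rw [show T * (z₁ * T * z₁⁻¹ * T) * T⁻¹ * (T * (z₂ * T * z₂⁻¹ * T) * T⁻¹) =
        T * (z₁ * T * z₁⁻¹) * T * (z₂ * T * z₂⁻¹) by group] at this
      rw [hTi]; exact this
    have hone : T * (z₁ * T * z₁⁻¹) * T⁻¹ * (z₂ * T * z₂⁻¹) = 1 := by
      by_contra hne
      obtain ⟨r₁, -, -⟩ := (mul_cases tv₁' tv₂).resolve_left fun h => hne (hodd hmem' h)
      -- the cross term vanishes
      have hsym : t.symm = t := by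
        have : t⁻¹ = t := inv_eq_of_mul_eq_one_right ht2
        exact this
      simp only [LinearMap.comp_apply, LinearEquiv.coe_coe] at r₁ e₁ e₂ f₁ f₂ g₁ g₂ ⊢
      rw [htv.2, map_add, map_smul, map_add, map_smul] at r₁
      rw [smul_eq_mul, e₁, one_mul, g₁, f₂] at r₁
      exact zero_ne_one ((show (0 : ZMod 2) = 1 + 1 from rfl).trans r₁)
    show z₂ * T * z₂⁻¹ * T = (z₁ * T * z₁⁻¹ * T)⁻¹
    rw [eq_inv_of_mul_eq_one_right hone]
    simp only [mul_inv_rev, inv_inv, hTi, mul_assoc, hTT, mul_one]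
  have hc0 : c x ≠ 1 := hcne x hxt
  let π : S := ⟨P, hPS⟩
  have hπT : π * T = T * π := Subtype.ext (show P * (P * P) = P * P * P by rw [mul_assoc])
  have hconj : π * c x * π⁻¹ = c (π * x * π⁻¹) := by
    have hT' : π⁻¹ * T = T * π⁻¹ := (Commute.inv_left (show Commute π T from hπT)).eq
    show π * (x * T * x⁻¹ * T) * π⁻¹ = π * x * π⁻¹ * T * (π * x * π⁻¹)⁻¹ * T
    rw [show π * x * π⁻¹ * T * (π * x * π⁻¹)⁻¹ * T = π * x * (π⁻¹ * T * π) * x⁻¹ * (π⁻¹ * T) by group, hT',
      mul_assoc T π⁻¹ π, inv_mul_cancel, mul_one]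
    simp only [mul_assoc]
  have hcase := huniq x (π * x * π⁻¹) hx (hcn.conj_mem x hx π) hc0
    (hconj ▸ fun e => hc0 (conj_eq_one_iff.1 e))
  rw [← hconj] at hcase
  have hfix : T * c x * T⁻¹ = c x := by
    have hTp : T = π * π := rfl
    rw [hTp, mul_inv_rev, show π * π * c x * (π⁻¹ * π⁻¹) = π * (π * c x * π⁻¹) * π⁻¹ by group]
    rcases hcase with e | e
    · rw [e, e]
    · rw [e, show π * (c x)⁻¹ * π⁻¹ = (π * c x * π⁻¹)⁻¹ by group, e, inv_inv]
  have hinv : T * c x * T⁻¹ = (c x)⁻¹ := by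
    show T * (x * T * x⁻¹ * T) * T⁻¹ = (x * T * x⁻¹ * T)⁻¹
    simp only [mul_inv_rev, inv_inv, hTi, mul_assoc, show T * T = 1 from Subtype.ext ht2, mul_one]
  refine hc0 (hodd (key x hx) ?_)
  have h2 : c x * c x = 1 := mul_eq_one_iff_eq_inv.2 (hfix.symm.trans hinv)
  rw [← SubmonoidClass.coe_pow, show (4 : ℕ) = 2 + 2 from rfl, pow_add, pow_two, h2, one_mul]
  rfl

end Cfsg.Agent.S4410
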