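import Cfsg.Statements.S4411
import Cfsg.Agent.Lib.Transfer.CharAutomizer
import Cfsg.Agent.Lib.Fus.ResidualSeries
import Cfsg.Agent.Lib.Grp.SchurZassenhaus

set_option maxHeartbeats 1000000
set_option maxRecDepth 8000

set_option autoImplicit false
open Cfsg

namespace Cfsg.Agent.S4411

open Cfsg.Agent Cfsg.Agent.Transfer Cfsg.Agent.Transfer.CharAutomizer Subgroup
open scoped Pointwise

section
universe u
variable {G : Type u} [Group G] [Finite G] {p q : ℕ} [hp : Fact p.Prime] [hq : Fact q.Prime]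

theorem psolvable_of_pGroup {K : Type u} [Group K] [Finite K] (h : IsPGroup p K) : Cfsg.IsPSolvable p K := by
  obtain ⟨k, hk⟩ := IsPGroup.iff_card.1 h
  refine ⟨1, ![⊥, ⊤], rfl, rfl, Fin.monotone_iff_le_succ.2 fun i => ?_, fun i => ?_, fun i => Or.inl ⟨k, ?_⟩⟩
  · fin_cases i; exact bot_le
  · fin_cases i
    · exact (inferInstance : (⊥ : Subgroup K).Normal)
    · exact (inferInstance : (⊤ : Subgroup K).Normal)
  · fin_cases i
    show (⊥ : Subgroup K).relIndex ⊤ = p ^ k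
    rw [Subgroup.relIndex_bot_left, Subgroup.card_top, hk]

theorem psolvable_of_coprime {K : Type u} [Group K] [Finite K] (h : (Nat.card K).Coprime p) :
    Cfsg.IsPSolvable p K := by
  refine ⟨1, ![⊥, ⊤], rfl, rfl, Fin.monotone_iff_le_succ.2 fun i => ?_, fun i => ?_, fun i => Or.inr ?_⟩
  · fin_cases i; exact bot_le
  · fin_cases i
    · exact (inferInstance : (⊥ : Subgroup K).Normal)
    · exact (inferInstance : (⊤ : Subgroup K).Normal)
  · fin_cases i
    show ((⊥ : Subgroup K).relIndex ⊤).Coprime p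
    rwa [Subgroup.relIndex_bot_left, Subgroup.card_top]

/-- A group with a central Sylow subgroup is `p`-solvable. -/
theorem psolvable_of_central {K : Type u} [Group K] [Finite K] (P : Sylow p K)
    (hP : ∀ x ∈ (P : Subgroup K), ∀ y : K, y * x = x * y) : Cfsg.IsPSolvable p K := by
  have hP' : Subgroup.normalizer ((P : Subgroup K) : Set K) ≤ Subgroup.centralizer ((P : Subgroup K) : Set K) :=
    fun y _ => Subgroup.mem_centralizer_iff.2 fun x hx => (hP x hx y).symm
  set N := (MonoidHom.transferSylow P hP').ker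
  have hN : IsComplement' N (P : Subgroup K) := MonoidHom.ker_transferSylow_isComplement' P hP'
  refine Fus.ResSeries.isPSolvable_extension _ K le_rfl N
    (psolvable_of_coprime ((hp.out.coprime_iff_not_dvd.2 (MonoidHom.not_dvd_card_ker_transferSylow P hP')).symm))
    (psolvable_of_pGroup ?_)
  obtain ⟨k, hk⟩ := IsPGroup.iff_card.1 P.isPGroup'
  exact IsPGroup.of_card (n := k) (by rw [← Subgroup.index_eq_card, hN.symm.index_eq_card, hk])

theorem cent_normal {K : Type u} [Group K] {H N : Subgroup K} (hN : N ≤ normalizer (H : Set K)) :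
    ((centralizer (H : Set K)).subgroupOf N).Normal := ⟨fun c hc g => mem_centralizer_iff.2 fun h hh => by
  have h1 : ((g : K)⁻¹ * h * g) * (c : K) = (c : K) * ((g : K)⁻¹ * h * g) :=
    mem_centralizer_iff.1 (hc : (c : K) ∈ centralizer (H : Set K)) _ (by
      have := (mem_normalizer_iff.1 (inv_mem (hN g.2)) h).1 hh
      rwa [inv_inv] at this)
  show h * ((g : K) * c * (g : K)⁻¹) = (g : K) * c * (g : K)⁻¹ * h
  calc h * ((g : K) * c * (g : K)⁻¹) = g * (((g : K)⁻¹ * h * g) * c) * (g : K)⁻¹ := by group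
    _ = (g : K) * c * (g : K)⁻¹ * h := by rw [h1]; group⟩

theorem dvd_index_iff (H : Subgroup G) :
    q ∣ ((centralizer (H : Set G)).subgroupOf (normalizer (H : Set G))).index ↔
      ∃ g ∈ normalizer (H : Set G), g ∉ centralizer (H : Set G) ∧ ∃ n : ℕ, orderOf g = q ^ n := by
  set N := normalizer (H : Set G)
  set C := (centralizer (H : Set G)).subgroupOf N with hC
  haveI : C.Normal := cent_normal le_rfl
  constructor
  · intro h
    rw [Subgroup.index_eq_card] at h
    obtain ⟨x, hx⟩ := exists_prime_orderOf_dvd_card' (G := N ⧸ C) q h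
    obtain ⟨g, rfl⟩ := QuotientGroup.mk'_surjective C x
    obtain ⟨k, hk, m, hm⟩ := exists_qpart (QuotientGroup.mk' C) g (n := 1) (by rw [hx, pow_one])
    refine ⟨(g ^ k : N), (g ^ k).2, fun hc => hq.out.ne_one ?_, m, by rw [Subgroup.orderOf_coe, hm]⟩
    rw [← hx, ← hk, orderOf_eq_one_iff]
    exact (QuotientGroup.eq_one_iff _).2 hc
  · rintro ⟨g, hgN, hgC, n, hn⟩
    rw [Subgroup.index_eq_card]
    have h1 : orderOf (QuotientGroup.mk' C ⟨g, hgN⟩) ∣ q ^ n :=
      hn ▸ Subgroup.orderOf_coe (⟨g, hgN⟩ : N) ▸ orderOf_map_dvd (QuotientGroup.mk' C) ⟨g, hgN⟩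
    obtain ⟨i, -, hi⟩ := (Nat.dvd_prime_pow hq.out).1 h1
    refine dvd_trans (dvd_pow_self q fun e => hgC ?_) (hi ▸ _root_.orderOf_dvd_natCard _)
    rw [e, pow_zero, orderOf_eq_one_iff] at hi
    exact ((QuotientGroup.eq_one_iff (N := C) (⟨g, hgN⟩ : N)).1 hi : (⟨g, hgN⟩ : N) ∈ C)

theorem detects_conj {H : Subgroup G} (g : G)
    (h : ∃ a ∈ normalizer (H : Set G), a ∉ centralizer (H : Set G) ∧ ∃ n : ℕ, orderOf a = q ^ n) :
    ∃ a ∈ normalizer ((MulAut.conj g • H : Subgroup G) : Set G),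
      a ∉ centralizer ((MulAut.conj g • H : Subgroup G) : Set G) ∧ ∃ n : ℕ, orderOf a = q ^ n := by
  obtain ⟨a, ha, hac, n, hn⟩ := h
  refine ⟨g * a * g⁻¹, Subgroup.mem_normalizer_fintype ?_, fun hc => hac (mem_centralizer_iff.2 fun x hx => ?_), n, ?_⟩
  · rintro _ ⟨x, hx, rfl⟩
    refine ⟨a * x * a⁻¹, (mem_normalizer_iff.1 ha x).1 hx, ?_⟩
    show g * (a * x * a⁻¹) * g⁻¹ = g * a * g⁻¹ * (g * x * g⁻¹) * (g * a * g⁻¹)⁻¹
    group
  · have h1 := mem_centralizer_iff.1 hc (g * x * g⁻¹) ⟨x, hx, rfl⟩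
    calc x * a = g⁻¹ * (g * x * g⁻¹ * (g * a * g⁻¹)) * g := by group
      _ = a * x := by rw [h1]; group
  · rw [← hn]
    exact MulEquiv.orderOf_eq (MulAut.conj g) a

theorem key (h23 : ¬ ((p = 2 ∧ q = 3) ∨ (p = 3 ∧ q = 2))) (hpq : p ≠ q)
    (hsol : ∀ H : Subgroup G, IsPGroup p ↥H →
      Cfsg.IsPSolvable p (↥(normalizer (H : Set G)) ⧸ (centralizer (H : Set G)).subgroupOf (normalizer (H : Set G))))
    {H : Subgroup G} (hH : IsPGroup p H) (hHd : ∃ a ∈ normalizer (H : Set G), a ∉ centralizer (H : Set G) ∧ ∃ n : ℕ, orderOf a = q ^ n)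
    {T : Subgroup G} (hTN : T ≤ normalizer (H : Set G)) (hHT : H ≤ T) (hT : IsPGroup p T)
    (hTs : ¬ p ∣ T.relIndex (normalizer (H : Set G))) :
    ∃ K : Subgroup G, K ≤ T ∧ normalizer (T : Set G) ≤ normalizer (K : Set G) ∧
      ∃ a ∈ normalizer (K : Set G), a ∉ centralizer (K : Set G) ∧ ∃ n : ℕ, orderOf a = q ^ n := by
  set N := normalizer (H : Set G) with hN
  set C := (centralizer (H : Set G)).subgroupOf N with hC
  haveI hCn : C.Normal := cent_normal le_rfl
  set TN : Sylow p N := (hT.comap_subtype (K := N)).toSylow hTs with hTNd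
  set T0' := (TN : Subgroup N) ⊓ C with hT0'
  have hT0i : ¬ p ∣ T0'.relIndex C := by
    rw [hT0', Subgroup.inf_relIndex_right]
    exact Grp.sylow_inf_normal_relIndex TN C
  set P0 : Sylow p C := ((TN.isPGroup'.to_le (inf_le_left : T0' ≤ _)).comap_subtype (K := C)).toSylow hT0i with hP0
  have hfr := Sylow.normalizer_sup_eq_top P0
  rw [show ((P0 : Subgroup C).map C.subtype : Subgroup N) = T0' from by
    show (T0'.subgroupOf C).map C.subtype = T0'
    rw [Subgroup.subgroupOf_map_subtype]; exact inf_eq_left.2 inf_le_right] at hfr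
  set T0 := T ⊓ centralizer (H : Set G) with hT0
  set N2 := N ⊓ normalizer (T0 : Set G) with hN2
  have hTN2 : T ≤ N2 := le_inf hTN fun t ht => Subgroup.mem_normalizer_fintype fun x hx =>
    ⟨T.mul_mem (T.mul_mem ht hx.1) (T.inv_mem ht), mem_centralizer_iff.2 fun h hh => by
      have h1 := mem_centralizer_iff.1 hx.2 (t⁻¹ * h * t) (by
        have := (mem_normalizer_iff.1 (inv_mem (hTN ht)) h).1 hh
        rwa [inv_inv] at this)
      calc h * (t * x * t⁻¹) = t * ((t⁻¹ * h * t) * x) * t⁻¹ := by group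
        _ = t * x * t⁻¹ * h := by rw [h1]; group⟩
  -- a `q`-element of `N₂` not centralising `H`
  obtain ⟨y, hy, hyH, hyq⟩ : ∃ y ∈ N2, y ∉ centralizer (H : Set G) ∧ ∃ n : ℕ, orderOf y = q ^ n := by
    obtain ⟨a, ha, hac, n, hn⟩ := hHd
    have hmem : (⟨a, ha⟩ : N) ∈ normalizer (T0' : Set N) ⊔ C := hfr.ge (mem_top _)
    rw [← SetLike.mem_coe, Subgroup.coe_mul_of_left_le_normalizer_right _ _ (fun x _ => Subgroup.mem_normalizer_fintype fun y hy => hCn.conj_mem y hy x)] at hmem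
    obtain ⟨m, hm, c, hc, hmc⟩ := hmem
    have hmN2 : (m : G) ∈ N2 := ⟨m.2, Subgroup.mem_normalizer_fintype fun x hx => by
      have := (mem_normalizer_iff.1 hm ⟨x, hTN hx.1⟩).1 ⟨hx.1, hx.2⟩
      exact ⟨this.1, this.2⟩⟩
    have h1 : QuotientGroup.mk' C m = QuotientGroup.mk' C ⟨a, ha⟩ := by
      rw [← hmc]
      show QuotientGroup.mk' C m = QuotientGroup.mk' C (m * c)
      rw [map_mul, show QuotientGroup.mk' C c = 1 from (QuotientGroup.eq_one_iff c).2 hc, mul_one]
    obtain ⟨i, -, hi⟩ := (Nat.dvd_prime_pow hq.out).1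
      (((orderOf_map_dvd (QuotientGroup.mk' C) ⟨a, ha⟩).trans (Subgroup.orderOf_mk a ha).dvd).trans hn.dvd)
    obtain ⟨k, hk, j, hj⟩ := exists_qpart (QuotientGroup.mk' C) m (n := i) (by rw [h1]; exact hi)
    refine ⟨(m ^ k : N), ?_, fun hcen => hac ?_, j, by rw [Subgroup.orderOf_coe, hj]⟩
    · rw [SubgroupClass.coe_pow]; exact N2.pow_mem hmN2 k
    · have h2 : QuotientGroup.mk' C ⟨a, ha⟩ = 1 := by
        rw [← h1, ← hk]
        exact (QuotientGroup.eq_one_iff _).2 hcen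
      exact ((QuotientGroup.eq_one_iff (N := C) (⟨a, ha⟩ : N)).1 h2 : (⟨a, ha⟩ : N) ∈ C)
  -- the group `N₂` is `p`-solvable
  set R := H ⊔ T0 with hR
  have hRT : R ≤ T := sup_le hHT inf_le_left
  have hR2 : N2 ≤ normalizer (R : Set G) := fun g hg => Grp.mem_normalizer_iff_smul.2 (by
    rw [hR, Subgroup.smul_sup, Grp.mem_normalizer_iff_smul.1 hg.1, Grp.mem_normalizer_iff_smul.1 hg.2])
  set T2 : Sylow p N2 := ((hT.comap_subtype (K := N2)).toSylow (by
    show ¬ p ∣ T.relIndex N2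
    exact fun hd => hTs (hd.trans (Dvd.intro _ (Subgroup.relIndex_mul_relIndex T N2 N hTN2 inf_le_left)))))
    with hT2
  set D := (centralizer (R : Set G)).subgroupOf N2 with hD
  haveI : D.Normal := cent_normal hR2
  have hps : Cfsg.IsPSolvable p N2 := by
    refine Fus.ResSeries.isPSolvable_extension _ _ le_rfl D ?_ ?_
    · have hTD : IsPGroup p (((T2 : Subgroup N2) ⊓ D).subgroupOf D) :=
        (T2.isPGroup'.to_le inf_le_left).comap_subtype
      refine psolvable_of_central (hTD.toSylow (by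
        show ¬ p ∣ ((T2 : Subgroup N2) ⊓ D).relIndex D
        rw [Subgroup.inf_relIndex_right]
        exact Grp.sylow_inf_normal_relIndex T2 D)) ?_
      intro x hx y
      refine Subtype.ext (Subtype.ext ?_)
      obtain ⟨hx1, hx2⟩ := (hx : (x : N2) ∈ (T2 : Subgroup N2) ⊓ D)
      have hxR : ((x : N2) : G) ∈ R := mem_sup_right ⟨hx1, mem_centralizer_iff.2 fun h hh =>
        mem_centralizer_iff.1 (hx2 : ((x : N2) : G) ∈ centralizer (R : Set G)) h (mem_sup_left hh)⟩
      exact (mem_centralizer_iff.1 (y.2 : ((y : N2) : G) ∈ centralizer (R : Set G)) _ hxR).symm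
    · set NR := normalizer (R : Set G)
      set DR := (centralizer (R : Set G)).subgroupOf NR
      haveI : DR.Normal := cent_normal le_rfl
      set f : N2 →* NR ⧸ DR := (QuotientGroup.mk' DR).comp (Subgroup.inclusion hR2) with hf
      have hker : f.ker = D := by
        ext x
        rw [MonoidHom.mem_ker]
        exact QuotientGroup.eq_one_iff _
      exact Grp.isPSolvable_map (psolvable_subgroup (hsol R (hT.to_le hRT)) f.range)
        ((QuotientGroup.quotientKerEquivRange f).symm.trans (QuotientGroup.quotientMulEquivOfEq hker)).toMonoidHom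
        (MulEquiv.surjective _)
  -- divide by the `p'`-core
  set O := Cfsg.pPrimeCore p N2 with hO
  haveI : O.Normal := Grp.pPrimeCore_isNormal
  set π := QuotientGroup.mk' O with hπ
  have hOcop : (Nat.card O).Coprime p := Grp.pPrimeCore_coprime
  haveI : (R.subgroupOf N2).Normal := (normal_subgroupOf_iff_le_normalizer (hRT.trans hTN2)).2 hR2
  have hdisj : ∀ {P : Subgroup N2}, IsPGroup p P → O ⊓ P = ⊥ := fun hP => by
    obtain ⟨k, hk⟩ := IsPGroup.iff_card.1 hP
    exact Subgroup.card_eq_one.1 (Nat.eq_one_of_dvd_coprimes (hOcop.pow_right k)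
      (card_dvd_of_le inf_le_left) (hk ▸ card_dvd_of_le inf_le_right))
  have hOR : ∀ o ∈ O, (o : G) ∈ centralizer (H : Set G) := fun o ho => mem_centralizer_iff.2 fun h hh => by
    have h1 := Subgroup.commute_of_normal_of_disjoint O (R.subgroupOf N2) inferInstance inferInstance
      (disjoint_iff.2 (hdisj ((hT.to_le hRT).comap_subtype (K := N2)))) o ⟨h, hTN2 (hHT hh)⟩ ho
      (show h ∈ R from mem_sup_left hh)
    exact (congrArg Subtype.val h1.eq).symm
  have hqX : q ∣ Nat.card (N2 ⧸ O) := by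
    obtain ⟨n, hn⟩ := hyq
    obtain ⟨i, -, hi⟩ := (Nat.dvd_prime_pow hq.out).1
      (((orderOf_map_dvd π ⟨y, hy⟩).trans (Subgroup.orderOf_mk y hy).dvd).trans hn.dvd)
    refine dvd_trans (dvd_pow_self q fun e => hyH ?_) (hi ▸ _root_.orderOf_dvd_natCard _)
    rw [e, pow_zero, orderOf_eq_one_iff] at hi
    exact hOR _ ((QuotientGroup.eq_one_iff _).1 hi)
  obtain ⟨Kb, hKb, gb, hgN, hgC, n, hn⟩ := CharAutomizer.detects (p := p) (q := q) hpq h23 _ (N2 ⧸ O) le_rfl
    (Grp.isPSolvable_map hps π (QuotientGroup.mk'_surjective O))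
    (Grp.centralizer_pCore_le_of_pSolvable (Grp.isPSolvable_map hps π (QuotientGroup.mk'_surjective O))
      Grp.pPrimeCore_quotient_eq_bot) hqX (T2.mapSurjective (f := π) (QuotientGroup.mk'_surjective O))
  change CharIn ((T2 : Subgroup N2).map π) Kb at hKb
  set K' := Kb.comap π ⊓ (T2 : Subgroup N2) with hK'
  have hK'map : K'.map π = Kb := by
    refine le_antisymm (map_le_iff_le_comap.2 inf_le_left) fun z hz => ?_
    obtain ⟨t, ht, rfl⟩ := hKb.1 hz
    exact ⟨t, ⟨hz, ht⟩, rfl⟩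
  have hcm : Kb.comap π = K' ⊔ O := by rw [← hK'map, comap_map_eq, QuotientGroup.ker_mk']
  -- `K'` is characteristic in `T₂`
  have hchar : CharIn (T2 : Subgroup N2) K' := by
    refine ⟨inf_le_right, fun e x hx => ⟨?_, (e x).2⟩⟩
    set f : (T2 : Subgroup N2) →* (T2 : Subgroup N2).map π := π.subgroupMap _
    have hinj : Function.Injective f := (injective_iff_map_eq_one f).2 fun t ht => Subtype.ext (by
      have h1 : (t : N2) ∈ O ⊓ (T2 : Subgroup N2) := ⟨(QuotientGroup.eq_one_iff _).1 (congrArg Subtype.val ht), t.2⟩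
      rw [hdisj T2.isPGroup', mem_bot] at h1
      exact h1)
    let ι : (T2 : Subgroup N2) ≃* (T2 : Subgroup N2).map π :=
      MulEquiv.ofBijective f ⟨hinj, π.subgroupMap_surjective _⟩
    have h1 := hKb.2 (ι.symm.trans (e.trans ι)) (ι x) hx.1
    simp only [MulEquiv.trans_apply, MulEquiv.symm_apply_apply] at h1
    exact h1
  -- lift the element
  obtain ⟨g₀, rfl⟩ := QuotientGroup.mk'_surjective O gb
  set L := Kb.comap π with hL
  have hK'p : IsPGroup p (K'.subgroupOf L) := (T2.isPGroup'.to_le inf_le_right).comap_subtype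
  have hK'i : ¬ p ∣ (K'.subgroupOf L).index := by
    show ¬ p ∣ K'.relIndex L
    have e1 : O.relIndex (K' ⊔ O) = Nat.card K' := by
      rw [Subgroup.relIndex_sup_right, ← Subgroup.inf_relIndex_right, hdisj (T2.isPGroup'.to_le inf_le_right),
        Subgroup.relIndex_bot_left]
    have e2 := Subgroup.relIndex_mul_relIndex ⊥ O (K' ⊔ O) bot_le le_sup_right
    have e3 := Subgroup.relIndex_mul_relIndex ⊥ K' (K' ⊔ O) bot_le le_sup_left
    simp only [Subgroup.relIndex_bot_left] at e2 e3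
    rw [← e2, e1, mul_comm (Nat.card O)] at e3
    rw [hcm, Nat.eq_of_mul_eq_mul_left Nat.card_pos e3]
    exact fun hd => hp.out.ne_one (Nat.eq_one_of_dvd_coprimes hOcop hd dvd_rfl)
  set P' : Sylow p L := hK'p.toSylow hK'i
  set MN := normalizer (L : Set N2) with hMN
  have hg0 : g₀ ∈ MN := Subgroup.mem_normalizer_fintype fun x hx => by
    show π (g₀ * x * g₀⁻¹) ∈ Kb
    rw [map_mul, map_mul, map_inv]
    exact (mem_normalizer_iff.1 hgN _).1 hx
  haveI : (L.subgroupOf MN).Normal := Subgroup.normal_in_normalizer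
  obtain ⟨l, hl, hlK⟩ : ∃ l ∈ L, l * g₀ ∈ normalizer (K' : Set N2) := by
    let e : MulAut L := Subgroup.normalizerMonoidHom L ⟨g₀, hg0⟩
    let P'' : Sylow p L := P'.mapSurjective (f := e.toMonoidHom) e.surjective
    obtain ⟨l, hl⟩ := MulAction.exists_smul_eq L P'' P'
    refine ⟨l, l.2, Subgroup.mem_normalizer_fintype fun x hx => ?_⟩
    have hxL : x ∈ L := hx.1
    have h1 : MulAut.conj l • e ⟨x, hxL⟩ ∈ ((l • P'' : Sylow p L) : Subgroup L) :=
      Subgroup.smul_mem_pointwise_smul _ _ _ ⟨⟨x, hxL⟩, hx, rfl⟩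
    rw [hl] at h1
    have h2 : ((MulAut.conj l • e ⟨x, hxL⟩ : L) : N2) ∈ K' := h1
    have h3 : ((MulAut.conj l • e ⟨x, hxL⟩ : L) : N2) = (l : N2) * g₀ * x * ((l : N2) * g₀)⁻¹ := by
      show (l : N2) * (g₀ * x * g₀⁻¹) * (l : N2)⁻¹ = _
      group
    rwa [h3] at h2
  set g₁ := l * g₀ with hg₁
  -- the image of `g₁` in the automiser has order divisible by `q`
  set A := normalizer (Kb : Set (N2 ⧸ O)) with hA
  have hg₁N : π g₁ ∈ A := by
    rw [hg₁, map_mul]; exact A.mul_mem (le_normalizer (show π l ∈ Kb from hl)) hgN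
  set K := K'.map N2.subtype with hKd
  refine ⟨K, ?_, ?_, (dvd_index_iff K).1 ?_⟩
  · rintro _ ⟨x, hx, rfl⟩
    exact hx.2
  · have hcK : CharIn T K := by
      refine ⟨by rintro _ ⟨x, hx, rfl⟩; exact hx.2, fun e x hx => ?_⟩
      set ι := subgroupOfEquivOfLe hTN2
      obtain ⟨k, hk, hkx⟩ := hx
      have h1 := hchar.2 ((ι.trans e).trans ι.symm) (ι.symm x) (by
        have : ((ι.symm x : T.subgroupOf N2) : N2) = k := Subtype.ext hkx.symm
        rw [this]
        exact hk)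
      refine ⟨_, h1, ?_⟩
      exact congrArg (fun t : T => (e t : G)) (ι.apply_symm_apply x)
    exact hcK.normalizer_le
  · set NK := normalizer (K : Set G)
    set CK := (centralizer (K : Set G)).subgroupOf NK
    haveI : CK.Normal := cent_normal le_rfl
    have hgK : (g₁ : G) ∈ NK := Subgroup.le_normalizer_map N2.subtype ⟨g₁, hlK, rfl⟩
    set m := orderOf (QuotientGroup.mk' CK ⟨(g₁ : G), hgK⟩) with hm
    rw [Subgroup.index_eq_card]
    refine dvd_trans ?_ (_root_.orderOf_dvd_natCard (QuotientGroup.mk' CK ⟨(g₁ : G), hgK⟩))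
    rw [← hm]
    by_contra hqm
    -- `g₁^m` centralises `K`
    have h1 : QuotientGroup.mk' CK ⟨(g₁ : G), hgK⟩ ^ m = 1 := pow_orderOf_eq_one _
    rw [← map_pow] at h1
    have h2 : ((g₁ ^ m : N2) : G) ∈ centralizer (K : Set G) := by
      rw [SubgroupClass.coe_pow]
      exact ((QuotientGroup.eq_one_iff (N := CK) ((⟨(g₁ : G), hgK⟩ : NK) ^ m)).1 h1 : (⟨(g₁ : G), hgK⟩ : NK) ^ m ∈ CK)
    have h3 : π g₁ ^ m ∈ centralizer (Kb : Set (N2 ⧸ O)) := by
      rw [← map_pow, ← hK'map]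
      refine mem_centralizer_iff.2 ?_
      rintro _ ⟨k, hk, rfl⟩
      rw [← map_mul, ← map_mul]
      congr 1
      exact Subtype.ext (mem_centralizer_iff.1 h2 (k : G) ⟨k, hk, rfl⟩)
    haveI : ((centralizer (Kb : Set (N2 ⧸ O))).subgroupOf A).Normal := cent_normal le_rfl
    -- in the automiser of `K̄` the element `g₁` agrees with a `q`-element times one of order a power of `p`
    set ψ := Subgroup.normalizerMonoidHom Kb with hψ
    have hψg : ψ ⟨π g₁, hg₁N⟩ = MulAut.conj (⟨π l, hl⟩ : Kb) * ψ ⟨π g₀, hgN⟩ := MulEquiv.ext fun z => Subtype.ext (by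
      show π g₁ * z * (π g₁)⁻¹ = π l * (π g₀ * z * (π g₀)⁻¹) * (π l)⁻¹
      rw [hg₁, map_mul]; group)
    set I := (MulAut.conj : Kb →* MulAut Kb).range with hI
    haveI : (I.subgroupOf ψ.range ).Normal := by
      refine ⟨fun c hc g => ?_⟩
      obtain ⟨w, hw⟩ := hc
      refine ⟨(g : MulAut Kb) w, ?_⟩
      show MulAut.conj ((g : MulAut Kb) w) = (g : MulAut Kb) * c * (g : MulAut Kb)⁻¹
      rw [← show MulAut.conj w = (c : MulAut Kb) from hw]
      refine MulEquiv.ext fun z => ?_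
      simp only [MulAut.mul_apply, MulAut.conj_apply, map_mul, map_inv, MulAut.apply_inv_self]
    have hKbp : IsPGroup p Kb := hK'map ▸ (T2.isPGroup'.to_le inf_le_right).map π
    have hIp : IsPGroup p (I.subgroupOf ψ.range) := (hKbp.of_surjective _ (MonoidHom.rangeRestrict_surjective _)).comap_subtype
    have h4 : ψ ⟨π g₁, hg₁N⟩ ^ m = 1 := by
      rw [← map_pow]
      exact MulEquiv.ext fun z => Subtype.ext (by
        show π g₁ ^ m * z * (π g₁ ^ m)⁻¹ = z
        rw [← mem_centralizer_iff.1 h3 z z.2, mul_inv_cancel_right])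
    set w₀ : ψ.range := ⟨ψ ⟨π g₀, hgN⟩, _, rfl⟩
    set w₁ : ψ.range := ⟨ψ ⟨π g₁, hg₁N⟩, _, rfl⟩
    have h5 : QuotientGroup.mk' (I.subgroupOf ψ.range) w₁ = QuotientGroup.mk' (I.subgroupOf ψ.range) w₀ := by
      refine (QuotientGroup.eq (s := I.subgroupOf ψ.range)).2 ?_
      show (ψ ⟨π g₁, hg₁N⟩)⁻¹ * ψ ⟨π g₀, hgN⟩ ∈ I
      rw [hψg, mul_inv_rev, mul_assoc]
      refine ⟨(ψ ⟨π g₀, hgN⟩)⁻¹ (⟨π l, hl⟩⁻¹ : Kb), MulEquiv.ext fun z => ?_⟩
      simp only [MulAut.mul_apply, MulAut.conj_apply, MulAut.conj_inv_apply, map_mul, map_inv, MulAut.inv_apply_self, inv_inv]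
    have h6 : QuotientGroup.mk' (I.subgroupOf ψ.range) w₀ = 1 := by
      refine orderOf_eq_one_iff.1 (Nat.eq_one_of_dvd_coprimes
        (((hq.out.coprime_iff_not_dvd.2 hqm).pow_left n)) ?_ ?_)
      · refine (orderOf_map_dvd _ _).trans ?_
        rw [← Subgroup.orderOf_coe]
        exact hn ▸ Subgroup.orderOf_mk (π g₀) hgN ▸ orderOf_map_dvd ψ ⟨π g₀, hgN⟩
      · rw [← h5]
        refine orderOf_dvd_of_pow_eq_one ?_
        rw [← map_pow, show w₁ ^ m = 1 from Subtype.ext h4, map_one]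
    obtain ⟨j, hj⟩ := IsPGroup.iff_orderOf.1 hIp ⟨w₀, (QuotientGroup.eq_one_iff _).1 h6⟩
    rw [← Subgroup.orderOf_coe] at hj
    have h7 : orderOf (w₀ : ψ.range) ∣ q ^ n := by
      rw [← Subgroup.orderOf_coe]
      exact hn ▸ Subgroup.orderOf_mk (π g₀) hgN ▸ orderOf_map_dvd ψ ⟨π g₀, hgN⟩
    have h8 : (w₀ : ψ.range) = 1 := orderOf_eq_one_iff.1 (Nat.eq_one_of_dvd_coprimes
      ((Nat.coprime_primes hp.out hq.out).2 hpq |>.pow j n) hj.dvd h7)
    refine hgC (mem_centralizer_iff.2 fun z hz => (mul_inv_eq_iff_eq_mul.1 ?_).symm)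
    exact congrArg Subtype.val (DFunLike.congr_fun (congrArg Subtype.val h8) ⟨z, hz⟩)

end


/-- Let p and q be distinct primes with {p, q} ≠ {2, 3}, and let G be a finite group such that for every p-subgroup H of G the automizer N_G(H)/C_G(H) is p-solvable. If q divides the order of N_G(H)/C_G(H) for some p-subgroup H, then a Sylow p-subgroup of G has a normal subgroup K (normal in the Sylow subgroup) such that q divides the order of N_G(K)/C_G(K). -/
theorem result {G : Type*} [Group G] [Finite G]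
    (p q : ℕ) [Fact p.Prime] [Fact q.Prime] (hpq : p ≠ q) (h23 : ¬ ((p = 2 ∧ q = 3) ∨ (p = 3 ∧ q = 2)))
    (hsol : ∀ H : Subgroup G, IsPGroup p ↥H →
      Cfsg.IsPSolvable p (↥(Subgroup.normalizer (H : Set G)) ⧸ (Subgroup.centralizer (H : Set G)).subgroupOf (Subgroup.normalizer (H : Set G))))
    (H : Subgroup G) (hH : IsPGroup p ↥H)
    (hq : q ∣ ((Subgroup.centralizer (H : Set G)).subgroupOf (Subgroup.normalizer (H : Set G))).index)
    (Gp : Sylow p G) :
    ∃ K : Subgroup G, K ≤ (Gp : Subgroup G) ∧ (Gp : Subgroup G) ≤ Subgroup.normalizer (K : Set G) ∧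
      q ∣ ((Subgroup.centralizer (K : Set G)).subgroupOf (Subgroup.normalizer (K : Set G))).index := by
  have h0 := (dvd_index_iff (q := q) H).1 hq
  obtain ⟨P₀, hP₀⟩ := hH.exists_le_sylow
  haveI : Nonempty {z : Subgroup G × Sylow p G // IsPGroup p z.1 ∧ z.1 ≤ (z.2 : Subgroup G) ∧
      ∃ a ∈ Subgroup.normalizer (z.1 : Set G), a ∉ Subgroup.centralizer (z.1 : Set G) ∧ ∃ n : ℕ, orderOf a = q ^ n} :=
    ⟨⟨(H, P₀), hH, hP₀, h0⟩⟩
  obtain ⟨⟨⟨H1, S⟩, hH1, hH1S, hd⟩, hmax⟩ := Finite.exists_max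
    (fun z : {z : Subgroup G × Sylow p G // IsPGroup p z.1 ∧ z.1 ≤ (z.2 : Subgroup G) ∧
      ∃ a ∈ Subgroup.normalizer (z.1 : Set G), a ∉ Subgroup.centralizer (z.1 : Set G) ∧ ∃ n : ℕ, orderOf a = q ^ n} =>
      Nat.card ↥((z.1.2 : Subgroup G) ⊓ Subgroup.normalizer (z.1.1 : Set G)))
  have hSN : (S : Subgroup G) ≤ Subgroup.normalizer (H1 : Set G) := by
    by_contra hne
    set T := (S : Subgroup G) ⊓ Subgroup.normalizer (H1 : Set G) with hT
    have hTp : IsPGroup p T := S.isPGroup'.to_le inf_le_left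
    have hTs : ¬ p ∣ T.relIndex (Subgroup.normalizer (H1 : Set G)) := by
      intro hdv
      obtain ⟨Q, hQ⟩ := (hTp.comap_subtype (K := Subgroup.normalizer (H1 : Set G))).exists_le_sylow
      obtain ⟨S', hS'⟩ := (Q.isPGroup'.map (Subgroup.normalizer (H1 : Set G)).subtype).exists_le_sylow
      have hlt : Nat.card T < Nat.card ((Q : Subgroup _).map (Subgroup.normalizer (H1 : Set G)).subtype) := by
        rw [Subgroup.card_map_of_injective (Subgroup.normalizer (H1 : Set G)).subtype_injective,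
          ← Nat.card_congr (Subgroup.subgroupOfEquivOfLe (inf_le_right : T ≤ _)).toEquiv]
        refine lt_of_not_ge fun hle => Q.not_dvd_index ?_
        rw [← Subgroup.eq_of_le_of_card_ge hQ hle]
        exact hdv
      have hH1Q : H1 ≤ (S' : Subgroup G) := fun x hx => hS' ⟨⟨x, Subgroup.le_normalizer hx⟩,
        hQ (show x ∈ T from ⟨hH1S hx, Subgroup.le_normalizer hx⟩), rfl⟩
      have := hmax ⟨(H1, S'), hH1, hH1Q, hd⟩
      exact absurd (le_trans (Subgroup.card_le_of_le (show (Q : Subgroup _).map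
        (Subgroup.normalizer (H1 : Set G)).subtype ≤ (S' : Subgroup G) ⊓ Subgroup.normalizer (H1 : Set G) from
          le_inf hS' (Subgroup.map_subtype_le _))) this) (not_le.2 hlt)
    obtain ⟨K, hKT, hNK, hKd⟩ := key h23 hpq hsol hH1 hd (inf_le_right : T ≤ _) (le_inf hH1S Subgroup.le_normalizer) hTp hTs
    haveI := S.isPGroup'.isNilpotent
    have hlt : T.subgroupOf S < ⊤ := lt_top_iff_ne_top.2 fun e => hne fun x hx =>
      ((Subgroup.subgroupOf_eq_top.1 e) hx).2
    obtain ⟨s, hs, hsT⟩ := SetLike.exists_of_lt (Group.normalizerCondition_of_isNilpotent _ hlt)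
    have hsN : (s : G) ∈ Subgroup.normalizer (T : Set G) := Subgroup.mem_normalizer_fintype fun x hx =>
      (Subgroup.mem_normalizer_iff.1 hs ⟨x, hx.1⟩).1 hx
    have hlt2 : T < (S : Subgroup G) ⊓ Subgroup.normalizer (K : Set G) :=
      lt_of_le_not_ge (le_inf inf_le_left (Subgroup.le_normalizer.trans hNK)) fun hle => hsT (hle ⟨s.2, hNK hsN⟩)
    have := hmax ⟨(K, S), hTp.to_le hKT, hKT.trans inf_le_left, hKd⟩
    refine absurd this (not_le.2 (lt_of_not_ge fun hle => ?_))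
    exact hlt2.ne (Subgroup.eq_of_le_of_card_ge hlt2.le hle)
  obtain ⟨g, hg⟩ := MulAction.exists_smul_eq G S Gp
  refine ⟨MulAut.conj g • H1, ?_, ?_, (dvd_index_iff _).2 (detects_conj g hd)⟩
  · rw [← hg]
    exact Subgroup.pointwise_smul_le_pointwise_smul_iff.2 hH1S
  · rw [← hg]
    rintro _ ⟨x, hx, rfl⟩
    refine Subgroup.mem_normalizer_fintype ?_
    rintro _ ⟨h, hh, rfl⟩
    refine ⟨x * h * x⁻¹, (Subgroup.mem_normalizer_iff.1 (hSN hx) h).1 hh, ?_⟩
    show g * (x * h * x⁻¹) * g⁻¹ = g * x * g⁻¹ * (g * h * g⁻¹) * (g * x * g⁻¹)⁻¹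
    group

end Cfsg.Agent.S4411
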