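import Cfsg.Statements.S4414
import Mathlib
import Cfsg.Agent.Lib.Grp.HHExceptional

set_option maxHeartbeats 1000000
set_option maxRecDepth 8000

set_option autoImplicit false
open Cfsg

namespace Cfsg.Agent.S4414

open scoped TensorProduct
open Cfsg.Agent.Grp.HHExc

universe u v

theorem fixed_baseChange_le {S : Type*} [Group S] {F K E : Type*} [Field F] [Field K] [Algebra F K]
    [AddCommGroup E] [Module F E] (ρ : Representation F S E) (L : Subgroup S) (W : Submodule F E)
    (hW : ∀ v, (∀ l ∈ L, ρ l v = v) → v ∈ W) {w : K ⊗[F] E}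
    (hw : ∀ l ∈ L, (ρ l).baseChange K w = w) : w ∈ LinearMap.range (W.subtype.baseChange K) := by
  classical
  let κ := Module.Free.chooseBasis F K
  let e := TensorProduct.equivFinsuppOfBasisLeft (N := E) κ
  have hcomm : ∀ (l : S) (z : K ⊗[F] E) j, e ((ρ l).baseChange K z) j = ρ l (e z j) := by
    intro l z
    induction z using TensorProduct.induction_on with
    | zero => simp
    | tmul k m => intro j; simp [e]
    | add a b ha hb => intro j; simp [ha j, hb j]
  have hj : ∀ j, e w j ∈ W := fun j => hW _ fun l hl => by rw [← hcomm, hw l hl]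
  rw [← e.symm_apply_apply w, TensorProduct.equivFinsuppOfBasisLeft_symm_apply]
  refine Submodule.sum_mem _ fun j _ => ?_
  exact ⟨κ j ⊗ₜ[F] ⟨e w j, hj j⟩, by simp⟩

theorem pgroup_fixed_vector {K V S : Type*} [Field K] [CharP K 2] [AddCommGroup V] [Module K V]
    [Group S] [Finite S] (hS : IsPGroup 2 S) (σ : S →* Module.End K V) {u : V} (hu : u ≠ 0) :
    ∃ w ∈ Submodule.span K (Set.range fun s => σ s u), w ≠ 0 ∧ ∀ s, σ s w = w := by
  classical
  haveI : Fact (Nat.Prime 2) := ⟨Nat.prime_two⟩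
  let A : AddSubgroup V := AddSubgroup.closure (Set.range fun s => σ s u)
  have h2 : ∀ a : A, 2 • a = 0 := fun a => Subtype.ext (by
    show (2 : ℕ) • (a : V) = 0
    rw [← Nat.cast_smul_eq_nsmul K, CharP.cast_eq_zero, zero_smul])
  have hstab : ∀ s, ∀ a ∈ A, σ s a ∈ A := by
    intro s a ha
    induction ha using AddSubgroup.closure_induction with
    | mem x hx => obtain ⟨t, rfl⟩ := hx; exact AddSubgroup.subset_closure ⟨s * t, by simp [map_mul]⟩
    | zero => rw [map_zero]; exact A.zero_mem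
    | add x y _ _ hx hy => rw [map_add]; exact A.add_mem hx hy
    | neg x _ hx => rw [map_neg]; exact A.neg_mem hx
  letI : MulAction S A :=
    { smul := fun s a => ⟨σ s a, hstab s a a.2⟩
      one_smul := fun a => Subtype.ext (show σ 1 (a : V) = a by rw [map_one, Module.End.one_apply])
      mul_smul := fun s t a => Subtype.ext (show σ (s * t) (a : V) = σ s (σ t a) by
        rw [map_mul, Module.End.mul_apply]) }
  haveI : AddGroup.FG A := (AddGroup.fg_iff_addSubgroup_fg A).mpr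
    ((AddSubgroup.fg_iff _).mpr ⟨_, rfl, Set.finite_range _⟩)
  have hto : AddMonoid.IsTorsion A := fun a => isOfFinAddOrder_iff_nsmul_eq_zero.mpr ⟨2, by norm_num, h2 a⟩
  haveI : Finite A := AddCommGroup.finite_of_fg_torsion A hto
  have hdvd : 2 ∣ Nat.card A := by
    have huA : u ∈ A := AddSubgroup.subset_closure ⟨1, by simp⟩
    have := addOrderOf_dvd_natCard (⟨u, huA⟩ : A)
    rwa [addOrderOf_eq_prime (p := 2) (h2 _) (fun h => hu (congrArg Subtype.val h))] at this
  have hz : (0 : A) ∈ MulAction.fixedPoints S A := fun s => Subtype.ext (map_zero (σ s))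
  obtain ⟨b, hb, hne⟩ := hS.exists_fixed_point_of_prime_dvd_card_of_fixed_point A hdvd hz
  refine ⟨b, ?_, fun h => hne (Subtype.ext h.symm), fun s => congrArg Subtype.val (hb s)⟩
  have hle : A ≤ (Submodule.span K (Set.range fun s => σ s u)).toAddSubgroup :=
    (AddSubgroup.closure_le _).mpr Submodule.subset_span
  exact hle b.2


/-- Let S be a finite solvable group whose order is divisible only by the primes 2, p, q (p, q distinct odd primes), with a Sylow system S₂, S_p, S_q (pairwise permutable Sylow subgroups) such that: S_p is a minimal normal subgroup of S of order p or p²; S_q has order q and [S_p, S_q] = S_p; and O₂(S) = 1. Let E be an irreducible module for S over the field with two elements on which S_p acts faithfully, and E₀ the subspace of fixed points of S₂. Then either E₀ has at least 8 elements, or E₀ has exactly 4 elements and S_q does not leave E₀ invariant. -/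
theorem result {S : Type*} [Group S] [Finite S]
    [Group.IsSolvable S] (p q : ℕ) (hp : p.Prime) (hq : q.Prime) (hp2 : p ≠ 2) (hq2 : q ≠ 2) (hpq : p ≠ q)
    (hπ : ∀ r : ℕ, r.Prime → r ∣ Nat.card S → r = 2 ∨ r = p ∨ r = q)
    (S₂ : Sylow 2 S) (Sp : Sylow p S) (Sq : Sylow q S)
    (h2q : Nat.card ↥((S₂ : Subgroup S) ⊔ (Sq : Subgroup S)) = Nat.card ↥S₂ * Nat.card ↥Sq)
    (h2p : Nat.card ↥((S₂ : Subgroup S) ⊔ (Sp : Subgroup S)) = Nat.card ↥S₂ * Nat.card ↥Sp)
    (hpq' : Nat.card ↥((Sp : Subgroup S) ⊔ (Sq : Subgroup S)) = Nat.card ↥Sp * Nat.card ↥Sq)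
    (hSpN : (Sp : Subgroup S).Normal) (hSpmin : ∀ N : Subgroup S, N.Normal → N ≤ (Sp : Subgroup S) → N = ⊥ ∨ N = (Sp : Subgroup S))
    (hSpcard : Nat.card ↥Sp = p ∨ Nat.card ↥Sp = p ^ 2)
    (hSq : Nat.card ↥Sq = q) (hcomm : ⁅(Sp : Subgroup S), (Sq : Subgroup S)⁆ = (Sp : Subgroup S))
    (hO2 : Cfsg.pCore 2 S = ⊥)
    {E : Type*} [AddCommGroup E] [Module (ZMod 2) E] [Finite E] (ρ : Representation (ZMod 2) S E) (hE : Nontrivial E)
    (hirr : ∀ N : Submodule (ZMod 2) E, (∀ s : S, ∀ m ∈ N, ρ s m ∈ N) → N = ⊥ ∨ N = ⊤)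
    (hfaith : ∀ x ∈ (Sp : Subgroup S), ρ x = 1 → x = 1) :
    8 ≤ Nat.card {v : E // ∀ s ∈ (S₂ : Subgroup S), ρ s v = v} ∨
      (Nat.card {v : E // ∀ s ∈ (S₂ : Subgroup S), ρ s v = v} = 4 ∧
        ∃ x ∈ (Sq : Subgroup S), ∃ v : E, (∀ s ∈ (S₂ : Subgroup S), ρ s v = v) ∧ ¬ ∀ s ∈ (S₂ : Subgroup S), ρ s (ρ x v) = ρ x v) := by

  classical
  haveI : Fact (Nat.Prime 2) := ⟨Nat.prime_two⟩
  haveI := Fact.mk hp
  haveI := Fact.mk hq
  haveI : FiniteDimensional (ZMod 2) E := Module.Finite.of_finite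
  haveI hN := hSpN
  set A : Subgroup S := (Sp : Subgroup S) with hA
  set T : Subgroup S := (S₂ : Subgroup S) with hT
  set R : Subgroup S := (Sq : Subgroup S) with hR
  replace hSpcard : Nat.card A = p ∨ Nat.card A = p ^ 2 := hSpcard
  let K := AlgebraicClosure (ZMod 2)
  haveI : CharP K 2 := charP_of_injective_algebraMap (algebraMap (ZMod 2) K).injective 2
  let V := K ⊗[ZMod 2] E
  let σ : S →* Module.End K V := (Module.End.baseChangeHom (ZMod 2) K E).toMonoidHom.comp ρ
  have hσ : ∀ s, σ s = (ρ s).baseChange K := fun s => rfl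
  have hAc : ∀ a ∈ A, ∀ b ∈ A, a * b = b * a := by
    intro a ha b hb
    rcases hSpcard with h | h
    · haveI : IsCyclic A := isCyclic_of_prime_card h
      letI := IsCyclic.commGroup (α := A)
      exact congrArg Subtype.val (mul_comm (⟨a, ha⟩ : A) ⟨b, hb⟩)
    · exact congrArg Subtype.val ((IsPGroup.isMulCommutative_of_card_eq_prime_sq h).is_comm.comm
        (⟨a, ha⟩ : A) ⟨b, hb⟩)
  have hAK : (Nat.card A : K) ≠ 0 := fun e => by
    have h2 := (CharP.cast_eq_zero_iff K 2 _).mp e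
    rcases hSpcard with h | h <;> rw [h] at h2
    · exact hp2 ((Nat.prime_dvd_prime_iff_eq Nat.prime_two hp).mp h2).symm
    · exact hp2 ((Nat.prime_dvd_prime_iff_eq Nat.prime_two hp).mp (Nat.prime_two.dvd_of_dvd_pow h2)).symm
  -- no trivial character occurs
  have hnofix : ∀ w : V, (∀ a ∈ A, σ a w = w) → w = 0 := by
    let F0 : Submodule (ZMod 2) E :=
      { carrier := {v | ∀ a ∈ A, ρ a v = v}
        add_mem' := fun {v w} hv hw a ha => by rw [map_add, hv a ha, hw a ha]
        zero_mem' := fun a _ => map_zero _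
        smul_mem' := fun c v hv a ha => by rw [map_smul, hv a ha] }
    have hF : F0 = ⊥ := by
      refine (hirr F0 fun s m hm a ha => ?_).resolve_right fun htop => ?_
      · have h1 := hm (s⁻¹ * a * s) (by simpa using hN.conj_mem a ha s⁻¹)
        calc ρ a (ρ s m) = ρ s (ρ (s⁻¹ * a * s) m) := by
              rw [← Module.End.mul_apply, ← Module.End.mul_apply, ← map_mul, ← map_mul]; congr 2; group
          _ = ρ s m := by rw [h1]
      · have : A = ⊥ := eq_bot_iff.mpr fun a ha => Subgroup.mem_bot.mpr (hfaith a ha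
          (LinearMap.ext fun v => (htop ▸ Submodule.mem_top : v ∈ F0) a ha))
        rw [this, Subgroup.card_bot] at hSpcard
        rcases hSpcard with h | h
        · exact hp.one_lt.ne h
        · exact (Nat.one_lt_pow two_ne_zero hp.one_lt).ne h
    intro w hw
    obtain ⟨z, rfl⟩ := fixed_baseChange_le ρ A F0 (fun v hv => hv) (w := w) hw
    rw [show F0.subtype = 0 from LinearMap.ext fun m => (Submodule.eq_bot_iff _).mp hF m m.2,
      LinearMap.baseChange_zero, LinearMap.zero_apply]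
  -- the action on characters
  letI : MulAction S (S → K) :=
    { smul := fun g χ s => χ (g⁻¹ * s * g)
      one_smul := fun χ => funext fun s => show χ ((1 : S)⁻¹ * s * 1) = χ s by simp
      mul_smul := fun g h χ => funext fun s => show χ ((g * h)⁻¹ * s * (g * h)) = χ (h⁻¹ * (g⁻¹ * s * g) * h) by
        congr 1; group }
  have hsmul : ∀ (g : S) (χ : S → K) (s : S), (g • χ) s = χ (g⁻¹ * s * g) := fun _ _ _ => rfl
  let Ω : Set (S → K) := {χ | (∀ s, s ∉ A → χ s = 0) ∧ chEigen σ A χ ≠ ⊥}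
  have hmove : ∀ (g : S) (χ : S → K) (v : V), v ∈ chEigen σ A χ → σ g v ∈ chEigen σ A (g • χ) :=
    fun g χ v hv => apply_mem_chEigen σ (by rw [Subgroup.normalizer_eq_top]; trivial)
      (fun r _ => by rw [hsmul]; congr 1; group) hv
  have hinj : ∀ g : S, Function.Injective (σ g) := fun g a b h => by
    rw [← coe_inv_apply σ g a, h, coe_inv_apply]
  have hΩ : ∀ (g : S), ∀ χ ∈ Ω, g • χ ∈ Ω := fun g χ hχ => ⟨fun s hs => hχ.1 _ fun h => hs (by
      have := hN.conj_mem _ h g
      simpa [mul_assoc] using this), by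
    obtain ⟨v, hv, hv0⟩ := (Submodule.ne_bot_iff _).mp hχ.2
    exact (Submodule.ne_bot_iff _).mpr ⟨σ g v, hmove g χ v hv, fun h => hv0 (hinj g (by rw [h, map_zero]))⟩⟩
  have hne : ∀ χ ∈ Ω, ∀ ψ ∈ Ω, χ ≠ ψ → ∃ r ∈ A, χ r ≠ ψ r := by
    intro χ hχ ψ hψ h
    by_contra hc
    push Not at hc
    exact h (funext fun s => if hs : s ∈ A then hc s hs else by rw [hχ.1 s hs, hψ.1 s hs])
  obtain ⟨lam, hlam⟩ : ∃ χ, χ ∈ Ω := by
    by_contra hc
    push Not at hc
    have htop := iSup_chEigen_eq_top σ A (fun a ha b hb => by rw [← map_mul, ← map_mul, hAc a ha b hb]) hAK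
    have hbot : ∀ χ : S → K, chEigen σ A χ = ⊥ := by
      intro χ
      have e : chEigen σ A χ = chEigen σ A (fun s => if s ∈ A then χ s else 0) := by
        ext v
        simp only [mem_chEigen]
        exact forall₂_congr fun r hr => by rw [if_pos hr]
      rw [e]
      by_contra hb
      exact hc _ ⟨fun s hs => if_neg hs, hb⟩
    obtain ⟨v, hv⟩ := exists_ne (0 : E)
    haveI : Nontrivial V := Module.nontrivial_of_finrank_pos (R := K) (by
      rw [Module.finrank_baseChange]; exact Module.finrank_pos)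
    simp only [hbot, iSup_bot] at htop
    exact bot_ne_top htop
  -- the q-group moves every invariant 2-orbit
  have hRq : Nat.card R = q := hSq
  have hfree : ∀ y ∈ R, ∀ χ ∈ Ω, y • χ = χ → y = 1 := by
    intro y hy χ hχ hfix
    by_contra hy1
    let C : Subgroup S :=
      { carrier := {a | a ∈ A ∧ χ a = 1}
        one_mem' := ⟨A.one_mem, (ch_mul σ hχ.2).1⟩
        mul_mem' := fun {a b} ha hb => ⟨A.mul_mem ha.1 hb.1, by
          rw [(ch_mul σ hχ.2).2 a ha.1 b hb.1, ha.2, hb.2, one_mul]⟩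
        inv_mem' := fun {a} ha => ⟨A.inv_mem ha.1, by
          have := ch_inv σ hχ.2 ha.1
          rwa [ha.2, one_mul] at this⟩ }
    have hgen : ∀ g ∈ R, g • χ = χ := by
      intro g hg
      obtain ⟨i, hi⟩ := Subgroup.mem_zpowers_iff.mp
        (mem_zpowers_of_prime_card hRq (g' := (⟨g, hg⟩ : R)) (g := ⟨y, hy⟩) (fun h => hy1 (congrArg Subtype.val h)))
      have hstab : y ∈ MulAction.stabilizer S χ := hfix
      have := Subgroup.zpow_mem _ hstab i
      rwa [show y ^ i = g from congrArg Subtype.val hi] at this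
    have hle : A ≤ C := by
      conv_lhs => rw [← hcomm]
      rw [Subgroup.commutator_le]
      intro a ha g hg
      have h1 : g * a⁻¹ * g⁻¹ ∈ A := hN.conj_mem _ (A.inv_mem ha) g
      have h2 : χ (g * a⁻¹ * g⁻¹) = χ a⁻¹ := by
        conv_lhs => rw [← hgen g hg]
        rw [hsmul]; congr 1; group
      refine ⟨by rw [commutatorElement_def, mul_assoc, mul_assoc, ← mul_assoc g]; exact A.mul_mem ha h1, ?_⟩
      rw [commutatorElement_def, mul_assoc, mul_assoc, ← mul_assoc g, (ch_mul σ hχ.2).2 a ha _ h1, h2,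
        ch_inv σ hχ.2 ha]
    obtain ⟨v, hv, hv0⟩ := (Submodule.ne_bot_iff _).mp hχ.2
    exact hv0 (hnofix v fun a ha => by rw [(mem_chEigen σ).mp hv a ha, (hle ha).2, one_smul])
  haveI : Fintype T := Fintype.ofFinite _
  let O : (S → K) → Finset (S → K) := fun χ => Finset.univ.image fun t : T => (t : S) • χ
  have hO : ∀ χ ψ, ψ ∈ O χ ↔ ∃ t : T, (t : S) • χ = ψ := fun χ ψ => by
    simp [O]
  have hOΩ : ∀ χ ∈ Ω, ∀ ψ ∈ O χ, ψ ∈ Ω := fun χ hχ ψ hψ => by
    obtain ⟨t, rfl⟩ := (hO χ ψ).mp hψ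
    exact hΩ _ χ hχ
  haveI : Nontrivial R := Finite.one_lt_card_iff_nontrivial.mp (by rw [hRq]; exact hq.one_lt)
  have hmv : ∀ χ ∈ Ω, ¬ ∀ y ∈ R, ∀ ψ ∈ O χ, y • ψ ∈ O χ := by
    intro χ hχ hinv
    letI : MulAction R {ψ // ψ ∈ O χ} :=
      { smul := fun y ψ => ⟨(y : S) • (ψ : S → K), hinv y y.2 ψ ψ.2⟩
        one_smul := fun ψ => Subtype.ext (one_smul S (ψ : S → K))
        mul_smul := fun y z ψ => Subtype.ext (mul_smul (y : S) (z : S) (ψ : S → K)) }
    have h0 : IsEmpty (MulAction.fixedPoints R {ψ // ψ ∈ O χ}) := ⟨fun ⟨ψ, hψ⟩ => by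
      obtain ⟨y, hy⟩ : ∃ y : R, y ≠ 1 := exists_ne 1 (α := R)
      exact hy (Subtype.ext (hfree y y.2 _ (hOΩ χ hχ _ ψ.2) (congrArg Subtype.val (hψ y))))⟩
    have h := (IsPGroup.of_card (n := 1) (by rw [pow_one]; exact hRq) : IsPGroup q R).card_modEq_card_fixedPoints
      {ψ // ψ ∈ O χ}
    haveI := h0
    rw [Nat.card_of_isEmpty (α := MulAction.fixedPoints R {ψ // ψ ∈ O χ}), Nat.modEq_zero_iff_dvd] at h
    haveI : Finite ↑(MulAction.orbit (↥(S₂ : Subgroup S)) χ) := (Set.finite_range _).to_subtype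
    obtain ⟨i, hi⟩ := S₂.isPGroup'.card_orbit (χ : S → K)
    rw [show Nat.card {ψ // ψ ∈ O χ} = 2 ^ i by
      rw [← hi]
      exact Nat.card_congr (Equiv.subtypeEquivRight fun ψ => by rw [hO]; exact MulAction.mem_orbit_iff.symm)] at h
    exact hq2 ((Nat.prime_dvd_prime_iff_eq hq Nat.prime_two).mp (hq.dvd_of_dvd_pow h))
  -- the orbit vectors
  have hvec : ∀ χ ∈ Ω, ∃ c : (S → K) → V, (∀ ψ ∈ O χ, c ψ ∈ chEigen σ A ψ ∧ c ψ ≠ 0) ∧
      ∀ t ∈ T, σ t (∑ ψ ∈ O χ, c ψ) = ∑ ψ ∈ O χ, c ψ := by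
    intro χ hχ
    let St : Subgroup T := MulAction.stabilizer T χ
    obtain ⟨u, hu, hu0⟩ := (Submodule.ne_bot_iff _).mp hχ.2
    obtain ⟨w, hw, hw0, hwfix⟩ := pgroup_fixed_vector (S₂.isPGroup'.to_subgroup St)
      ((σ.comp T.subtype).comp St.subtype) hu0
    have hwm : w ∈ chEigen σ A χ := by
      refine (Submodule.span_le.mpr ?_) hw
      rintro _ ⟨s, rfl⟩
      have := hmove ((s : T) : S) χ u hu
      rwa [show ((s : T) : S) • χ = χ from s.2] at this
    have hsel : ∀ ψ : S → K, ∃ t : T, ψ ∈ O χ → (t : S) • χ = ψ := fun ψ => by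
      by_cases h : ψ ∈ O χ
      · exact ⟨_, fun _ => ((hO χ ψ).mp h).choose_spec⟩
      · exact ⟨1, fun h' => absurd h' h⟩
    choose tt htt using hsel
    refine ⟨fun ψ => σ (tt ψ : S) w, fun ψ hψ => ⟨by
      have := hmove (tt ψ : S) χ w hwm
      rwa [htt ψ hψ] at this, fun h => hw0 (hinj (tt ψ : S) (h.trans (map_zero _).symm))⟩, fun t ht => ?_⟩
    rw [map_sum]
    refine Finset.sum_bij' (fun ψ _ => t • ψ) (fun ψ _ => t⁻¹ • ψ) (fun ψ hψ => ?_) (fun ψ hψ => ?_)
      (fun ψ _ => inv_smul_smul t ψ) (fun ψ _ => smul_inv_smul t ψ) (fun ψ hψ => ?_)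
    · obtain ⟨t', rfl⟩ := (hO χ ψ).mp hψ
      exact (hO χ _).mpr ⟨⟨t, ht⟩ * t', mul_smul _ _ _⟩
    · obtain ⟨t', rfl⟩ := (hO χ ψ).mp hψ
      exact (hO χ _).mpr ⟨⟨t, ht⟩⁻¹ * t', mul_smul _ _ _⟩
    · have hψ' : t • ψ ∈ O χ := by
        obtain ⟨t', rfl⟩ := (hO χ ψ).mp hψ
        exact (hO χ _).mpr ⟨⟨t, ht⟩ * t', mul_smul _ _ _⟩
      set s : T := (tt (t • ψ))⁻¹ * (⟨t, ht⟩ * tt ψ) with hs
      have hsS : s ∈ St := by
        show (s : S) • χ = χ
        simp only [hs, Subgroup.coe_mul, Subgroup.coe_inv, mul_smul, htt ψ hψ]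
        rw [inv_smul_eq_iff, htt _ hψ']
      have h1 : σ (s : S) w = w := hwfix ⟨s, hsS⟩
      show σ t (σ (tt ψ : S) w) = σ (tt (t • ψ) : S) w
      conv_rhs => rw [← h1]
      rw [← Module.End.mul_apply, ← Module.End.mul_apply, ← map_mul, ← map_mul]
      congr 2
      simp [hs]
  choose! c hc hcfix using hvec
  let vv : (S → K) → V := fun χ => ∑ ψ ∈ O χ, c χ ψ
  -- comparison of components
  have hcomp : ∀ (U : Finset (S → K)) (f : (S → K) → V), (∀ ψ ∈ U, ψ ∈ Ω) →
      (∀ ψ ∈ U, f ψ ∈ chEigen σ A ψ) → ∑ ψ ∈ U, f ψ = 0 → ∀ ψ ∈ U, f ψ = 0 := fun U f hU hf hs =>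
    eigen_sum_eq_zero σ A U (fun χ => χ) (fun i hi j hj h => hne i (hU i hi) j (hU j hj) h) f hf hs
  have hindep : ∀ (n : ℕ) (χ : Fin n → S → K), (∀ i, χ i ∈ Ω) → (∀ i j, i ≠ j → χ j ∉ O (χ i)) →
      LinearIndependent K fun i => vv (χ i) := by
    intro n χ hχ hdis
    rw [Fintype.linearIndependent_iff]
    intro a ha i
    have hd : ∀ i j, i ≠ j → Disjoint (O (χ i)) (O (χ j)) := fun i j hij => by
      rw [Finset.disjoint_left]
      intro ψ h1 h2
      obtain ⟨t, ht⟩ := (hO _ _).mp h1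
      obtain ⟨t', ht'⟩ := (hO _ _).mp h2
      refine hdis i j hij ((hO _ _).mpr ⟨t'⁻¹ * t, ?_⟩)
      rw [Subgroup.coe_mul, mul_smul, ht, Subgroup.coe_inv, inv_smul_eq_iff, ht']
    let f : (S → K) → V := fun ψ => ∑ j, if ψ ∈ O (χ j) then a j • c (χ j) ψ else 0
    have hf : ∀ j, ∀ ψ ∈ O (χ j), f ψ = a j • c (χ j) ψ := by
      intro j ψ hψ
      simp only [f]
      rw [Finset.sum_eq_single j (fun k _ hk => if_neg fun h => Finset.disjoint_left.mp (hd k j hk) h hψ)
        (fun h => absurd (Finset.mem_univ j) h), if_pos hψ]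
    set U := Finset.univ.biUnion fun j => O (χ j)
    have hU : ∀ ψ ∈ U, ∃ j, ψ ∈ O (χ j) := fun ψ hψ => by simpa [U] using hψ
    obtain ⟨ψ, hψ⟩ : ∃ ψ, ψ ∈ O (χ i) := ⟨χ i, (hO _ _).mpr ⟨1, one_smul _ _⟩⟩
    have h0 := hcomp U f (fun ψ hψ => by obtain ⟨j, hj⟩ := hU ψ hψ; exact hOΩ _ (hχ j) ψ hj)
      (fun ψ hψ => by
        obtain ⟨j, hj⟩ := hU ψ hψ
        rw [hf j ψ hj]
        exact Submodule.smul_mem _ _ ((hc _ (hχ j)) ψ hj).1)
      (by
        rw [Finset.sum_biUnion (fun k _ l _ hkl => hd k l hkl)]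
        simp only [vv, Finset.smul_sum] at ha
        rw [← ha]
        exact Finset.sum_congr rfl fun j _ => Finset.sum_congr rfl fun ψ hψ => hf j ψ hψ)
      ψ (Finset.mem_biUnion.mpr ⟨i, Finset.mem_univ _, hψ⟩)
    rw [hf i ψ hψ] at h0
    exact (smul_eq_zero.mp h0).resolve_right (hc _ (hχ i) ψ hψ).2
  -- the fixed subspace
  let E0 : Submodule (ZMod 2) E :=
    { carrier := {v | ∀ s ∈ T, ρ s v = v}
      add_mem' := fun {v w} hv hw a ha => by rw [map_add, hv a ha, hw a ha]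
      zero_mem' := fun a _ => map_zero _
      smul_mem' := fun k v hv a ha => by rw [map_smul, hv a ha] }
  have hcard : Nat.card {v : E // ∀ s ∈ T, ρ s v = v} = 2 ^ Module.finrank (ZMod 2) E0 := by
    have h := Module.natCard_eq_pow_finrank (K := ZMod 2) (V := E0)
    rwa [Nat.card_zmod] at h
  set FK : Submodule K V := LinearMap.range (E0.subtype.baseChange K) with hFK
  have hFKle : Module.finrank K FK ≤ Module.finrank (ZMod 2) E0 :=
    (LinearMap.finrank_range_le _).trans (Module.finrank_baseChange).le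
  have hvF : ∀ χ ∈ Ω, vv χ ∈ FK := fun χ hχ =>
    fixed_baseChange_le ρ T E0 (fun v hv => hv) (fun l hl => hcfix χ hχ l hl)
  have hdim : ∀ (n : ℕ) (χ : Fin n → S → K), (∀ i, χ i ∈ Ω) → (∀ i j, i ≠ j → χ j ∉ O (χ i)) →
      n ≤ Module.finrank (ZMod 2) E0 := fun n χ hχ hd => by
    have hli : LinearIndependent K fun i => (⟨vv (χ i), hvF _ (hχ i)⟩ : FK) :=
      LinearIndependent.of_comp FK.subtype (hindep n χ hχ hd)
    have := hli.fintype_card_le_finrank
    rw [Fintype.card_fin] at this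
    exact this.trans hFKle
  have hsymm : ∀ χ ψ, ψ ∈ O χ → χ ∈ O ψ := fun χ ψ h => by
    obtain ⟨t, ht⟩ := (hO _ _).mp h
    exact (hO _ _).mpr ⟨t⁻¹, by rw [Subgroup.coe_inv, ← ht, inv_smul_smul]⟩
  obtain ⟨mu, hmu, hmu'⟩ : ∃ ψ ∈ Ω, ψ ∉ O lam := by
    by_contra hc'
    push Not at hc'
    exact hmv lam hlam fun y _ ψ hψ => hc' _ (hΩ y _ (hOΩ _ hlam ψ hψ))
  have hmu'' : lam ∉ O mu := fun h => hmu' (hsymm _ _ h)
  have h2 : 2 ≤ Module.finrank (ZMod 2) E0 := hdim 2 ![lam, mu]
    (fun i => by fin_cases i <;> assumption)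
    (fun i j hij => by fin_cases i <;> fin_cases j <;> first | exact absurd rfl hij | assumption)
  rw [hcard]
  rcases (show 3 ≤ Module.finrank (ZMod 2) E0 ∨ Module.finrank (ZMod 2) E0 = 2 by omega) with h3 | h3
  · exact Or.inl ((show 8 = 2 ^ 3 by norm_num) ▸ Nat.pow_le_pow_right two_pos h3)
  refine Or.inr ⟨by rw [h3]; norm_num, ?_⟩
  by_contra hinvE
  push Not at hinvE
  -- only two orbits
  have htwo : ∀ ψ ∈ Ω, ψ ∈ O lam ∨ ψ ∈ O mu := by
    intro ψ hψ
    by_contra hc'
    push Not at hc'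
    have := hdim 3 ![lam, mu, ψ] (fun i => by fin_cases i <;> assumption)
      (fun i j hij => by
        fin_cases i <;> fin_cases j <;> first
          | exact absurd rfl hij
          | assumption
          | exact hc'.1
          | exact hc'.2
          | exact fun h => hc'.1 (hsymm _ _ h)
          | exact fun h => hc'.2 (hsymm _ _ h))
    omega
  have hspan : ∀ l ∈ Ω, ∀ m ∈ Ω, m ∉ O l → FK = Submodule.span K (Set.range ![vv l, vv m]) := by
    intro l hl m hm hlm
    have hml : l ∉ O m := fun h => hlm (hsymm _ _ h)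
    have hli := hindep 2 ![l, m] (fun i => by fin_cases i <;> assumption)
      (fun i j hij => by fin_cases i <;> fin_cases j <;> first | exact absurd rfl hij | assumption)
    have e : (fun i => vv (![l, m] i)) = ![vv l, vv m] := funext fun i => by fin_cases i <;> rfl
    rw [e] at hli
    refine (Submodule.eq_of_le_of_finrank_le (Submodule.span_le.mpr ?_) ?_).symm
    · rintro _ ⟨i, rfl⟩
      fin_cases i <;> exact hvF _ (by assumption)
    · rw [finrank_span_eq_card hli, Fintype.card_fin]; omega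
  -- an element of odd order fixes each orbit
  have key : ∀ l ∈ Ω, ∀ m ∈ Ω, m ∉ O l → ∀ y ∈ R,
      (∀ ψ ∈ O l, y • ψ ∈ O l) ∨ (∀ ψ ∈ O l, y • ψ ∈ O m) := by
    intro lam hlam mu hmu hmu' y hy
    have hyF : σ y (vv lam) ∈ FK := by
      obtain ⟨z, hz⟩ := hvF lam hlam
      rw [← hz]
      let y' : E0 →ₗ[ZMod 2] E0 := (ρ y).restrict (fun v hv => fun s hs => hinvE y hy v hv s hs)
      refine ⟨y'.baseChange K z, ?_⟩
      rw [hσ, ← LinearMap.comp_apply, ← LinearMap.comp_apply, ← LinearMap.baseChange_comp,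
        ← LinearMap.baseChange_comp]
      congr 1
    rw [hspan lam hlam mu hmu hmu', Matrix.range_cons, Matrix.range_cons, Matrix.range_empty, Set.union_empty,
      Set.singleton_union, Submodule.mem_span_pair] at hyF
    obtain ⟨a, b, hab⟩ := hyF
    set Y := (O lam).image (fun ψ => y • ψ) with hY
    set U := (O lam ∪ O mu) ∪ Y
    let f : (S → K) → V := fun ψ => (if ψ ∈ Y then σ y (c lam (y⁻¹ • ψ)) else 0) -
      (if ψ ∈ O lam then a • c lam ψ else 0) - (if ψ ∈ O mu then b • c mu ψ else 0)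
    have hU : ∀ ψ ∈ U, ψ ∈ Ω := by
      intro ψ hψ
      simp only [U, Y, Finset.mem_union, Finset.mem_image] at hψ
      rcases hψ with (h | h) | ⟨φ, h, rfl⟩
      · exact hOΩ _ hlam ψ h
      · exact hOΩ _ hmu ψ h
      · exact hΩ _ _ (hOΩ _ hlam φ h)
    have hfm : ∀ ψ ∈ U, f ψ ∈ chEigen σ A ψ := by
      intro ψ _
      refine Submodule.sub_mem _ (Submodule.sub_mem _ ?_ ?_) ?_ <;> split_ifs with h <;>
        first | exact Submodule.zero_mem _ | skip
      · obtain ⟨φ, hφ, rfl⟩ := Finset.mem_image.mp h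
        rw [inv_smul_smul]
        exact hmove y φ _ (hc _ hlam φ hφ).1
      · exact Submodule.smul_mem _ _ (hc _ hlam ψ h).1
      · exact Submodule.smul_mem _ _ (hc _ hmu ψ h).1
    have hf0 := hcomp U f hU hfm (by
      simp only [f, Finset.sum_sub_distrib, Finset.sum_ite_mem]
      rw [Finset.inter_eq_right.mpr (show Y ⊆ U from Finset.subset_union_right),
        Finset.inter_eq_right.mpr (show O lam ⊆ U from Finset.subset_union_left.trans Finset.subset_union_left),
        Finset.inter_eq_right.mpr (show O mu ⊆ U from Finset.subset_union_right.trans Finset.subset_union_left),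
        hY, Finset.sum_image (fun p _ q _ h => smul_left_cancel y h)]
      simp only [inv_smul_smul, ← Finset.smul_sum, ← map_sum]
      rw [sub_sub, hab, sub_self])
    have hdisj : ∀ ψ, ψ ∈ O lam → ψ ∉ O mu := fun ψ h h' => by
      obtain ⟨t, ht⟩ := (hO _ _).mp h
      obtain ⟨t', ht'⟩ := (hO _ _).mp h'
      exact hmu' ((hO _ _).mpr ⟨t'⁻¹ * t, by rw [Subgroup.coe_mul, mul_smul, ht, Subgroup.coe_inv, inv_smul_eq_iff, ht']⟩)
    by_cases ha : a = 0
    · right
      intro φ hφ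
      by_contra hn
      have h := hf0 (y • φ) (Finset.mem_union_right _ (Finset.mem_image_of_mem _ hφ))
      simp only [f, if_pos (show y • φ ∈ Y from Finset.mem_image_of_mem _ hφ), if_neg hn, ha, zero_smul,
        ite_self, sub_zero, inv_smul_smul] at h
      exact (hc _ hlam φ hφ).2 (hinj y (by rw [h, map_zero]))
    · left
      have hsub : O lam ⊆ Y := fun ψ hψ => by
        by_contra hn
        have h := hf0 ψ (Finset.mem_union_left _ (Finset.mem_union_left _ hψ))
        simp only [f, if_neg hn, if_pos hψ, if_neg (hdisj ψ hψ), zero_sub, sub_zero, neg_eq_zero] at h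
        exact (hc _ hlam ψ hψ).2 ((smul_eq_zero.mp h).resolve_left ha)
      have heq : O lam = Y := Finset.eq_of_subset_of_card_le hsub Finset.card_image_le
      intro φ hφ
      rw [heq]
      exact Finset.mem_image_of_mem _ hφ
  refine hmv lam hlam fun y hy ψ hψ => ?_
  have hdis : ∀ φ, φ ∈ O lam → φ ∉ O mu := fun φ h h' => by
    obtain ⟨t, ht⟩ := (hO _ _).mp h
    obtain ⟨t', ht'⟩ := (hO _ _).mp h'
    exact hmu' ((hO _ _).mpr ⟨t'⁻¹ * t, by rw [Subgroup.coe_mul, mul_smul, ht, Subgroup.coe_inv, inv_smul_eq_iff, ht']⟩)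
  have hyq : y ^ q = 1 := congrArg Subtype.val (hRq ▸ pow_card_eq_one' : (⟨y, hy⟩ : R) ^ q = 1)
  rcases key lam hlam mu hmu hmu' y hy with h | h
  · exact h ψ hψ
  exfalso
  rcases key mu hmu lam hlam hmu'' y hy with h' | h'
  · have hp' : ∀ n, ∀ φ ∈ O mu, y ^ n • φ ∈ O mu := by
      intro n
      induction n with
      | zero => intro φ hφ; rwa [pow_zero, one_smul]
      | succ n ih => intro φ hφ; rw [pow_succ', mul_smul]; exact h' _ (ih φ hφ)
    have h1 := hp' (q - 1) _ (h ψ hψ)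
    rw [← mul_smul, ← pow_succ, show q - 1 + 1 = q by have := hq.one_lt; omega, hyq, one_smul] at h1
    exact hdis ψ hψ h1
  · have hp' : ∀ n, y ^ (2 * n + 1) • ψ ∈ O mu := by
      intro n
      induction n with
      | zero => simpa using h ψ hψ
      | succ n ih =>
        rw [show 2 * (n + 1) + 1 = (2 * n + 1) + 1 + 1 by ring, pow_succ', pow_succ' y (2 * n + 1),
          mul_smul, mul_smul]
        exact h _ (h' _ ih)
    obtain ⟨k, hk⟩ := hq.odd_of_ne_two hq2
    have h1 := hp' k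
    rw [← hk, hyq, one_smul] at h1
    exact hdis ψ hψ h1

end Cfsg.Agent.S4414
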