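import Cfsg.Statements.S4415
import Cfsg.Agent.Lib.Grp.CubicThree.Main
import Cfsg.Agent.Lib.Grp.Coprime
import Cfsg.Agent.Lib.Grp.Cores
import Cfsg.Agent.Lib.Grp.Solvable
import Cfsg.Agent.Lib.Grp.Frattini

set_option autoImplicit false
open Cfsg

namespace Cfsg.Agent.S4415

open scoped commutatorElement
open Cfsg.Agent.Grp.CubicThree Module

theorem rank_of_block {E : Type*} [AddCommGroup E] [Module (ZMod 3) E] [Finite E]
    (f : Module.End (ZMod 3) E) (h3 : f * (f * f) = 0) (E₀ E₁ : Submodule (ZMod 3) E)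
    (hE01' : E₀ ⊔ E₁ = ⊤) (hE1 : ∀ v ∈ E₁, f v = 0) (hE0inv : ∀ v ∈ E₀, f v ∈ E₀)
    (hE0 : Nat.card ↥E₀ = 27) (hind : ∃ v ∈ E₀, f (f v) ≠ 0) :
    finrank (ZMod 3) (LinearMap.range f) = 2 := by
  haveI : Fact (Nat.Prime 3) := ⟨Nat.prime_three⟩
  haveI : FiniteDimensional (ZMod 3) E := Module.Finite.of_finite
  have hd : finrank (ZMod 3) E₀ = 3 := by
    have h := hE0
    rw [Module.natCard_eq_pow_finrank (K := ZMod 3), Nat.card_zmod] at h
    exact Nat.pow_right_injective le_rfl |> fun _ => by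
      have : (3 : ℕ) ^ finrank (ZMod 3) E₀ = 3 ^ 3 := h
      exact Nat.pow_right_injective (by norm_num) this
  have hle : LinearMap.range f ≤ E₀ := by
    rintro _ ⟨v, rfl⟩
    obtain ⟨p, hp, q, hq, rfl⟩ := Submodule.mem_sup.mp (hE01' ▸ Submodule.mem_top (x := v))
    rw [map_add, hE1 q hq, add_zero]
    exact hE0inv p hp
  have h2 : f * f ≠ 0 := fun h => by
    obtain ⟨v, -, hv⟩ := hind
    exact hv (LinearMap.congr_fun h v)
  have hlow := two_le_rank f h3 h2
  have hlt : LinearMap.range f < E₀ := by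
    refine lt_of_le_of_ne hle fun h => ?_
    obtain ⟨v, hv, hv'⟩ := hind
    apply hv'
    obtain ⟨x, rfl⟩ : v ∈ LinearMap.range f := h ▸ hv
    exact LinearMap.congr_fun h3 x
  have := Submodule.finrank_lt_finrank_of_lt hlt
  omega

theorem four_le_core {S : Type*} [Group S] [Finite S] [Group.IsSolvable S] (b : S) (hb3 : b ^ 3 = 1)
    (P : Sylow 3 S) (hbP : ∀ p ∈ (P : Subgroup S), p * b = b * p) (q : S) (hq : q * q = 1)
    (hqb : (q * b * q⁻¹ * b⁻¹) * (q * b * q⁻¹ * b⁻¹) = 1) :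
    q * b * q⁻¹ * b⁻¹ ∈ Cfsg.pPrimeCore 3 S := by
  haveI : Fact (Nat.Prime 3) := ⟨Nat.prime_three⟩
  haveI := Cfsg.Agent.Grp.pPrimeCore_isNormal (G := S) (p := 3)
  let f := QuotientGroup.mk' (Cfsg.pPrimeCore 3 S)
  have hsurj : Function.Surjective f := QuotientGroup.mk'_surjective _
  haveI : Group.IsSolvable (S ⧸ Cfsg.pPrimeCore 3 S) := inferInstance
  have hO : f b ∈ Cfsg.pCore 3 (S ⧸ Cfsg.pPrimeCore 3 S) := by
    refine Cfsg.Agent.Grp.centralizer_pCore_le
      (Cfsg.Agent.Grp.pPrimeCore_quotient_eq_bot) (Subgroup.mem_centralizer_iff.mpr fun x hx => ?_)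
    have hx' := Cfsg.Agent.Grp.pCore_le_sylow (P.mapSurjective hsurj) hx
    rw [Sylow.coe_mapSurjective] at hx'
    obtain ⟨p, hp, rfl⟩ := hx'
    rw [← map_mul, ← map_mul, hbP p hp]
  haveI := Cfsg.Agent.Grp.pCore_isNormal (G := S ⧸ Cfsg.pPrimeCore 3 S) (p := 3)
  set c := q * b * q⁻¹ * b⁻¹ with hc
  have hcO : f c ∈ Cfsg.pCore 3 (S ⧸ Cfsg.pPrimeCore 3 S) := by
    rw [hc, map_mul, map_mul, map_mul, map_inv, map_inv]
    exact Subgroup.mul_mem _ (Subgroup.Normal.conj_mem inferInstance _ hO (f q))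
      (Subgroup.inv_mem _ hO)
  obtain ⟨k, hk⟩ := Cfsg.Agent.Grp.pCore_isPGroup (p := 3) ⟨f c, hcO⟩
  have hk' : f c ^ 3 ^ k = 1 := congrArg Subtype.val hk
  have h2 : f c ^ 2 = 1 := by rw [← map_pow, pow_two, hqb, map_one]
  have h1 : orderOf (f c) = 1 := Nat.eq_one_of_dvd_coprimes
    (Nat.Coprime.pow_left k (by norm_num : Nat.Coprime 3 2))
    (orderOf_dvd_of_pow_eq_one hk') (orderOf_dvd_of_pow_eq_one h2)
  exact (QuotientGroup.eq_one_iff c).mp (orderOf_eq_one_iff.mp h1)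

theorem main {S : Type*} [Group S] [Finite S]
    [Group.IsSolvable S] {E : Type*} [AddCommGroup E] [Module (ZMod 3) E] [Finite E]
    (ρ : Representation (ZMod 3) S E)
    (hfaith : Function.Injective ρ)
    (B : Subgroup S) (hB : Nat.card ↥B = 3) (b : S) (hb : Subgroup.zpowers b = B)
    (E₀ E₁ : Submodule (ZMod 3) E) (hE01 : E₀ ⊓ E₁ = ⊥) (hE01' : E₀ ⊔ E₁ = ⊤)
    (hE1 : ∀ v ∈ E₁, ρ b v = v) (hE0inv : ∀ v ∈ E₀, ρ b v ∈ E₀) (hE0 : Nat.card ↥E₀ = 27)
    (hind : ∃ v ∈ E₀, ρ b (ρ b v - v) - (ρ b v - v) ≠ 0)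
    (Q : Subgroup S) (hQ : Cfsg.IsElementaryAbelian 2 Q) (hQ4 : Nat.card ↥Q = 4)
    (hBQ : B ≤ Subgroup.normalizer (Q : Set S)) (hBQ' : ¬ B ≤ Subgroup.centralizer (Q : Set S))
    (P : Sylow 3 S) (hBZ : (Subgroup.center ↥(P : Subgroup S)).map (P : Subgroup S).subtype = B) :
    ((Cfsg.IsElementaryAbelian 2 ⁅Cfsg.pPrimeCore 3 S, B⁆ ∧ Nat.card ↥⁅Cfsg.pPrimeCore 3 S, B⁆ = 4) ∨
      (Cfsg.IsExtraspecial 2 ↥⁅Cfsg.pPrimeCore 3 S, B⁆ ∧ Nat.card ↥⁅Cfsg.pPrimeCore 3 S, B⁆ = 32 ∧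
        ∃ A : Subgroup S, A ≤ ⁅Cfsg.pPrimeCore 3 S, B⁆ ∧ Cfsg.IsElementaryAbelian 2 A ∧ Nat.card ↥A = 8)) ∧
    ∃ F₀ F₁ : Submodule (ZMod 3) E, F₀ ⊓ F₁ = ⊥ ∧ F₀ ⊔ F₁ = ⊤ ∧
      (∀ r ∈ ⁅Cfsg.pPrimeCore 3 S, B⁆, ∀ v ∈ F₁, ρ r v = v) ∧ (∀ r ∈ ⁅Cfsg.pPrimeCore 3 S, B⁆ ⊔ B, ∀ v ∈ F₀, ρ r v ∈ F₀) ∧
      (∀ r ∈ ⁅Cfsg.pPrimeCore 3 S, B⁆ ⊔ B, (∀ v ∈ F₀, ρ r v = v) → r = 1) ∧
      (∀ N : Submodule (ZMod 3) E, N ≤ F₀ → (∀ r ∈ ⁅Cfsg.pPrimeCore 3 S, B⁆ ⊔ B, ∀ v ∈ N, ρ r v ∈ N) → N = ⊥ ∨ N = F₀) := by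
  classical
  haveI : Fact (Nat.Prime 3) := ⟨Nat.prime_three⟩
  haveI : FiniteDimensional (ZMod 3) E := Module.Finite.of_finite
  haveI := Cfsg.Agent.Grp.pPrimeCore_isNormal (G := S) (p := 3)
  set K := Cfsg.pPrimeCore 3 S with hK
  set R := ⁅K, B⁆ with hR
  have hbB : b ∈ B := hb ▸ Subgroup.mem_zpowers b
  have hb3 : b ^ 3 = 1 := by
    rw [← hB, ← hb, Nat.card_zpowers]; exact pow_orderOf_eq_one b
  have hb3' : b * (b * b) = 1 := by rw [← pow_two, ← pow_succ', hb3]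
  have hBpow : ∀ x ∈ B, ∃ i : ℕ, x = b ^ i := fun x hx => by
    rw [← hb, (isOfFinOrder_of_finite b).mem_zpowers_iff_mem_range_orderOf, Finset.mem_image] at hx
    obtain ⟨i, -, rfl⟩ := hx
    exact ⟨i, rfl⟩
  have hK3 : ¬ 3 ∣ Nat.card K := Cfsg.Agent.Grp.pPrimeCore_not_dvd
  have hcop : (Nat.card B).Coprime (Nat.card K) := by
    rw [hB]; exact Nat.prime_three.coprime_iff_not_dvd.mpr hK3
  have hBK : B ≤ Subgroup.normalizer (K : Set S) := by
    rw [Subgroup.normalizer_eq_top]; exact le_top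
  have hRK : R ≤ K := Subgroup.commutator_le_left K B
  have hRR : ⁅R, B⁆ = R :=
    Cfsg.Agent.Grp.commutator_commutator_eq B K hBK hcop (Or.inr inferInstance)
  have hR3 : ¬ 3 ∣ Nat.card R := fun h => hK3 (h.trans (Subgroup.card_dvd_of_le hRK))
  have hbR : ∀ i : ℕ, ∀ r ∈ R, b ^ i * r * (b ^ i)⁻¹ ∈ R := by
    intro i r hr
    have hle : R ≤ R.comap (MulAut.conj (b ^ i)).toMonoidHom := by
      nth_rw 1 [hR]
      rw [Subgroup.commutator_le]
      intro k hk x hx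
      obtain ⟨j, rfl⟩ := hBpow x hx
      show b ^ i * ⁅k, b ^ j⁆ * (b ^ i)⁻¹ ∈ R
      rw [show b ^ i * ⁅k, b ^ j⁆ * (b ^ i)⁻¹ = ⁅b ^ i * k * (b ^ i)⁻¹, b ^ i * b ^ j * (b ^ i)⁻¹⁆ by
        simp only [commutatorElement_def]; group]
      refine Subgroup.commutator_mem_commutator (Subgroup.Normal.conj_mem inferInstance k hk _) ?_
      exact B.mul_mem (B.mul_mem (B.pow_mem hbB i) (B.pow_mem hbB j)) (B.inv_mem (B.pow_mem hbB i))
    exact hle hr
  have hdec : ∀ g ∈ R ⊔ B, ∃ r ∈ R, ∃ i : ℕ, g = r * b ^ i := by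
    intro g hg
    have hle : B ≤ Subgroup.normalizer (R : Set S) := by
      intro x hx
      obtain ⟨i, rfl⟩ := hBpow x hx
      rw [Subgroup.mem_normalizer_iff]
      intro h
      refine ⟨hbR i h, fun hh => ?_⟩
      obtain ⟨j, hj⟩ := hBpow _ (B.inv_mem (B.pow_mem hbB i))
      have := hbR j _ hh
      rw [← hj, inv_inv] at this
      simpa [mul_assoc] using this
    rw [← SetLike.mem_coe, Subgroup.coe_mul_of_right_le_normalizer_left R B hle] at hg
    obtain ⟨r, hr, x, hx, rfl⟩ := hg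
    obtain ⟨i, rfl⟩ := hBpow x hx
    exact ⟨r, hr, i, rfl⟩
  -- commutators with b generate
  have hgenR : R ≤ Subgroup.closure {x : S | ∃ r ∈ R, x = r * b * r⁻¹ * b⁻¹} := by
    rw [← hRR, Subgroup.commutator_le]
    intro r hr x hx
    obtain ⟨i, rfl⟩ := hBpow x hx
    rw [hRR]
    clear hx
    induction i with
    | zero => simp [commutatorElement_def]
    | succ i ih =>
      have e : ⁅r, b ^ (i + 1)⁆ = ⁅r, b ^ i⁆ * (b ^ i * r * (b ^ i)⁻¹ * b *
          (b ^ i * r * (b ^ i)⁻¹)⁻¹ * b⁻¹) := by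
        rw [pow_succ]; simp only [commutatorElement_def]; group
      rw [e]
      exact Subgroup.mul_mem _ (ih) (Subgroup.subset_closure ⟨_, hbR i r hr, rfl⟩)
  -- the four-group
  obtain ⟨⟨hQc⟩, hQ2⟩ := hQ
  have hQcomm : ∀ x ∈ Q, ∀ y ∈ Q, x * y = y * x := fun x hx y hy =>
    congrArg Subtype.val (hQc.comm (⟨x, hx⟩ : Q) ⟨y, hy⟩)
  obtain ⟨q, hq, hqb⟩ : ∃ q ∈ Q, q * b ≠ b * q := by
    by_contra hcon
    push Not at hcon
    refine hBQ' fun x hx => ?_
    obtain ⟨i, rfl⟩ := hBpow x hx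
    exact Subgroup.pow_mem _ (Subgroup.mem_centralizer_iff.mpr fun y hy => hcon y hy) i
  have hQn : ∀ x ∈ Q, b * x * b⁻¹ ∈ Q := fun x hx =>
    (Subgroup.mem_normalizer_iff.mp (hBQ hbB) x).mp hx
  have hqsq : ∀ x ∈ Q, x * x = 1 := fun x hx => by rw [← pow_two]; exact hQ2 x hx
  set q' := b * q * b⁻¹ with hq'
  set q'' := b * q' * b⁻¹ with hq''
  have hq'Q : q' ∈ Q := hQn q hq
  have hq''Q : q'' ∈ Q := hQn q' hq'Q
  have hq3 : b * q'' * b⁻¹ = q := by
    calc b * q'' * b⁻¹ = (b * (b * b)) * q * (b * (b * b))⁻¹ := by rw [hq'', hq']; group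
      _ = q := by rw [hb3', one_mul, inv_one, mul_one]
  have hne : q' ≠ q := fun h => hqb (by
    calc q * b = q' * b := by rw [h]
      _ = b * q := by rw [hq']; group)
  have hq1 : q ≠ 1 := fun h => hqb (by rw [h, one_mul, mul_one])
  have hq'1 : q' ≠ 1 := fun h => hq1 (by
    calc q = b⁻¹ * q' * b := by rw [hq']; group
      _ = 1 := by rw [h]; group)
  haveI : Fintype Q := Fintype.ofFinite Q
  have hall : ∀ x ∈ Q, x = 1 ∨ x = q ∨ x = q' ∨ x = q * q' := by
    intro x hx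
    have hne2 : q * q' ≠ 1 := fun h => hne (mul_left_cancel (h.trans (hqsq q hq).symm))
    have hu : ({1, ⟨q, hq⟩, ⟨q', hq'Q⟩, ⟨q * q', Q.mul_mem hq hq'Q⟩} : Finset Q) = Finset.univ := by
      refine Finset.eq_univ_of_card _ ?_
      rw [← Nat.card_eq_fintype_card, hQ4, Finset.card_insert_of_notMem,
        Finset.card_insert_of_notMem, Finset.card_pair]
      · simp [Subtype.ext_iff, hq1]
      · simp only [Finset.mem_insert, Finset.mem_singleton, Subtype.ext_iff, not_or]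
        exact ⟨fun h => hne h.symm, fun h => hq'1 (mul_left_cancel (h.symm.trans (mul_one q).symm))⟩
      · simp only [Finset.mem_insert, Finset.mem_singleton, Subtype.ext_iff, not_or]
        exact ⟨fun h => hq1 h.symm, fun h => hq'1 h.symm, fun h => hne2 h.symm⟩
    have h := hu ▸ Finset.mem_univ (⟨x, hx⟩ : Q)
    simpa [Subtype.ext_iff] using h
  have hq''eq : q'' = q * q' := by
    rcases hall q'' hq''Q with h | h | h | h
    · exact absurd (show q = 1 by rw [← hq3, h]; group) hq1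
    · exact absurd (show q' = q by
        calc q' = b * q'' * b⁻¹ := by rw [h]
          _ = q := hq3) hne
    · exact absurd (show q' = q by
        calc q' = q'' := h.symm
          _ = b * q' * b⁻¹ := hq''
          _ = b * q'' * b⁻¹ := by rw [h]
          _ = q := hq3) hne
    · exact h
  have hPb : ∀ p ∈ (P : Subgroup S), p * b = b * p := by
    intro p hp
    rw [← hBZ] at hbB
    obtain ⟨c, hc, rfl⟩ := hbB
    exact congrArg Subtype.val (Subgroup.mem_center_iff.mp hc ⟨p, hp⟩)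
  have hcK : ∀ x ∈ Q, x * b * x⁻¹ * b⁻¹ ∈ K := fun x hx => by
    refine four_le_core b hb3 P hPb x (hqsq x hx) (hqsq _ ?_)
    rw [show x * b * x⁻¹ * b⁻¹ = x * (b * x⁻¹ * b⁻¹) by group]
    exact Q.mul_mem hx (hQn _ (Q.inv_mem hx))
  have hcomm_eq : ∀ x ∈ Q, x * b * x⁻¹ * b⁻¹ = x * (b * x * b⁻¹) := fun x hx => by
    rw [inv_eq_of_mul_eq_one_right (hqsq x hx)]; group
  have hqc : q * b * q⁻¹ * b⁻¹ = q'' := by rw [hcomm_eq q hq, ← hq', hq''eq]
  have hq''K : q'' ∈ K := hqc ▸ hcK q hq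
  have hqK : q ∈ K := by rw [← hq3]; exact Subgroup.Normal.conj_mem inferInstance _ hq''K b
  have hq'K : q' ∈ K := Subgroup.Normal.conj_mem inferInstance _ hqK b
  have hqR : q ∈ R := by
    have h : q * b * q⁻¹ * b⁻¹ ∈ R := by
      have := Subgroup.commutator_mem_commutator hqK hbB
      rwa [commutatorElement_def] at this
    rw [hqc] at h
    rw [← hq3]
    simpa using hbR 1 _ h
  -- the average
  haveI : Fintype R := Fintype.ofFinite R
  set c : ZMod 3 := (Nat.card R : ZMod 3) with hc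
  have hc0 : c ≠ 0 := fun h => hR3 ((ZMod.natCast_eq_zero_iff _ _).mp h)
  have hcc : c * c = 1 := by
    rcases zmod3_cases c with h | h | h
    · exact absurd h hc0
    · rw [h, one_mul]
    · rw [h, neg_mul_neg, one_mul]
  let e : Module.End (ZMod 3) E := c • ∑ r : R, ρ r
  let F₀ : Submodule (ZMod 3) E := LinearMap.ker e
  let F₁ : Submodule (ZMod 3) E :=
    { carrier := {v | ∀ r ∈ R, ρ r v = v}
      add_mem' := fun {x y} hx hy r hr => by rw [map_add, hx r hr, hy r hr]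
      zero_mem' := fun r _ => map_zero _
      smul_mem' := fun k v hv r hr => by rw [map_smul, hv r hr] }
  have he_apply : ∀ v, e v = c • ∑ r : R, ρ r v := fun v => by
    simp only [e, LinearMap.smul_apply, LinearMap.sum_apply]
  have hemem : ∀ v, e v ∈ F₁ := fun v r hr => by
    rw [he_apply, map_smul, map_sum]
    refine congrArg (c • ·) (Fintype.sum_equiv (Equiv.mulLeft (⟨r, hr⟩ : R)) _ _ fun x => ?_)
    show ρ r (ρ (x : S) v) = ρ ((r : S) * x) v
    rw [map_mul]; rfl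
  have hefix : ∀ v ∈ F₁, e v = v := fun v hv => by
    rw [he_apply, Finset.sum_congr rfl fun (r : R) _ => hv r r.2, Finset.sum_const, Finset.card_univ,
      ← Nat.card_eq_fintype_card, ← Nat.cast_smul_eq_nsmul (ZMod 3), ← hc, smul_smul, hcc, one_smul]
  have hinf : F₀ ⊓ F₁ = ⊥ := (Submodule.eq_bot_iff _).mpr fun v hv => by
    rw [← hefix v hv.2]; exact LinearMap.mem_ker.mp hv.1
  have hsup : F₀ ⊔ F₁ = ⊤ := eq_top_iff.mpr fun v _ => by
    rw [show v = (v - e v) + e v by abel]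
    exact Submodule.add_mem_sup (LinearMap.mem_ker.mpr (by
      rw [map_sub, hefix _ (hemem v), sub_self])) (hemem v)
  have hRF : ∀ r ∈ R, ∀ v, e (ρ r v) = e v := fun r hr v => by
    rw [he_apply, he_apply]
    refine congrArg (c • ·) (Fintype.sum_equiv (Equiv.mulRight (⟨r, hr⟩ : R)) _ _ fun x => ?_)
    show ρ (x : S) (ρ r v) = ρ ((x : S) * r) v
    rw [map_mul]; rfl
  have hbF : ∀ v, e (ρ b v) = ρ b (e v) := fun v => by
    rw [he_apply, he_apply, map_smul, map_sum]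
    refine congrArg (c • ·) ?_
    let φ : R ≃ R :=
      { toFun := fun x => ⟨b ^ 2 * x * (b ^ 2)⁻¹, hbR 2 x x.2⟩
        invFun := fun x => ⟨b ^ 1 * x * (b ^ 1)⁻¹, hbR 1 x x.2⟩
        left_inv := fun x => Subtype.ext (by
          show b ^ 1 * (b ^ 2 * (x : S) * (b ^ 2)⁻¹) * (b ^ 1)⁻¹ = x
          calc b ^ 1 * (b ^ 2 * (x : S) * (b ^ 2)⁻¹) * (b ^ 1)⁻¹ = b ^ 3 * (x : S) * (b ^ 3)⁻¹ := by group
            _ = (x : S) := by rw [hb3, one_mul, inv_one, mul_one])
        right_inv := fun x => Subtype.ext (by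
          show b ^ 2 * (b ^ 1 * (x : S) * (b ^ 1)⁻¹) * (b ^ 2)⁻¹ = x
          calc b ^ 2 * (b ^ 1 * (x : S) * (b ^ 1)⁻¹) * (b ^ 2)⁻¹ = b ^ 3 * (x : S) * (b ^ 3)⁻¹ := by group
            _ = (x : S) := by rw [hb3, one_mul, inv_one, mul_one]) }
    refine Fintype.sum_equiv φ _ _ fun x => ?_
    show ρ (x : S) (ρ b v) = ρ b (ρ (b ^ 2 * (x : S) * (b ^ 2)⁻¹) v)
    have e1 : b * (b ^ 2 * (x : S) * (b ^ 2)⁻¹) = (x : S) * b := by
      calc b * (b ^ 2 * (x : S) * (b ^ 2)⁻¹) = b ^ 3 * x * (b ^ 3)⁻¹ * b := by group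
        _ = (x : S) * b := by rw [hb3, one_mul, inv_one, mul_one]
    calc ρ (x : S) (ρ b v) = ρ ((x : S) * b) v := by rw [map_mul]; rfl
      _ = _ := by rw [← e1, map_mul]; rfl
  have hmulρ : ∀ x y v, ρ (x * y) v = ρ x (ρ y v) := fun x y v => by rw [map_mul]; rfl
  have hbpowF : ∀ i : ℕ, ∀ v ∈ F₀, ρ (b ^ i) v ∈ F₀ := by
    intro i
    induction i with
    | zero => intro v hv; simpa using hv
    | succ i ih =>
      intro v hv
      rw [pow_succ', hmulρ, LinearMap.mem_ker, hbF, LinearMap.mem_ker.mp (ih v hv), map_zero]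
  have hinv : ∀ r ∈ R ⊔ B, ∀ v ∈ F₀, ρ r v ∈ F₀ := by
    intro g hg v hv
    obtain ⟨r, hr, i, rfl⟩ := hdec g hg
    rw [hmulρ, LinearMap.mem_ker, hRF r hr]
    exact LinearMap.mem_ker.mp (hbpowF i v hv)
  -- the group acting
  let Γ := ↥(R ⊔ B)
  let R' : Subgroup Γ := R.subgroupOf (R ⊔ B)
  let b' : Γ := ⟨b, Subgroup.mem_sup_right hbB⟩
  let a' : Γ := ⟨q, Subgroup.mem_sup_left hqR⟩
  let σ : Γ →* Module.End (ZMod 3) F₀ :=
    { toFun := fun g => (ρ (g : S)).restrict (hinv g g.2)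
      map_one' := LinearMap.ext fun v => Subtype.ext (by
        show ρ ((1 : Γ) : S) (v : E) = v
        rw [OneMemClass.coe_one, map_one]; rfl)
      map_mul' := fun g h => LinearMap.ext fun v => Subtype.ext (hmulρ (g : S) h v) }
  have hR'card : Nat.card R' = Nat.card R :=
    Nat.card_congr (Subgroup.subgroupOfEquivOfLe le_sup_left).toEquiv
  -- faithfulness on the complement
  have hRfix : ∀ r ∈ R, (∀ v ∈ F₀, ρ r v = v) → r = 1 := fun r hr h => hfaith (by
    rw [map_one]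
    refine LinearMap.ext fun v => ?_
    obtain ⟨x, hx, y, hy, rfl⟩ := Submodule.mem_sup.mp (hsup ▸ Submodule.mem_top (x := v))
    rw [map_add, h x hx, hy r hr]; rfl)
  have hq_ne : σ a' ≠ 1 := fun h => hq1 (hRfix q hqR fun v hv =>
    congrArg Subtype.val (LinearMap.congr_fun h ⟨v, hv⟩))
  have hb3G : b' ^ 3 = 1 := Subtype.ext hb3
  have h4 : Four b' R' a' :=
    { mem := hqR
      sq := Subtype.ext (hqsq q hq)
      ne := fun h => hq1 (congrArg Subtype.val h)
      comm := Subtype.ext (hQcomm q hq q' hq'Q)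
      prod := Subtype.ext (by
        show q * (b * q * b⁻¹) * (b ^ 2 * q * (b ^ 2)⁻¹) = 1
        rw [← hq', show b ^ 2 * q * (b ^ 2)⁻¹ = q'' by rw [hq'', hq', pow_two]; group, hq''eq]
        exact hqsq _ (Q.mul_mem hq hq'Q)) }
  have hσfix : ∀ r ∈ R, ∀ (hr : r ∈ R ⊔ B), σ ⟨r, hr⟩ = 1 → r = 1 := fun r hr hr' h =>
    hRfix r hr fun v hv => congrArg Subtype.val (LinearMap.congr_fun h ⟨v, hv⟩)
  have hσb : σ b' ≠ 1 := by
    intro h
    have hbot : R ≤ ⊥ := hgenR.trans ((Subgroup.closure_le _).mpr fun x ⟨r, hr, hx⟩ => by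
      have hxR : x ∈ R := by
        rw [hx, show r * b * r⁻¹ * b⁻¹ = r * (b ^ 1 * r⁻¹ * (b ^ 1)⁻¹) by group]
        exact R.mul_mem hr (hbR 1 _ (R.inv_mem hr))
      refine (Subgroup.mem_bot).mpr (hσfix x hxR (Subgroup.mem_sup_left hxR) ?_)
      rw [show (⟨x, Subgroup.mem_sup_left hxR⟩ : Γ) =
        ⟨r, Subgroup.mem_sup_left hr⟩ * b' * (⟨r, Subgroup.mem_sup_left hr⟩ : Γ)⁻¹ * b'⁻¹ from
        Subtype.ext hx, map_mul, map_mul, map_mul, h, mul_one, ← map_mul, mul_inv_cancel, map_one,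
        one_mul]
      have e : σ b'⁻¹ * σ b' = 1 := by rw [← map_mul, inv_mul_cancel, map_one]
      rwa [h, mul_one] at e)
    exact hq1 ((Subgroup.mem_bot).mp (hbot hqR))
  have hinj : Function.Injective σ := by
    rw [injective_iff_map_eq_one]
    rintro ⟨g, hg⟩ hgσ
    obtain ⟨r, hr, i, rfl⟩ := hdec g hg
    set g' : Γ := ⟨r, Subgroup.mem_sup_left hr⟩ with hg'
    have hsplit : σ g' * σ (b' ^ i) = 1 := by
      rw [← map_mul]; exact hgσ
    have hpow3 : σ (b' ^ i) ^ 3 = 1 := by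
      rw [← map_pow, ← pow_mul, mul_comm, pow_mul, hb3G, one_pow, map_one]
    have hgcard : σ g' ^ Nat.card R = 1 := by
      rw [← map_pow]
      refine (congrArg σ (Subtype.ext (?_ : r ^ Nat.card R = 1))).trans (map_one σ)
      exact congrArg Subtype.val (pow_card_eq_one' (x := (⟨r, hr⟩ : R)))
    have hinvb : σ (b' ^ i) * σ g' = 1 := by
      have e : σ g'⁻¹ * σ g' = 1 := by rw [← map_mul, inv_mul_cancel, map_one]
      have : σ g'⁻¹ = σ (b' ^ i) := by
        calc σ g'⁻¹ = σ g'⁻¹ * (σ g' * σ (b' ^ i)) := by rw [hsplit, mul_one]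
          _ = σ (b' ^ i) := by rw [← mul_assoc, e, one_mul]
      rwa [← this]
    have hbc : σ (b' ^ i) ^ Nat.card R = 1 := by
      have hc' : Commute (σ (b' ^ i)) (σ g') := hinvb.trans hsplit.symm
      have := hc'.mul_pow (Nat.card R)
      rwa [hinvb, one_pow, hgcard, mul_one, eq_comm] at this
    have hbi : σ (b' ^ i) = 1 := by
      have h1 : σ (b' ^ i) ^ Nat.gcd 3 (Nat.card R) = 1 := pow_gcd_eq_one.mpr ⟨hpow3, hbc⟩
      rwa [Nat.prime_three.coprime_iff_not_dvd.mpr hR3 |>.gcd_eq_one, pow_one] at h1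
    have hr1 : r = 1 := hσfix r hr (Subgroup.mem_sup_left hr) (by
      rw [hbi, mul_one] at hsplit; exact hsplit)
    subst hr1
    refine Subtype.ext ?_
    show (1 : S) * b ^ i = 1
    rw [one_mul, pow_eq_pow_mod i hb3]
    have hm : i % 3 = 0 := by
      by_contra hne'
      apply hσb
      have hbm : σ (b' ^ (i % 3)) = 1 := by
        have : b' ^ i = b' ^ (i % 3) := by
          rw [← Nat.div_add_mod i 3, pow_add, pow_mul, hb3G, one_pow, one_mul, Nat.mul_add_mod]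
          simp
        rw [← this]; exact hbi
      have hlt : i % 3 < 3 := Nat.mod_lt _ (by norm_num)
      interval_cases hh : i % 3
      · exact absurd rfl hne'
      · rwa [pow_one] at hbm
      · calc σ b' = σ ((b' ^ 2) * (b' ^ 2)) := by
              rw [← pow_add, show (2 + 2 : ℕ) = 3 + 1 by norm_num, pow_add, hb3G, one_mul, pow_one]
          _ = 1 := by rw [map_mul, hbm, one_mul]
    rw [hm, pow_zero]
  have hgen' : R' ≤ Subgroup.closure {x : Γ | ∃ r ∈ R', x = r * b' * r⁻¹ * b'⁻¹} := by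
    intro x hx
    have hmap : R ≤ (Subgroup.closure {x : Γ | ∃ r ∈ R', x = r * b' * r⁻¹ * b'⁻¹}).map
        (R ⊔ B).subtype := hgenR.trans ((Subgroup.closure_le _).mpr fun y ⟨r, hr, hy⟩ =>
      ⟨⟨r, Subgroup.mem_sup_left hr⟩ * b' * (⟨r, Subgroup.mem_sup_left hr⟩ : Γ)⁻¹ * b'⁻¹,
        Subgroup.subset_closure ⟨_, hr, rfl⟩, hy.symm⟩)
    obtain ⟨y, hy, hyx⟩ := hmap hx
    rwa [show x = y from Subtype.ext hyx.symm]
  -- rank
  have hcube := sub_one_cube (σ := σ) hb3G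
  have hsq0 : (σ b' - 1) * (σ b' - 1) ≠ 0 := by
    obtain ⟨w, hw0, hw, hw'⟩ := exists_double_neg hb3G h4 hq_ne
    intro h
    refine orbit_sum_notMem hb3G h4 (U := ⊥)
      (fun u hu => by rw [(Submodule.mem_bot (ZMod 3)).mp hu, map_zero])
      (fun u hu => by rw [(Submodule.mem_bot (ZMod 3)).mp hu, map_zero]) hw0 hw hw' ?_
    rw [h]; exact Submodule.zero_mem _
  have hρcube : (ρ b - 1) * ((ρ b - 1) * (ρ b - 1)) = 0 := sub_one_cube (σ := ρ) hb3
  have hrankE : finrank (ZMod 3) (LinearMap.range (ρ b - 1)) = 2 := by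
    refine rank_of_block _ hρcube E₀ E₁ hE01' (fun v hv => ?_) (fun v hv => ?_) hE0 ?_
    · rw [LinearMap.sub_apply, Module.End.one_apply, hE1 v hv, sub_self]
    · rw [LinearMap.sub_apply, Module.End.one_apply]; exact E₀.sub_mem (hE0inv v hv) hv
    · obtain ⟨v, hv, hv'⟩ := hind
      exact ⟨v, hv, hv'⟩
  have hrank : finrank (ZMod 3) (LinearMap.range (σ b' - 1)) = 2 := by
    refine le_antisymm ?_ (two_le_rank _ hcube hsq0)
    rw [← hrankE]
    let f : LinearMap.range (σ b' - 1) →ₗ[ZMod 3] LinearMap.range (ρ b - 1) :=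
      { toFun := fun v => ⟨((v : F₀) : E), by
          obtain ⟨u, hu⟩ := v.2
          exact ⟨(u : E), by rw [← hu]; rfl⟩⟩
        map_add' := fun u v => rfl
        map_smul' := fun k v => rfl }
    exact LinearMap.finrank_le_finrank_of_injective (f := f) fun u v h =>
      Subtype.ext (Subtype.ext (congrArg (fun x : LinearMap.range (ρ b - 1) => (x : E)) h))
  have hfixσ : ∀ v : F₀, (∀ r ∈ R', σ r v = v) → v = 0 := fun v hv => Subtype.ext (by
    have h1 : (v : E) ∈ F₁ := fun r hr =>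
      congrArg Subtype.val (hv ⟨r, Subgroup.mem_sup_left hr⟩ hr)
    exact (Submodule.mem_bot (ZMod 3)).mp (hinf ▸ ⟨v.2, h1⟩))
  have hquot : ∀ (U : Submodule (ZMod 3) F₀) (v : F₀), (∀ r ∈ R', σ r v - v ∈ U) → v ∈ U := by
    intro U v hv
    have hsum : (∑ r : R, (σ ⟨r, Subgroup.mem_sup_left r.2⟩ v - v)) ∈ U :=
      U.sum_mem fun r _ => hv _ r.2
    have he : ∑ r : R, σ ⟨r, Subgroup.mem_sup_left r.2⟩ v = 0 := by
      refine Subtype.ext ?_
      rw [Submodule.coe_sum]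
      show ∑ r : R, ρ (r : S) (v : E) = 0
      have h0 : e (v : E) = 0 := LinearMap.mem_ker.mp v.2
      rw [he_apply] at h0
      exact (smul_eq_zero.mp h0).resolve_left hc0
    rw [Finset.sum_sub_distrib, he, zero_sub, Finset.sum_const, Finset.card_univ,
      ← Nat.card_eq_fintype_card, ← Nat.cast_smul_eq_nsmul (ZMod 3), ← hc] at hsum
    have := U.smul_mem c (U.neg_mem hsum)
    rwa [neg_neg, smul_smul, hcc, one_smul] at this
  have hirr : ∀ W : Submodule (ZMod 3) F₀, (∀ g : Γ, ∀ v ∈ W, σ g v ∈ W) → W = ⊥ ∨ W = ⊤ :=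
    irreducible_of_four hb3G h4 hinj hgen' hfixσ hquot hrank
  have hR'n : R'.Normal := ⟨fun x hx g => by
    obtain ⟨r, hr, i, hg⟩ := hdec g g.2
    show (g : S) * x * (g : S)⁻¹ ∈ R
    rw [hg, show r * b ^ i * (x : S) * (r * b ^ i)⁻¹ = r * (b ^ i * x * (b ^ i)⁻¹) * r⁻¹ by group]
    exact R.mul_mem (R.mul_mem hr (hbR i _ hx)) (R.inv_mem hr)⟩
  have hC : Cubic σ b' R' :=
    { inj := hinj
      irr := hirr
      b3 := hb3G
      normal := hR'n
      odd3 := hR'card ▸ hR3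
      decomp := fun g => by
        obtain ⟨r, hr, i, hg⟩ := hdec g g.2
        exact ⟨⟨r, Subgroup.mem_sup_left hr⟩, hr, i, Subtype.ext hg⟩
      gen := hgen'
      rank2 := hrank
      cubic := hsq0 }
  haveI : Group.IsSolvable Γ := inferInstanceAs (Group.IsSolvable ↥(R ⊔ B))
  have hS := shape hC h4
  let up : ∀ x ∈ R, Γ := fun x hx => ⟨x, Subgroup.mem_sup_left hx⟩
  refine ⟨?_, F₀, F₁, hinf, hsup, fun r hr v hv => hv r hr, hinv, fun r hr h => ?_, fun N hN hNinv => ?_⟩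
  · rcases hS with ⟨hab, hsq, hcard⟩ | ⟨hcard, z, hzR, hz1, hzz, hzc, hcen, hcom, hsq, A, hAR, hA8, hAab, hAsq⟩
    · refine Or.inl ⟨⟨⟨⟨fun x y => Subtype.ext ?_⟩⟩, fun x hx => ?_⟩, hR'card ▸ hcard⟩
      · exact congrArg (Subtype.val : Γ → S) (hab (up x x.2) x.2 (up y y.2) y.2)
      · rw [pow_two]
        exact congrArg (Subtype.val : Γ → S) (hsq (up x hx) hx)
    · refine Or.inr ⟨?_, hR'card ▸ hcard, A.map (R ⊔ B).subtype, ?_,
        ⟨⟨⟨fun x y => Subtype.ext ?_⟩⟩, ?_⟩, ?_⟩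
      · set zR : R := ⟨(z : S), hzR⟩ with hzRdef
        have hzR1 : zR ≠ 1 := fun h => hz1 (Subtype.ext (congrArg Subtype.val h : (z : S) = 1))
        have hZeq : (Subgroup.center R : Set R) = {1, zR} := Set.ext fun x => by
          simp only [SetLike.mem_coe, Subgroup.mem_center_iff, Set.mem_insert_iff,
            Set.mem_singleton_iff]
          constructor
          · intro h
            rcases hcen (up x x.2) x.2 (fun y hy => Subtype.ext
              (congrArg Subtype.val (h ⟨y, hy⟩) : (y : S) * x = x * y).symm) with h' | h'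
            · exact Or.inl (Subtype.ext (congrArg Subtype.val h' : (x : S) = 1))
            · exact Or.inr (Subtype.ext (congrArg Subtype.val h' : (x : S) = z))
          · rintro (rfl | rfl) g
            · rw [one_mul, mul_one]
            · exact Subtype.ext (congrArg (Subtype.val : Γ → S) (hzc (up g g.2) g.2))
        have hzmem : zR ∈ Subgroup.center R := by
          show zR ∈ (Subgroup.center R : Set R)
          rw [hZeq]; exact Or.inr rfl
        have hzcard : Nat.card (Subgroup.center R) = 2 := by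
          rw [← SetLike.coe_sort_coe, hZeq, Nat.card_coe_set_eq, Set.ncard_pair (Ne.symm hzR1)]
        have hp : IsPGroup 2 R := IsPGroup.of_card (n := 5) (by rw [← hR'card, hcard]; norm_num)
        have hmem : ∀ x : R, (x : S) = 1 ∨ (x : S) = z → x ∈ Subgroup.center R := fun x hx => by
          rcases hx with h | h
          · rw [show x = 1 from Subtype.ext h]; exact one_mem _
          · rw [show x = zR from Subtype.ext h]; exact hzmem
        have hcomle : commutator R ≤ Subgroup.center R := by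
          rw [commutator_def, Subgroup.commutator_le]
          intro x _ y _
          refine hmem _ ?_
          rw [commutatorElement_def]
          exact (hcom (up x x.2) x.2 (up y y.2) y.2).imp
            (fun h => congrArg (Subtype.val : Γ → S) h) (fun h => congrArg (Subtype.val : Γ → S) h)
        -- a noncommuting pair
        obtain ⟨x, y, hxy⟩ : ∃ x y : R, ⁅x, y⁆ = zR := by
          by_contra hcon
          push Not at hcon
          have hall : ∀ x : R, x ∈ Subgroup.center R := fun x => Subgroup.mem_center_iff.mpr fun y => by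
            refine (commutatorElement_eq_one_iff_mul_comm.mp ?_)
            rcases hcom (up y y.2) y.2 (up x x.2) x.2 with h | h
            · exact Subtype.ext (congrArg (Subtype.val : Γ → S) h)
            · exact absurd (Subtype.ext (congrArg (Subtype.val : Γ → S) h) : ⁅y, x⁆ = zR)
                (hcon y x)
          have : Nat.card (Subgroup.center R) = Nat.card R := by
            rw [(Subgroup.eq_top_iff' _).mpr hall, Subgroup.card_top]
          rw [hzcard, ← hR'card, hcard] at this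
          omega
        have hcomeq : commutator R = Subgroup.center R := by
          refine le_antisymm hcomle fun w hw => ?_
          rcases (hZeq ▸ hw : w ∈ ({1, zR} : Set R)) with rfl | rfl
          · exact one_mem _
          · rw [← hxy, commutator_def]
            exact Subgroup.commutator_mem_commutator (Subgroup.mem_top x) (Subgroup.mem_top y)
        haveI : Fact (Nat.Prime 2) := ⟨Nat.prime_two⟩
        haveI : Group.IsNilpotent R := hp.isNilpotent
        refine ⟨⟨hp, le_antisymm ?_ ?_, hcomeq⟩, hzcard⟩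
        · refine Cfsg.Agent.Grp.frattini_le_of_elementary Nat.prime_two hcomle fun w => hmem _ ?_
          rw [SubmonoidClass.coe_pow, pow_two]
          exact (hsq (up w w.2) w.2).imp
            (fun h => congrArg (Subtype.val : Γ → S) h) (fun h => congrArg (Subtype.val : Γ → S) h)
        · rw [← hcomeq]
          exact Cfsg.Agent.Grp.pGroup_commutator_le_frattini hp
      · rintro _ ⟨x, hx, rfl⟩
        exact hAR hx
      · obtain ⟨x', hx', ex⟩ := x.2
        obtain ⟨y', hy', ey⟩ := y.2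
        show (x : S) * y = y * x
        rw [← ex, ← ey, ← map_mul, hAab x' hx' y' hy', map_mul]
      · rintro _ ⟨x, hx, rfl⟩
        rw [← map_pow, pow_two, hAsq x hx, map_one]
      · rw [Subgroup.card_map_of_injective (Subgroup.subtype_injective _), hA8]
  · have e1 : σ (⟨r, hr⟩ : Γ) = 1 :=
      LinearMap.ext fun (v : F₀) => Subtype.ext (h (v : E) v.2)
    exact congrArg (Subtype.val : Γ → S) (hinj (e1.trans (map_one σ).symm))
  · let W : Submodule (ZMod 3) F₀ := N.comap F₀.subtype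
    rcases hirr W (fun g v hv => hNinv g g.2 v hv) with h | h
    · left
      refine (Submodule.eq_bot_iff N).mpr fun v hv => ?_
      have : (⟨v, hN hv⟩ : F₀) ∈ W := hv
      rw [h, Submodule.mem_bot] at this
      exact congrArg Subtype.val this
    · right
      refine le_antisymm hN fun v hv => ?_
      exact (h.symm ▸ Submodule.mem_top : (⟨v, hv⟩ : F₀) ∈ W)

/-- Let S be a finite solvable group acting faithfully on a finite-dimensional space E over the field with three elements, with O₃(S) = 1. Let B ≤ S have order 3 and suppose: E = E₀ ⊕ E₁ with B fixing E₁ pointwise, E₀ B-invariant of order 27 and indecomposable under B (a generator of B has a single Jordan block on E₀); B normalizes but does not centralize some subgroup Q of S that is elementary abelian of order 4; and B is the centre of a Sylow 3-subgroup of S. Put R = [O_{3'}(S), B]. Then R is elementary abelian of order 4 or extraspecial of order 32 containing an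 elementary abelian subgroup of order 8 (a central product of two quaternion groups), and E is the direct sum of a subspace fixed pointwise by R and an RB-invariant subspace on which the subgroup RB acts faithfully and irreducibly. -/
theorem result {S : Type*} [Group S] [Finite S]
    [Group.IsSolvable S] {E : Type*} [AddCommGroup E] [Module (ZMod 3) E] [Finite E] (ρ : Representation (ZMod 3) S E)
    (hfaith : Function.Injective ρ) (hO3 : Cfsg.pCore 3 S = ⊥)
    (B : Subgroup S) (hB : Nat.card ↥B = 3) (b : S) (hb : Subgroup.zpowers b = B)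
    (E₀ E₁ : Submodule (ZMod 3) E) (hE01 : E₀ ⊓ E₁ = ⊥) (hE01' : E₀ ⊔ E₁ = ⊤)
    (hE1 : ∀ v ∈ E₁, ρ b v = v) (hE0inv : ∀ v ∈ E₀, ρ b v ∈ E₀) (hE0 : Nat.card ↥E₀ = 27)
    (hind : ∃ v ∈ E₀, ρ b (ρ b v - v) - (ρ b v - v) ≠ 0)
    (Q : Subgroup S) (hQ : Cfsg.IsElementaryAbelian 2 Q) (hQ4 : Nat.card ↥Q = 4)
    (hBQ : B ≤ Subgroup.normalizer (Q : Set S)) (hBQ' : ¬ B ≤ Subgroup.centralizer (Q : Set S))
    (P : Sylow 3 S) (hBZ : (Subgroup.center ↥(P : Subgroup S)).map (P : Subgroup S).subtype = B) :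
    ((Cfsg.IsElementaryAbelian 2 ⁅Cfsg.pPrimeCore 3 S, B⁆ ∧ Nat.card ↥⁅Cfsg.pPrimeCore 3 S, B⁆ = 4) ∨
      (Cfsg.IsExtraspecial 2 ↥⁅Cfsg.pPrimeCore 3 S, B⁆ ∧ Nat.card ↥⁅Cfsg.pPrimeCore 3 S, B⁆ = 32 ∧
        ∃ A : Subgroup S, A ≤ ⁅Cfsg.pPrimeCore 3 S, B⁆ ∧ Cfsg.IsElementaryAbelian 2 A ∧ Nat.card ↥A = 8)) ∧
    ∃ F₀ F₁ : Submodule (ZMod 3) E, F₀ ⊓ F₁ = ⊥ ∧ F₀ ⊔ F₁ = ⊤ ∧
      (∀ r ∈ ⁅Cfsg.pPrimeCore 3 S, B⁆, ∀ v ∈ F₁, ρ r v = v) ∧ (∀ r ∈ ⁅Cfsg.pPrimeCore 3 S, B⁆ ⊔ B, ∀ v ∈ F₀, ρ r v ∈ F₀) ∧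
      (∀ r ∈ ⁅Cfsg.pPrimeCore 3 S, B⁆ ⊔ B, (∀ v ∈ F₀, ρ r v = v) → r = 1) ∧
      (∀ N : Submodule (ZMod 3) E, N ≤ F₀ → (∀ r ∈ ⁅Cfsg.pPrimeCore 3 S, B⁆ ⊔ B, ∀ v ∈ N, ρ r v ∈ N) → N = ⊥ ∨ N = F₀) := by
  exact main ρ hfaith B hB b hb E₀ E₁ hE01 hE01' hE1 hE0inv hE0 hind Q hQ hQ4 hBQ hBQ' P hBZ

end Cfsg.Agent.S4415
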