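import Cfsg.Statements.S4417
import Mathlib
import Cfsg.Agent.Lib.Grp.DerivedLengthGL

set_option maxHeartbeats 1000000
set_option maxRecDepth 8000

set_option autoImplicit false
open Cfsg

namespace Cfsg.Agent.S4417

/-- Let F be a field with q elements, p a prime not dividing q, and e the multiplicative order of q modulo p; assume e ≤ n. Then every p-subgroup of GL_n(F) has derived length at most ⌊log₂(n/e)⌋ + 1: that term of its derived series is trivial (n/e is the integer quotient). -/
theorem result {F : Type*} [Field F] [Fintype F] (q : ℕ) (hF : Fintype.card F = q) (p : ℕ) [Fact p.Prime] (hpq : ¬ p ∣ q) (n e : ℕ) (he : e = orderOf (q : ZMod p)) (hen : e ≤ n) (P : Subgroup (GL (Fin n) F)) (hP : IsPGroup p P) : derivedSeries ↥P (Nat.log 2 (n / e) + 1) = ⊥ := by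

  have hqc : Nat.card F = q := by rw [Nat.card_eq_fintype_card, hF]
  have hp0 : (p : F) ≠ 0 := by
    intro h
    haveI : CharP F p := (CharP.charP_iff_prime_eq_zero (Fact.out : p.Prime)).mpr h
    obtain ⟨k, -, hk⟩ := FiniteField.card F p
    exact hpq (hF ▸ hk ▸ dvd_pow_self p k.pos.ne')
  let toEnd : GL (Fin n) F →* Module.End F (Fin n → F) :=
    (Matrix.toLinAlgEquiv' (R := F) (n := Fin n)).toAlgHom.toRingHom.toMonoidHom.comp (Units.coeHom (Matrix (Fin n) (Fin n) F))
  have htoEnd : Function.Injective toEnd := fun a b h =>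
    Units.ext ((Matrix.toLinAlgEquiv' (R := F) (n := Fin n)).injective h)
  have hb := Cfsg.Agent.Grp.DerivedLength.finite_field_bound hp0 n P hP (Fin n → F) (toEnd.comp P.subtype) (Module.finrank_fin_fun F).le
  rw [hqc, ← he, (MonoidHom.ker_eq_bot_iff _).mpr (fun a b h => Subtype.ext (htoEnd h)), le_bot_iff] at hb
  refine le_bot_iff.mp (hb ▸ derivedSeries_antitone _ ?_)
  have hlog : Nat.log p (n / e) ≤ Nat.log 2 (n / e) := Nat.log_anti_left Nat.one_lt_two (Fact.out : p.Prime).two_le
  omega

end Cfsg.Agent.S4417
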