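import Cfsg.Statements.S4419
import Cfsg.Agent.S0640
import Cfsg.Agent.Lib.Transfer.Frobenius
import Cfsg.Agent.Lib.Fus.MetacyclicTwoAut
import Cfsg.Agent.Lib.Fus.Metacyclic
import Cfsg.Agent.Lib.Char.FongCores
import Cfsg.Agent.Lib.Grp.Coprime

set_option maxHeartbeats 1000000
set_option maxRecDepth 8000

set_option autoImplicit false
open Cfsg

namespace Cfsg.Agent.S4419

theorem aut_dvd {Q : Type*} [Group Q] [Finite Q] {p q : ℕ} [hp : Fact p.Prime] [hq : Fact q.Prime] (hqp : q ≠ p)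
    (hQ : IsPGroup p Q) (hm : Cfsg.IsMetacyclic Q) (α : MulAut Q) (hα : α ^ q = 1) (hne : α ≠ 1) :
    q ∣ p ^ 2 - 1 := by
  rcases eq_or_ne p 2 with rfl | hp2
  · have hfix : ∀ x, α x ∈ frattini Q ↔ x ∈ frattini Q := fun x => by
      conv_rhs => rw [← Subgroup.Characteristic.fixed (H := frattini Q) inferInstance α]
      rfl
    let β : MulAut (Q ⧸ frattini Q) := QuotientGroup.congr (frattini Q) (frattini Q) α (by
      ext x
      constructor
      · rintro ⟨y, hy, rfl⟩; exact (hfix y).2 hy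
      · intro hx; exact ⟨α.symm x, (hfix _).1 (by simpa using hx), α.apply_symm_apply x⟩)
    have hβv : ∀ x : Q, β (x : Q ⧸ frattini Q) = ((α x : Q) : Q ⧸ frattini Q) := fun x => rfl
    have hβpow : ∀ (n : ℕ) (x : Q), (β ^ n) (x : Q ⧸ frattini Q) = (((α ^ n) x : Q) : Q ⧸ frattini Q) := by
      intro n
      induction n with
      | zero => intro x; rfl
      | succ n ih => intro x; rw [pow_succ', pow_succ', MulAut.mul_apply, MulAut.mul_apply, ih, hβv]
    have hβq : β ^ q = 1 := MulEquiv.ext fun z => by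
      obtain ⟨x, rfl⟩ := QuotientGroup.mk_surjective z
      rw [hβpow, hα]; rfl
    refine S0640.dvd_sq_sub_one hqp (hQ.to_quotient _) β hβq (fun h => hne ?_) (Or.inl ?_)
    · refine Fus.MetaTwo.aut_eq_one hqp hQ hα fun x => QuotientGroup.eq.1 ?_
      rw [← hβv, h]; rfl
    · exact Fus.MetaTwo.frattini_index_le hQ hm
  · obtain ⟨V, hV, -, hVc⟩ := Fus.exists_omega_metacyclic hp2 hQ hm
    have hrk : Cfsg.PRankLE p 2 Q := fun A _ hA =>
      (Subgroup.card_le_of_le (K := V) fun a ha => (hV a).2 (hA a ha)).trans hVc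
    have hd : q ∣ Nat.card (MulAut Q) := by
      haveI : Finite (MulAut Q) := Finite.of_injective (fun e : MulAut Q => (e : Q → Q)) DFunLike.coe_injective
      have h := orderOf_dvd_natCard α
      rwa [orderOf_eq_prime hα hne] at h
    exact (S0640.result hp2 hQ hrk q hq.out hqp hd).1


/-- Let p be a prime and G a finite group whose Sylow p-subgroups are metacyclic (a cyclic normal subgroup with cyclic quotient). Then G has a normal p-complement if and only if the order of G/O_{p′,p}(G) is coprime to p² − 1. -/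
theorem result {G : Type*} [Group G] [Finite G] (p : ℕ) [Fact p.Prime] (S : Sylow p G) (hS : Cfsg.IsMetacyclic ↥(S : Subgroup G)) : Cfsg.HasNormalPComplement p G ↔ Nat.Coprime (Nat.card (G ⧸ Cfsg.pPrimePCore p G)) (p ^ 2 - 1) := by

  haveI hK' := Grp.pPrimeCore_isNormal (p := p) (G := G)
  haveI hOn := Char.Fong.pPrimePCore_normal (p := p) (G := G)
  set K := Cfsg.pPrimeCore p G with hK
  set π := QuotientGroup.mk' K
  constructor
  · intro h
    obtain ⟨P, N, hN, hc⟩ := h
    haveI := hN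
    have hNK : N ≤ K := Grp.le_pPrimeCore hN (((Fact.out : p.Prime).coprime_iff_not_dvd.2
      (Transfer.not_dvd_card_of_isComplement' P hc)).symm)
    have hPG : IsPGroup p (G ⧸ K) := fun z => by
      obtain ⟨x, rfl⟩ := QuotientGroup.mk_surjective z
      obtain ⟨n, hn, y, hy, rfl⟩ := Subgroup.mem_sup_of_normal_left.1 (hc.sup_eq_top.ge (Subgroup.mem_top x))
      obtain ⟨k, hk⟩ := P.isPGroup' ⟨y, hy⟩
      refine ⟨k, ?_⟩
      rw [QuotientGroup.mk_mul, (QuotientGroup.eq_one_iff n).2 (hNK hn), one_mul, ← QuotientGroup.mk_pow,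
        show y ^ p ^ k = 1 from congrArg Subtype.val hk]
      rfl
    have htop : Cfsg.pPrimePCore p G = ⊤ := eq_top_iff.2 fun x _ =>
      Grp.le_pCore (p := p) (G := G ⧸ K) (N := ⊤) inferInstance (hPG.to_subgroup ⊤) (Subgroup.mem_top (π x))
    have h1 : Nat.card (G ⧸ Cfsg.pPrimePCore p G) = 1 := by
      rw [htop]; exact Subgroup.index_top
    rw [h1]
    exact Nat.coprime_one_left _
  · intro hcop
    rw [Transfer.hasNormalPComplement_iff_frobeniusCondition S]
    intro Q hQS g hg hgo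
    by_contra hgc
    let σ : MulAut Q := Q.normalizerMonoidHom ⟨g, hg⟩
    have hσv : ∀ n : ℕ, ∀ x : Q, (((σ ^ n) x : Q) : G) = g ^ n * x * (g ^ n)⁻¹ := by
      intro n
      induction n with
      | zero => intro x; simp
      | succ n ih =>
        intro x
        rw [pow_succ', MulAut.mul_apply, show ((σ ((σ ^ n) x) : Q) : G) = g * ((σ ^ n) x : Q) * g⁻¹ from rfl, ih, pow_succ']
        group
    have hQp : IsPGroup p Q := S.isPGroup'.to_le hQS
    let eQ := Subgroup.subgroupOfEquivOfLe hQS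
    have hmQ : Cfsg.IsMetacyclic Q := by
      obtain ⟨N, x, hN, h⟩ := Fus.MetaTwo.exists_gens (Fus.MetaTwo.isMetacyclic_subgroup hS (Q.subgroupOf S))
      refine Fus.MetaTwo.isMetacyclic_of_gens (n := eQ N) (x := eQ x) ?_ fun y => ?_
      · have := hN.map eQ.toMonoidHom eQ.surjective
        rwa [MonoidHom.map_zpowers] at this
      · obtain ⟨i, hi⟩ := h (eQ.symm y)
        obtain ⟨j, hj⟩ := Subgroup.mem_zpowers_iff.1 hi
        refine ⟨i, j, ?_⟩
        show eQ N ^ j = _
        rw [← map_zpow, hj, map_mul, map_inv, map_zpow, eQ.apply_symm_apply]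
    have hσ1 : σ ≠ 1 := fun h => hgc (Subgroup.mem_centralizer_iff.2 fun q hq => by
      have h1 := hσv 1 ⟨q, hq⟩
      rw [pow_one, h, pow_one] at h1
      exact eq_mul_inv_iff_mul_eq.1 h1)
    have hσo : orderOf σ ∣ orderOf g := by
      have := orderOf_map_dvd (Q.normalizerMonoidHom) (⟨g, hg⟩ : Subgroup.normalizer (Q : Set G))
      rwa [Subgroup.orderOf_mk] at this
    obtain ⟨q, hq, hqd⟩ := Nat.exists_prime_and_dvd (n := orderOf σ) (fun h => hσ1 (orderOf_eq_one_iff.1 h))
    haveI := Fact.mk hq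
    have hqp : q ≠ p := by
      rintro rfl
      exact hq.one_lt.ne' (Nat.eq_one_of_dvd_coprimes hgo (hqd.trans hσo) dvd_rfl)
    obtain ⟨m, hm⟩ := hqd
    have hpos : 0 < orderOf σ := orderOf_pos_iff.2 (isOfFinOrder_iff_pow_eq_one.2
      ⟨orderOf g, orderOf_pos g, orderOf_dvd_iff_pow_eq_one.1 hσo⟩)
    have hαq : (σ ^ m) ^ q = 1 := by rw [← pow_mul, mul_comm, ← hm, pow_orderOf_eq_one]
    have hα1 : σ ^ m ≠ 1 := fun h => by
      have h1 := orderOf_dvd_of_pow_eq_one h
      rw [hm] at h1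
      rcases Nat.eq_zero_or_pos m with rfl | hmpos
      · omega
      have := Nat.le_of_dvd hmpos h1
      have h2 : m * 2 ≤ q * m := by rw [mul_comm q]; exact Nat.mul_le_mul_left m hq.two_le
      omega
    set g' := g ^ m with hg'
    -- powers of `g'` lying in `O_{p',p}(G)` centralize `Q`
    have hcen : ∀ n : ℕ, g' ^ n ∈ Cfsg.pPrimePCore p G → (σ ^ m) ^ n = 1 := by
      intro n hn
      rw [hg', ← pow_mul] at hn
      rw [← pow_mul]
      refine MulEquiv.ext fun x => Subtype.ext ?_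
      rw [hσv]
      show _ = (x : G)
      set h := g ^ (m * n) with hh
      have hhK : h ∈ K := by
        rw [← QuotientGroup.eq_one_iff]
        obtain ⟨k, hk⟩ := Grp.pCore_isPGroup (p := p) (G := G ⧸ K) ⟨π h, hn⟩
        refine orderOf_eq_one_iff.1 (Nat.eq_one_of_dvd_coprimes (hgo.pow_right k)
          ((orderOf_map_dvd π h).trans ?_) (orderOf_dvd_of_pow_eq_one (congrArg Subtype.val hk)))
        rw [hh]; exact orderOf_pow_dvd _
      have h1 : h * x * h⁻¹ * (x : G)⁻¹ ∈ K := by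
        rw [mul_assoc h, mul_assoc h]
        exact K.mul_mem hhK (hK'.conj_mem _ (K.inv_mem hhK) x)
      have h2 : h * x * h⁻¹ * (x : G)⁻¹ ∈ Q :=
        Q.mul_mem (Grp.mem_conj_normalizer (pow_mem hg _) x.2) (Q.inv_mem x.2)
      have h3 : h * x * h⁻¹ * (x : G)⁻¹ = 1 := by
        obtain ⟨k, hk⟩ := hQp ⟨_, h2⟩
        exact orderOf_eq_one_iff.1 (Nat.eq_one_of_dvd_coprimes ((Grp.pPrimeCore_coprime (p := p) (G := G)).pow_right k)
          (Subgroup.orderOf_dvd_natCard _ h1) (orderOf_dvd_of_pow_eq_one (congrArg Subtype.val hk)))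
      exact mul_inv_eq_one.1 h3
    set t := orderOf (QuotientGroup.mk' (Cfsg.pPrimePCore p G) g') with ht
    have hqt : q ∣ t := by
      have h1 : g' ^ t ∈ Cfsg.pPrimePCore p G := by
        rw [← QuotientGroup.eq_one_iff]
        show QuotientGroup.mk' _ (g' ^ t) = 1
        rw [map_pow, ht, pow_orderOf_eq_one]
      rw [← orderOf_eq_prime hαq hα1]
      exact orderOf_dvd_of_pow_eq_one (hcen t h1)
    exact hq.one_lt.ne' (Nat.eq_one_of_dvd_coprimes hcop (hqt.trans (orderOf_dvd_natCard _))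
      (aut_dvd hqp hQp hmQ _ hαq hα1))

end Cfsg.Agent.S4419
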