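import Cfsg.Statements.S4420
import Cfsg.Agent.Lib.Grp.Frattini

set_option maxHeartbeats 1000000
set_option maxRecDepth 8000

set_option autoImplicit false
open Cfsg

namespace Cfsg.Agent.S4420

/-- Structure of groups in which every element outside some proper subgroup has square 1. Let H be a finite group with a proper subgroup A such that every element outside A has square 1. Then H has an abelian normal subgroup B of index 2 such that every element outside B is an involution inverting every element of B; and if H is not an elementary abelian 2-group, B is the only abelian normal subgroup of index 2 with this property. -/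
theorem result {H : Type*} [Group H] [Finite H] (A : Subgroup H) (hA : A ≠ ⊤) (hD : ∀ x : H, x ∉ A → x ^ 2 = 1) :
    ∃ B : Subgroup H, B.Normal ∧ IsMulCommutative ↥B ∧ B.index = 2 ∧
      (∀ x : H, x ∉ B → x ^ 2 = 1 ∧ ∀ b ∈ B, x * b * x⁻¹ = b⁻¹) ∧
      (¬ (IsMulCommutative H ∧ ∀ x : H, x ^ 2 = 1) →
        ∀ B' : Subgroup H, B'.Normal → IsMulCommutative ↥B' → B'.index = 2 →
          (∀ x : H, x ∉ B' → x ^ 2 = 1 ∧ ∀ b ∈ B', x * b * x⁻¹ = b⁻¹) → B' = B) := by
  have hinv : ∀ x, x ∉ A → ∀ a ∈ A, x * a * x⁻¹ = a⁻¹ := fun x hx a ha => by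
    have h1 := hD x hx
    have h2 := hD (x * a) fun h => hx ((A.mul_mem_cancel_right ha).mp h)
    rw [pow_two] at h1 h2
    rw [show x⁻¹ = x from inv_eq_of_mul_eq_one_left h1]
    exact eq_inv_of_mul_eq_one_left (by rw [mul_assoc (x * a)]; exact h2)
  obtain ⟨x₀, hx₀⟩ : ∃ x, x ∉ A := by
    by_contra! h
    exact hA ((Subgroup.eq_top_iff' A).mpr h)
  have hAc : ∀ a ∈ A, ∀ b ∈ A, a * b = b * a := fun a ha b hb => by
    have h := hinv x₀ hx₀ (a * b) (A.mul_mem ha hb)
    rw [show x₀ * (a * b) * x₀⁻¹ = (x₀ * a * x₀⁻¹) * (x₀ * b * x₀⁻¹) by group, hinv x₀ hx₀ a ha,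
      hinv x₀ hx₀ b hb, mul_inv_rev] at h
    have := congrArg Inv.inv h
    simpa using this.symm
  by_cases hexp : ∀ x : H, x ^ 2 = 1
  · -- exponent two
    have hc : ∀ a b : H, a * b = b * a := fun a b => by
      have ha : a⁻¹ = a := inv_eq_of_mul_eq_one_left (by rw [← pow_two]; exact hexp a)
      have hb : b⁻¹ = b := inv_eq_of_mul_eq_one_left (by rw [← pow_two]; exact hexp b)
      have hab : (a * b)⁻¹ = a * b := inv_eq_of_mul_eq_one_left (by rw [← pow_two]; exact hexp _)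
      rw [← hab, mul_inv_rev, ha, hb]
    haveI : Fact (Nat.Prime 2) := ⟨Nat.prime_two⟩
    have hp : IsPGroup 2 H := fun x => ⟨1, by rw [pow_one]; exact hexp x⟩
    obtain ⟨B, hB, -⟩ := (eq_top_or_exists_le_coatom A).resolve_left hA
    have hBn : B.Normal := ⟨fun n hn g => by rw [hc g n, mul_inv_cancel_right]; exact hn⟩
    refine ⟨B, hBn, ⟨⟨fun a b => Subtype.ext (hc a b)⟩⟩, (Agent.Grp.coatom_index_eq_of_pGroup hp hB).2,
      fun x _ => ⟨hexp x, fun b _ => ?_⟩, fun h => absurd ⟨⟨⟨hc⟩⟩, hexp⟩ h⟩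
    rw [hc x b, mul_inv_cancel_right]
    exact eq_inv_of_mul_eq_one_left (by rw [← pow_two]; exact hexp b)
  push Not at hexp
  obtain ⟨a₀, ha₀⟩ := hexp
  have ha₀A : a₀ ∈ A := by_contra fun h => ha₀ (hD a₀ h)
  have hidx : A.index = 2 := by
    rw [Subgroup.index_eq_two_iff]
    refine ⟨x₀, fun b => ?_⟩
    by_cases hb : b ∈ A
    · exact Or.inr ⟨hb, fun h => hx₀ ((A.mul_mem_cancel_left hb).mp h)⟩
    · refine Or.inl ⟨?_, hb⟩
      by_contra h
      apply ha₀
      have h1 := hinv (b * x₀) h a₀ ha₀A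
      rw [show b * x₀ * a₀ * (b * x₀)⁻¹ = b * (x₀ * a₀ * x₀⁻¹) * b⁻¹ by group, hinv x₀ hx₀ a₀ ha₀A,
        hinv b hb a₀⁻¹ (A.inv_mem ha₀A), inv_inv] at h1
      rw [pow_two]
      nth_rw 2 [h1]
      exact mul_inv_cancel a₀
  refine ⟨A, Subgroup.normal_of_index_eq_two hidx, ⟨⟨fun a b => Subtype.ext (hAc a a.2 b b.2)⟩⟩, hidx,
    fun x hx => ⟨hD x hx, hinv x hx⟩, fun _ B hBn hBc hBi hB => ?_⟩
  have haB : a₀ ∈ B := by_contra fun h => ha₀ (hB a₀ h).1
  have hle : B ≤ A := fun b hb => by_contra fun h => ha₀ (by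
    have h1 := hinv b h a₀ ha₀A
    rw [setLike_mul_comm hb haB, mul_inv_cancel_right] at h1
    rw [pow_two]
    nth_rw 2 [h1]
    exact mul_inv_cancel a₀)
  refine Subgroup.eq_of_le_of_card_ge hle ?_
  have h1 := A.card_mul_index
  have h2 := B.card_mul_index
  rw [hidx] at h1; rw [hBi] at h2
  omega

end Cfsg.Agent.S4420
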