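import Cfsg.Statements.S4422

set_option maxHeartbeats 1000000
set_option maxRecDepth 8000

set_option autoImplicit false
open Cfsg

namespace Cfsg.Agent.S4422

/-- Primitive divisors of `q^e - 1` are congruent to 1 modulo `e`. Let `q ≥ 2` and `e ≥ 1` be natural numbers and let `m` be a divisor of `q^e - 1` that is coprime to `q^i - 1` for every `1 ≤ i < e` (so `m` divides the primitive part of `q^e - 1`, the largest such divisor). Then `m ≡ 1 (mod e)`. -/
theorem result (q e m : ℕ) (hq : 2 ≤ q) (he : 1 ≤ e)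
    (hm : m ∣ q ^ e - 1) (hcop : ∀ i : ℕ, 1 ≤ i → i < e → Nat.Coprime m (q ^ i - 1)) :
    m % e = 1 % e := by
  rcases Nat.eq_zero_or_pos m with rfl | hm0
  · have := zero_dvd_iff.mp hm
    have h2 : q ≤ q ^ e := Nat.le_self_pow (by omega) q
    omega
  -- every prime divisor of `m` is one modulo `e`
  have key : ∀ r : ℕ, r.Prime → r ∣ m → r % e = 1 % e := by
    intro r hr hrm
    haveI := Fact.mk hr
    have hpos : ∀ i, 1 ≤ q ^ i := fun i => Nat.one_le_pow _ _ (by omega)
    have hqe : ((q : ZMod r)) ^ e = 1 := by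
      have h0 : ((q ^ e - 1 : ℕ) : ZMod r) = 0 :=
        (ZMod.natCast_eq_zero_iff _ _).mpr (hrm.trans hm) |> fun h => by exact h
      rw [Nat.cast_sub (hpos e), sub_eq_zero] at h0
      simpa using h0
    have hne : (q : ZMod r) ≠ 0 := fun h => by
      rw [h, zero_pow (by omega)] at hqe
      exact zero_ne_one hqe
    have hord : orderOf (q : ZMod r) = e := by
      have hd := orderOf_dvd_of_pow_eq_one hqe
      have hle := Nat.le_of_dvd (by omega) hd
      have hop : 0 < orderOf (q : ZMod r) := Nat.pos_of_ne_zero fun h0 => by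
        rw [h0, zero_dvd_iff] at hd
        omega
      by_contra hne'
      have hc := hcop _ hop (lt_of_le_of_ne hle hne')
      have hr1 : r ∣ q ^ orderOf (q : ZMod r) - 1 := by
        rw [← ZMod.natCast_eq_zero_iff, Nat.cast_sub (hpos _), Nat.cast_pow, pow_orderOf_eq_one]
        simp
      exact hr.not_dvd_one (hc ▸ Nat.dvd_gcd hrm hr1)
    have h1 := orderOf_dvd_of_pow_eq_one (ZMod.pow_card_sub_one_eq_one hne)
    rw [hord] at h1
    exact ((Nat.modEq_iff_dvd' hr.one_le).mpr h1).symm
  have hprod : ∀ l : List ℕ, (∀ r ∈ l, r % e = 1 % e) → l.prod % e = 1 % e := by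
    intro l
    induction l with
    | nil => simp
    | cons a l ih =>
      intro h
      rw [List.prod_cons, Nat.mul_mod, h a (by simp), ih fun r hr => h r (by simp [hr]), ← Nat.mul_mod, one_mul]
  rw [← Nat.prod_primeFactorsList hm0.ne']
  exact hprod _ fun r hr => key r (Nat.prime_of_mem_primeFactorsList hr) (Nat.dvd_of_mem_primeFactorsList hr)

end Cfsg.Agent.S4422
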