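import Cfsg.Statements.S4425
import Cfsg.Agent.Lib.Char.RegularPartGen
-- import your own Cfsg.Agent.* helpers here

set_option autoImplicit false
open Cfsg

namespace Cfsg.Agent.S4425

/-- Let χ be an irreducible character of the finite group G, p a prime, p^a the p-part of the order of G and p^b the p-part of the degree χ(1). Let χ̃ be the class function equal to p^a · χ on p-regular elements and zero on p-singular elements. Then p^(−b) · χ̃ is a generalized character of G, while p^(−(b+1)) · χ̃ is not. -/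
theorem result {G : Type*} [Group G] [Finite G] (p : ℕ) [Fact p.Prime] (χ : Cfsg.IrrCharacter G) : Cfsg.IsGeneralizedCharacter G (fun x : G => if p ∣ orderOf x then (0 : ℂ) else ((p ^ ((Nat.card G).factorization p - (Cfsg.charDegree (χ : G → ℂ)).factorization p) : ℕ) : ℂ) * (χ : G → ℂ) x) ∧ ¬ Cfsg.IsGeneralizedCharacter G (fun x : G => if p ∣ orderOf x then (0 : ℂ) else ((p ^ (Nat.card G).factorization p : ℕ) : ℂ) / ((p ^ ((Cfsg.charDegree (χ : G → ℂ)).factorization p + 1) : ℕ) : ℂ) * (χ : G → ℂ) x) := by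
  cases nonempty_fintype G
  obtain ⟨M, hM⟩ := Cfsg.Agent.Char.exists_isPModular p (Fact.out : p.Prime)
  have hB := Cfsg.Agent.Block.isPBlock_blockOf (M := M) χ
  have hχ := Cfsg.Agent.Block.mem_blockOf_self hM χ
  have hpc : (p : ℂ) ≠ 0 := Nat.cast_ne_zero.2 (Fact.out : p.Prime).ne_zero
  have hG : (Nat.card G : ℂ) ≠ 0 := Nat.cast_ne_zero.2 Nat.card_pos.ne'
  have hle := Cfsg.Agent.Char.Contrib.factorization_deg_le (p := p) χ
  constructor
  · refine Cfsg.Agent.Char.Contrib.isGenChar_reg hM hB hχ fun ψ hψ => ?_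
    obtain ⟨z, hz, -⟩ := Cfsg.Agent.Char.Contrib.exists_int_regSum_all hM hB hψ hχ
    refine ⟨z, ?_⟩
    rw [div_eq_iff hG, Nat.cast_pow]
    refine mul_right_cancel₀ (pow_ne_zero (Cfsg.charDegree (χ : G → ℂ) |>.factorization p) hpc) ?_
    have e : (p : ℂ) ^ ((Nat.card G).factorization p - (Cfsg.charDegree (χ : G → ℂ)).factorization p) *
        (p : ℂ) ^ (Cfsg.charDegree (χ : G → ℂ)).factorization p =
          (p : ℂ) ^ (Nat.card G).factorization p := by
      rw [← pow_add, Nat.sub_add_cancel hle]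
    linear_combination hz + Cfsg.Agent.Block.regSum p (χ : G → ℂ) (ψ : G → ℂ) * e
  · intro hgen
    obtain ⟨ξ, hξ, h0⟩ := Cfsg.Agent.Block.exists_height_zero hM hB
    obtain ⟨n, hn⟩ := Cfsg.Agent.Char.IsGenChar.classInner_int hgen
      (Cfsg.Agent.Char.IsGenChar.of_isCharacter (Cfsg.Agent.Block.irr_isChar ξ))
    rw [Cfsg.Agent.Char.Contrib.classInner_reg, div_eq_iff hG] at hn
    obtain ⟨z, hz, hiff⟩ := Cfsg.Agent.Char.Contrib.exists_int_regSum_all hM hB hξ hχ
    refine hiff.1 ?_ h0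
    refine ⟨n, ?_⟩
    have h1 : (z : ℂ) = (((p : ℤ) * n : ℤ) : ℂ) := by
      refine mul_left_cancel₀ (mul_ne_zero hG (pow_ne_zero
        (Cfsg.charDegree (χ : G → ℂ) |>.factorization p) hpc)) ?_
      rw [← hz]
      push_cast at hn ⊢
      rw [div_mul_eq_mul_div, div_eq_iff (pow_ne_zero _ hpc)] at hn
      linear_combination hn
    exact_mod_cast h1

end Cfsg.Agent.S4425
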