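import Cfsg.Statements.S4430
import Cfsg.Agent.Lib.Block.Induced
import Cfsg.Agent.Lib.Char.Induce
import Cfsg.Agent.Lib.Char.Constituent

set_option autoImplicit false
open Cfsg

namespace Cfsg.Agent.S4430

/-- Let H be a subgroup of the finite group G, b a block of H whose induced block B₀ in G is defined (relative to a maximal ideal M of the algebraic integers containing p), and ξ ∈ b. For a block B of G let n_B be the value at 1 of the B-part of the induced character ξ^G (a natural number: the sum over χ ∈ B of the multiplicity of χ in ξ^G times χ(1)). Then for B = B₀ the exact power of p dividing n_B equals the exact power of p dividing ξ^G(1), while for every other block B either n_B = 0 or n_B is divisible by a strictly higher power of p than ξ^G(1). -/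
theorem result {G : Type*} [Group G] [Fintype G] (p : ℕ) [Fact p.Prime] (M : Ideal Cfsg.AlgInt) (hM : Cfsg.IsPModular p M) (H : Subgroup G) [Fintype H] (b : Set (Cfsg.IrrCharacter H)) (B₀ : Set (Cfsg.IrrCharacter G)) (hind : Cfsg.IsInducedBlock M H b B₀) (ξ : Cfsg.IrrCharacter H) (hξ : ξ ∈ b) : (∃ n : ℕ, Cfsg.blockPart B₀ (Cfsg.indFun H (ξ : H → ℂ)) 1 = (n : ℂ) ∧ n ≠ 0 ∧ n.factorization p = (Cfsg.charDegree (Cfsg.indFun H (ξ : H → ℂ))).factorization p) ∧ ∀ B : Set (Cfsg.IrrCharacter G), Cfsg.IsPBlock M B → B ≠ B₀ → ∃ n : ℕ, Cfsg.blockPart B (Cfsg.indFun H (ξ : H → ℂ)) 1 = (n : ℂ) ∧ (n = 0 ∨ (Cfsg.charDegree (Cfsg.indFun H (ξ : H → ℂ))).factorization p < n.factorization p) := by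
  classical
  obtain ⟨χ₀, hχ₀⟩ := Cfsg.Agent.Block.pblock_nonempty hM hind.2.1
  obtain ⟨a, ha, hdec⟩ := Cfsg.Agent.Char.IsChar.exists_decomp_inner
    (Cfsg.Agent.Char.isCharacter_indFun H (θ := (ξ : H → ℂ))
      (Cfsg.Agent.Char.IsIrr.isCharacter ξ.2))
  set m := H.index * Cfsg.charDegree (ξ : H → ℂ) with hm
  have hm0 : m ≠ 0 := mul_ne_zero Subgroup.index_ne_zero_of_finite (Cfsg.Agent.Block.charDeg_pos ξ).ne'
  have hdeg : Cfsg.charDegree (Cfsg.indFun H (ξ : H → ℂ)) = m := by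
    show ⌊(Cfsg.indFun H (ξ : H → ℂ) 1).re⌋₊ = m
    rw [Cfsg.Agent.Char.indFun_one_eq, Cfsg.Agent.Block.charDeg_spec' ξ, ← Nat.cast_mul,
      Complex.natCast_re, Nat.floor_natCast]
  set n : Set (Cfsg.IrrCharacter G) → ℕ := fun B =>
    ∑ χ ∈ Finset.univ.filter (· ∈ B), a χ * Cfsg.charDegree (χ : G → ℂ) with hn
  have hpart : ∀ B : Set (Cfsg.IrrCharacter G),
      Cfsg.blockPart B (Cfsg.indFun H (ξ : H → ℂ)) 1 = (n B : ℂ) := by
    intro B
    simp only [Cfsg.blockPart, hn, Nat.cast_sum, Nat.cast_mul]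
    rw [Cfsg.Agent.Block.finsum_mem_block]
    refine Finset.sum_congr rfl fun χ _ => ?_
    rw [Cfsg.Agent.Block.charDeg_spec' χ, ← ha χ]
    congr 1
    convert rfl
  have hres : ∀ B : Set (Cfsg.IrrCharacter G), Cfsg.Agent.Block.resCen H
      (Cfsg.Agent.Block.blockInd B) ξ = (n B : ℂ) / (m : ℂ) := by
    intro B
    have hcls := Cfsg.Agent.Block.coeffFun_classFun (Cfsg.Agent.Block.blockInd B)
    have e1 := Cfsg.Agent.Char.sum_indFun_mul H (ξ : H → ℂ) hcls
    have e2 : ∀ χ : Cfsg.IrrCharacter G, ∑ g : G, (χ : G → ℂ) g *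
        Cfsg.Agent.Block.coeffFun (Cfsg.Agent.Block.blockInd B) g =
        (Cfsg.charDegree (χ : G → ℂ) : ℂ) * Cfsg.Agent.Block.blockInd B χ := fun χ => by
      have h := Cfsg.Agent.Block.omegaFun_coeffFun (Cfsg.Agent.Block.blockInd B) χ
      rw [Cfsg.Agent.Block.omegaFun, div_eq_iff (Cfsg.Agent.Block.irr_one_ne_zero χ)] at h
      rw [← Cfsg.Agent.Block.charDeg_spec', mul_comm (b := Cfsg.Agent.Block.blockInd B χ), ← h]
      exact Finset.sum_congr rfl fun g _ => mul_comm _ _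
    have e3 : (n B : ℂ) = ∑ g : G, Cfsg.indFun H (ξ : H → ℂ) g *
        Cfsg.Agent.Block.coeffFun (Cfsg.Agent.Block.blockInd B) g := by
      have : ∀ g : G, Cfsg.indFun H (ξ : H → ℂ) g = ∑ χ : Cfsg.IrrCharacter G,
          (a χ : ℂ) * (χ : G → ℂ) g := fun g => by
        rw [hdec, Cfsg.Agent.Char.sum_irr_apply]
      simp only [this, Finset.sum_mul, mul_assoc]
      rw [Finset.sum_comm]
      simp only [← Finset.mul_sum, e2, hn, Nat.cast_sum, Nat.cast_mul]
      rw [Finset.sum_filter]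
      refine Finset.sum_congr rfl fun χ _ => ?_
      by_cases hχ : χ ∈ B
      · rw [if_pos hχ, Cfsg.Agent.Block.blockInd_of_mem hχ, mul_one]
      · rw [if_neg hχ, Cfsg.Agent.Block.blockInd_of_notMem hχ, mul_zero, mul_zero]
    rw [e3, e1, hm, Nat.cast_mul, ← Cfsg.Agent.Block.charDeg_spec', mul_div_mul_left _ _
      (Nat.cast_ne_zero.2 Subgroup.index_ne_zero_of_finite), Cfsg.Agent.Block.resCen_eq_omegaFun,
      Cfsg.Agent.Block.omegaFun]
    congr 1
    exact Finset.sum_congr rfl fun h _ => mul_comm _ _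
  have hB0 : Cfsg.MemLocalIdeal M ((n B₀ : ℂ) / (m : ℂ) - 1) := by
    have h := Cfsg.Agent.Block.induced_congr hM hind
      (Cfsg.Agent.Block.cenInt_blockInd hM hind.2.1) hξ hχ₀
    rwa [hres, Cfsg.Agent.Block.blockInd_of_mem hχ₀] at h
  have hring : ∀ B : Set (Cfsg.IrrCharacter G), Cfsg.IsPBlock M B →
      Cfsg.MemLocalRing M ((n B : ℂ) / (m : ℂ)) := fun B hB => by
    rw [← hres]
    exact ((Cfsg.Agent.Block.cenInt_blockInd hM hB).resCen).ring hM ξ
  have hunit : ¬ Cfsg.MemLocalIdeal M ((n B₀ : ℂ) / (m : ℂ)) := fun h => by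
    have := Cfsg.Agent.Block.ideal_sub hM h hB0
    rw [sub_sub_cancel] at this
    exact Cfsg.Agent.Block.ideal_one hM this
  have hlow : ∀ B : Set (Cfsg.IrrCharacter G), Cfsg.IsPBlock M B → n B ≠ 0 →
      m.factorization p ≤ (n B).factorization p := fun B hB hB0' => by
    by_contra hlt
    have hi := Cfsg.Agent.Block.ideal_natDiv hM hB0' hm0 (not_le.1 hlt)
    have h2 := Cfsg.Agent.Block.ideal_mul_left hM (hring B hB) hi
    rw [div_mul_div_cancel₀ (Nat.cast_ne_zero.2 hm0), div_self (Nat.cast_ne_zero.2 hB0')] at h2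
    exact Cfsg.Agent.Block.ideal_one hM h2
  rw [hdeg]
  refine ⟨⟨n B₀, hpart B₀, fun h0 => hunit ?_, ?_⟩, fun B hB hne => ⟨n B, hpart B, ?_⟩⟩
  · rw [h0, Nat.cast_zero, zero_div]; exact Cfsg.Agent.Block.ideal_zero hM
  · have h0 : n B₀ ≠ 0 := fun h => hunit (by
      rw [h, Nat.cast_zero, zero_div]; exact Cfsg.Agent.Block.ideal_zero hM)
    refine le_antisymm ?_ (hlow B₀ hind.2.1 h0)
    by_contra hgt
    exact hunit (Cfsg.Agent.Block.ideal_natDiv hM hm0 h0 (not_le.1 hgt))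
  · refine or_iff_not_imp_left.2 fun h0 => ?_
    rcases (hlow B hB h0).lt_or_eq with h | h
    · exact h
    exfalso
    have hnot : χ₀ ∉ B := fun hm' => hne ((Cfsg.Agent.Block.pblock_eq_blockOf hM hB hm').trans
      (Cfsg.Agent.Block.pblock_eq_blockOf hM hind.2.1 hχ₀).symm)
    have hz := Cfsg.Agent.Block.induced_congr hM hind
      (Cfsg.Agent.Block.cenInt_blockInd hM hB) hξ hχ₀
    rw [hres, Cfsg.Agent.Block.blockInd_of_notMem hnot, sub_zero] at hz
    exact Cfsg.Agent.Block.natDiv_notMem hM hm0 h0 h hz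

end Cfsg.Agent.S4430
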