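import Cfsg.Statements.S4431
import Cfsg.Agent.Lib.Block.Induced

set_option autoImplicit false
open Cfsg

namespace Cfsg.Agent.S4431

/-- Let H be a subgroup of the finite group G and b a block of H whose induced block B₀ in G is defined (relative to a maximal ideal M of the algebraic integers containing p). Let χ be an irreducible character of G, ψ ∈ b, and let η be the class function on H equal to p^a · χ on the p-regular elements of H and zero elsewhere, p^a being the p-part of the order of H. Then (a) if χ ∉ B₀, the number [η, ψ]/ψ(1) lies in the local ideal at M; (b) if χ ∈ B₀ has height zero, it does not. -/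
theorem result {G : Type*} [Group G] [Fintype G] (p : ℕ) [Fact p.Prime] (M : Ideal Cfsg.AlgInt) (hM : Cfsg.IsPModular p M) (H : Subgroup G) [Fintype H] (b : Set (Cfsg.IrrCharacter H)) (B₀ : Set (Cfsg.IrrCharacter G)) (hind : Cfsg.IsInducedBlock M H b B₀) (χ : Cfsg.IrrCharacter G) (ψ : Cfsg.IrrCharacter H) (hψ : ψ ∈ b) : (χ ∉ B₀ → Cfsg.MemLocalIdeal M (Cfsg.classInner (fun h : H => if p ∣ orderOf h then (0 : ℂ) else ((p ^ (Nat.card H).factorization p : ℕ) : ℂ) * (χ : G → ℂ) h) (ψ : H → ℂ) / (ψ : H → ℂ) 1)) ∧ (χ ∈ B₀ → Cfsg.blockHeight p B₀ (χ : G → ℂ) = 0 → ¬ Cfsg.MemLocalIdeal M (Cfsg.classInner (fun h : H => if p ∣ orderOf h then (0 : ℂ) else ((p ^ (Nat.card H).factorization p : ℕ) : ℂ) * (χ : G → ℂ) h) (ψ : H → ℂ) / (ψ : H → ℂ) 1)) := by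
  classical
  obtain ⟨χ₀, hχ₀⟩ := Cfsg.Agent.Block.pblock_nonempty hM hind.2.1
  set q := p ^ (Nat.card H).factorization p with hq
  set m := Nat.card H / q with hm
  have hq0 : (q : ℂ) ≠ 0 := Nat.cast_ne_zero.2 (pow_pos (Fact.out : p.Prime).pos _).ne'
  have hmn : ¬ p ∣ m := Nat.not_dvd_ordCompl Fact.out Nat.card_pos.ne'
  have hm0 : (m : ℂ) ≠ 0 := Nat.cast_ne_zero.2 fun h => hmn (h ▸ dvd_zero p)
  have hcard : (Nat.card H : ℂ) = (q : ℂ) * m := by
    rw [hm, ← Nat.cast_mul, Nat.ordProj_mul_ordCompl_eq_self]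
  have hval : Cfsg.classInner (fun h : H => if p ∣ orderOf h then (0 : ℂ) else
      (q : ℂ) * (χ : G → ℂ) h) (ψ : H → ℂ) / (ψ : H → ℂ) 1 =
      (m : ℂ)⁻¹ * Cfsg.Agent.Block.resCen H (Cfsg.Agent.Block.regPair p χ) ψ := by
    rw [Cfsg.Agent.Block.resCen_eq_omegaFun, Cfsg.Agent.Block.coeffFun_regPair, Cfsg.Agent.Block.omegaFun]
    simp only [Cfsg.classInner, Cfsg.Agent.Block.regConj, Subgroup.orderOf_coe]
    rw [← mul_div_assoc, hcard, mul_inv]
    congr 1
    rw [mul_comm (q : ℂ)⁻¹, mul_assoc, Finset.mul_sum]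
    congr 1
    refine Fintype.sum_equiv (Equiv.inv H) _ _ fun h => ?_
    simp only [Equiv.inv_apply, orderOf_inv, InvMemClass.coe_inv, inv_inv]
    split_ifs
    · simp
    · rw [Cfsg.Agent.Block.irr_apply_inv]
      field_simp
  rw [hval]
  refine ⟨fun hχ => ?_, fun hχ h0 hid => ?_⟩
  · refine Cfsg.Agent.Block.ideal_mul_left hM (Cfsg.Agent.Block.ring_inv_natCast hM hmn) ?_
    refine (Cfsg.Agent.Block.ideal_congr hM (Cfsg.Agent.Block.induced_congr hM hind
      (Cfsg.Agent.Block.cenInt_regPair hM χ) hψ hχ₀)).2 ?_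
    rw [Cfsg.Agent.Block.regPair_outside hM fun h => hχ
      (Cfsg.Agent.Block.pblock_mem_of_sameBlock hM hind.2.1 hχ₀ (Cfsg.Agent.Block.sameBlock_symm h))]
    exact Cfsg.Agent.Block.ideal_zero hM
  · refine Cfsg.Agent.Block.regPair_unit hM hind.2.1 hχ hχ h0
      ((Cfsg.Agent.Block.ideal_congr hM (Cfsg.Agent.Block.induced_congr hM hind
        (Cfsg.Agent.Block.cenInt_regPair hM χ) hψ hχ)).1 ?_)
    have := Cfsg.Agent.Block.ideal_mul_left hM (Cfsg.Agent.Block.ring_natCast hM m) hid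
    rwa [mul_inv_cancel_left₀ hm0] at this

end Cfsg.Agent.S4431
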