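import Cfsg.Statements.S4435
import Cfsg.Agent.Lib.Char.FongReynolds

set_option autoImplicit false
open Cfsg

namespace Cfsg.Agent.S4435

/-- Let N be a normal subgroup of the finite group G, b a block of N (relative to a maximal ideal M of the algebraic integers containing p), and T the stabilizer of b in G (the elements g such that conjugating any member of b by g gives a member of b); N ≤ T. Say that a block of T (or of G) covers b when some member has a constituent in b on restriction to N. Then: (i) every block B′ of T covering b induces a block B of G, B covers b, every ψ ∈ B′ induces to an irreducible character of G, and B consists exactly of the characters induced from members of B′; (ii) distinct blocks of T covering b induce distinct blocks of G; (iii) every block of G covering b is induced by some block of T covering b. -/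
theorem result {G : Type*} [Group G] [Fintype G] (p : ℕ) [Fact p.Prime] (M : Ideal Cfsg.AlgInt) (hM : Cfsg.IsPModular p M) (N : Subgroup G) [hN : N.Normal] [Fintype N] (b : Set (Cfsg.IrrCharacter N)) (hb : Cfsg.IsPBlock M b) (T : Subgroup G) [Fintype T] (hT : ∀ g : G, g ∈ T ↔ ∀ θ ∈ b, ∀ θ' : Cfsg.IrrCharacter N, (∀ n : N, (θ' : N → ℂ) n = (θ : N → ℂ) ⟨g * n * g⁻¹, hN.conj_mem n n.2 g⟩) → θ' ∈ b) (hNT : N ≤ T) : (∀ B' : Set (Cfsg.IrrCharacter T), Cfsg.IsPBlock M B' → (∃ ψ ∈ B', ∃ θ ∈ b, Cfsg.classInner (fun n : N => (ψ : T → ℂ) ⟨(n : G), hNT n.2⟩) (θ : N → ℂ) ≠ 0) → ∃ B : Set (Cfsg.IrrCharacter G), Cfsg.IsInducedBlock M T B' B ∧ (∃ χ ∈ B, ∃ θ ∈ b, Cfsg.classInner (fun n : N => (χ : G → ℂ) n) (θ : N → ℂ) ≠ 0) ∧ (∀ ψ ∈ B', Cfsg.IsIrrCharacter G (Cfsg.indFun T (ψ : T → ℂ))) ∧ ∀ χ : Cfsg.IrrCharacter G, χ ∈ B ↔ ∃ ψ ∈ B', (χ : G → ℂ) = Cfsg.indFun T (ψ :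 T → ℂ)) ∧ (∀ B'₁ B'₂ : Set (Cfsg.IrrCharacter T), Cfsg.IsPBlock M B'₁ → Cfsg.IsPBlock M B'₂ → (∃ ψ ∈ B'₁, ∃ θ ∈ b, Cfsg.classInner (fun n : N => (ψ : T → ℂ) ⟨(n : G), hNT n.2⟩) (θ : N → ℂ) ≠ 0) → (∃ ψ ∈ B'₂, ∃ θ ∈ b, Cfsg.classInner (fun n : N => (ψ : T → ℂ) ⟨(n : G), hNT n.2⟩) (θ : N → ℂ) ≠ 0) → ∀ B : Set (Cfsg.IrrCharacter G), Cfsg.IsInducedBlock M T B'₁ B → Cfsg.IsInducedBlock M T B'₂ B → B'₁ = B'₂) ∧ (∀ B : Set (Cfsg.IrrCharacter G), Cfsg.IsPBlock M B → (∃ χ ∈ B, ∃ θ ∈ b, Cfsg.classInner (fun n : N => (χ : G → ℂ) n) (θ : N → ℂ) ≠ 0) → ∃ B' : Set (Cfsg.IrrCharacter T), Cfsg.IsPBlock M B' ∧ (∃ ψ ∈ B', ∃ θ ∈ b, Cfsg.classInner (fun n : N => (ψ : T → ℂ) ⟨(n : G), hNT n.2⟩) (θ : N → ℂ) ≠ 0) ∧ Cfsg.IsInducedBlock M T B' B) := by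
  refine ⟨fun B' hB' hcov => ?_, fun B₁ B₂ h₁ h₂ c₁ c₂ B i₁ i₂ => ?_, fun B hB hcov => ?_⟩
  · obtain ⟨hall, B, hind, hmem, hover⟩ := Agent.Char.FR.induced hM hb hT hNT hB' hcov
    refine ⟨B, hind, ?_, fun ψ hψ => ?_, hmem⟩
    · obtain ⟨χ, hχ⟩ := Agent.Block.pblock_nonempty hM hind.2.1
      exact ⟨χ, hχ, hover χ hχ⟩
    · obtain ⟨χ, hχ, -⟩ := Agent.Char.FR.ind_of_over hM hb hT hNT (hall ψ hψ)
      exact hχ ▸ χ.2
  · obtain ⟨hall₁, C₁, j₁, hmem₁, -⟩ := Agent.Char.FR.induced hM hb hT hNT h₁ c₁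
    obtain ⟨hall₂, C₂, j₂, hmem₂, -⟩ := Agent.Char.FR.induced hM hb hT hNT h₂ c₂
    rw [Agent.Block.induced_unique hM j₁ i₁] at hmem₁
    rw [Agent.Block.induced_unique hM j₂ i₂] at hmem₂
    obtain ⟨χ, hχ⟩ := Agent.Block.pblock_nonempty hM i₁.2.1
    obtain ⟨ψ₁, hψ₁, e₁⟩ := (hmem₁ χ).mp hχ
    obtain ⟨ψ₂, hψ₂, e₂⟩ := (hmem₂ χ).mp hχ
    have hs := (Agent.Char.FR.sameBlock_ind_iff hM hb hT hNT (hall₁ ψ₁ hψ₁) (hall₂ ψ₂ hψ₂) e₁ e₂).mp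
      (Agent.Block.sameBlock_refl hM _)
    rw [Agent.Block.pblock_eq_blockOf hM h₁ hψ₁, Agent.Block.pblock_eq_blockOf hM h₂ hψ₂]
    exact Agent.Block.blockOf_eq hM hs
  · obtain ⟨χ, hχ, θ, hθ, hθc⟩ := hcov
    obtain ⟨η, hη, hind, -, -⟩ := Agent.Char.FR.corr hM hb hT hNT hθ hθc
    have hmem : η ∈ Cfsg.blockOf M (η : T → ℂ) := Agent.Block.mem_blockOf_self hM η
    obtain ⟨-, C, hC, hmemC, -⟩ := Agent.Char.FR.induced hM hb hT hNT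
      (Agent.Block.isPBlock_blockOf η) ⟨η, hmem, θ, hθ, hη⟩
    have hχC : χ ∈ C := (hmemC χ).mpr ⟨η, hmem, hind.symm⟩
    refine ⟨_, Agent.Block.isPBlock_blockOf η, ⟨η, hmem, θ, hθ, hη⟩, ?_⟩
    rw [Agent.Block.pblock_eq_blockOf hM hB hχ, ← Agent.Block.pblock_eq_blockOf hM hC.2.1 hχC]
    exact hC

end Cfsg.Agent.S4435
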