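import Cfsg.Statements.S4442
import Cfsg.Agent.Lib.Char.DefectOneValues
import Cfsg.Agent.Lib.Char.DefectOneBasics

set_option autoImplicit false
open Cfsg

namespace Cfsg.Agent.S4442

open Cfsg.Agent.Block Cfsg.Agent.Char Cfsg.Agent.Char.BP

/-- Blocks of defect one. Let p be an odd prime and G a finite group whose Sylow p-subgroup P has order p; let C = C_G(P) and N = N_G(P), and fix a maximal ideal M of the algebraic integers containing p. Let B be a block of G with defect group P, b a block of C inducing B, and θ the member of b having P in its kernel (there is exactly one). Let T be the stabilizer of θ in N (the elements g ∈ N with θ(g c g⁻¹) = θ(c) for all c ∈ C) and e the index of C in T. Then e divides p − 1 and B contains exactly e + (p − 1)/e irreducible characters. Moreover B is the disjoint union of a set X of e characters and a set Y of (p − 1)/e characters such that, with f the index of C in N: every χ ∈ X has χ(1) ≡ ±(f/e)·θ(1) (mod p),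 there is one sign ε with ψ(1) ≡ ε f θ(1) (mod p) for all ψ ∈ Y, and all members of Y agree on the p-regular elements of G. -/
theorem result {G : Type*} [Group G] [Finite G] (p : ℕ) [Fact p.Prime] (M : Ideal Cfsg.AlgInt) (hM : Cfsg.IsPModular p M) (hodd : p ≠ 2) (P : Sylow p G) (hP : Nat.card P = p) (B : Set (Cfsg.IrrCharacter G)) (hB : Cfsg.IsPBlock M B) (hBP : Cfsg.IsDefectGroup p M B P) (b : Set (Cfsg.IrrCharacter (Subgroup.centralizer ((P : Subgroup G) : Set G)))) (hind : Cfsg.IsInducedBlock M (Subgroup.centralizer ((P : Subgroup G) : Set G)) b B) (θ : Cfsg.IrrCharacter (Subgroup.centralizer ((P : Subgroup G) : Set G))) (hθ : θ ∈ b) (hθP : ∀ x : Subgroup.centralizer ((P : Subgroup G) : Set G), (x : G) ∈ (P : Subgroup G) → (θ : Subgroup.centralizer ((P : Subgroup G) : Set G) → ℂ) x = (θ : Subgroup.centralizer ((P : Subgroup G) : Set G) → ℂ) 1) (T : Subgroup G) (hT : ∀ g : G, g ∈ T ↔ (g ∈ Subgroup.normalizer ((P : Subgroup G) : Set G) ∧ ∀ c c' :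 Subgroup.centralizer ((P : Subgroup G) : Set G), (c' : G) = g * c * g⁻¹ → (θ : Subgroup.centralizer ((P : Subgroup G) : Set G) → ℂ) c' = (θ : Subgroup.centralizer ((P : Subgroup G) : Set G) → ℂ) c)) (e f : ℕ) (he : (Subgroup.centralizer ((P : Subgroup G) : Set G)).relIndex T = e) (hf : (Subgroup.centralizer ((P : Subgroup G) : Set G)).relIndex (Subgroup.normalizer ((P : Subgroup G) : Set G)) = f) : e ∣ p - 1 ∧ Nat.card B = e + (p - 1) / e ∧ ∃ X Y : Set (Cfsg.IrrCharacter G), B = X ∪ Y ∧ Disjoint X Y ∧ Nat.card X = e ∧ Nat.card Y = (p - 1) / e ∧ (∀ χ ∈ X, (Cfsg.charDegree (χ : G → ℂ) : ℤ) ≡ ((f / e * Cfsg.charDegree (θ : Subgroup.centralizer ((P : Subgroup G) : Set G) → ℂ) : ℕ) : ℤ) [ZMOD p] ∨ (Cfsg.charDegree (χ : G → ℂ) : ℤ) ≡ -((f / e * Cfsg.charDegree (θ : Subgroup.centralizer ((P : Subgroup G) : Set G) → ℂ) : ℕ) : ℤ) [ZMOD p]) ∧ (∃ ε : ℤ, (ε = 1 ∨ ε = -1) ∧ ∀ ψ ∈ Y, (Cfsg.charDegree (ψ : G → ℂ) : ℤ) ≡ ε * ((f * Cfsg.charDegree (θ : Subgroup.centralizer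 ((P : Subgroup G) : Set G) → ℂ) : ℕ) : ℤ) [ZMOD p]) ∧ ∀ ψ ∈ Y, ∀ ψ' ∈ Y, ∀ g : G, ¬ p ∣ orderOf g → (ψ : G → ℂ) g = (ψ' : G → ℂ) g := by
  classical
  letI : Fintype G := Fintype.ofFinite G
  have hp : p.Prime := Fact.out
  have hsyl : ¬ p ∣ (P : Subgroup G).index := P.not_dvd_index
  have haB : OfB p M B (⟨(P : Subgroup G), b⟩ : BrauerPairIdx G) :=
    Spec.ofB_of_induced (a := (⟨(P : Subgroup G), b⟩ : BrauerPairIdx G)) hM P.isPGroup' (DefectOne.le_cg hP) hind
  have hd : blockDefect p B ≠ 0 := fun h => by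
    have h1 := card_defectGroup hM hB hBP
    rw [h, pow_zero] at h1
    exact hp.one_lt.ne (h1.symm.trans hP)
  obtain ⟨u₀, hu₀, hu₁⟩ : ∃ u ∈ (P : Subgroup G), u ≠ 1 := by
    refine (Subgroup.bot_or_exists_ne_one (P : Subgroup G)).resolve_left fun h => hp.one_lt.ne ?_
    rw [← hP, show Nat.card P = Nat.card (P : Subgroup G) from rfl, h, Subgroup.card_bot]
  obtain ⟨R, X, y, c, ε, hD⟩ := DefectOne.exists_data hM hP hsyl hθ hθP hB haB hd hT hu₀ hu₁
  obtain ⟨hdX, hdY⟩ := DefectOne.degrees hM hP hsyl hθ hθP haB hT hu₀ hu₁ hD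
  obtain ⟨hcard, hdvd, hquot⟩ := DefectOne.counts hD
  rw [he] at hcard hdvd hquot
  have hfe : f / e = T.relIndex (Subgroup.normalizer ((P : Subgroup G) : Set G)) := by
    have he0 : 0 < e := Nat.pos_of_ne_zero fun h => by
      rw [h, zero_dvd_iff] at hdvd
      have := hp.two_le
      omega
    rw [← hf, ← Subgroup.relIndex_mul_relIndex _ T _ (DefectOne.cg_le_T hθ hT)
      (fun g hg => ((hT g).1 hg).1), he, Nat.mul_div_cancel_left _ he0]
  have hf' : f = e * T.relIndex (Subgroup.normalizer ((P : Subgroup G) : Set G)) := by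
    rw [← hf, ← Subgroup.relIndex_mul_relIndex _ T _ (DefectOne.cg_le_T hθ hT)
      (fun g hg => ((hT g).1 hg).1), he]
  refine ⟨hdvd, hcard, (X : Set (IrrCharacter G)), Set.range y, ?_, ?_, ?_, hquot, fun χ hχ => ?_,
    ⟨ε, hD.ε_sign, ?_⟩, ?_⟩
  · ext χ
    simp [hD.mem_iff χ]
  · rw [Set.disjoint_right]
    rintro _ ⟨q, rfl⟩ h
    exact hD.disj q h
  · rw [Nat.card_coe_set_eq, Set.ncard_coe_finset, hD.card_X, he]
  · have h := hdX χ hχ
    rw [← hfe] at h
    rcases hD.c_sign χ hχ with hc | hc <;> rw [hc] at h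
    · exact Or.inr (by simpa using h)
    · exact Or.inl (by simpa using h)
  · rintro _ ⟨q, rfl⟩
    have h := hdY q
    rw [he, ← hf'] at h
    exact h
  · exact DefectOne.Y_agree hD

end Cfsg.Agent.S4442
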