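import Cfsg.Statements.S4444
import Cfsg.Agent.Lib.Char.GlaubermanSolvable

set_option autoImplicit false
open Cfsg

namespace Cfsg.Agent.S4444

open Cfsg.Agent.Char Cfsg.Agent.Char.Glaub Cfsg.Agent.Block

universe u

theorem facts {H : Type u} [Group H] [Fintype H] {A : Subgroup (MulAut H)} [Fintype (fix A)]
    {p : ℕ} (hp : p.Prime) (hA : IsPGroup p A) (hcop : (Nat.card H).Coprime (Nat.card A)) :
    (∀ χ : IrrCharacter H, Inv A (χ : H → ℂ) → ∃ β : IrrCharacter (fix A), Corr p χ β) ∧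
    (∀ χ : IrrCharacter H, Inv A (χ : H → ℂ) → ∀ β β' : IrrCharacter (fix A),
      Corr p χ β → Corr p χ β' → β = β') ∧
    (∀ χ : IrrCharacter H, Inv A (χ : H → ℂ) → ∀ β : IrrCharacter (fix A), Corr p χ β →
      ((mult (fix A) (χ : H → ℂ) (β : fix A → ℂ) : ℕ) : ℤ) ≡ 1 [ZMOD p] ∨
      ((mult (fix A) (χ : H → ℂ) (β : fix A → ℂ) : ℕ) : ℤ) ≡ -1 [ZMOD p]) ∧
    (∀ χ χ' : IrrCharacter H, Inv A (χ : H → ℂ) → Inv A (χ' : H → ℂ) →
      ∀ β : IrrCharacter (fix A), Corr p χ β → Corr p χ' β → χ = χ') ∧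
    (∀ β : IrrCharacter (fix A), ∃ χ : IrrCharacter H, Inv A (χ : H → ℂ) ∧ Corr p χ β) := by
  classical
  obtain ⟨M, hM⟩ := exists_isPModular p hp
  haveI : Fact p.Prime := ⟨hp⟩
  rcases eq_or_ne A ⊥ with hA0 | hA0
  · have hfix : ∀ g : H, g ∈ fix A := fun g a ha => by
      rw [hA0, Subgroup.mem_bot] at ha
      rw [ha]
      rfl
    let e : H ≃* fix A :=
      { toFun := fun g => ⟨g, hfix g⟩
        invFun := fun c => c
        left_inv := fun g => rfl
        right_inv := fun c => rfl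
        map_mul' := fun g g' => rfl }
    let down : IrrCharacter H → IrrCharacter (fix A) := fun χ =>
      ⟨fun c => (χ : H → ℂ) c, IsIrr.comp_surjective e.symm.toMonoidHom e.symm.surjective χ.2⟩
    have hmult : ∀ (χ : IrrCharacter H) (β : IrrCharacter (fix A)), mult (fix A) (χ : H → ℂ) (β : fix A → ℂ) = if down χ = β then 1 else 0 := by
      intro χ β
      have h := mult_spec (fix A) (irr_isChar χ) (irr_isChar β)
      change classInner (down χ : fix A → ℂ) (β : fix A → ℂ) = _ at h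
      rw [classInner_irr_eq_ite (down χ).2 β.2] at h
      by_cases hb : down χ = β
      · rw [if_pos (congrArg Subtype.val hb)] at h
        rw [if_pos hb]
        exact_mod_cast h.symm
      · rw [if_neg fun h' => hb (Subtype.ext h')] at h
        rw [if_neg hb]
        exact_mod_cast h.symm
    have hcorr : ∀ (χ : IrrCharacter H) (β : IrrCharacter (fix A)), Corr p χ β ↔ down χ = β := by
      intro χ β
      unfold Corr
      rw [hmult]
      split_ifs with h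
      · simp [h, hp.ne_one]
      · simp [h]
    refine ⟨fun χ _ => ⟨down χ, (hcorr _ _).mpr rfl⟩, fun χ _ β β' h h' => ((hcorr _ _).mp h).symm.trans
      ((hcorr _ _).mp h'), fun χ _ β h => Or.inl ?_, fun χ χ' _ _ β h h' => ?_, fun β => ?_⟩
    · rw [hmult, if_pos ((hcorr _ _).mp h)]
      rfl
    · have := congrArg Subtype.val (((hcorr _ _).mp h).trans ((hcorr _ _).mp h').symm)
      exact Subtype.ext (funext fun g => congrFun this (e g))
    · exact ⟨⟨fun g => (β : fix A → ℂ) (e g), IsIrr.comp_surjective e.toMonoidHom e.surjective β.2⟩,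
        fun a ha g => by rw [hA0, Subgroup.mem_bot] at ha; rw [ha]; rfl, (hcorr _ _).mpr rfl⟩
  · have hpA : p ∣ Nat.card A := by
      haveI := finite_mulAut (G := H)
      haveI : Nontrivial A := A.nontrivial_iff_ne_bot.mpr hA0
      obtain ⟨k, hk, hk'⟩ := hA.nontrivial_iff_card.mp inferInstance
      exact hk' ▸ dvd_pow_self p hk.ne'
    have hc := hcop.coprime_dvd_right hpA
    exact ⟨fun χ h => exists_corr hM hA hc h, fun χ h β β' => corr_unique hM hA hc h,
      fun χ h β => corr_sign hM hA hc h, fun χ χ' h h' β => corr_inj hM hA hc h h',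
      fun β => surj_corr hM hA hc β⟩

/-- The Glauberman correspondence for a p-group of operators. Inside a finite group Γ let S normalise G with the orders of G and S coprime, S a p-group, and let C = G ⊓ C(S) be the fixed points. Call an irreducible character χ of G S-invariant when χ(s g s⁻¹) = χ(g) for s ∈ S, g ∈ G. Then: (i) for every S-invariant χ there is exactly one irreducible character β of C whose multiplicity [χ_C, β] in the restriction of χ is not divisible by p; (ii) that multiplicity is ≡ 1 or ≡ −1 (mod p); (iii) distinct S-invariant χ give distinct β; (iv) every irreducible character of C arises in this way. So χ ↦ β is a bijection from the S-invariant irreducible characters of G onto the irreducible characters of C. -/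
theorem result {Γ : Type*} [Group Γ] [Fintype Γ] (G S : Subgroup Γ) [Fintype G] (hnorm : ∀ s ∈ S, ∀ g ∈ G, s * g * s⁻¹ ∈ G) (hcop : (Nat.card G).Coprime (Nat.card S)) (p : ℕ) (hp : p.Prime) (hS : IsPGroup p S) (C : Subgroup Γ) [Fintype C] (hC : C = G ⊓ Subgroup.centralizer (S : Set Γ)) (hCG : C ≤ G) : (∀ χ : Cfsg.IrrCharacter G, (∀ s ∈ S, ∀ g g' : G, (g' : Γ) = s * g * s⁻¹ → (χ : G → ℂ) g' = (χ : G → ℂ) g) → ∃! β : Cfsg.IrrCharacter C, ∃ m : ℕ, Cfsg.classInner (fun c : C => (χ : G → ℂ) ⟨c, hCG c.2⟩) (β : C → ℂ) = (m : ℂ) ∧ ¬ p ∣ m) ∧ (∀ χ : Cfsg.IrrCharacter G, (∀ s ∈ S, ∀ g g' : G, (g' : Γ) = s * g * s⁻¹ → (χ : G → ℂ) g' = (χ : G → ℂ) g) → ∀ β : Cfsg.IrrCharacter C, ∀ m : ℕ, Cfsg.classInner (fun c : C => (χ : G → ℂ) ⟨c, hCG c.2⟩) (β : C → ℂ) = (m : ℂ) → ¬ p ∣ m → ((m : ℤ) ≡ 1 [ZMOD p] ∨ (m : ℤ) ≡ -1 [ZMOD p])) ∧ (∀ χ χ' : Cfsg.IrrCharacter G, (∀ s ∈ S, ∀ g g' : G, (g' : Γ) = s * g * s⁻¹ → (χ : G → ℂ) g' = (χ : G → ℂ) g)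 → (∀ s ∈ S, ∀ g g' : G, (g' : Γ) = s * g * s⁻¹ → (χ' : G → ℂ) g' = (χ' : G → ℂ) g) → ∀ β : Cfsg.IrrCharacter C, ∀ m m' : ℕ, Cfsg.classInner (fun c : C => (χ : G → ℂ) ⟨c, hCG c.2⟩) (β : C → ℂ) = (m : ℂ) → ¬ p ∣ m → Cfsg.classInner (fun c : C => (χ' : G → ℂ) ⟨c, hCG c.2⟩) (β : C → ℂ) = (m' : ℂ) → ¬ p ∣ m' → χ = χ') ∧ (∀ β : Cfsg.IrrCharacter C, ∃ χ : Cfsg.IrrCharacter G, (∀ s ∈ S, ∀ g g' : G, (g' : Γ) = s * g * s⁻¹ → (χ : G → ℂ) g' = (χ : G → ℂ) g) ∧ ∃ m : ℕ, Cfsg.classInner (fun c : C => (χ : G → ℂ) ⟨c, hCG c.2⟩) (β : C → ℂ) = (m : ℂ) ∧ ¬ p ∣ m) := by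
  classical
  let A := (conjHom G S hnorm).range
  haveI : Fintype (fix A) := Fintype.ofFinite _
  obtain ⟨f1, f2, f3, f4, f5⟩ := facts (A := A) hp
    (hS.of_surjective _ (conjHom G S hnorm).rangeRestrict_surjective)
    (coprime_conjHom_range hnorm hcop)
  have hmem : ∀ g : G, g ∈ fix A ↔ (g : Γ) ∈ C := by
    intro g
    rw [hC, Subgroup.mem_inf, Subgroup.mem_centralizer_iff]
    constructor
    · intro h
      refine ⟨g.2, fun s hs => ?_⟩
      have := congrArg Subtype.val (h _ ⟨⟨s, hs⟩, rfl⟩)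
      exact mul_inv_eq_iff_eq_mul.mp this
    · rintro ⟨-, h⟩ _ ⟨s, rfl⟩
      exact Subtype.ext (mul_inv_eq_iff_eq_mul.mpr (h s s.2))
  let e : fix A ≃* C :=
    { toFun := fun c => ⟨((c : G) : Γ), (hmem _).mp c.2⟩
      invFun := fun c => ⟨⟨c, hCG c.2⟩, (hmem _).mpr c.2⟩
      left_inv := fun c => rfl
      right_inv := fun c => rfl
      map_mul' := fun x y => rfl }
  let up : IrrCharacter C → IrrCharacter (fix A) := fun β =>
    ⟨fun c => (β : C → ℂ) (e c), IsIrr.comp_surjective e.toMonoidHom e.surjective β.2⟩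
  let dn : IrrCharacter (fix A) → IrrCharacter C := fun β =>
    ⟨fun c => (β : fix A → ℂ) (e.symm c), IsIrr.comp_surjective e.symm.toMonoidHom e.symm.surjective β.2⟩
  have hud : ∀ β, up (dn β) = β := fun β => rfl
  have hupinj : Function.Injective up := fun β β' h => Subtype.ext (funext fun c => by
    have := congrFun (congrArg Subtype.val h) (e.symm c)
    exact this)
  have hinner : ∀ (χ : IrrCharacter G) (β : IrrCharacter C),
      classInner (fun c : C => (χ : G → ℂ) ⟨c, hCG c.2⟩) (β : C → ℂ) =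
        (mult (fix A) (χ : G → ℂ) (up β : fix A → ℂ) : ℂ) := by
    intro χ β
    rw [← mult_spec (fix A) (irr_isChar χ) (irr_isChar (up β)),
      ← classInner_comp_surjective e.toMonoidHom e.surjective]
    rfl
  have hinv : ∀ χ : IrrCharacter G, (∀ s ∈ S, ∀ g g' : G, (g' : Γ) = s * g * s⁻¹ →
      (χ : G → ℂ) g' = (χ : G → ℂ) g) ↔ Inv A (χ : G → ℂ) := fun χ =>
    (inv_conjHom_iff G S hnorm _).symm
  refine ⟨fun χ hχ => ?_, fun χ hχ β m hm hpm => ?_, fun χ χ' hχ hχ' β m m' hm hpm hm' hpm' => ?_,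
    fun β => ?_⟩
  · obtain ⟨β, hβ⟩ := f1 χ ((hinv χ).mp hχ)
    refine ⟨dn β, ⟨_, hinner χ (dn β), hβ⟩, fun β' ⟨m, hm, hpm⟩ => hupinj ?_⟩
    rw [hinner, Nat.cast_inj] at hm
    exact f2 χ ((hinv χ).mp hχ) _ _ (show Corr p χ (up β') by unfold Corr; rw [hm]; exact hpm) hβ
  · rw [hinner, Nat.cast_inj] at hm
    subst hm
    exact f3 χ ((hinv χ).mp hχ) _ hpm
  · rw [hinner, Nat.cast_inj] at hm hm'
    subst hm hm'
    exact f4 χ χ' ((hinv χ).mp hχ) ((hinv χ').mp hχ') _ hpm hpm'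
  · obtain ⟨χ, hχ, hc⟩ := f5 (up β)
    exact ⟨χ, (hinv χ).mpr hχ, _, hinner χ β, hc⟩

end Cfsg.Agent.S4444
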