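import Cfsg.Statements.S4446
import Cfsg.Agent.Lib.Char.CyclicGlauberman
-- import your own Cfsg.Agent.* helpers here

set_option autoImplicit false
open Cfsg

namespace Cfsg.Agent.S4446

/-- Let the finite group Γ be generated by a normal subgroup G and a cyclic subgroup S of coprime orders, C = G ⊓ C(S), and let χ be an S-invariant irreducible character of G with canonical extension χ̂ to Γ (the extension whose determinantal order is coprime to the order of S). Then there are exactly one irreducible character β of C and one sign ε such that χ̂(c s) = ε β(c) for every c ∈ C and every generator s of S; this β is a constituent of the restriction of χ to C; distinct S-invariant χ give distinct β; and every irreducible character of C arises in this way. -/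
theorem result {Γ : Type*} [Group Γ] [Fintype Γ] (G S : Subgroup Γ) [Fintype G] (hnorm : ∀ s ∈ S, ∀ g ∈ G, s * g * s⁻¹ ∈ G) (hcop : (Nat.card G).Coprime (Nat.card S)) (htop : G ⊔ S = ⊤) (hcyc : IsCyclic S) (C : Subgroup Γ) [Fintype C] (hC : C = G ⊓ Subgroup.centralizer (S : Set Γ)) (hCG : C ≤ G) : (∀ (χ : Cfsg.IrrCharacter G) (χh : Cfsg.IrrCharacter Γ), (∀ s ∈ S, ∀ g g' : G, (g' : Γ) = s * g * s⁻¹ → (χ : G → ℂ) g' = (χ : G → ℂ) g) → (∀ g : G, (χh : Γ → ℂ) g = (χ : G → ℂ) g) → (Cfsg.detOrder (χh : Γ → ℂ)).Coprime (Nat.card S) → (∃! βε : Cfsg.IrrCharacter C × ℤ, (βε.2 = 1 ∨ βε.2 = -1) ∧ ∀ c : C, ∀ s : Γ, Subgroup.zpowers s = S → (χh : Γ → ℂ) ((c : Γ) * s) = (βε.2 : ℂ) * (βε.1 : C → ℂ) c) ∧ ∀ β : Cfsg.IrrCharacter C, ∀ ε : ℤ, (ε = 1 ∨ ε = -1) → (∀ c : C, ∀ s : Γ, Subgroup.zpowers s = S → (χh : Γ → ℂ) ((c : Γ) * s) = (ε : ℂ) * (β : C → ℂ) c) → Cfsg.classInner (fun c : C => (χ : G → ℂ) ⟨c, hCG c.2⟩)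 (β : C → ℂ) ≠ 0) ∧ (∀ (χ χ' : Cfsg.IrrCharacter G) (χh χh' : Cfsg.IrrCharacter Γ), (∀ s ∈ S, ∀ g g' : G, (g' : Γ) = s * g * s⁻¹ → (χ : G → ℂ) g' = (χ : G → ℂ) g) → (∀ s ∈ S, ∀ g g' : G, (g' : Γ) = s * g * s⁻¹ → (χ' : G → ℂ) g' = (χ' : G → ℂ) g) → (∀ g : G, (χh : Γ → ℂ) g = (χ : G → ℂ) g) → (∀ g : G, (χh' : Γ → ℂ) g = (χ' : G → ℂ) g) → (Cfsg.detOrder (χh : Γ → ℂ)).Coprime (Nat.card S) → (Cfsg.detOrder (χh' : Γ → ℂ)).Coprime (Nat.card S) → ∀ β : Cfsg.IrrCharacter C, ∀ ε ε' : ℤ, (ε = 1 ∨ ε = -1) → (ε' = 1 ∨ ε' = -1) → (∀ c : C, ∀ s : Γ, Subgroup.zpowers s = S → (χh : Γ → ℂ) ((c : Γ) * s) = (ε : ℂ) * (β : C → ℂ) c) → (∀ c : C, ∀ s : Γ, Subgroup.zpowers s = S → (χh' : Γ → ℂ) ((c : Γ) * s) = (ε' : ℂ) * (β : C → ℂ) c) → χ = χ') ∧ (∀ β : Cfsg.IrrCharacter C, ∃ (χ : Cfsg.IrrCharacter G) (χh : Cfsg.IrrCharacter Γ) (ε : ℤ), (∀ s ∈ S, ∀ g g' : G, (g' : Γ) = s * g * s⁻¹ → (χ : G → ℂ) g' = (χ : G → ℂ) g) ∧ (∀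 g : G, (χh : Γ → ℂ) g = (χ : G → ℂ) g) ∧ (Cfsg.detOrder (χh : Γ → ℂ)).Coprime (Nat.card S) ∧ (ε = 1 ∨ ε = -1) ∧ ∀ c : C, ∀ s : Γ, Subgroup.zpowers s = S → (χh : Γ → ℂ) ((c : Γ) * s) = (ε : ℂ) * (β : C → ℂ) c) := by
  classical
  obtain ⟨s, hs⟩ := (Subgroup.isCyclic_iff_exists_zpowers_eq_top S).1 hcyc
  haveI hGn : G.Normal := by
    refine Subgroup.normalizer_eq_top_iff.1 (eq_top_iff.2 (htop ▸ sup_le Subgroup.le_normalizer ?_))
    intro y hy
    refine Subgroup.mem_normalizer_iff.2 fun g => ⟨hnorm y hy g, fun hg => ?_⟩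
    simpa [mul_assoc] using hnorm y⁻¹ (inv_mem hy) _ hg
  have hm : orderOf s = Nat.card S := by rw [← hs, Nat.card_zpowers]
  have hidx : G.index = orderOf s := by
    rw [hm]
    exact ((Subgroup.isComplement'_of_disjoint_and_mul_eq_univ
      (Subgroup.disjoint_of_coprime_natCard hcop)
      (by rw [← Subgroup.normal_mul, htop, Subgroup.coe_top])).symm).index_eq_card
  have h : Cfsg.Agent.Char.CycGlaub.Setup G s C := by
    refine ⟨hm ▸ hcop, hidx, fun x => ?_, fun x => ?_⟩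
    · have hx : x ∈ ((G ⊔ S : Subgroup Γ) : Set Γ) := by rw [htop]; trivial
      rw [Subgroup.normal_mul] at hx
      obtain ⟨g, hg, y, hy, rfl⟩ := hx
      obtain ⟨i, hi⟩ := mem_powers_iff_mem_zpowers.2 (show y ∈ Subgroup.zpowers s from hs.symm ▸ hy)
      refine ⟨i, ?_⟩
      simp only at hi
      subst hi
      simpa using hg
    · rw [hC, Subgroup.mem_inf, ← hs, Subgroup.mem_centralizer_iff]
      refine and_congr_right fun _ => ⟨fun h => (h s (Subgroup.mem_zpowers s)).symm, fun h y hy => ?_⟩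
      obtain ⟨i, rfl⟩ := Subgroup.mem_zpowers_iff.1 hy
      exact ((show Commute x s from h).zpow_right i).eq.symm
  have hgen : ∀ t : Γ, Subgroup.zpowers t = S → ∃ k : ℕ, k.Coprime (orderOf s) ∧ t = s ^ k :=
    fun t ht => Cfsg.Agent.Char.CycGlaub.exists_pow_of_gen (ht.trans hs.symm)
  have hresIrr : ∀ (χ : Cfsg.IrrCharacter G) (χh : Cfsg.IrrCharacter Γ),
      (∀ g : G, (χh : Γ → ℂ) g = (χ : G → ℂ) g) →
        (fun g : G => (χh : Γ → ℂ) g) = (χ : G → ℂ) := fun χ χh he => funext he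
  refine ⟨?_, ?_, ?_⟩
  · intro χ χh _ hext hdet
    have hres : Cfsg.IsIrrCharacter G (fun g : G => (χh : Γ → ℂ) g) :=
      (hresIrr χ χh hext).symm ▸ χ.2
    obtain ⟨β, ε, hε, hv, hne⟩ := h.exists_sign χh hres (hm ▸ hdet)
    have huniq : ∀ (β' : Cfsg.IrrCharacter C) (ε' : ℤ), (ε' = 1 ∨ ε' = -1) →
        (∀ c : C, ∀ t : Γ, Subgroup.zpowers t = S →
          (χh : Γ → ℂ) ((c : Γ) * t) = (ε' : ℂ) * (β' : C → ℂ) c) → β' = β ∧ ε' = ε := by
      intro β' ε' hε' hv'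
      have e : (ε' : ℂ) • (β' : C → ℂ) = (ε : ℂ) • (β : C → ℂ) := funext fun c => by
        have h1 := hv 1 (Nat.coprime_one_left _) c
        rw [pow_one, hv' c s hs] at h1
        exact h1
      have h1 := congrArg (fun f => Cfsg.classInner f (β : C → ℂ)) e
      simp only [Cfsg.Agent.Char.classInner_smul_left,
        Cfsg.Agent.Char.classInner_self_irr β.2, mul_one] at h1
      by_cases hbb : β' = β
      · subst hbb
        rw [Cfsg.Agent.Char.classInner_self_irr β'.2, mul_one] at h1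
        exact ⟨rfl, by exact_mod_cast h1⟩
      · rw [Cfsg.Agent.Char.classInner_irr_ne β'.2 β.2 fun he => hbb (Subtype.ext he), mul_zero] at h1
        exfalso
        rcases hε with rfl | rfl <;> simp at h1
    refine ⟨⟨(β, ε), ⟨hε, fun c t ht => ?_⟩, fun y hy => ?_⟩, fun β' ε' hε' hv' => ?_⟩
    · obtain ⟨k, hk, rfl⟩ := hgen t ht
      exact hv k hk c
    · obtain ⟨h1, h2⟩ := huniq y.1 y.2 hy.1 hy.2
      exact Prod.ext h1 h2
    · obtain ⟨rfl, -⟩ := huniq β' ε' hε' hv'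
      have e : (fun c : C => (χ : G → ℂ) ⟨c, hCG c.2⟩) = fun c : C => (χh : Γ → ℂ) c :=
        funext fun c => (hext ⟨c, hCG c.2⟩).symm
      rw [e]
      exact hne
  · intro χ χ' χh χh' _ _ hext hext' _ _ β ε ε' hε hε' hv hv'
    by_contra hne
    have e1 := hresIrr χ χh hext
    have e2 := hresIrr χ' χh' hext'
    have h0 := h.inner_ne χh χh' (e1.symm ▸ χ.2) (e2.symm ▸ χ'.2)
      (by rw [e1, e2]; exact fun he => hne (Subtype.ext he))
    have f1 : (fun c : C => (χh : Γ → ℂ) (c * s)) = (ε : ℂ) • (β : C → ℂ) :=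
      funext fun c => hv c s hs
    have f2 : (fun c : C => (χh' : Γ → ℂ) (c * s)) = (ε' : ℂ) • (β : C → ℂ) :=
      funext fun c => hv' c s hs
    rw [f1, f2, Cfsg.Agent.Char.classInner_smul_left,
      ← Cfsg.Agent.Char.classInner_conj_symm ((ε' : ℂ) • (β : C → ℂ)) (β : C → ℂ),
      Cfsg.Agent.Char.classInner_smul_left, Cfsg.Agent.Char.classInner_self_irr β.2] at h0
    rcases hε with rfl | rfl <;> rcases hε' with rfl | rfl <;> simp at h0
  · intro β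
    obtain ⟨χh, ε, hres, hdet, hε, hv⟩ := h.exists_preimage β
    refine ⟨⟨_, hres⟩, χh, ε, fun y hy g g' hg => ?_, fun g => rfl, hm ▸ hdet, hε, fun c t ht => ?_⟩
    · show (χh : Γ → ℂ) g' = (χh : Γ → ℂ) g
      rw [hg]
      exact Cfsg.Agent.Char.IsIrr.classFun χh.2 _ _
    · obtain ⟨k, hk, rfl⟩ := hgen t ht
      exact hv k hk c

end Cfsg.Agent.S4446
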