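import Cfsg.Statements.S4448
import Cfsg.Agent.Lib.Char.InvariantConstituent
-- import your own Cfsg.Agent.* helpers here

set_option autoImplicit false
open Cfsg

namespace Cfsg.Agent.S4448

/-- Inside a finite group Γ let S normalise G and also normalise a normal subgroup N of G, with the order of S coprime to the index of N in G and G/N solvable. Then for every S-invariant irreducible character ϑ of N, the induced character ϑ^G has an S-invariant irreducible constituent. -/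
theorem result {Γ : Type*} [Group Γ] [Fintype Γ] (G S N : Subgroup Γ) [Fintype G] [Fintype N] (hnorm : ∀ s ∈ S, ∀ g ∈ G, s * g * s⁻¹ ∈ G) (hNG : N ≤ G) [hNn : (N.subgroupOf G).Normal] (hNS : ∀ s ∈ S, ∀ n ∈ N, s * n * s⁻¹ ∈ N) (hcop : (N.relIndex G).Coprime (Nat.card S)) (hsolv : Group.IsSolvable (G ⧸ N.subgroupOf G)) (θ : Cfsg.IrrCharacter N) (hinv : (∀ s ∈ S, ∀ g g' : N, (g' : Γ) = s * g * s⁻¹ → (θ : N → ℂ) g' = (θ : N → ℂ) g)) : ∃ χ : Cfsg.IrrCharacter G, Cfsg.classInner (fun n : N => (χ : G → ℂ) ⟨n, hNG n.2⟩) (θ : N → ℂ) ≠ 0 ∧ (∀ s ∈ S, ∀ g g' : G, (g' : Γ) = s * g * s⁻¹ → (χ : G → ℂ) g' = (χ : G → ℂ) g) := by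
  classical
  let W : Subgroup Γ :=
    { carrier := {w | ∃ s ∈ S, ∃ g ∈ G, w = s * g}
      one_mem' := ⟨1, one_mem _, 1, one_mem _, (one_mul _).symm⟩
      mul_mem' := by
        rintro _ _ ⟨s, hs, g, hg, rfl⟩ ⟨t, ht, g', hg', rfl⟩
        refine ⟨s * t, mul_mem hs ht, t⁻¹ * g * t * g', mul_mem ?_ hg', by group⟩
        have := hnorm t⁻¹ (inv_mem ht) g hg
        rwa [inv_inv] at this
      inv_mem' := by
        rintro _ ⟨s, hs, g, hg, rfl⟩
        exact ⟨s⁻¹, S.inv_mem hs, s * g⁻¹ * s⁻¹, hnorm s hs _ (G.inv_mem hg), by group⟩ }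
  have hGW : G ≤ W := fun g hg => ⟨1, one_mem _, g, hg, (one_mul g).symm⟩
  have hSW : S ≤ W := fun s hs => ⟨s, hs, 1, one_mem _, (mul_one s).symm⟩
  have hWG : ∀ w ∈ W, ∀ g ∈ G, w * g * w⁻¹ ∈ G := by
    rintro _ ⟨s, hs, h, hh, rfl⟩ g hg
    have := hnorm s hs _ (mul_mem (mul_mem hh hg) (inv_mem hh))
    convert this using 1
    group
  have hWN : ∀ w ∈ W, ∀ g ∈ N, w * g * w⁻¹ ∈ N := by
    rintro _ ⟨s, hs, h, hh, rfl⟩ g hg
    have h1 : h * g * h⁻¹ ∈ N := hNn.conj_mem ⟨g, hNG hg⟩ hg ⟨h, hh⟩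
    have := hNS s hs _ h1
    convert this using 1
    group
  haveI : (G.subgroupOf W).Normal := ⟨fun x hx w => hWG w w.2 x hx⟩
  have hdvd : G.relIndex W ∣ Nat.card S := by
    show (G.subgroupOf W).index ∣ _
    rw [Subgroup.index_eq_card]
    refine Subgroup.card_dvd_of_surjective
      ((QuotientGroup.mk' (G.subgroupOf W)).comp (Subgroup.inclusion hSW)) ?_
    intro q
    obtain ⟨⟨_, s, hs, g, hg, rfl⟩, rfl⟩ := QuotientGroup.mk'_surjective _ q
    refine ⟨⟨s, hs⟩, (QuotientGroup.eq).2 ?_⟩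
    show (s⁻¹ * (s * g) : Γ) ∈ G
    rwa [inv_mul_cancel_left]
  obtain ⟨χ, h1, h2⟩ := Cfsg.Agent.Char.InvAbove.exists_inv_solvable _ W G N rfl hGW hNG hWG hWN
    (hcop.symm.coprime_dvd_left hdvd) (Cfsg.Agent.Char.InvAbove.commutator_cond hNG hsolv) θ (by
      rintro _ ⟨s, hs, g, hg, rfl⟩
      exact ⟨g⁻¹, inv_mem hg, fun n n' he => hinv s hs n n' (by simpa using he)⟩)
  exact ⟨χ, h1, fun s hs g g' he => h2 s (hSW hs) g g' he⟩

end Cfsg.Agent.S4448
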