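import Cfsg.Statements.S4451
import Cfsg.Agent.Lib.Char.NearConstant

set_option autoImplicit false
open Cfsg

namespace Cfsg.Agent.S4451
open scoped ComplexConjugate
open Cfsg.Agent.Char Cfsg.Agent.Char.NearConst


/-- Let the finite group Γ be generated by a normal subgroup G and a cyclic subgroup S of coprime orders such that every non-identity element of S has the same centraliser C = G ⊓ C(S) in G. Let χ be an S-invariant irreducible character of G, χ̂ its canonical extension to Γ (determinantal order coprime to the order of S), and β the irreducible character of C with χ̂(c s) = ε₀ β(c) for c ∈ C and generators s of S (ε₀ = ±1). Then there are a sign ε = ±1, which may differ from ε₀, and a linear character μ of S with μ² = 1, such that: (a) χ̂(c x) = ε β(c) μ(x) for all c ∈ C and all x ∈ S other than 1; (b) the restriction of χ to C equals |S|·ϑ + ε β for some character ϑ of C or ϑ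 = 0; (c) |S| divides χ(1) − ε β(1). -/
theorem result {Γ : Type*} [Group Γ] [Fintype Γ] (G S : Subgroup Γ) [Fintype G] (hnorm : ∀ s ∈ S, ∀ g ∈ G, s * g * s⁻¹ ∈ G) (hcop : (Nat.card G).Coprime (Nat.card S)) (htop : G ⊔ S = ⊤) (hcyc : IsCyclic S) (C : Subgroup Γ) [Fintype C] (hC : C = G ⊓ Subgroup.centralizer (S : Set Γ)) (hCG : C ≤ G) (hfpf : ∀ x ∈ S, x ≠ 1 → G ⊓ Subgroup.centralizer ({x} : Set Γ) = C) (χ : Cfsg.IrrCharacter G) (hinv : (∀ s ∈ S, ∀ g g' : G, (g' : Γ) = s * g * s⁻¹ → (χ : G → ℂ) g' = (χ : G → ℂ) g)) (χh : Cfsg.IrrCharacter Γ) (hext : (∀ g : G, (χh : Γ → ℂ) g = (χ : G → ℂ) g)) (hdet : (Cfsg.detOrder (χh : Γ → ℂ)).Coprime (Nat.card S)) (β : Cfsg.IrrCharacter C) (ε₀ : ℤ) (hε₀ : ε₀ = 1 ∨ ε₀ = -1) (hβ : ∀ c : C, ∀ s : Γ, Subgroup.zpowers s = S → (χh : Γ → ℂ) ((c : Γ) * s) = (ε₀ : ℂ) * (β : C → ℂ) c) : ∃ ε : ℤ, (ε = 1 ∨ ε = -1) ∧ (∃ μ : S → ℂ, Cfsg.IsCharacter S μ ∧ μ 1 = 1 ∧ (∀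 x : S, μ x * μ x = 1) ∧ ∀ c : C, ∀ x : S, x ≠ 1 → (χh : Γ → ℂ) ((c : Γ) * x) = (ε : ℂ) * (β : C → ℂ) c * μ x) ∧ (∃ ϑ : C → ℂ, Cfsg.IsCharacter C ϑ ∧ (fun c : C => (χ : G → ℂ) ⟨c, hCG c.2⟩) = fun c => (Nat.card S : ℂ) * ϑ c + (ε : ℂ) * (β : C → ℂ) c) ∧ (Nat.card S : ℤ) ∣ (Cfsg.charDegree (χ : G → ℂ) : ℤ) - ε * (Cfsg.charDegree (β : C → ℂ) : ℤ) := by
  classical
  haveI hGn : G.Normal := Subgroup.normalizer_eq_top_iff.1 (top_le_iff.1 (htop ▸
    sup_le Subgroup.le_normalizer (fun t ht => Subgroup.mem_normalizer_iff.2 fun g =>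
      ⟨hnorm t ht g, fun hg => by simpa [mul_assoc] using hnorm t⁻¹ (inv_mem ht) _ hg⟩)))
  have hinf : ∀ y : Γ, y ∈ G → y ∈ S → y = 1 := fun y hG hS => by
    rw [← orderOf_eq_one_iff]
    refine Nat.eq_one_of_dvd_coprimes hcop ?_ ?_
    · rw [← Subgroup.orderOf_mk y hG]; exact orderOf_dvd_natCard _
    · rw [← Subgroup.orderOf_mk y hS]; exact orderOf_dvd_natCard _
  obtain ⟨⟨s, hsS⟩, hs⟩ := hcyc.exists_generator
  have hzp : Subgroup.zpowers s = S := le_antisymm (Subgroup.zpowers_le.2 hsS) fun x hx => by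
    obtain ⟨i, hi⟩ := hs ⟨x, hx⟩
    exact ⟨i, congrArg Subtype.val hi⟩
  by_cases hs1 : s = 1
  · -- trivial operators
    have hS : ∀ x ∈ S, x = 1 := fun x hx => by
      rw [← hzp, hs1, Subgroup.zpowers_one_eq_bot, Subgroup.mem_bot] at hx
      exact hx
    have hcard : Nat.card S = 1 := Subgroup.card_eq_one.2 (eq_bot_iff.2 fun x hx => hS x hx)
    have hval : ∀ c : C, (χ : G → ℂ) ⟨c, hCG c.2⟩ = (ε₀ : ℂ) * (β : C → ℂ) c := fun c => by
      rw [← hext, ← hβ c s hzp, hs1, mul_one]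
    refine ⟨ε₀, hε₀, ⟨fun _ => 1, IsChar.one, rfl, fun _ => mul_one _,
      fun c x hx => absurd (Subtype.ext (hS x x.2)) hx⟩, ⟨0, IsChar.zero, funext fun c => ?_⟩, ?_⟩
    · rw [hval, Pi.zero_apply, mul_zero, zero_add]
    · rw [hcard, Nat.cast_one]
      exact one_dvd _
  -- the fixed point section
  set M : Subgroup Γ := Subgroup.centralizer (S : Set Γ) with hMdef
  letI : Fintype M := Fintype.ofFinite _
  set C' : Subgroup M := C.subgroupOf M with hC'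
  letI : Fintype C' := Fintype.ofFinite _
  have hCM : C ≤ M := hC ▸ inf_le_right
  have hmem : ∀ y : M, y ∈ C' ↔ (y : Γ) ∈ G := fun y => by
    rw [hC', Subgroup.mem_subgroupOf, hC]
    exact ⟨fun h => h.1, fun h => ⟨h, y.2⟩⟩
  haveI hC'n : C'.Normal := ⟨fun n hn g => (hmem _).2 (hGn.conj_mem _ ((hmem n).1 hn) g)⟩
  have hSM : S ≤ M := fun x hx => Subgroup.mem_centralizer_iff.2 fun h hh => by
    haveI := hcyc
    exact congrArg Subtype.val ((IsCyclic.commutative (α := S)).is_comm.comm ⟨h, hh⟩ ⟨x, hx⟩)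
  have hdecG : ∀ y : Γ, ∃ g ∈ G, ∃ x ∈ S, g * x = y := fun y => by
    have hy : y ∈ G ⊔ S := htop ▸ Subgroup.mem_top y
    rw [← SetLike.mem_coe, Subgroup.normal_mul] at hy
    obtain ⟨g, hg, x, hx, e⟩ := hy
    exact ⟨g, hg, x, hx, e⟩
  have hdec : ∀ y : M, ∃ c ∈ C, ∃ x ∈ S, c * x = (y : Γ) := fun y => by
    obtain ⟨g, hg, x, hx, e⟩ := hdecG y
    refine ⟨g, ?_, x, hx, e⟩
    rw [hC]
    refine ⟨hg, ?_⟩
    rw [show g = (y : Γ) * x⁻¹ by rw [← e]; group]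
    exact (mul_mem y.2 (inv_mem (hSM hx)) : _ ∈ M)
  have hcomm : ∀ c ∈ C, ∀ x ∈ S, x * c = c * x := fun c hc x hx =>
    Subgroup.mem_centralizer_iff.1 (hCM hc) x hx
  obtain ⟨k, hk0, hk1⟩ := Nat.chineseRemainder hcop 0 1
  have hpowG : ∀ g ∈ G, g ^ k = 1 := fun g hg => orderOf_dvd_iff_pow_eq_one.1 ((by
    rw [← Subgroup.orderOf_mk g hg]; exact orderOf_dvd_natCard _ : orderOf g ∣ Nat.card G).trans
      (Nat.modEq_zero_iff_dvd.1 hk0))
  have hpowS : ∀ x ∈ S, x ^ k = x := fun x hx => by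
    conv_rhs => rw [← pow_one x]
    exact pow_eq_pow_iff_modEq.2 (hk1.of_dvd (by
      rw [← Subgroup.orderOf_mk x hx]; exact orderOf_dvd_natCard _))
  have hpow : ∀ c ∈ C, ∀ x ∈ S, (c * x) ^ k = x := fun c hc x hx => by
    rw [(show Commute c x from (hcomm c hc x hx).symm).mul_pow, hpowG c (hCG hc), hpowS x hx,
      one_mul]
  -- the linear character
  set q : S →* Γ ⧸ G := (QuotientGroup.mk' G).comp S.subtype with hq
  have hqinj : Function.Injective q := (injective_iff_map_eq_one q).2 fun x hx =>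
    Subtype.ext (hinf x ((QuotientGroup.eq_one_iff _).1 hx) x.2)
  have hqsurj : Function.Surjective q := fun z => by
    obtain ⟨y, rfl⟩ := QuotientGroup.mk_surjective z
    obtain ⟨g, hg, x, hx, rfl⟩ := hdecG y
    refine ⟨⟨x, hx⟩, ?_⟩
    rw [hq, MonoidHom.comp_apply, Subgroup.subtype_apply, QuotientGroup.mk'_apply,
      QuotientGroup.mk_mul, (QuotientGroup.eq_one_iff g).2 hg, one_mul]
  haveI := hcyc
  have hcycΓ : IsCyclic (Γ ⧸ G) := isCyclic_of_surjective q hqsurj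
  obtain ⟨l, hl⟩ := exists_lin hcycΓ
  set lM : M →* ℂˣ := l.comp M.subtype with hlM
  have hlMk : ∀ y : M, lM y = 1 ↔ y ∈ C' := fun y => by
    rw [hlM, MonoidHom.comp_apply, Subgroup.subtype_apply, hl, hmem]
  have hC'top : C' ≠ ⊤ := fun h => hs1 (hinf s
    ((hmem ⟨s, hSM hsS⟩).1 (h.symm ▸ Subgroup.mem_top _)) hsS)
  set ψ : M → ℂ := fun y => (χh : Γ → ℂ) y with hψdef
  have hψc : IsCharacter M ψ := IsChar.res (IsIrr.isCharacter χh.2) M
  have hresirr : IsIrrCharacter G (fun g : G => (χh : Γ → ℂ) g) := by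
    rw [funext hext]; exact χ.2
  let eC : C.subgroupOf G ≃* C' :=
    (Subgroup.subgroupOfEquivOfLe hCG).trans (Subgroup.subgroupOfEquivOfLe hCM).symm
  letI : Fintype (C.subgroupOf G) := Fintype.ofFinite _
  have hcos : ∀ y : M, y ∉ C' → ∑ n : C', ψ ((n : M) * y) * conj (ψ ((n : M) * y)) =
      (Nat.card C' : ℂ) := by
    intro y hy
    obtain ⟨c₀, hc₀, x, hx, e⟩ := hdec y
    have hx1 : x ≠ 1 := fun h => hy ((hmem y).2 (by rw [← e, h, mul_one]; exact hCG hc₀))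
    have hcl : IsClassFunction Γ (fun z => (χh : Γ → ℂ) z * conj ((χh : Γ → ℂ) z)) := fun a b => by
      simp only [IsIrr.classFun χh.2 a b]
    have h := sum_coset_section (C.subgroupOf G) (y := (y : Γ)) (fun g d d' hgd => by
      have h1 := congrArg (fun z : Γ => z ^ k) hgd
      simp only [← e, ← mul_assoc, conj_pow] at h1
      rw [show (g : Γ) * (d : G) * c₀ * x * (g : Γ)⁻¹ = g * (((d : G) : Γ) * c₀ * x) * (g : Γ)⁻¹ by
        group, conj_pow, hpow _ (mul_mem (show ((d : G) : Γ) ∈ C from d.2) hc₀) x hx,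
        hpow _ (mul_mem (show ((d' : G) : Γ) ∈ C from d'.2) hc₀) x hx] at h1
      refine Subgroup.mem_subgroupOf.2 ?_
      rw [← hfpf x hx hx1]
      exact ⟨g.2, Subgroup.mem_centralizer_singleton_iff.2 (mul_inv_eq_iff_eq_mul.1 h1)⟩) hcl
    rw [coset_norm l hl χh.2 hresirr, mul_comm (Nat.card (C.subgroupOf G) : ℂ)] at h
    rw [← Fintype.sum_equiv eC.toEquiv
      (fun d : C.subgroupOf G => (χh : Γ → ℂ) (((d : G) : Γ) * y) *
        conj ((χh : Γ → ℂ) (((d : G) : Γ) * y))) _ fun d => rfl,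
      ← Nat.card_congr eC.toEquiv]
    exact mul_left_cancel₀ (Nat.cast_ne_zero.2 Nat.card_pos.ne') h
  obtain ⟨φ₀, ε, hε, -, hoff, hb⟩ := exists_main lM hlMk hC'top hψc hcos
  -- the scalar by which the operators act
  have hcent : ∀ x (hx : x ∈ S), (⟨x, hSM hx⟩ : M) ∈ Subgroup.center M := fun x hx =>
    Subgroup.mem_center_iff.2 fun y => Subtype.ext
      (Subgroup.mem_centralizer_iff.1 y.2 x hx).symm
  have hscal : ∀ x : S, ∃ t : ℂ, ∀ y : M,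
      (φ₀ : M → ℂ) (⟨x, hSM x.2⟩ * y) = t * (φ₀ : M → ℂ) y := fun x => by
    obtain ⟨t, -, ht⟩ := IsIrr.scalar_of_center φ₀.2 (hcent x x.2)
    exact ⟨t, ht⟩
  choose κ hκ using hscal
  have hφ1 : (φ₀ : M → ℂ) 1 ≠ 0 := IsIrr.one_ne_zero φ₀.2
  let μh : S →* ℂ :=
    { toFun := κ
      map_one' := mul_right_cancel₀ hφ1 (by
        rw [← hκ, one_mul]
        exact congrArg _ (Subtype.ext (by simp)))
      map_mul' := fun a b => mul_right_cancel₀ hφ1 (by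
        rw [mul_assoc, ← hκ, ← hκ b, ← hκ a, ← mul_assoc]
        rfl) }
  let μ : S →* ℂˣ := μh.toHomUnits
  have hμ : ∀ x, (μ x : ℂ) = κ x := fun x => rfl
  -- the generator fixes the correspondent
  have hsM : (⟨s, hSM hsS⟩ : M) ∉ C' := fun h => hs1 (hinf s ((hmem _).1 h) hsS)
  have hgen : ∀ c : C, (ε₀ : ℂ) * (β : C → ℂ) c =
      (ε : ℂ) * κ ⟨s, hsS⟩ * (φ₀ : M → ℂ) ⟨c, hCM c.2⟩ := by
    intro c
    have hcM : (⟨c, hCM c.2⟩ : M) ∈ C' := c.2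
    have hnot : (⟨c, hCM c.2⟩ : M) * ⟨s, hSM hsS⟩ ∉ C' := fun h => hsM
      ((mul_mem_cancel_left hcM).1 h)
    have h1 : (χh : Γ → ℂ) ((c : Γ) * s) = (ε : ℂ) *
        (φ₀ : M → ℂ) ((⟨c, hCM c.2⟩ : M) * ⟨s, hSM hsS⟩) := hoff _ hnot
    rw [← hβ c s hzp, h1, mul_assoc, ← hκ ⟨s, hsS⟩]
    exact congrArg _ (congrArg _ (Subtype.ext (hcomm c c.2 s hsS).symm))
  obtain ⟨b₁, hb1pos, hb1⟩ := IsIrr.one_eq_pos β.2
  obtain ⟨d₁, hd1pos, hd1⟩ := IsIrr.one_eq_pos φ₀.2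
  have hg1 := hgen 1
  rw [hb1, show (⟨((1 : C) : Γ), hCM (1 : C).2⟩ : M) = 1 from rfl, hd1] at hg1
  have hee : (ε : ℂ) * ε = 1 := by rcases hε with rfl | rfl <;> simp
  have hee0 : (ε₀ : ℂ) * ε₀ = 1 := by rcases hε₀ with rfl | rfl <;> simp
  have hκd : κ ⟨s, hsS⟩ * (d₁ : ℂ) = (ε : ℂ) * ε₀ * (b₁ : ℂ) := by
    linear_combination (-(ε : ℂ)) * hg1 - (κ ⟨s, hsS⟩ * (d₁ : ℂ)) * hee
  have hbd : b₁ = d₁ := by
    have hn := lin_mul_conj μ ⟨s, hsS⟩
    rw [hμ] at hn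
    have h2 : ((b₁ * b₁ : ℕ) : ℂ) = ((d₁ * d₁ : ℕ) : ℂ) := by
      push_cast
      have hc : conj (κ ⟨s, hsS⟩) * (d₁ : ℂ) = (ε : ℂ) * ε₀ * (b₁ : ℂ) := by
        have := congrArg conj hκd
        simpa using this
      linear_combination ((d₁ : ℂ) * d₁) * hn - (conj (κ ⟨s, hsS⟩) * (d₁ : ℂ)) * hκd
        - ((ε : ℂ) * ε₀ * (b₁ : ℂ)) * hc - ((ε₀ : ℂ) * ε₀ * (b₁ : ℂ) * b₁) * hee
        - ((b₁ : ℂ) * b₁) * hee0
    exact Nat.mul_self_inj.1 (Nat.cast_injective h2)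
  have hκs : κ ⟨s, hsS⟩ = (ε : ℂ) * ε₀ := by
    rw [hbd] at hκd
    exact mul_right_cancel₀ (Nat.cast_ne_zero.2 (Nat.pos_iff_ne_zero.1 hd1pos)) hκd
  have hβφ : ∀ c : C, (β : C → ℂ) c = (φ₀ : M → ℂ) ⟨c, hCM c.2⟩ := fun c => by
    have h1 := hgen c
    rw [hκs] at h1
    linear_combination (ε₀ : ℂ) * h1 +
      ((φ₀ : M → ℂ) ⟨c, hCM c.2⟩ - (β : C → ℂ) c) * hee0 +
      ((ε₀ : ℂ) * ε₀ * (φ₀ : M → ℂ) ⟨c, hCM c.2⟩) * hee
  have hκsq : ∀ x : S, κ x * κ x = 1 := fun x => by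
    obtain ⟨i, rfl⟩ := Subgroup.mem_zpowers_iff.1 (hs x)
    have h1 : μ ⟨s, hsS⟩ * μ ⟨s, hsS⟩ = 1 := Units.ext (by
      rw [Units.val_mul, hμ, hκs, Units.val_one]
      linear_combination hee + ((ε : ℂ) * ε) * hee0)
    rw [← hμ, ← Units.val_mul, map_zpow, ← mul_zpow, h1, one_zpow, Units.val_one]
  refine ⟨ε, hε, ⟨fun x => κ x, IsIrr.isCharacter (isIrr_linear μ), μh.map_one, hκsq,
    fun c x hx => ?_⟩, ?_⟩
  · have hcM : (⟨c, hCM c.2⟩ : M) ∈ C' := c.2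
    have hnot : (⟨c, hCM c.2⟩ : M) * ⟨x, hSM x.2⟩ ∉ C' := fun h => hx (Subtype.ext
      (hinf x ((hmem _).1 ((mul_mem_cancel_left hcM).1 h)) x.2))
    rw [show (χh : Γ → ℂ) ((c : Γ) * x) = _ from hoff _ hnot, hβφ,
      show (⟨c, hCM c.2⟩ : M) * ⟨x, hSM x.2⟩ = ⟨x, hSM x.2⟩ * ⟨c, hCM c.2⟩ from
        Subtype.ext (hcomm c c.2 x x.2).symm, hκ]
    ring
  -- the projection onto the fixed points
  have hπmem : ∀ y : M, (y : Γ) * ((y : Γ) ^ k)⁻¹ ∈ C := fun y => by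
    obtain ⟨c, hc, x, hx, e⟩ := hdec y
    rw [← e, hpow c hc x hx, mul_inv_cancel_right]
    exact hc
  let π : M →* C :=
    { toFun := fun y => ⟨(y : Γ) * ((y : Γ) ^ k)⁻¹, hπmem y⟩
      map_one' := Subtype.ext (by simp)
      map_mul' := fun y z => Subtype.ext (by
        obtain ⟨c, hc, x, hx, e⟩ := hdec y
        obtain ⟨c', hc', x', hx', e'⟩ := hdec z
        simp only [Subgroup.coe_mul, ← e, ← e']
        rw [show c * x * (c' * x') = (c * c') * (x * x') by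
          rw [mul_assoc c x, ← mul_assoc x, hcomm c' hc' x hx]; group,
          hpow _ (mul_mem hc hc') _ (mul_mem hx hx'), hpow c hc x hx, hpow c' hc' x' hx']
        group) }
  have hπC : ∀ c : C, π ⟨c, hCM c.2⟩ = c := fun c => Subtype.ext (by
    show (c : Γ) * ((c : Γ) ^ k)⁻¹ = c
    rw [hpowG c (hCG c.2), inv_one, mul_one])
  have hπsurj : Function.Surjective π := fun c => ⟨_, hπC c⟩
  have hidx : C'.index = Nat.card S := by
    set f : M →* Γ ⧸ G := (QuotientGroup.mk' G).comp M.subtype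
    have hker : f.ker = C' := by
      ext y
      rw [MonoidHom.mem_ker, hmem]
      exact QuotientGroup.eq_one_iff _
    have hsurj : f.range = ⊤ := eq_top_iff.2 fun z _ => by
      obtain ⟨⟨x, hx⟩, rfl⟩ := hqsurj z
      exact ⟨⟨x, hSM hx⟩, rfl⟩
    rw [← hker, Subgroup.index_ker, hsurj, Subgroup.card_top]
    exact (Nat.card_congr (Equiv.ofBijective q ⟨hqinj, hqsurj⟩)).symm
  set F : M → ℂ := fun y => ψ y - (ε : ℂ) * (φ₀ : M → ℂ) y with hF
  set f : C → ℂ := fun c => (Nat.card S : ℂ)⁻¹ * F ⟨c, hCM c.2⟩ with hf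
  have hScard : (Nat.card S : ℂ) ≠ 0 := Nat.cast_ne_zero.2 Nat.card_pos.ne'
  have hfc : IsClassFunction C f := fun a b => by
    simp only [hf, hF]
    have h1 := IsChar.classFun hψc ⟨a, hCM a.2⟩ ⟨b, hCM b.2⟩
    have h2 := IsIrr.classFun φ₀.2 ⟨a, hCM a.2⟩ ⟨b, hCM b.2⟩
    rw [← h1, ← h2]
    rfl
  have hfn : ∀ γ : C → ℂ, IsIrrCharacter C γ → ∃ n : ℕ, classInner f γ = n := by
    intro γ hγ
    obtain ⟨n, hn⟩ := hb ⟨_, IsIrr.comp_surjective π hπsurj hγ⟩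
    refine ⟨n, ?_⟩
    rw [← hn, classInner, classInner, Finset.sum_congr rfl (g := fun y : M => if y ∈ C' then
      F y * conj (γ (π y)) else 0) fun y _ => by
        split_ifs with hy
        · rfl
        · show (ψ y - (ε : ℂ) * (φ₀ : M → ℂ) y) * _ = 0
          rw [hoff y hy, sub_self, zero_mul],
      ← Finset.sum_filter, Finset.sum_subtype (Finset.univ.filter (· ∈ C')) (p := (· ∈ C'))
        (fun y => by simp) (fun y => F y * conj (γ (π y))),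
      ← Fintype.sum_equiv (Subgroup.subgroupOfEquivOfLe hCM).symm.toEquiv
        (fun c : C => F ⟨c, hCM c.2⟩ * conj (γ (π ⟨c, hCM c.2⟩))) _ fun c => rfl,
      show ∑ c : C, F ⟨c, hCM c.2⟩ * conj (γ (π ⟨c, hCM c.2⟩)) =
        ∑ c : C, F ⟨c, hCM c.2⟩ * conj (γ c) from Finset.sum_congr rfl fun c _ => by rw [hπC],
      ← Subgroup.card_mul_index C', hidx, Nat.cast_mul,
      Nat.card_congr (Subgroup.subgroupOfEquivOfLe hCM).toEquiv, mul_inv,
      Finset.mul_sum, Finset.mul_sum]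
    refine Finset.sum_congr rfl fun c _ => ?_
    simp only [hf]
    ring
  have hres : ∀ c : C, (χ : G → ℂ) ⟨c, hCG c.2⟩ = (Nat.card S : ℂ) * f c + (ε : ℂ) * (β : C → ℂ) c := by
    intro c
    simp only [hf, hF, hψdef]
    rw [mul_inv_cancel_left₀ hScard, hβφ, sub_add_cancel, ← hext]
  have hfchar : IsCharacter C f := isCharacter_of_classInner_nat hfc hfn
  refine ⟨⟨f, hfchar, funext hres⟩, ?_⟩
  obtain ⟨n, hn⟩ := IsChar.one_eq_nat hfchar
  have h1 := hres 1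
  rw [hn, IsChar.degree_spec (IsIrr.isCharacter β.2),
    show (⟨((1 : C) : Γ), hCG (1 : C).2⟩ : G) = 1 from rfl,
    IsChar.degree_spec (IsIrr.isCharacter χ.2)] at h1
  refine ⟨n, ?_⟩
  have h2 : ((Cfsg.charDegree (χ : G → ℂ) : ℤ) : ℂ) =
      (((Nat.card S : ℤ) * n + ε * (Cfsg.charDegree (β : C → ℂ) : ℤ) : ℤ) : ℂ) := by
    push_cast
    exact h1
  have h3 : (Cfsg.charDegree (χ : G → ℂ) : ℤ) =
      (Nat.card S : ℤ) * n + ε * (Cfsg.charDegree (β : C → ℂ) : ℤ) := by exact_mod_cast h2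
  rw [h3]
  ring

end Cfsg.Agent.S4451
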