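import Cfsg.Statements.S4452
import Cfsg.Agent.Lib.Char.CoprimeDegree

set_option autoImplicit false
open Cfsg

namespace Cfsg.Agent.S4452

open Cfsg.Agent.Char Cfsg.Agent.Char.CopDeg
open scoped Pointwise

/-- Let the finite group G be the product of a normal subgroup K and a solvable subgroup H of coprime orders, and let N = N_G(H). Then the number of irreducible characters of G of degree coprime to the order of H equals the number of irreducible characters of N of degree coprime to the order of H. (The two sets are in fact in a canonical bijection; only the equality of their sizes is stated here.) -/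
theorem result {G : Type*} [Group G] [Finite G] (K H : Subgroup G) [K.Normal] (hKH : K ⊔ H = ⊤) (hcop : (Nat.card K).Coprime (Nat.card H)) (hsolv : Group.IsSolvable H) : Nat.card {χ : Cfsg.IrrCharacter G // (Cfsg.charDegree (χ : G → ℂ)).Coprime (Nat.card H)} = Nat.card {η : Cfsg.IrrCharacter (Subgroup.normalizer (H : Set G)) // (Cfsg.charDegree (η : Subgroup.normalizer (H : Set G) → ℂ)).Coprime (Nat.card H)} := by
  classical
  haveI := Fintype.ofFinite G
  haveI := Fintype.ofFinite K
  set N := Subgroup.normalizer (H : Set G) with hN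
  set K' : Subgroup N := K.subgroupOf N with hK'
  set H' : Subgroup N := H.subgroupOf N with hH'
  haveI : Fintype N := Fintype.ofFinite _
  haveI : Fintype K' := Fintype.ofFinite _
  haveI : K'.Normal := Subgroup.Normal.subgroupOf inferInstance _
  have hdisj : Disjoint K H := Subgroup.disjoint_of_coprime_natCard hcop
  have hmul : (K : Set G) * (H : Set G) = Set.univ := by
    rw [← Subgroup.normal_mul, hKH, Subgroup.coe_top]
  have hcomp : Subgroup.IsComplement' H K := (Subgroup.isComplement'_of_disjoint_and_mul_eq_univ hdisj hmul).symm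
  have hcomp' : Subgroup.IsComplement' H' K' := by
    refine (Subgroup.isComplement'_of_disjoint_and_mul_eq_univ (disjoint_iff.mpr ?_) ?_).symm
    · rw [eq_bot_iff]
      intro x hx
      exact Subtype.ext (Subgroup.mem_bot.mp (disjoint_iff.mp hdisj ▸ (show (x : G) ∈ K ⊓ H from hx)))
    · refine Set.eq_univ_of_forall fun x => ?_
      obtain ⟨k, hk, h, hh, hkh⟩ := Set.mem_mul.mp (hmul.symm ▸ Set.mem_univ (x : G))
      have hkN : k ∈ N := by
        rw [show k = (x : G) * h⁻¹ by rw [← hkh]; group]
        exact N.mul_mem x.2 (N.inv_mem (Subgroup.le_normalizer hh))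
      exact Set.mem_mul.mpr ⟨⟨k, hkN⟩, hk, ⟨h, Subgroup.le_normalizer hh⟩, hh, Subtype.ext hkh⟩
  have hnorm : ∀ h ∈ H, ∀ k ∈ K, h * k * h⁻¹ ∈ K := fun h _ k hk =>
    (inferInstance : K.Normal).conj_mem k hk h
  have hcH : Nat.card H' = Nat.card H :=
    Nat.card_congr (Subgroup.subgroupOfEquivOfLe Subgroup.le_normalizer).toEquiv
  have hcK : Nat.card K' ∣ Nat.card K := Subgroup.card_dvd_of_injective
    (f := (N.subtype.comp K'.subtype).codRestrict K (fun x => x.2))
    (fun a b h => Subtype.ext (Subtype.ext (congrArg Subtype.val h :)))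
  have hcent : ∀ x ∈ N, x ∈ K → x ∈ Subgroup.centralizer (H : Set G) := fun x hxN hxK =>
    Cfsg.Agent.Grp.mem_centralizer_of_normalizes
      (fun h hh => Subgroup.mem_normalizer_iff.mpr fun k =>
        ⟨fun hk => hnorm h hh k hk, fun hk => by
          simpa [mul_assoc] using (inferInstance : K.Normal).conj_mem _ hk h⁻¹⟩)
      hdisj.symm.eq_bot hxK hxN
  rw [← hcomp.index_eq_card, card_coprime_degree K (by rwa [hcomp.index_eq_card]),
    card_linear_of_complement hcomp, hcomp.index_eq_card]
  have e2 : Nat.card {η : IrrCharacter N // (charDegree (η : N → ℂ)).Coprime (Nat.card H)} =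
      Nat.card {θ : IrrCharacter K' // ∀ (g : N) (n : K'),
        (θ : K' → ℂ) ⟨g * n * g⁻¹, (inferInstance : K'.Normal).conj_mem (n : N) n.2 g⟩ = (θ : K' → ℂ) n} *
      Nat.card (H →* ℂˣ) := by
    rw [← hcH, ← hcomp'.index_eq_card,
      card_coprime_degree K' (by rw [hcomp'.index_eq_card, hcH]; exact hcop.coprime_dvd_left hcK),
      card_linear_of_complement hcomp']
    congr 1
    exact Nat.card_congr (MulEquiv.monoidHomCongrLeftEquiv (Subgroup.subgroupOfEquivOfLe Subgroup.le_normalizer))
  rw [e2]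
  congr 1
  have hall : ∀ (θ : IrrCharacter K') (g : N) (n : K'),
      (θ : K' → ℂ) ⟨g * n * g⁻¹, (inferInstance : K'.Normal).conj_mem (n : N) n.2 g⟩ = (θ : K' → ℂ) n := by
    intro θ g n
    obtain ⟨⟨h, k⟩, rfl⟩ := hcomp'.2 g
    have hcn : (h : N) * ((k : N) * n * (k : N)⁻¹) * (h : N)⁻¹ = (k : N) * n * (k : N)⁻¹ := by
      refine mul_inv_eq_iff_eq_mul.mpr (Subtype.ext ?_)
      have hm : ((k : N) * n * (k : N)⁻¹ : N) ∈ K' := K'.mul_mem (K'.mul_mem k.2 n.2) (K'.inv_mem k.2)
      exact (Subgroup.mem_centralizer_iff.mp (hcent _ (((k : N) * n * (k : N)⁻¹ : N)).2 hm) _ h.2)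
    have e : ((h : N) * k) * n * ((h : N) * k)⁻¹ = ((k * n * k⁻¹ : K') : N) := by
      rw [show ((h : N) * k) * n * ((h : N) * k)⁻¹ = (h : N) * ((k : N) * n * (k : N)⁻¹) * (h : N)⁻¹ by group, hcn]
      rfl
    calc _ = (θ : K' → ℂ) (k * n * k⁻¹) := congrArg _ (Subtype.ext e)
      _ = _ := IsIrr.classFun θ.2 n k
  rw [Nat.card_congr (Equiv.subtypeUnivEquiv hall), card_irrCharacter]
  have hgood := (Glaub.good_conjHom K H hnorm hcop hsolv).count
  rw [card_fixed_classes K H hnorm hcop (Or.inl hsolv)] at hgood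
  let eC : (K ⊓ Subgroup.centralizer (H : Set G) : Subgroup G) ≃* K' :=
    { toFun := fun x => ⟨⟨x, Subgroup.centralizer_le_normalizer (H : Set G) x.2.2⟩, x.2.1⟩
      invFun := fun y => ⟨((y : N) : G), y.2, hcent _ (y : N).2 y.2⟩
      left_inv := fun x => rfl
      right_inv := fun y => rfl
      map_mul' := fun x y => rfl }
  have hinv : ∀ {A B : Type _} [Group A] [Group B] (e : A ≃* B) (C : ConjClasses A),
      ConjClasses.map e.symm.toMonoidHom (ConjClasses.map e.toMonoidHom C) = C := by
    intro A B _ _ e C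
    obtain ⟨a, rfl⟩ := C.exists_rep
    exact congrArg ConjClasses.mk (e.symm_apply_apply a)
  rw [← Nat.card_congr (⟨ConjClasses.map eC.toMonoidHom, ConjClasses.map eC.symm.toMonoidHom,
      hinv eC, fun C => by
        obtain ⟨a, rfl⟩ := C.exists_rep
        exact congrArg ConjClasses.mk (eC.apply_symm_apply a)⟩ :
      ConjClasses (K ⊓ Subgroup.centralizer (H : Set G) : Subgroup G) ≃ ConjClasses K'), ← hgood]
  refine Nat.card_congr (Equiv.subtypeEquivRight fun θ => ?_)
  rw [Glaub.inv_conjHom_iff]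
  constructor
  · intro h s hs g g' e
    rw [← h s g]
    exact congrArg _ (Subtype.ext e)
  · intro h g n
    obtain ⟨⟨s, k⟩, rfl⟩ := hcomp.2 g
    rw [show (θ : K → ℂ) n = (θ : K → ℂ) (k * n * k⁻¹) from (IsIrr.classFun θ.2 n k).symm]
    refine h s s.2 _ _ ?_
    simp [mul_assoc]

end Cfsg.Agent.S4452
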