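import Cfsg.Statements.S4453
import Cfsg.Agent.Lib.Char.OddMagicOnto
import Cfsg.Agent.Lib.Char.InvariantBelow
import Cfsg.Agent.Lib.Grp.Coprime

set_option autoImplicit false
open Cfsg

namespace Cfsg.Agent.S4453

open Cfsg.Agent.Char Cfsg.Agent.Char.OddMagic in
theorem const_fixed {G : Type*} [Group G] [Fintype G] {K H : Subgroup G} [K.Normal] [Fintype K]
    [Fintype H] {S : Type*} [Group S] [Fintype S] {M : Mag K S} [Fintype M.L] (hs : Sect K H M)
    (ψ : IrrCharacter H) {φ₀ : IrrCharacter M.L} (hφ₀ : M.FixedL φ₀)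
    (h₀ : classInner (fun l : M.L => (ψ : H → ℂ) (hs.incl l)) (φ₀ : M.L → ℂ) ≠ 0)
    (φ : IrrCharacter M.L)
    (h : classInner (fun l : M.L => (ψ : H → ℂ) (hs.incl l)) (φ : M.L → ℂ) ≠ 0) :
    M.FixedL φ := by
  classical
  set N : Subgroup H := hs.incl.range
  have hinj : Function.Injective hs.incl := fun a b hab =>
    Subtype.ext (Subtype.ext (congrArg (fun x : H => (x : G)) hab))
  haveI : N.Normal := ⟨by
    rintro _ ⟨l, rfl⟩ g
    refine ⟨⟨MulAut.conjNormal (g : G) (l : K), (hs.inter _).1 ?_⟩, Subtype.ext ?_⟩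
    · simpa using mul_mem (mul_mem g.2 ((hs.inter _).2 l.2)) (inv_mem g.2)
    · simp [Sect.incl]⟩
  let e : M.L ≃* N := MonoidHom.ofInjective hinj
  have hval : ∀ l, ((e l : N) : H) = hs.incl l := fun l => rfl
  let η : IrrCharacter M.L → IrrCharacter N := fun φ' => ⟨fun x => (φ' : M.L → ℂ) (e.symm x),
    IsIrr.comp_surjective e.symm.toMonoidHom e.symm.surjective φ'.2⟩
  have hη : ∀ φ' : IrrCharacter M.L,
      classInner (fun x : N => (ψ : H → ℂ) x) (η φ' : N → ℂ) =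
        classInner (fun l : M.L => (ψ : H → ℂ) (hs.incl l)) (φ' : M.L → ℂ) := by
    intro φ'
    rw [← classInner_comp_surjective e.toMonoidHom e.surjective (fun x : N => (ψ : H → ℂ) x)
      (η φ' : N → ℂ)]
    simp [η, hval]
  obtain ⟨g, hg⟩ := exists_conj_of_constituents N ψ.2 (η φ₀).2 (η φ).2
    (by rw [hη]; exact h₀) (by rw [hη]; exact h)
  obtain ⟨c, l₀, hl₀, hc⟩ := hs.conj g g.2
  have hval' : ∀ l : M.L, (φ : M.L → ℂ) l =
      (φ₀ : M.L → ℂ) ⟨c.f (l : K), c.mapL _ l.2⟩ := by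
    intro l
    have h1 := congrFun hg (e l)
    rw [conjN_apply] at h1
    simp only [η, MulEquiv.symm_apply_apply] at h1
    rw [← h1, ← IsIrr.classFun φ₀.2 (⟨c.f (l : K), c.mapL _ l.2⟩ : M.L) ⟨l₀, hl₀⟩]
    refine congrArg (φ₀ : M.L → ℂ) ?_
    apply e.injective
    rw [MulEquiv.apply_symm_apply]
    refine Subtype.ext (Subtype.ext ?_)
    show (g : G) * ((l : K) : G) * (g : G)⁻¹ = (((l₀ * c.f (l : K) * l₀⁻¹ : K) : G))
    rw [← hc, MulAut.conjNormal_apply]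
  intro s l
  rw [hval', hval']
  have h2 := hφ₀ (c.perm s) ⟨c.f (l : K), c.mapL _ l.2⟩
  rw [← h2]
  refine congrArg (φ₀ : M.L → ℂ) (Subtype.ext ?_)
  exact (c.comm s l)

/-- Inside a finite group Γ let S normalise the solvable subgroup G of odd order with the orders of G and S coprime, let C = G ⊓ C(S), and let L ≤ K be S-invariant normal subgroups of G with K/L abelian, G = KC and H = LC (so C ≤ H ≤ G). Then for each S-invariant irreducible character χ of G there is exactly one S-invariant irreducible character ψ of H whose multiplicity in the restriction of χ to H is odd, and χ ↦ ψ is a bijection from the S-invariant irreducible characters of G onto those of H (distinct χ give distinct ψ, and every S-invariant ψ arises). -/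
theorem result {Γ : Type*} [Group Γ] [Fintype Γ] (G S : Subgroup Γ) [Fintype G] (hnorm : ∀ s ∈ S, ∀ g ∈ G, s * g * s⁻¹ ∈ G) (hcop : (Nat.card G).Coprime (Nat.card S)) (hGsolv : Group.IsSolvable G) (hodd : Odd (Nat.card G)) (C : Subgroup Γ) [Fintype C] (hC : C = G ⊓ Subgroup.centralizer (S : Set Γ)) (hCG : C ≤ G) (K L H : Subgroup Γ) [Fintype H] (hLK : L ≤ K) (hKG : K ≤ G) (hKn : ∀ g ∈ G, ∀ k ∈ K, g * k * g⁻¹ ∈ K) (hLn : ∀ g ∈ G, ∀ l ∈ L, g * l * g⁻¹ ∈ L) (hKS : ∀ s ∈ S, ∀ k ∈ K, s * k * s⁻¹ ∈ K) (hLS : ∀ s ∈ S, ∀ l ∈ L, s * l * s⁻¹ ∈ L) (hab : ∀ a ∈ K, ∀ b ∈ K, a * b * a⁻¹ * b⁻¹ ∈ L) (hGKC : K ⊔ C = G) (hH : H = L ⊔ C) (hHG : H ≤ G) : (∀ χ : Cfsg.IrrCharacter G, (∀ s ∈ S, ∀ g g' : G, (g' : Γ) = s * g * s⁻¹ → (χ : G → ℂ) g' = (χ : G → ℂ) g) → ∃! ψ : Cfsg.IrrCharacter H, (∀ s ∈ S, ∀ g g' : H, (g' : Γ) = s * g * s⁻¹ → (ψ : H → ℂ) g' = (ψ : H → ℂ) g) ∧ ∃ m : ℕ, Cfsg.classInner (fun h : H => (χ : G → ℂ) ⟨h, hHG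 h.2⟩) (ψ : H → ℂ) = (m : ℂ) ∧ Odd m) ∧ (∀ χ χ' : Cfsg.IrrCharacter G, (∀ s ∈ S, ∀ g g' : G, (g' : Γ) = s * g * s⁻¹ → (χ : G → ℂ) g' = (χ : G → ℂ) g) → (∀ s ∈ S, ∀ g g' : G, (g' : Γ) = s * g * s⁻¹ → (χ' : G → ℂ) g' = (χ' : G → ℂ) g) → ∀ ψ : Cfsg.IrrCharacter H, (∀ s ∈ S, ∀ g g' : H, (g' : Γ) = s * g * s⁻¹ → (ψ : H → ℂ) g' = (ψ : H → ℂ) g) → ∀ m m' : ℕ, Cfsg.classInner (fun h : H => (χ : G → ℂ) ⟨h, hHG h.2⟩) (ψ : H → ℂ) = (m : ℂ) → Odd m → Cfsg.classInner (fun h : H => (χ' : G → ℂ) ⟨h, hHG h.2⟩) (ψ : H → ℂ) = (m' : ℂ) → Odd m' → χ = χ') ∧ (∀ ψ : Cfsg.IrrCharacter H, (∀ s ∈ S, ∀ g g' : H, (g' : Γ) = s * g * s⁻¹ → (ψ : H → ℂ) g' = (ψ : H → ℂ) g) → ∃ χ : Cfsg.IrrCharacter G, (∀ s ∈ S, ∀ g g' : G, (g' : Γ) = s * g * s⁻¹ → (χ : G → ℂ) g' = (χ : G → ℂ) g) ∧ ∃ m : ℕ, Cfsg.classInner (fun h : H => (χ : G → ℂ) ⟨h, hHG h.2⟩) (ψ : H → ℂ) = (m : ℂ) ∧ Odd m) := by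
  classical
  have hCmem : ∀ x, x ∈ C ↔ x ∈ G ∧ ∀ s ∈ S, s * x = x * s := fun x => by
    rw [hC, Subgroup.mem_inf, Subgroup.mem_centralizer_iff]; rfl
  set L' : Subgroup Γ := L ⊔ (K ⊓ C) with hL'
  have hCnK : C ≤ Subgroup.normalizer (K : Set Γ) := fun c hc => by
    rw [Subgroup.mem_normalizer_iff]
    refine fun k => ⟨hKn c (hCG hc) k, fun h => ?_⟩
    have := hKn c⁻¹ (inv_mem (hCG hc)) _ h
    simpa [mul_assoc] using this
  have hL'K : L' ≤ K := sup_le hLK inf_le_left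
  have hL'G : L' ≤ G := hL'K.trans hKG
  have hHeq : H = L' ⊔ C := by
    rw [hH, hL', sup_assoc, sup_eq_right.2 (inf_le_right : K ⊓ C ≤ C)]
  -- the enlarged bottom is normal
  have hLnL : ∀ g ∈ G, g ∈ Subgroup.normalizer (L : Set Γ) := fun g hg => by
    rw [Subgroup.mem_normalizer_iff]
    refine fun l => ⟨hLn g hg l, fun h => ?_⟩
    have := hLn g⁻¹ (inv_mem hg) _ h
    simpa [mul_assoc] using this
  have hL'n : ∀ g ∈ G, ∀ l ∈ L', g * l * g⁻¹ ∈ L' := by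
    have hK' : ∀ k ∈ K, ∀ l ∈ L', k * l * k⁻¹ ∈ L' := by
      intro k hk l hl
      have h1 := hab k hk l (hL'K hl)
      have h2 : k * l * k⁻¹ = (k * l * k⁻¹ * l⁻¹) * l := by group
      rw [h2]
      exact mul_mem (le_sup_left (b := K ⊓ C) h1) hl
    have hC' : ∀ c ∈ C, ∀ l ∈ L', c * l * c⁻¹ ∈ L' := by
      intro c hc l hl
      have hle : L' ≤ L'.comap (MulAut.conj c).toMonoidHom := by
        refine sup_le (fun x hx => ?_) fun x hx => ?_
        · exact le_sup_left (b := K ⊓ C) (hLn c (hCG hc) x hx)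
        · exact le_sup_right (a := L) (show c * x * c⁻¹ ∈ K ⊓ C from
            ⟨hKn c (hCG hc) x hx.1, C.mul_mem (C.mul_mem hc hx.2) (C.inv_mem hc)⟩)
      exact hle hl
    intro g hg l hl
    rw [← hGKC] at hg
    have hg' : g ∈ (↑(K ⊔ C) : Set Γ) := hg
    rw [Subgroup.coe_mul_of_right_le_normalizer_left K C hCnK] at hg'
    obtain ⟨k, hk, c, hc, rfl⟩ := Set.mem_mul.1 hg'
    have h3 := hK' k hk _ (hC' c hc l hl)
    convert h3 using 1
    group
  have hL'S : ∀ s ∈ S, ∀ l ∈ L', s * l * s⁻¹ ∈ L' := by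
    intro s hs l hl
    have hle : L' ≤ L'.comap (MulAut.conj s).toMonoidHom := by
      refine sup_le (fun x hx => ?_) fun x hx => ?_
      · exact le_sup_left (b := K ⊓ C) (hLS s hs x hx)
      · have h1 : s * x * s⁻¹ = x := by rw [((hCmem x).1 hx.2).2 s hs, mul_inv_cancel_right]
        show s * x * s⁻¹ ∈ L'
        rw [h1]
        exact le_sup_right (a := L) hx
    exact hle hl
  have hHS : ∀ s ∈ S, ∀ h ∈ H, s * h * s⁻¹ ∈ H := by
    intro s hs h hh
    have hle : H ≤ H.comap (MulAut.conj s).toMonoidHom := by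
      conv_lhs => rw [hH]
      refine sup_le (fun x hx => ?_) fun x hx => ?_
      · show s * x * s⁻¹ ∈ H
        rw [hH]; exact le_sup_left (b := C) (hLS s hs x hx)
      · show s * x * s⁻¹ ∈ H
        rw [((hCmem x).1 hx).2 s hs, mul_inv_cancel_right, hH]
        exact le_sup_right (a := L) hx
    exact hle hh
  have hL'H : L' ≤ H := by rw [hHeq]; exact le_sup_left
  -- operators
  let act : S →* MulAut G :=
    { toFun := fun s =>
        { toFun := fun g => ⟨s * g * (s : Γ)⁻¹, hnorm s s.2 g g.2⟩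
          invFun := fun g => ⟨(s : Γ)⁻¹ * g * s, by
            have := hnorm _ (inv_mem s.2) g g.2
            rwa [inv_inv] at this⟩
          left_inv := fun g => Subtype.ext (show (s : Γ)⁻¹ * (s * g * (s : Γ)⁻¹) * s = (g : Γ) by group)
          right_inv := fun g => Subtype.ext (show (s : Γ) * ((s : Γ)⁻¹ * g * s) * (s : Γ)⁻¹ = (g : Γ) by group)
          map_mul' := fun a b => Subtype.ext (show (s : Γ) * ((a : Γ) * b) * (s : Γ)⁻¹ =
            s * a * (s : Γ)⁻¹ * (s * b * (s : Γ)⁻¹) by group) }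
      map_one' := MulEquiv.ext fun g => Subtype.ext (show (1 : Γ) * g * (1 : Γ)⁻¹ = g by group)
      map_mul' := fun a b => MulEquiv.ext fun g => Subtype.ext
        (show ((a : Γ) * b) * g * ((a : Γ) * b)⁻¹ = a * (b * g * (b : Γ)⁻¹) * (a : Γ)⁻¹ by group) }
  set K₀ : Subgroup G := K.subgroupOf G
  set H₀ : Subgroup G := H.subgroupOf G
  haveI : K₀.Normal := ⟨fun n hn g => hKn g g.2 n hn⟩
  haveI : Fintype K₀ := Fintype.ofFinite _
  haveI : Fintype H₀ := Fintype.ofFinite _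
  haveI : Fintype S := Fintype.ofFinite _
  let actK : S →* MulAut K₀ :=
    { toFun := fun s =>
        { toFun := fun k => ⟨act s k, hKS s s.2 _ k.2⟩
          invFun := fun k => ⟨(act s).symm k, by
            show (s : Γ)⁻¹ * (k : G) * s ∈ K
            have := hKS _ (inv_mem s.2) _ k.2
            rwa [inv_inv] at this⟩
          left_inv := fun k => Subtype.ext ((act s).symm_apply_apply _)
          right_inv := fun k => Subtype.ext ((act s).apply_symm_apply _)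
          map_mul' := fun a b => Subtype.ext (map_mul (act s) _ _) }
      map_one' := MulEquiv.ext fun k => Subtype.ext (by simp)
      map_mul' := fun a b => MulEquiv.ext fun k => Subtype.ext (by simp) }
  have hScopK : (Nat.card S).Coprime (Nat.card K) :=
    (Nat.Coprime.coprime_dvd_left (Subgroup.card_dvd_of_le hKG) hcop).symm
  haveI := hGsolv
  have hfpf : ∀ k ∈ K, (∀ s ∈ S, s * k * s⁻¹ * k⁻¹ ∈ L') → k ∈ L' := by
    intro k hk hfix
    have hSL : S ≤ Subgroup.normalizer (L' : Set Γ) := fun s hs => by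
      rw [Subgroup.mem_normalizer_iff]
      refine fun l => ⟨hL'S s hs l, fun h => ?_⟩
      have := hL'S s⁻¹ (inv_mem hs) _ h
      simpa [mul_assoc] using this
    have hcopL : (Nat.card S).Coprime (Nat.card L') :=
      hScopK.coprime_dvd_right (Subgroup.card_dvd_of_le hL'K)
    obtain ⟨_, ⟨l, hl, rfl⟩, hx⟩ := Grp.exists_fixed_point S L'
      {x : Γ ⧸ S | ∃ l ∈ L', x = ((k * l : Γ) : Γ ⧸ S)} hSL hcopL
      (Or.inr (solvable_of_solvable_injective (f := Subgroup.inclusion hL'G) (Subgroup.inclusion_injective hL'G)))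
      ⟨_, 1, one_mem _, rfl⟩
      (by
        rintro a ha _ ⟨l, hl, rfl⟩
        refine ⟨k⁻¹ * (a * k * a⁻¹ * k⁻¹) * k * (a * l * a⁻¹),
          mul_mem ?_ (hL'S a ha l hl), ?_⟩
        · have := hL'n k⁻¹ (inv_mem (hKG hk)) _ (hfix a ha)
          rwa [inv_inv] at this
        · rw [MulAction.Quotient.smul_coe, QuotientGroup.eq, smul_eq_mul]
          have : (a * (k * l))⁻¹ * (k * (k⁻¹ * (a * k * a⁻¹ * k⁻¹) * k * (a * l * a⁻¹))) = a⁻¹ := by
            group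
          rw [this]; exact inv_mem ha)
      (by
        rintro x hx _ ⟨l, hl, rfl⟩
        refine ⟨k⁻¹ * x * k * l, mul_mem ?_ hl, ?_⟩
        · have := hL'n k⁻¹ (inv_mem (hKG hk)) _ hx
          rwa [inv_inv] at this
        · rw [MulAction.Quotient.smul_coe, smul_eq_mul]
          congr 1
          group)
      (by
        rintro _ ⟨l₁, hl₁, rfl⟩ _ ⟨l₂, hl₂, rfl⟩
        refine ⟨k * (l₂ * l₁⁻¹) * k⁻¹, hL'n k (hKG hk) _ (mul_mem hl₂ (inv_mem hl₁)), ?_⟩
        rw [MulAction.Quotient.smul_coe, smul_eq_mul]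
        congr 1
        group)
    have hklC : k * l ∈ C := by
      refine (hCmem _).2 ⟨mul_mem (hKG hk) (hL'G hl), fun s hs => ?_⟩
      have h1 := hx s hs
      rw [MulAction.Quotient.smul_coe, smul_eq_mul, QuotientGroup.eq] at h1
      have hklK : k * l ∈ K := mul_mem hk (hL'K hl)
      have h2 : (k * l)⁻¹ * (s * (k * l) * s⁻¹) ∈ K := mul_mem (inv_mem hklK) (hKS s hs _ hklK)
      have h3 : (k * l)⁻¹ * (s * (k * l) * s⁻¹) ∈ S := by
        have h4 := mul_mem (inv_mem h1) (inv_mem hs)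
        convert h4 using 1
        group
      have h5 : (k * l)⁻¹ * (s * (k * l) * s⁻¹) ∈ S ⊓ K := ⟨h3, h2⟩
      rw [disjoint_iff.1 (Subgroup.disjoint_of_coprime_natCard hScopK), Subgroup.mem_bot,
        inv_mul_eq_one, eq_mul_inv_iff_mul_eq] at h5
      exact h5.symm
    have h6 : k * l ∈ L' := le_sup_right (a := L) ⟨mul_mem hk (hL'K hl), hklC⟩
    exact (mul_mem_cancel_right hl).1 h6
  let M : Cfsg.Agent.Char.OddMagic.Mag K₀ S :=
    { L := (L'.subgroupOf G).subgroupOf K₀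
      act := actK
      normal := ⟨fun n hn g => hL'n _ (g : G).2 _ hn⟩
      comm := fun a b => le_sup_left (b := K ⊓ C) (hab _ a.2 _ b.2)
      oddK := Odd.of_dvd_nat hodd (Subgroup.card_subgroup_dvd_card K₀)
      coprime := hcop.coprime_dvd_left (Subgroup.card_subgroup_dvd_card K₀)
      actL := fun s l hl => hL'S s s.2 _ hl
      fpf := fun k hk => hfpf _ k.2 fun s hs => hk ⟨s, hs⟩ }
  haveI : Fintype M.L := Fintype.ofFinite _
  have hprod : ∀ h ∈ H, ∃ l ∈ L', ∃ c ∈ C, h = l * c := by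
    intro h hh
    rw [hHeq] at hh
    have hn : C ≤ Subgroup.normalizer (L' : Set Γ) := fun c hc => by
      rw [Subgroup.mem_normalizer_iff]
      refine fun l => ⟨hL'n c (hCG hc) l, fun h => ?_⟩
      have := hL'n c⁻¹ (inv_mem (hCG hc)) _ h
      simpa [mul_assoc] using this
    have hh' : h ∈ (↑(L' ⊔ C) : Set Γ) := hh
    rw [Subgroup.coe_mul_of_right_le_normalizer_left L' C hn] at hh'
    obtain ⟨l, hl, c, hc, rfl⟩ := Set.mem_mul.1 hh'
    exact ⟨l, hl, c, hc, rfl⟩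
  have hsec : Cfsg.Agent.Char.OddMagic.Sect K₀ H₀ M := by
    refine ⟨hodd, fun g => ?_, fun k => ⟨fun hk => ?_, fun hk => hL'H hk⟩, fun h hh => ?_⟩
    · have hg' : (g : Γ) ∈ (↑(K ⊔ C) : Set Γ) := by rw [hGKC]; exact g.2
      rw [Subgroup.coe_mul_of_right_le_normalizer_left K C hCnK] at hg'
      obtain ⟨k, hk, c, hc, hkc⟩ := Set.mem_mul.1 hg'
      exact ⟨⟨k, hKG hk⟩, hk, ⟨c, hCG hc⟩,
        show c ∈ H by rw [hH]; exact le_sup_right (a := L) hc, Subtype.ext hkc.symm⟩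
    · obtain ⟨l, hl, c, hc, he⟩ := hprod ((k : G) : Γ) hk
      have hcK : c ∈ K := by
        have h1 : c = l⁻¹ * ((k : G) : Γ) := by rw [he]; group
        rw [h1]; exact mul_mem (inv_mem (hL'K hl)) k.2
      show ((k : G) : Γ) ∈ L'
      rw [he]
      exact mul_mem hl (le_sup_right (a := L) ⟨hcK, hc⟩)
    · obtain ⟨l, hl, c, hc, he⟩ := hprod (h : Γ) hh
      refine ⟨⟨MulAut.conjNormal (⟨c, hCG hc⟩ : G), Equiv.refl S, fun x hx => ?_, fun s k => ?_⟩,
        ⟨⟨l, hL'G hl⟩, hL'K hl⟩, hl, fun k => ?_⟩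
      · show c * _ * c⁻¹ ∈ L'
        exact hL'n c (hCG hc) _ hx
      · refine Subtype.ext (Subtype.ext ?_)
        show c * ((s : Γ) * ((k : G) : Γ) * (s : Γ)⁻¹) * c⁻¹ = (s : Γ) * (c * ((k : G) : Γ) * c⁻¹) * (s : Γ)⁻¹
        have h1 := ((hCmem c).1 hc).2 s s.2
        have h2 : (s : Γ)⁻¹ * c⁻¹ = c⁻¹ * (s : Γ)⁻¹ := by rw [← mul_inv_rev, ← mul_inv_rev, h1]
        calc c * ((s : Γ) * ((k : G) : Γ) * (s : Γ)⁻¹) * c⁻¹
            = (c * s) * ((k : G) : Γ) * ((s : Γ)⁻¹ * c⁻¹) := by group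
          _ = (s * c) * ((k : G) : Γ) * (c⁻¹ * (s : Γ)⁻¹) := by rw [h1, h2]
          _ = _ := by group
      · refine Subtype.ext (Subtype.ext ?_)
        show (h : Γ) * ((k : G) : Γ) * (h : Γ)⁻¹ = l * (c * ((k : G) : Γ) * c⁻¹) * l⁻¹
        rw [he]
        group
  have hext : Cfsg.Agent.Char.OddMagic.Extended K₀ H₀ M act :=
    ⟨fun s k => rfl, fun s h hh => hHS s s.2 _ hh⟩
  -- transfer to the subgroup inside the group
  let eH : H₀ ≃* H := Subgroup.subgroupOfEquivOfLe hHG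
  have heH : ∀ h : H₀, ((eH h : H) : Γ) = ((h : G) : Γ) := fun h => rfl
  let up : IrrCharacter H → IrrCharacter H₀ := fun ψ => ⟨fun h => (ψ : H → ℂ) (eH h),
    Char.IsIrr.comp_surjective eH.toMonoidHom eH.surjective ψ.2⟩
  let down : IrrCharacter H₀ → IrrCharacter H := fun ψ => ⟨fun h => (ψ : H₀ → ℂ) (eH.symm h),
    Char.IsIrr.comp_surjective eH.symm.toMonoidHom eH.symm.surjective ψ.2⟩
  have hupdown : ∀ ψ, up (down ψ) = ψ := fun ψ => Subtype.ext (funext fun h => by simp [up, down])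
  have hdownup : ∀ ψ, down (up ψ) = ψ := fun ψ => Subtype.ext (funext fun h => by simp [up, down])
  have hinner : ∀ (χ : IrrCharacter G) (ψ : IrrCharacter H),
      classInner (fun h : H₀ => (χ : G → ℂ) h) (up ψ : H₀ → ℂ) =
        classInner (fun h : H => (χ : G → ℂ) ⟨h, hHG h.2⟩) (ψ : H → ℂ) := by
    intro χ ψ
    rw [← Char.classInner_comp_surjective eH.toMonoidHom eH.surjective
      (fun h : H => (χ : G → ℂ) ⟨h, hHG h.2⟩) (ψ : H → ℂ)]
    rfl
  have hInvG : ∀ χ : IrrCharacter G, (∀ s ∈ S, ∀ g g' : G, (g' : Γ) = s * g * s⁻¹ →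
      (χ : G → ℂ) g' = (χ : G → ℂ) g) ↔ Cfsg.Agent.Char.OddMagic.Inv act χ := fun χ =>
    ⟨fun h s g => h s s.2 g _ rfl, fun h s hs g g' he => by
      rw [show g' = act ⟨s, hs⟩ g from Subtype.ext he]; exact h _ _⟩
  have hInvH : ∀ ψ : IrrCharacter H, (∀ s ∈ S, ∀ g g' : H, (g' : Γ) = s * g * s⁻¹ →
      (ψ : H → ℂ) g' = (ψ : H → ℂ) g) ↔ Cfsg.Agent.Char.OddMagic.InvH hext (up ψ) := fun ψ =>
    ⟨fun h s x => h s s.2 (eH x) _ rfl, fun h s hs g g' he => by
      have h1 := h ⟨s, hs⟩ (eH.symm g)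
      simp only [up, MulEquiv.apply_symm_apply] at h1
      rw [← h1]
      refine congrArg (ψ : H → ℂ) (Subtype.ext ?_)
      exact he⟩
  -- constituents below
  have hbelow : ∀ ψ : IrrCharacter H₀, Cfsg.Agent.Char.OddMagic.InvH hext ψ →
      ∃ φ : IrrCharacter M.L, M.FixedL φ ∧
        classInner (fun l : M.L => (ψ : H₀ → ℂ) (hsec.incl l)) (φ : M.L → ℂ) ≠ 0 := by
    intro ψ hψ
    haveI : Fintype L' := Fintype.ofFinite _
    haveI : (L'.subgroupOf H).Normal := ⟨fun n hn g => hL'n _ (hHG g.2) _ hn⟩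
    haveI : Group.IsSolvable H := solvable_of_solvable_injective (f := Subgroup.inclusion hHG) (Subgroup.inclusion_injective hHG)
    obtain ⟨θ, hθ, hfix⟩ := Char.InvBelow.exists_inv_below H S L' hHS hL'H
      hL'S ((hcop.coprime_dvd_left (Subgroup.card_dvd_of_le hHG)).coprime_dvd_left
        (L'.subgroupOf H).index_dvd_card)
      (Or.inr (solvable_of_surjective (f := QuotientGroup.mk' (L'.subgroupOf H)) (QuotientGroup.mk'_surjective _)))
      (down ψ) (by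
        refine (hInvH (down ψ)).2 ?_
        rw [hupdown]; exact hψ)
    let eL : M.L ≃* L' :=
      { toFun := fun l => ⟨(((l : K₀) : G) : Γ), l.2⟩
        invFun := fun l => ⟨⟨⟨l, hL'G l.2⟩, hL'K l.2⟩, l.2⟩
        left_inv := fun l => rfl
        right_inv := fun l => rfl
        map_mul' := fun a b => rfl }
    refine ⟨⟨fun l => (θ : L' → ℂ) (eL l),
      Char.IsIrr.comp_surjective eL.toMonoidHom eL.surjective θ.2⟩, fun s l => ?_, ?_⟩
    · exact hfix s s.2 (eL l) _ rfl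
    · intro h0
      refine hθ ?_
      rw [← Char.classInner_comp_surjective eL.toMonoidHom eL.surjective _ (θ : L' → ℂ)]
      exact h0
  have hgood : ∀ χ : IrrCharacter G, Cfsg.Agent.Char.OddMagic.Inv act χ →
      Cfsg.Agent.Char.OddMagic.Good M χ := by
    intro χ hχ
    haveI : Fintype K := Fintype.ofFinite _
    haveI : (K.subgroupOf G).Normal := inferInstanceAs K₀.Normal
    obtain ⟨θ, hθ, hfix⟩ := Char.InvBelow.exists_inv_below G S K hnorm hKG hKS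
      (hcop.coprime_dvd_left (K.subgroupOf G).index_dvd_card)
      (Or.inr (solvable_of_surjective (f := QuotientGroup.mk' (K.subgroupOf G)) (QuotientGroup.mk'_surjective _)))
      χ ((hInvG χ).2 hχ)
    let eK : K₀ ≃* K := Subgroup.subgroupOfEquivOfLe hKG
    refine hsec.good_of_constituent (θ := ⟨⟨fun k => (θ : K → ℂ) (eK k),
      Char.IsIrr.comp_surjective eK.toMonoidHom eK.surjective θ.2⟩,
      fun s k => hfix s s.2 (eK k) _ rfl⟩) fun h0 => hθ ?_
    rw [← Char.classInner_comp_surjective eK.toMonoidHom eK.surjective _ (θ : K → ℂ)]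
    exact h0
  refine ⟨fun χ hχ => ?_, fun χ χ' hχ hχ' ψ hψ m m' hm ho hm' ho' => ?_, fun ψ hψ => ?_⟩
  · have hinv := (hInvG χ).1 hχ
    obtain ⟨ψ₀, hψ₀, ⟨m, hm, ho⟩, huniq⟩ := hsec.forward hext (hgood χ hinv) hinv hbelow
    refine ⟨down ψ₀, ⟨(hInvH _).2 (by rw [hupdown]; exact hψ₀), m, ?_, ho⟩, ?_⟩
    · rw [← hinner, hupdown]; exact hm
    · rintro ψ ⟨hψ, m', hm', ho'⟩
      rw [← hdownup ψ, huniq (up ψ) ((hInvH ψ).1 hψ) ⟨m', (hinner χ ψ).trans hm', ho'⟩]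
  · obtain ⟨φ, hφ, hψφ⟩ := hbelow _ ((hInvH ψ).1 hψ)
    exact hsec.injective (hgood χ ((hInvG χ).1 hχ)) (hgood χ' ((hInvG χ').1 hχ')) hφ hψφ
      ((hinner χ ψ).trans hm) ho ((hinner χ' ψ).trans hm') ho'
  · have hψ' := (hInvH ψ).1 hψ
    obtain ⟨φ₀, hφ₀, h₀⟩ := hbelow _ hψ'
    obtain ⟨χ, hχ, m, hm, ho⟩ := hsec.onto hext (up ψ) hψ' fun φ hφ =>
      const_fixed hsec _ hφ₀ h₀ φ hφ
    exact ⟨χ, (hInvG χ).2 hχ, m, (hinner χ ψ).symm.trans hm, ho⟩

end Cfsg.Agent.S4453
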