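import Cfsg.Statements.S4454
import Cfsg.Agent.Lib.Char.NearConstant

set_option autoImplicit false
open Cfsg

namespace Cfsg.Agent.S4454
open scoped ComplexConjugate
open Cfsg.Agent.Char Cfsg.Agent.Char.NearConst


/-- Let N ≤ G be normal subgroups of the finite group Γ with Γ/G cyclic and Γ/N a Frobenius group with kernel G/N: G ≠ Γ, N ≠ G, and no element of Γ outside G fixes a non-identity coset of N in G under conjugation. Let ϑ be an irreducible character of N invariant under conjugation by Γ and suppose ϑ is fully ramified in G: the character of G induced from ϑ equals e·χ for an irreducible character χ of G and a natural number e. Then the index of G in Γ divides e − 1 or e + 1. -/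
theorem result {Γ : Type*} [Group Γ] [Fintype Γ] (G N : Subgroup Γ) [hG : G.Normal] [hN : N.Normal] [Fintype G] [Fintype N] (hNG : N ≤ G) (hGlt : G ≠ ⊤) (hNlt : N ≠ G) (hcyc : IsCyclic (Γ ⧸ G)) (hfrob : ∀ x : Γ, x ∉ G → ∀ g : Γ, g ∈ G → x * g * x⁻¹ * g⁻¹ ∈ N → g ∈ N) (θ : Cfsg.IrrCharacter N) (hinv : ∀ (x : Γ) (n : N), (θ : N → ℂ) ⟨x * n * x⁻¹, hN.conj_mem n n.2 x⟩ = (θ : N → ℂ) n) (χ : Cfsg.IrrCharacter G) (e : ℕ) (hram : Cfsg.indFun (N.subgroupOf G) (fun n : N.subgroupOf G => (θ : N → ℂ) ⟨(n : G), n.2⟩) = fun g => (e : ℂ) * (χ : G → ℂ) g) : (G.index : ℤ) ∣ (e : ℤ) - 1 ∨ (G.index : ℤ) ∣ (e : ℤ) + 1 := by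
  classical
  obtain ⟨θ, hθ⟩ := θ
  simp only at hinv hram
  -- a linear character cutting out `G`
  obtain ⟨l, hl⟩ := exists_lin hcyc
  set D : Subgroup G := N.subgroupOf G with hD
  letI : Fintype D := Fintype.ofFinite _
  haveI : D.Normal := Subgroup.Normal.subgroupOf hN G
  set θ' : D → ℂ := fun n => θ ⟨((n : G) : Γ), n.2⟩ with hθ'
  have hθ'i : IsIrrCharacter D θ' :=
    IsIrr.comp_mulEquiv (Subgroup.subgroupOfEquivOfLe hNG) hθ
  -- fully ramified
  have hresI : ∀ n : D, indFun D θ' n = (D.index : ℂ) * θ' n := by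
    intro n
    have h := congrFun (res_indFun D θ') n
    simp only [Pi.smul_apply, Finset.sum_apply, smul_eq_mul] at h
    rw [h, Finset.sum_congr rfl (g := fun _ => θ' n) fun g _ =>
      show conjN D g θ' n = θ' n from hinv (g : Γ) ⟨((n : G) : Γ), n.2⟩,
      Finset.sum_const, Finset.card_univ, nsmul_eq_mul, ← Nat.card_eq_fintype_card,
      ← Subgroup.card_mul_index D, Nat.cast_mul, mul_assoc,
      inv_mul_cancel_left₀ (Nat.cast_ne_zero.2 Nat.card_pos.ne')]
  have hee : (e : ℂ) * e = (D.index : ℂ) := by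
    have h := classInner_indFun D θ' (indFun_classFun D θ')
    have e1 : classInner (indFun D θ') (indFun D θ') = (e : ℂ) * e := by
      rw [hram, show (fun g => (e : ℂ) * (χ : G → ℂ) g) = (e : ℂ) • (χ : G → ℂ) from rfl,
        classInner_smul_left, classInner_smul_right, classInner_self_irr χ.2, map_natCast, mul_one]
    have e2 : (fun n : D => indFun D θ' n) = (D.index : ℂ) • θ' := funext hresI
    rw [e1, e2, classInner_smul_right, classInner_self_irr hθ'i, map_natCast, mul_one] at h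
    exact h
  have he0 : (e : ℂ) ≠ 0 := fun h => by
    rw [h, zero_mul] at hee
    exact Nat.cast_ne_zero.2 (Subgroup.index_ne_zero_of_finite (H := D)) hee.symm
  have hχN : ∀ n : D, (χ : G → ℂ) n = (e : ℂ) * θ' n := fun n => by
    refine mul_left_cancel₀ he0 ?_
    rw [← mul_assoc, hee, ← hresI, hram]
  have hχoff : ∀ g : G, g ∉ D → (χ : G → ℂ) g = 0 := fun g hg => by
    refine mul_left_cancel₀ he0 ?_
    rw [mul_zero, ← indFun_eq_zero_of_not_conj D θ' (g := g) fun x h => absurd ?_ hg, hram]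
    have := (inferInstance : D.Normal).conj_mem _ h x
    simpa [mul_assoc] using this
  have hχinv : ∀ (x : Γ) (g : G),
      (χ : G → ℂ) ⟨x * g * x⁻¹, hG.conj_mem g g.2 x⟩ = (χ : G → ℂ) g := by
    intro x g
    by_cases hg : g ∈ D
    · have hg' : (⟨x * g * x⁻¹, hG.conj_mem g g.2 x⟩ : G) ∈ D := hN.conj_mem _ hg x
      rw [hχN ⟨_, hg'⟩, hχN ⟨g, hg⟩]
      exact congrArg _ (hinv x ⟨(g : Γ), hg⟩)
    · have hg' : (⟨x * g * x⁻¹, hG.conj_mem g g.2 x⟩ : G) ∉ D := fun h => hg (by
        have h1 := hN.conj_mem _ h x⁻¹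
        show (g : Γ) ∈ N
        simpa [mul_assoc] using h1)
      rw [hχoff _ hg, hχoff _ hg']
  obtain ⟨χh, hχh, hχres⟩ := exists_ext hcyc χ.2 hχinv
  have hresirr : IsIrrCharacter G (fun g : G => χh g) := by
    rw [funext hχres]; exact χ.2
  -- the section over a generator
  haveI := hcyc
  obtain ⟨q, hq⟩ := IsCyclic.exists_generator (α := Γ ⧸ G)
  obtain ⟨x, rfl⟩ := QuotientGroup.mk_surjective q
  have hxG : x ∉ G := fun hx => hGlt (eq_top_iff.2 fun y _ => by
    obtain ⟨i, hi⟩ := hq (y : Γ ⧸ G)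
    simp only [(QuotientGroup.eq_one_iff x).2 hx, one_zpow] at hi
    exact (QuotientGroup.eq_one_iff y).1 hi.symm)
  set M : Subgroup Γ := (Subgroup.zpowers (x : Γ ⧸ N)).comap (QuotientGroup.mk' N) with hMdef
  letI : Fintype M := Fintype.ofFinite _
  set N' : Subgroup M := N.subgroupOf M with hN'
  letI : Fintype N' := Fintype.ofFinite _
  have hNM : N ≤ M := fun n hn => by
    rw [hMdef, Subgroup.mem_comap, QuotientGroup.mk'_apply, (QuotientGroup.eq_one_iff n).2 hn]
    exact one_mem _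
  haveI : N'.Normal := Subgroup.Normal.subgroupOf hN M
  have hMG : ∀ y : M, (y : Γ) ∈ G → (y : Γ) ∈ N := by
    intro y hy
    obtain ⟨i, hi⟩ := Subgroup.mem_zpowers_iff.1 (Subgroup.mem_comap.1 y.2)
    rw [QuotientGroup.mk'_apply, ← QuotientGroup.mk_zpow, QuotientGroup.eq] at hi
    have hxi : x ^ i ∈ G := by
      have := mul_mem hy (inv_mem (hNG hi))
      simpa [mul_assoc] using this
    have h1 : x * x ^ i * x⁻¹ * (x ^ i)⁻¹ ∈ N := by
      rw [show x * x ^ i * x⁻¹ * (x ^ i)⁻¹ = 1 by group]; exact one_mem _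
    have := mul_mem (hfrob x hxG _ hxi h1) hi
    simpa using this
  set lM : M →* ℂˣ := l.comp M.subtype with hlM
  have hlMk : ∀ y : M, lM y = 1 ↔ y ∈ N' := fun y => by
    rw [hlM, MonoidHom.comp_apply, Subgroup.subtype_apply, hl]
    exact ⟨hMG y, fun h => hNG h⟩
  have hxM : x ∈ M := Subgroup.mem_comap.2 (Subgroup.mem_zpowers _)
  have hN'top : N' ≠ ⊤ := fun h => hxG (hNG (Subgroup.mem_subgroupOf.1
    (h.symm ▸ Subgroup.mem_top (⟨x, hxM⟩ : M) : (⟨x, hxM⟩ : M) ∈ N')))
  set ψ : M → ℂ := fun y => χh y with hψdef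
  have hψc : IsCharacter M ψ := IsChar.res (IsIrr.isCharacter hχh) M
  let eDN : D ≃* N' :=
    (Subgroup.subgroupOfEquivOfLe hNG).trans (Subgroup.subgroupOfEquivOfLe hNM).symm
  have heDN : ∀ d : D, (((eDN d : N') : M) : Γ) = ((d : G) : Γ) := fun d => rfl
  -- averages on the cosets of the section
  have hcos : ∀ y : M, y ∉ N' → ∑ n : N', ψ ((n : M) * y) * conj (ψ ((n : M) * y)) =
      (Nat.card N' : ℂ) := by
    intro y hy
    have hyG : (y : Γ) ∉ G := fun h => hy (hMG y h)
    have hcl : IsClassFunction Γ (fun z => χh z * conj (χh z)) := fun a b => by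
      simp only [IsIrr.classFun hχh a b]
    have h := sum_coset_section D (y := (y : Γ)) (fun g d d' hgd => by
      refine Subgroup.mem_subgroupOf.2 (hfrob (y : Γ) hyG g g.2 ?_)
      have h1 : (g : Γ) * (y : Γ)⁻¹ = (y : Γ)⁻¹ * (((d' : G) : Γ))⁻¹ * g * ((d : G) : Γ) := by
        rw [← mul_inv_rev, ← hgd]
        group
      have h2 : (y : Γ) * g * (y : Γ)⁻¹ * (g : Γ)⁻¹ =
          (((d' : G) : Γ))⁻¹ * ((g : Γ) * ((d : G) : Γ) * (g : Γ)⁻¹) := by
        rw [mul_assoc (y : Γ), h1]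
        group
      rw [h2]
      exact mul_mem (inv_mem d'.2) (hN.conj_mem _ d.2 g)) hcl
    rw [coset_norm l hl hχh hresirr, mul_comm (Nat.card D : ℂ)] at h
    rw [← Fintype.sum_equiv eDN.toEquiv
      (fun d : D => χh (((d : G) : Γ) * y) * conj (χh (((d : G) : Γ) * y))) _ fun d => rfl,
      ← Nat.card_congr eDN.toEquiv]
    exact mul_left_cancel₀ (Nat.cast_ne_zero.2 Nat.card_pos.ne') h
  obtain ⟨φ₀, ε, hε, ⟨φ, hφ, hφ₀⟩, hoff, hb⟩ := exists_main lM hlMk hN'top hψc hcos
  -- the values on the section of the normal subgroup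
  set θN : N' → ℂ := fun n => θ ⟨((n : M) : Γ), n.2⟩ with hθN
  have hθNi : IsIrrCharacter N' θN :=
    IsIrr.comp_mulEquiv (Subgroup.subgroupOfEquivOfLe hNM) hθ
  have hψN : (fun n : N' => ψ n) = (e : ℂ) • θN := funext fun n =>
    (hχres ⟨_, hNG n.2⟩).trans (hχN ⟨⟨_, hNG n.2⟩, n.2⟩)
  have hcycM : IsCyclic (M ⧸ N') := by
    refine isCyclic_of_injective (QuotientGroup.map N' G M.subtype fun y hy => hNG hy) ?_
    rw [injective_iff_map_eq_one]
    intro q hq
    induction q using QuotientGroup.induction_on with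
    | _ y =>
      exact (QuotientGroup.eq_one_iff y).2 (hMG y ((QuotientGroup.eq_one_iff _).1 hq))
  have hφres : (fun n : N' => (φ : M → ℂ) n) = θN := by
    refine res_eq hcycM hθNi (fun y n => hinv (y : Γ) ⟨_, n.2⟩) φ.2 fun h0 => ?_
    obtain ⟨γ, hγ⟩ := IsChar.exists_constituent' (IsChar.res (IsIrr.isCharacter φ.2) N')
      (IsIrr.one_ne_zero φ.2)
    have h1 := constituent_res hψc hφ γ.2 hγ
    rw [hψN, classInner_smul_left] at h1
    have hγθ : θN = (γ : N' → ℂ) := by
      by_contra hne'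
      exact h1 (by rw [classInner_irr_ne hθNi γ.2 hne', mul_zero])
    rw [← hγθ] at hγ
    exact hγ h0
  -- the combination left lives on the subgroup
  obtain ⟨b, hb⟩ := hb φ₀
  have hidx : N'.index = G.index := by
    set f : M →* Γ ⧸ G := (QuotientGroup.mk' G).comp M.subtype
    have hker : f.ker = N' := by
      ext y
      rw [MonoidHom.mem_ker, MonoidHom.comp_apply, Subgroup.subtype_apply, QuotientGroup.mk'_apply,
        QuotientGroup.eq_one_iff, Subgroup.mem_subgroupOf]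
      exact ⟨hMG y, fun h => hNG h⟩
    have hsurj : f.range = ⊤ := eq_top_iff.2 fun z _ => by
      obtain ⟨i, hi⟩ := hq z
      exact ⟨(⟨x, hxM⟩ : M) ^ i, by
        rw [map_zpow]
        exact hi⟩
    rw [← hker, Subgroup.index_ker, hsurj, Subgroup.card_top]
    rfl
  have hsum : classInner (fun y => ψ y - (ε : ℂ) * (φ₀ : M → ℂ) y) (φ₀ : M → ℂ) =
      ((e : ℂ) - ε) / (N'.index : ℂ) := by
    have hθnorm : ∑ n : N', θN n * conj (θN n) = (Nat.card N' : ℂ) := by
      have h := classInner_self_irr hθNi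
      rwa [classInner, inv_mul_eq_iff_eq_mul₀ (Nat.cast_ne_zero.2 Nat.card_pos.ne'), mul_one] at h
    rw [classInner, Finset.sum_congr rfl (g := fun y => if y ∈ N' then
      (ψ y - (ε : ℂ) * (φ₀ : M → ℂ) y) * conj ((φ₀ : M → ℂ) y) else 0) fun y _ => by
        split_ifs with hy
        · rfl
        · rw [hoff y hy, sub_self, zero_mul],
      ← Finset.sum_filter, Finset.sum_subtype (Finset.univ.filter (· ∈ N')) (p := (· ∈ N'))
        (fun y => by simp) (fun y => (ψ y - (ε : ℂ) * (φ₀ : M → ℂ) y) * conj ((φ₀ : M → ℂ) y)),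
      Finset.sum_congr rfl (g := fun n : N' => ((e : ℂ) - ε) * (θN n * conj (θN n))) fun n _ => by
        have h1 : ψ n = (e : ℂ) * θN n := congrFun hψN n
        have h2 : (φ₀ : M → ℂ) n = θN n := (hφ₀ n).trans (congrFun hφres n)
        rw [h1, h2]
        ring,
      ← Finset.mul_sum, hθnorm, ← Subgroup.card_mul_index N', Nat.cast_mul]
    have hc : (Nat.card N' : ℂ) ≠ 0 := Nat.cast_ne_zero.2 Nat.card_pos.ne'
    have hi : (N'.index : ℂ) ≠ 0 := Nat.cast_ne_zero.2 Subgroup.index_ne_zero_of_finite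
    field_simp
  rw [hsum, div_eq_iff (Nat.cast_ne_zero.2 Subgroup.index_ne_zero_of_finite), hidx] at hb
  have hb' : (e : ℤ) - ε = (b : ℤ) * (G.index : ℤ) := by exact_mod_cast hb
  rcases hε with rfl | rfl
  · exact Or.inl ⟨b, by rw [hb', mul_comm]⟩
  · exact Or.inr ⟨b, by rw [← sub_neg_eq_add, hb', mul_comm]⟩

end Cfsg.Agent.S4454
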