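import Cfsg.Statements.S4457
import Cfsg.Agent.Lib.Char.TwoDegreesMain

set_option autoImplicit false
open Cfsg

namespace Cfsg.Agent.S4457

open Cfsg.Agent.Char.TwoDeg

/-- Let G be a finite group whose irreducible character degrees are exactly 1 and m (m ≠ 1). Then either G has an abelian normal subgroup of index m, or m is a power of a prime p and G is the direct product of a p-group and an abelian group: there are normal subgroups P and A with P a p-group, A abelian, P ⊓ A = 1 and P ⊔ A = G. -/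
theorem result {G : Type*} [Group G] [Finite G] (m : ℕ) (hcd : ∀ χ : Cfsg.IrrCharacter G, Cfsg.charDegree (χ : G → ℂ) = 1 ∨ Cfsg.charDegree (χ : G → ℂ) = m) (hm : ∃ χ : Cfsg.IrrCharacter G, Cfsg.charDegree (χ : G → ℂ) = m) (hm1 : m ≠ 1) : (∃ A : Subgroup G, A.Normal ∧ (∀ a ∈ A, ∀ b ∈ A, a * b = b * a) ∧ A.index = m) ∨ ∃ p e : ℕ, p.Prime ∧ m = p ^ e ∧ ∃ P A : Subgroup G, P.Normal ∧ A.Normal ∧ IsPGroup p P ∧ (∀ a ∈ A, ∀ b ∈ A, a * b = b * a) ∧ P ⊓ A = ⊥ ∧ P ⊔ A = ⊤ := by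
  rcases dichotomy hcd hm hm1 with ⟨C, hC, hab, hi, -⟩ | ⟨p, e, hp, he, A, hA, hcen, hcop, k, hk⟩
  · exact Or.inl ⟨C, hC, hab, hi⟩
  refine Or.inr ⟨p, e, hp, he, ?_⟩
  haveI := hA
  obtain ⟨P, hP⟩ := Subgroup.exists_right_complement'_of_coprime hcop
  refine ⟨P, A, ⟨fun q hq g => ?_⟩, hA, IsPGroup.of_card (n := k) ?_,
    fun a ha b _ => (Subgroup.mem_center_iff.1 (hcen ha) b).symm, ?_, ?_⟩
  · obtain ⟨⟨⟨a, ha⟩, ⟨q', hq'⟩⟩, rfl⟩ := (hP.existsUnique g).exists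
    have h1 : Commute a (q' * q * q'⁻¹) := (Subgroup.mem_center_iff.1 (hcen ha) _).symm
    rw [show (a * q') * q * (a * q')⁻¹ = a * (q' * q * q'⁻¹) * a⁻¹ by group, h1.eq, mul_inv_cancel_right]
    exact P.mul_mem (P.mul_mem hq' hq) (P.inv_mem hq')
  · rw [← Subgroup.IsComplement'.index_eq_card (Subgroup.IsComplement'.symm hP), hk]
  · rw [inf_comm]; exact hP.disjoint.eq_bot
  · rw [sup_comm]; exact hP.sup_eq_top

end Cfsg.Agent.S4457
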