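import Cfsg.Statements.S4459
import Cfsg.Agent.Lib.Char.TwoDegreesMain
import Cfsg.Agent.Lib.Block.CharCenterPGroup

set_option autoImplicit false
open Cfsg

namespace Cfsg.Agent.S4459

open Cfsg.Agent.Char Cfsg.Agent.Char.TwoDeg
open scoped ComplexConjugate commutatorElement

universe u

/-- The abelian section of index `p²`. -/
theorem exists_plane {G : Type u} [Group G] [Finite G] (hnil : Group.IsNilpotent G) {p : ℕ}
    (hp : p.Prime)
    (hcd : ∀ χ : IrrCharacter G, charDegree (χ : G → ℂ) = 1 ∨ charDegree (χ : G → ℂ) = p)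
    (hna : ∃ a b : G, a * b ≠ b * a) :
    ∃ Z : Subgroup G, Z.Normal ∧ (∀ a ∈ Z, ∀ b ∈ Z, a * b = b * a) ∧ Z.index = p ^ 2 ∧
      Subgroup.center G ≤ Z ∧ commutator G ≤ Z ∧ ∀ x : G, x ^ p ∈ Z := by
  classical
  haveI := hnil
  letI := Fintype.ofFinite G
  have hG' : commutator G ≠ ⊥ := fun h => by
    obtain ⟨a, b, hab⟩ := hna
    refine hab (commutatorElement_eq_one_iff_mul_comm.1 ?_)
    rw [← Subgroup.mem_bot, ← h, commutator_def]
    exact Subgroup.commutator_mem_commutator (Subgroup.mem_top a) (Subgroup.mem_top b)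
  let S : Set (Subgroup G) := {N | N.Normal ∧ N < commutator G}
  obtain ⟨N, ⟨hN, hNlt⟩, hNmax⟩ := (Set.toFinite S).exists_maximal
    ⟨⊥, inferInstance, bot_lt_iff_ne_bot.2 hG'⟩
  haveI := hN
  set π := QuotientGroup.mk' N with hπ
  have hsurj : Function.Surjective π := QuotientGroup.mk'_surjective N
  have hL1 : (commutator G).map π ≠ ⊥ := fun h => hNlt.not_ge (by
    rw [Subgroup.map_eq_bot_iff, QuotientGroup.ker_mk'] at h
    exact h)
  haveI hLn : ((commutator G).map π).Normal := Subgroup.Normal.map inferInstance π hsurj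
  have hcen : (commutator G).map π ≤ Subgroup.center (G ⧸ N) := by
    set M := ((commutator G).map π ⊓ Subgroup.center (G ⧸ N)).comap π ⊓ commutator G with hM
    have hNM : N ≤ M := le_inf (fun x hx => by
      rw [Subgroup.mem_comap, show π x = 1 from (QuotientGroup.eq_one_iff x).2 hx]
      exact one_mem _) hNlt.le
    have hMeq : M = commutator G := by
      by_contra hne
      haveI : ((commutator G).map π ⊓ Subgroup.center (G ⧸ N)).Normal :=
        Subgroup.normal_inf_normal _ _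
      have hMS : M ∈ S := ⟨Subgroup.normal_inf_normal _ _, lt_of_le_of_ne inf_le_right hne⟩
      have hMN : M ≤ N := hNmax hMS hNM
      refine Cfsg.Agent.Grp.inf_center_ne_bot _ hL1 (eq_bot_iff.2 fun q hq => ?_)
      obtain ⟨x, hx, rfl⟩ := hq.1
      exact (QuotientGroup.eq_one_iff x).2 (hMN ⟨hq, hx⟩)
    rintro _ ⟨x, hx, rfl⟩
    have hxM : x ∈ M := hMeq.symm ▸ hx
    exact hxM.1.2
  obtain ⟨z₀, hz₀, hz₀N⟩ := SetLike.exists_of_lt hNlt
  obtain ⟨θ, hθ⟩ : ∃ θ : IrrCharacter (G ⧸ N),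
      (θ : G ⧸ N → ℂ) (π z₀) ≠ (θ : G ⧸ N → ℂ) 1 := by
    by_contra hcon
    push Not at hcon
    exact hz₀N ((QuotientGroup.eq_one_iff z₀).1
      (isConj_one_left.mp ((isConj_iff_irr _ 1).mpr hcon)))
  let χ : IrrCharacter G := ⟨_, IsIrr.comp_surjective π hsurj θ.2⟩
  have hχd : charDegree (χ : G → ℂ) = charDegree (θ : G ⧸ N → ℂ) := PIto.charDeg_eq (by
    show (θ : G ⧸ N → ℂ) (π 1) = _
    rw [map_one, PIto.charDeg_cast])
  have hθ1 : (θ : G ⧸ N → ℂ) 1 = (p : ℂ) := by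
    rcases hcd χ with h | h
    · exfalso
      obtain ⟨l, hl⟩ := linearHom_of_isCharacter (IsIrr.isCharacter χ.2)
        (by rw [PIto.charDeg_cast, h, Nat.cast_one])
      refine hθ ?_
      have h1 := congrFun hl z₀
      have h2 : l z₀ = 1 := MonoidHom.mem_ker.1 (Abelianization.commutator_subset_ker l hz₀)
      have h3 : (θ : G ⧸ N → ℂ) (π z₀) = (l z₀ : ℂ) := h1
      rw [h3, h2, PIto.charDeg_cast θ, ← hχd, h]
      simp
    · rw [PIto.charDeg_cast θ, ← hχd, h]
  have hscal : ∀ q ∈ Subgroup.center (G ⧸ N), ∃ c : ℂ, ‖c‖ = 1 ∧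
      ∀ h, (θ : G ⧸ N → ℂ) (q * h) = c * (θ : G ⧸ N → ℂ) h := by
    intro q hq
    obtain ⟨c, hc⟩ := Cfsg.Agent.Block.PCen.exists_center_scalar θ (a := q) fun y => by
      rw [commutatorElement_eq_one_iff_mul_comm.2 (Subgroup.mem_center_iff.1 hq y).symm]
    refine ⟨c, ?_, hc⟩
    have hpow : ∀ k : ℕ, (θ : G ⧸ N → ℂ) (q ^ k) = c ^ k * (θ : G ⧸ N → ℂ) 1 := by
      intro k
      induction k with
      | zero => simp
      | succ k ih => rw [pow_succ', hc, ih, pow_succ', mul_assoc]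
    have h1 := hpow (Nat.card (G ⧸ N))
    rw [pow_card_eq_one'] at h1
    exact norm_eq_one_of_pow_eq_one' Nat.card_pos ((mul_eq_right₀ (IsIrr.one_ne_zero θ.2)).1 h1.symm)
  set Z := (Subgroup.center (G ⧸ N)).comap π with hZ
  haveI hZn : Z.Normal := Subgroup.Normal.comap inferInstance π
  have hker : ∀ z ∈ commutator G, (θ : G ⧸ N → ℂ) (π z) = (θ : G ⧸ N → ℂ) 1 → z ∈ N := by
    intro z hz hzθ
    haveI : (charKer (IsIrr.isCharacter χ.2)).Normal := charKer_normal _
    set K' := charKer (IsIrr.isCharacter χ.2) ⊓ commutator G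
    have hNK : N ≤ K' := le_inf (fun x hx => by
      rw [mem_charKer]
      show (θ : G ⧸ N → ℂ) (π x) = (θ : G ⧸ N → ℂ) (π 1)
      rw [map_one, show π x = 1 from (QuotientGroup.eq_one_iff x).2 hx]) hNlt.le
    have hK' : K' ∈ S := ⟨Subgroup.normal_inf_normal _ _, lt_of_le_of_ne inf_le_right fun e => hθ (by
      have h1 : z₀ ∈ K' := e.symm ▸ hz₀
      have h2 := (mem_charKer _).1 h1.1
      have h3 : (θ : G ⧸ N → ℂ) (π z₀) = (θ : G ⧸ N → ℂ) (π 1) := h2
      rwa [map_one] at h3)⟩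
    refine hNmax hK' hNK ⟨?_, hz⟩
    show z ∈ charKer _
    rw [mem_charKer]
    show (θ : G ⧸ N → ℂ) (π z) = (θ : G ⧸ N → ℂ) (π 1)
    rw [map_one, hzθ]
  have hvanish : ∀ x ∉ Z, (χ : G → ℂ) x = 0 := by
    intro x hx
    rw [hZ, Subgroup.mem_comap, Subgroup.mem_center_iff] at hx
    push Not at hx
    obtain ⟨q, hq⟩ := hx
    obtain ⟨y, rfl⟩ := hsurj q
    have hzG : ⁅y, x⁆ ∈ commutator G := by
      rw [commutator_def]
      exact Subgroup.commutator_mem_commutator (Subgroup.mem_top y) (Subgroup.mem_top x)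
    have hzne : π ⁅y, x⁆ ≠ 1 := fun e => hq (commutatorElement_eq_one_iff_mul_comm.1 (by
      rw [← map_commutatorElement, e]))
    obtain ⟨c, -, hc⟩ := hscal _ (hcen (Subgroup.mem_map_of_mem π hzG))
    have hc1 : c ≠ 1 := fun e => hzne ((QuotientGroup.eq_one_iff _).2 (hker _ hzG (by
      have := hc 1
      rw [mul_one, e, one_mul] at this
      exact this)))
    have h1 : (θ : G ⧸ N → ℂ) (π ⁅y, x⁆ * π x) = (θ : G ⧸ N → ℂ) (π x) := by
      rw [← map_mul, show ⁅y, x⁆ * x = y * x * y⁻¹ by rw [commutatorElement_def]; group]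
      exact IsIrr.classFun χ.2 x y
    rw [hc] at h1
    exact (mul_left_eq_self₀.1 h1).resolve_left hc1
  have habs : ∀ x ∈ Z, (χ : G → ℂ) x * conj ((χ : G → ℂ) x) = (p : ℂ) ^ 2 := by
    intro x hx
    obtain ⟨c, hc1, hc⟩ := hscal (π x) hx
    have h1 : (χ : G → ℂ) x = c * (p : ℂ) := by
      show (θ : G ⧸ N → ℂ) (π x) = _
      rw [← mul_one (π x), hc 1, hθ1]
    rw [h1, Complex.mul_conj']
    simp [hc1]
  letI := Fintype.ofFinite Z
  have hnorm : ∀ f : G → ℂ, ∑ g : G, (χ : G → ℂ) g * conj ((χ : G → ℂ) g) * f g =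
      (p : ℂ) ^ 2 * ∑ z : Z, f z := by
    intro f
    rw [Finset.mul_sum, ← Finset.sum_subset (Finset.subset_univ (Finset.univ.filter (· ∈ Z)))
      fun g _ hg => by rw [hvanish g (by simpa using hg), zero_mul, zero_mul],
      Finset.sum_subtype (Finset.univ.filter (· ∈ Z)) (p := (· ∈ Z)) (fun g => by simp)]
    exact Finset.sum_congr rfl fun z _ => by rw [habs z z.2]
  have hidx : Z.index = p ^ 2 := by
    have h1 := classInner_self_irr χ.2
    rw [classInner, inv_mul_eq_iff_eq_mul₀ (Nat.cast_ne_zero.2 Nat.card_pos.ne'), mul_one] at h1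
    have h2 := hnorm fun _ => 1
    simp only [mul_one, Finset.sum_const, Finset.card_univ, nsmul_eq_mul] at h2
    rw [h1, ← Nat.card_eq_fintype_card] at h2
    have h3 : Nat.card G = p ^ 2 * Nat.card Z := by exact_mod_cast h2
    rw [← Subgroup.card_mul_index Z, mul_comm] at h3
    exact Nat.eq_of_mul_eq_mul_right Nat.card_pos h3
  have hGZ : commutator G ≤ Z := fun g hg => hcen (Subgroup.mem_map_of_mem π hg)
  have hab : ∀ a ∈ Z, ∀ b ∈ Z, a * b = b * a := by
    intro a ha b hb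
    refine congrArg Subtype.val (comm_of_linear (fun ξ : IrrCharacter Z => ?_) ⟨a, ha⟩ ⟨b, hb⟩)
    obtain ⟨φ, hφ⟩ := PIto.exists_above Z ξ.2
    obtain ⟨e, he, -⟩ := Ext.ratio_dvd_index' φ.2 ξ.2 hφ
    rw [PIto.charDeg_cast ξ, ← Nat.cast_mul] at he
    have hdvd : charDegree (ξ : Z → ℂ) ∣ charDegree (φ : G → ℂ) :=
      PIto.charDeg_eq he ▸ dvd_mul_left _ _
    rcases hcd φ with h | h
    · exact Nat.dvd_one.1 (h ▸ hdvd)
    rcases (Nat.dvd_prime hp).1 (h ▸ hdvd) with h' | h'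
    · exact h'
    exfalso
    have hres : (fun z : Z => (φ : G → ℂ) z) = (ξ : Z → ℂ) :=
      eq_of_constituent_degree (IsChar.res (IsIrr.isCharacter φ.2) Z) ξ.2 hφ (by
        show (φ : G → ℂ) 1 = _
        rw [PIto.charDeg_cast φ, PIto.charDeg_cast ξ, h, h'])
    have hprod : IsIrrCharacter G (fun g => (φ : G → ℂ) g * (χ : G → ℂ) g) := by
      refine IsChar.irr_of_norm_one (IsChar.mul (IsIrr.isCharacter φ.2) (IsIrr.isCharacter χ.2)) ?_
      have h1 := classInner_self_irr ξ.2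
      rw [classInner, inv_mul_eq_iff_eq_mul₀ (Nat.cast_ne_zero.2 Nat.card_pos.ne'), mul_one, ← hres] at h1
      rw [classInner, inv_mul_eq_iff_eq_mul₀ (Nat.cast_ne_zero.2 Nat.card_pos.ne'), mul_one]
      have h2 := hnorm fun g => (φ : G → ℂ) g * conj ((φ : G → ℂ) g)
      rw [h1] at h2
      rw [Finset.sum_congr rfl (g := fun g => (χ : G → ℂ) g * conj ((χ : G → ℂ) g) *
        ((φ : G → ℂ) g * conj ((φ : G → ℂ) g))) fun g _ => by rw [map_mul]; ring, h2,
        ← Subgroup.card_mul_index Z, hidx]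
      push_cast
      ring
    have hd : charDegree (fun g => (φ : G → ℂ) g * (χ : G → ℂ) g) = p * p := PIto.charDeg_eq (by
      rw [PIto.charDeg_cast φ, PIto.charDeg_cast χ, hχd, h,
        PIto.charDeg_eq hθ1, Nat.cast_mul])
    have hp2 := hp.two_le
    rcases hcd ⟨_, hprod⟩ with h2 | h2 <;> rw [hd] at h2 <;> nlinarith
  refine ⟨Z, hZn, hab, hidx, fun z hz => ?_, hGZ, fun x => ?_⟩
  · rw [hZ, Subgroup.mem_comap, Subgroup.mem_center_iff]
    intro q
    obtain ⟨y, rfl⟩ := hsurj q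
    rw [← map_mul, ← map_mul, Subgroup.mem_center_iff.1 hz y]
  · by_contra hxp
    have hx : x ∉ Z := fun h => hxp (pow_mem h p)
    haveI : Fact p.Prime := ⟨hp⟩
    have hcard : Nat.card (G ⧸ Z) = p ^ 2 := hidx
    have hgen : Subgroup.zpowers (QuotientGroup.mk x : G ⧸ Z) = ⊤ := by
      obtain ⟨i, hi, hord⟩ := (Nat.dvd_prime_pow hp).1
        (hcard ▸ orderOf_dvd_natCard (QuotientGroup.mk x : G ⧸ Z))
      have hi2 : i = 2 := by
        by_contra hne
        refine hxp ((QuotientGroup.eq_one_iff _).1 ?_)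
        rw [QuotientGroup.mk_pow, ← orderOf_dvd_iff_pow_eq_one, hord]
        exact (pow_dvd_pow p (show i ≤ 1 by omega)).trans (pow_one p).dvd
      refine Subgroup.eq_top_of_card_eq _ ?_
      rw [Nat.card_zpowers, hord, hi2, hcard]
    refine hx ?_
    rw [hZ, Subgroup.mem_comap, Subgroup.mem_center_iff]
    intro q
    obtain ⟨y, rfl⟩ := hsurj q
    have hy : (QuotientGroup.mk y : G ⧸ Z) ∈ Subgroup.zpowers (QuotientGroup.mk x : G ⧸ Z) :=
      hgen ▸ Subgroup.mem_top _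
    obtain ⟨i, hi⟩ := hy
    have hi' : (QuotientGroup.mk (x ^ i) : G ⧸ Z) = QuotientGroup.mk y := hi
    rw [QuotientGroup.eq] at hi'
    obtain ⟨w, hw, rfl⟩ : ∃ w ∈ Z, y = x ^ i * w := ⟨_, hi', by group⟩
    have hw' : Commute (π w) (π x) := (Subgroup.mem_center_iff.1 hw (π x)).symm
    rw [map_mul, map_zpow]
    exact (((Commute.refl (π x)).zpow_left i).mul_left hw').eq

/-- The common image of the commutation maps. -/
theorem index_center {G : Type u} [Group G] [Finite G] (hnil : Group.IsNilpotent G) {p : ℕ}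
    (hp : p.Prime)
    (hcd : ∀ χ : IrrCharacter G, charDegree (χ : G → ℂ) = 1 ∨ charDegree (χ : G → ℂ) = p)
    (hna : ∃ a b : G, a * b ≠ b * a)
    (hnoA : ¬ ∃ A : Subgroup G, A.Normal ∧ (∀ a ∈ A, ∀ b ∈ A, a * b = b * a) ∧ A.index = p) :
    (Subgroup.center G).index = p ^ 3 := by
  classical
  haveI := Fact.mk hp
  letI := Fintype.ofFinite G
  obtain ⟨Z, hZn, hab, hidx, hcZ, hGZ, hexp⟩ := exists_plane hnil hp hcd hna
  haveI := hZn
  letI := Fintype.ofFinite Z
  -- the subgroup above `Z` at an element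
  have hHa : ∀ a ∉ Z, ∀ H : Subgroup G, Z ≤ H → a ∈ H → H = ⊤ ∨ (H.index = p ∧
      H = Z ⊔ Subgroup.zpowers a) := by
    intro a ha H hZH haH
    have hle : Z ⊔ Subgroup.zpowers a ≤ H := sup_le hZH (Subgroup.zpowers_le.2 haH)
    have h1 : (Z ⊔ Subgroup.zpowers a).index ≠ p ^ 2 := fun e => ha (by
      have h2 : Z = Z ⊔ Subgroup.zpowers a := by
        refine Subgroup.eq_of_le_of_card_ge le_sup_left ?_
        have e1 := Subgroup.card_mul_index Z
        have e2 := Subgroup.card_mul_index (Z ⊔ Subgroup.zpowers a)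
        rw [hidx] at e1
        rw [e, ← e1] at e2
        exact (Nat.eq_of_mul_eq_mul_right (pow_pos hp.pos 2) e2).le
      rw [h2]
      exact Subgroup.mem_sup_right (Subgroup.mem_zpowers a))
    obtain ⟨i, hi, hi'⟩ := (Nat.dvd_prime_pow hp).1
      (hidx ▸ Subgroup.index_dvd_of_le (le_sup_left : Z ≤ Z ⊔ Subgroup.zpowers a))
    obtain ⟨j, hj, hj'⟩ := (Nat.dvd_prime_pow hp).1
      (hidx ▸ Subgroup.index_dvd_of_le hZH)
    have hi2 : i ≠ 2 := fun e => h1 (by rw [hi', e])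
    have hji : j ≤ i := by
      have h3 := Subgroup.index_dvd_of_le hle
      rw [hi', hj'] at h3
      exact (Nat.pow_dvd_pow_iff_le_right hp.one_lt).1 h3
    rcases Nat.eq_zero_or_pos j with rfl | hj0
    · exact Or.inl (Subgroup.index_eq_one.1 (by rw [hj', pow_zero]))
    · refine Or.inr ⟨by rw [hj', show j = 1 by omega, pow_one], (Subgroup.eq_of_le_of_card_ge hle ?_).symm⟩
      have e1 := Subgroup.card_mul_index H
      have e2 := Subgroup.card_mul_index (Z ⊔ Subgroup.zpowers a)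
      rw [hj'] at e1
      rw [hi', show i = j by omega, ← e1] at e2
      exact (Nat.eq_of_mul_eq_mul_right (pow_pos hp.pos j) e2).ge
  have hdvd : ∀ a ∉ Z, ∀ H : Subgroup G, Z ≤ H → ∀ i : ℤ, ¬ (p : ℤ) ∣ i → a ^ i ∈ H → a ∈ H := by
    intro a _ H hZH i hi hai
    obtain ⟨u, v, huv⟩ : ∃ u v : ℤ, u * i + v * p = 1 :=
      (Int.isCoprime_iff_gcd_eq_one.2 (by
        rw [Int.gcd_comm]
        exact ((Nat.prime_iff_prime_int.1 hp).coprime_iff_not_dvd.2 hi |> Int.isCoprime_iff_gcd_eq_one.1)))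
    have h1 : a = (a ^ i) ^ u * ((a ^ p) ^ v) := by
      rw [← zpow_mul, ← zpow_natCast, ← zpow_mul, ← zpow_add, mul_comm i u, mul_comm (p : ℤ) v, huv,
        zpow_one]
    rw [h1]
    exact H.mul_mem (H.zpow_mem hai u) (H.zpow_mem (hZH (hexp a)) v)
  -- no linear character of `Z` is moved by everything
  have hfix : ∀ μ : Z →* ℂˣ, ∃ c ∉ Z, cj c μ = μ := by
    intro μ
    by_contra hcon
    push Not at hcon
    have hT : stabL μ = Z := le_antisymm (fun g hg => by_contra fun hgZ => hcon g hgZ (mem_stabL.1 hg))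
      (le_stabL μ)
    obtain ⟨h1, -⟩ := Corr.indFun_irr Z (isIrr_linear μ) (T := Z)
      (hT.symm.trans (stabL_eq_inertia μ)) le_rfl (isIrr_linear μ) (by
        rw [show (fun n : Z => ((μ ⟨(n : G), n.2⟩ : ℂˣ) : ℂ)) = fun n : Z => (μ n : ℂ) from rfl,
          classInner_self_irr (isIrr_linear μ)]
        exact one_ne_zero)
    have hd : charDegree (indFun Z fun k : Z => (μ k : ℂ)) = p ^ 2 :=
      PIto.charDeg_eq (by rw [indFun_one_eq, map_one, Units.val_one, mul_one, hidx])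
    have hp2 := hp.two_le
    rcases hcd ⟨_, h1⟩ with h2 | h2 <;> rw [hd] at h2 <;> nlinarith
  -- every element outside `Z` moves one
  have hmove : ∀ a ∉ Z, ∃ μ : Z →* ℂˣ, cj a μ ≠ μ := by
    intro a ha
    by_contra hcon
    push Not at hcon
    have hcent : ∀ z ∈ Z, z * a = a * z := fun z hz =>
      Subgroup.mem_centralizer_iff.1 (mem_centralizer_of_fix hab hcon) z hz
    set A := Z ⊔ Subgroup.zpowers a with hA
    have hAn : A.Normal := ⟨fun w hw g => by
      rw [show g * w * g⁻¹ = ⁅g, w⁆ * w by rw [commutatorElement_def]; group]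
      refine A.mul_mem (Subgroup.mem_sup_left (hGZ ?_)) hw
      rw [commutator_def]
      exact Subgroup.commutator_mem_commutator (Subgroup.mem_top g) (Subgroup.mem_top w)⟩
    have hAab : ∀ u ∈ A, ∀ v ∈ A, u * v = v * u := by
      intro u hu v hv
      rw [hA, ← SetLike.mem_coe, Subgroup.normal_mul] at hu hv
      obtain ⟨z, hz, _, ⟨i, rfl⟩, rfl⟩ := Set.mem_mul.1 hu
      obtain ⟨w, hw, _, ⟨j, rfl⟩, rfl⟩ := Set.mem_mul.1 hv
      have e1 : Commute z w := hab z hz w hw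
      have e2 : Commute z (a ^ j) := (show Commute z a from hcent z hz).zpow_right j
      have e3 : Commute (a ^ i) w := ((show Commute w a from hcent w hw).zpow_right i).symm
      have e4 : Commute (a ^ i) (a ^ j) := ((Commute.refl a).zpow_left i).zpow_right j
      exact ((e1.mul_right e2).mul_left (e3.mul_right e4)).eq
    rcases hHa a ha A le_sup_left (Subgroup.mem_sup_right (Subgroup.mem_zpowers a)) with h1 | ⟨h1, -⟩
    · obtain ⟨u, v, huv⟩ := hna
      exact huv (hAab u (h1 ▸ Subgroup.mem_top u) v (h1 ▸ Subgroup.mem_top v))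
    · exact hnoA ⟨A, hAn, hAab, h1⟩
  have hcomm : ∀ (g h : G) (μ : Z →* ℂˣ), cj g (cj h μ) = cj h (cj g μ) := by
    intro g h μ
    have hz : ⁅h, g⁆ ∈ Z := hGZ (by
      rw [commutator_def]
      exact Subgroup.commutator_mem_commutator (Subgroup.mem_top h) (Subgroup.mem_top g))
    rw [cj_cj, cj_cj, show h * g = ⁅h, g⁆ * (g * h) by rw [commutatorElement_def]; group, ← cj_cj,
      cj_mem_self hz]
  -- generation by two elements and `Z`
  have hgen : ∀ a b : G, a ∉ Z → ∀ μ : Z →* ℂˣ, cj a μ = μ → cj b μ ≠ μ →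
      ∀ g : G, ∃ z ∈ Z, ∃ i j : ℤ, g = z * a ^ i * b ^ j := by
    intro a b ha μ hμa hμb g
    set A := Z ⊔ Subgroup.zpowers a with hA
    haveI hAn : A.Normal := ⟨fun w hw g => by
      rw [show g * w * g⁻¹ = ⁅g, w⁆ * w by rw [commutatorElement_def]; group]
      refine A.mul_mem (Subgroup.mem_sup_left (hGZ ?_)) hw
      rw [commutator_def]
      exact Subgroup.commutator_mem_commutator (Subgroup.mem_top g) (Subgroup.mem_top w)⟩
    have hAle : A ≤ stabL μ := sup_le (le_stabL μ) (Subgroup.zpowers_le.2 hμa)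
    have htop : A ⊔ Subgroup.zpowers b = ⊤ := by
      rcases hHa a ha (A ⊔ Subgroup.zpowers b) (le_sup_left.trans le_sup_left)
        (Subgroup.mem_sup_left (Subgroup.mem_sup_right (Subgroup.mem_zpowers a))) with h1 | ⟨-, h1⟩
      · exact h1
      · refine absurd (hAle ?_) hμb
        rw [hA, ← h1]
        exact Subgroup.mem_sup_right (Subgroup.mem_zpowers b)
    have hg : g ∈ A ⊔ Subgroup.zpowers b := htop ▸ Subgroup.mem_top g
    rw [← SetLike.mem_coe, Subgroup.normal_mul] at hg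
    obtain ⟨w, hw, _, ⟨j, rfl⟩, rfl⟩ := Set.mem_mul.1 hg
    rw [SetLike.mem_coe, hA, ← SetLike.mem_coe, Subgroup.normal_mul] at hw
    obtain ⟨z, hz, _, ⟨i, rfl⟩, rfl⟩ := Set.mem_mul.1 hw
    exact ⟨z, hz, i, j, rfl⟩
  -- iterating a move with invariant quotient
  have hiter : ∀ (g : G) (v w : Z →* ℂˣ), cj g v = v * w → cj g w = w →
      ∀ n : ℤ, cj (g ^ n) v = v * w ^ n := by
    intro g v w hv hw n
    have hnat : ∀ k : ℕ, cj (g ^ k) v = v * w ^ k := by
      intro k
      induction k with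
      | zero => exact MonoidHom.ext fun z => by simp [cj_apply]
      | succ k ih =>
        have hwk : cj g (w ^ k) = w ^ k := by
          induction k with
          | zero => exact MonoidHom.ext fun z => by simp [cj_apply]
          | succ k _ =>
            rw [pow_succ (M := Z →* ℂˣ)] at *
            exact MonoidHom.ext fun z => by
              have e1 := DFunLike.congr_fun hw z
              simp only [cj_apply] at e1
              simp [cj_apply, e1]
        rw [pow_succ, ← cj_cj, ih, cj_mul, hv, hwk, pow_succ' (M := Z →* ℂˣ)]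
        exact mul_assoc (G := Z →* ℂˣ) v w (w ^ k)
    obtain ⟨k, rfl | rfl⟩ := n.eq_nat_or_neg
    · rw [zpow_natCast, zpow_natCast (G := Z →* ℂˣ)]; exact hnat k
    · rw [zpow_neg, zpow_natCast, zpow_neg (α := Z →* ℂˣ), zpow_natCast (G := Z →* ℂˣ)]
      have h2 := congrArg (cj (g ^ k)⁻¹) (hnat k)
      rw [cj_cj, mul_inv_cancel, cj_one, cj_mul] at h2
      have hwk : cj (g ^ k)⁻¹ (w ^ k) = w ^ k := by
        have h3 : g ∈ stabL w := hw
        exact MonoidHom.ext fun z => by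
          have h4 := DFunLike.congr_fun (mem_stabL.1 (inv_mem (pow_mem h3 k))) z
          simp [cj_apply] at h4 ⊢
          simp [h4]
      rw [hwk] at h2
      exact eq_mul_inv_of_mul_eq (G := Z →* ℂˣ) h2.symm
  -- the pair lemma
  have pair : ∀ (a b : G), a ∉ Z → b ∉ Z → ∀ v₁ v₂ : Z →* ℂˣ, cj a v₁ = v₁ → cj b v₁ ≠ v₁ →
      cj b v₂ = v₂ → cj a v₂ ≠ v₂ →
      (cj b v₁ * v₁⁻¹) ^ p = 1 ∧ ∀ g : G, ∃ n : ℤ, cj g v₂ = v₂ * (cj b v₁ * v₁⁻¹) ^ n := by
    intro a b ha hb v₁ v₂ h1a h1b h2b h2a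
    obtain ⟨c, hc, hcfix⟩ := hfix (v₁ * v₂)
    obtain ⟨z, hz, i, j, rfl⟩ := hgen a b ha v₁ h1a h1b c
    have hai : cj (a ^ i) v₁ = v₁ := mem_stabL.1 ((stabL v₁).zpow_mem h1a i)
    have hbj : cj (b ^ j) v₂ = v₂ := mem_stabL.1 ((stabL v₂).zpow_mem h2b j)
    have e1 : cj (z * a ^ i * b ^ j) v₁ = cj (b ^ j) v₁ := by
      rw [← cj_cj, ← cj_cj, cj_mem_self hz, hai]
    have e2 : cj (z * a ^ i * b ^ j) v₂ = cj (a ^ i) v₂ := by
      rw [← cj_cj, ← cj_cj, cj_mem_self hz, hcomm, hbj]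
    rw [cj_mul, e1, e2] at hcfix
    have hu : cj (b ^ j) v₁ * v₁⁻¹ = v₂ * (cj (a ^ i) v₂)⁻¹ := div_swap (A := Z →* ℂˣ) hcfix
    set u := cj (b ^ j) v₁ * v₁⁻¹ with hudef
    have hua : cj a u = u := by rw [hudef, cj_mul, cj_inv, hcomm, h1a]
    have hub : cj b u = u := by rw [hu, cj_mul, cj_inv, hcomm, h2b]
    have huall : ∀ g : G, cj g u = u := by
      intro g
      obtain ⟨z', hz', i', j', rfl⟩ := hgen a b ha v₁ h1a h1b g
      exact mem_stabL.1 ((stabL u).mul_mem ((stabL u).mul_mem (le_stabL u hz')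
        ((stabL u).zpow_mem hua i')) ((stabL u).zpow_mem hub j'))
    have hj : ¬ (p : ℤ) ∣ j := by
      rintro ⟨j', rfl⟩
      have hbz : b ^ ((p : ℤ) * j') ∈ Z := by
        rw [zpow_mul, zpow_natCast]; exact Z.zpow_mem (hexp b) j'
      have h3 : cj (a ^ i) v₂ = v₂ := by
        have h4 : v₂ * (cj (a ^ i) v₂)⁻¹ = 1 := by
          rw [← hu, hudef, cj_mem_self hbz]
          exact mul_inv_cancel (G := Z →* ℂˣ) v₁
        exact ((mul_inv_eq_one (G := Z →* ℂˣ)).1 h4).symm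
      have hi : (p : ℤ) ∣ i := by
        by_contra hi
        exact h2a (mem_stabL.1 (hdvd a ha (stabL v₂) (le_stabL v₂) i hi h3))
      obtain ⟨i', rfl⟩ := hi
      refine hc (Z.mul_mem (Z.mul_mem hz ?_) hbz)
      rw [zpow_mul, zpow_natCast]; exact Z.zpow_mem (hexp a) i'
    -- `b` is a power of `b ^ j` modulo `Z`
    obtain ⟨s, t, hst⟩ : ∃ s t : ℤ, s * j + t * p = 1 :=
      ((Nat.prime_iff_prime_int.1 hp).coprime_iff_not_dvd.2 hj).symm
    have hbj' : cj (b ^ j) v₁ = v₁ * u := by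
      rw [hudef]
      exact MonoidHom.ext fun z => by simp [mul_comm (v₁ z)]
    have hbv : cj b v₁ = v₁ * u ^ s := by
      have hbeq : b = (b ^ p) ^ t * (b ^ j) ^ s := by
        rw [← zpow_natCast, ← zpow_mul, ← zpow_mul, ← zpow_add, mul_comm (p : ℤ), mul_comm j,
          add_comm, hst, zpow_one]
      conv_lhs => rw [hbeq]
      rw [← cj_cj, cj_mem_self (Z.zpow_mem (hexp b) t), hiter (b ^ j) v₁ u hbj' (huall _) s]
    set w := cj b v₁ * v₁⁻¹ with hw
    have hwu : w = u ^ s := by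
      rw [hw, hbv]
      exact mul_inv_cancel_comm (G := Z →* ℂˣ) v₁ (u ^ s)
    have hbw : cj b v₁ = v₁ * w := by rw [hwu, hbv]
    have hwall : ∀ g : G, cj g w = w := by
      intro g
      refine MonoidHom.ext fun z => ?_
      have h4 := DFunLike.congr_fun (huall g) z
      simp only [cj_apply] at h4
      simp [hwu, cj_apply, h4]
    have hwp : w ^ p = 1 := by
      have h4 := hiter b v₁ w hbw (hwall b) p
      rw [zpow_natCast, cj_mem_self (hexp b), zpow_natCast (G := Z →* ℂˣ)] at h4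
      exact (left_eq_mul (M := Z →* ℂˣ)).1 h4
    refine ⟨hwp, fun g => ?_⟩
    have huw : u = w ^ j := by
      have h5 := hiter b v₁ w hbw (hwall b) j
      rw [hudef, h5]
      exact mul_inv_cancel_comm (G := Z →* ℂˣ) v₁ (w ^ j)
    have hav : cj (a ^ i) v₂ = v₂ * u⁻¹ := by
      rw [hu]
      exact (by
        refine MonoidHom.ext fun z => ?_
        simp [mul_comm] : cj (a ^ i) v₂ = v₂ * (v₂ * (cj (a ^ i) v₂)⁻¹)⁻¹)
    have hi : ¬ (p : ℤ) ∣ i := by
      rintro ⟨i', rfl⟩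
      have haz : a ^ ((p : ℤ) * i') ∈ Z := by
        rw [zpow_mul, zpow_natCast]; exact Z.zpow_mem (hexp a) i'
      rw [cj_mem_self haz] at hav
      have hu1 : u = 1 := (inv_eq_one (α := Z →* ℂˣ)).1 ((left_eq_mul (M := Z →* ℂˣ)).1 hav)
      refine h1b ?_
      rw [hbv, hu1]
      exact MonoidHom.ext fun z => by simp
    obtain ⟨s', t', hst'⟩ : ∃ s' t' : ℤ, s' * i + t' * p = 1 :=
      ((Nat.prime_iff_prime_int.1 hp).coprime_iff_not_dvd.2 hi).symm
    have ha2 : cj a v₂ = v₂ * (u⁻¹) ^ s' := by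
      have haeq : a = (a ^ p) ^ t' * (a ^ i) ^ s' := by
        rw [← zpow_natCast, ← zpow_mul, ← zpow_mul, ← zpow_add, mul_comm (p : ℤ), mul_comm i,
          add_comm, hst', zpow_one]
      conv_lhs => rw [haeq]
      rw [← cj_cj, cj_mem_self (Z.zpow_mem (hexp a) t'),
        hiter (a ^ i) v₂ u⁻¹ hav (by rw [cj_inv, huall]) s']
    obtain ⟨z', hz', i', j', rfl⟩ := hgen a b ha v₁ h1a h1b g
    refine ⟨(-j * s') * i', ?_⟩
    rw [← cj_cj, ← cj_cj, cj_mem_self hz', hcomm, mem_stabL.1 ((stabL v₂).zpow_mem h2b j'),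
      hiter a v₂ _ ha2 (mem_stabL.1 (by
        refine (fun h => h) ?_
        refine mem_stabL.2 (MonoidHom.ext fun z => ?_)
        have h4 := DFunLike.congr_fun (huall a) z
        simp only [cj_apply] at h4
        simp [cj_apply, h4])) i']
    congr 1
    rw [huw, ← zpow_neg (α := Z →* ℂˣ), ← zpow_mul (α := Z →* ℂˣ), ← zpow_mul (α := Z →* ℂˣ)]
    congr 1
    ring
  -- the pieces
  obtain ⟨u₀, v₀, -⟩ : ∃ (a : G) (μ : Z →* ℂˣ), cj a μ ≠ μ := by
    obtain ⟨x, hx⟩ : ∃ x : G, x ∉ Z := by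
      by_contra hcon
      push Not at hcon
      obtain ⟨a, b, hab'⟩ := hna
      exact hab' (hab a (hcon a) b (hcon b))
    obtain ⟨μ, hμ⟩ := hmove x hx
    exact ⟨x, μ, hμ⟩
  obtain ⟨x₀, hx₀⟩ : ∃ x : G, x ∉ Z := by
    by_contra hcon
    push Not at hcon
    obtain ⟨a, b, hab'⟩ := hna
    exact hab' (hab a (hcon a) b (hcon b))
  obtain ⟨v₁, hv₁⟩ := hmove x₀ hx₀
  obtain ⟨a, ha, h1a⟩ := hfix v₁
  obtain ⟨v₂, h2a⟩ := hmove a ha
  obtain ⟨b, hb, h2b⟩ := hfix v₂
  have h1b : cj b v₁ ≠ v₁ := by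
    intro h1b
    refine hv₁ ?_
    obtain ⟨z, hz, i, j, rfl⟩ := hgen b a hb v₂ h2b h2a x₀
    exact mem_stabL.1 ((stabL v₁).mul_mem ((stabL v₁).mul_mem (le_stabL v₁ hz)
      ((stabL v₁).zpow_mem h1b i)) ((stabL v₁).zpow_mem h1a j))
  obtain ⟨hwp, hw2⟩ := pair a b ha hb v₁ v₂ h1a h1b h2b h2a
  set w := cj b v₁ * v₁⁻¹ with hw
  have hw1 : w ≠ 1 := fun e => h1b ((mul_inv_eq_one (G := Z →* ℂˣ)).1 e)
  have hall : ∀ (μ : Z →* ℂˣ) (g : G), ∃ n : ℤ, cj g μ = μ * w ^ n := by
    intro μ g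
    by_cases hinv : ∀ g, cj g μ = μ
    · exact ⟨0, by rw [hinv]; exact MonoidHom.ext fun z => by simp⟩
    push Not at hinv
    obtain ⟨g₀, hg₀⟩ := hinv
    obtain ⟨c, hc, hcμ⟩ := hfix μ
    by_cases hc1 : cj c v₁ = v₁
    · -- same stabilizer as the first
      have hμb : cj b μ ≠ μ := by
        intro hbμ
        refine hg₀ ?_
        have hbc : cj b v₁ ≠ v₁ := h1b
        obtain ⟨z, hz, i, j, rfl⟩ := hgen c b hc v₁ hc1 hbc g₀
        exact mem_stabL.1 ((stabL μ).mul_mem ((stabL μ).mul_mem (le_stabL μ hz)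
          ((stabL μ).zpow_mem hcμ i)) ((stabL μ).zpow_mem hbμ j))
      have hv2c : cj c v₂ ≠ v₂ := by
        intro h
        obtain ⟨z, hz, i, j, ha'⟩ := hgen c b hc v₁ hc1 h1b a
        refine h2a (mem_stabL.1 ?_)
        rw [ha']
        exact (stabL v₂).mul_mem ((stabL v₂).mul_mem (le_stabL v₂ hz)
          ((stabL v₂).zpow_mem h i)) ((stabL v₂).zpow_mem h2b j)
      obtain ⟨hwc, hμall⟩ := pair b c hb hc v₂ μ h2b hv2c hcμ hμb
      obtain ⟨m, hm⟩ := hw2 c
      obtain ⟨n, hn⟩ := hμall g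
      refine ⟨m * n, ?_⟩
      rw [hn]
      congr 1
      rw [hm]
      rw [zpow_mul (α := Z →* ℂˣ)]
      congr 1
      exact mul_inv_cancel_comm (G := Z →* ℂˣ) v₂ (w ^ m)
    · have hμa : cj a μ ≠ μ := by
        intro h
        refine hg₀ ?_
        obtain ⟨z, hz, i, j, rfl⟩ := hgen a c ha v₁ h1a hc1 g₀
        exact mem_stabL.1 ((stabL μ).mul_mem ((stabL μ).mul_mem (le_stabL μ hz)
          ((stabL μ).zpow_mem h i)) ((stabL μ).zpow_mem hcμ j))
      obtain ⟨-, hμall⟩ := pair a c ha hc v₁ μ h1a hc1 hcμ hμa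
      obtain ⟨n, hn⟩ := hμall g
      obtain ⟨z, hz, i, j, hc'⟩ := hgen a b ha v₁ h1a h1b c
      refine ⟨j * n, ?_⟩
      rw [hn]
      congr 1
      have hwall : cj b w = w := by
        obtain ⟨m, hm⟩ := hw2 a
        have h5 : cj b (cj a v₂) = cj a v₂ := by rw [← hcomm, h2b]
        refine mem_stabL.1 ?_
        have hwpow : cj b (w ^ m) = w ^ m := by
          rw [hm, cj_mul, h2b] at h5
          exact mul_left_cancel (G := Z →* ℂˣ) h5
        by_cases hmp : (p : ℤ) ∣ m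
        · obtain ⟨m', rfl⟩ := hmp
          exfalso
          refine h2a ?_
          rw [hm, zpow_mul (α := Z →* ℂˣ), zpow_natCast (G := Z →* ℂˣ), hwp]
          exact MonoidHom.ext fun z => by simp
        obtain ⟨s, t, hst⟩ : ∃ s t : ℤ, s * m + t * p = 1 :=
          ((Nat.prime_iff_prime_int.1 hp).coprime_iff_not_dvd.2 hmp).symm
        have hwe : w = (w ^ m) ^ s := by
          rw [← zpow_mul (α := Z →* ℂˣ)]
          conv_lhs => rw [← zpow_one (G := Z →* ℂˣ) w, ← hst]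
          rw [zpow_add (G := Z →* ℂˣ), mul_comm t, zpow_mul (α := Z →* ℂˣ) w (p : ℤ),
            zpow_natCast (G := Z →* ℂˣ), hwp, mul_comm s]
          exact MonoidHom.ext fun z => by simp
        rw [hwe]
        exact mem_stabL.2 (MonoidHom.ext fun z => by
          have h4 := DFunLike.congr_fun hwpow z
          simp only [cj_apply] at h4
          simp [cj_apply, h4])
      rw [zpow_mul (α := Z →* ℂˣ)]
      congr 1
      rw [hc', ← cj_cj, ← cj_cj, cj_mem_self hz, mem_stabL.1 ((stabL v₁).zpow_mem h1a i),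
        hiter b v₁ w (by rw [hw]; exact MonoidHom.ext fun z => by simp) hwall j]
      exact mul_inv_cancel_comm (G := Z →* ℂˣ) v₁ (w ^ j)
  -- the centre is the kernel of `w`
  have hcen : Subgroup.center G = w.ker.map Z.subtype := by
    refine le_antisymm (fun x hx => ⟨⟨x, hcZ hx⟩, ?_, rfl⟩) ?_
    · rintro _ ⟨z, hz, rfl⟩
      rw [Subgroup.mem_center_iff]
      intro g
      have h1 : (⟨g * (z : G) * g⁻¹, hZn.conj_mem _ z.2 g⟩ : Z) * z⁻¹ = 1 := by
        refine eq_one_of_forall_linear (fun a b => Subtype.ext (hab a a.2 b b.2)) fun μ => ?_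
        obtain ⟨n, hn⟩ := hall μ g
        have h2 := DFunLike.congr_fun hn z
        rw [cj_apply] at h2
        rw [map_mul, map_inv, mul_inv_eq_one, h2]
        simp [MonoidHom.mem_ker.1 hz]
      have h2 : g * (z : G) * g⁻¹ * (z : G)⁻¹ = 1 := congrArg Subtype.val h1
      rw [mul_inv_eq_one, mul_inv_eq_iff_eq_mul] at h2
      exact h2
    · rw [SetLike.mem_coe, MonoidHom.mem_ker, hw, MonoidHom.mul_apply, cj_apply]
      rw [show (⟨b * ((⟨x, hcZ hx⟩ : Z) : G) * b⁻¹, hZn.conj_mem _ (hcZ hx) b⟩ : Z) = ⟨x, hcZ hx⟩ from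
        Subtype.ext (show b * x * b⁻¹ = x by rw [Subgroup.mem_center_iff.1 hx b, mul_inv_cancel_right])]
      simp
  have hrange : Nat.card w.range = p := by
    have hle : w.range ≤ rootsOfUnity p ℂ := by
      rintro _ ⟨z, rfl⟩
      rw [mem_rootsOfUnity, ← MonoidHom.pow_apply, hwp, MonoidHom.one_apply]
    haveI : NeZero p := ⟨hp.ne_zero⟩
    have hcard : Nat.card (rootsOfUnity p ℂ) = p :=
      Complex.card_rootsOfUnity p
    rcases (Nat.dvd_prime hp).1 (hcard ▸ Subgroup.card_dvd_of_le hle) with h | h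
    · exact absurd (MonoidHom.range_eq_bot_iff.1 (Subgroup.card_eq_one.1 h)) hw1
    · exact h
  rw [hcen, Subgroup.index_map_subtype, Subgroup.index_ker, hrange, hidx]
  ring

/-- Degrees divide the index of a normal abelian subgroup. -/
theorem deg_dvd_index {G : Type u} [Group G] [Finite G] (A : Subgroup G) [A.Normal]
    (hab : ∀ a ∈ A, ∀ b ∈ A, a * b = b * a) (χ : IrrCharacter G) :
    charDegree (χ : G → ℂ) ∣ A.index := by
  classical
  letI := Fintype.ofFinite G
  letI := Fintype.ofFinite A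
  obtain ⟨ψ, hψ⟩ := IsChar.exists_constituent' (IsChar.res (IsIrr.isCharacter χ.2) A)
    (IsIrr.one_ne_zero χ.2)
  obtain ⟨e, he, hed⟩ := Ext.ratio_dvd_index' χ.2 ψ.2 hψ
  rw [IsIrr.one_of_comm (fun a b => Subtype.ext (hab a a.2 b b.2)) ψ.2, mul_one] at he
  rwa [PIto.charDeg_eq he]

/-- The square of a degree is at most the index of the centre. -/
theorem sq_le_center_index {G : Type u} [Group G] [Finite G] (χ : IrrCharacter G) :
    charDegree (χ : G → ℂ) ^ 2 ≤ (Subgroup.center G).index := by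
  classical
  letI := Fintype.ofFinite G
  have hval : ∀ z ∈ Subgroup.center G,
      Complex.normSq ((χ : G → ℂ) z) = (charDegree (χ : G → ℂ) : ℝ) ^ 2 := by
    intro z hz
    obtain ⟨c, hc⟩ := Cfsg.Agent.Block.PCen.exists_center_scalar χ (a := z) fun y => by
      rw [commutatorElement_eq_one_iff_mul_comm.2 (Subgroup.mem_center_iff.1 hz y).symm]
    have hpow : ∀ k : ℕ, (χ : G → ℂ) (z ^ k) = c ^ k * (χ : G → ℂ) 1 := by
      intro k
      induction k with
      | zero => simp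
      | succ k ih => rw [pow_succ', hc, ih, pow_succ', mul_assoc]
    have h1 := hpow (Nat.card G)
    rw [pow_card_eq_one'] at h1
    have h2 := norm_eq_one_of_pow_eq_one' Nat.card_pos
      ((mul_eq_right₀ (IsIrr.one_ne_zero χ.2)).1 h1.symm)
    rw [← mul_one z, hc 1, PIto.charDeg_cast, map_mul, Complex.normSq_eq_norm_sq, h2,
      Complex.normSq_natCast]
    ring
  have h1 := classInner_self_irr χ.2
  rw [classInner, inv_mul_eq_iff_eq_mul₀ (Nat.cast_ne_zero.2 Nat.card_pos.ne'), mul_one] at h1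
  have h2 : ∑ g : G, Complex.normSq ((χ : G → ℂ) g) = (Nat.card G : ℝ) := by
    apply Complex.ofReal_injective
    push_cast
    rw [← h1]
    exact Finset.sum_congr rfl fun g _ => (Complex.mul_conj ((χ : G → ℂ) g)).symm
  have h3 : ∑ g ∈ Finset.univ.filter (· ∈ Subgroup.center G), Complex.normSq ((χ : G → ℂ) g) ≤
      (Nat.card G : ℝ) :=
    h2 ▸ Finset.sum_le_sum_of_subset_of_nonneg (Finset.subset_univ _) fun g _ _ => Complex.normSq_nonneg _
  rw [Finset.sum_congr rfl fun g hg => hval g (Finset.mem_filter.1 hg).2, Finset.sum_const,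
    nsmul_eq_mul, ← Fintype.card_subtype, ← Nat.card_eq_fintype_card,
    ← Subgroup.card_mul_index (Subgroup.center G)] at h3
  have h4 : Nat.card (Subgroup.center G) * charDegree (χ : G → ℂ) ^ 2 ≤
      Nat.card (Subgroup.center G) * (Subgroup.center G).index := by exact_mod_cast h3
  exact Nat.le_of_mul_le_mul_left h4 Nat.card_pos


/-- Let G be a non-abelian finite group and p a prime. Then the irreducible character degrees of G are exactly 1 and p if and only if either G has an abelian normal subgroup of index p or the centre of G has index p³. -/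
theorem result {G : Type*} [Group G] [Finite G] (hG : ∃ a b : G, a * b ≠ b * a) (p : ℕ) (hp : p.Prime) : ((∀ χ : Cfsg.IrrCharacter G, Cfsg.charDegree (χ : G → ℂ) = 1 ∨ Cfsg.charDegree (χ : G → ℂ) = p) ∧ ∃ χ : Cfsg.IrrCharacter G, Cfsg.charDegree (χ : G → ℂ) = p) ↔ ((∃ A : Subgroup G, A.Normal ∧ (∀ a ∈ A, ∀ b ∈ A, a * b = b * a) ∧ A.index = p) ∨ (Subgroup.center G).index = p ^ 3) := by
  constructor
  · rintro ⟨hcd, hm⟩
    rcases dichotomy hcd hm hp.ne_one with ⟨C, hC, hab, hi, -⟩ | ⟨r, e, hr, he, A, hA, hcen, -, k, hk⟩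
    · exact Or.inl ⟨C, hC, hab, hi⟩
    · refine or_iff_not_imp_left.2 fun hnoA => ?_
      haveI := hA
      exact index_center (nilpotent_of_central hr hcen hk) hp hcd hG hnoA
  · intro hor
    have hcd : ∀ χ : Cfsg.IrrCharacter G, Cfsg.charDegree (χ : G → ℂ) = 1 ∨
        Cfsg.charDegree (χ : G → ℂ) = p := by
      intro χ
      rcases hor with ⟨A, hA, hab, hi⟩ | hZ
      · haveI := hA
        exact (Nat.dvd_prime hp).1 (hi ▸ deg_dvd_index A hab χ)
      · have h1 := deg_dvd_index (Subgroup.center G)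
          (fun a ha b _ => (Subgroup.mem_center_iff.1 ha b).symm) χ
        rw [hZ] at h1
        obtain ⟨i, hi, hd⟩ := (Nat.dvd_prime_pow hp).1 h1
        have h2 := sq_le_center_index χ
        rw [hd, hZ, ← pow_mul] at h2
        have h3 := (Nat.pow_le_pow_iff_right hp.one_lt).1 h2
        rcases (show i = 0 ∨ i = 1 by omega) with rfl | rfl
        · exact Or.inl (by rw [hd, pow_zero])
        · exact Or.inr (by rw [hd, pow_one])
    refine ⟨hcd, by_contra fun hno => ?_⟩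
    push Not at hno
    obtain ⟨a, b, hab⟩ := hG
    exact hab (comm_of_linear (fun χ => (hcd χ).resolve_right (hno χ)) a b)

end Cfsg.Agent.S4459
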