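import Cfsg.Statements.S4460
import Cfsg.Agent.Lib.Block.ThreeDeg.Main

set_option autoImplicit false
open Cfsg

namespace Cfsg.Agent.S4460

/-- A finite group with exactly three distinct irreducible character degrees is solvable of derived length at most 3: its third derived subgroup is trivial. -/
theorem result {G : Type*} [Group G] [Finite G] (hcd : Nat.card {n : ℕ // ∃ χ : Cfsg.IrrCharacter G, Cfsg.charDegree (χ : G → ℂ) = n} = 3) : derivedSeries G 3 = ⊥ := by
  classical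
  cases nonempty_fintype G
  obtain ⟨d, e, f, -, -, -, hs⟩ := Set.ncard_eq_three.1 ((Nat.card_coe_set_eq
    {n : ℕ | ∃ χ : Cfsg.IrrCharacter G, Cfsg.charDegree (χ : G → ℂ) = n}).symm.trans hcd)
  have hmem : ∀ χ : Cfsg.IrrCharacter G, Cfsg.charDegree (χ : G → ℂ) = d ∨
      Cfsg.charDegree (χ : G → ℂ) = e ∨ Cfsg.charDegree (χ : G → ℂ) = f := fun χ => by
    have h : Cfsg.charDegree (χ : G → ℂ) ∈
        {n : ℕ | ∃ χ : Cfsg.IrrCharacter G, Cfsg.charDegree (χ : G → ℂ) = n} := ⟨χ, rfl⟩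
    rw [hs] at h
    simpa using h
  have h1 := hmem ⟨fun _ => 1, Cfsg.Agent.Char.isIrr_one⟩
  have hone : Cfsg.charDegree (fun _ : G => (1 : ℂ)) = 1 :=
    Cfsg.Agent.Char.PIto.charDeg_eq (by simp)
  simp only [hone] at h1
  obtain ⟨a, b, hab⟩ : ∃ a b : ℕ, Cfsg.Agent.Block.ThreeDeg.DegIn G a b := by
    rcases h1 with h | h | h
    · exact ⟨e, f, fun χ => by rcases hmem χ with g | g | g <;> simp [g, ← h]⟩
    · exact ⟨d, f, fun χ => by rcases hmem χ with g | g | g <;> simp [g, ← h]⟩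
    · exact ⟨d, e, fun χ => by rcases hmem χ with g | g | g <;> simp [g, ← h]⟩
  exact Cfsg.Agent.Block.ThreeDeg.main_aux _ G rfl a b hab

end Cfsg.Agent.S4460
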