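import Cfsg.Statements.S4464
import Cfsg.Agent.Lib.Char.SelfCentChars
import Cfsg.Agent.Lib.Char.PSolvableIto
import Cfsg.Agent.S1950
import Cfsg.Agent.Lib.Char.TwoTransConstituent
import Cfsg.Agent.Lib.Block.OrderPrimeBase
import Cfsg.Agent.Lib.Char.Integral

set_option autoImplicit false
open Cfsg

namespace Cfsg.Agent.S4464

open Cfsg.Agent.Block Cfsg.Agent.Char
open scoped ComplexConjugate

universe u

/-- The bound on all degrees passes to subgroups. -/
theorem deg_subgroup {G : Type u} [Group G] [Finite G] {p : ℕ}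
    (hb : ∀ χ : IrrCharacter G, charDegree (χ : G → ℂ) < p) (H : Subgroup G) (ψ : IrrCharacter H) :
    charDegree (ψ : H → ℂ) < p := by
  classical
  letI := Fintype.ofFinite G
  letI := Fintype.ofFinite H
  have hind : IsCharacter G (indFun H (ψ : H → ℂ)) := isCharacter_indFun H (irr_isChar ψ)
  have hne : indFun H (ψ : H → ℂ) 1 ≠ 0 := by
    rw [indFun_one_eq]
    exact mul_ne_zero (by exact_mod_cast Subgroup.index_ne_zero_of_finite) (IsIrr.one_ne_zero ψ.2)
  obtain ⟨χ, hχ⟩ := IsChar.exists_constituent' hind hne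
  rw [classInner_indFun H (ψ : H → ℂ) (IsIrr.classFun χ.2)] at hχ
  have hne' : classInner (fun y : H => (χ : G → ℂ) y) (ψ : H → ℂ) ≠ 0 := fun h0 => hχ (by
    have h1 := congrArg conj h0
    rw [map_zero] at h1
    rw [← h1, classInner, classInner, map_mul, map_inv₀, map_natCast, map_sum]
    congr 1
    exact Finset.sum_congr rfl fun y _ => by rw [map_mul, Complex.conj_conj, mul_comm])
  exact lt_of_le_of_lt (degree_le_of_constituent (IsChar.res (irr_isChar χ) H) ψ.2 hne'
    (charDeg_spec' χ) (charDeg_spec' ψ)) (hb χ)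

theorem deg_quotient {G : Type u} [Group G] [Finite G] {p : ℕ}
    (hb : ∀ χ : IrrCharacter G, charDegree (χ : G → ℂ) < p) (N : Subgroup G) [N.Normal]
    (ψ : IrrCharacter (G ⧸ N)) : charDegree (ψ : G ⧸ N → ℂ) < p := by
  have h := hb ⟨fun g => (ψ : G ⧸ N → ℂ) (QuotientGroup.mk' N g),
    IsIrr.comp_surjective (QuotientGroup.mk' N) (QuotientGroup.mk'_surjective N) ψ.2⟩
  refine lt_of_eq_of_lt (Nat.cast_injective (R := ℂ) ?_) h
  rw [← charDeg_spec' ψ]
  rw [← charDeg_spec' (⟨_, IsIrr.comp_surjective (QuotientGroup.mk' N)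
    (QuotientGroup.mk'_surjective N) ψ.2⟩ : IrrCharacter G)]
  exact congrArg (ψ : G ⧸ N → ℂ) (map_one (QuotientGroup.mk' N)).symm

theorem comm_of_pGroup {G : Type u} [Group G] [Finite G] {p : ℕ} (hp : p.Prime) (hG : IsPGroup p G)
    (hb : ∀ χ : IrrCharacter G, charDegree (χ : G → ℂ) < p) : ∀ a b : G, a * b = b * a := by
  intro a b
  haveI := Fact.mk hp
  rw [← commutatorElement_eq_one_iff_mul_comm]
  refine isConj_one_left.mp ((isConj_iff_irr _ 1).mpr fun χ => ?_)
  obtain ⟨k, hk⟩ := hG.exists_card_eq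
  obtain ⟨j, -, hj⟩ := (Nat.dvd_prime_pow hp).1 (hk ▸ charDeg_dvd χ)
  have hd : charDegree (χ : G → ℂ) = 1 := by
    rcases Nat.eq_zero_or_pos j with rfl | hjpos
    · rw [hj, pow_zero]
    · exact absurd (hb χ) (by rw [hj]; exact not_lt.2 (Nat.le_self_pow hjpos.ne' p))
  obtain ⟨l, hl⟩ := linearHom_of_isCharacter (irr_isChar χ) (by rw [charDeg_spec', hd, Nat.cast_one])
  rw [hl]
  simp [commutatorElement_def, mul_comm, mul_left_comm]

/-- An abelian subgroup whose nontrivial elements have small centralizers bounds the order. -/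
theorem order_bound {G : Type u} [Group G] [Finite G] {p : ℕ}
    (hb : ∀ χ : IrrCharacter G, charDegree (χ : G → ℂ) < p) (Y : Subgroup G)
    (hY : ∀ a b : Y, a * b = b * a) {D : ℕ}
    (hcent : ∀ b ∈ Y, b ≠ 1 → Nat.card (Subgroup.centralizer ({b} : Set G)) ≤ D) :
    Nat.card Y * Nat.card G ≤ (p - 1) * Nat.card G + (p - 1) * ((Nat.card Y - 1) * D) := by
  classical
  letI := Fintype.ofFinite G
  letI := Fintype.ofFinite Y
  have hS : ∀ χ : IrrCharacter G, ∃ S : ℕ, charDegree (χ : G → ℂ) ≤ S ∧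
      ∑ b : Y, (χ : G → ℂ) b * conj ((χ : G → ℂ) b) = (Nat.card Y : ℂ) * S := by
    intro χ
    obtain ⟨a, -, hd⟩ := IsChar.exists_decomp_inner (IsChar.res (irr_isChar χ) Y)
    refine ⟨∑ φ, a φ * a φ, ?_, ?_⟩
    · have h1 := congrFun hd 1
      rw [sum_irr_apply] at h1
      have h2 : (charDegree (χ : G → ℂ) : ℂ) = ((∑ φ, a φ : ℕ) : ℂ) := by
        rw [← charDeg_spec', Nat.cast_sum]
        refine h1.trans (Finset.sum_congr rfl fun φ _ => ?_)
        rw [IsIrr.one_of_comm hY φ.2, mul_one]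
      rw [Nat.cast_injective h2]
      exact Finset.sum_le_sum fun φ _ => Nat.le_mul_self _
    · have h1 : classInner (fun x : Y => (χ : G → ℂ) x) (fun x : Y => (χ : G → ℂ) x) =
          ((∑ φ, a φ * a φ : ℕ) : ℂ) := by
        rw [hd, classInner_sum_sum]
        simp
      rw [classInner, inv_mul_eq_iff_eq_mul₀ (Nat.cast_ne_zero.2 Nat.card_pos.ne')] at h1
      exact h1
  choose S hSd hSe using hS
  have htot : Nat.card Y * ∑ χ, S χ =
      ∑ b : Y, Nat.card (Subgroup.centralizer ({(b : G)} : Set G)) := by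
    have h1 : ((Nat.card Y * ∑ χ, S χ : ℕ) : ℂ) =
        ((∑ b : Y, Nat.card (Subgroup.centralizer ({(b : G)} : Set G)) : ℕ) : ℂ) := by
      push_cast
      rw [Finset.mul_sum, Finset.sum_congr rfl fun χ _ => (hSe χ).symm, Finset.sum_comm]
      refine Finset.sum_congr rfl fun b _ => ?_
      rw [sum_irr_mul_conj, if_pos (IsConj.refl _)]
    exact_mod_cast h1
  have hone : Nat.card (Subgroup.centralizer ({((1 : Y) : G)} : Set G)) = Nat.card G := by
    rw [show Subgroup.centralizer ({((1 : Y) : G)} : Set G) = ⊤ from eq_top_iff.mpr fun x _ => by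
      simp [Subgroup.mem_centralizer_singleton_iff], Subgroup.card_top]
  have hbound : Nat.card Y * ∑ χ, S χ ≤ Nat.card G + (Nat.card Y - 1) * D := by
    rw [htot, ← Finset.add_sum_erase _ _ (Finset.mem_univ (1 : Y)), hone]
    refine Nat.add_le_add_left ((Finset.sum_le_card_nsmul ((Finset.univ : Finset Y).erase 1)
      (fun b : Y => Nat.card (Subgroup.centralizer ({(b : G)} : Set G))) D fun b hb' =>
      hcent b b.2 fun e1 => Finset.ne_of_mem_erase hb' (Subtype.ext e1)).trans (le_of_eq ?_)) _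
    rw [Finset.card_erase_of_mem (Finset.mem_univ _), Finset.card_univ, smul_eq_mul,
      Nat.card_eq_fintype_card]
  have hG : Nat.card G ≤ (p - 1) * ∑ χ, S χ := by
    have h1 : ((Nat.card G : ℕ) : ℂ) = ((∑ χ : IrrCharacter G, charDegree (χ : G → ℂ) ^ 2 : ℕ) : ℂ) := by
      rw [← sum_degree_sq, Nat.cast_sum]
      exact Finset.sum_congr rfl fun χ _ => by rw [charDeg_spec', Nat.cast_pow]
    rw [Nat.cast_injective h1, Finset.mul_sum]
    refine Finset.sum_le_sum fun χ _ => ?_
    rw [sq]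
    exact Nat.mul_le_mul (by have := hb χ; omega) (hSd χ)
  calc Nat.card Y * Nat.card G ≤ Nat.card Y * ((p - 1) * ∑ χ, S χ) := Nat.mul_le_mul_left _ hG
    _ = (p - 1) * (Nat.card Y * ∑ χ, S χ) := by ring
    _ ≤ (p - 1) * (Nat.card G + (Nat.card Y - 1) * D) := Nat.mul_le_mul_left _ hbound
    _ = _ := by ring

/-- Simple groups: no self-centralizing element of order `p`. -/
theorem no_self_centralizing {G : Type u} [Group G] [Finite G] [IsSimpleGroup G]
    (hna : ¬ IsMulCommutative G) {p : ℕ} [Fact p.Prime] (hp2 : p ≠ 2) {x : G}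
    (h : SCP.Hyp p x) (hb : ∀ χ : IrrCharacter G, charDegree (χ : G → ℂ) < p) : False := by
  classical
  letI := Fintype.ofFinite G
  have hp : p.Prime := Fact.out
  have hp3 : 3 ≤ p := by have := hp.two_le; omega
  have he1 : SCP.e x ≠ 1 := fun he => by
    obtain ⟨K, hK, hKp, hKi⟩ := SCP.exists_complement h he
    rcases hK.eq_bot_or_eq_top with rfl | rfl
    · rw [Subgroup.index_bot] at hKi
      haveI : IsCyclic G := isCyclic_of_prime_card hKi
      letI : CommGroup G := IsCyclic.commGroup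
      exact hna ⟨⟨mul_comm⟩⟩
    · rw [Subgroup.index_top] at hKi
      exact hp.ne_one hKi.symm
  obtain ⟨X, Y, c, ε, hS⟩ := SCP.exists_chars h
  have hmem : ∀ χ, χ ∈ X ∪ Y := fun χ => by
    by_contra hχ
    have := Nat.le_of_dvd (charDeg_pos χ) (hS.dvd_deg χ hχ)
    have := hb χ
    omega
  set e := SCP.e x
  have hep : e ∣ p - 1 := SCP.e_dvd h
  have hele : e ≤ p - 1 := Nat.le_of_dvd (by omega) hep
  have he0 : e ≠ 0 := fun h0 => by rw [h0, zero_dvd_iff] at hep; omega
  have hd1 : charDegree ((trivialIrr G : IrrCharacter G) : G → ℂ) = 1 := by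
    have h1 := charDeg_spec' (trivialIrr G)
    rw [show ((trivialIrr G : IrrCharacter G) : G → ℂ) = fun _ => 1 from rfl] at h1 ⊢
    exact Nat.cast_injective (R := ℂ) (h1.symm.trans Nat.cast_one.symm)
  have hval1 : ∀ g : G, ((trivialIrr G : IrrCharacter G) : G → ℂ) g = 1 := fun g => rfl
  -- the constant rows have degree `p - 1`
  have hX : ∀ χ ∈ X, χ ≠ trivialIrr G → c χ = 1 ∧ charDegree (χ : G → ℂ) = p - 1 := by
    intro χ hχ hne
    have h1 := Int.modEq_iff_dvd.1 (hS.deg_X χ hχ)
    have h2 := OrdP.two_le_deg hna hne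
    have h3 := hb χ
    have h3z : (charDegree (χ : G → ℂ) : ℤ) < p := by exact_mod_cast h3
    have h2z : (2 : ℤ) ≤ charDegree (χ : G → ℂ) := by exact_mod_cast h2
    rcases hS.c_sign χ hχ with hc | hc
    · refine ⟨hc, ?_⟩
      rw [hc] at h1
      obtain ⟨k, hk⟩ := h1
      have hk1 : k = -1 := by
        have : k < 0 := by nlinarith
        have : -2 < k := by nlinarith
        omega
      rw [hk1] at hk
      omega
    · exfalso
      rw [hc] at h1
      obtain ⟨k, hk⟩ := h1
      have : k < 0 := by nlinarith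
      nlinarith
  have hYdeg : ∀ ψ ∈ Y, ∀ χ ∈ X, ((ε = 1 → charDegree (ψ : G → ℂ) = e) ∧
      (ε = -1 → charDegree (ψ : G → ℂ) = p - e)) := by
    intro ψ hψ χ _
    have h1 := Int.modEq_iff_dvd.1 (hS.deg_Y ψ hψ)
    have h3 := hb ψ
    have h4 := charDeg_pos ψ
    obtain ⟨k, hk⟩ := h1
    have h3z : (charDegree (ψ : G → ℂ) : ℤ) < p := by exact_mod_cast h3
    have h4z : (0 : ℤ) < charDegree (ψ : G → ℂ) := by exact_mod_cast h4
    have helez : (e : ℤ) < p := by
      have : e < p := by omega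
      exact_mod_cast this
    have he0z : (0 : ℤ) < e := by
      have : 0 < e := by omega
      exact_mod_cast this
    constructor <;> intro hε <;> rw [hε] at hk
    · have : k = 0 := by
        have : k < 1 := by nlinarith
        have : -1 < k := by nlinarith
        omega
      rw [this] at hk
      omega
    · have : k = -1 := by
        have : k < 0 := by nlinarith
        have : -2 < k := by nlinarith
        omega
      rw [this] at hk
      omega
  have hreg : ∀ ψ ∈ Y, ∑ χ ∈ X, c χ * (charDegree (χ : G → ℂ) : ℤ) +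
      ε * (charDegree (ψ : G → ℂ) : ℤ) = 0 := by
    intro ψ hψ
    have h1 := hS.regular ψ hψ 1 (by rw [orderOf_one]; exact hp.not_dvd_one)
    simp only [charDeg_spec'] at h1
    exact_mod_cast h1
  have hYne : Y.Nonempty := Finset.card_pos.1 (Nat.pos_of_ne_zero fun h0 => by
    have := hS.card_Y
    rw [h0, zero_mul] at this
    omega)
  obtain ⟨ψ, hψ⟩ := hYne
  obtain ⟨χ₀, hχ₀⟩ : X.Nonempty := Finset.card_pos.1 (by rw [hS.card_X]; omega)
  obtain ⟨hψ1, hψ2⟩ := hYdeg ψ hψ χ₀ hχ₀
  have hψle : (charDegree (ψ : G → ℂ) : ℤ) < p := by exact_mod_cast hb ψ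
  by_cases htX : trivialIrr G ∈ X
  · have hsum : ∑ χ ∈ X, c χ * (charDegree (χ : G → ℂ) : ℤ) = -1 + ((e : ℤ) - 1) * ((p : ℤ) - 1) := by
      have hct : c (trivialIrr G) = -1 := by
        have h1 := hS.value _ htX x h.ord
        rw [hval1] at h1
        rcases hS.c_sign _ htX with hc | hc
        · rw [hc] at h1; norm_num at h1
        · exact hc
      rw [← Finset.add_sum_erase _ _ htX, hct, hd1, Finset.sum_congr rfl fun χ hχ => by
        obtain ⟨h1, h2⟩ := hX χ (Finset.mem_of_mem_erase hχ) (Finset.ne_of_mem_erase hχ)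
        rw [h1, h2, one_mul], Finset.sum_const, Finset.card_erase_of_mem htX, hS.card_X, nsmul_eq_mul]
      push_cast [hp.one_le, Nat.one_le_iff_ne_zero.2 he0]
      ring
    have h1 := hreg ψ hψ
    rw [hsum] at h1
    have he2 : e = 2 ∧ ε = -1 := by
      have he2 : (2 : ℤ) ≤ e := by
        have : 2 ≤ e := by omega
        exact_mod_cast this
      rcases hS.ε_sign with hε | hε
      · exfalso
        rw [hε, hψ1 hε] at h1
        nlinarith [mul_le_mul (show (1 : ℤ) ≤ (e : ℤ) - 1 by linarith) (show (2 : ℤ) ≤ (p : ℤ) - 1 by omega)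
          (by norm_num) (by linarith)]
      · rw [hε, hψ2 hε, Nat.cast_sub (by omega)] at h1
        refine ⟨?_, hε⟩
        have h2 : ((e : ℤ) - 2) * (p : ℤ) = 0 := by linarith
        rcases mul_eq_zero.1 h2 with h3 | h3
        · omega
        · omega
    obtain ⟨he2, hε⟩ := he2
    have hYd : ∀ φ ∈ Y, charDegree (φ : G → ℂ) = p - 2 := fun φ hφ => by
      rw [(hYdeg φ hφ χ₀ hχ₀).2 hε, he2]
    have hp5 : p ≠ 3 := by
      intro hp3'
      have h2 := hYd ψ hψ
      rw [hp3'] at h2
      exact Finset.disjoint_left.1 hS.disj htX (OrdP.eq_trivial_of_deg hna h2 ▸ hψ)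
    obtain ⟨χ₁, hχ₁, hne₁⟩ := Finset.exists_mem_ne (s := X) (by rw [hS.card_X, he2]; norm_num)
      (trivialIrr G)
    have hdiv : p - 1 ∣ Nat.card G := (hX χ₁ hχ₁ hne₁).2 ▸ charDeg_dvd χ₁
    have hG : Nat.card G = 1 + (p - 1) ^ 2 + Y.card * (p - 2) ^ 2 := by
      apply Nat.cast_injective (R := ℂ)
      have eX : ∑ χ ∈ X.erase (trivialIrr G), (χ : G → ℂ) 1 ^ 2 = ((p - 1 : ℕ) : ℂ) ^ 2 := by
        rw [Finset.sum_congr rfl (g := fun _ => ((p - 1 : ℕ) : ℂ) ^ 2) fun χ hχ => by
          rw [charDeg_spec', (hX χ (Finset.mem_of_mem_erase hχ) (Finset.ne_of_mem_erase hχ)).2],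
          Finset.sum_const, Finset.card_erase_of_mem htX, hS.card_X, he2]
        simp
      have eY : ∑ χ ∈ Y, (χ : G → ℂ) 1 ^ 2 = (Y.card : ℂ) * ((p - 2 : ℕ) : ℂ) ^ 2 := by
        rw [Finset.sum_congr rfl (g := fun _ => ((p - 2 : ℕ) : ℂ) ^ 2) fun χ hχ => by
          rw [charDeg_spec', hYd χ hχ], Finset.sum_const, nsmul_eq_mul]
      rw [← sum_degree_sq, show (Finset.univ : Finset (IrrCharacter G)) = X ∪ Y from
        (Finset.eq_univ_iff_forall.2 hmem).symm, Finset.sum_union hS.disj,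
        ← Finset.add_sum_erase _ _ htX, hval1, eX, eY]
      push_cast
      ring
    have hYc := hS.card_Y
    rw [he2] at hYc
    have h2 : p - 1 ∣ 2 := by
      have h3 : p - 1 ∣ 2 * Nat.card G := Dvd.dvd.mul_left hdiv 2
      rw [hG, show 2 * (1 + (p - 1) ^ 2 + Y.card * (p - 2) ^ 2) =
        2 + (p - 1) * (2 * (p - 1) + (p - 2) ^ 2) by
          rw [Nat.mul_add, Nat.mul_add, ← mul_assoc, mul_comm 2 Y.card, hYc]; ring] at h3
      exact (Nat.dvd_add_left (dvd_mul_right _ _)).1 h3
    have := Nat.le_of_dvd two_pos h2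
    omega
  · have htY : trivialIrr G ∈ Y := (Finset.mem_union.1 (hmem _)).resolve_left htX
    obtain ⟨h1', h2'⟩ := hYdeg _ htY χ₀ hχ₀
    rw [hd1] at h1' h2'
    rcases hS.ε_sign with hε | hε
    · exact he1 (h1' hε).symm
    have h1 := hreg _ htY
    rw [hd1, hε, Finset.sum_congr rfl fun χ hχ => by
      obtain ⟨h1, h2⟩ := hX χ hχ fun e1 => htX (e1 ▸ hχ)
      rw [h1, h2, one_mul], Finset.sum_const, hS.card_X, nsmul_eq_mul] at h1
    have : ((e : ℤ) * ((p - 1 : ℕ) : ℤ)) = 1 := by push_cast at h1 ⊢; linarith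
    have h3 : e * (p - 1) = 1 := by exact_mod_cast this
    exact he1 (Nat.eq_one_of_mul_eq_one_right h3)

/-- With `p + 1` Sylow subgroups some degree is `p`. -/
theorem not_succ {G : Type u} [Group G] [Finite G] {p : ℕ} [Fact p.Prime]
    (hb : ∀ χ : IrrCharacter G, charDegree (χ : G → ℂ) < p) (hn : Nat.card (Sylow p G) = p + 1) :
    False := by
  classical
  letI := Fintype.ofFinite G
  letI := Fintype.ofFinite (Sylow p G)
  have hp : p.Prime := Fact.out
  obtain ⟨P₀⟩ : Nonempty (Sylow p G) := Sylow.nonempty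
  have key : ∀ Q Q' : Sylow p G, Q ≠ P₀ → Q' ≠ P₀ → ∃ g : G, g • P₀ = P₀ ∧ g • Q = Q' := by
    intro Q Q' hQ hQ'
    have hfix : ∀ u : (P₀ : Subgroup G), (u : G) • P₀ = P₀ := fun u =>
      Sylow.smul_eq_iff_mem_normalizer.2 (Subgroup.le_normalizer u.2)
    let H : Subgroup G := (P₀ : Subgroup G)
    -- orbit of `Q` under the Sylow subgroup
    set O := MulAction.orbit H Q with hO
    have hstab : ∀ R : Sylow p G, (∀ u : H, u • R = R) → R = P₀ := by
      intro R hR
      have hle : (P₀ : Subgroup G) ≤ Subgroup.normalizer ((R : Subgroup G) : Set G) := fun u hu =>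
        Sylow.smul_eq_iff_mem_normalizer.1 (hR ⟨u, hu⟩)
      obtain ⟨c, hc⟩ := MulAction.exists_smul_eq (Subgroup.normalizer ((R : Subgroup G) : Set G))
        (R.subtype Subgroup.le_normalizer) (P₀.subtype hle)
      haveI hn : (R.subtype (Subgroup.le_normalizer (H := (R : Subgroup G)))).toSubgroup.Normal := by
        rw [Sylow.coe_subtype]
        exact Subgroup.normal_in_normalizer
      rw [Sylow.smul_eq_of_normal] at hc
      exact Sylow.subtype_injective hc
    obtain ⟨k, hk⟩ : ∃ k : ℕ, Nat.card O = p ^ k := P₀.isPGroup'.card_orbit Q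
    have hk0 : k ≠ 0 := by
      rintro rfl
      rw [pow_zero, Nat.card_eq_one_iff_unique] at hk
      obtain ⟨hsub, -⟩ := hk
      exact hQ (hstab Q fun u => congrArg Subtype.val (hsub.elim
        (⟨u • Q, MulAction.mem_orbit Q u⟩ : O) ⟨Q, MulAction.mem_orbit_self Q⟩))
    have hOeq : O = ({P₀}ᶜ : Set (Sylow p G)) := by
      refine Set.eq_of_subset_of_ncard_le ?_ ?_ (Set.toFinite _)
      · rintro _ ⟨u, rfl⟩ (hu : u • Q = P₀)
        refine hQ ?_
        have := congrArg (fun R => u⁻¹ • R) hu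
        simp only [inv_smul_smul] at this
        rw [this]
        exact hfix u⁻¹
      · rw [← Nat.card_coe_set_eq O, hk, Set.ncard_compl, Set.ncard_singleton, hn]
        simpa using Nat.le_self_pow hk0 p
    have hm : Q' ∈ O := by rw [hOeq]; exact hQ'
    obtain ⟨u, hu⟩ := hm
    exact ⟨u, hfix u, hu⟩
  have h2 : MulAction.IsMultiplyPretransitive G (Sylow p G) 2 := by
    rw [MulAction.is_two_pretransitive_iff]
    intro a b c d hab hcd
    obtain ⟨g₁, hg₁⟩ := MulAction.exists_smul_eq G a P₀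
    obtain ⟨g₂, hg₂⟩ := MulAction.exists_smul_eq G c P₀
    obtain ⟨u, hu1, hu2⟩ := key (g₁ • b) (g₂ • d)
      (fun e1 => hab (smul_left_cancel g₁ (hg₁.trans e1.symm)))
      (fun e1 => hcd (smul_left_cancel g₂ (hg₂.trans e1.symm)))
    exact ⟨g₂⁻¹ * (u * g₁), by rw [mul_smul, mul_smul, hg₁, hu1, ← hg₂, inv_smul_smul],
      by rw [mul_smul, mul_smul, hu2, inv_smul_smul]⟩
  have hc : Fintype.card (Sylow p G) = p + 1 := by rw [← Nat.card_eq_fintype_card, hn]
  obtain ⟨hdeg, χ, hχ, hm⟩ := two_trans_constituent h2 (by rw [hc]; have := hp.two_le; omega)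
  have h1 := hdeg χ hχ hm
  rw [hc, charDeg_spec'] at h1
  have : charDegree (χ : G → ℂ) + 1 = p + 1 := by exact_mod_cast h1
  have := hb χ
  omega

/-- No non-abelian simple group has all degrees below a prime divisor. -/
theorem simple_case {G : Type u} [Group G] [Finite G] [IsSimpleGroup G] (hna : ¬ IsMulCommutative G)
    {p : ℕ} [Fact p.Prime] (hpG : p ∣ Nat.card G)
    (hb : ∀ χ : IrrCharacter G, charDegree (χ : G → ℂ) < p)
    (hsub : ∀ H : Subgroup G, H ≠ ⊤ → ∀ Q : Sylow p H, (Q : Subgroup H).Normal) : False := by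
  classical
  letI := Fintype.ofFinite G
  have hp : p.Prime := Fact.out
  have hp2 : p ≠ 2 := by
    rintro rfl
    obtain ⟨χ, hχ⟩ : ∃ χ : IrrCharacter G, χ ≠ trivialIrr G := by
      by_contra hcon
      push Not at hcon
      have h1 : Nat.card G = 1 := by
        apply Nat.cast_injective (R := ℂ)
        rw [← sum_degree_sq, Finset.sum_eq_single (trivialIrr G) (fun χ _ hne => absurd (hcon χ) hne)
          (fun h => absurd (Finset.mem_univ _) h)]
        simp [trivialIrr]
      rw [h1] at hpG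
      exact hp.not_dvd_one hpG
    have := OrdP.two_le_deg hna hχ
    have := hb χ
    omega
  have hp3 : 3 ≤ p := by have := hp.two_le; omega
  obtain ⟨P⟩ : Nonempty (Sylow p G) := Sylow.nonempty
  set N := Subgroup.normalizer ((P : Subgroup G) : Set G)
  have hP1 : (P : Subgroup G) ≠ ⊥ := P.ne_bot_of_dvd_card hpG
  have hNtop : N ≠ ⊤ := fun h => by
    rcases (Subgroup.normalizer_eq_top_iff.1 h).eq_bot_or_eq_top with h1 | h1
    · exact hP1 h1
    · refine hna ⟨⟨fun a b => ?_⟩⟩
      exact comm_of_pGroup hp (fun g => (P.isPGroup' ⟨g, h1.symm ▸ Subgroup.mem_top g⟩).imp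
        fun k hk => congrArg Subtype.val hk) hb a b
  have hPab : ∀ a b : (P : Subgroup G), a * b = b * a :=
    comm_of_pGroup hp P.isPGroup' (deg_subgroup hb _)
  have hn1 : N.index ≠ 1 := fun h => hNtop (Subgroup.index_eq_one.1 h)
  have hidx : N.index = Nat.card (Sylow p G) := P.card_eq_index_normalizer.symm
  have hmod : N.index % p = 1 := by
    rw [hidx, card_sylow_modEq_one p G]
    exact Nat.mod_eq_of_lt hp.one_lt
  have hGN : Nat.card G = Nat.card N * N.index := (Subgroup.card_mul_index N).symm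
  have hNpos : 0 < Nat.card N := Nat.card_pos
  -- proper subgroups containing `P` lie in `N`
  have hle : ∀ H : Subgroup G, H ≠ ⊤ → (P : Subgroup G) ≤ H → H ≤ N := by
    intro H hH hPH g hg
    have hn := hsub H hH (P.subtype hPH)
    rw [Sylow.coe_subtype] at hn
    exact (Subgroup.normal_subgroupOf_iff_le_normalizer hPH).1 hn hg
  have hcenter : Subgroup.center G = ⊥ := by
    rcases (inferInstance : (Subgroup.center G).Normal).eq_bot_or_eq_top with h | h
    · exact h
    · exact absurd ⟨⟨fun a b => (Subgroup.mem_center_iff.1 (h.symm ▸ Subgroup.mem_top b) a)⟩⟩ hna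
  have hcentP : ∀ a : G, a ∈ (P : Subgroup G) → a ≠ 1 →
      (P : Subgroup G) ≤ Subgroup.centralizer ({a} : Set G) ∧
      Subgroup.centralizer ({a} : Set G) ≤ N := by
    intro a ha ha1
    have h1 : (P : Subgroup G) ≤ Subgroup.centralizer ({a} : Set G) := fun u hu =>
      Subgroup.mem_centralizer_singleton_iff.2 (congrArg Subtype.val (hPab ⟨u, hu⟩ ⟨a, ha⟩))
    refine ⟨h1, hle _ (fun htop => ha1 ?_) h1⟩
    rw [← Subgroup.mem_bot, ← hcenter, Subgroup.mem_center_iff]
    intro g
    exact Subgroup.mem_centralizer_singleton_iff.1 (htop.symm ▸ Subgroup.mem_top g)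
  have hfin : ∀ (Y : Subgroup G), (∀ a b : Y, a * b = b * a) →
      (∀ b ∈ Y, b ≠ 1 → Subgroup.centralizer ({b} : Set G) ≤ N) → 2 * p ≤ Nat.card Y → False := by
    intro Y hY hc hM
    have h := order_bound hb Y hY (D := Nat.card N)
      fun b hb1 hb2 => Subgroup.card_le_of_le (hc b hb1 hb2)
    rw [hGN] at h
    have h1 : Nat.card Y * N.index ≤ (p - 1) * N.index + (p - 1) * (Nat.card Y - 1) := by
      refine Nat.le_of_mul_le_mul_left ?_ hNpos
      calc Nat.card N * (Nat.card Y * N.index) = Nat.card Y * (Nat.card N * N.index) := by ring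
        _ ≤ _ := h
        _ = Nat.card N * ((p - 1) * N.index + (p - 1) * (Nat.card Y - 1)) := by ring
    obtain ⟨q, hq⟩ : ∃ q, N.index = 1 + p * q := ⟨N.index / p, by
      conv_lhs => rw [← Nat.mod_add_div N.index p, hmod]⟩
    have hq1 : q = 1 := by
      rcases Nat.lt_or_ge q 2 with hlt | hge
      · interval_cases q
        · exact absurd (by omega) hn1
        · rfl
      · exfalso
        have hidx2 : 2 * p < N.index := by nlinarith
        obtain ⟨r, hr⟩ := Nat.exists_eq_add_of_le (show p ≤ Nat.card Y by omega)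
        obtain ⟨p', rfl⟩ : ∃ p', p = p' + 1 := ⟨p - 1, by omega⟩
        rw [hr] at h1 hM
        simp only [Nat.add_sub_cancel, show p' + 1 + r - 1 = p' + r by omega] at h1
        nlinarith
    rw [hq1, mul_one, add_comm] at hq
    exact not_succ hb (hidx.symm.trans hq)
  obtain ⟨k, hk⟩ := P.isPGroup'.exists_card_eq
  rcases Nat.lt_or_ge k 2 with hk2 | hk2
  · have hk1 : k = 1 := by
      rcases Nat.eq_zero_or_pos k with rfl | h
      · exact absurd (Subgroup.card_eq_one.1 (by rw [hk, pow_zero])) hP1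
      · omega
    rw [hk1, pow_one] at hk
    obtain ⟨⟨a, ha⟩, hao⟩ := exists_prime_orderOf_dvd_card' (G := (P : Subgroup G)) p (by rw [hk])
    rw [Subgroup.orderOf_mk] at hao
    have ha1 : a ≠ 1 := fun e1 => by rw [e1, orderOf_one] at hao; exact hp.ne_one hao.symm
    obtain ⟨hPC, hCN⟩ := hcentP a ha ha1
    by_cases hCP : Subgroup.centralizer ({a} : Set G) = (P : Subgroup G)
    · refine no_self_centralizing hna hp2 (x := a) ⟨hao, ?_⟩ hb
      rw [hCP]
      exact (Subgroup.eq_of_le_of_card_ge (Subgroup.zpowers_le.2 ha)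
        (by rw [hk, Nat.card_zpowers, hao])).symm
    set C := Subgroup.centralizer ({a} : Set G) with hC
    obtain ⟨y, hyC, hy1, hyp⟩ : ∃ y ∈ C, y ≠ 1 ∧ ¬ p ∣ orderOf y := by
      have hrel : (P : Subgroup G).relIndex C ≠ 1 := fun h1 =>
        hCP (le_antisymm (Subgroup.relIndex_eq_one.1 h1) hPC)
      obtain ⟨r, hr, hrd⟩ := Nat.exists_prime_and_dvd hrel
      haveI := Fact.mk hr
      have hrC : r ∣ Nat.card C := hrd.trans (Subgroup.relIndex_dvd_card _ _)
      obtain ⟨⟨y, hy⟩, hyo⟩ := exists_prime_orderOf_dvd_card' (G := C) r hrC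
      rw [Subgroup.orderOf_mk] at hyo
      have hrp : r ≠ p := fun e1 => by
        subst e1
        have h2 : ¬ r ∣ (P : Subgroup G).index := P.not_dvd_index
        exact h2 (hrd.trans (Subgroup.relIndex_dvd_index_of_le hPC))
      exact ⟨y, hy, fun e1 => by rw [e1, orderOf_one] at hyo; exact hr.ne_one hyo.symm,
        fun hd => hrp ((Nat.prime_dvd_prime_iff_eq hp hr).1 (hyo ▸ hd)).symm⟩
    have hcomm : Commute a y := (Subgroup.mem_centralizer_singleton_iff.1 hyC).symm
    set s := orderOf y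
    have hs1 : s ≠ 1 := fun e1 => hy1 (orderOf_eq_one_iff.1 e1)
    have hord : orderOf (a * y) = p * s := by
      rw [hcomm.orderOf_mul_eq_mul_orderOf_of_coprime (by
        rw [hao]; exact hp.coprime_iff_not_dvd.2 hyp), hao]
    refine hfin (Subgroup.zpowers (a * y))
      (fun u v => (Subgroup.zpowers_isMulCommutative (a * y)).is_comm.comm u v) (fun b hb hb1 => ?_) ?_
    · obtain ⟨j, rfl⟩ := (isOfFinOrder_of_finite (a * y)).mem_powers_iff_mem_zpowers.2 hb
      simp only at hb1 ⊢
      intro g hg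
      rw [Subgroup.mem_centralizer_singleton_iff] at hg
      by_cases hpj : p ∣ j
      · -- the power lies in the `p'`-part
        obtain ⟨i, rfl⟩ := hpj
        have e1 : (a * y) ^ (p * i) = y ^ (p * i) := by
          rw [hcomm.mul_pow, pow_mul, ← hao, pow_orderOf_eq_one, one_pow, one_mul]
        rw [e1] at hg hb1
        set z := y ^ (p * i)
        have hPz : (P : Subgroup G) ≤ Subgroup.centralizer ({z} : Set G) := by
          intro u hu
          rw [Subgroup.mem_centralizer_singleton_iff]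
          obtain ⟨i', rfl⟩ : u ∈ Subgroup.zpowers a := by
            rw [Subgroup.eq_of_le_of_card_ge (Subgroup.zpowers_le.2 ha)
              (by rw [hk, Nat.card_zpowers, hao])]
            exact hu
          exact ((hcomm.zpow_left i').pow_right _).eq
        refine hle _ (fun htop => hb1 ?_) hPz (Subgroup.mem_centralizer_singleton_iff.2 hg)
        rw [← Subgroup.mem_bot, ← hcenter, Subgroup.mem_center_iff]
        intro g'
        have h5 : g' ∈ Subgroup.centralizer ({z} : Set G) := by rw [htop]; exact Subgroup.mem_top g'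
        exact Subgroup.mem_centralizer_singleton_iff.1 h5
      · -- a further power is a generator of the Sylow subgroup
        have e1 : ((a * y) ^ j) ^ s = a ^ (j * s) := by
          rw [← pow_mul, hcomm.mul_pow, mul_comm j s, pow_mul y, pow_orderOf_eq_one, one_pow, mul_one]
        refine (hcentP (a ^ (j * s)) (Subgroup.pow_mem _ ha _) fun e2 => ?_).2
          (Subgroup.mem_centralizer_singleton_iff.2 ?_)
        · rw [← orderOf_dvd_iff_pow_eq_one, hao] at e2
          exact (hp.dvd_mul.1 e2).elim hpj fun h2 => hyp h2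
        · rw [← e1]
          exact ((show Commute g ((a * y) ^ j) from hg).pow_right s).eq
    · rw [Nat.card_zpowers, hord, mul_comm 2 p]
      exact Nat.mul_le_mul_left p (by have := orderOf_pos y; omega)
  · refine hfin (P : Subgroup G) hPab (fun b hb hb1 => (hcentP b hb hb1).2) ?_
    rw [hk]
    calc 2 * p ≤ p * p := Nat.mul_le_mul_right p hp.two_le
      _ = p ^ 2 := (sq p).symm
      _ ≤ p ^ k := Nat.pow_le_pow_right hp.pos hk2

/-- The bound gives `p`-solubility. -/
theorem pSolvable {p : ℕ} [Fact p.Prime] : ∀ (n : ℕ) (G : Type u) [Group G] [Finite G],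
    Nat.card G = n → (∀ χ : IrrCharacter G, charDegree (χ : G → ℂ) < p) → IsPSolvable p G := by
  intro n
  induction n using Nat.strong_induction_on with
  | _ n ih =>
  intro G _ _ hn hb
  have hp : p.Prime := Fact.out
  have hsub : ∀ H : Subgroup G, H ≠ ⊤ → ∀ Q : Sylow p H, (Q : Subgroup H).Normal := fun H hH Q =>
    (PIto.ito_converse _ H rfl (ih _ (hn ▸ Cfsg.Agent.Grp.card_lt_of_ne_top hH) H rfl (deg_subgroup hb H))
      (fun χ hd => absurd (Nat.le_of_dvd (charDeg_pos χ) hd) (not_le.2 (deg_subgroup hb H χ))) Q).1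
  by_cases hd : p ∣ Nat.card G
  swap
  · exact Cfsg.Agent.S1950.isPSolvable_of_card G (Or.inr (hp.coprime_iff_not_dvd.2 hd).symm)
  by_cases hsimple : IsSimpleGroup G
  · by_cases hna : IsMulCommutative G
    · refine Cfsg.Agent.S1950.isPSolvable_of_card G (Or.inl ⟨1, ?_⟩)
      have hc := Cfsg.Agent.Char.card_prime_of_simple_of_comm (G := G) fun a b => hna.is_comm.comm a b
      rw [pow_one]
      exact ((Nat.prime_dvd_prime_iff_eq hp hc).1 hd).symm
    · exact (simple_case hna hd hb hsub).elim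
  haveI : Nontrivial G := by
    rw [← Finite.one_lt_card_iff_nontrivial]
    exact lt_of_lt_of_le hp.one_lt (Nat.le_of_dvd Nat.card_pos hd)
  obtain ⟨M, hM, hM1, hMtop⟩ : ∃ M : Subgroup G, M.Normal ∧ M ≠ ⊥ ∧ M ≠ ⊤ := by
    by_contra hcon
    push Not at hcon
    exact hsimple ⟨fun H hH => or_iff_not_imp_left.2 (hcon H hH)⟩
  haveI := hM
  obtain ⟨Q⟩ : Nonempty (Sylow p M) := Sylow.nonempty
  haveI hQ := hsub M hMtop Q
  haveI : (Q : Subgroup M).Characteristic := Sylow.characteristic_of_normal Q hQ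
  set Q' := (Q : Subgroup M).map M.subtype
  haveI : Q'.Normal := Cfsg.Agent.Grp.normal_of_characteristic_map (N := M) (Q : Subgroup M)
  have hQc : Nat.card Q' = Nat.card (Q : Subgroup M) := Subgroup.card_map_of_injective M.subtype_injective
  by_cases hQ1 : Q' = ⊥
  · refine Cfsg.Agent.S1950.isPSolvable_ext M (Or.inr ?_)
      (ih _ (hn ▸ Cfsg.Agent.Grp.card_quotient_lt hM1) _ rfl (deg_quotient hb M))
    have h1 : ¬ p ∣ (Q : Subgroup M).index := Q.not_dvd_index
    have hQb : Nat.card (Q : Subgroup M) = 1 := by rw [← hQc, hQ1, Subgroup.card_bot]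
    rw [← (Q : Subgroup M).card_mul_index, hQb, one_mul]
    exact (hp.coprime_iff_not_dvd.2 h1).symm
  · obtain ⟨j, hj⟩ := Q.isPGroup'.exists_card_eq
    exact Cfsg.Agent.S1950.isPSolvable_ext Q' (Or.inl ⟨j, by rw [hQc, hj]⟩)
      (ih _ (hn ▸ Cfsg.Agent.Grp.card_quotient_lt hQ1) _ rfl (deg_quotient hb Q'))


/-- Let p be a prime and G a finite group all of whose irreducible character degrees are less than p. Then G has a normal abelian Sylow p-subgroup. -/
theorem result {G : Type*} [Group G] [Finite G] (p : ℕ) (hp : p.Prime) (hb : ∀ χ : Cfsg.IrrCharacter G, Cfsg.charDegree (χ : G → ℂ) < p) : ∃ P : Subgroup G, P.Normal ∧ (∀ x ∈ P, ∀ y ∈ P, x * y = y * x) ∧ IsPGroup p P ∧ ¬ p ∣ P.index := by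
  haveI := Fact.mk hp
  obtain ⟨P⟩ : Nonempty (Sylow p G) := Sylow.nonempty
  obtain ⟨hn, hab⟩ := Cfsg.Agent.Char.PIto.ito_converse _ G rfl (pSolvable _ G rfl hb)
    (fun χ hd => absurd (Nat.le_of_dvd (charDeg_pos χ) hd) (not_le.2 (hb χ))) P
  exact ⟨P, hn, hab, P.isPGroup', P.not_dvd_index⟩

end Cfsg.Agent.S4464
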