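import Cfsg.Statements.S4470
import Cfsg.Agent.Lib.Char.UnitaryArc

set_option autoImplicit false
open Cfsg

namespace Cfsg.Agent.S4470

open Cfsg.Agent.Char Cfsg.Agent.Char.Arc

/-- Let the finite group G have a faithful character of degree n. Then G has an abelian normal subgroup A such that every abelian subgroup H of G satisfies [H : H ⊓ A] ≤ 12^n. -/
theorem result {G : Type*} [Group G] [Finite G] (χ : G → ℂ) (hχ : Cfsg.IsCharacter G χ) (hfaith : ∀ g : G, χ g = χ 1 → g = 1) (n : ℕ) (hn : Cfsg.charDegree χ = n) : ∃ A : Subgroup G, A.Normal ∧ (∀ x ∈ A, ∀ y ∈ A, x * y = y * x) ∧ ∀ H : Subgroup G, (∀ x ∈ H, ∀ y ∈ H, x * y = y * x) → (A.subgroupOf H).index ≤ 12 ^ n := by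
  classical
  haveI := Fintype.ofFinite G
  obtain ⟨k, ρ, rfl⟩ := hχ
  have hkn : k = n := by
    simpa [charDegree, Representation.char_one, Module.finrank_fin_fun] using hn
  subst hkn
  have hinj : Function.Injective ρ := by
    show Function.Injective (ρ : G →* _)
    rw [injective_iff_map_eq_one]
    intro g hg
    refine hfaith g ?_
    rw [Representation.char_one, character_eq_finrank_iff, hg, Module.End.one_eq_id]
  set c : ℝ := √3 / 2 with hc
  set S : Set G := {g | ∃ r : ℝ, 0 ≤ r ∧ r < 1 / 2 ∧ Near ρ r c g} with hS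
  have hcomm : ∀ x ∈ S, ∀ y ∈ S, Commute x y := by
    rintro x ⟨r, hr0, hr, hx⟩ y ⟨s, hs0, hs, hy⟩
    refine commute_of_near hinj hr0 (by linarith) (by positivity) ?_ hx (near_one_of_near hy)
    have h3 : √3 < 2 := by
      rw [Real.sqrt_lt' two_pos]; norm_num
    have h1 : (1 : ℝ) ≤ √3 := Real.one_le_sqrt.mpr (by norm_num)
    rw [abs_of_neg (by rw [hc]; linarith), hc]
    linarith
  set A := Subgroup.closure S with hA
  have hab : A ≤ Subgroup.centralizer (A : Set G) := by
    have h1 : A ≤ Subgroup.centralizer S := (Subgroup.closure_le _).mpr fun x hx =>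
      Subgroup.mem_centralizer_iff.mpr fun y hy => (hcomm y hy x hx).eq
    refine (Subgroup.closure_le _).mpr fun x hx => Subgroup.mem_centralizer_iff.mpr fun a ha => ?_
    exact (Subgroup.mem_centralizer_iff.mp (h1 ha) x hx).symm
  refine ⟨A, ⟨fun a ha t => ?_⟩, fun x hx y hy => (Subgroup.mem_centralizer_iff.mp (hab hy) x hx),
    fun H hH => ?_⟩
  · have hle : A.map (MulAut.conj t).toMonoidHom ≤ A := by
      rw [hA, MonoidHom.map_closure]
      refine Subgroup.closure_mono ?_
      rintro _ ⟨g, ⟨r, hr0, hr, hg⟩, rfl⟩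
      exact ⟨r, hr0, hr, hg.conj t⟩
    exact hle ⟨a, ha, rfl⟩
  haveI : Fintype H := Fintype.ofFinite _
  have hHc : ∀ a b : H, a * b = b * a := fun a b => Subtype.ext (hH a a.2 b b.2)
  haveI : Finite (H →* ℂˣ) := by
    letI : CommGroup H := { (inferInstance : Group H) with mul_comm := hHc }
    exact Finite.of_equiv _ (CommGroup.monoidHom_mulEquiv_of_hasEnoughRootsOfUnity H ℂ).some.toEquiv.symm
  haveI := Fintype.ofFinite (H →* ℂˣ)
  let σ : H →* Module.End ℂ (Fin k → ℂ) := MonoidHom.comp ρ H.subtype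
  let U := {l : H →* ℂˣ // proj σ l ≠ 0}
  choose box hbox using fun a : ℂ => exists_arc a
  let code : H → (U → Fin 12) := fun h l => box (l.1 h : ℂ)
  have hnorm : ∀ (l : H →* ℂˣ) (h : H), ‖(l h : ℂ)‖ = 1 := fun l h =>
    norm_eq_one_of_pow_eq_one' (N := Nat.card H) Nat.card_pos
      (by rw [← Units.val_pow_eq_pow_val, ← map_pow, pow_card_eq_one', map_one, Units.val_one])
  have hkey : ∀ h h' : H, code h = code h' → h⁻¹ * h' ∈ A.subgroupOf H := by
    intro h h' hcode
    refine Subgroup.mem_subgroupOf.mpr (Subgroup.subset_closure ?_)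
    have hlt : ∀ l : U, ‖(l.1 (h⁻¹ * h') : ℂ) - (c : ℂ)‖ < 1 / 2 := fun l => by
      rw [map_mul, map_inv, Units.val_mul, Units.val_inv_eq_inv_val]
      exact ratio_near (hnorm _ h) (hnorm _ h') (hbox _) (by
        rw [show box (l.1 h : ℂ) = box (l.1 h' : ℂ) from congrFun hcode l]
        exact hbox _)
    set R : Finset ℝ := insert 0 (Finset.univ.image fun l : U => ‖(l.1 (h⁻¹ * h') : ℂ) - (c : ℂ)‖)
    set r := R.max' ⟨0, Finset.mem_insert_self _ _⟩ with hr
    have hr0 : 0 ≤ r := Finset.le_max' _ _ (Finset.mem_insert_self _ _)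
    have hr1 : r < 1 / 2 := by
      obtain ⟨x, hx, hxr⟩ : ∃ x, x ∈ R ∧ x = r := ⟨r, Finset.max'_mem _ _, rfl⟩
      rw [← hxr]
      rcases Finset.mem_insert.mp hx with rfl | hx
      · norm_num
      · obtain ⟨l, -, rfl⟩ := Finset.mem_image.mp hx
        exact hlt l
    refine ⟨r, hr0, hr1, near_of_spectrum hr0 fun lam v hv hev => ?_⟩
    have hsum : v = ∑ l : H →* ℂˣ, proj σ l v := by
      have := LinearMap.congr_fun (sum_proj hHc σ) v
      simpa using this.symm
    obtain ⟨l, hl⟩ : ∃ l : H →* ℂˣ, proj σ l v ≠ 0 := by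
      by_contra hno
      push Not at hno
      exact hv (hsum.trans (Finset.sum_eq_zero fun l _ => hno l))
    have h1 : σ (h⁻¹ * h') (proj σ l v) = lam • proj σ l v := by
      have hcom : ∀ a : H, proj σ l (σ a v) = σ a (proj σ l v) := by
        intro a
        simp only [proj, LinearMap.smul_apply, LinearMap.coe_sum, Finset.sum_apply, map_smul, map_sum]
        refine congrArg _ (Finset.sum_congr rfl fun b _ => congrArg _ ?_)
        rw [← Module.End.mul_apply, ← Module.End.mul_apply, ← map_mul, ← map_mul, hHc]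
      rw [← hcom, show σ (h⁻¹ * h') v = lam • v from hev, map_smul]
    rw [proj_apply_map] at h1
    have h2 := smul_left_injective ℂ hl h1
    rw [← h2]
    exact Finset.le_max' R _ (Finset.mem_insert_of_mem (Finset.mem_image.mpr
      ⟨⟨l, fun h0 => hl (by rw [h0]; rfl)⟩, Finset.mem_univ _, rfl⟩))
  calc (A.subgroupOf H).index = Nat.card (H ⧸ A.subgroupOf H) := Subgroup.index_eq_card _
    _ ≤ Nat.card (U → Fin 12) := by
        refine Nat.card_le_card_of_injective (fun q => code q.out) fun q q' h => ?_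
        rw [← q.out_eq, ← q'.out_eq]
        exact QuotientGroup.eq.mpr (hkey _ _ h)
    _ = 12 ^ Nat.card U := by rw [Nat.card_fun, Nat.card_eq_fintype_card (α := Fin 12), Fintype.card_fin]
    _ ≤ 12 ^ k := Nat.pow_le_pow_right (by norm_num) (card_chars_le σ)

end Cfsg.Agent.S4470
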