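import Cfsg.Statements.S4471
import Cfsg.Agent.Lib.Block.DegreeLtTwoP.Main
import Cfsg.Agent.Lib.Transfer.Cores

set_option autoImplicit false
open Cfsg

namespace Cfsg.Agent.S4471

/-- Let p ≥ 7 be a prime and let the finite group G have a faithful irreducible character of degree n with n < 2p and n ≠ p. If the Sylow p-subgroups of G are non-abelian then p² does not divide the index of O_p(G) in G; consequently, in every case G/O_p(G) has abelian Sylow p-subgroups. -/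
theorem result {G : Type*} [Group G] [Finite G] (χ : Cfsg.IrrCharacter G) (hfaith : ∀ g : G, (χ : G → ℂ) g = (χ : G → ℂ) 1 → g = 1) (n : ℕ) (hn : Cfsg.charDegree (χ : G → ℂ) = n) (p : ℕ) (hp : p.Prime) (h7 : 7 ≤ p) (hn2 : n < 2 * p) (hnp : n ≠ p) : ((∃ P : Sylow p G, ∃ x ∈ (P : Subgroup G), ∃ y ∈ (P : Subgroup G), x * y ≠ y * x) → ¬ p ^ 2 ∣ (Cfsg.pCore p G).index) ∧ ∀ Q : Sylow p (G ⧸ Cfsg.pCore p G), ∀ x ∈ (Q : Subgroup (G ⧸ Cfsg.pCore p G)), ∀ y ∈ (Q : Subgroup (G ⧸ Cfsg.pCore p G)), x * y = y * x := by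
  classical
  haveI := Fact.mk hp
  cases nonempty_fintype G
  refine ⟨?_, fun Q x hx y hy => ?_⟩
  · rintro ⟨P, x, hx, y, hy, hxy⟩
    exact Cfsg.Agent.Block.DegreeLtTwoP.index_bound hfaith h7 hn hn2 hnp P.isPGroup' hx hy hxy
  obtain ⟨P⟩ : Nonempty (Sylow p G) := inferInstance
  haveI : (Cfsg.pCore p G).Normal := Cfsg.Agent.Transfer.pCore_normal' p G
  by_cases hab : ∀ a ∈ (P : Subgroup G), ∀ b ∈ (P : Subgroup G), a * b = b * a
  · obtain ⟨g, hg⟩ := MulAction.exists_smul_eq (G ⧸ Cfsg.pCore p G)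
      (P.mapSurjective (QuotientGroup.mk'_surjective (Cfsg.pCore p G))) Q
    subst hg
    rw [Sylow.coe_subgroup_smul, Subgroup.mem_pointwise_smul_iff_inv_smul_mem] at hx hy
    obtain ⟨a, ha, hae⟩ := hx
    obtain ⟨b, hb, hbe⟩ := hy
    rw [eq_inv_smul_iff] at hae hbe
    rw [← hae, ← hbe, ← smul_mul', ← smul_mul', ← map_mul, ← map_mul, hab a ha b hb]
  · push Not at hab
    obtain ⟨a, ha, b, hb, hne⟩ := hab
    have hbound := Cfsg.Agent.Block.DegreeLtTwoP.index_bound hfaith h7 hn hn2 hnp P.isPGroup' ha hb hne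
    obtain ⟨k, hk⟩ := (IsPGroup.iff_card (p := p)).1 Q.isPGroup'
    have hk1 : k ≤ 1 := by
      by_contra h
      refine hbound ?_
      rw [Subgroup.index_eq_card]
      exact ((pow_dvd_pow p (show 2 ≤ k by omega)).trans (hk ▸ Subgroup.card_subgroup_dvd_card _))
    haveI : IsCyclic (Q : Subgroup (G ⧸ Cfsg.pCore p G)) := by
      rcases Nat.le_one_iff_eq_zero_or_eq_one.1 hk1 with h | h
      · haveI : Subsingleton (Q : Subgroup (G ⧸ Cfsg.pCore p G)) :=
          (Nat.card_eq_one_iff_unique.1 (by rw [hk, h, pow_zero])).1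
        infer_instance
      · exact isCyclic_of_prime_card (p := p) (by rw [hk, h, pow_one])
    exact congrArg Subtype.val ((IsCyclic.isMulCommutative.is_comm).comm
      (⟨x, hx⟩ : (Q : Subgroup (G ⧸ Cfsg.pCore p G))) ⟨y, hy⟩)

end Cfsg.Agent.S4471
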