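import Cfsg.Statements.S4474
import Cfsg.Agent.Lib.Char.InvariantForm
import Cfsg.Agent.Lib.Char.Det
import Cfsg.Agent.Lib.Block.SchurIndicator

set_option autoImplicit false
open Cfsg

namespace Cfsg.Agent.S4474
open Cfsg.Agent.Char
open scoped ComplexConjugate Matrix

universe u

variable {G : Type u} [Group G] [Fintype G]

/-- A real representation has indicator one. -/
theorem ind_of_real (χ : IrrCharacter G) {n : ℕ} (ρ : Representation ℝ G (Fin n → ℝ))
    (hρ : ∀ g : G, ((LinearMap.trace ℝ (Fin n → ℝ) (ρ g) : ℝ) : ℂ) = (χ : G → ℂ) g) :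
    (Nat.card G : ℂ)⁻¹ * ∑ s : G, (χ : G → ℂ) (s * s) = 1 := by
  classical
  let A : G →* Matrix (Fin n) (Fin n) ℝ :=
    ((LinearMap.toMatrixAlgEquiv' : ((Fin n → ℝ) →ₗ[ℝ] (Fin n → ℝ)) ≃ₐ[ℝ] _).toMonoidHom).comp ρ
  let σ : Representation ℂ G (Fin n → ℂ) :=
    ((Matrix.toLinAlgEquiv' : Matrix (Fin n) (Fin n) ℂ ≃ₐ[ℂ] _).toMonoidHom).comp
      ((Complex.ofRealHom.mapMatrix : Matrix (Fin n) (Fin n) ℝ →+* Matrix (Fin n) (Fin n) ℂ).toMonoidHom.comp A)
  have hX : ∀ g, Forms.X σ g = (A g).map Complex.ofReal := fun g => by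
    show LinearMap.toMatrix' (Matrix.toLin' _) = _
    rw [LinearMap.toMatrix'_toLin']
    rfl
  have hc : σ.character = (χ : G → ℂ) := funext fun g => by
    rw [← Forms.X_trace σ g, hX, ← hρ g, LinearMap.trace_eq_matrix_trace ℝ (Pi.basisFun ℝ (Fin n)),
      LinearMap.toMatrix_eq_toMatrix']
    simp [Matrix.trace, A, LinearMap.toMatrixAlgEquiv']
  have hirr : σ.IsIrreducible := irreducible_of_character σ (hc ▸ χ.2)
  have hreal : ∀ g, (σ.character g).im = 0 := fun g => by
    rw [hc, ← hρ g, Complex.ofReal_im]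
  set M₀ : Matrix (Fin n) (Fin n) ℝ := ∑ g : G, (A g)ᵀ * A g with hM₀
  have hinv : ∀ g, (A g)ᵀ * M₀ * A g = M₀ := fun g => by
    rw [hM₀, Finset.mul_sum, Finset.sum_mul]
    refine Fintype.sum_equiv (Equiv.mulRight g) _ _ fun h => ?_
    simp only [Equiv.coe_mulRight, map_mul, Matrix.transpose_mul, mul_assoc]
  have hsym : M₀ᵀ = M₀ := by
    simp [hM₀, Matrix.transpose_sum, Matrix.transpose_mul]
  have hn : 0 < n := by
    rcases Nat.eq_zero_or_pos n with rfl | h
    · refine absurd ?_ (IsIrr.one_ne_zero χ.2)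
      rw [← congrFun hc 1, ← Forms.X_trace σ 1]
      simp [Matrix.trace]
    · exact h
  have hne : M₀ ⟨0, hn⟩ ⟨0, hn⟩ ≠ 0 := by
    refine ne_of_gt ?_
    rw [hM₀, Matrix.sum_apply]
    refine Finset.sum_pos' (fun g _ => ?_) ⟨1, Finset.mem_univ _, by simp⟩
    rw [Matrix.mul_apply]
    exact Finset.sum_nonneg fun i _ => mul_self_nonneg _
  have h := (Forms.forms σ hirr hreal).2.1 (M₀.map Complex.ofReal) fun g => by
    rw [hX, ← Matrix.transpose_map]
    show Complex.ofRealHom.mapMatrix _ * Complex.ofRealHom.mapMatrix M₀ * Complex.ofRealHom.mapMatrix _ =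
      Complex.ofRealHom.mapMatrix M₀
    rw [← map_mul, ← map_mul, hinv]
  rw [← Matrix.transpose_map, hsym, hc] at h
  have h1 := congrFun (congrFun h ⟨0, hn⟩) ⟨0, hn⟩
  simp only [Matrix.smul_apply, Matrix.map_apply, smul_eq_mul] at h1
  exact (mul_eq_right₀ (Complex.ofReal_ne_zero.2 hne)).1 h1.symm

theorem star_mulVec_map {n : ℕ} (A : Matrix (Fin n) (Fin n) ℂ) (w : Fin n → ℂ) :
    star ((A.map conj) *ᵥ w) = A *ᵥ star w := by
  funext i
  simp [Matrix.mulVec, dotProduct]

/-- Indicator one gives a real representation. -/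
theorem real_of_ind (χ : IrrCharacter G)
    (hχ : (Nat.card G : ℂ)⁻¹ * ∑ s : G, (χ : G → ℂ) (s * s) = 1) :
    ∃ (n : ℕ) (ρ : Representation ℝ G (Fin n → ℝ)),
      ∀ g : G, ((LinearMap.trace ℝ (Fin n → ℝ) (ρ g) : ℝ) : ℂ) = (χ : G → ℂ) g := by
  classical
  have hre : ∀ g, ((χ : G → ℂ) g).im = 0 := by
    rcases Cfsg.Agent.Block.FS.ind_eq χ with ⟨h, -⟩ | ⟨-, h⟩
    · rw [Cfsg.Agent.Block.FS.ind, hχ] at h
      exact absurd h one_ne_zero
    · exact fun g => Complex.conj_eq_iff_im.1 (h g)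
  obtain ⟨χ, n, ρ, hirr, rfl⟩ := χ
  haveI := hirr
  obtain ⟨⟨M, hM0, hM⟩, hsym', -⟩ := Forms.forms ρ hirr hre
  have hMt : Mᵀ = M := by rw [hsym' M hM, hχ, one_smul]
  let X := Forms.X ρ
  set H : Matrix (Fin n) (Fin n) ℂ := ∑ g : G, (X g)ᴴ * X g with hH
  have hHinv : ∀ g, (X g)ᴴ * H * X g = H := fun g => by
    rw [hH, Finset.mul_sum, Finset.sum_mul]
    refine Fintype.sum_equiv (Equiv.mulRight g) _ _ fun h => ?_
    simp only [Equiv.coe_mulRight, X, Forms.X_mul, Matrix.conjTranspose_mul, mul_assoc]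
  have hpos : ∀ v : Fin n → ℂ, v ≠ 0 → ∃ r : ℝ, 0 < r ∧ star v ⬝ᵥ H *ᵥ v = (r : ℂ) := by
    intro v hv
    refine ⟨∑ g : G, ∑ i, Complex.normSq ((X g *ᵥ v) i), ?_, ?_⟩
    · refine Finset.sum_pos' (fun g _ => Finset.sum_nonneg fun i _ => Complex.normSq_nonneg _)
        ⟨1, Finset.mem_univ _, ?_⟩
      obtain ⟨i, hi⟩ := Function.ne_iff.1 hv
      refine Finset.sum_pos' (fun i _ => Complex.normSq_nonneg _) ⟨i, Finset.mem_univ _, ?_⟩
      rw [show X 1 = 1 from Forms.X_one ρ, Matrix.one_mulVec]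
      exact Complex.normSq_pos.2 hi
    · rw [hH, Matrix.sum_mulVec, dotProduct_sum]
      push_cast
      refine Finset.sum_congr rfl fun g _ => ?_
      rw [← Matrix.mulVec_mulVec, Matrix.dotProduct_mulVec, ← Matrix.star_mulVec]
      simp [dotProduct, Complex.normSq_eq_conj_mul_self]
  set H' := H.map conj with hH'
  have hpos' : ∀ w : Fin n → ℂ, w ≠ 0 → ∃ r : ℝ, 0 < r ∧ star w ⬝ᵥ H' *ᵥ w = (r : ℂ) := by
    intro w hw
    obtain ⟨r, hr, he⟩ := hpos (star w) (fun h => hw (star_eq_zero.1 h))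
    refine ⟨r, hr, ?_⟩
    rw [← Complex.conj_ofReal r, ← he]
    simp [H', dotProduct, Matrix.mulVec]
  have hU : IsUnit H'.det := by
    rw [← Matrix.isUnit_iff_isUnit_det, ← Matrix.mulVec_injective_iff_isUnit]
    intro a b hab
    by_contra hne
    obtain ⟨r, hr, he⟩ := hpos' (a - b) (sub_ne_zero.2 hne)
    rw [Matrix.mulVec_sub, show H' *ᵥ a = H' *ᵥ b from hab, sub_self, dotProduct_zero] at he
    exact hr.ne (Complex.ofReal_inj.1 (by simpa using he))
  set K := H'⁻¹ * M with hK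
  have hHK : H' * K = M := by rw [hK, ← mul_assoc, Matrix.mul_nonsing_inv _ hU, one_mul]
  clear_value K
  have hKX : ∀ g, K * X g = (X g).map conj * K := by
    intro g
    have h2 : (X g)ᵀ * H' * (X g).map conj = H' := by
      have := congrArg (fun A : Matrix (Fin n) (Fin n) ℂ => (starRingEnd ℂ).mapMatrix A) (hHinv g)
      rw [map_mul, map_mul] at this
      have e : (starRingEnd ℂ).mapMatrix (X g)ᴴ = (X g)ᵀ := by ext i j; simp [Matrix.conjTranspose_apply]
      rw [e] at this
      exact this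
    have h3 : (X g⁻¹)ᵀ * (X g)ᵀ = 1 := by
      rw [← Matrix.transpose_mul, ← Forms.X_mul, mul_inv_cancel, Forms.X_one, Matrix.transpose_one]
    have h4 : H' * ((X g).map conj * K) = M * X g := by
      calc H' * ((X g).map conj * K) = ((X g⁻¹)ᵀ * (X g)ᵀ) * (H' * ((X g).map conj * K)) := by
            rw [h3, one_mul]
        _ = (X g⁻¹)ᵀ * (((X g)ᵀ * H' * (X g).map conj) * K) := by simp only [mul_assoc]
        _ = (X g⁻¹)ᵀ * ((X g)ᵀ * M * X g) := by rw [h2, hHK]; congr 1; exact (hM g).symm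
        _ = ((X g⁻¹)ᵀ * (X g)ᵀ) * (M * X g) := by simp only [mul_assoc]
        _ = _ := by rw [h3, one_mul]
    calc K * X g = H'⁻¹ * (M * X g) := by rw [hK, mul_assoc]
      _ = _ := by rw [← h4, ← mul_assoc H'⁻¹, Matrix.nonsing_inv_mul _ hU, one_mul]
  have hcomm : ∀ g, (K.map conj * K) * X g = X g * (K.map conj * K) := by
    intro g
    have h := congrArg (fun A : Matrix (Fin n) (Fin n) ℂ => (starRingEnd ℂ).mapMatrix A) (hKX g)
    rw [map_mul, map_mul] at h
    have e : (starRingEnd ℂ).mapMatrix ((X g).map conj) = X g := by ext i j; simp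
    rw [e] at h
    rw [mul_assoc, hKX g, ← mul_assoc, show K.map conj * (X g).map conj = X g * K.map conj from h, mul_assoc]
  obtain ⟨c, hc⟩ := schur_scalar ρ (Matrix.toLin' (K.map conj * K)) fun g => by
    have e : ρ g = Matrix.toLin' (X g) := (Matrix.toLin'_toMatrix' _).symm
    rw [e, ← Matrix.toLin'_mul, ← Matrix.toLin'_mul, hcomm]
  have hJJ : ∀ v, star (K *ᵥ star (K *ᵥ v)) = c • v := fun v => by
    have h := LinearMap.congr_fun hc v
    rw [Matrix.toLin'_apply, LinearMap.smul_apply, LinearMap.id_apply, ← Matrix.mulVec_mulVec] at h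
    rw [← h]
    funext i
    simp [Matrix.mulVec, dotProduct]
  obtain ⟨s₀, hs₀, hcs₀⟩ : ∃ s : ℝ, 0 < s ∧ c = (s : ℂ) := by
    obtain ⟨v, hv⟩ : ∃ v, K *ᵥ v ≠ 0 := by
      by_contra h
      push Not at h
      refine hM0 ?_
      rw [← hHK, show K = 0 from Matrix.ext_of_mulVec_single fun i => by rw [h, Matrix.zero_mulVec], mul_zero]
    have hv0 : v ≠ 0 := fun h => hv (by rw [h, Matrix.mulVec_zero])
    obtain ⟨s, hs, hse⟩ := hpos' _ hv
    obtain ⟨t, ht, hte⟩ := hpos v hv0
    have h1 : (s : ℂ) = conj c * (t : ℂ) := by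
      rw [← hse, Matrix.mulVec_mulVec, hHK, Matrix.dotProduct_mulVec, ← Matrix.mulVec_transpose, hMt,
        ← hHK, ← Matrix.mulVec_mulVec, show K *ᵥ star (K *ᵥ v) = star (c • v) by rw [← hJJ, star_star],
        ← Complex.conj_ofReal t, ← hte]
      simp only [dotProduct, Matrix.mulVec, H', Matrix.map_apply, Pi.star_apply, Pi.smul_apply,
        smul_eq_mul, map_sum, map_mul, RCLike.star_def, Complex.conj_conj, Finset.mul_sum, Finset.sum_mul]
      exact Finset.sum_congr rfl fun i _ => Finset.sum_congr rfl fun j _ => by ring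
    refine ⟨s / t, div_pos hs ht, ?_⟩
    have h2 := congrArg conj h1
    rw [map_mul, Complex.conj_conj, Complex.conj_ofReal, Complex.conj_ofReal] at h2
    rw [Complex.ofReal_div, eq_div_iff (Complex.ofReal_ne_zero.2 ht.ne'), ← h2]
  set a : ℂ := (((Real.sqrt s₀)⁻¹ : ℝ) : ℂ) with ha
  let J : (Fin n → ℂ) → (Fin n → ℂ) := fun v => a • star (K *ᵥ v)
  have haa : conj a = a := Complex.conj_ofReal _
  have hJ2 : ∀ v, J (J v) = v := fun v => by
    show a • star (K *ᵥ (a • star (K *ᵥ v))) = v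
    rw [Matrix.mulVec_smul, star_smul, RCLike.star_def, haa, hJJ, smul_smul, smul_smul, hcs₀]
    have : a * a * (s₀ : ℂ) = 1 := by
      rw [ha, ← Complex.ofReal_mul, ← Complex.ofReal_mul, ← mul_inv, Real.mul_self_sqrt hs₀.le,
        inv_mul_cancel₀ hs₀.ne', Complex.ofReal_one]
    rw [this, one_smul]
  have hJX : ∀ g v, J (ρ g v) = ρ g (J v) := fun g v => by
    show a • star (K *ᵥ ρ g v) = ρ g (a • star (K *ᵥ v))
    rw [map_smul, ← Forms.X_mulVec ρ g v, ← Forms.X_mulVec ρ g (star (K *ᵥ v)), Matrix.mulVec_mulVec, hKX,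
      ← Matrix.mulVec_mulVec, star_mulVec_map]
  have hJadd : ∀ v w, J (v + w) = J v + J w := fun v w => by
    simp only [J, Matrix.mulVec_add, star_add, smul_add]
  have hJsmul : ∀ (z : ℂ) v, J (z • v) = conj z • J v := fun z v => by
    simp only [J, Matrix.mulVec_smul, star_smul, RCLike.star_def, smul_smul, mul_comm a]
  let R : Submodule ℝ (Fin n → ℂ) :=
    { carrier := {v | J v = v}
      add_mem' := fun {v w} (hv : J v = v) (hw : J w = w) => show J (v + w) = v + w by
        rw [hJadd, hv, hw]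
      zero_mem' := show J 0 = 0 by simp [J]
      smul_mem' := fun r v (hv : J v = v) => show J (r • v) = r • v by
        rw [← Complex.coe_smul, hJsmul, hv, Complex.conj_ofReal] }
  haveI : Module.Finite ℝ R := inferInstance
  let bR := Module.finBasis ℝ R
  set m := Module.finrank ℝ R
  let b : Fin m → (Fin n → ℂ) := fun i => (bR i : Fin n → ℂ)
  have hbJ : ∀ i, J (b i) = b i := fun i => (bR i).2
  have hcoe : ∀ r : R, (r : Fin n → ℂ) = ∑ i, (bR.repr r i : ℂ) • b i := fun r => by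
    conv_lhs => rw [← bR.sum_repr r]
    rw [Submodule.coe_sum]
    exact Finset.sum_congr rfl fun i _ => by rw [Submodule.coe_smul, Complex.coe_smul]
  have hli : LinearIndependent ℂ b := by
    rw [Fintype.linearIndependent_iff]
    intro z hz i
    have hz' : ∑ i, conj (z i) • b i = 0 := by
      have hJsum : J (∑ i, z i • b i) = ∑ i, J (z i • b i) :=
        map_sum (AddMonoidHom.mk' J hJadd) _ _
      rw [hz, show J 0 = 0 by simp [J]] at hJsum
      rw [hJsum]
      exact Finset.sum_congr rfl fun i _ => by rw [hJsmul, hbJ]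
    have hre' : ∀ f : Fin m → ℝ, ∑ i, (f i : ℂ) • b i = 0 → ∀ i, f i = 0 := by
      intro f hf
      refine Fintype.linearIndependent_iff.1 bR.linearIndependent f (Subtype.ext ?_)
      rw [Submodule.coe_sum, ZeroMemClass.coe_zero, ← hf]
      exact Finset.sum_congr rfl fun i _ => by rw [Submodule.coe_smul, Complex.coe_smul]
    have h1 := hre' (fun i => (z i).re) (by
      have : ∀ i, (((z i).re : ℝ) : ℂ) = (2 : ℂ)⁻¹ * (z i + conj (z i)) := fun i => by
        rw [Complex.add_conj]; push_cast; ring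
      simp only [this, mul_smul, add_smul, ← Finset.smul_sum, Finset.sum_add_distrib, hz, hz', add_zero, smul_zero]) i
    have h2 := hre' (fun i => (z i).im) (by
      have : ∀ i, (((z i).im : ℝ) : ℂ) = (2 * Complex.I)⁻¹ * (z i - conj (z i)) := fun i => by
        rw [Complex.sub_conj]; field_simp; push_cast; ring
      simp only [this, mul_smul, sub_smul, ← Finset.smul_sum, Finset.sum_sub_distrib, hz, hz', sub_zero, smul_zero]) i
    exact Complex.ext h1 h2
  have hspan : ⊤ ≤ Submodule.span ℂ (Set.range b) := by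
    intro v _
    have hR : ∀ r : R, (r : Fin n → ℂ) ∈ Submodule.span ℂ (Set.range b) := fun r => by
      rw [hcoe r]
      exact Submodule.sum_mem _ fun i _ => Submodule.smul_mem _ _ (Submodule.subset_span ⟨i, rfl⟩)
    have h1 := hR ⟨v + J v, show J (v + J v) = v + J v by rw [hJadd, hJ2, add_comm]⟩
    have h2 := hR ⟨Complex.I • (v - J v), show J (Complex.I • (v - J v)) = Complex.I • (v - J v) by
      rw [hJsmul, sub_eq_add_neg, hJadd, ← neg_one_smul ℂ (J v), hJsmul, hJ2, Complex.conj_I]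
      simp [smul_add, neg_smul, add_comm]⟩
    have : v = (2 : ℂ)⁻¹ • ((v + J v) + (-Complex.I) • (Complex.I • (v - J v))) := by
      rw [smul_smul, neg_mul, Complex.I_mul_I, neg_neg, one_smul, add_add_sub_cancel, ← two_smul ℂ v,
        smul_smul, inv_mul_cancel₀ two_ne_zero, one_smul]
    rw [this]
    exact Submodule.smul_mem _ _ (Submodule.add_mem _ h1 (Submodule.smul_mem _ _ h2))
  let B := Module.Basis.mk hli hspan
  let σ : G →* R →ₗ[ℝ] R :=
    { toFun := fun g =>
        { toFun := fun r => ⟨ρ g r, show J (ρ g r) = ρ g r by rw [hJX, r.2]⟩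
          map_add' := fun r s => Subtype.ext (map_add (ρ g) _ _)
          map_smul' := fun z r => Subtype.ext (by
            show ρ g (z • (r : Fin n → ℂ)) = z • ρ g r
            rw [← Complex.coe_smul, map_smul, Complex.coe_smul]) }
      map_one' := LinearMap.ext fun r => Subtype.ext (by simp)
      map_mul' := fun g h => LinearMap.ext fun r => Subtype.ext (by simp) }
  let π : Representation ℝ G (Fin m → ℝ) :=
    { toFun := fun g => bR.equivFun.conj (σ g)
      map_one' := by rw [map_one]; exact LinearEquiv.conj_id _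
      map_mul' := fun g h => by rw [map_mul]; exact LinearEquiv.conj_comp _ _ _ }
  refine ⟨m, π, fun g => ?_⟩
  show ((LinearMap.trace ℝ (Fin m → ℝ) (bR.equivFun.conj (σ g)) : ℝ) : ℂ) = ρ.character g
  rw [LinearMap.trace_conj', LinearMap.trace_eq_matrix_trace ℝ bR, Representation.character,
    LinearMap.trace_eq_matrix_trace ℂ B]
  simp only [Matrix.trace, Matrix.diag_apply, LinearMap.toMatrix_apply]
  push_cast
  refine Finset.sum_congr rfl fun i _ => ?_
  have e : ρ g (B i) = ∑ j, (bR.repr (σ g (bR i)) j : ℂ) • B j := by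
    rw [show B i = b i from Module.Basis.mk_apply _ _ i, ← show ((σ g (bR i) : R) : Fin n → ℂ) = ρ g (b i) from rfl,
      hcoe]
    exact Finset.sum_congr rfl fun j _ => by rw [show B j = b j from Module.Basis.mk_apply _ _ j]
  rw [e, B.repr_sum_self]

/-- Let χ be an irreducible character of the finite group G. Then the Frobenius–Schur indicator of χ (the average over s ∈ G of χ(s²)) equals 1 if and only if χ is afforded by a real representation: there is a representation of G on a real coordinate space whose trace function, viewed in ℂ, is χ. -/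
theorem result {G : Type*} [Group G] [Fintype G] (χ : Cfsg.IrrCharacter G) : ((Nat.card G : ℂ)⁻¹ * ∑ s : G, (χ : G → ℂ) (s * s)) = 1 ↔ ∃ (n : ℕ) (ρ : Representation ℝ G (Fin n → ℝ)), ∀ g : G, ((LinearMap.trace ℝ (Fin n → ℝ) (ρ g) : ℝ) : ℂ) = (χ : G → ℂ) g := by
  exact ⟨real_of_ind χ, fun ⟨n, ρ, hρ⟩ => ind_of_real χ ρ hρ⟩

end Cfsg.Agent.S4474
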