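import Cfsg.Statements.S4476
import Cfsg.Agent.Lib.Block.SchurIndicator
import Cfsg.Agent.Lib.Char.Integral
-- import your own Cfsg.Agent.* helpers here

set_option autoImplicit false
open Cfsg

namespace Cfsg.Agent.S4476

/-- Let G be a finite group of even order g with exactly t involutions, and put α = (g − 1)/t (a rational number). Then (a) some non-identity element x of G has at most α² conjugates; and (b) some non-principal real-valued irreducible character of G has degree at most α. -/
theorem result {G : Type*} [Group G] [Fintype G] (heven : Even (Nat.card G)) (t : ℕ) (ht : Nat.card {x : G // orderOf x = 2} = t) : (∃ x : G, x ≠ 1 ∧ ((Subgroup.centralizer ({x} : Set G)).index : ℚ) ≤ (((Nat.card G : ℚ) - 1) / t) ^ 2) ∧ ∃ χ : Cfsg.IrrCharacter G, (χ : G → ℂ) ≠ (fun _ => 1) ∧ (∀ g : G, ((χ : G → ℂ) g).im = 0) ∧ (Cfsg.charDegree (χ : G → ℂ) : ℚ) ≤ ((Nat.card G : ℚ) - 1) / t := by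
  classical
  have hn0 : (Nat.card G : ℂ) ≠ 0 := Nat.cast_ne_zero.mpr Nat.card_pos.ne'
  have hdeg : ∀ χ : Cfsg.IrrCharacter G, ∃ d : ℕ, 0 < d ∧ (χ : G → ℂ) 1 = d := fun χ =>
    Cfsg.Agent.Char.IsIrr.one_eq_pos χ.2
  choose d hd0 hd using hdeg
  let one : Cfsg.IrrCharacter G := ⟨fun _ => 1, Cfsg.Agent.Char.isIrr_one⟩
  have hd1 : d one = 1 := by
    have h := hd one
    have : ((1 : ℕ) : ℂ) = (d one : ℂ) := by rw [← h]; simp [one]
    exact_mod_cast this.symm
  -- the involution count
  have hcount : (Nat.card {g : G // g * g = 1} : ℂ) =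
      ∑ χ : Cfsg.IrrCharacter G, (d χ : ℂ) * Cfsg.Agent.Block.FS.ind (χ : G → ℂ) := by
    calc (Nat.card {g : G // g * g = 1} : ℂ)
        = (Nat.card G : ℂ)⁻¹ * ∑ g : G, (if g * g = 1 then (Nat.card G : ℂ) else 0) := by
          rw [← Finset.sum_filter, Finset.sum_const, nsmul_eq_mul, Nat.card_eq_fintype_card,
            Fintype.card_subtype, mul_comm _ ((_ : ℂ) * _), mul_assoc, mul_inv_cancel₀ hn0, mul_one]
      _ = (Nat.card G : ℂ)⁻¹ * ∑ g : G, ∑ χ : IrrCharacter G, (χ : G → ℂ) 1 * (χ : G → ℂ) (g * g) := by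
          congr 1
          exact Finset.sum_congr rfl fun g _ => (Cfsg.Agent.Char.regular_expansion (g * g)).symm
      _ = ∑ χ : Cfsg.IrrCharacter G, (d χ : ℂ) * Cfsg.Agent.Block.FS.ind (χ : G → ℂ) := by
          rw [Finset.sum_comm, Finset.mul_sum]
          refine Finset.sum_congr rfl fun χ _ => ?_
          rw [← Finset.mul_sum, Cfsg.Agent.Block.FS.ind, ← hd χ]
          ring
  have hsq : ∑ χ : IrrCharacter G, d χ * d χ = Nat.card G := by
    have h := Cfsg.Agent.Char.sum_degree_sq (G := G)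
    simp only [hd, pow_two] at h
    exact_mod_cast h
  have hm : Nat.card {g : G // g * g = 1} = Nat.card {t : G // orderOf t = 2} + 1 := by
    rw [Nat.card_eq_fintype_card, Nat.card_eq_fintype_card, Fintype.card_subtype, Fintype.card_subtype,
      show (Finset.univ.filter fun g : G => g * g = 1) =
        insert 1 (Finset.univ.filter fun g : G => orderOf g = 2) by
        ext g
        simp only [Finset.mem_filter, Finset.mem_univ, true_and, Finset.mem_insert]
        rw [← pow_two, ← orderOf_dvd_iff_pow_eq_one, Nat.dvd_prime Nat.prime_two, orderOf_eq_one_iff],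
      Finset.card_insert_of_notMem (by simp)]
  set R := Finset.univ.filter (fun χ : Cfsg.IrrCharacter G =>
    χ ≠ one ∧ ∀ g, starRingEnd ℂ ((χ : G → ℂ) g) = (χ : G → ℂ) g) with hR
  have hle : t ≤ ∑ χ ∈ R, d χ := by
    rw [← Finset.add_sum_erase _ _ (Finset.mem_univ one), hd1,
      show Cfsg.Agent.Block.FS.ind (one : G → ℂ) = 1 from Cfsg.Agent.Block.FS.ind_one, hm, ht] at hcount
    push_cast at hcount
    rw [one_mul, add_comm (t : ℂ) 1, add_right_inj] at hcount
    have h1 : ‖(t : ℂ)‖ ≤ ∑ χ ∈ R, (d χ : ℝ) := by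
      rw [hcount]
      refine (norm_sum_le _ _).trans ?_
      rw [hR, Finset.sum_filter]
      refine le_trans (le_of_eq (Finset.sum_congr rfl fun χ hχ => ?_))
        (Finset.sum_le_univ_sum_of_nonneg fun χ => by split_ifs <;> positivity)
      have hne := (Finset.mem_erase.1 hχ).1
      rw [norm_mul, Complex.norm_natCast]
      rcases Cfsg.Agent.Block.FS.ind_eq χ with ⟨h, hnr⟩ | ⟨h | h, hr⟩
      · rw [h, norm_zero, mul_zero, if_neg fun h' => hnr h'.2]
      · rw [h, norm_one, mul_one, if_pos ⟨hne, hr⟩]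
      · rw [h, norm_neg, norm_one, mul_one, if_pos ⟨hne, hr⟩]
    rw [Complex.norm_natCast] at h1
    exact_mod_cast h1
  have ht0 : 0 < t := by
    obtain ⟨x, hx⟩ := exists_prime_orderOf_dvd_card' (G := G) 2 (even_iff_two_dvd.1 heven)
    rw [← ht]
    haveI : Nonempty {x : G // orderOf x = 2} := ⟨⟨x, hx⟩⟩
    exact Nat.card_pos
  have hS : ∑ χ ∈ R, d χ * d χ ≤ Nat.card G - 1 := by
    have h1 : ∑ χ ∈ R, d χ * d χ ≤ ∑ χ ∈ Finset.univ.erase one, d χ * d χ :=
      Finset.sum_le_sum_of_subset fun χ hχ => Finset.mem_erase.2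
        ⟨(Finset.mem_filter.1 hχ).2.1, Finset.mem_univ _⟩
    rw [← Finset.add_sum_erase _ _ (Finset.mem_univ one), hd1] at hsq
    omega
  have hcharDeg : ∀ χ : Cfsg.IrrCharacter G, Cfsg.charDegree (χ : G → ℂ) = d χ := fun χ => by
    rw [Cfsg.charDegree, hd χ]
    simp
  have hG1 : ((Nat.card G - 1 : ℕ) : ℚ) = (Nat.card G : ℚ) - 1 := by
    rw [Nat.cast_sub Nat.card_pos, Nat.cast_one]
  have htQ : (0 : ℚ) < t := by exact_mod_cast ht0
  refine ⟨?_, ?_⟩
  · -- a small class
    set S := Finset.univ.filter (fun C : ConjClasses G => C ≠ ConjClasses.mk 1) with hSdef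
    have hRS : R.card ≤ S.card := by
      have h1 : R.card + 1 ≤ (Finset.univ : Finset (Cfsg.IrrCharacter G)).card := by
        rw [← Finset.card_insert_of_notMem (a := one) (by simp [hR])]
        exact Finset.card_le_univ _
      have h2 : S.card + 1 = (Finset.univ : Finset (ConjClasses G)).card := by
        rw [hSdef, Finset.filter_ne', Finset.card_erase_add_one (Finset.mem_univ _)]
      rw [Finset.card_univ, ← Nat.card_eq_fintype_card] at h1 h2
      rw [Cfsg.Agent.Char.card_irrCharacter] at h1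
      omega
    have hclass : ∑ C ∈ S, Nat.card C.carrier = Nat.card G - 1 := by
      have h1 : ∑ C : ConjClasses G, Nat.card C.carrier = Nat.card G := by
        rw [← Nat.card_sigma]
        exact Nat.card_congr (Equiv.trans (Equiv.sigmaCongrRight fun C => Equiv.subtypeEquivRight
          fun g => ConjClasses.mem_carrier_iff_mk_eq) (Equiv.sigmaFiberEquiv ConjClasses.mk))
      rw [← Finset.add_sum_erase _ _ (Finset.mem_univ (ConjClasses.mk (1 : G)))] at h1
      have h2 : Nat.card (ConjClasses.mk (1 : G)).carrier = 1 := by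
        rw [Nat.card_eq_one_iff_exists]
        refine ⟨⟨1, ConjClasses.mem_carrier_mk⟩, fun y => Subtype.ext ?_⟩
        have := ConjClasses.mem_carrier_iff_mk_eq.1 y.2
        rw [ConjClasses.mk_eq_mk_iff_isConj] at this
        exact isConj_one_left.1 this
      rw [hSdef, Finset.filter_ne']
      omega
    have hcs : t * t ≤ R.card * (Nat.card G - 1) := by
      calc t * t ≤ (∑ χ ∈ R, d χ) * ∑ χ ∈ R, d χ := Nat.mul_le_mul hle hle
        _ = (∑ χ ∈ R, d χ) ^ 2 := (sq _).symm
        _ ≤ R.card * ∑ χ ∈ R, d χ ^ 2 := sq_sum_le_card_mul_sum_sq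
        _ ≤ R.card * (Nat.card G - 1) := Nat.mul_le_mul_left _ (by simpa [sq] using hS)
    have hR0 : 0 < R.card := Nat.pos_of_ne_zero fun h => by
      rw [h, zero_mul] at hcs
      nlinarith
    obtain ⟨C, hC, hmin⟩ := Finset.exists_min_image S (fun C => Nat.card C.carrier)
      (Finset.card_pos.1 (by omega))
    obtain ⟨x, rfl⟩ := ConjClasses.mk_surjective C
    refine ⟨x, fun h => (Finset.mem_filter.1 hC).2 (by rw [h]), ?_⟩
    have hidx : (Subgroup.centralizer ({x} : Set G)).index = Nat.card (ConjClasses.mk x).carrier := by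
      rw [← Cfsg.Agent.Char.card_conjClass]
      exact Nat.card_congr (Equiv.subtypeEquivRight fun y => by
        rw [ConjClasses.mem_carrier_iff_mk_eq, ConjClasses.mk_eq_mk_iff_isConj]
        exact ⟨IsConj.symm, IsConj.symm⟩)
    have h1 : S.card * Nat.card (ConjClasses.mk x).carrier ≤ Nat.card G - 1 := by
      rw [← hclass, ← smul_eq_mul, ← Finset.sum_const]
      exact Finset.sum_le_sum fun C hC => hmin C hC
    have h2 : t * t * Nat.card (ConjClasses.mk x).carrier ≤ (Nat.card G - 1) * (Nat.card G - 1) := by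
      calc _ ≤ R.card * (Nat.card G - 1) * Nat.card (ConjClasses.mk x).carrier :=
            Nat.mul_le_mul_right _ hcs
        _ ≤ S.card * (Nat.card G - 1) * Nat.card (ConjClasses.mk x).carrier :=
            Nat.mul_le_mul_right _ (Nat.mul_le_mul_right _ hRS)
        _ = (Nat.card G - 1) * (S.card * Nat.card (ConjClasses.mk x).carrier) := by ring
        _ ≤ _ := Nat.mul_le_mul_left _ h1
    rw [hidx, div_pow, le_div_iff₀ (by positivity), ← hG1]
    calc (Nat.card (ConjClasses.mk x).carrier : ℚ) * (t : ℚ) ^ 2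
        = ((t * t * Nat.card (ConjClasses.mk x).carrier : ℕ) : ℚ) := by push_cast; ring
      _ ≤ (((Nat.card G - 1) * (Nat.card G - 1) : ℕ) : ℚ) := Nat.cast_le.2 h2
      _ = ((Nat.card G - 1 : ℕ) : ℚ) ^ 2 := by push_cast; ring
  · -- a real character of small degree
    by_contra hno
    push Not at hno
    have hbig : ∀ χ ∈ R, Nat.card G - 1 + 1 ≤ d χ * t := by
      intro χ hχ
      obtain ⟨hne, hr⟩ := (Finset.mem_filter.1 hχ).2
      have h := hno χ (fun e => hne (Subtype.ext e)) (fun g => Complex.conj_eq_iff_im.1 (hr g))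
      rw [hcharDeg, div_lt_iff₀ htQ, ← hG1] at h
      exact_mod_cast h
    have h1 : ∑ χ ∈ R, (Nat.card G - 1 + 1) * d χ ≤ ∑ χ ∈ R, d χ * d χ * t :=
      Finset.sum_le_sum fun χ hχ => by
        calc (Nat.card G - 1 + 1) * d χ ≤ d χ * t * d χ := Nat.mul_le_mul_right _ (hbig χ hχ)
          _ = d χ * d χ * t := by ring
    rw [← Finset.mul_sum, ← Finset.sum_mul] at h1
    have h2 : (Nat.card G - 1 + 1) * t ≤ (Nat.card G - 1) * t :=
      le_trans (Nat.mul_le_mul_left _ hle) (h1.trans (Nat.mul_le_mul_right _ hS))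
    nlinarith

end Cfsg.Agent.S4476
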