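import Cfsg.Statements.S4477
import Cfsg.Agent.Lib.Block.SchurIndicator
import Cfsg.Agent.Lib.Char.PSolvableIto
import Cfsg.Agent.Lib.Char.CoprimeDegree
import Cfsg.Agent.Lib.Char.Integral
import Cfsg.Agent.Lib.Transfer.MaxClass

set_option autoImplicit false
open Cfsg

namespace Cfsg.Agent.S4477
open Cfsg.Agent.Char

universe u

variable {G : Type u} [Group G]

theorem dual_equiv [Finite G] : Nonempty ((G →* ℂˣ) ≃* Abelianization G) := by
  haveI : NeZero (Monoid.exponent (Abelianization G)) := ⟨Monoid.exponent_ne_zero_of_finite⟩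
  obtain ⟨e⟩ := CommGroup.monoidHom_mulEquiv_of_hasEnoughRootsOfUnity (Abelianization G) ℂ
  refine ⟨MulEquiv.trans ?_ e⟩
  exact
    { toFun := fun l => Abelianization.lift l
      invFun := fun l => l.comp Abelianization.of
      left_inv := fun l => MonoidHom.ext fun x => by simp
      right_inv := fun l => Abelianization.hom_ext _ _ (MonoidHom.ext fun x => by simp)
      map_mul' := fun a b => Abelianization.hom_ext _ _ (MonoidHom.ext fun x => by simp) }

/-- An abelian 2-group with at most two square roots of one is cyclic. -/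
theorem cyclic_of_two_roots {A : Type u} [CommGroup A] [Finite A] (h2 : IsPGroup 2 A)
    (h : Nat.card {x : A // x ^ 2 = 1} ≤ 2) : IsCyclic A := by
  classical
  letI := Fintype.ofFinite A
  have hstep : ∀ k : ℕ, Nat.card {x : A // x ^ (2 ^ k) = 1} ≤ 2 ^ k := by
    intro k
    induction k with
    | zero => simp
    | succ k ih =>
      have hfib : (Finset.univ.filter fun x : A => x ^ (2 ^ (k + 1)) = 1).card ≤
          2 * (Finset.univ.filter fun x : A => x ^ (2 ^ k) = 1).card := by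
        refine Finset.card_le_mul_card_image_of_maps_to (f := fun x : A => x ^ 2) (fun x hx => ?_) 2 ?_
        · simp only [Finset.mem_filter, Finset.mem_univ, true_and] at hx ⊢
          rwa [← pow_mul, ← pow_succ']
        intro y _
        rcases Finset.eq_empty_or_nonempty
          ((Finset.univ.filter fun x : A => x ^ (2 ^ (k + 1)) = 1).filter fun x => x ^ 2 = y) with he | ⟨x₀, hx₀⟩
        · rw [he]; simp
        refine le_trans (Finset.card_le_card_of_injOn (fun x => x * x₀⁻¹)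
          (t := Finset.univ.filter fun x : A => x ^ 2 = 1) ?_ ?_) ?_
        · intro x hx
          simp only [Finset.coe_filter, Finset.mem_filter, Set.mem_setOf_eq, Finset.mem_univ, true_and] at hx hx₀ ⊢
          rw [mul_pow, inv_pow, hx.2, hx₀.2, mul_inv_cancel]
        · exact fun a _ b _ e => mul_right_cancel e
        · rwa [← Fintype.card_subtype, ← Nat.card_eq_fintype_card]
      rw [Nat.card_eq_fintype_card, Fintype.card_subtype] at ih ⊢
      calc _ ≤ _ := hfib
        _ ≤ 2 * 2 ^ k := Nat.mul_le_mul_left _ ih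
        _ = _ := (pow_succ' 2 k).symm
  obtain ⟨a, ha⟩ := (IsPGroup.iff_card).1 h2
  refine isCyclic_of_card_pow_eq_one_le fun n hn => ?_
  obtain ⟨j, hj, hje⟩ := (Nat.dvd_prime_pow Nat.prime_two).1 (Nat.gcd_dvd_right n (2 ^ a))
  refine le_trans ?_ (Nat.le_of_dvd hn (hje ▸ Nat.gcd_dvd_left n (2 ^ a)))
  refine le_trans ?_ (hstep j)
  rw [Nat.card_eq_fintype_card, Fintype.card_subtype]
  refine Finset.card_le_card fun x hx => ?_
  simp only [Finset.mem_filter, Finset.mem_univ, true_and] at hx ⊢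
  rw [← hje, pow_gcd_eq_one]
  exact ⟨hx, by rw [← ha]; exact pow_card_eq_one'⟩

theorem conj_val [Finite G] (l : G →* ℂˣ) (g : G) :
    (starRingEnd ℂ) (l g : ℂ) = ((l⁻¹ : G →* ℂˣ) g : ℂ) := by
  rw [MonoidHom.inv_apply, Units.val_inv_eq_inv_val]
  refine (Complex.inv_eq_conj ?_).symm
  exact norm_eq_one_of_pow_eq_one' (c := (l g : ℂ)) Nat.card_pos
    (by rw [← Units.val_pow_eq_pow_val, ← map_pow, pow_card_eq_one', map_one, Units.val_one])

theorem ind_linear [Fintype G] (l : G →* ℂˣ) :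
    Cfsg.Agent.Block.FS.ind (fun g => (l g : ℂ)) = if l ^ 2 = 1 then 1 else 0 := by
  classical
  rw [Cfsg.Agent.Block.FS.ind]
  split_ifs with h
  · have : ∀ g : G, (l (g * g) : ℂ) = 1 := fun g => by
      have := DFunLike.congr_fun h g
      rw [MonoidHom.pow_apply, MonoidHom.one_apply, sq, ← map_mul] at this
      rw [this, Units.val_one]
    show _ * ∑ g : G, (l (g * g) : ℂ) = 1
    rw [Finset.sum_congr rfl fun g _ => this g, Finset.sum_const, Finset.card_univ, nsmul_one,
      ← Nat.card_eq_fintype_card, inv_mul_cancel₀ (Nat.cast_ne_zero.2 Nat.card_pos.ne')]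
  · have : ∀ g : G, (l (g * g) : ℂ) = ((l ^ 2 : G →* ℂˣ) g : ℂ) := fun g => by
      rw [MonoidHom.pow_apply, sq, map_mul]
    simp only [this, linear_sum (l ^ 2) h, mul_zero]

/-- The linear characters fixing an irreducible character are at most the square of its degree. -/
theorem card_stab_le [Fintype G] (χ : IrrCharacter G) (S : Finset (G →* ℂˣ))
    (hS : ∀ μ ∈ S, ∀ g, (μ g : ℂ) * (χ : G → ℂ) g = (χ : G → ℂ) g) :
    S.card ≤ charDegree (χ : G → ℂ) ^ 2 := by
  classical
  have hchar := IsChar.mul (IsIrr.isCharacter χ.2) (IsChar.conj (IsIrr.isCharacter χ.2))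
  obtain ⟨a, ha, hdec⟩ := IsChar.exists_decomp_inner hchar
  let f : (G →* ℂˣ) → IrrCharacter G := fun μ => ⟨fun g => (μ g : ℂ), isIrr_linear μ⟩
  have hf : Function.Injective f := fun μ ν e => MonoidHom.ext fun g =>
    Units.ext (congrFun (congrArg Subtype.val e) g)
  have hone : ∀ μ ∈ S, a (f μ) = 1 := by
    intro μ hμ
    refine Nat.cast_injective (R := ℂ) ?_
    rw [← ha, Nat.cast_one, ← classInner_self_irr χ.2]
    simp only [classInner, f, Pi.mul_apply]
    congr 1
    refine Finset.sum_congr rfl fun g _ => ?_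
    have h1 := congrArg (starRingEnd ℂ) (hS μ hμ g)
    rw [map_mul] at h1
    rw [mul_assoc]
    congr 1
    rw [mul_comm, h1]
  have h1 := congrFun hdec 1
  rw [sum_irr_apply] at h1
  simp only [Pi.mul_apply, PIto.charDeg_cast χ, map_natCast, PIto.charDeg_cast] at h1
  have h2 : charDegree (χ : G → ℂ) * charDegree (χ : G → ℂ) =
      ∑ φ : IrrCharacter G, a φ * charDegree (φ : G → ℂ) := by exact_mod_cast h1
  rw [sq, h2]
  calc S.card = ∑ φ ∈ S.image f, a φ * charDegree (φ : G → ℂ) := by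
        rw [Finset.sum_image fun x _ y _ e => hf e, Finset.card_eq_sum_ones]
        refine Finset.sum_congr rfl fun μ hμ => ?_
        rw [hone μ hμ, PIto.charDeg_eq (d := 1) (χ := (f μ : G → ℂ)) (by simp [f])]
    _ ≤ _ := Finset.sum_le_sum_of_subset (Finset.subset_univ _)

/-- The number of real irreducible characters of degree two is even. -/
theorem even_real [Fintype G] (h2 : IsPGroup 2 (G →* ℂˣ)) [Fintype (G →* ℂˣ)]
    (hr : 4 ≤ Nat.card {μ : G →* ℂˣ // μ ^ 2 = 1}) (hL : Nat.card (G →* ℂˣ) ≠ 4)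
    [DecidablePred fun χ : IrrCharacter G => charDegree (χ : G → ℂ) = 2 ∧
      ∀ g, (starRingEnd ℂ) ((χ : G → ℂ) g) = (χ : G → ℂ) g] :
    2 ∣ (Finset.univ.filter fun χ : IrrCharacter G => charDegree (χ : G → ℂ) = 2 ∧
      ∀ g, (starRingEnd ℂ) ((χ : G → ℂ) g) = (χ : G → ℂ) g).card := by
  classical
  set T := Finset.univ.filter (fun μ : G →* ℂˣ => μ ^ 2 = 1) with hT
  have hTc : 4 ≤ T.card := by rwa [Nat.card_eq_fintype_card, Fintype.card_subtype] at hr
  let St : IrrCharacter G → Finset (G →* ℂˣ) := fun χ =>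
    Finset.univ.filter fun μ => ∀ g, (μ g : ℂ) * (χ : G → ℂ) g = (χ : G → ℂ) g
  -- an element of order four
  have h4 : T ≠ Finset.univ → ∃ l : G →* ℂˣ, l ∉ T ∧ (l ^ 2) ^ 2 = 1 := by
    intro hne
    obtain ⟨l, hl⟩ : ∃ l, l ∉ T := by
      by_contra h; push Not at h; exact hne (Finset.eq_univ_iff_forall.2 h)
    obtain ⟨k, hk⟩ := h2 l
    have hex : ∃ k : ℕ, l ^ (2 ^ k) = 1 := ⟨k, hk⟩
    have hk' := Nat.find_spec hex
    have hge : 2 ≤ Nat.find hex := by
      by_contra hlt
      refine hl (Finset.mem_filter.2 ⟨Finset.mem_univ _, ?_⟩)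
      rcases (show Nat.find hex = 0 ∨ Nat.find hex = 1 by omega) with h | h <;> rw [h] at hk'
      · rw [pow_zero, pow_one] at hk'; rw [hk']; exact MonoidHom.ext fun g => by simp
      · simpa using hk'
    obtain ⟨m, hm⟩ : ∃ m, Nat.find hex = m + 2 := ⟨Nat.find hex - 2, by omega⟩
    refine ⟨l ^ (2 ^ m), fun h => ?_, ?_⟩
    · have := Nat.find_min hex (show m + 1 < Nat.find hex by omega)
      refine this ?_
      rw [pow_succ, pow_mul]
      exact (Finset.mem_filter.1 h).2
    · rw [← pow_mul, ← pow_mul, show 2 ^ m * (2 * 2) = 2 ^ (m + 2) by ring, ← hm]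
      exact hk'
  let P : Finset (G →* ℂˣ) → (G →* ℂˣ) → Prop := fun S μ => μ ∉ S ∧ (μ ∈ T ∨ T ⊆ S ∧ μ ^ 2 ∈ T)
  have hP : ∀ χ : IrrCharacter G, charDegree (χ : G → ℂ) = 2 → ∃ μ, P (St χ) μ := by
    intro χ hχ
    have hle : (St χ).card ≤ 4 := by
      have := card_stab_le χ (St χ) fun μ hμ => (Finset.mem_filter.1 hμ).2
      rwa [hχ] at this
    by_cases hsub : T ⊆ St χ
    · have heq : T = St χ := Finset.eq_of_subset_of_card_le hsub (hle.trans hTc)
      obtain ⟨l, hl, hl2⟩ := h4 (fun e => hL (by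
        rw [Nat.card_eq_fintype_card, ← Finset.card_univ, ← e]
        exact le_antisymm (heq ▸ hle) hTc))
      exact ⟨l, heq ▸ hl, Or.inr ⟨hsub, Finset.mem_filter.2 ⟨Finset.mem_univ _, hl2⟩⟩⟩
    · obtain ⟨μ, hμT, hμ⟩ := Finset.not_subset.1 hsub
      exact ⟨μ, hμ, Or.inl hμT⟩
  let c : Finset (G →* ℂˣ) → (G →* ℂˣ) := fun S => if h : ∃ μ, P S μ then h.choose else 1
  let m : IrrCharacter G → IrrCharacter G := fun χ =>
    ⟨fun g => (c (St χ) g : ℂ) * (χ : G → ℂ) g, IsIrr.mul_linear χ.2 _⟩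
  set R := Finset.univ.filter fun χ : IrrCharacter G => charDegree (χ : G → ℂ) = 2 ∧
    ∀ g, (starRingEnd ℂ) ((χ : G → ℂ) g) = (χ : G → ℂ) g with hR
  have hSt : ∀ χ, St (m χ) = St χ := fun χ => by
    ext μ
    simp only [St, m, Finset.mem_filter, Finset.mem_univ, true_and]
    refine forall_congr' fun g => ?_
    rw [mul_left_comm]
    exact mul_right_inj' (Units.ne_zero _)
  have hcspec : ∀ χ ∈ R, P (St χ) (c (St χ)) := fun χ hχ => by
    have h := hP χ (Finset.mem_filter.1 hχ).2.1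
    simp only [c, dif_pos h]
    exact h.choose_spec
  have hsq : ∀ χ ∈ R, ∀ g, ((c (St χ)) ^ 2) g * (χ : G → ℂ) g = (χ : G → ℂ) g := by
    intro χ hχ g
    rcases (hcspec χ hχ).2 with h | ⟨h, h'⟩
    · rw [(Finset.mem_filter.1 h).2]; simp
    · exact (Finset.mem_filter.1 (h h')).2 g
  have hmem : ∀ χ ∈ R, m χ ∈ R := by
    intro χ hχ
    obtain ⟨-, hd, hreal⟩ := Finset.mem_filter.1 hχ
    refine Finset.mem_filter.2 ⟨Finset.mem_univ _, PIto.charDeg_eq ?_, fun g => ?_⟩
    · show (c (St χ) 1 : ℂ) * (χ : G → ℂ) 1 = _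
      rw [map_one, Units.val_one, one_mul, PIto.charDeg_cast χ, hd]
    · show (starRingEnd ℂ) ((c (St χ) g : ℂ) * (χ : G → ℂ) g) = _
      rw [map_mul, hreal g, conj_val]
      conv_lhs => rw [← hsq χ hχ g]
      show _ = (c (St χ) g : ℂ) * (χ : G → ℂ) g
      simp only [MonoidHom.inv_apply, MonoidHom.pow_apply, Units.val_inv_eq_inv_val,
        Units.val_pow_eq_pow_val]
      field_simp
  have hz : ∑ χ ∈ R, (1 : ZMod 2) = 0 := by
    refine Finset.sum_involution (fun χ _ => m χ) (fun χ _ => by decide) ?_ hmem ?_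
    · intro χ hχ _ he
      refine (hcspec χ hχ).1 (Finset.mem_filter.2 ⟨Finset.mem_univ _, fun g => ?_⟩)
      exact congrFun (congrArg Subtype.val he) g
    · intro χ hχ
      refine Subtype.ext (funext fun g => ?_)
      show (c (St (m χ)) g : ℂ) * ((c (St χ) g : ℂ) * (χ : G → ℂ) g) = _
      rw [hSt, ← mul_assoc, ← sq, ← Units.val_pow_eq_pow_val, ← MonoidHom.pow_apply]
      exact hsq χ hχ g
  rw [Finset.sum_const, nsmul_one] at hz
  exact (ZMod.natCast_eq_zero_iff _ 2).1 hz

/-- Let G be a finite 2-group whose number of involutions is congruent to 1 modulo 4. Then G is cyclic or its commutator subgroup has index 4. -/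
theorem result {G : Type*} [Group G] [Finite G] (hG : IsPGroup 2 G) (ht : Nat.card {x : G // orderOf x = 2} % 4 = 1) : IsCyclic G ∨ (commutator G).index = 4 := by
  classical
  letI := Fintype.ofFinite G
  haveI : Finite (G →* ℂˣ) := by
    obtain ⟨e⟩ := dual_equiv (G := G)
    exact Finite.of_equiv _ e.toEquiv.symm
  letI := Fintype.ofFinite (G →* ℂˣ)
  obtain ⟨e⟩ := dual_equiv (G := G)
  have hidx : Nat.card (G →* ℂˣ) = (commutator G).index := by
    rw [Nat.card_congr e.toEquiv, Subgroup.index_eq_card]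
    rfl
  have h2 : IsPGroup 2 (G →* ℂˣ) :=
    IsPGroup.of_equiv (hG.to_quotient (commutator G)) e.symm
  by_cases hr : Nat.card {μ : G →* ℂˣ // μ ^ 2 = 1} ≤ 2
  · left
    haveI := cyclic_of_two_roots h2 hr
    haveI : IsCyclic (G ⧸ commutator G) := isCyclic_of_surjective e e.surjective
    exact Cfsg.Agent.Transfer.MaxClass.isCyclic_of_abelianization hG
  refine Or.inr (by_contra fun hne => ?_)
  rw [← hidx] at hne
  push Not at hr
  have hr4 : 4 ∣ Nat.card {μ : G →* ℂˣ // μ ^ 2 = 1} := by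
    let H : Subgroup (G →* ℂˣ) :=
      { carrier := {μ | μ ^ 2 = 1}
        one_mem' := one_pow 2
        mul_mem' := fun {a b} (ha : a ^ 2 = 1) (hb : b ^ 2 = 1) => show (a * b) ^ 2 = 1 from
          MonoidHom.ext fun g => by
            have e1 := DFunLike.congr_fun ha g
            have e2 := DFunLike.congr_fun hb g
            simp only [MonoidHom.pow_apply, MonoidHom.one_apply, MonoidHom.mul_apply] at e1 e2 ⊢
            rw [mul_pow, e1, e2, one_mul]
        inv_mem' := fun {a} (ha : a ^ 2 = 1) => show a⁻¹ ^ 2 = 1 from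
          MonoidHom.ext fun g => by
            have e1 := DFunLike.congr_fun ha g
            simp only [MonoidHom.pow_apply, MonoidHom.one_apply, MonoidHom.inv_apply] at e1 ⊢
            rw [inv_pow, e1, inv_one] }
    obtain ⟨j, hj⟩ := (h2.to_subgroup H).exists_card_eq
    have hj' : Nat.card {μ : G →* ℂˣ // μ ^ 2 = 1} = 2 ^ j := hj
    rw [hj']
    rcases (show j = 0 ∨ j = 1 ∨ 2 ≤ j by omega) with rfl | rfl | hj2
    · rw [pow_zero] at hj'; omega
    · rw [pow_one] at hj'; omega
    · exact dvd_trans (by norm_num) (pow_dvd_pow 2 hj2)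
  have heven := even_real h2 (Nat.le_of_dvd (by omega) hr4) hne
  -- the involution count
  let d : Cfsg.IrrCharacter G → ℕ := fun χ => Cfsg.charDegree (χ : G → ℂ)
  have hn0 : (Nat.card G : ℂ) ≠ 0 := Nat.cast_ne_zero.mpr Nat.card_pos.ne'
  have hcount : (Nat.card {g : G // g * g = 1} : ℂ) =
      ∑ χ : Cfsg.IrrCharacter G, (d χ : ℂ) * Cfsg.Agent.Block.FS.ind (χ : G → ℂ) := by
    calc (Nat.card {g : G // g * g = 1} : ℂ)
        = (Nat.card G : ℂ)⁻¹ * ∑ g : G, (if g * g = 1 then (Nat.card G : ℂ) else 0) := by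
          rw [← Finset.sum_filter, Finset.sum_const, nsmul_eq_mul, Nat.card_eq_fintype_card,
            Fintype.card_subtype, mul_comm _ ((_ : ℂ) * _), mul_assoc, mul_inv_cancel₀ hn0, mul_one]
      _ = (Nat.card G : ℂ)⁻¹ * ∑ g : G, ∑ χ : IrrCharacter G, (χ : G → ℂ) 1 * (χ : G → ℂ) (g * g) := by
          congr 1
          exact Finset.sum_congr rfl fun g _ => (regular_expansion (g * g)).symm
      _ = _ := by
          rw [Finset.sum_comm, Finset.mul_sum]
          refine Finset.sum_congr rfl fun χ _ => ?_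
          rw [← Finset.mul_sum, Cfsg.Agent.Block.FS.ind, PIto.charDeg_cast χ]
          ring
  let ν : Cfsg.IrrCharacter G → ℤ := fun χ =>
    if Cfsg.Agent.Block.FS.ind (χ : G → ℂ) = 0 then 0
    else if Cfsg.Agent.Block.FS.ind (χ : G → ℂ) = 1 then 1 else -1
  have hν : ∀ χ : Cfsg.IrrCharacter G, Cfsg.Agent.Block.FS.ind (χ : G → ℂ) = ν χ := by
    intro χ
    simp only [ν]
    rcases Cfsg.Agent.Block.FS.ind_eq χ with ⟨h, -⟩ | ⟨h | h, -⟩ <;> rw [h] <;> norm_num
  have hνr : ∀ χ, ν χ = 0 ∨ ν χ = 1 ∨ ν χ = -1 := fun χ => by simp only [ν]; split_ifs <;> simp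
  have hz : (Nat.card {g : G // g * g = 1} : ℤ) = ∑ χ : Cfsg.IrrCharacter G, (d χ : ℤ) * ν χ := by
    have : ((Nat.card {g : G // g * g = 1} : ℤ) : ℂ) = ((∑ χ : Cfsg.IrrCharacter G, (d χ : ℤ) * ν χ : ℤ) : ℂ) := by
      push_cast
      rw [hcount]
      simp only [hν]
    exact_mod_cast this
  have hm : Nat.card {g : G // g * g = 1} = Nat.card {t : G // orderOf t = 2} + 1 := by
    rw [Nat.card_eq_fintype_card, Nat.card_eq_fintype_card, Fintype.card_subtype, Fintype.card_subtype,
      show (Finset.univ.filter fun g : G => g * g = 1) =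
        insert 1 (Finset.univ.filter fun g : G => orderOf g = 2) by
        ext g
        simp only [Finset.mem_filter, Finset.mem_univ, true_and, Finset.mem_insert]
        rw [← pow_two, ← orderOf_dvd_iff_pow_eq_one, Nat.dvd_prime Nat.prime_two, orderOf_eq_one_iff],
      Finset.card_insert_of_notMem (by simp)]
  set L1 := Finset.univ.filter fun χ : Cfsg.IrrCharacter G => d χ = 1 ∧
    Cfsg.Agent.Block.FS.ind (χ : G → ℂ) = 1 with hL1
  set R := Finset.univ.filter fun χ : Cfsg.IrrCharacter G => Cfsg.charDegree (χ : G → ℂ) = 2 ∧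
    ∀ g, (starRingEnd ℂ) ((χ : G → ℂ) g) = (χ : G → ℂ) g with hR
  have hLc : L1.card = Nat.card {μ : G →* ℂˣ // μ ^ 2 = 1} := by
    rw [Nat.card_eq_fintype_card, Fintype.card_subtype]
    symm
    refine Finset.card_bij (fun μ _ => ⟨fun g => (μ g : ℂ), isIrr_linear μ⟩) ?_ ?_ ?_
    · intro μ hμ
      refine Finset.mem_filter.2 ⟨Finset.mem_univ _, PIto.charDeg_eq (by simp), ?_⟩
      show Cfsg.Agent.Block.FS.ind (fun g => (μ g : ℂ)) = 1
      rw [ind_linear, if_pos (Finset.mem_filter.1 hμ).2]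
    · exact fun a _ b _ h => MonoidHom.ext fun g => Units.ext (congrFun (congrArg Subtype.val h) g)
    · intro χ hχ
      obtain ⟨-, h1, h3⟩ := Finset.mem_filter.1 hχ
      obtain ⟨l, hl⟩ := linearHom_of_isCharacter (IsIrr.isCharacter χ.2)
        (by rw [PIto.charDeg_cast χ, show Cfsg.charDegree (χ : G → ℂ) = 1 from h1, Nat.cast_one])
      refine ⟨l, Finset.mem_filter.2 ⟨Finset.mem_univ _, ?_⟩, Subtype.ext hl.symm⟩
      rw [show (χ : G → ℂ) = fun g => (l g : ℂ) from hl, ind_linear] at h3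
      by_contra hne2
      rw [if_neg hne2] at h3
      exact zero_ne_one h3
  have key : ∀ χ : Cfsg.IrrCharacter G, (((d χ : ℤ) * ν χ : ℤ) : ZMod 4) =
      (if χ ∈ L1 then 1 else 0) + (if χ ∈ R then 2 else 0) := by
    intro χ
    obtain ⟨a, ha⟩ := IsPGroup.iff_card.1 hG
    obtain ⟨j, -, hj⟩ := (Nat.dvd_prime_pow Nat.prime_two).1 (ha ▸ (IsIrr.degree_dvd_card χ.2 (PIto.charDeg_cast χ) : Cfsg.charDegree (χ : G → ℂ) ∣ Nat.card G))
    rcases (show j = 0 ∨ j = 1 ∨ 2 ≤ j by omega) with rfl | rfl | hj2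
    · have hd1 : d χ = 1 := hj
      have hR' : χ ∉ R := fun h => by
        have := (Finset.mem_filter.1 h).2.1
        have hj' : Cfsg.charDegree (χ : G → ℂ) = 2 ^ 0 := hj
        rw [hj'] at this; norm_num at this
      rw [if_neg hR', hd1, Nat.cast_one, one_mul, add_zero]
      obtain ⟨l, hl⟩ := linearHom_of_isCharacter (IsIrr.isCharacter χ.2)
        (by rw [PIto.charDeg_cast χ, show Cfsg.charDegree (χ : G → ℂ) = 2 ^ 0 from hj]; simp)
      have hi := hν χ
      rw [show (χ : G → ℂ) = fun g => (l g : ℂ) from hl, ind_linear] at hi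
      have hmemL : χ ∈ L1 ↔ l ^ 2 = 1 := by
        simp only [hL1, Finset.mem_filter, Finset.mem_univ, true_and, hd1]
        rw [show (χ : G → ℂ) = fun g => (l g : ℂ) from hl, ind_linear]
        split_ifs with h <;> simp [h]
      by_cases h : l ^ 2 = 1
      · rw [if_pos h] at hi
        rw [if_pos (hmemL.2 h), show ν χ = 1 by exact_mod_cast hi.symm, Int.cast_one]
      · rw [if_neg h] at hi
        rw [if_neg (fun h' => h (hmemL.1 h')), show ν χ = 0 by exact_mod_cast hi.symm, Int.cast_zero]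
    · have hd2 : d χ = 2 := hj
      rw [if_neg (fun h => by have := (Finset.mem_filter.1 h).2.1; omega), zero_add, hd2]
      rcases Cfsg.Agent.Block.FS.ind_eq χ with ⟨h, hn⟩ | ⟨h, hr'⟩
      · rw [if_neg (fun h' => hn (Finset.mem_filter.1 h').2.2)]
        rw [show ν χ = 0 by simp only [ν, if_pos h]]
        decide
      · rw [if_pos (Finset.mem_filter.2 ⟨Finset.mem_univ _, hd2, hr'⟩)]
        rcases hνr χ with h0 | h0 | h0
        · rw [hν, h0] at h; norm_num at h
        · rw [h0]; decide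
        · rw [h0]; decide
    · have h4 : 4 ∣ d χ := by
        show 4 ∣ Cfsg.charDegree (χ : G → ℂ)
        rw [hj]; exact dvd_trans (by norm_num) (pow_dvd_pow 2 hj2)
      have hd3 : d χ ≠ 1 ∧ d χ ≠ 2 := by
        have : 0 < d χ := by show 0 < Cfsg.charDegree (χ : G → ℂ); rw [hj]; positivity
        have := Nat.le_of_dvd this h4
        omega
      rw [if_neg (fun h => hd3.1 (Finset.mem_filter.1 h).2.1),
        if_neg (fun h => hd3.2 (Finset.mem_filter.1 h).2.1), add_zero, Int.cast_mul, Int.cast_natCast,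
        (ZMod.natCast_eq_zero_iff (d χ) 4).2 h4, zero_mul]
  have hfin : ((Nat.card {g : G // g * g = 1} : ℕ) : ZMod 4) = 0 := by
    rw [← Int.cast_natCast, hz, Int.cast_sum, Finset.sum_congr rfl fun χ _ => key χ,
      Finset.sum_add_distrib, Finset.sum_ite_mem, Finset.sum_ite_mem, Finset.univ_inter,
      Finset.univ_inter, Finset.sum_const, Finset.sum_const, nsmul_eq_mul, nsmul_eq_mul, mul_one,
      hLc, (ZMod.natCast_eq_zero_iff _ 4).2 hr4, zero_add]
    obtain ⟨q, hq⟩ := heven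
    rw [hq, Nat.cast_mul, mul_comm, ← mul_assoc]
    rw [show ((2 : ZMod 4) * ((2 : ℕ) : ZMod 4)) = 0 by decide, zero_mul]
  rw [ZMod.natCast_eq_zero_iff, hm] at hfin
  omega

end Cfsg.Agent.S4477
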