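import Cfsg.Statements.S4478
import Cfsg.Agent.Lib.Block.Separated
import Cfsg.Agent.Lib.Block.SchurIndicator
import Cfsg.Agent.Lib.Char.ModP
import Cfsg.Agent.Lib.Char.Integral

set_option autoImplicit false
open Cfsg

namespace Cfsg.Agent.S4478
open Cfsg.Agent.Char

universe u

theorem vanish_of_full {G : Type u} [Group G] [Finite G] (χ : IrrCharacter G) {p : ℕ} (hp : p.Prime)
    (h : p ^ (Nat.card G).factorization p ∣ charDegree (χ : G → ℂ)) {g : G} (hg : p ∣ orderOf g) :
    (χ : G → ℂ) g = 0 := by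
  haveI : Fact p.Prime := ⟨hp⟩
  obtain ⟨M, hM⟩ := exists_isPModular p hp
  have hdvd : charDegree (χ : G → ℂ) ∣ Nat.card G := by
    haveI := Fintype.ofFinite G
    exact IsIrr.degree_dvd_card χ.2 (Cfsg.Agent.Block.charDeg_spec' χ)
  have h0 : charDegree (χ : G → ℂ) ≠ 0 := fun e => by
    rw [e, zero_dvd_iff] at hdvd
    exact Nat.card_pos.ne' hdvd
  refine Cfsg.Agent.Block.defectZero_vanish hM χ (le_antisymm ?_ ?_) hg
  · exact ((Nat.factorization_le_iff_dvd h0 Nat.card_pos.ne').2 hdvd) p
  · exact (hp.pow_dvd_iff_le_factorization h0).1 h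

/-- Let G be a finite group of even order and χ an irreducible character of G whose degree x is divisible by the full power of 2 dividing the order of G and, for every odd prime p such that G has an element of order 2p, by the full power of p dividing the order of G. Then all involutions of G are conjugate, the centralizer of every involution has order exactly x with x coprime to its index, and the Frobenius–Schur indicator of χ equals 1. -/
theorem result {G : Type*} [Group G] [Fintype G] (heven : Even (Nat.card G)) (χ : Cfsg.IrrCharacter G) (h2 : 2 ^ (Nat.card G).factorization 2 ∣ Cfsg.charDegree (χ : G → ℂ)) (hp : ∀ p : ℕ, p.Prime → p ≠ 2 → (∃ g : G, orderOf g = 2 * p) → p ^ (Nat.card G).factorization p ∣ Cfsg.charDegree (χ : G → ℂ)) : (∀ s t : G, orderOf s = 2 → orderOf t = 2 → IsConj s t) ∧ (∀ s : G, orderOf s = 2 → Nat.card (Subgroup.centralizer ({s} : Set G)) = Cfsg.charDegree (χ : G → ℂ) ∧ (Nat.card (Subgroup.centralizer ({s} : Set G))).Coprime (Subgroup.centralizer ({s} : Set G)).index)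 ∧ (Nat.card G : ℂ)⁻¹ * ∑ g : G, (χ : G → ℂ) (g * g) = 1 := by
  classical
  set x := Cfsg.charDegree (χ : G → ℂ) with hxdef
  have hx : (χ : G → ℂ) 1 = (x : ℂ) := Cfsg.Agent.Block.charDeg_spec' χ
  have hx0 : 0 < x := Nat.pos_of_ne_zero fun e => IsIrr.one_ne_zero χ.2 (by rw [hx, e, Nat.cast_zero])
  have h2v : ∀ g : G, 2 ∣ orderOf g → (χ : G → ℂ) g = 0 := fun g hg =>
    vanish_of_full χ Nat.prime_two h2 hg
  -- squares of even-order elements
  have hsq : ∀ g : G, orderOf g ≠ 2 → 2 ∣ orderOf g → (χ : G → ℂ) (g * g) = 0 := by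
    intro g hne hev
    have hpos := orderOf_pos g
    have hord : orderOf (g * g) = orderOf g / 2 := by
      rw [← pow_two, orderOf_pow, Nat.gcd_eq_right hev]
    by_cases h4 : 2 ∣ orderOf g / 2
    · exact h2v _ (hord ▸ h4)
    · obtain ⟨k, hk⟩ := hev
      have hk2 : orderOf g / 2 = k := by omega
      obtain ⟨r, hr, hrk⟩ := Nat.exists_prime_and_dvd (show k ≠ 1 by omega)
      have hr2 : r ≠ 2 := fun e => h4 (by rw [hk2]; exact e ▸ hrk)
      refine vanish_of_full χ hr (hp r hr hr2 ?_) (by rw [hord, hk2]; exact hrk)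
      obtain ⟨c, hc⟩ := hrk
      refine ⟨g ^ c, ?_⟩
      rw [orderOf_pow, hk, hc, show 2 * (r * c) = c * (2 * r) by ring, Nat.gcd_mul_right_left]
      exact Nat.mul_div_cancel_left _ (Nat.pos_of_ne_zero fun e => by rw [e, mul_zero] at hc; omega)
  -- odd part
  set O : Finset G := Finset.univ.filter (fun g => ¬ 2 ∣ orderOf g) with hO
  set T : Finset G := Finset.univ.filter (fun g => orderOf g = 2) with hT
  obtain ⟨s₀, hs₀⟩ := exists_prime_orderOf_dvd_card' (G := G) 2 (even_iff_two_dvd.1 heven)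
  have hodd : ∑ g ∈ O, (χ : G → ℂ) (g * g) = ∑ g ∈ O, (χ : G → ℂ) g := by
    refine Finset.sum_bij (fun g _ => g * g) ?_ ?_ ?_ fun g _ => rfl
    · intro g hg
      refine Finset.mem_filter.2 ⟨Finset.mem_univ _, fun h => (Finset.mem_filter.1 hg).2 ?_⟩
      exact h.trans ((pow_two g ▸ orderOf_pow_dvd 2 : orderOf (g * g) ∣ orderOf g))
    · intro a ha b hb e
      have key : ∀ g : G, ¬ 2 ∣ orderOf g → (g * g) ^ ((orderOf g + 1) / 2) = g := fun g hg => by
        rw [← pow_two, ← pow_mul, show 2 * ((orderOf g + 1) / 2) = orderOf g + 1 by omega, pow_succ,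
          pow_orderOf_eq_one, one_mul]
      have hoa := (Finset.mem_filter.1 ha).2
      have hob := (Finset.mem_filter.1 hb).2
      have hord : orderOf a = orderOf b := by
        have e1 : orderOf (a * a) = orderOf a := by
          rw [← pow_two, orderOf_pow, Nat.gcd_comm, ((Nat.prime_two.coprime_iff_not_dvd).2 hoa).gcd_eq_one, Nat.div_one]
        have e2 : orderOf (b * b) = orderOf b := by
          rw [← pow_two, orderOf_pow, Nat.gcd_comm, ((Nat.prime_two.coprime_iff_not_dvd).2 hob).gcd_eq_one, Nat.div_one]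
        rw [← e1, ← e2, show a * a = b * b from e]
      rw [← key a hoa, ← key b hob, show a * a = b * b from e, hord]
    · intro b hb
      have hob := (Finset.mem_filter.1 hb).2
      refine ⟨b ^ ((orderOf b + 1) / 2), Finset.mem_filter.2 ⟨Finset.mem_univ _, fun h =>
        hob (h.trans (orderOf_pow_dvd _))⟩, ?_⟩
      rw [← pow_add, show (orderOf b + 1) / 2 + (orderOf b + 1) / 2 = orderOf b + 1 by omega, pow_succ,
        pow_orderOf_eq_one, one_mul]
  have hall : ∑ g : G, (χ : G → ℂ) g = 0 := by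
    have hne : (χ : G → ℂ) ≠ fun _ => 1 := by
      intro e
      have := h2v s₀ (by rw [hs₀])
      rw [congrFun e s₀] at this
      exact one_ne_zero this
    have := classInner_irr_ne χ.2 isIrr_one hne
    simp only [Cfsg.classInner, map_one, mul_one, mul_eq_zero, inv_eq_zero, Nat.cast_eq_zero] at this
    exact this.resolve_left Nat.card_pos.ne'
  have hsum : ∑ g : G, (χ : G → ℂ) (g * g) = (T.card : ℂ) * x := by
    rw [← Finset.sum_filter_add_sum_filter_not Finset.univ (fun g : G => ¬ 2 ∣ orderOf g)]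
    have hzero : ∑ g ∈ O, (χ : G → ℂ) g = 0 := by
      rw [← hall]
      refine Finset.sum_subset (Finset.subset_univ _) fun g _ hg => h2v g ?_
      by_contra h
      exact hg (Finset.mem_filter.2 ⟨Finset.mem_univ _, h⟩)
    rw [show ∑ g ∈ Finset.univ.filter (fun g : G => ¬ 2 ∣ orderOf g), (χ : G → ℂ) (g * g) = 0 from
      hodd.trans hzero, zero_add]
    rw [← Finset.sum_subset (s₁ := T) (fun g hg => ?_) (fun g hg hgT => ?_)]
    · rw [Finset.sum_congr rfl fun g hg => show _ = (x : ℂ) by
        rw [← pow_two, ← (Finset.mem_filter.1 hg).2, pow_orderOf_eq_one, hx], Finset.sum_const, nsmul_eq_mul]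
    · exact Finset.mem_filter.2 ⟨Finset.mem_univ _, not_not.2 (by rw [(Finset.mem_filter.1 hg).2])⟩
    · exact hsq g (fun e => hgT (Finset.mem_filter.2 ⟨Finset.mem_univ _, e⟩)) (not_not.1 (Finset.mem_filter.1 hg).2)
  have hT0 : 0 < T.card := Finset.card_pos.2 ⟨s₀, Finset.mem_filter.2 ⟨Finset.mem_univ _, hs₀⟩⟩
  have hν : (Nat.card G : ℂ)⁻¹ * ∑ g : G, (χ : G → ℂ) (g * g) = 1 := by
    have hval : (Nat.card G : ℂ)⁻¹ * ∑ g : G, (χ : G → ℂ) (g * g) = ((((T.card * x : ℕ) : ℝ) / (Nat.card G : ℝ) : ℝ) : ℂ) := by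
      rw [hsum]; push_cast; rw [div_eq_inv_mul]
    have hposr : (0 : ℝ) < ((T.card * x : ℕ) : ℝ) / (Nat.card G : ℝ) :=
      div_pos (by exact_mod_cast Nat.mul_pos hT0 hx0) (by exact_mod_cast Nat.card_pos)
    rcases Cfsg.Agent.Block.FS.ind_eq χ with ⟨h, -⟩ | ⟨h | h, -⟩ <;>
      rw [Cfsg.Agent.Block.FS.ind, hval] at h
    · exact absurd (Complex.ofReal_eq_zero.1 h) hposr.ne'
    · rw [hval, h]
    · rw [← Complex.ofReal_one, ← Complex.ofReal_neg, Complex.ofReal_inj] at h
      linarith
  have htx : T.card * x = Nat.card G := by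
    rw [hsum, inv_mul_eq_iff_eq_mul₀ (Nat.cast_ne_zero.2 Nat.card_pos.ne'), mul_one] at hν
    exact_mod_cast hν
  have hC : ∀ s : G, orderOf s = 2 → Nat.card (Subgroup.centralizer ({s} : Set G)) ∣ x ∧
      ∀ r : ℕ, r.Prime → r ∣ Nat.card (Subgroup.centralizer ({s} : Set G)) →
        r ^ (Nat.card G).factorization r ∣ x := by
    intro s hs
    have hfull : ∀ r : ℕ, r.Prime → r ∣ Nat.card (Subgroup.centralizer ({s} : Set G)) →
        r ^ (Nat.card G).factorization r ∣ x := by
      intro r hr hrd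
      rcases eq_or_ne r 2 with rfl | hr2
      · exact h2
      haveI : Fact r.Prime := ⟨hr⟩
      obtain ⟨c, hc⟩ := exists_prime_orderOf_dvd_card' r hrd
      refine hp r hr hr2 ⟨s * (c : G), ?_⟩
      rw [(show Commute s (c : G) from (Subgroup.mem_centralizer_singleton_iff.1 c.2).symm).orderOf_mul_eq_mul_orderOf_of_coprime
        (by rw [hs, Subgroup.orderOf_coe, hc]; exact (Nat.coprime_primes Nat.prime_two hr).2 hr2.symm),
        hs, Subgroup.orderOf_coe, hc]
    refine ⟨(Nat.dvd_iff_prime_pow_dvd_dvd _ _).2 fun r k hr hrk => ?_, hfull⟩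
    rcases Nat.eq_zero_or_pos k with rfl | hk
    · simp
    refine dvd_trans (pow_dvd_pow r ?_) (hfull r hr ((dvd_pow_self r hk.ne').trans hrk))
    exact (hr.pow_dvd_iff_le_factorization Nat.card_pos.ne').1 (hrk.trans (Subgroup.card_subgroup_dvd_card _))
  have hclass : ∀ s : G, orderOf s = 2 → (Finset.univ.filter fun g : G => IsConj g s).card *
      Nat.card (Subgroup.centralizer ({s} : Set G)) = Nat.card G := by
    intro s _
    rw [← Fintype.card_subtype, ← Nat.card_eq_fintype_card,
      show Nat.card {g : G // IsConj g s} = (Subgroup.centralizer ({s} : Set G)).index from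
        (Nat.card_congr (Equiv.subtypeEquivRight fun g => ⟨IsConj.symm, IsConj.symm⟩)).trans (card_conjClass s)]
    exact Subgroup.index_mul_card _
  have hconj : ∀ s : G, orderOf s = 2 → T = Finset.univ.filter (fun g : G => IsConj g s) ∧
      Nat.card (Subgroup.centralizer ({s} : Set G)) = x := by
    intro s hs
    have hsub : Finset.univ.filter (fun g : G => IsConj g s) ⊆ T := fun g hg => by
      obtain ⟨c, hc⟩ := isConj_iff.1 (Finset.mem_filter.1 hg).2
      refine Finset.mem_filter.2 ⟨Finset.mem_univ _, ?_⟩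
      rw [← hs, ← hc, ← MulAut.conj_apply, MulEquiv.orderOf_eq]
    have hle := Finset.card_le_card hsub
    have hCx := Nat.le_of_dvd hx0 (hC s hs).1
    have e := hclass s hs
    rw [← htx] at e
    have heq : T.card ≤ (Finset.univ.filter fun g : G => IsConj g s).card := by
      by_contra hlt
      push Not at hlt
      have := Nat.mul_le_mul_left (Finset.univ.filter fun g : G => IsConj g s).card hCx
      nlinarith
    have hTeq := Finset.eq_of_subset_of_card_le hsub heq
    refine ⟨hTeq.symm, ?_⟩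
    rw [hTeq] at e
    exact mul_left_cancel₀ hT0.ne' e
  refine ⟨fun s t hs ht => ?_, fun s hs => ⟨(hconj s hs).2, ?_⟩, hν⟩
  · have : s ∈ T := Finset.mem_filter.2 ⟨Finset.mem_univ _, hs⟩
    rw [(hconj t ht).1] at this
    exact (Finset.mem_filter.1 this).2
  · refine Nat.coprime_of_dvd fun r hr hrC hri => ?_
    have h1 := (hC s hs).2 r hr hrC
    rw [← (hconj s hs).2] at h1
    have h2' := mul_dvd_mul h1 hri
    rw [Subgroup.card_mul_index, ← pow_succ] at h2'
    have := (hr.pow_dvd_iff_le_factorization Nat.card_pos.ne').1 h2'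
    omega

end Cfsg.Agent.S4478
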