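import Cfsg.Statements.S4479
import Cfsg.Agent.Lib.Block.KleinOrder
-- import your own Cfsg.Agent.* helpers here

set_option autoImplicit false
open Cfsg

namespace Cfsg.Agent.S4479

/-- An order formula from the principal 2-block. Let G be a finite group of order 4·g₀ with g₀ odd having no normal 2-complement (no normal subgroup of order g₀); let P be a Sylow 2-subgroup, J an involution of P, and fix a maximal ideal M of the algebraic integers containing 2. Suppose the principal 2-block consists of the principal character and three further distinct characters χ₁, χ₂, χ₃ of degrees x₁, x₂, x₃, with χ_i(J) = ε_i = ±1. Then, writing c(J) and c(P) for the orders of the centralizers of J and of P, the order of G equals 8·α·c(J)³/c(P)² with α = x₁x₂x₃ / ((x₁ + ε₁)(x₂ + ε₂)(x₃ + ε₃)). -/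
theorem result {G : Type*} [Group G] [Finite G] (M : Ideal Cfsg.AlgInt) (hM : Cfsg.IsPModular 2 M) (g₀ : ℕ) (hg₀ : Odd g₀) (hG : Nat.card G = 4 * g₀) (hnc : ¬ ∃ N : Subgroup G, N.Normal ∧ Nat.card N = g₀) (P : Sylow 2 G) (J : G) (hJ : J ∈ (P : Subgroup G)) (hJ2 : orderOf J = 2) (χ₁ χ₂ χ₃ : Cfsg.IrrCharacter G) (ε₁ ε₂ ε₃ : ℤ) (hB : Cfsg.principalBlock M G = {χ : Cfsg.IrrCharacter G | (χ : G → ℂ) = (fun _ => 1) ∨ χ = χ₁ ∨ χ = χ₂ ∨ χ = χ₃}) (hdist : (χ₁ : G → ℂ) ≠ (fun _ => 1) ∧ (χ₂ : G → ℂ) ≠ (fun _ => 1) ∧ (χ₃ : G → ℂ) ≠ (fun _ => 1) ∧ χ₁ ≠ χ₂ ∧ χ₁ ≠ χ₃ ∧ χ₂ ≠ χ₃) (hε : (ε₁ = 1 ∨ ε₁ = -1) ∧ (ε₂ = 1 ∨ ε₂ = -1) ∧ (ε₃ = 1 ∨ ε₃ = -1)) (hval : (χ₁ : G → ℂ) J = ε₁ ∧ (χ₂ : G → ℂ) J = ε₂ ∧ (χ₃ : G → ℂ) J = ε₃) : (Nat.card G : ℚ) = 8 * (((Cfsg.charDegree (χ₁ : G → ℂ) : ℚ) * Cfsg.charDegree (χ₂ : G → ℂ) * Cfsg.charDegree (χ₃ : G → ℂ)) / ((Cfsg.charDegree (χ₁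 : G → ℂ) + ε₁) * (Cfsg.charDegree (χ₂ : G → ℂ) + ε₂) * (Cfsg.charDegree (χ₃ : G → ℂ) + ε₃))) * (Nat.card (Subgroup.centralizer ({J} : Set G)) : ℚ) ^ 3 / (Nat.card (Subgroup.centralizer ((P : Subgroup G) : Set G)) : ℚ) ^ 2 := by
  classical
  cases nonempty_fintype G
  haveI : Fact (Nat.Prime 2) := ⟨Nat.prime_two⟩
  obtain ⟨hP, hone⟩ := Block.KleinOrder.setup_of_no_complement P hg₀ hG hnc
  obtain ⟨n1, n2, n3, d12, d13, d23⟩ := hdist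
  obtain ⟨v1, v2, v3⟩ := hval
  set A := Finset.univ.filter (fun χ : IrrCharacter G => χ ∈ Cfsg.principalBlock M G) with hA
  have hAeq : A = {Block.trivialIrr G, χ₁, χ₂, χ₃} := by
    ext χ
    simp only [A, Finset.mem_filter, Finset.mem_univ, true_and, hB, Set.mem_setOf_eq,
      Finset.mem_insert, Finset.mem_singleton]
    exact or_congr ⟨fun h => Subtype.ext h, fun h => by rw [h]; rfl⟩ Iff.rfl
  have t1 : Block.trivialIrr G ≠ χ₁ := fun h => n1 (by rw [← h]; rfl)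
  have t2 : Block.trivialIrr G ≠ χ₂ := fun h => n2 (by rw [← h]; rfl)
  have t3 : Block.trivialIrr G ≠ χ₃ := fun h => n3 (by rw [← h]; rfl)
  have hsum : ∀ F : IrrCharacter G → ℂ, ∑ χ ∈ A, F χ =
      F (Block.trivialIrr G) + F χ₁ + F χ₂ + F χ₃ := fun F => by
    rw [hAeq, Finset.sum_insert (by simp [t1, t2, t3]), Finset.sum_insert (by simp [d12, d13]),
      Finset.sum_insert (by simp [d23]), Finset.sum_singleton]
    ring
  have htr : ∀ g, ((Block.trivialIrr G : IrrCharacter G) : G → ℂ) g = 1 := fun _ => rfl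
  set c := Nat.card (Subgroup.centralizer ({J} : Set G)) with hc
  set cP := Nat.card (Subgroup.centralizer ((P : Subgroup G) : Set G)) with hcP
  set x₁ := Cfsg.charDegree (χ₁ : G → ℂ) with hx₁
  set x₂ := Cfsg.charDegree (χ₂ : G → ℂ) with hx₂
  set x₃ := Cfsg.charDegree (χ₃ : G → ℂ) with hx₃
  have hw := Block.weak_orth hM (Block.isPBlock_principalBlock (M := M) (G := G)) (x := 1) (y := J)
    (by rw [orderOf_one]; norm_num) (by rw [hJ2])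
  rw [Block.finsum_mem_block] at hw
  simp only [← hA] at hw
  rw [hsum] at hw
  simp only [htr, v1, v2, v3, map_intCast, map_one, mul_one, Block.charDeg_spec', ← hx₁, ← hx₂,
    ← hx₃] at hw
  have hrel : (1 : ℚ) + x₁ * ε₁ + x₂ * ε₂ + x₃ * ε₃ = 0 := by
    have : (((1 : ℚ) + x₁ * ε₁ + x₂ * ε₂ + x₃ * ε₃ : ℚ) : ℂ) = ((0 : ℚ) : ℂ) := by
      push_cast
      linear_combination hw
    exact_mod_cast this
  have hf := Block.KleinOrder.order_formula hM hP hone hJ hJ2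
  simp only [← hA] at hf
  rw [hsum] at hf
  simp only [htr, v1, v2, v3, Block.charDeg_spec', ← hx₁, ← hx₂, ← hx₃, ← hc, ← hcP] at hf
  have hQ : 8 * (c : ℚ) ^ 3 = (Nat.card G : ℚ) * (cP : ℚ) ^ 2 *
      (1 + (ε₁ : ℚ) ^ 3 / x₁ + (ε₂ : ℚ) ^ 3 / x₂ + (ε₃ : ℚ) ^ 3 / x₃) := by
    have : ((8 * (c : ℚ) ^ 3 : ℚ) : ℂ) = (((Nat.card G : ℚ) * (cP : ℚ) ^ 2 *
      (1 + (ε₁ : ℚ) ^ 3 / x₁ + (ε₂ : ℚ) ^ 3 / x₂ + (ε₃ : ℚ) ^ 3 / x₃) : ℚ) : ℂ) := by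
      push_cast
      rw [hf]
      norm_num
    exact_mod_cast this
  have hx : (x₁ : ℚ) ≠ 0 ∧ (x₂ : ℚ) ≠ 0 ∧ (x₃ : ℚ) ≠ 0 :=
    ⟨Nat.cast_ne_zero.2 (Block.charDeg_pos χ₁).ne', Nat.cast_ne_zero.2 (Block.charDeg_pos χ₂).ne',
      Nat.cast_ne_zero.2 (Block.charDeg_pos χ₃).ne'⟩
  obtain ⟨hx1, hx2, hx3⟩ := hx
  have hcP0 : (cP : ℚ) ≠ 0 := Nat.cast_ne_zero.2 Nat.card_pos.ne'
  have hc0 : (c : ℚ) ≠ 0 := Nat.cast_ne_zero.2 Nat.card_pos.ne'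
  have hprod : (1 + (ε₁ : ℚ) ^ 3 / x₁ + (ε₂ : ℚ) ^ 3 / x₂ + (ε₃ : ℚ) ^ 3 / x₃) *
      (x₁ * x₂ * x₃) = ((x₁ : ℚ) + ε₁) * (x₂ + ε₂) * (x₃ + ε₃) := by
    field_simp
    obtain ⟨e1, e2, e3⟩ := hε
    rcases e1 with rfl | rfl <;> rcases e2 with rfl | rfl <;> rcases e3 with rfl | rfl <;>
      push_cast at hrel ⊢ <;>
      first | linear_combination hrel | linear_combination (-1 : ℚ) * hrel
  have hne : ((x₁ : ℚ) + ε₁) * (x₂ + ε₂) * (x₃ + ε₃) ≠ 0 := by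
    rw [← hprod]
    refine mul_ne_zero (fun h => ?_) (mul_ne_zero (mul_ne_zero hx1 hx2) hx3)
    rw [h, mul_zero] at hQ
    exact mul_ne_zero (by norm_num) (pow_ne_zero 3 hc0) hQ
  rw [← hprod] at hne ⊢
  obtain ⟨hS, -⟩ := mul_ne_zero_iff.1 hne
  set S := (1 + (ε₁ : ℚ) ^ 3 / x₁ + (ε₂ : ℚ) ^ 3 / x₂ + (ε₃ : ℚ) ^ 3 / x₃) with hSdef
  clear_value S
  field_simp
  linear_combination -hQ

end Cfsg.Agent.S4479
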