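import Cfsg.Statements.S4483
import Cfsg.Agent.Lib.Char.Contrib
import Cfsg.Agent.Lib.Char.RealBlock

set_option autoImplicit false
open Cfsg

namespace Cfsg.Agent.S4483

/-- Let G be a finite group of order 2^n·g₀ with g₀ odd, and M a maximal ideal of the algebraic integers containing 2. Every real-valued irreducible character of G of odd degree lies in the principal 2-block; consequently G has at most 2^(2n) real-valued irreducible characters of odd degree. -/
theorem result {G : Type*} [Group G] [Finite G] (M : Ideal Cfsg.AlgInt) (hM : Cfsg.IsPModular 2 M) : (∀ χ : Cfsg.IrrCharacter G, (∀ g : G, ((χ : G → ℂ) g).im = 0) → Odd (Cfsg.charDegree (χ : G → ℂ)) → χ ∈ Cfsg.principalBlock M G) ∧ Nat.card {χ : Cfsg.IrrCharacter G // (∀ g : G, ((χ : G → ℂ) g).im = 0) ∧ Odd (Cfsg.charDegree (χ : G → ℂ))} ≤ 2 ^ (2 * (Nat.card G).factorization 2) := by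
  classical
  haveI := Fintype.ofFinite G
  haveI : Fact (Nat.Prime 2) := ⟨Nat.prime_two⟩
  have h1 : ∀ χ : IrrCharacter G, (∀ g : G, ((χ : G → ℂ) g).im = 0) →
      Odd (charDegree (χ : G → ℂ)) → χ ∈ principalBlock M G := by
    intro χ hreal hodd
    refine Cfsg.Agent.Char.RealBlock.principal_of_odd_real hM hodd fun g => ?_
    have e : Cfsg.Agent.Char.RealBlock.invIrr χ = χ := Subtype.ext (funext fun x => by
      show (χ : G → ℂ) x⁻¹ = _
      rw [Cfsg.Agent.Block.irr_apply_inv, Complex.conj_eq_iff_im.mpr (hreal x)])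
    rw [e, sub_self]
    exact Cfsg.Agent.Block.ideal_zero hM
  refine ⟨h1, ?_⟩
  have hle : Nat.card {χ : IrrCharacter G // (∀ g : G, ((χ : G → ℂ) g).im = 0) ∧
      Odd (charDegree (χ : G → ℂ))} ≤ Nat.card (principalBlock M G) :=
    Nat.card_le_card_of_injective (fun χ => ⟨χ.1, h1 χ.1 χ.2.1 χ.2.2⟩)
      (fun a b h => Subtype.ext (congrArg Subtype.val h :))
  have hk := Cfsg.Agent.Char.Contrib.card_le_bound hM
    (Cfsg.Agent.Block.isPBlock_principalBlock (M := M) (G := G))
  have hd := Cfsg.Agent.Block.blockDefect_le (p := 2) (principalBlock M G)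
  have hpow : 2 ^ (2 * blockDefect 2 (principalBlock M G)) ≤ 2 ^ (2 * (Nat.card G).factorization 2) :=
    Nat.pow_le_pow_right (by norm_num) (Nat.mul_le_mul_left 2 hd)
  have hpos : 1 ≤ 2 ^ (2 * (Nat.card G).factorization 2) := Nat.one_le_pow _ _ (by norm_num)
  omega

end Cfsg.Agent.S4483
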