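import Cfsg.Statements.S4485
import Cfsg.Agent.Lib.Char.UniformCentMain
import Cfsg.Agent.Lib.Char.Constituent

set_option autoImplicit false
open Cfsg

namespace Cfsg.Agent.S4485

universe u

open Cfsg.Agent.Char in
theorem aux (p : ℕ) [Fact p.Prime] : ∀ (k : ℕ) {G : Type u} [Group G] [Finite G],
    Nat.card G = k → ∀ (P : Sylow p G), Unif.Uni P → ∀ (χ : G → ℂ), Cfsg.IsCharacter G χ →
    (∀ g : G, χ g = χ 1 → g = 1) → Cfsg.charDegree χ ^ 2 + 1 < Nat.card P →
    (P : Subgroup G).Normal := by
  intro k
  induction k using Nat.strong_induction_on with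
  | _ k ih =>
  intro G _ _ hk P hU χ hχ hfaith hdeg
  cases nonempty_fintype G
  cases nonempty_fintype (Unif.CC P)
  by_cases hfull : Unif.Full P
  · obtain ⟨n, hn⟩ := IsChar.one_eq_nat hχ
    have hcd : Cfsg.charDegree χ = n := by simp [Cfsg.charDegree, hn]
    have hlin : ∀ φ : Cfsg.IrrCharacter G, classInner χ (φ : G → ℂ) ≠ 0 →
        ∀ a b : G, (φ : G → ℂ) (a * b * a⁻¹ * b⁻¹) = (φ : G → ℂ) 1 := by
      intro φ hφ a b
      by_cases h1 : φ = Unif.triv G
      · subst h1; rfl
      have hle : Unif.deg φ ≤ n := degree_le_of_constituent hχ φ.2 hφ hn (Block.charDeg_spec' φ)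
      obtain ⟨hd, -⟩ := Unif.linear_of_small hfull hU h1
        (lt_of_le_of_lt (Nat.add_le_add_right (Nat.pow_le_pow_left hle 2) 1) (hcd ▸ hdeg))
      obtain ⟨L, hL⟩ := linearHom_of_isCharacter (IsIrr.isCharacter φ.2)
        (by rw [Block.charDeg_spec' φ]; exact_mod_cast hd)
      simp only [hL, map_mul, map_inv, map_one]
      rw [mul_comm (L a) (L b), mul_inv_cancel_right, mul_inv_cancel]
    have hcomm : ∀ a b : G, a * b = b * a := by
      intro a b
      have h : χ (a * b * a⁻¹ * b⁻¹) = χ 1 := by
        obtain ⟨c, hc, hdec⟩ := IsChar.exists_decomp_inner hχ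
        rw [hdec, sum_irr_apply, sum_irr_apply]
        refine Finset.sum_congr rfl fun φ _ => ?_
        by_cases h0 : classInner χ (φ : G → ℂ) = 0
        · rw [show (c φ : ℂ) = 0 by rw [← hc, h0], zero_mul, zero_mul]
        · rw [hlin φ h0]
      have h2 := hfaith _ h
      calc a * b = (a * b * a⁻¹ * b⁻¹) * (b * a) := by group
        _ = b * a := by rw [h2, one_mul]
    exact ⟨fun y hy g => by rwa [hcomm g y, mul_inv_cancel_right]⟩
  · rw [Unif.Full] at hfull
    push Not at hfull
    obtain ⟨K, hK, hle, hne⟩ := hfull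
    have hlt : Nat.card K < k := hk ▸ lt_of_le_of_ne (Subgroup.card_le_card_group K) fun e =>
      hne (Subgroup.card_eq_iff_eq_top K |>.mp e)
    have hQcard : Nat.card (P.subtype hle) = Nat.card P :=
      Nat.card_congr (Subgroup.subgroupOfEquivOfLe hle).toEquiv
    have hmem : ∀ z : K, z ∈ (P.subtype hle : Subgroup K) ↔ (z : G) ∈ (P : Subgroup G) := fun z => by
      rw [Sylow.coe_subtype, Subgroup.mem_subgroupOf]
    have hUK : Unif.Uni (P.subtype hle) := by
      intro x hx hx1
      ext z
      have h1 := hU (x : G) ((hmem x).mp hx) (fun e => hx1 (Subtype.ext e))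
      constructor
      · intro hz
        rw [Subgroup.mem_centralizer_iff]
        intro w hw
        refine Subtype.ext ?_
        have h2 : (z : G) ∈ Subgroup.centralizer ({(x : G)} : Set G) :=
          Subgroup.mem_centralizer_singleton_iff.mpr
            (congrArg Subtype.val (Subgroup.mem_centralizer_singleton_iff.mp hz))
        rw [h1] at h2
        exact Subgroup.mem_centralizer_iff.mp h2 w ((hmem w).mp hw)
      · intro hz
        exact Subgroup.mem_centralizer_singleton_iff.mpr
          (Subgroup.mem_centralizer_iff.mp hz x hx).symm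
    have hn := ih (Nat.card K) hlt (G := K) rfl (P.subtype hle) hUK (fun z : K => χ z)
      (IsChar.res hχ K) (fun z hz => Subtype.ext (hfaith _ hz)) (by
        rw [hQcard]
        have : Cfsg.charDegree (fun z : K => χ z) = Cfsg.charDegree χ := rfl
        rwa [this])
    refine ⟨fun y hy g => ?_⟩
    haveI := hn
    have hsub : ∀ z : K, (z : G) ∈ (P : Subgroup G) ↔ z ∈ (P.subtype hle : Subgroup K) :=
      fun z => (hmem z).symm
    haveI hchar : (P.subtype hle : Subgroup K).Characteristic := Sylow.characteristic_of_normal _ hn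
    haveI := hK
    have hnorm : ((P.subtype hle : Subgroup K).map K.subtype).Normal :=
      ConjAct.normal_of_characteristic_of_normal
    have heq : (P.subtype hle : Subgroup K).map K.subtype = (P : Subgroup G) := by
      rw [Sylow.coe_subtype, Subgroup.subgroupOf_map_subtype, inf_eq_left.mpr hle]
    rw [heq] at hnorm
    exact hnorm.conj_mem y hy g

/-- Let G be a finite group and p a prime dividing its order such that every non-identity element of a Sylow p-subgroup P has the same centralizer as P itself (so P is abelian); let p^n be the order of P. If G has a faithful character of degree x with x² < p^n − 1, then P is normal in G. -/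
theorem result {G : Type*} [Group G] [Finite G] (p : ℕ) (hp : p.Prime) (hpG : p ∣ Nat.card G) (P : Sylow p G) (hstar : ∀ x ∈ (P : Subgroup G), x ≠ 1 → Subgroup.centralizer ({x} : Set G) = Subgroup.centralizer ((P : Subgroup G) : Set G)) (n : ℕ) (hn : Nat.card P = p ^ n) (χ : G → ℂ) (hχ : Cfsg.IsCharacter G χ) (hfaith : ∀ g : G, χ g = χ 1 → g = 1) (hdeg : Cfsg.charDegree χ ^ 2 + 1 < p ^ n) : (P : Subgroup G).Normal := by
  haveI := Fact.mk hp
  exact aux p _ rfl P hstar χ hχ hfaith (hn.symm ▸ hdeg)

end Cfsg.Agent.S4485
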