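import Cfsg.Statements.S4487
import Cfsg.Agent.Lib.Char.PairSupport
import Cfsg.Agent.Lib.Block.Height
import Cfsg.Agent.Lib.Transfer.Cores

set_option autoImplicit false
open Cfsg

namespace Cfsg.Agent.S4487

/-- Let G be a finite group and p a prime such that G has no non-trivial normal subgroup of order prime to p and C_G(O_p(G)) ≤ O_p(G). Then G has a single p-block: any two irreducible characters lie in the same block relative to every maximal ideal M of the algebraic integers containing p. -/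
theorem result {G : Type*} [Group G] [Finite G] (p : ℕ) [Fact p.Prime] (M : Ideal Cfsg.AlgInt) (hM : Cfsg.IsPModular p M) (hcore : Cfsg.pPrimeCore p G = ⊥) (hconstr : Subgroup.centralizer ((Cfsg.pCore p G) : Set G) ≤ Cfsg.pCore p G) (χ ψ : Cfsg.IrrCharacter G) : Cfsg.SameBlock M (χ : G → ℂ) (ψ : G → ℂ) := by
  classical
  cases nonempty_fintype G
  have hp : p.Prime := Fact.out
  have hQ : IsPGroup p (Cfsg.pCore p G) := Cfsg.Agent.Transfer.pCore_isPGroup p G
  haveI : (Cfsg.pCore p G).Normal := Cfsg.Agent.Transfer.pCore_normal' p G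
  set B := Cfsg.blockOf M (χ : G → ℂ) with hB0
  have hB : Cfsg.IsPBlock M B := Cfsg.Agent.Block.isPBlock_blockOf χ
  have hzero : ∀ g : G, g ≠ 1 → Cfsg.Agent.Block.coeffFun (Cfsg.Agent.Block.blockInd B) g = 0 := by
    intro g hg
    rw [← Cfsg.Agent.Block.blockCoeff_eq]
    by_cases hs : p ∣ orderOf g
    · exact Cfsg.Agent.Block.blockCoeff_singular hM hB hs
    refine Cfsg.Agent.Char.BP.supp_of_normal hM hQ hB g fun hgC => hs ?_
    obtain ⟨k, hk⟩ := (IsPGroup.iff_orderOf.1 hQ) ⟨g, hconstr hgC⟩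
    rw [← Subgroup.orderOf_coe] at hk
    rcases Nat.eq_zero_or_pos k with rfl | hk0
    · exact absurd (orderOf_eq_one_iff.1 (by rw [← pow_zero p, ← hk])) hg
    · rw [show orderOf g = p ^ k from hk]; exact dvd_pow_self p hk0.ne'
  have hval : ∀ ξ : Cfsg.IrrCharacter G, Cfsg.Agent.Block.blockInd B ξ =
      Cfsg.Agent.Block.coeffFun (Cfsg.Agent.Block.blockInd B) 1 := fun ξ => by
    rw [← Cfsg.Agent.Block.omegaFun_coeffFun (Cfsg.Agent.Block.blockInd B) ξ,
      Cfsg.Agent.Block.omegaFun, Finset.sum_eq_single (1 : G)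
        (fun g _ hg => by rw [hzero g hg, zero_mul]) (fun h => absurd (Finset.mem_univ _) h),
      mul_div_cancel_right₀ _ (Cfsg.Agent.Block.irr_one_ne_zero ξ)]
  have hψ : ψ ∈ B := by
    by_contra h
    have h1 := hval χ
    rw [← hval ψ, Cfsg.Agent.Block.blockInd_of_mem (Cfsg.Agent.Block.mem_blockOf_self hM χ),
      Cfsg.Agent.Block.blockInd_of_notMem h] at h1
    exact one_ne_zero h1
  exact Cfsg.Agent.Block.pblock_sameBlock hM hB (Cfsg.Agent.Block.mem_blockOf_self hM χ) hψ

end Cfsg.Agent.S4487
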