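import Cfsg.Statements.S4488
import Cfsg.Agent.Lib.Char.PGroupField

set_option autoImplicit false
open Cfsg

namespace Cfsg.Agent.S4488
open Cfsg.Agent.Char

theorem geom_aux (p : ℕ) (hp : 0 < p) : ∀ s : ℕ,
    (p - 1) * (∑ j ∈ Finset.range s, p ^ s / p ^ (j + 1)) + 1 = p ^ s := by
  intro s
  induction s with
  | zero => simp
  | succ s ih =>
    rw [Finset.sum_range_succ']
    have h1 : ∀ j, p ^ (s + 1) / p ^ (j + 1 + 1) = p ^ s / p ^ (j + 1) := fun j => by
      rw [pow_succ p s, pow_succ p (j + 1), Nat.mul_div_mul_right _ _ hp]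
    have h2 : p ^ (s + 1) / p ^ (0 + 1) = p ^ s := by
      rw [pow_succ, zero_add, pow_one, Nat.mul_div_cancel _ hp]
    rw [Finset.sum_congr rfl fun j _ => h1 j, h2, mul_add, pow_succ]
    obtain ⟨q, rfl⟩ : ∃ q, p = q + 1 := Nat.exists_eq_add_of_le' hp
    rw [Nat.add_sub_cancel] at ih ⊢
    nlinarith

theorem part_le {p a s t n : ℕ} (hp : p.Prime) (hn : (p - 1) * p ^ t * p ^ s ≤ n)
    (hb : (p - 1) * a ≤ (p ^ s - 1) + (p - 1) * (t + 1) * p ^ s) :
    a ≤ ∑ i ∈ Finset.range (n + 1), (p - 1) * p ^ t * p ^ s / ((p - 1) * p ^ i) := by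
  have hp1 : 0 < p - 1 := by have := hp.two_le; omega
  have h1 : (p - 1) * a ≤ (p - 1) * (∑ i ∈ Finset.range (t + 1 + s),
      (p - 1) * p ^ t * p ^ s / ((p - 1) * p ^ i)) := by
    refine hb.trans ?_
    rw [Finset.sum_range_add, add_comm (p ^ s - 1)]
    refine le_trans ?_ (le_of_eq (Nat.mul_add (p - 1) _ _).symm)
    refine Nat.add_le_add ?_ ?_
    · rw [mul_assoc (p - 1) (t + 1)]
      refine Nat.mul_le_mul_left _ ?_
      calc (t + 1) * p ^ s = ∑ _i ∈ Finset.range (t + 1), p ^ s := by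
            rw [Finset.sum_const, Finset.card_range, smul_eq_mul]
        _ ≤ _ := Finset.sum_le_sum fun i hi => by
            rw [mul_assoc, Nat.mul_div_mul_left _ _ hp1, Nat.le_div_iff_mul_le (pow_pos hp.pos i), mul_comm]
            exact Nat.mul_le_mul_right _ (Nat.pow_le_pow_right hp.pos (by have := Finset.mem_range.1 hi; omega))
    · have h2 : ∀ j, (p - 1) * p ^ t * p ^ s / ((p - 1) * p ^ (t + 1 + j)) = p ^ s / p ^ (j + 1) := fun j => by
        rw [mul_assoc, Nat.mul_div_mul_left _ _ hp1, add_assoc, pow_add p t, add_comm 1 j,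
          Nat.mul_div_mul_left _ _ (pow_pos hp.pos t)]
      rw [Finset.sum_congr rfl fun j _ => h2 j]
      have := geom_aux p hp.pos s
      omega
  refine (Nat.le_of_mul_le_mul_left h1 hp1).trans (Finset.sum_le_sum_of_subset (Finset.range_mono ?_))
  have h3 : t + s < p ^ (t + s) := Nat.lt_pow_self hp.one_lt
  have h4 : p ^ (t + s) ≤ n := le_trans (by rw [pow_add, mul_assoc]; exact Nat.le_mul_of_pos_left _ hp1) hn
  omega

/-- Let the finite group G have a faithful p-rational character χ of degree n (all values of χ lie in the field generated over ℚ by a root of unity of order prime to p), and let p^a be the order of a Sylow p-subgroup of G. Then a ≤ Σ_{i ≥ 0} ⌊n / ((p − 1)·p^i)⌋ (a finite sum; the terms vanish once (p − 1)p^i > n). -/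
theorem result {G : Type*} [Group G] [Finite G] (p : ℕ) (hp : p.Prime) (χ : G → ℂ) (hχ : Cfsg.IsCharacter G χ) (hfaith : ∀ g : G, χ g = χ 1 → g = 1) (hrat : (∃ r : ℕ, 0 < r ∧ ¬ p ∣ r ∧ ∀ g : G, χ g ∈ IntermediateField.adjoin ℚ ({Complex.exp (2 * Real.pi * Complex.I / r)} : Set ℂ))) (n : ℕ) (hn : Cfsg.charDegree χ = n) : (Nat.card G).factorization p ≤ ∑ i ∈ Finset.range (n + 1), n / ((p - 1) * p ^ i) := by
  classical
  haveI := Fact.mk hp
  haveI := Fintype.ofFinite G
  set a := (Nat.card G).factorization p with ha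
  rcases Nat.eq_zero_or_pos a with h0 | ha0
  · rw [h0]; exact Nat.zero_le _
  obtain ⟨P⟩ : Nonempty (Sylow p G) := inferInstance
  have hPcard : Nat.card P = p ^ a := P.card_eq_multiplicity
  letI : Fintype (P : Subgroup G) := Fintype.ofFinite _
  have hPp : IsPGroup p (P : Subgroup G) := P.isPGroup'
  have hm : ∀ g : (P : Subgroup G), g ^ (p ^ a) = 1 := fun g => hPcard ▸ pow_card_eq_one'
  set μ : ↥(P : Subgroup G) → ℂ := fun g => χ g with hμdef
  have hμ : Cfsg.IsCharacter (P : Subgroup G) μ := IsChar.comp (P : Subgroup G).subtype hχ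
  obtain ⟨r, hr0, hpr, hval⟩ := hrat
  have hfix : ∀ k, ¬ p ∣ k → ∀ g : (P : Subgroup G), μ (g ^ k) = μ g := by
    intro k hk g
    set M0 := r * (Nat.card G / p ^ a) with hM0
    have hc1 : Nat.Coprime p (Nat.card G / p ^ a) :=
      hp.coprime_iff_not_dvd.2 (Nat.not_dvd_ordCompl hp Nat.card_pos.ne')
    have hcop : (p ^ a).Coprime M0 :=
      Nat.Coprime.pow_left a ((hp.coprime_iff_not_dvd.2 hpr).mul_right hc1)
    obtain ⟨k', hk1, hk2⟩ := Nat.chineseRemainder hcop k 1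
    have hk'c : k'.Coprime (p ^ a * M0) := by
      refine Nat.Coprime.mul_right ?_ ?_
      · rw [Nat.Coprime, Nat.ModEq.gcd_eq hk1]
        exact ((hp.coprime_iff_not_dvd.2 hk).symm).pow_right a
      · rw [Nat.Coprime, Nat.ModEq.gcd_eq hk2, Nat.gcd_one_left]
    have hM0pos : 0 < M0 := Nat.mul_pos hr0 (Nat.ordCompl_pos p Nat.card_pos.ne')
    obtain ⟨σ, hσ⟩ := exists_ringAut_pow (p ^ a * M0) k' (Nat.mul_pos (pow_pos hp.pos a) hM0pos) hk'c
    have hfixσ : ∀ y ∈ IntermediateField.adjoin ℚ ({Complex.exp (2 * Real.pi * Complex.I / r)} : Set ℂ),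
        σ y = y := by
      intro y hy
      induction hy using IntermediateField.adjoin_induction with
      | mem x hx =>
        rw [Set.mem_singleton_iff] at hx
        subst hx
        have hpr' := Complex.isPrimitiveRoot_exp r hr0.ne'
        have hz : Complex.exp (2 * Real.pi * Complex.I / r) ^ M0 = 1 := by
          rw [hM0, pow_mul, hpr'.pow_eq_one, one_pow]
        rw [hσ _ (by rw [mul_comm (p ^ a) M0, pow_mul, hz, one_pow])]
        conv_rhs => rw [← pow_one (Complex.exp (2 * Real.pi * Complex.I / r))]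
        rw [pow_eq_pow_mod k' hz, pow_eq_pow_mod 1 hz, hk2]
      | algebraMap x => exact map_ratCast σ x
      | add x y _ _ hx hy => rw [map_add, hx, hy]
      | inv x _ hx => rw [map_inv₀, hx]
      | mul x y _ _ hx hy => rw [map_mul, hx, hy]
    have h1 := ringAut_character_eq_pow hμ σ hσ (g := g)
      ((hPcard ▸ orderOf_dvd_natCard g).trans (dvd_mul_right _ _))
    have h2 : σ (μ g) = μ g := hfixσ _ (hval g)
    rw [h2] at h1
    rw [pow_eq_pow_mod k (hm g), ← hk1, ← pow_eq_pow_mod k' (hm g)]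
    exact h1.symm
  obtain ⟨c, hc, hdec⟩ := IsChar.exists_decomp_inner hμ
  have htw : ∀ (ψ ψ' : Cfsg.IrrCharacter (P : Subgroup G)) (k : ℕ), ¬ p ∣ k →
      (ψ' : ↥(P : Subgroup G) → ℂ) = (fun g => (ψ : ↥(P : Subgroup G) → ℂ) (g ^ k)) → c ψ' = c ψ := by
    intro ψ ψ' k hk he
    have hkc : (Nat.card (P : Subgroup G)).Coprime k := by
      rw [hPcard]; exact ((hp.coprime_iff_not_dvd.2 hk)).pow_left a
    have : classInner μ (ψ' : ↥(P : Subgroup G) → ℂ) = classInner μ (ψ : ↥(P : Subgroup G) → ℂ) := by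
      simp only [classInner]
      congr 1
      refine Fintype.sum_equiv (powCoprime hkc) _ _ fun g => ?_
      rw [powCoprime_apply, he, hfix k hk]
    rw [hc ψ', hc ψ] at this
    exact_mod_cast this
  let d : Cfsg.IrrCharacter (P : Subgroup G) → ℕ := fun ψ => Cfsg.charDegree (ψ : ↥(P : Subgroup G) → ℂ)
  have hd : ∀ ψ : Cfsg.IrrCharacter (P : Subgroup G), (ψ : ↥(P : Subgroup G) → ℂ) 1 = (d ψ : ℂ) := fun ψ => by
    obtain ⟨m, -, hm'⟩ := IsIrr.one_eq_pos ψ.2
    simp [d, Cfsg.charDegree, hm']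
  have hmu1 : μ 1 = (n : ℂ) := by
    obtain ⟨m, ρ, hρ⟩ := hχ
    have h : χ 1 = (m : ℂ) := by rw [← hρ, Representation.char_one]; simp
    have hnm : n = m := by rw [← hn, Cfsg.charDegree, h, Complex.natCast_re, Nat.floor_natCast]
    rw [hμdef, hnm]
    simpa using h
  have hsum : ∑ ψ, c ψ * d ψ = n := by
    have h := congrFun hdec 1
    rw [sum_irr_apply, hmu1, Finset.sum_congr rfl fun ψ _ => by rw [hd ψ]] at h
    exact_mod_cast h.symm
  set S := Finset.univ.filter fun ψ : Cfsg.IrrCharacter (P : Subgroup G) =>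
    c ψ ≠ 0 ∧ (ψ : ↥(P : Subgroup G) → ℂ) ≠ fun _ => 1 with hS
  let O : Cfsg.IrrCharacter (P : Subgroup G) → Finset (Cfsg.IrrCharacter (P : Subgroup G)) := fun ψ =>
    S.filter fun φ => (φ : ↥(P : Subgroup G) → ℂ) ∈ PField.Orb p (ψ : ↥(P : Subgroup G) → ℂ)
  set 𝒪 := S.image O with h𝒪
  have hrep : ∀ o ∈ 𝒪, ∃ ψ ∈ S, O ψ = o := fun o ho => by
    obtain ⟨ψ, h1, h2⟩ := Finset.mem_image.1 ho
    exact ⟨ψ, h1, h2⟩
  choose R hRS hRO using hrep
  have hself : ∀ ψ ∈ S, ψ ∈ O ψ := fun ψ hψ => Finset.mem_filter.2 ⟨hψ, PField.self_mem hp _⟩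
  have horbeq : ∀ ψ φ : ↥(P : Subgroup G) → ℂ, φ ∈ PField.Orb p ψ → PField.Orb p φ = PField.Orb p ψ := by
    intro ψ φ h
    letI := PField.twAct (p := p) hm
    rw [PField.orb_eq hm, PField.orb_eq hm]
    rw [PField.orb_eq hm] at h
    exact MulAction.orbit_eq_iff.2 h
  have hdisj : (↑𝒪 : Set (Finset (Cfsg.IrrCharacter (P : Subgroup G)))).PairwiseDisjoint id := by
    intro o ho o' ho' hne
    refine Finset.disjoint_left.2 fun φ h1 h2 => hne ?_
    obtain ⟨ψ, -, rfl⟩ := Finset.mem_image.1 ho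
    obtain ⟨ψ', -, rfl⟩ := Finset.mem_image.1 ho'
    have e1 := horbeq _ _ (Finset.mem_filter.1 (id h1 : φ ∈ O ψ)).2
    have e2 := horbeq _ _ (Finset.mem_filter.1 (id h2 : φ ∈ O ψ')).2
    simp only [O, ← e1, ← e2]
  -- a single orbit
  have horbit : ∀ ψ ∈ S, (O ψ).card = (PField.Orb p (ψ : ↥(P : Subgroup G) → ℂ)).ncard ∧
      ∀ φ ∈ O ψ, d φ = d ψ := by
    intro ψ hψ
    refine ⟨?_, fun φ hφ => ?_⟩
    · rw [← Set.ncard_coe_finset, ← Set.ncard_image_of_injective _ Subtype.val_injective]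
      congr 1
      ext f
      constructor
      · rintro ⟨φ, hφ, rfl⟩
        exact (Finset.mem_filter.1 (Finset.mem_coe.1 hφ)).2
      · intro hf
        obtain ⟨k, hk, rfl⟩ := id hf
        have hi := IsIrr.pow_map ψ.2 (k := k) (by
          rw [hPcard]; exact ((hp.coprime_iff_not_dvd.2 hk).symm).pow_right a)
        obtain ⟨hc0, hne⟩ := (Finset.mem_filter.1 hψ).2
        refine ⟨⟨_, hi⟩, Finset.mem_coe.2 (Finset.mem_filter.2 ⟨Finset.mem_filter.2 ⟨Finset.mem_univ _,
          by rw [htw ψ ⟨_, hi⟩ k hk rfl]; exact hc0, fun h => hne ?_⟩, hf⟩), rfl⟩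
        have h1 : (ψ : ↥(P : Subgroup G) → ℂ) 1 = 1 := by simpa using congrFun h 1
        funext g
        have hg : (ψ : ↥(P : Subgroup G) → ℂ) (g ^ k) = (ψ : ↥(P : Subgroup G) → ℂ) 1 := by
          rw [h1]; exact congrFun h g
        rw [(PField.twist_apply_eq_one (IsIrr.isCharacter ψ.2) hp hPp hk g).1 hg, h1]
    · obtain ⟨k, -, hk⟩ := (Finset.mem_filter.1 hφ).2
      simp [d, Cfsg.charDegree, hk]
  let w : Finset (Cfsg.IrrCharacter (P : Subgroup G)) → ℕ := fun o => ∑ φ ∈ o, d φ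
  have htot : ∑ o ∈ 𝒪, w o ≤ n := by
    rw [← hsum]
    refine le_trans (le_of_eq (Finset.sum_biUnion hdisj).symm) ?_
    refine le_trans (Finset.sum_le_sum fun φ hφ => ?_) (Finset.sum_le_sum_of_subset (Finset.subset_univ _))
    obtain ⟨o, ho, hφo⟩ := Finset.mem_biUnion.1 hφ
    obtain ⟨ψ, -, rfl⟩ := Finset.mem_image.1 ho
    exact Nat.le_mul_of_pos_left _ (Nat.pos_of_ne_zero
      (Finset.mem_filter.1 (Finset.mem_filter.1 (id hφo : φ ∈ O ψ)).1).2.1)
  let Ker : 𝒪 → Subgroup (P : Subgroup G) := fun o => charKer (IsIrr.isCharacter (R o.1 o.2).2)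
  haveI hKn : ∀ o, (Ker o).Normal := fun o => charKer_normal _
  let ι : (P : Subgroup G) →* ((o : 𝒪) → (P : Subgroup G) ⧸ Ker o) :=
    { toFun := fun x o => QuotientGroup.mk' (Ker o) x
      map_one' := funext fun o => map_one _
      map_mul' := fun x y => funext fun o => map_mul _ x y }
  have hι : Function.Injective ι := by
    rw [← MonoidHom.ker_eq_bot_iff, eq_bot_iff]
    intro x hx
    refine Subgroup.mem_bot.2 (Subtype.ext (hfaith _ ?_))
    show μ x = μ 1
    rw [congrFun hdec x, congrFun hdec 1, sum_irr_apply, sum_irr_apply]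
    refine Finset.sum_congr rfl fun φ _ => ?_
    by_cases hφ : φ ∈ S
    · have ho : O φ ∈ 𝒪 := Finset.mem_image_of_mem _ hφ
      have hRk : x ∈ Ker ⟨O φ, ho⟩ :=
        (QuotientGroup.eq_one_iff x).1 (congrFun (MonoidHom.mem_ker.1 hx) ⟨O φ, ho⟩)
      have hmemR : φ ∈ O (R (O φ) ho) := by rw [hRO]; exact hself φ hφ
      obtain ⟨k, -, hk⟩ := (Finset.mem_filter.1 hmemR).2
      rw [hk]
      simp only [one_pow]
      rw [(mem_charKer _).1 (pow_mem hRk k)]
    · simp only [hS, Finset.mem_filter, Finset.mem_univ, true_and, not_and, ne_eq, not_not] at hφ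
      by_cases hc0 : c φ = 0
      · simp [hc0]
      · rw [hφ hc0]
  choose b hb using fun o => IsPGroup.iff_card.1 (hPp.to_quotient (Ker o))
  have ha_le : a ≤ ∑ o, b o := by
    have h1 := Nat.card_le_card_of_injective ι hι
    rw [Nat.card_pi, hPcard, Finset.prod_congr rfl (fun o _ => hb o), Finset.prod_pow_eq_pow_sum] at h1
    exact (Nat.pow_le_pow_iff_right hp.one_lt).1 h1
  have hpart : ∀ o : 𝒪, b o ≤ ∑ i ∈ Finset.range (n + 1), w o.1 / ((p - 1) * p ^ i) := by
    intro o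
    set ψ := R o.1 o.2 with hψdef
    obtain ⟨-, hψne⟩ := (Finset.mem_filter.1 (hRS o.1 o.2)).2
    obtain ⟨θ, hθ, hfac⟩ := IsIrr.exists_factor_quotient ψ.2 (Ker o) fun x hx => (mem_charKer _).1 hx
    have hfaithθ : ∀ q, θ q = θ 1 → q = 1 := by
      intro q hq
      obtain ⟨x, rfl⟩ := QuotientGroup.mk'_surjective (Ker o) q
      refine (QuotientGroup.eq_one_iff x).2 ((mem_charKer _).2 ?_)
      rw [← hfac x, ← hfac 1]
      exact hq
    haveI hntq : Nontrivial ((P : Subgroup G) ⧸ Ker o) := by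
      by_contra hnt
      haveI := not_nontrivial_iff_subsingleton.1 hnt
      refine hψne (irr_const_eq_one ψ.2 fun g => ?_)
      rw [← hfac g, ← hfac 1, Subsingleton.elim (g : (P : Subgroup G) ⧸ Ker o) ((1 : (P : Subgroup G)) : ↥(P : Subgroup G) ⧸ Ker o)]
    have hbpos : 0 < b o := by
      by_contra h
      have := Finite.one_lt_card (α := (P : Subgroup G) ⧸ Ker o)
      rw [hb o, show b o = 0 by omega, pow_zero] at this
      exact lt_irrefl 1 this
    obtain ⟨t, ht⟩ := PField.exists_t hp (hPp.to_quotient (Ker o)) hθ hfaithθ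
    obtain ⟨s, -, hs⟩ := (Nat.dvd_prime_pow hp).1 (hPcard ▸ IsIrr.degree_dvd_card ψ.2 (hd ψ))
    letI : Fintype ((P : Subgroup G) ⧸ Ker o) := Fintype.ofFinite _
    have hθ1 : θ 1 = ((p ^ s : ℕ) : ℂ) := by rw [← hs, ← hd ψ, ← hfac 1]; rfl
    have hbound := PField.bound hp _ _ le_rfl (hPp.to_quotient (Ker o)) θ hθ hfaithθ (b o) (p ^ s) t
      (hb o) hbpos hθ1 ht
    have hw : w o.1 = (p - 1) * p ^ t * p ^ s := by
      have e : O ψ = o.1 := hRO o.1 o.2
      obtain ⟨h1, h2⟩ := horbit ψ (hRS o.1 o.2)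
      show ∑ φ ∈ o.1, d φ = _
      rw [← e, Finset.sum_congr rfl h2, Finset.sum_const, smul_eq_mul, h1, hs, ← ht,
        ← PField.ncard_orb_comp (QuotientGroup.mk' (Ker o)) (QuotientGroup.mk'_surjective _) θ]
      congr 3
      exact funext fun x => (hfac x).symm
    rw [hw]
    exact part_le hp (hw ▸ (Finset.single_le_sum (fun _ _ => Nat.zero_le _) o.2).trans htot) hbound
  refine ha_le.trans ((Finset.sum_le_sum fun o _ => hpart o).trans ?_)
  rw [Finset.sum_comm]
  refine Finset.sum_le_sum fun i _ => ?_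
  have hq : 0 < (p - 1) * p ^ i := Nat.mul_pos (by have := hp.two_le; omega) (pow_pos hp.pos i)
  rw [Nat.le_div_iff_mul_le hq, Finset.sum_mul]
  refine le_trans (Finset.sum_le_sum fun o _ => Nat.div_mul_le_self _ _) ?_
  rw [← Finset.attach_eq_univ, Finset.sum_attach 𝒪 w]
  exact htot

end Cfsg.Agent.S4488
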