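import Cfsg.Statements.S4489
import Cfsg.Agent.Lib.Char.PGroupField
import Mathlib.FieldTheory.Extension
import Mathlib.FieldTheory.PrimitiveElement
import Mathlib.Algebra.Algebra.Hom.Rat

set_option autoImplicit false
open Cfsg

namespace Cfsg.Agent.S4489
open Cfsg.Agent.Char

theorem finrank_eq {P : Type*} [Group P] [Finite P] (p a : ℕ) (hp : p.Prime) (ha : 0 < a)
    (hP : Nat.card P = p ^ a) {χ : P → ℂ} (hχ : Cfsg.IsIrrCharacter P χ) :
    Module.finrank ℚ (IntermediateField.adjoin ℚ (Set.range χ)) = (PField.Orb p χ).ncard := by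
  classical
  haveI : NeZero (p ^ a) := ⟨(pow_pos hp.pos a).ne'⟩
  set ζ := Complex.exp (2 * Real.pi * Complex.I / (p ^ a : ℕ)) with hζdef
  have hζ : IsPrimitiveRoot ζ (p ^ a) := Complex.isPrimitiveRoot_exp _ (NeZero.ne _)
  have hint : IsIntegral ℚ ζ := (hζ.isIntegral (pow_pos hp.pos a)).tower_top
  set E := IntermediateField.adjoin ℚ ({ζ} : Set ℂ) with hE
  haveI : FiniteDimensional ℚ E := IntermediateField.adjoin.finiteDimensional hint
  set F := IntermediateField.adjoin ℚ (Set.range χ) with hF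
  have hsum : ∀ g, ∃ (ι : Type) (_ : Fintype ι) (c : ι → ℕ), χ g = ∑ i, ζ ^ c i ∧
      ∀ k, χ (g ^ k) = ∑ i, (ζ ^ c i) ^ k := by
    intro g
    obtain ⟨n, ρ, hρ⟩ := IsIrr.isCharacter hχ
    obtain ⟨b, c, -, hc, hk⟩ := exists_rep_eigenbasis ρ g
    choose j _ hj using fun i => hζ.eq_pow_of_pow_eq_one (ξ := c i) (by
      obtain ⟨r, hr⟩ := (hP ▸ orderOf_dvd_natCard g : orderOf g ∣ p ^ a)
      rw [hr, pow_mul, hc i, one_pow])
    refine ⟨_, inferInstance, j, ?_, fun k => ?_⟩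
    · have h1 := hk 1
      simp only [pow_one] at h1
      rw [← hρ, h1]
      exact Finset.sum_congr rfl fun i _ => (hj i).symm
    · rw [← hρ, hk k]
      exact Finset.sum_congr rfl fun i _ => by rw [hj i]
  have hFE : F ≤ E := by
    rw [hF, IntermediateField.adjoin_le_iff]
    rintro _ ⟨g, rfl⟩
    obtain ⟨ι, _, c, hc, -⟩ := hsum g
    rw [hc]
    exact sum_mem fun i _ => pow_mem (IntermediateField.mem_adjoin_simple_self ℚ ζ) _
  haveI : FiniteDimensional ℚ F :=
    FiniteDimensional.of_injective (IntermediateField.inclusion hFE).toLinearMap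
      (IntermediateField.inclusion hFE).injective
  rw [← AlgHom.card ℚ F ℂ, ← Nat.card_coe_set_eq, ← Nat.card_eq_fintype_card]
  let res : (F →ₐ[ℚ] ℂ) → (P → ℂ) := fun φ g => φ ⟨χ g, IntermediateField.subset_adjoin ℚ _ ⟨g, rfl⟩⟩
  have hmem : ∀ φ, res φ ∈ PField.Orb p χ := by
    intro φ
    obtain ⟨ψ, hψ⟩ := IntermediateField.exists_algHom_adjoin_of_splits
      (F := ℚ) (K := ℂ) (S := ({ζ} : Set ℂ)) (L := F)
      (fun s hs => by rw [Set.mem_singleton_iff.1 hs]; exact ⟨hint, IsAlgClosed.splits _⟩) φ hFE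
    let g₀ : E := ⟨ζ, IntermediateField.mem_adjoin_simple_self ℚ ζ⟩
    have hg₀ : IsPrimitiveRoot g₀ (p ^ a) :=
      IsPrimitiveRoot.of_map_of_injective (f := algebraMap E ℂ) hζ (algebraMap E ℂ).injective
    obtain ⟨k, -, hkc, hkζ⟩ := hζ.isPrimitiveRoot_iff.mp (hg₀.map_of_injective (f := ψ) ψ.injective)
    refine ⟨k, fun hd => hp.not_dvd_one (hkc ▸ Nat.dvd_gcd hd (dvd_pow_self p ha.ne')), funext fun g => ?_⟩
    obtain ⟨ι, _, c, hc, hck⟩ := hsum g
    show φ _ = _
    rw [hck k, ← hψ]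
    show ψ (IntermediateField.inclusion hFE ⟨χ g, IntermediateField.subset_adjoin ℚ _ ⟨g, rfl⟩⟩) = _
    rw [show IntermediateField.inclusion hFE ⟨χ g, IntermediateField.subset_adjoin ℚ _ ⟨g, rfl⟩⟩ =
        ∑ i, g₀ ^ c i from Subtype.ext (by
          simp only [IntermediateField.coe_inclusion]
          rw [hc]
          push_cast
          rfl), map_sum]
    refine Finset.sum_congr rfl fun i _ => ?_
    rw [map_pow, ← hkζ, ← pow_mul, ← pow_mul, mul_comm]
  refine Nat.card_congr (Equiv.ofBijective (fun φ => (⟨res φ, hmem φ⟩ : PField.Orb p χ))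
    ⟨fun φ φ' h => ?_, fun ψ => ?_⟩)
  · refine IntermediateField.algHom_ext_of_eq_adjoin ℚ hF fun x hx => ?_
    obtain ⟨g, rfl⟩ := hx
    exact congrFun (congrArg Subtype.val h) g
  · obtain ⟨k, hk, hψ⟩ := ψ.2
    obtain ⟨σ, hσ⟩ := exists_galois (G := P) k (by
      rw [hP]; exact ((hp.coprime_iff_not_dvd.2 hk).symm).pow_right a)
    refine ⟨σ.toRingHom.toRatAlgHom.comp F.val, Subtype.ext (funext fun g => ?_)⟩
    rw [hψ]
    exact hσ χ (IsIrr.isCharacter hχ) g

/-- Let P be a finite p-group of order p^a with a > 0, and χ a faithful irreducible character of P of degree f whose field of values ℚ(χ) has degree (p − 1)·p^t over ℚ. Then a ≤ (f − 1)/(p − 1) + (t + 1)·f; in integer form, (p − 1)·a ≤ (f − 1) + (p − 1)(t + 1)·f. -/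
theorem result {P : Type*} [Group P] [Finite P] (p a : ℕ) (hp : p.Prime) (ha : 0 < a) (hP : Nat.card P = p ^ a) (χ : Cfsg.IrrCharacter P) (hfaith : ∀ g : P, (χ : P → ℂ) g = (χ : P → ℂ) 1 → g = 1) (f t : ℕ) (hf : Cfsg.charDegree (χ : P → ℂ) = f) (hfield : Module.finrank ℚ (IntermediateField.adjoin ℚ (Set.range (χ : P → ℂ))) = (p - 1) * p ^ t) : (p - 1) * a ≤ (f - 1) + (p - 1) * (t + 1) * f := by
  classical
  haveI := Fintype.ofFinite P
  obtain ⟨m, -, hm⟩ := IsIrr.one_eq_pos χ.2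
  have hfm : f = m := by rw [← hf, Cfsg.charDegree, hm, Complex.natCast_re, Nat.floor_natCast]
  refine PField.bound hp _ P le_rfl (IsPGroup.of_card hP) _ χ.2 hfaith a f t hP ha ?_ ?_
  · rw [hm, hfm]
  · rw [← hfield, finrank_eq p a hp ha hP χ.2]

end Cfsg.Agent.S4489
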