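import Cfsg.Statements.S4490
import Cfsg.Agent.Lib.Char.RealBlock
import Cfsg.Agent.Lib.Char.FieldAut
import Cfsg.Agent.Lib.Block.Height

set_option autoImplicit false
open Cfsg

namespace Cfsg.Agent.S4490

/-- Let G be a finite group and M a maximal ideal of the algebraic integers containing 2. Every 2-block B of G whose defect groups are the Sylow 2-subgroups of G (a block of full defect) and which is not the principal block is different from its complex-conjugate block, the block formed by the complex conjugates of the members of B. -/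
theorem result {G : Type*} [Group G] [Finite G] (M : Ideal Cfsg.AlgInt) (hM : Cfsg.IsPModular 2 M) (B : Set (Cfsg.IrrCharacter G)) (hB : Cfsg.IsPBlock M B) (P : Sylow 2 G) (hfull : Cfsg.IsDefectGroup 2 M B (P : Subgroup G)) (hnp : B ≠ Cfsg.principalBlock M G) : {ψ : Cfsg.IrrCharacter G | ∃ χ ∈ B, (ψ : G → ℂ) = fun g => (starRingEnd ℂ) ((χ : G → ℂ) g)} ≠ B := by
  intro hreal
  obtain ⟨χ, hχ⟩ := Cfsg.Agent.Block.pblock_nonempty hM hB
  -- conjugation on the block
  have hmem : ∀ ψ : Cfsg.IrrCharacter G, ψ ∈ B ↔ ∃ χ ∈ B, (ψ : G → ℂ) = fun g =>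
      (starRingEnd ℂ) ((χ : G → ℂ) g) := fun ψ => by
    conv_lhs => rw [← hreal]
    rfl
  choose f hf hfe using fun ψ : B => (hmem ψ).1 ψ.2
  have hinv : ∀ (ψ : Cfsg.IrrCharacter G) (hψ : ψ ∈ B) (g : G),
      (ψ : G → ℂ) g⁻¹ = ((f ⟨ψ, hψ⟩ : Cfsg.IrrCharacter G) : G → ℂ) g := fun ψ hψ g => by
    rw [show (ψ : G → ℂ) = _ from hfe ⟨ψ, hψ⟩]
    simp only [Cfsg.Agent.Block.irr_apply_inv, Complex.conj_conj]
  have hone : ∀ (ψ : Cfsg.IrrCharacter G) (hψ : ψ ∈ B),
      ((f ⟨ψ, hψ⟩ : Cfsg.IrrCharacter G) : G → ℂ) 1 = (ψ : G → ℂ) 1 := fun ψ hψ => by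
    rw [← hinv ψ hψ 1, inv_one]
  have hω : ∀ g : G, Cfsg.MemLocalIdeal M
      (Cfsg.centralChar (χ : G → ℂ) g⁻¹ - Cfsg.centralChar (χ : G → ℂ) g) := fun g => by
    have h : Cfsg.centralChar (χ : G → ℂ) g⁻¹ =
        Cfsg.centralChar ((f ⟨χ, hχ⟩ : Cfsg.IrrCharacter G) : G → ℂ) g := by
      simp only [Cfsg.centralChar, hinv χ hχ, hone χ hχ, Cfsg.Agent.Block.centralizer_inv]
    rw [h]
    exact Cfsg.Agent.Block.pblock_sameBlock hM hB (hf ⟨χ, hχ⟩) hχ g
  have hd : Cfsg.blockDefect 2 B = (Nat.card G).factorization 2 := by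
    have h1 := Cfsg.Agent.Block.card_defectGroup hM hB hfull
    rw [P.card_eq_multiplicity] at h1
    exact (Nat.pow_right_injective le_rfl h1).symm
  have hinj : Function.Injective f := fun a b h => by
    refine Subtype.ext (Subtype.ext ?_)
    rw [hfe a, hfe b, h]
  refine hnp (Cfsg.Agent.Char.RealBlock.principal_of_sym hM hB hχ (fun g _ => ?_) (fun g _ => hω g)
    fun g hg h1 hc => ?_)
  · classical
    cases nonempty_fintype G
    haveI : Fintype B := Fintype.ofFinite B
    let σ : B ≃ B := Equiv.ofBijective (fun a => (⟨f a, hf a⟩ : B))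
      (Finite.injective_iff_bijective.1 fun a b h => hinj (congrArg Subtype.val h :))
    rw [Cfsg.blockCoeff, Cfsg.blockCoeff, finsum_mem_eq_sum_of_inter_support_eq _
      (t := (Finset.univ.filter (· ∈ B))) (by ext; simp), finsum_mem_eq_sum_of_inter_support_eq _
      (t := (Finset.univ.filter (· ∈ B))) (by ext; simp)]
    congr 1
    rw [Finset.sum_subtype (Finset.univ.filter (· ∈ B)) (p := (· ∈ B)) (fun x => by simp),
      Finset.sum_subtype (Finset.univ.filter (· ∈ B)) (p := (· ∈ B)) (fun x => by simp)]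
    refine Fintype.sum_equiv σ _ _ fun a => ?_
    show (a : G → ℂ) 1 * (starRingEnd ℂ) ((a : G → ℂ) g⁻¹) =
      ((f a : Cfsg.IrrCharacter G) : G → ℂ) 1 * (starRingEnd ℂ) (((f a : Cfsg.IrrCharacter G) : G → ℂ) g)
    rw [hinv _ a.2 g, hone _ a.2]
  · have h2 := Cfsg.Agent.Char.RealBlock.two_dvd_index_of_real hg h1 hc
    refine Cfsg.Agent.Block.ideal_sub hM (Cfsg.Agent.Block.omega_ideal_of_small hM hB hχ ?_)
      ((Cfsg.Agent.Block.ideal_natCast_iff hM _).2 h2)
    rw [hd]
    have h3 := (Subgroup.centralizer ({g} : Set G)).index_mul_card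
    rw [← h3, Nat.factorization_mul Subgroup.index_ne_zero_of_finite Nat.card_pos.ne', Finsupp.add_apply]
    have := (Nat.prime_two.dvd_iff_one_le_factorization
      (Subgroup.index_ne_zero_of_finite (H := Subgroup.centralizer ({g} : Set G)))).1 h2
    omega

end Cfsg.Agent.S4490
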