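import Cfsg.Statements.S4493
import Cfsg.Agent.Lib.Char.PSolvableIto
import Cfsg.Agent.S1950
import Cfsg.Agent.Lib.Grp.DisconnectedGraph
-- import your own Cfsg.Agent.* helpers here

set_option autoImplicit false
open Cfsg

namespace Cfsg.Agent.S4493

universe u

theorem isPSolvable_solvable {p : ℕ} (hp : p.Prime) : ∀ (n : ℕ) (G : Type u) [Group G] [Finite G],
    Nat.card G = n → Group.IsSolvable G → Cfsg.IsPSolvable p G := by
  intro n
  induction n using Nat.strong_induction_on with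
  | _ n ih =>
  intro G _ _ hn hsolv
  rcases subsingleton_or_nontrivial G with hs | hs
  · exact Cfsg.Agent.S1950.isPSolvable_of_card G (Or.inl ⟨0, by rw [pow_zero]; exact Nat.card_of_subsingleton 1⟩)
  obtain ⟨q, N, hq, hN, hqN, hN1⟩ := Cfsg.Agent.Grp.Graph.exists_normal_pGroup (G := G)
  haveI := hN
  haveI := Fact.mk hq
  haveI := Fact.mk hp
  obtain ⟨k, hk⟩ := IsPGroup.iff_card.1 hqN
  refine Cfsg.Agent.S1950.isPSolvable_ext N ?_ (ih _ (hn ▸ Cfsg.Agent.Grp.card_quotient_lt hN1) (G ⧸ N) rfl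
    inferInstance)
  by_cases hqp : q = p
  · exact Or.inl ⟨k, hqp ▸ hk⟩
  · exact Or.inr (hk ▸ ((Nat.coprime_primes hq hp).2 hqp).pow_left k)

/-- Let G be a finite solvable group and p a prime. Then G has a normal abelian Sylow p-subgroup if and only if no irreducible character degree of G is divisible by p. -/
theorem result {G : Type*} [Group G] [Finite G] (hsolv : Group.IsSolvable G) (p : ℕ) (hp : p.Prime) : (∃ P : Subgroup G, P.Normal ∧ (∀ x ∈ P, ∀ y ∈ P, x * y = y * x) ∧ IsPGroup p P ∧ ¬ p ∣ P.index) ↔ ∀ χ : Cfsg.IrrCharacter G, ¬ p ∣ Cfsg.charDegree (χ : G → ℂ) := by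
  haveI := Fact.mk hp
  constructor
  · rintro ⟨P, hn, hab, -, hidx⟩ χ
    exact Cfsg.Agent.Char.PIto.not_dvd_of_abelian P hab hidx χ
  · intro h
    obtain ⟨P⟩ : Nonempty (Sylow p G) := Sylow.nonempty
    obtain ⟨hn, hab⟩ := Cfsg.Agent.Char.PIto.ito_converse _ G rfl
      (isPSolvable_solvable hp _ G rfl hsolv) h P
    exact ⟨P, hn, hab, P.isPGroup', P.not_dvd_index⟩

end Cfsg.Agent.S4493
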