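import Cfsg.Statements.S4495
import Cfsg.Agent.Lib.Char.SelfCentPrime

set_option autoImplicit false
open Cfsg

namespace Cfsg.Agent.S4495

open Cfsg.Agent.Char.SCP

/-- Let the finite group G contain an element x of prime order p with C_G(x) = ⟨x⟩, and let t be the number of conjugacy classes of elements of order p. If t ≠ p − 1 then the commutator subgroup has index at most (p − 1)/t; if t = p − 1 it has index exactly p. -/
theorem result {G : Type*} [Group G] [Finite G] (p : ℕ) (hp : p.Prime) (x : G) (hx : orderOf x = p) (hC : Subgroup.centralizer ({x} : Set G) = Subgroup.zpowers x) (t : ℕ) (ht : Nat.card {C : ConjClasses G // ∃ g ∈ C.carrier, orderOf g = p} = t) : (t ≠ p - 1 → (commutator G).index * t ≤ p - 1) ∧ (t = p - 1 → (commutator G).index = p) := by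
  haveI := Fact.mk hp
  have h : Hyp p x := ⟨hx, hC⟩
  refine ⟨fun hne => ?_, fun htp => (commutator_eq_core_of_one h ((t_eq_iff h ht).1 htp)).2⟩
  have he : e x ≠ 1 := fun he => hne ((t_eq_iff h ht).2 he)
  have h1 := classes_mul_e h
  rw [ht] at h1
  have hp2 := hp.two_le
  have hpos : 0 < e x := Nat.pos_of_ne_zero fun h0 => by rw [h0, mul_zero] at h1; omega
  calc (commutator G).index * t ≤ e x * t :=
        Nat.mul_le_mul_right t (Nat.le_of_dvd hpos (index_commutator_dvd h he))
    _ = p - 1 := by rw [mul_comm, h1]

end Cfsg.Agent.S4495
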