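import Cfsg.Statements.S4496
import Mathlib

set_option autoImplicit false
open Cfsg
open scoped commutatorElement

namespace Cfsg.Agent.S4496

/-- Let the finite group G contain an element x of prime order p with C_G(x) = ⟨x⟩. Then: (a) every normal subgroup of order divisible by p contains the commutator subgroup; (b) every normal subgroup S of order prime to p has order dividing the number of subgroups of order p of G and congruent to 1 modulo p, and in G/S the image of x again has prime order p and commutes only with its own powers. -/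
theorem result {G : Type*} [Group G] [Finite G] (p : ℕ) (hp : p.Prime) (x : G) (hx : orderOf x = p) (hC : Subgroup.centralizer ({x} : Set G) = Subgroup.zpowers x) (S : Subgroup G) [S.Normal] : (p ∣ Nat.card S → commutator G ≤ S) ∧ (¬ p ∣ Nat.card S → Nat.card S ∣ Nat.card {H : Subgroup G // Nat.card H = p} ∧ Nat.card S % p = 1 ∧ orderOf (QuotientGroup.mk x : G ⧸ S) = p ∧ Subgroup.centralizer ({(QuotientGroup.mk x : G ⧸ S)} : Set (G ⧸ S)) = Subgroup.zpowers (QuotientGroup.mk x : G ⧸ S)) := by
  classical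
  haveI := Fact.mk hp
  have hcard : Nat.card (Subgroup.zpowers x) = p := by rw [Nat.card_zpowers, hx]
  obtain ⟨P, hP⟩ := (IsPGroup.of_card (n := 1) (by rw [hcard, pow_one]) :
    IsPGroup p (Subgroup.zpowers x)).exists_le_sylow
  have hxP : x ∈ (P : Subgroup G) := hP (Subgroup.mem_zpowers x)
  have hPx : (P : Subgroup G) = Subgroup.zpowers x := by
    refine le_antisymm ?_ hP
    haveI : Nontrivial (P : Subgroup G) := ⟨⟨⟨x, hxP⟩, 1, fun e => by
      have e' : x = 1 := congrArg Subtype.val e
      rw [e', orderOf_one] at hx; exact hp.ne_one hx.symm⟩⟩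
    haveI := P.isPGroup'.center_nontrivial
    obtain ⟨z, hz⟩ := exists_ne (1 : Subgroup.center (P : Subgroup G))
    have hzx : ((z : (P : Subgroup G)) : G) ∈ Subgroup.zpowers x := hC ▸
      Subgroup.mem_centralizer_singleton_iff.2
        (congrArg Subtype.val (Subgroup.mem_center_iff.1 z.2 ⟨x, hxP⟩)).symm
    have hgen : x ∈ Subgroup.zpowers ((z : (P : Subgroup G)) : G) := by
      haveI : Fact (Nat.card (Subgroup.zpowers x)).Prime := ⟨hcard.symm ▸ hp⟩
      have hne : (⟨_, hzx⟩ : Subgroup.zpowers x) ≠ 1 := fun e =>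
        hz (Subtype.ext (Subtype.ext (congrArg Subtype.val e :)))
      have := mem_zpowers_of_prime_card (g := (⟨_, hzx⟩ : Subgroup.zpowers x)) (g' := ⟨x, Subgroup.mem_zpowers x⟩) hcard hne
      obtain ⟨k, hk⟩ := this
      exact ⟨k, congrArg Subtype.val hk⟩
    intro y hy
    rw [← hC, Subgroup.mem_centralizer_singleton_iff]
    obtain ⟨k, hk⟩ := hgen
    have : Commute y ((z : (P : Subgroup G)) : G) :=
      congrArg Subtype.val (Subgroup.mem_center_iff.1 z.2 ⟨y, hy⟩)
    have h2 := this.zpow_right k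
    simp only at hk
    rw [hk] at h2
    exact h2.eq
  have hPcard : Nat.card (P : Subgroup G) = p := by rw [hPx, hcard]
  have hnormC : ∀ n ∈ Subgroup.normalizer ((P : Subgroup G) : Set G), ∃ k : ℕ, n * x * n⁻¹ = x ^ k := by
    intro n hn
    have h := (Subgroup.mem_normalizer_iff.1 hn x).1 hxP
    rw [hPx] at h
    obtain ⟨k, hk⟩ := (isOfFinOrder_of_finite x).mem_powers_iff_mem_zpowers.2 h
    exact ⟨k, hk.symm⟩
  refine ⟨fun hdvd => ?_, fun hndvd => ?_⟩
  · obtain ⟨⟨y, hy⟩, hyo⟩ := exists_prime_orderOf_dvd_card' (G := S) p hdvd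
    rw [Subgroup.orderOf_mk] at hyo
    have hSyl : ∀ H : Subgroup G, Nat.card H = p → ∃ Q : Sylow p G, (Q : Subgroup G) = H := by
      intro H hH
      obtain ⟨Q, hQ⟩ := (IsPGroup.of_card (n := 1) (by rw [hH, pow_one]) : IsPGroup p H).exists_le_sylow
      exact ⟨Q, (Subgroup.eq_of_le_of_card_ge hQ (by
        rw [hH, Sylow.card_eq_multiplicity, ← P.card_eq_multiplicity, hPcard])).symm⟩
    obtain ⟨Q, hQ⟩ := hSyl (Subgroup.zpowers y) (by rw [Nat.card_zpowers, hyo])
    obtain ⟨g, hg⟩ := MulAction.exists_smul_eq G P Q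
    have hxS : x ∈ S := by
      have h1 : g * x * g⁻¹ ∈ (Q : Subgroup G) := by
        rw [← hg, Sylow.coe_subgroup_smul]
        exact ⟨x, hxP, rfl⟩
      rw [hQ] at h1
      have h2 : g * x * g⁻¹ ∈ S := Subgroup.zpowers_le.2 hy h1
      have := Subgroup.Normal.conj_mem ‹S.Normal› _ h2 g⁻¹
      simpa [mul_assoc] using this
    have hPS : (P : Subgroup G) ≤ S := hPx ▸ Subgroup.zpowers_le.2 hxS
    have hgen : ∀ a : G, ∃ n ∈ Subgroup.normalizer ((P : Subgroup G) : Set G),
        (QuotientGroup.mk n : G ⧸ S) = QuotientGroup.mk a := by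
      intro a
      obtain ⟨s, hs⟩ := MulAction.exists_smul_eq S ((a • P).subtype (by
        intro y hy
        rw [Sylow.coe_subgroup_smul] at hy
        obtain ⟨w, hw, rfl⟩ := hy
        exact Subgroup.Normal.conj_mem ‹S.Normal› _ (hPS hw) a)) (P.subtype hPS)
      rw [Sylow.smul_subtype] at hs
      have h' : ((s : G) * a) • P = P := by
        rw [mul_smul]; exact Sylow.subtype_injective hs
      refine ⟨(s : G) * a, Sylow.smul_eq_iff_mem_normalizer.1 h', ?_⟩
      rw [QuotientGroup.mk_mul, (QuotientGroup.eq_one_iff _).2 s.2, one_mul]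
    rw [commutator_def, Subgroup.commutator_le]
    intro a _ b _
    obtain ⟨n, hn, en⟩ := hgen a
    obtain ⟨m, hm, em⟩ := hgen b
    rw [← QuotientGroup.eq_one_iff]
    refine (map_commutatorElement (QuotientGroup.mk' S) a b).trans ?_
    rw [QuotientGroup.mk'_apply, QuotientGroup.mk'_apply, ← en, ← em]
    refine (map_commutatorElement (QuotientGroup.mk' S) n m).symm.trans ((QuotientGroup.eq_one_iff _).2 ?_)
    refine hPS ?_
    rw [hPx, ← hC, Subgroup.mem_centralizer_singleton_iff]
    obtain ⟨i, hi⟩ := hnormC n hn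
    obtain ⟨j, hj⟩ := hnormC m hm
    have hcm : n * m * x * (n * m)⁻¹ = m * n * x * (m * n)⁻¹ := by
      rw [show n * m * x * (n * m)⁻¹ = n * (m * x * m⁻¹) * n⁻¹ by group,
        show m * n * x * (m * n)⁻¹ = m * (n * x * n⁻¹) * m⁻¹ by group, hi, hj, ← conj_pow, ← conj_pow,
        hi, hj, ← pow_mul, ← pow_mul, mul_comm]
    have := congrArg (fun t => (m * n)⁻¹ * t * (m * n)) hcm
    have e2 : ((m * n)⁻¹ * (n * m)) * x * ((m * n)⁻¹ * (n * m))⁻¹ = x := by
      simpa [mul_assoc] using this
    have e3 : ⁅n, m⁆ = (m * n) * ((m * n)⁻¹ * (n * m)) * (m * n)⁻¹ := by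
      simp [commutatorElement_def, mul_assoc]
    have e4 : ((m * n)⁻¹ * (n * m)) * (m * n)⁻¹ * x * ((m * n)) = (m * n)⁻¹ * x * (m * n) * ((m * n)⁻¹ * (n * m)) := by
      have hw : (m * n)⁻¹ * (n * m) ∈ Subgroup.zpowers x := by
        rw [← hC, Subgroup.mem_centralizer_singleton_iff]
        exact mul_inv_eq_iff_eq_mul.1 e2
      have hd : (m * n)⁻¹ * x * (m * n) ∈ Subgroup.zpowers x := by
        have := (Subgroup.mem_normalizer_iff''.1 (mul_mem hm hn) x).1 hxP
        rwa [hPx] at this
      obtain ⟨u, hu⟩ := hw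
      obtain ⟨v, hv⟩ := hd
      rw [show ((m * n)⁻¹ * (n * m)) * (m * n)⁻¹ * x * (m * n) = ((m * n)⁻¹ * (n * m)) * ((m * n)⁻¹ * x * (m * n)) by group,
        ← hu, ← hv]
      exact (((Commute.refl x).zpow_left u).zpow_right v).eq
    rw [e3]
    have := congrArg (fun t => (m * n) * t * (m * n)⁻¹) e4
    simpa [mul_assoc] using this
  · have hfix : ∀ s ∈ S, s * x = x * s → s = 1 := by
      intro s hs hc
      have h1 : s ∈ Subgroup.zpowers x := hC ▸ Subgroup.mem_centralizer_singleton_iff.2 hc
      by_contra hne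
      haveI : Fact (Nat.card (Subgroup.zpowers x)).Prime := ⟨hcard.symm ▸ hp⟩
      have hne' : (⟨s, h1⟩ : Subgroup.zpowers x) ≠ 1 := fun e => hne (congrArg Subtype.val e)
      have := orderOf_dvd_natCard (⟨s, h1⟩ : Subgroup.zpowers x)
      rw [hcard, Subgroup.orderOf_mk, Nat.dvd_prime hp] at this
      rcases this with h | h
      · exact hne (orderOf_eq_one_iff.1 h)
      · exact hndvd (h ▸ S.orderOf_dvd_natCard hs)
    have hxS : x ∉ S := fun h => hndvd (hx ▸ S.orderOf_dvd_natCard h)
    refine ⟨?_, ?_, ?_, ?_⟩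
    · have hcount : Nat.card {H : Subgroup G // Nat.card H = p} = Nat.card (Sylow p G) := by
        symm
        refine Nat.card_congr (Equiv.ofBijective (fun Q => ⟨(Q : Subgroup G), by
          rw [Sylow.card_eq_multiplicity, ← P.card_eq_multiplicity, hPcard]⟩) ⟨?_, ?_⟩)
        · exact fun a b e => Sylow.ext (congrArg Subtype.val e :)
        · rintro ⟨H, hH⟩
          obtain ⟨Q, hQ⟩ := (IsPGroup.of_card (n := 1) (by rw [hH, pow_one]) : IsPGroup p H).exists_le_sylow
          exact ⟨Q, Subtype.ext (Subgroup.eq_of_le_of_card_ge hQ (by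
            rw [hH, Sylow.card_eq_multiplicity, ← P.card_eq_multiplicity, hPcard])).symm⟩
      rw [hcount, P.card_eq_index_normalizer]
      set N := Subgroup.normalizer ((P : Subgroup G) : Set G) with hN
      have hSN : ∀ s ∈ S, s ∈ N → s = 1 := by
        intro s hs hsN
        obtain ⟨k, hk⟩ := hnormC s hsN
        refine hfix s hs ?_
        have h1 : s * x * s⁻¹ * x⁻¹ ∈ S := by
          rw [mul_assoc s x, mul_assoc s]
          exact S.mul_mem hs (Subgroup.Normal.conj_mem ‹S.Normal› _ (S.inv_mem hs) x)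
        have h2 : s * x * s⁻¹ * x⁻¹ ∈ Subgroup.zpowers x := by
          rw [hk]
          exact mul_mem (Subgroup.npow_mem_zpowers x k) (inv_mem (Subgroup.mem_zpowers x))
        by_contra hne
        have hne1 : s * x * s⁻¹ * x⁻¹ ≠ 1 := fun e => hne (by
          rwa [mul_inv_eq_one, mul_inv_eq_iff_eq_mul] at e)
        have h3 := (Subgroup.zpowers x).orderOf_dvd_natCard h2
        rw [hcard, Nat.dvd_prime hp] at h3
        exact hndvd ((h3.resolve_left fun h => hne1 (orderOf_eq_one_iff.1 h)) ▸ S.orderOf_dvd_natCard h1)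
      have hinj : Nat.card (S ⊔ N : Subgroup G) = Nat.card S * Nat.card N := by
        rw [← Nat.card_prod]
        symm
        refine Nat.card_congr (Equiv.ofBijective (fun q : S × N => ⟨(q.1 : G) * q.2,
          mul_mem (Subgroup.mem_sup_left q.1.2) (Subgroup.mem_sup_right q.2.2)⟩) ⟨?_, ?_⟩)
        · rintro ⟨a, b⟩ ⟨c, d⟩ e
          have e' : (a : G) * b = c * d := congrArg Subtype.val e
          have h1 : (c : G)⁻¹ * a = d * (b : G)⁻¹ := by
            rw [inv_mul_eq_iff_eq_mul, ← mul_assoc, eq_mul_inv_iff_mul_eq]; exact e'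
          have h2 := hSN _ (S.mul_mem (S.inv_mem c.2) a.2) (h1 ▸ N.mul_mem d.2 (N.inv_mem b.2))
          rw [h2, eq_comm, mul_inv_eq_one] at h1
          exact Prod.ext (Subtype.ext (inv_mul_eq_one.1 h2).symm) (Subtype.ext h1.symm)
        · rintro ⟨w, hw⟩
          rw [← SetLike.mem_coe, Subgroup.normal_mul] at hw
          obtain ⟨s, hs, n, hn, rfl⟩ := Set.mem_mul.1 hw
          exact ⟨(⟨s, hs⟩, ⟨n, hn⟩), rfl⟩
      have h1 := (S ⊔ N).card_mul_index
      rw [hinj, ← N.card_mul_index, mul_comm (Nat.card S), mul_assoc] at h1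
      exact ⟨_, (Nat.eq_of_mul_eq_mul_left Nat.card_pos h1).symm⟩
    · let H := Subgroup.zpowers x
      letI : MulAction H S := MulAction.compHom S (((MulAut.conjNormal : G →* MulAut S)).comp H.subtype)
      have hpg : IsPGroup p H := IsPGroup.of_card (n := 1) (by rw [hcard, pow_one])
      have h := hpg.card_modEq_card_fixedPoints S
      have hone : Nat.card (MulAction.fixedPoints H S) = 1 := by
        refine Nat.card_eq_one_iff_unique.2 ⟨⟨fun a b => ?_⟩, ⟨⟨1, fun g => map_one ((MulAut.conjNormal : G →* MulAut S) (g : G))⟩⟩⟩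
        have key : ∀ a : MulAction.fixedPoints H S, (a : S) = 1 := fun a => by
          have e : x * ((a : S) : G) * x⁻¹ = ((a : S) : G) :=
            congrArg Subtype.val (a.2 ⟨x, Subgroup.mem_zpowers x⟩)
          exact Subtype.ext (hfix _ (a : S).2 (mul_inv_eq_iff_eq_mul.1 e).symm)
        exact Subtype.ext ((key a).trans (key b).symm)
      rw [hone] at h
      rw [h, Nat.mod_eq_of_lt hp.one_lt]
    · refine orderOf_eq_prime ?_ (fun e => hxS ((QuotientGroup.eq_one_iff x).1 e))
      rw [← QuotientGroup.mk_pow, show x ^ p = 1 from hx ▸ pow_orderOf_eq_one x, QuotientGroup.mk_one]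
    · refine le_antisymm (fun q hq => ?_) (Subgroup.zpowers_le.2 (Subgroup.mem_centralizer_singleton_iff.2 rfl))
      induction q using QuotientGroup.induction_on with | _ g => ?_
      rw [Subgroup.mem_centralizer_singleton_iff, ← QuotientGroup.mk_mul, ← QuotientGroup.mk_mul,
        QuotientGroup.eq] at hq
      let f : S → S := fun s => ⟨x⁻¹ * ((s : G) * x * (s : G)⁻¹), by
        rw [← mul_assoc, ← mul_assoc]
        exact S.mul_mem (by simpa [mul_assoc] using Subgroup.Normal.conj_mem ‹S.Normal› _ s.2 x⁻¹) (S.inv_mem s.2)⟩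
      have hf : Function.Injective f := by
        intro a b e
        have e' : (a : G) * x * (a : G)⁻¹ = (b : G) * x * (b : G)⁻¹ :=
          mul_left_cancel (congrArg Subtype.val e :)
        have := congrArg (fun t => (b : G)⁻¹ * t * a) e'
        have h1 := hfix _ (S.mul_mem (S.inv_mem b.2) a.2) (by simpa [mul_assoc] using this)
        exact Subtype.ext (inv_mul_eq_one.1 h1).symm
      have hmem : x⁻¹ * (g * x * g⁻¹) ∈ S := by
        have h1 := Subgroup.Normal.conj_mem ‹S.Normal› _ hq g
        have h2 := Subgroup.Normal.conj_mem ‹S.Normal› _ (S.inv_mem h1) x⁻¹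
        first
          | (simpa [mul_assoc] using h1)
          | (simpa [mul_assoc] using h2)
          | (simpa [mul_assoc] using S.inv_mem h1)
      obtain ⟨s, hs⟩ := (Finite.injective_iff_surjective.1 hf) ⟨_, hmem⟩
      have e : (s : G) * x * (s : G)⁻¹ = g * x * g⁻¹ := mul_left_cancel (congrArg Subtype.val hs :)
      have hw : (s : G)⁻¹ * g ∈ Subgroup.zpowers x := by
        rw [← hC, Subgroup.mem_centralizer_singleton_iff]
        have := congrArg (fun t => (s : G)⁻¹ * t * g) e
        simpa [mul_assoc] using this.symm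
      obtain ⟨k, hk⟩ := hw
      refine ⟨k, ?_⟩
      simp only at hk ⊢
      rw [← QuotientGroup.mk_zpow, hk, QuotientGroup.mk_mul, (QuotientGroup.eq_one_iff _).2 (S.inv_mem s.2), one_mul]

end Cfsg.Agent.S4496
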