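import Cfsg.Statements.S4497
import Cfsg.Agent.Lib.Char.SelfCentPrime

set_option autoImplicit false
open Cfsg

namespace Cfsg.Agent.S4497

open Cfsg.Agent.Char.SCP

/-- Let the finite group G contain an element x of prime order p with C_G(x) = ⟨x⟩, let t be the number of conjugacy classes of elements of order p, and let S* = O_{p′}(G) be the largest normal subgroup of order prime to p. Then S* ≤ G′; if t ≠ p − 1 the quotient G′/S* is simple (in particular non-trivial); if t = p − 1 then G′ = S*. -/
theorem result {G : Type*} [Group G] [Finite G] (p : ℕ) (hp : p.Prime) (x : G) (hx : orderOf x = p) (hC : Subgroup.centralizer ({x} : Set G) = Subgroup.zpowers x) (t : ℕ) (ht : Nat.card {C : ConjClasses G // ∃ g ∈ C.carrier, orderOf g = p} = t) : Cfsg.pPrimeCore p G ≤ commutator G ∧ (t ≠ p - 1 → ∀ h : ((Cfsg.pPrimeCore p G).subgroupOf (commutator G)).Normal, IsSimpleGroup (↥(commutator G) ⧸ (Cfsg.pPrimeCore p G).subgroupOf (commutator G))) ∧ (t = p - 1 → commutator G = Cfsg.pPrimeCore p G) := by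
  haveI := Fact.mk hp
  have h : Hyp p x := ⟨hx, hC⟩
  haveI := Cfsg.Agent.Grp.pPrimeCore_isNormal (p := p) (G := G)
  have hle : Cfsg.pPrimeCore p G ≤ commutator G :=
    coprime_le_commutator h Cfsg.Agent.Grp.pPrimeCore_not_dvd
  refine ⟨hle, fun hne hN => ?_, fun htp => (commutator_eq_core_of_one h ((t_eq_iff h ht).1 htp)).1⟩
  have he : e x ≠ 1 := fun he => hne ((t_eq_iff h ht).2 he)
  haveI := hN
  set S := (Cfsg.pPrimeCore p G).subgroupOf (commutator G) with hS
  haveI : Nontrivial (commutator G ⧸ S) := by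
    refine ⟨(QuotientGroup.mk (⟨x, mem_commutator_of_ne_one h he⟩ : commutator G)), 1, fun e1 => ?_⟩
    exact not_mem_core h (Subgroup.mem_subgroupOf.1 ((QuotientGroup.eq_one_iff _).1 e1))
  refine ⟨fun K hK => ?_⟩
  haveI := hK
  set K' := (K.comap (QuotientGroup.mk' S)).map (commutator G).subtype with hK'
  have hsub : K'.subgroupOf (commutator G) = K.comap (QuotientGroup.mk' S) :=
    Subgroup.comap_map_eq_self_of_injective (commutator G).subtype_injective _
  rcases normal_in_commutator h he K' (Subgroup.map_subtype_le _) (hsub ▸ inferInstance) with h1 | h1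
  · refine Or.inl (eq_bot_iff.2 fun q hq => ?_)
    induction q using QuotientGroup.induction_on with | _ w => ?_
    exact (QuotientGroup.eq_one_iff _).2 (h1 ⟨w, hq, rfl⟩)
  · refine Or.inr (eq_top_iff.2 fun q _ => ?_)
    induction q using QuotientGroup.induction_on with | _ w => ?_
    have h2 : (w : G) ∈ K' := h1.symm ▸ w.2
    obtain ⟨w', hw', e1⟩ := h2
    exact (Subtype.ext e1 : w' = w) ▸ hw'

end Cfsg.Agent.S4497
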