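import Cfsg.Statements.S4498
import Cfsg.Agent.Lib.Block.SuzukiIdentity
import Cfsg.Agent.Lib.Block.Principal
-- import your own Cfsg.Agent.* helpers here

set_option autoImplicit false
open Cfsg

namespace Cfsg.Agent.S4498

/-- Let p and q be distinct primes dividing the order of the finite group G, and suppose G has no element of order p·q. Fix maximal ideals M_p over p and M_q over q of the algebraic integers. Then the principal p-block and the principal q-block of G have a non-principal irreducible character in common. -/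
theorem result {G : Type*} [Group G] [Finite G] (p q : ℕ) [Fact p.Prime] [Fact q.Prime] (hpq : p ≠ q) (hp : p ∣ Nat.card G) (hq : q ∣ Nat.card G) (hno : ∀ g : G, orderOf g ≠ p * q) (Mp Mq : Ideal Cfsg.AlgInt) (hMp : Cfsg.IsPModular p Mp) (hMq : Cfsg.IsPModular q Mq) : ∃ χ : Cfsg.IrrCharacter G, (χ : G → ℂ) ≠ (fun _ => 1) ∧ χ ∈ Cfsg.principalBlock Mp G ∧ χ ∈ Cfsg.principalBlock Mq G := by
  classical
  cases nonempty_fintype G
  have hno' := hno
  clear hno
  by_contra hno
  push Not at hno
  obtain ⟨x, hx⟩ := exists_prime_orderOf_dvd_card' p hp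
  obtain ⟨y, hy⟩ := exists_prime_orderOf_dvd_card' q hq
  have hpp : p.Prime := Fact.out
  have hqq : q.Prime := Fact.out
  set Sp := Finset.univ.filter (fun χ : Cfsg.IrrCharacter G => χ ∈ Cfsg.principalBlock Mp G) with hSp
  set Sq := Finset.univ.filter (fun χ : Cfsg.IrrCharacter G => χ ∈ Cfsg.principalBlock Mq G) with hSq
  set ψ : G → ℂ := fun h => ∑ χ ∈ Sq, (χ : G → ℂ) h * (χ : G → ℂ) y⁻¹ with hψdef
  set K : G → ℂ := fun h => ∑ η ∈ Sp, (η : G → ℂ) x * starRingEnd ℂ ((η : G → ℂ) h) with hKdef
  have hT : ∀ h : G, ψ h * K h = 0 := by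
    intro h
    by_cases hs : p ∣ orderOf h
    · rw [mul_eq_zero]; left
      obtain ⟨u, w, huw, hcomm, hu, hw, -, -⟩ := Cfsg.Agent.Block.exists_pPart_zpowers (p := q) h
      have hne : ¬ IsConj u y := by
        intro hc
        obtain ⟨t, ht⟩ := isConj_iff.1 hc
        have hou : orderOf u = q := by
          rw [← hy, ← ht, ← MulAut.conj_apply, MulEquiv.orderOf_eq]
        have hpw : p ∣ orderOf w := by
          have h1 : orderOf h = orderOf u * orderOf w := by
            rw [← huw]
            exact hcomm.orderOf_mul_eq_mul_orderOf_of_coprime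
              (by rw [hou]; exact hqq.coprime_iff_not_dvd.2 hw)
          rw [h1, hou] at hs
          exact (hpp.dvd_mul.1 hs).resolve_left fun e => hpq ((Nat.prime_dvd_prime_iff_eq hpp hqq).1 e)
        set w' := w ^ (orderOf w / p) with hw'
        have how : orderOf w' = p := by
          rw [hw', orderOf_pow_orderOf_div (orderOf_pos w).ne' hpw]
        refine hno' (u * w') ?_
        rw [(hcomm.pow_right _).orderOf_mul_eq_mul_orderOf_of_coprime
          (by rw [hou, how]; exact (Nat.coprime_primes hqq hpp).2 hpq.symm), hou, how, mul_comm]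
      have h0 := Cfsg.Agent.Block.section_orth hMq (g := h) (h := y) (x := u) (z := y)
        ⟨w, huw, hcomm, hu, hw⟩
        (Cfsg.Agent.Block.isPPart_self_of_pPow ⟨1, by rw [hy, pow_one]⟩) hne
        Cfsg.Agent.Block.isPBlock_principalBlock
      rw [Cfsg.Agent.Block.finsum_mem_block] at h0
      exact h0
    · rw [mul_eq_zero]; right
      have h0 := congrArg (starRingEnd ℂ) (Cfsg.Agent.Block.weak_orth hMp
        Cfsg.Agent.Block.isPBlock_principalBlock hs (y := x) (by rw [hx]))
      rw [Cfsg.Agent.Block.finsum_mem_block, map_sum, map_zero] at h0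
      rw [← h0]
      refine Finset.sum_congr rfl fun η _ => ?_
      rw [map_mul, Complex.conj_conj, mul_comm]
  have hsum : ∑ h : G, ψ h * K h = (Nat.card G : ℂ) := by
    have e : ∑ h : G, ψ h * K h = ∑ χ ∈ Sq, ∑ η ∈ Sp, (χ : G → ℂ) y⁻¹ * (η : G → ℂ) x *
        ((Nat.card G : ℂ) * Cfsg.classInner (χ : G → ℂ) (η : G → ℂ)) := by
      simp only [hψdef, hKdef, Finset.sum_mul_sum]
      simp only [Finset.mul_sum, Cfsg.classInner]
      rw [Finset.sum_comm]
      refine Finset.sum_congr rfl fun χ _ => ?_
      rw [Finset.sum_comm]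
      refine Finset.sum_congr rfl fun η _ => Finset.sum_congr rfl fun h _ => ?_
      have : (Nat.card G : ℂ) ≠ 0 := Nat.cast_ne_zero.2 Nat.card_pos.ne'
      field_simp
    rw [e]
    rw [Finset.sum_eq_single (Cfsg.Agent.Block.trivialIrr G), Finset.sum_eq_single (Cfsg.Agent.Block.trivialIrr G)]
    · rw [Cfsg.Agent.Char.classInner_self_irr (Cfsg.Agent.Block.trivialIrr G).2]
      simp [Cfsg.Agent.Block.trivialIrr]
    · intro η _ hne
      rw [Cfsg.Agent.Char.classInner_irr_ne (Cfsg.Agent.Block.trivialIrr G).2 η.2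
        (fun e => hne (Subtype.ext e.symm)), mul_zero, mul_zero]
    · intro h
      exact absurd (Finset.mem_filter.2 ⟨Finset.mem_univ _, Cfsg.Agent.Block.trivial_mem_principalBlock hMp⟩) h
    · intro χ hχ hne
      refine Finset.sum_eq_zero fun η hη => ?_
      by_cases he : χ = η
      · subst he
        exact absurd (Finset.mem_filter.1 hχ).2
          (hno χ (fun e => hne (Subtype.ext e)) (Finset.mem_filter.1 hη).2)
      · rw [Cfsg.Agent.Char.classInner_irr_ne χ.2 η.2 (fun e => he (Subtype.ext e)), mul_zero,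
          mul_zero]
    · intro h
      exact absurd (Finset.mem_filter.2 ⟨Finset.mem_univ _, Cfsg.Agent.Block.trivial_mem_principalBlock hMq⟩) h
  rw [Finset.sum_eq_zero fun h _ => hT h] at hsum
  exact Nat.card_pos.ne' (by exact_mod_cast hsum.symm : Nat.card G = 0)

end Cfsg.Agent.S4498
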