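import Cfsg.Statements.S4507
import Cfsg.Agent.Lib.Char.DefectOneSetup
import Cfsg.Agent.Lib.Char.DefectOneFamilies

set_option autoImplicit false
open Cfsg

namespace Cfsg.Agent.S4507

open Cfsg.Agent.Block Cfsg.Agent.Char Cfsg.Agent.Char.BP

/-- Let G be a finite group whose order g is divisible by the prime p exactly once, g′ = g/p, and fix a maximal ideal M of the algebraic integers containing p. Call two irreducible characters p-conjugate when a field automorphism of ℂ fixing the g′-th roots of unity carries one to the other. Let B be a p-block of positive defect (its defect group is a Sylow p-subgroup). Then B contains a subset Y (the exceptional family) such that: Y is a full p-conjugacy class (its members are pairwise p-conjugate and every p-conjugate of a member of Y lies in Y); every member of B outside Y is p-conjugate only to itself; the size t of Y divides p − 1 and B has exactly t + (p − 1)/t members;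 and there are signs δ_χ = ±1 (χ ∈ B) such that for every p-regular element x and every θ ∈ Y, Σ_{χ ∈ B ∖ Y} δ_χ χ(x) + δ_θ θ(x) = 0. -/
theorem result {G : Type*} [Group G] [Finite G] (p : ℕ) [Fact p.Prime] (M : Ideal Cfsg.AlgInt) (hM : Cfsg.IsPModular p M) (hdiv : p ∣ Nat.card G) (hsq : ¬ p ^ 2 ∣ Nat.card G) (B : Set (Cfsg.IrrCharacter G)) (hB : Cfsg.IsPBlock M B) (hd : 0 < Cfsg.blockDefect p B) : ∃ Y : Set (Cfsg.IrrCharacter G), Y ⊆ B ∧ Y.Nonempty ∧ (∀ θ ∈ Y, ∀ ψ : Cfsg.IrrCharacter G, (∃ σ : ℂ ≃+* ℂ, σ (Complex.exp (2 * Real.pi * Complex.I / ((Nat.card G / p ^ (Nat.card G).factorization p) : ℕ))) = Complex.exp (2 * Real.pi * Complex.I / ((Nat.card G / p ^ (Nat.card G).factorization p) : ℕ)) ∧ (ψ : G → ℂ) = fun g => σ ((θ : G → ℂ) g)) ↔ ψ ∈ Y) ∧ (∀ χ ∈ B, χ ∉ Y → ∀ ψ : Cfsg.IrrCharacter G, (∃ σ : ℂ ≃+* ℂ, σ (Complex.exp (2 * Real.pi * Complex.I / ((Nat.card G / p ^ (Nat.card G).factorization p) : ℕ))) = Complex.exp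 (2 * Real.pi * Complex.I / ((Nat.card G / p ^ (Nat.card G).factorization p) : ℕ)) ∧ (ψ : G → ℂ) = fun g => σ ((χ : G → ℂ) g)) → ψ = χ) ∧ Nat.card Y ∣ p - 1 ∧ Nat.card B = Nat.card Y + (p - 1) / Nat.card Y ∧ ∃ δ : Cfsg.IrrCharacter G → ℤ, (∀ χ ∈ B, δ χ = 1 ∨ δ χ = -1) ∧ ∀ x : G, ¬ p ∣ orderOf x → ∀ θ ∈ Y, (∑ᶠ χ ∈ B \ Y, (δ χ : ℂ) * (χ : G → ℂ) x) + (δ θ : ℂ) * (θ : G → ℂ) x = 0 := by
  classical
  letI : Fintype G := Fintype.ofFinite G
  have hp : p.Prime := Fact.out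
  have hfac : (Nat.card G).factorization p = 1 := by
    have h1 := (hp.dvd_iff_one_le_factorization Nat.card_pos.ne').1 hdiv
    have h2 : ¬ 2 ≤ (Nat.card G).factorization p :=
      fun h => hsq ((hp.pow_dvd_iff_le_factorization Nat.card_pos.ne').2 h)
    omega
  obtain ⟨P, b, θ, T, u₀, hPp, hsyl, hθ, hθP, haB, hT, hu₀, hu₁⟩ :=
    DefectOne.exists_setup hM hB hd.ne' hfac
  obtain ⟨R, X, y, c, ε, hD⟩ := DefectOne.exists_data hM hPp hsyl hθ hθP hB haB hd.ne' hT hu₀ hu₁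
  obtain ⟨hcard, hdvd, hquot⟩ := DefectOne.counts hD
  set e := (Subgroup.centralizer (P : Set G)).relIndex T
  have hBY : ∀ χ, χ ∈ B \ Set.range y ↔ χ ∈ X := by
    intro χ
    rw [Set.mem_sdiff, hD.mem_iff]
    constructor
    · rintro ⟨h | ⟨q, hq⟩, hn⟩
      · exact h
      · exact absurd ⟨q, hq⟩ hn
    · exact fun h => ⟨Or.inl h, fun ⟨q, hq⟩ => hD.disj q (hq ▸ h)⟩
  refine ⟨Set.range y, ?_, ⟨y ((1 : (ZMod p)ˣ) : (ZMod p)ˣ ⧸ R), Set.mem_range_self _⟩, ?_, ?_,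
    ?_, ?_, fun χ => if χ ∈ X then c χ else ε, fun χ _ => ?_, ?_⟩
  · rintro _ ⟨q, rfl⟩
    exact (hD.mem_iff _).2 (Or.inr ⟨q, rfl⟩)
  · rintro _ ⟨q, rfl⟩ ψ
    constructor
    · rintro ⟨σ, hσ, hψ⟩
      obtain ⟨q', hq'⟩ := DefectOne.twist_Y hM hPp hsyl hθ hθP haB hT hu₀ hu₁ hD
        (DefectOne.fixesRoots_of_exp σ hσ) q
      exact ⟨q', hq'.symm.trans (Subtype.ext hψ.symm)⟩
    · rintro ⟨q', rfl⟩
      obtain ⟨σ, hσ, hσq⟩ := DefectOne.exists_twist hM hPp hsyl hθ hθP haB hT hu₀ hu₁ hD hfac q q'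
      refine ⟨σ, hσ _ ?_, by rw [← hσq]; rfl⟩
      exact (Complex.isPrimitiveRoot_exp _ (Nat.ordCompl_pos p Nat.card_pos.ne').ne').pow_eq_one
  · rintro χ hχ hY ψ ⟨σ, hσ, hψ⟩
    rw [← DefectOne.twist_X hM hPp hsyl hθ hθP haB hT hu₀ hu₁ hD (DefectOne.fixesRoots_of_exp σ hσ)
      ((hBY χ).1 ⟨hχ, hY⟩)]
    exact Subtype.ext hψ
  · rw [hquot]
    exact Nat.div_dvd_of_dvd hdvd
  · rw [hquot, hcard, Nat.div_div_self hdvd (by have := hp.two_le; omega), add_comm]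
  · show (if χ ∈ X then c χ else ε) = 1 ∨ (if χ ∈ X then c χ else ε) = -1
    split
    · next h => exact hD.c_sign χ h
    · exact hD.ε_sign
  · rintro x hx _ ⟨q, rfl⟩
    rw [show B \ Set.range y = (X : Set (IrrCharacter G)) from Set.ext hBY, finsum_mem_coe_finset]
    simp only [if_neg (hD.disj q)]
    rw [Finset.sum_congr rfl fun χ hχ => by rw [if_pos hχ]]
    exact hD.regular q x hx

end Cfsg.Agent.S4507
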