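import Cfsg.Statements.S4512
import Cfsg.Agent.Lib.Block.KleinFour
import Cfsg.Agent.Lib.Char.SectionRank
-- import your own Cfsg.Agent.* helpers here

set_option autoImplicit false
open Cfsg
open scoped ComplexConjugate

namespace Cfsg.Agent.S4512

/-- If G is a finite group with a Sylow 2-subgroup that is a Klein four-group and a single conjugacy class of involutions, then its principal 2-block (relative to a maximal ideal M of the algebraic integers containing 2) has 2-regular rank 3: the restrictions of its irreducible characters to the elements of odd order span a space of dimension 3 (it has three irreducible Brauer characters). -/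
theorem result {G : Type*} [Group G] [Finite G] (M : Ideal Cfsg.AlgInt) (hM : Cfsg.IsPModular 2 M) (P : Sylow 2 G)
    (hP : Nat.card P = 4) (hexp : ∀ x : P, x * x = 1)
    (hone : ∀ s t : G, orderOf s = 2 → orderOf t = 2 → IsConj s t) :
    Cfsg.blockRank 2 (Cfsg.principalBlock M G) = 3 := by
  classical
  haveI : Fact (Nat.Prime 2) := ⟨Nat.prime_two⟩
  cases nonempty_fintype G
  haveI hnt : Nontrivial (P : Subgroup G) := Finite.one_lt_card_iff_nontrivial.1 (by
    show 1 < Nat.card P
    omega)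
  have hK4 : IsKleinFour (P : Subgroup G) := ⟨hP, by
    exact (Monoid.exponent_eq_prime_iff Nat.prime_two).2 fun g hg =>
      orderOf_eq_prime (by rw [pow_two]; exact hexp g) hg⟩
  haveI := hK4
  obtain ⟨z₀, hz₀⟩ := exists_ne (1 : (P : Subgroup G))
  set z : G := (z₀ : G) with hzdef
  have hz2 : orderOf z = 2 := by
    rw [hzdef, Subgroup.orderOf_coe]
    exact orderOf_eq_prime (by rw [pow_two]; exact hexp z₀) hz₀
  have hz1 : z ≠ 1 := fun h => hz₀ (Subtype.ext h)
  obtain ⟨ζ₂, ζ₃, ζ₄, ε, -, n2, n3, d23, d24, d34, hB, hv, -, -, -, hrel⟩ :=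
    Block.klein_principal hM P hK4 hone
  set B := principalBlock M G with hBdef
  have hBb : IsPBlock M B := Block.isPBlock_principalBlock
  set A := Finset.univ.filter (fun χ : IrrCharacter G => χ ∈ B) with hA
  have n4 : (ζ₄ : G → ℂ) ≠ fun _ => 1 := fun h => by
    have h1 := (hv z hz2).2.2
    rw [h] at h1
    norm_num at h1
  have hAc : A.card = 4 := by
    have e : A = {Block.trivialIrr G, ζ₂, ζ₃, ζ₄} := by
      ext χ
      simp only [A, Finset.mem_filter, Finset.mem_univ, true_and, hB, Set.mem_setOf_eq,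
        Finset.mem_insert, Finset.mem_singleton]
      exact or_congr ⟨fun h => Subtype.ext h, fun h => by rw [h]; rfl⟩ Iff.rfl
    have t2 : Block.trivialIrr G ≠ ζ₂ := fun h => n2 (by rw [← h]; rfl)
    have t3 : Block.trivialIrr G ≠ ζ₃ := fun h => n3 (by rw [← h]; rfl)
    have t4 : Block.trivialIrr G ≠ ζ₄ := fun h => n4 (by rw [← h]; rfl)
    rw [e]
    simp [t2, t3, t4, d23, d24, d34]
  set C := Subgroup.centralizer ({z} : Set G) with hC
  obtain ⟨K, hKn, hK, hidx⟩ := Block.klein_centralizer_complement P hK4 z₀.2 hz1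
  have hzp : ∃ k : ℕ, orderOf z = 2 ^ k := ⟨1, by rw [hz2, pow_one]⟩
  have hC4 : (Nat.card C).factorization 2 = 2 := by
    rw [← K.card_mul_index, hidx, Nat.factorization_mul Nat.card_pos.ne' (by norm_num),
      Finsupp.add_apply, Nat.factorization_eq_zero_of_not_dvd hK,
      Nat.Prime.factorization_pow Nat.prime_two, Finsupp.single_eq_same, zero_add]
  have hcol : ∀ y : C, ¬ 2 ∣ orderOf y → ∀ t : G,
      ∑ χ ∈ A, (χ : G → ℂ) (t * (z * (y : G)) * t⁻¹) *
        conj ((χ : G → ℂ) (t * (z * (y : G)) * t⁻¹)) = 4 := by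
    intro y hy t
    have h := Block.principal_column (M := M) hM hzp (y := y) hy
    rw [Block.principal_column_complement hM hK hidx hy, hC4, Block.finsum_mem_block] at h
    rw [Finset.sum_congr rfl fun χ _ => by rw [Block.irr_classFun χ (z * (y : G)) t], h]
    norm_num
  -- the singular elements
  set Sg := Finset.univ.filter (fun g : G => 2 ∣ orderOf g) with hSg
  let f : (G ⧸ C) × K → G := fun w => w.1.out * (z * ((w.2 : C) : G)) * w.1.out⁻¹
  have hKodd : ∀ k : K, ¬ 2 ∣ orderOf (k : C) := fun k h => hK (by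
    rw [Subgroup.orderOf_coe] at h
    exact h.trans (orderOf_dvd_natCard k))
  have hordconj : ∀ t g : G, orderOf (t * g * t⁻¹) = orderOf g := fun t g =>
    MulEquiv.orderOf_eq (MulAut.conj t) g
  have hpp : ∀ (t : G) (k : K), IsPPart 2 (t * (z * ((k : C) : G)) * t⁻¹) (t * z * t⁻¹) :=
    fun t k => by
      have hc : Commute z ((k : C) : G) :=
        (Subgroup.mem_centralizer_singleton_iff.1 (k : C).2).symm
      refine ⟨t * ((k : C) : G) * t⁻¹, by rw [conj_mul], ?_, ⟨1, by rw [hordconj, hz2, pow_one]⟩, ?_⟩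
      · show t * z * t⁻¹ * (t * ((k : C) : G) * t⁻¹) = t * ((k : C) : G) * t⁻¹ * (t * z * t⁻¹)
        rw [conj_mul, conj_mul, hc.eq]
      · rw [hordconj, Subgroup.orderOf_coe]; exact hKodd k
  have hfSg : ∀ w, f w ∈ Sg := fun w => by
    refine Finset.mem_filter.2 ⟨Finset.mem_univ _, ?_⟩
    obtain ⟨v, h1, h2, h3, h4⟩ := hpp w.1.out w.2
    have hz' := Block.mem_zpowers_of_pPart (hpp w.1.out w.2)
    have := orderOf_dvd_of_mem_zpowers hz'
    rwa [hordconj, hz2] at this
  have hfinj : Function.Injective f := by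
    rintro ⟨q, k⟩ ⟨q', k'⟩ h
    have h1 : IsPPart 2 (f (q', k')) (q.out * z * q.out⁻¹) := h ▸ hpp q.out k
    have h2 := Block.pPart_unique h1 (hpp q'.out k')
    have hq : q = q' := by
      rw [← QuotientGroup.out_eq' q, ← QuotientGroup.out_eq' q', QuotientGroup.eq]
      refine Subgroup.mem_centralizer_singleton_iff.2 ?_
      calc q.out⁻¹ * q'.out * z = q.out⁻¹ * (q'.out * z * q'.out⁻¹) * q'.out := by group
        _ = q.out⁻¹ * (q.out * z * q.out⁻¹) * q'.out := by rw [h2]
        _ = z * (q.out⁻¹ * q'.out) := by group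
    subst hq
    simp only [f, mul_left_inj, mul_right_inj] at h
    exact Prod.ext rfl (Subtype.ext (Subtype.ext h))
  have hconjf : ∀ g ∈ Sg, ∃ w, f w = g := by
    intro g hg
    obtain ⟨u, v, huv, hcom, ⟨j, hj⟩, hv, -, -⟩ := Block.exists_pPart_zpowers (p := 2) g
    have hu1 : u ≠ 1 := fun h => by
      rw [h, one_mul] at huv
      exact hv (huv ▸ (Finset.mem_filter.1 hg).2)
    obtain ⟨Q, hQ⟩ := (IsPGroup.of_card (n := j) (G := Subgroup.zpowers u)
      (by rw [Nat.card_zpowers, hj])).exists_le_sylow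
    obtain ⟨s, hs⟩ := MulAction.exists_smul_eq G Q P
    have hu2 : orderOf u = 2 := by
      have hm : s * u * s⁻¹ ∈ (P : Subgroup G) := by
        rw [← hs]
        exact ⟨u, hQ (Subgroup.mem_zpowers u), rfl⟩
      refine orderOf_eq_prime ?_ hu1
      have := congrArg Subtype.val (hexp ⟨_, hm⟩)
      change s * u * s⁻¹ * (s * u * s⁻¹) = 1 at this
      rw [conj_mul, conj_eq_one_iff] at this
      rw [pow_two]; exact this
    obtain ⟨t, ht⟩ := isConj_iff.1 (hone z u hz2 hu2)
    set q : G ⧸ C := (t : G ⧸ C)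
    obtain ⟨c, hc⟩ := QuotientGroup.mk_out_eq_mul C t
    have hu' : u = q.out * z * q.out⁻¹ := by
      rw [show q.out = t * (c : G) from hc, ← ht]
      have := Subgroup.mem_centralizer_singleton_iff.1 c.2
      calc t * z * t⁻¹ = t * (z * (c : G)) * (c : G)⁻¹ * t⁻¹ := by group
        _ = t * ((c : G) * z) * (c : G)⁻¹ * t⁻¹ := by rw [this]
        _ = _ := by group
    have hvC : q.out⁻¹ * v * q.out ∈ C := by
      refine Subgroup.mem_centralizer_singleton_iff.2 ?_
      calc q.out⁻¹ * v * q.out * z = q.out⁻¹ * (v * u) * q.out := by rw [hu']; group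
        _ = q.out⁻¹ * (u * v) * q.out := by rw [hcom.eq]
        _ = _ := by rw [hu']; group
    have hvo : ¬ 2 ∣ orderOf (⟨_, hvC⟩ : C) := by
      rw [← Subgroup.orderOf_coe]
      have := hordconj q.out⁻¹ v
      rw [inv_inv] at this
      rwa [this]
    refine ⟨(q, ⟨⟨_, hvC⟩, Block.regular_mem_of_index_pPow hidx hvo⟩), ?_⟩
    show q.out * (z * (q.out⁻¹ * v * q.out)) * q.out⁻¹ = g
    rw [← huv, hu']
    group
  have hsing : 4 * Sg.card = Nat.card G := by
    have e : Sg.card = (Finset.univ : Finset ((G ⧸ C) × K)).card :=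
      (Finset.card_bij (fun w _ => f w) (fun w _ => hfSg w) (fun a _ b _ h => hfinj h)
        fun g hg => (hconjf g hg).imp fun w hw => ⟨Finset.mem_univ w, hw⟩).symm
    rw [e, Finset.card_univ, ← Nat.card_eq_fintype_card, Nat.card_prod, ← Subgroup.index_eq_card,
      ← Subgroup.index_mul_card C, ← K.card_mul_index, hidx]
    ring
  have hsum := Char.Spec.sum_regSum_self hM hBb
  have hreg : ∀ χ : IrrCharacter G, Block.regSum 2 (χ : G → ℂ) (χ : G → ℂ) +
      ∑ g ∈ Sg, (χ : G → ℂ) g * conj ((χ : G → ℂ) g) = (Nat.card G : ℂ) := by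
    intro χ
    have h := Char.classInner_self_irr χ.2
    rw [classInner, inv_mul_eq_iff_eq_mul₀ (Nat.cast_ne_zero.2 Nat.card_pos.ne'), mul_one] at h
    rw [Block.regSum_eq_sum, add_comm, ← h, hSg]
    exact Finset.sum_filter_add_sum_filter_not _ _ _
  have h2 : ∑ χ ∈ A, ∑ g ∈ Sg, (χ : G → ℂ) g * conj ((χ : G → ℂ) g) = (Sg.card : ℂ) * 4 := by
    rw [Finset.sum_comm, ← nsmul_eq_mul, ← Finset.sum_const]
    refine Finset.sum_congr rfl fun g hg => ?_
    obtain ⟨w, rfl⟩ := hconjf g hg
    exact hcol _ (hKodd w.2) _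
  have h3 := Finset.sum_congr rfl fun χ (_ : χ ∈ A) => hreg χ
  rw [Finset.sum_add_distrib, hsum, h2, Finset.sum_const, nsmul_eq_mul, hAc] at h3
  rw [← hsing] at h3
  push_cast at h3
  have hG0 : (Sg.card : ℂ) ≠ 0 := Nat.cast_ne_zero.2 fun h => by
    have := hsing; rw [h, mul_zero] at this
    exact Nat.card_pos.ne' this.symm
  have : (blockRank 2 B : ℂ) = 3 := mul_left_cancel₀ (mul_ne_zero (by norm_num : (4:ℂ) ≠ 0) hG0)
    (by linear_combination h3)
  exact_mod_cast this

end Cfsg.Agent.S4512
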