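import Cfsg.Statements.S4517
import Cfsg.Agent.Lib.Char.RealBlock

set_option autoImplicit false
open Cfsg

namespace Cfsg.Agent.S4517

/-- Let G be a finite group, M a maximal ideal of the algebraic integers containing 2, and k a natural number coprime to the order of G with g ^ k = g⁻¹ for every element g of odd order (so that g ↦ g ^ k induces a field automorphism of the character values inverting the roots of unity of odd order). If B is a 2-block of full defect (its defect equals the exponent of 2 in the order of G) that is stable under χ ↦ χ ∘ (· ^ k), then B is the principal 2-block. -/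
theorem result {G : Type*} [Group G] [Finite G] (M : Ideal Cfsg.AlgInt) (hM : Cfsg.IsPModular 2 M) (k : ℕ) (hk : Nat.Coprime k (Nat.card G)) (hk₂ : ∀ g : G, Odd (orderOf g) → g ^ k = g⁻¹) (B : Set (Cfsg.IrrCharacter G)) (hB : Cfsg.IsPBlock M B) (hdef : Cfsg.blockDefect 2 B = (Nat.card G).factorization 2) (hstab : ∀ χ ∈ B, ∃ ψ ∈ B, ∀ g : G, (ψ : G → ℂ) g = (χ : G → ℂ) (g ^ k)) : B = Cfsg.principalBlock M G := by
  classical
  obtain ⟨χ, hχ, h0⟩ := Cfsg.Agent.Block.exists_height_zero hM hB
  have h := (Cfsg.Agent.Block.blockHeight_zero_iff hM hB hχ).mp h0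
  have hodd : Odd (charDegree (χ : G → ℂ)) := by
    have hv : (charDegree (χ : G → ℂ)).factorization 2 = 0 := by omega
    rw [← Nat.not_even_iff_odd, even_iff_two_dvd]
    intro h2
    exact (Nat.Prime.factorization_pos_of_dvd Nat.prime_two (Cfsg.Agent.Block.charDeg_pos χ).ne' h2).ne' hv
  obtain ⟨ψ, hψ, hψe⟩ := hstab χ hχ
  have he : Cfsg.Agent.Char.RealBlock.powIrr hk χ = ψ := Subtype.ext (funext fun g => (hψe g).symm)
  obtain ⟨hsym, hω⟩ := Cfsg.Agent.Char.RealBlock.sym_of_pow hM hk hk₂ hB hχ (he ▸ hψ)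
  exact Cfsg.Agent.Char.RealBlock.principal_of_sym hM hB hχ hsym (hω χ hχ)
    (Cfsg.Agent.Char.RealBlock.hreal_of_odd_degree hM hodd)

end Cfsg.Agent.S4517
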