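import Cfsg.Statements.S4518
import Cfsg.Agent.Lib.Char.Clifford
import Cfsg.Agent.Lib.Char.Galois
import Cfsg.Agent.Lib.Char.Constituent

set_option autoImplicit false
open Cfsg

namespace Cfsg.Agent.S4518

/-- Let N be a normal subgroup of the finite group G whose index is not divisible by the prime p, and let k be coprime to the order of G with k ^ (p ^ e) ≡ 1 modulo the order of G for some e (so g ↦ g ^ k induces a field automorphism of p-power order on character values). If an irreducible character χ of G satisfies χ (g ^ k) = χ g for all g, then every irreducible constituent θ of the restriction of χ to N satisfies θ (n ^ k) = θ n for all n. -/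
theorem result {G : Type*} [Group G] [Fintype G] (p : ℕ) [Fact p.Prime] (N : Subgroup G) [N.Normal] [Fintype N] (hidx : ¬ p ∣ N.index) (k e : ℕ) (hk : Nat.Coprime k (Nat.card G)) (hke : k ^ (p ^ e) ≡ 1 [MOD Nat.card G]) (χ : Cfsg.IrrCharacter G) (hχ : ∀ g : G, (χ : G → ℂ) (g ^ k) = (χ : G → ℂ) g) (θ : Cfsg.IrrCharacter N) (hθ : Cfsg.classInner (fun n : N => (χ : G → ℂ) n) (θ : N → ℂ) ≠ 0) : ∀ n : N, (θ : N → ℂ) (n ^ k) = (θ : N → ℂ) n := by
  classical
  open Cfsg.Agent.Char in
  have key : ∃ ψ ∈ conjOrbit N (θ : N → ℂ), (fun n : N => ψ (n ^ k)) = ψ := by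
    set O := conjOrbit N (θ : N → ℂ) with hO
    have hkN : k.Coprime (Nat.card N) := hk.coprime_dvd_right (Subgroup.card_subgroup_dvd_card N)
    have hmem : ∀ ψ ∈ O, (fun n : N => ψ (n ^ k)) ∈ O := by
      intro ψ hψ
      obtain ⟨g, rfl⟩ := (mem_conjOrbit N).1 hψ
      have hirr : Cfsg.IsIrrCharacter N (fun n : N => conjN N g (θ : N → ℂ) (n ^ k)) :=
        IsIrr.pow_map (IsIrr.conjN N θ.2 g) hkN
      refine (mem_conjOrbit N).2 (exists_conj_of_constituents N χ.2 θ.2 hirr hθ ?_)
      have h1 : Cfsg.classInner (fun n : N => (χ : G → ℂ) n) (conjN N g (θ : N → ℂ)) ≠ 0 := by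
        rw [classInner_res_conjN N (IsIrr.classFun χ.2)]
        exact hθ
      convert h1 using 1
      rw [Cfsg.classInner, Cfsg.classInner]
      congr 1
      refine Fintype.sum_equiv (powCoprime hkN.symm) _ _ fun n => ?_
      show _ = (χ : G → ℂ) ((n ^ k : N) : G) * _
      rw [Subgroup.coe_pow, hχ]
      rfl
    have hiter : ∀ (j : ℕ) (ψ : N → ℂ) (n : N),
        ((fun φ : N → ℂ => fun m : N => φ (m ^ k))^[j]) ψ n = ψ (n ^ (k ^ j)) := by
      intro j
      induction j with
      | zero => intro ψ n; simp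
      | succ j ih =>
        intro ψ n
        rw [Function.iterate_succ_apply, ih, pow_succ, pow_mul]
    let f : ↥O → ↥O := fun ψ => ⟨_, hmem ψ.1 ψ.2⟩
    have hf : Function.Bijective f := by
      refine Finite.injective_iff_bijective.1 fun a b h => Subtype.ext (funext fun n => ?_)
      obtain ⟨m, rfl⟩ := (powCoprime hkN.symm).surjective n
      exact congrFun (congrArg Subtype.val h) m
    let σ : Equiv.Perm ↥O := Equiv.ofBijective f hf
    have hσ : σ ^ p ^ e = 1 := by
      refine Equiv.ext fun ψ => Subtype.ext (funext fun n => ?_)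
      rw [Equiv.Perm.coe_pow]
      have hcomm : ∀ (j : ℕ) (φ : ↥O), ((σ^[j] φ : ↥O) : N → ℂ) =
          ((fun φ : N → ℂ => fun m : N => φ (m ^ k))^[j]) (φ : N → ℂ) := by
        intro j
        induction j with
        | zero => intro φ; rfl
        | succ j ih =>
          intro φ
          rw [Function.iterate_succ_apply, ih, Function.iterate_succ_apply]
          rfl
      rw [hcomm, hiter]
      have hn : n ^ k ^ p ^ e = n := by
        have h2 : n ^ k ^ p ^ e = n ^ 1 := pow_eq_pow_iff_modEq.2 (hke.of_dvd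
          ((orderOf_dvd_natCard n).trans (Subgroup.card_subgroup_dvd_card N)))
        rwa [pow_one] at h2
      rw [hn]
      rfl
    have hcard : ¬ p ∣ Fintype.card ↥O := by
      rw [Fintype.card_coe, hO, card_conjOrbit]
      exact fun h => hidx (h.trans (Subgroup.index_dvd_of_le (le_inertia N (IsIrr.classFun θ.2))))
    obtain ⟨ψ, hψ⟩ := Equiv.Perm.exists_fixed_point_of_prime hcard hσ
    exact ⟨ψ.1, ψ.2, congrArg Subtype.val hψ⟩
  obtain ⟨ψ, hψ, hfix⟩ := key
  obtain ⟨g, rfl⟩ := (Cfsg.Agent.Char.mem_conjOrbit N).1 hψ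
  intro n
  have hn := congrFun hfix ⟨g⁻¹ * n * g, by simpa using (inferInstance : N.Normal).conj_mem n n.2 g⁻¹⟩
  simp only [Cfsg.Agent.Char.conjN_apply, Subgroup.coe_pow] at hn
  convert hn using 2 <;> refine Subtype.ext ?_
  · show (n : G) ^ k = g * (g⁻¹ * n * g) ^ k * g⁻¹
    rw [← conj_pow]
    group
  · show (n : G) = g * (g⁻¹ * n * g) * g⁻¹
    group

end Cfsg.Agent.S4518
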