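import Cfsg.Statements.S4520
import Cfsg.Agent.Lib.Char.RealBlock

set_option autoImplicit false
open Cfsg

namespace Cfsg.Agent.S4520

open Cfsg.Agent.Block Cfsg.Agent.Char.RealBlock

/-- Let N be a normal subgroup of odd index in the finite group G, M a maximal ideal of the algebraic integers containing 2, and k coprime to the order of G with k ^ (2 ^ e) ≡ 1 modulo the order of G for some e and g ^ k = g⁻¹ for every element g of odd order. Let θ be an irreducible character of N and χ an irreducible character of G over θ, both unchanged by composing with g ↦ g ^ k. Then χ lies in the principal 2-block of G if and only if θ lies in the principal 2-block of N. -/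
theorem result {G : Type*} [Group G] [Fintype G] (M : Ideal Cfsg.AlgInt) (hM : Cfsg.IsPModular 2 M) (N : Subgroup G) [N.Normal] [Fintype N] (hidx : Odd N.index) (k e : ℕ) (hk : Nat.Coprime k (Nat.card G)) (hke : k ^ (2 ^ e) ≡ 1 [MOD Nat.card G]) (hk₂ : ∀ g : G, Odd (orderOf g) → g ^ k = g⁻¹) (θ : Cfsg.IrrCharacter N) (hθ : ∀ n : N, (θ : N → ℂ) (n ^ k) = (θ : N → ℂ) n) (χ : Cfsg.IrrCharacter G) (hχ : ∀ g : G, (χ : G → ℂ) (g ^ k) = (χ : G → ℂ) g) (hover : Cfsg.classInner (fun n : N => (χ : G → ℂ) n) (θ : N → ℂ) ≠ 0) : χ ∈ Cfsg.principalBlock M G ↔ θ ∈ Cfsg.principalBlock M N := by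
  classical
  have htriv : classInner (fun n : N => ((trivialIrr G : IrrCharacter G) : G → ℂ) n)
      ((trivialIrr N : IrrCharacter N) : N → ℂ) ≠ 0 := by
    show classInner (fun _ : N => (1 : ℂ)) (fun _ => 1) ≠ 0
    rw [Cfsg.Agent.Char.classInner_irr_eq_ite Cfsg.Agent.Char.isIrr_one Cfsg.Agent.Char.isIrr_one,
      if_pos rfl]
    exact one_ne_zero
  constructor
  · intro hχ0
    by_contra hθ0
    let a : G → ℂ := fun g => if h : g ∈ N then blockCoeff (principalBlock M N) ⟨g, h⟩ else 0
    have haN : (fun n : N => a n) = blockCoeff (principalBlock M N) := funext fun n => by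
      simp [a]
    have ha : IsClassFunction G a := by
      intro g x
      by_cases hg : g ∈ N
      · have hx : x * g * x⁻¹ ∈ N := (inferInstance : N.Normal).conj_mem g hg x
        simp only [a, dif_pos hg, dif_pos hx]
        have := blockCoeff_principal_mulEquiv hM (Cfsg.Agent.Char.conjEquivN N x) ⟨g, hg⟩
        rwa [Cfsg.Agent.Char.conjEquivN_apply] at this
      · have hx : x * g * x⁻¹ ∉ N := fun h => hg (by
          simpa [mul_assoc] using (inferInstance : N.Normal).conj_mem _ h x⁻¹)
        simp only [a, dif_neg hg, dif_neg hx]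
    have hr : ∀ g, MemLocalRing M (a g) := fun g => by
      simp only [a]
      split_ifs
      · exact blockCoeff_ring hM isPBlock_principalBlock _
      · exact ring_zero hM
    have h1 : omegaFun χ a = 0 := by
      rw [omegaFun_eq_res N hover ha fun g hg => dif_neg hg, haN, funext (blockCoeff_eq _),
        omegaFun_coeffFun, blockInd_of_notMem hθ0]
    have h2 : omegaFun (trivialIrr G) a = 1 := by
      rw [omegaFun_eq_res N htriv ha fun g hg => dif_neg hg, haN, funext (blockCoeff_eq _),
        omegaFun_coeffFun, blockInd_of_mem (trivial_mem_principalBlock hM)]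
    have h3 := omegaFun_congr hM (show SameBlock M ((trivialIrr G : IrrCharacter G) : G → ℂ) (χ : G → ℂ) from hχ0) ha hr
    rw [h1, h2, sub_zero] at h3
    exact ideal_one hM h3
  · intro hθ0
    have hB := isPBlock_blockOf (M := M) χ
    have hχB := mem_blockOf_self hM χ
    have he : powIrr hk χ = χ := Subtype.ext (funext hχ)
    obtain ⟨hsym, hω⟩ := sym_of_pow hM hk hk₂ hB hχB (he.symm ▸ hχB)
    rw [← principal_of_sym hM hB hχB hsym (hω χ hχB) ?_]
    · exact hχB
    intro g _ _ hr
    have hg : g ∈ N := by
      rw [← QuotientGroup.eq_one_iff]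
      refine eq_one_of_real_of_odd_card ?_ ((QuotientGroup.mk' N).map_isConj hr)
      rw [← Subgroup.index_eq_card]
      exact hidx
    have hsupp : ∀ y ∉ N, classInd g y = 0 := fun y hy => by
      simp only [classInd]
      rw [if_neg]
      intro h
      obtain ⟨c, rfl⟩ := isConj_iff.mp h
      exact hy ((inferInstance : N.Normal).conj_mem g hg c)
    have hca : IsClassFunction N (fun n : N => classInd g (n : G)) := fun n m => classInd_classFun g n m
    have hcr : ∀ n : N, MemLocalRing M (classInd g (n : G)) := fun n => by
      simp only [classInd]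
      split_ifs
      · exact ring_one hM
      · exact ring_zero hM
    have h3 := omegaFun_congr hM
      (show SameBlock M ((trivialIrr N : IrrCharacter N) : N → ℂ) (θ : N → ℂ) from hθ0) hca hcr
    rw [← omegaFun_eq_res N htriv (classInd_classFun g) hsupp,
      ← omegaFun_eq_res N hover (classInd_classFun g) hsupp, omegaFun_classInd, omegaFun_classInd,
      trivialIrr_centralChar] at h3
    exact ideal_sub_comm h3

end Cfsg.Agent.S4520
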