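import Cfsg.Statements.S4521
import Cfsg.Agent.Lib.Block.PrincipalColumn
import Cfsg.Agent.Lib.Char.Clifford
import Cfsg.Agent.Lib.Char.Schur

set_option autoImplicit false
open Cfsg

namespace Cfsg.Agent.S4521
open scoped ComplexConjugate
open Cfsg.Agent.Char Cfsg.Agent.Block

universe u

variable {G : Type u} [Group G] [Fintype G] {U₁ U₂ : Subgroup G}

theorem exists_mul (hcomm : ∀ u ∈ U₁, ∀ v ∈ U₂, u * v = v * u) (hgen : U₁ ⊔ U₂ = ⊤) (g : G) :
    ∃ a ∈ U₁, ∃ b ∈ U₂, a * b = g := by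
  have h : g ∈ U₁ ⊔ U₂ := hgen ▸ Subgroup.mem_top g
  rw [← SetLike.mem_coe, Subgroup.coe_mul_of_left_le_normalizer_right _ _ (fun a ha =>
    Subgroup.mem_normalizer_iff.2 fun b => ⟨fun hb => by rwa [hcomm a ha b hb, mul_inv_cancel_right],
      fun hb => by
        have h1 := hcomm a ha _ hb
        rw [inv_mul_cancel_right] at h1
        exact (mul_left_cancel h1).symm ▸ hb⟩)] at h
  obtain ⟨a, ha, b, hb, e⟩ := h
  exact ⟨a, ha, b, hb, e⟩

theorem conj_eq (hcomm : ∀ u ∈ U₁, ∀ v ∈ U₂, u * v = v * u) {a b u : G} (hb : b ∈ U₂)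
    (hu : u ∈ U₁) : a * b * u * (a * b)⁻¹ = a * u * a⁻¹ := by
  rw [mul_assoc a b u, ← hcomm u hu b hb]
  group

theorem normal_left (hcomm : ∀ u ∈ U₁, ∀ v ∈ U₂, u * v = v * u) (hgen : U₁ ⊔ U₂ = ⊤) :
    U₁.Normal := ⟨fun u hu g => by
  obtain ⟨a, ha, b, hb, rfl⟩ := exists_mul hcomm hgen g
  rw [conj_eq hcomm hb hu]
  exact mul_mem (mul_mem ha hu) (inv_mem ha)⟩

/-- The values on a product of commuting factors. -/
theorem value_mul [Fintype U₁] (hcomm : ∀ u ∈ U₁, ∀ v ∈ U₂, u * v = v * u) (hgen : U₁ ⊔ U₂ = ⊤)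
    {χ : G → ℂ} (hχ : Cfsg.IsIrrCharacter G χ) {v : G} (hv : v ∈ U₂) (u : U₁) :
    χ ((u : G) * v) = χ v / χ 1 * χ u := by
  classical
  haveI := normal_left hcomm hgen
  have hF : Cfsg.IsClassFunction U₁ (fun u : U₁ => χ ((u : G) * v)) := fun x t => by
    show χ ((t : G) * x * (t : G)⁻¹ * v) = χ ((x : G) * v)
    rw [show (t : G) * x * (t : G)⁻¹ * v = t * ((x : G) * v) * (t : G)⁻¹ by
      rw [mul_assoc ((t : G) * x), hcomm _ (inv_mem t.2) v hv]; group]
    exact IsIrr.classFun hχ _ _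
  have hcl : Cfsg.IsClassFunction U₁ (fun u : U₁ => χ v / χ 1 * χ u) := fun x t => by
    simp only [Subgroup.coe_mul, Subgroup.coe_inv]
    rw [IsIrr.classFun hχ]
  refine congrFun (classFunction_ext hF hcl fun φ hφ => ?_) u
  set f : G → ℂ := fun g => if h : g ∈ U₁ then conj (φ ⟨g, h⟩) else 0 with hf
  have hfc : Cfsg.IsClassFunction G f := fun x t => by
    by_cases hx : x ∈ U₁
    · obtain ⟨a, ha, b, hb, rfl⟩ := exists_mul hcomm hgen t
      simp only [hf, dif_pos hx, conj_eq hcomm hb hx,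
        dif_pos (mul_mem (mul_mem ha hx) (inv_mem ha))]
      exact congrArg _ (IsIrr.classFun hφ ⟨x, hx⟩ ⟨a, ha⟩)
    · simp only [hf, dif_neg hx]
      exact dif_neg fun h => hx (by
        have := (inferInstance : U₁.Normal).conj_mem _ h t⁻¹
        simpa [mul_assoc] using this)
  have hsum : ∀ y : G, ∑ g : G, f g * χ (g * y) = ∑ u : U₁, conj (φ u) * χ ((u : G) * y) := by
    intro y
    rw [Finset.sum_congr rfl (g := fun g => if h : g ∈ U₁ then conj (φ ⟨g, h⟩) * χ (g * y) else 0)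
      fun g _ => by simp only [hf]; split_ifs <;> simp]
    exact (Finset.sum_bij' (fun (u : U₁) _ => (u : G))
      (fun g hg => if h : g ∈ U₁ then (⟨g, h⟩ : U₁) else 1) (fun u _ => Finset.mem_filter.2
        ⟨Finset.mem_univ _, u.2⟩) (fun _ _ => Finset.mem_univ _) (fun u _ => by simp)
      (fun g hg => by simp [(Finset.mem_filter.1 hg).2]) (fun u _ => by simp)).trans
      (Finset.sum_filter_of_ne fun g _ hne => by
        by_contra h; rw [dif_neg h] at hne; exact hne rfl) |>.symm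
  have h1 := sum_classFun_mul_apply hχ hfc v
  rw [hsum] at h1
  have h2 : ∑ g : G, f g * χ g = ∑ u : U₁, conj (φ u) * χ u := by
    have := hsum 1
    simpa using this
  rw [h2] at h1
  simp only [Cfsg.classInner]
  rw [Finset.sum_congr rfl (g := fun u : U₁ => conj (φ u) * χ ((u : G) * v))
      fun u _ => mul_comm _ _, h1, Finset.sum_div,
    Finset.sum_mul]
  congr 1
  refine Finset.sum_congr rfl fun u _ => ?_
  ring

theorem regTot_constituent [Fintype U₁] (p : ℕ) (hcomm : ∀ u ∈ U₁, ∀ v ∈ U₂, u * v = v * u)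
    (hgen : U₁ ⊔ U₂ = ⊤) (χ : Cfsg.IrrCharacter G) (ψ : Cfsg.IrrCharacter U₁)
    (h : Cfsg.classInner (fun u : U₁ => (χ : G → ℂ) u) (ψ : U₁ → ℂ) ≠ 0) :
    PrinCol.regTot p (fun u : U₁ => (χ : G → ℂ) u) = 0 ↔ PrinCol.regTot p (ψ : U₁ → ℂ) = 0 := by
  classical
  haveI := normal_left hcomm hgen
  have horb : conjOrbit U₁ (ψ : U₁ → ℂ) = {(ψ : U₁ → ℂ)} := by
    ext φ
    rw [mem_conjOrbit, Finset.mem_singleton]
    constructor
    · rintro ⟨g, rfl⟩
      obtain ⟨a, ha, b, hb, rfl⟩ := exists_mul hcomm hgen g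
      refine funext fun u => ?_
      rw [conjN_apply]
      rw [show (⟨a * b * u * (a * b)⁻¹, (inferInstance : U₁.Normal).conj_mem u u.2 (a * b)⟩ : U₁) =
        ⟨a, ha⟩ * u * (⟨a, ha⟩ : U₁)⁻¹ from Subtype.ext (conj_eq hcomm hb u.2)]
      exact IsIrr.classFun ψ.2 _ _
    · rintro rfl; exact ⟨1, conjN_one U₁ _⟩
  have hc := clifford U₁ χ.2 ψ.2 h
  rw [horb, Finset.sum_singleton] at hc
  have e : PrinCol.regTot p (fun u : U₁ => (χ : G → ℂ) u) =
      Cfsg.classInner (fun u : U₁ => (χ : G → ℂ) u) (ψ : U₁ → ℂ) * PrinCol.regTot p (ψ : U₁ → ℂ) := by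
    rw [PrinCol.regTot, PrinCol.regTot, Finset.mul_sum]
    exact Finset.sum_congr rfl fun u _ => congrFun hc u
  rw [e, mul_eq_zero, or_iff_right h]


/-- Let the finite group G be generated by subgroups U₁ and U₂ that commute elementwise and whose intersection is a p-group, and let M be a maximal ideal of the algebraic integers containing the prime p. If the irreducible character χ of G has the irreducible constituents ψ₁ on U₁ and ψ₂ on U₂, then χ lies in the principal block of G if and only if ψ₁ and ψ₂ lie in the principal blocks of U₁ and U₂. -/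
theorem result {G : Type*} [Group G] [Fintype G] (p : ℕ) [Fact p.Prime] (M : Ideal Cfsg.AlgInt) (hM : Cfsg.IsPModular p M) (U₁ U₂ : Subgroup G) [Fintype U₁] [Fintype U₂] (hcomm : ∀ u ∈ U₁, ∀ v ∈ U₂, u * v = v * u) (hgen : U₁ ⊔ U₂ = ⊤) (hZ : IsPGroup p ↥(U₁ ⊓ U₂)) (χ : Cfsg.IrrCharacter G) (ψ₁ : Cfsg.IrrCharacter U₁) (ψ₂ : Cfsg.IrrCharacter U₂) (h₁ : Cfsg.classInner (fun u : U₁ => (χ : G → ℂ) u) (ψ₁ : U₁ → ℂ) ≠ 0) (h₂ : Cfsg.classInner (fun u : U₂ => (χ : G → ℂ) u) (ψ₂ : U₂ → ℂ) ≠ 0) : χ ∈ Cfsg.principalBlock M G ↔ (ψ₁ ∈ Cfsg.principalBlock M U₁ ∧ ψ₂ ∈ Cfsg.principalBlock M U₂) := by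
  classical
  have hp : p.Prime := Fact.out
  have hcomm' : ∀ u ∈ U₂, ∀ v ∈ U₁, u * v = v * u := fun u hu v hv => (hcomm v hv u hu).symm
  have hgen' : U₂ ⊔ U₁ = ⊤ := sup_comm U₁ U₂ ▸ hgen
  rw [PrinCol.mem_principal_iff hM, PrinCol.mem_principal_iff hM, PrinCol.mem_principal_iff hM]
  simp only [ne_eq]
  rw [← not_iff_not.2 (regTot_constituent p hcomm hgen χ ψ₁ h₁),
    ← not_iff_not.2 (regTot_constituent p hcomm' hgen' χ ψ₂ h₂)]
  -- regular elements decompose uniquely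
  obtain ⟨A, m, hm, hcard⟩ := Nat.exists_eq_pow_mul_and_not_dvd Nat.card_pos.ne' p hp.ne_one
    (n := Nat.card G)
  obtain ⟨k, hk0, hk1⟩ := Nat.chineseRemainder ((hp.coprime_iff_not_dvd.2 hm).pow_left A) 0 1
  have hreg : ∀ x : G, ¬ p ∣ orderOf x → x ^ k = x := fun x hx => by
    conv_rhs => rw [← pow_one x]
    refine pow_eq_pow_iff_modEq.2 (hk1.of_dvd ?_)
    refine ((Nat.Coprime.pow_right A (hp.coprime_iff_not_dvd.2 hx).symm)).dvd_of_dvd_mul_left ?_
    rw [← hcard]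
    exact orderOf_dvd_natCard x
  have hpowreg : ∀ x : G, ¬ p ∣ orderOf (x ^ k) := fun x hdvd => by
    refine hm (hdvd.trans (orderOf_dvd_of_pow_eq_one ?_))
    obtain ⟨q, hq⟩ := Nat.modEq_zero_iff_dvd.1 hk0
    rw [← pow_mul, hq, mul_right_comm, ← hcard, pow_mul, pow_card_eq_one', one_pow]
  have hprod : PrinCol.regTot p (χ : G → ℂ) * (χ : G → ℂ) 1 =
      PrinCol.regTot p (fun u : U₁ => (χ : G → ℂ) u) *
        PrinCol.regTot p (fun u : U₂ => (χ : G → ℂ) u) := by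
    simp only [PrinCol.regTot]
    rw [Finset.sum_mul_sum, ← Finset.sum_product', Finset.sum_mul]
    refine (Finset.sum_bij (fun z _ => ((z.1 : U₁) : G) * ((z.2 : U₂) : G)) (fun z hz => ?_)
      (fun z hz t ht he => ?_) (fun x hx => ?_) (fun z hz => ?_)).symm
    · simp only [Finset.mem_product, Finset.mem_filter, Finset.mem_univ, true_and,
        ← Subgroup.orderOf_coe] at hz ⊢
      exact fun hd => hp.not_dvd_mul hz.1 hz.2
        (hd.trans ((Commute.orderOf_mul_dvd_lcm (hcomm _ z.1.2 _ z.2.2)).trans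
          (Nat.lcm_dvd_mul _ _)))
    · simp only [Finset.mem_product, Finset.mem_filter, Finset.mem_univ, true_and,
        ← Subgroup.orderOf_coe] at hz ht
      set w : G := ((t.1 : U₁) : G)⁻¹ * z.1 with hw
      have hw2 : w = (t.2 : G) * (z.2 : G)⁻¹ := by
        rw [hw, eq_mul_inv_iff_mul_eq, mul_assoc, inv_mul_eq_iff_eq_mul]
        exact he
      have hw1 : w ∈ U₁ ⊓ U₂ :=
        ⟨show w ∈ U₁ from mul_mem (inv_mem t.1.2) z.1.2,
          show w ∈ U₂ from hw2 ▸ mul_mem t.2.2 (inv_mem z.2.2)⟩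
      obtain ⟨i, hi⟩ := hZ ⟨w, hw1⟩
      have hwi : w ^ p ^ i = 1 := congrArg Subtype.val hi
      have hzt : ((t.1 : U₁) : G) * w = z.1 := by rw [hw, mul_inv_cancel_left]
      have hc : Commute ((t.1 : U₁) : G) w := hcomm _ t.1.2 _ hw1.2
      have h1 : w ^ (orderOf ((t.1 : U₁) : G) * orderOf ((z.1 : U₁) : G)) = 1 := by
        have h2 : (((t.1 : U₁) : G) * w) ^ (orderOf ((t.1 : U₁) : G) * orderOf ((z.1 : U₁) : G)) = 1 := by
          rw [hzt]; exact orderOf_dvd_iff_pow_eq_one.1 (dvd_mul_left _ _)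
        rwa [hc.mul_pow, orderOf_dvd_iff_pow_eq_one.1 (dvd_mul_right _ _), one_mul] at h2
      have hw0 : w = 1 := orderOf_eq_one_iff.1 (Nat.eq_one_of_dvd_coprimes
        (Nat.Coprime.pow_left i (hp.coprime_iff_not_dvd.2 (hp.not_dvd_mul ht.1 hz.1)))
        (orderOf_dvd_of_pow_eq_one hwi) (orderOf_dvd_of_pow_eq_one h1))
      refine Prod.ext (Subtype.ext ?_) (Subtype.ext ?_)
      · rw [← hzt, hw0, mul_one]
      · exact (mul_inv_eq_one.1 (hw2.symm.trans hw0)).symm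
    · obtain ⟨a, ha, b, hb, rfl⟩ := exists_mul hcomm hgen x
      refine ⟨(⟨a ^ k, pow_mem ha k⟩, ⟨b ^ k, pow_mem hb k⟩), ?_, ?_⟩
      · simp only [Finset.mem_product, Finset.mem_filter, Finset.mem_univ, true_and,
          ← Subgroup.orderOf_coe]
        exact ⟨hpowreg a, hpowreg b⟩
      · show a ^ k * b ^ k = a * b
        rw [← (show Commute a b from hcomm a ha b hb).mul_pow, hreg _ (Finset.mem_filter.1 hx).2]
    · rw [value_mul hcomm hgen χ.2 z.2.2 z.1]
      field_simp [IsIrr.one_ne_zero χ.2]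
  constructor
  · intro h
    have h' := mul_ne_zero h (IsIrr.one_ne_zero χ.2)
    rw [hprod] at h'
    exact ne_zero_and_ne_zero_of_mul h'
  · rintro ⟨ha, hb⟩ h
    rw [h, zero_mul] at hprod
    exact mul_ne_zero ha hb hprod.symm

end Cfsg.Agent.S4521
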