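import Cfsg.Statements.S4523
import Cfsg.Agent.Lib.Block.SigmaFixed.Main
import Cfsg.Agent.Lib.Fus.Goldschmidt.Main
-- import your own Cfsg.Agent.* helpers here

set_option autoImplicit false
open Cfsg

namespace Cfsg.Agent.S4523

/-- Let S be a non-abelian finite simple group with commutative Sylow 2-subgroups and M a maximal ideal of the algebraic integers containing 2. Let k be a natural number with g ^ k = g for every 2-element g and g ^ k = g⁻¹ for every element g of odd order. Then S has an irreducible character χ₁ of even degree with χ₁ (g ^ k) = χ₁ g for all g, and its principal 2-block contains a character χ₂ other than the principal character with χ₂ (g ^ k) = χ₂ g for all g. -/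
theorem result {S : Type*} [Group S] [Finite S] [IsSimpleGroup S] (hna : ¬ IsMulCommutative S) (P : Sylow 2 S) (hP : IsMulCommutative P) (M : Ideal Cfsg.AlgInt) (hM : Cfsg.IsPModular 2 M) (k : ℕ) (hk₁ : ∀ g : S, (∃ j : ℕ, orderOf g = 2 ^ j) → g ^ k = g) (hk₂ : ∀ g : S, Odd (orderOf g) → g ^ k = g⁻¹) : (∃ χ₁ : Cfsg.IrrCharacter S, Even (Cfsg.charDegree (χ₁ : S → ℂ)) ∧ ∀ g : S, (χ₁ : S → ℂ) (g ^ k) = (χ₁ : S → ℂ) g) ∧ ∃ χ₂ ∈ Cfsg.principalBlock M S, (χ₂ : S → ℂ) ≠ (fun _ => 1) ∧ ∀ g : S, (χ₂ : S → ℂ) (g ^ k) = (χ₂ : S → ℂ) g := by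
  have : Fact (Nat.Prime 2) := ⟨Nat.prime_two⟩
  have h : Cfsg.Agent.Block.SigmaFixed.Exps S k := ⟨hk₁, hk₂⟩
  have heven : 2 ∣ Nat.card S := even_iff_two_dvd.1 (Nat.not_odd_iff_even.1 fun ho =>
    hna ⟨⟨IsSimpleGroup.comm_iff_isSolvable.2 (Cfsg.Agent.S0205.result ho)⟩⟩)
  obtain ⟨t, ht⟩ := exists_prime_orderOf_dvd_card' 2 heven
  obtain ⟨χ₁, h1, h1'⟩ := Cfsg.Agent.Block.SigmaFixed.exists_even_fixed_abelian hna P hP
    (fun L _ _ hs hn => Cfsg.Agent.Fus.Gold.conclusion_all L hs hn)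
    (fun s h8 => Cfsg.Agent.Fus.Gold.dichotomy s h8) h hM
  obtain ⟨χ₂, hmem, hne, h2'⟩ := h.exists_principal_fixed hM ht
  exact ⟨⟨χ₁, h1, h.sig_eq_iff.1 h1'⟩, χ₂, hmem, hne, h.sig_eq_iff.1 h2'⟩

end Cfsg.Agent.S4523
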