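import Cfsg.Statements.S4534
import Cfsg.Agent.Lib.Char.SymChar.Block

set_option autoImplicit false
open Cfsg

namespace Cfsg.Agent.S4534

/-- Let B be a p-block of a finite symmetric group (relative to a maximal ideal M of the algebraic integers containing p) with a nontrivial defect group D all of whose sections have p-rank at most s. Then the p-regular rank of B is less than p ^ s. -/
theorem result (n : ℕ) (p : ℕ) [Fact p.Prime] (M : Ideal Cfsg.AlgInt) (hM : Cfsg.IsPModular p M) (B : Set (Cfsg.IrrCharacter (Equiv.Perm (Fin n)))) (hB : Cfsg.IsPBlock M B) (D : Subgroup (Equiv.Perm (Fin n))) (hD : Cfsg.IsDefectGroup p M B D) (hD1 : D ≠ ⊥) (s : ℕ) (hs : Cfsg.SectionalPRankLE p s D) : Cfsg.blockRank p B < p ^ s := by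
  classical
  have hp : p.Prime := Fact.out
  obtain ⟨m, W, hm⟩ := Char.SymChar.exists_common_core hM hB
  refine lt_of_le_of_lt (Char.SymChar.blockRank_le_bd hm) (Char.SymChar.bd_lt hp.two_le ?_ ?_)
  · rcases Nat.eq_zero_or_pos s with rfl | h
    · refine absurd ?_ hD1
      have hDp := Block.IsDefectGroup.isPGroup hD
      haveI : Finite (Equiv.Perm (Fin n)) := inferInstance
      by_contra hne
      haveI := (Subgroup.nontrivial_iff_ne_bot D).2 hne
      haveI := hDp.center_nontrivial
      obtain ⟨a, ha⟩ := IsPGroup.iff_card.1 (hDp.to_subgroup (Subgroup.center D))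
      have ha0 : a ≠ 0 := fun h => absurd ha (by
        rw [h, pow_zero]; exact (Finite.one_lt_card (α := Subgroup.center D)).ne')
      obtain ⟨z, hz⟩ := exists_prime_orderOf_dvd_card' (G := Subgroup.center D) p
        (ha ▸ dvd_pow_self p ha0)
      have h1 := hs (Subgroup.zpowers (z : D)) ⊥ ⊤ ?_ ?_
      · rw [Subgroup.card_top, Nat.card_congr QuotientGroup.quotientBot.toEquiv,
          Nat.card_zpowers, Subgroup.orderOf_coe, hz, pow_zero] at h1
        exact absurd h1 (not_le.2 hp.one_lt)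
      · refine ⟨⟨fun a b => Subtype.ext ?_⟩⟩
        obtain ⟨a', ha'⟩ := QuotientGroup.mk_surjective a.1
        obtain ⟨b', hb'⟩ := QuotientGroup.mk_surjective b.1
        rw [Subgroup.coe_mul, Subgroup.coe_mul, ← ha', ← hb', ← QuotientGroup.mk_mul,
          ← QuotientGroup.mk_mul]
        obtain ⟨a', i, rfl⟩ := a'
        obtain ⟨b', j, rfl⟩ := b'
        exact congrArg _ (Subtype.ext (zpow_mul_comm (z : D) i j))
      · intro a _
        obtain ⟨⟨a', i, hi⟩, rfl⟩ := QuotientGroup.mk_surjective a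
        simp only at hi
        subst hi
        rw [← QuotientGroup.mk_pow]
        refine (QuotientGroup.eq_one_iff _).2 (Subgroup.mem_bot.2 (Subtype.ext ?_))
        rw [Subgroup.coe_pow, Subgroup.coe_one]
        show ((z : D) ^ i) ^ p = 1
        rw [← zpow_natCast, ← zpow_mul, mul_comm, zpow_mul, zpow_natCast, ← Subgroup.coe_pow,
          show z ^ p = 1 from hz ▸ pow_orderOf_eq_one z, Subgroup.coe_one, one_zpow]
    · exact h
  · obtain ⟨χ, hχ⟩ := Block.pblock_nonempty hM hB
    obtain ⟨a, ha, hW, e, -, hea⟩ := hm χ hχ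
    obtain ⟨g, hg, hgW⟩ := Char.SymChar.exists_element hp.pos hW ha.1.injective ha.2.2
    have hχg : (χ : Equiv.Perm (Fin n) → ℂ) g ≠ 0 := fun h => hg (by
      rw [hea, Pi.smul_apply, h, smul_zero])
    obtain ⟨u, v, huv, hc, hu, hv, -, -⟩ := Block.exists_pPart_zpowers (p := p) g
    obtain ⟨D', hD', huD'⟩ : ∃ D' : Subgroup (Equiv.Perm (Fin n)),
        IsDefectGroup p M B D' ∧ u ∈ D' := by
      by_contra hno
      refine hχg (Block.value_eq_zero_of_pPart_notMem hM χ ⟨v, huv, hc, hu, hv⟩ fun E hE hmem => ?_)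
      obtain ⟨ψ, rfl⟩ := hB
      rw [← Block.blockOf_eq hM hχ] at hE
      exact hno ⟨E, hE, hmem⟩
    obtain ⟨x, hx⟩ := Block.defectGroup_conj hM hB hD' hD
    refine Char.SymChar.weight_le_rank hM hB hD hs (u := x * u * x⁻¹)
      (hx ▸ Subgroup.mem_map.2 ⟨u, huD', rfl⟩) (hgW.trans ?_)
    rw [Equiv.Perm.card_support_conj]
    exact Char.SymChar.mp_le_moved hp ⟨v, huv, hc, hu, hv⟩

end Cfsg.Agent.S4534
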