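import Cfsg.Statements.S4535
import Cfsg.Agent.Lib.Char.SymChar.AltBlock

set_option autoImplicit false
open Cfsg

namespace Cfsg.Agent.S4535

private theorem klein_smul : ∀ v : ZMod 2 × ZMod 2, 2 • v = 0 := by decide

private theorem klein_sign : ∀ v : ZMod 2 × ZMod 2, Equiv.Perm.sign (Equiv.addLeft v) = 1 := by
  decide

/-- Let B be a p-block of a finite alternating group (relative to a maximal ideal M of the algebraic integers containing p) with a nontrivial defect group D all of whose sections have p-rank at most s. Then the p-regular rank of B is less than p ^ s. -/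
theorem result (n : ℕ) (p : ℕ) [Fact p.Prime] (M : Ideal Cfsg.AlgInt) (hM : Cfsg.IsPModular p M) (B : Set (Cfsg.IrrCharacter (alternatingGroup (Fin n)))) (hB : Cfsg.IsPBlock M B) (D : Subgroup (alternatingGroup (Fin n))) (hD : Cfsg.IsDefectGroup p M B D) (hD1 : D ≠ ⊥) (s : ℕ) (hs : Cfsg.SectionalPRankLE p s D) : Cfsg.blockRank p B < p ^ s := by
  classical
  have hp : p.Prime := Fact.out
  haveI hnt : Nontrivial (Fin n) := by
    by_contra h
    rw [not_nontrivial_iff_subsingleton] at h
    exact hD1 (Subgroup.eq_bot_iff_forall D |>.2 fun x _ => Subsingleton.elim _ _)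
  obtain ⟨B', hcov⟩ := Char.SymChar.exists_cover hM hB
  obtain ⟨m, W, hm⟩ := Char.SymChar.exists_common_core hM hcov.hB
  have hW : 0 < W := by
    rcases Nat.eq_zero_or_pos W with rfl | h
    · exact absurd (hcov.defect_zero hM hm hD) hD1
    · exact h
  have hs1 : 1 ≤ s := by
    haveI := (Subgroup.nontrivial_iff_ne_bot D).2 hD1
    exact Char.SymChar.one_le_rank (Block.IsDefectGroup.isPGroup hD) hs
  -- a defect class fixing many points
  obtain ⟨g, hg, hcl⟩ := Char.SymChar.exists_even_defectClass hM hcov.hB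
  have Q : Sylow p (Subgroup.centralizer ({g} : Set (Equiv.Perm (Fin n)))) := Classical.arbitrary _
  obtain ⟨u, hu, huW⟩ := Char.SymChar.exists_moved hM hcov.hB hm
    (D := Block.csyl Q) ⟨g, hcl, Q, rfl⟩
  have hfix : p * W ≤ (Finset.univ.filter fun z => g z = z).card :=
    huW.trans (Finset.card_le_card (Char.SymChar.support_subset_fixed hM hcov.hB hcl Q hu))
  have htwo : 1 < (Finset.univ.filter fun z => g z = z).card :=
    lt_of_lt_of_le (lt_of_lt_of_le hp.one_lt (Nat.le_mul_of_pos_right p hW)) hfix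
  obtain ⟨a₁, ha₁, a₂, ha₂, hne⟩ := Finset.one_lt_card.1 htwo
  have hτ : Equiv.swap a₁ a₂ ∉ Char.SymChar.Alt n := fun hh => by
    rw [Equiv.Perm.mem_alternatingGroup, Equiv.Perm.sign_swap hne] at hh
    exact absurd hh (by decide)
  have hτg : Commute (Equiv.swap a₁ a₂) g := by
    show Equiv.swap a₁ a₂ * g = g * Equiv.swap a₁ a₂
    rw [Equiv.mul_swap_eq_swap_mul, (Finset.mem_filter.1 ha₁).2, (Finset.mem_filter.1 ha₂).2]
  have hclb := hcov.isDefectClass hM hg hcl hτ hτg
  obtain ⟨c, f, hle, hc, hc2, hf, hf2⟩ := hcov.rank_le hM hm hτ (Equiv.swap_mul_self a₁ a₂)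
  refine lt_of_le_of_lt hle ?_
  have hfW : f ≠ 0 → ∃ j, W = 2 * (j + 1) ∧ f ≤ (p - 1) * p ^ j := fun h => by
    obtain ⟨k, hk⟩ := hf2 h
    obtain ⟨j, rfl⟩ : ∃ j, k = j + 1 := ⟨k - 1, by omega⟩
    refine ⟨j, hk, ?_⟩
    rwa [show W / 2 = j + 1 by omega, Char.SymChar.bd] at hf
  obtain ⟨W', rfl⟩ : ∃ W', W = W' + 1 := ⟨W - 1, by omega⟩
  rw [Char.SymChar.bd] at hc hc2
  -- the bound when the rank is at least the weight
  have hfull : W' + 1 ≤ s → c + f < p ^ s := by
    intro h
    refine lt_of_lt_of_le ?_ (Nat.pow_le_pow_right hp.pos h)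
    have hsucc : p ^ (W' + 1) = (p - 1) * p ^ W' + p ^ W' := by
      obtain ⟨q, rfl⟩ := Nat.exists_eq_succ_of_ne_zero hp.ne_zero
      simp only [Nat.succ_eq_add_one, Nat.add_sub_cancel]
      ring
    have hpos : 0 < p ^ W' := Nat.pow_pos hp.pos
    by_cases hf0 : f = 0
    · omega
    obtain ⟨j, hj, hfj⟩ := hfW hf0
    have h1 : (p - 1) * p ^ j < p ^ (j + 1) := by
      rw [pow_succ']
      exact Nat.mul_lt_mul_of_pos_right (Nat.sub_lt hp.pos one_pos) (Nat.pow_pos hp.pos)
    have h2 : p ^ (j + 1) ≤ p ^ W' := Nat.pow_le_pow_right hp.pos (by omega)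
    omega
  by_cases hp2 : p = 2
  · subst hp2
    have h4 := Char.SymChar.card_pow_le (K := (W' + 1) / 2) (ZMod 2 × ZMod 2) klein_smul klein_sign
      hM hB hD hs hg hclb (by simp only [Fintype.card_prod, ZMod.card]; omega)
    simp only [Fintype.card_prod, ZMod.card] at h4
    rw [show 2 * 2 = 2 ^ 2 from rfl, ← pow_mul] at h4
    have h5 := (Nat.pow_le_pow_iff_right (by norm_num)).1 h4
    by_cases hev : 2 ∣ W' + 1
    · exact hfull (by omega)
    have hf0 : f = 0 := by
      by_contra h
      exact hev (hf2 h)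
    subst hf0
    by_cases h3 : 3 ≤ W' + 1
    · have h6 : 2 ^ W' ≤ 2 ^ s := Nat.pow_le_pow_right (by norm_num) (by omega)
      have h7 := hc2 rfl h3
      omega
    · obtain rfl : W' = 0 := by omega
      exact hfull hs1
  · haveI : NeZero p := ⟨hp.ne_zero⟩
    refine hfull ?_
    have heven : ∀ v : ZMod p, Equiv.Perm.sign (Equiv.addLeft v) = 1 := by
      intro v
      have h1 : (Equiv.addLeft v : Equiv.Perm (ZMod p)) ^ p = 1 := by
        refine Equiv.ext fun x => ?_
        have hk : ∀ k : ℕ, ((Equiv.addLeft v : Equiv.Perm (ZMod p)) ^ k) x = k • v + x := by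
          intro k
          induction k with
          | zero => simp
          | succ k ih =>
            rw [pow_succ', Equiv.Perm.mul_apply, ih, Equiv.coe_addLeft, succ_nsmul', add_assoc]
        rw [hk, nsmul_eq_mul, ZMod.natCast_self, zero_mul, zero_add]
        rfl
      have h2 := congrArg Equiv.Perm.sign h1
      rw [map_pow, map_one] at h2
      rcases Int.units_eq_one_or (Equiv.Perm.sign (Equiv.addLeft v : Equiv.Perm (ZMod p))) with h | h
      · exact h
      · rw [h, (hp.odd_of_ne_two hp2).neg_one_pow] at h2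
        exact absurd h2 (by decide)
    have h4 := Char.SymChar.card_pow_le (K := W' + 1) (ZMod p) (fun v => by
        rw [nsmul_eq_mul, ZMod.natCast_self, zero_mul]) heven hM hB hD hs hg hclb
      (by rw [ZMod.card, mul_comm]; exact hfix)
    rw [ZMod.card] at h4
    exact (Nat.pow_le_pow_iff_right hp.one_lt).1 h4

end Cfsg.Agent.S4535
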