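import Cfsg.Statements.S4538
import Cfsg.Agent.Lib.Classical.SLBlocks
import Cfsg.Agent.Lib.Char.Quotient
-- import your own Cfsg.Agent.* helpers here

set_option autoImplicit false
open Cfsg

namespace Cfsg.Agent.S4538

universe u

open Cfsg.Agent.Block Cfsg.Agent.Classical in
/-- Blocks have defect zero or full defect when radical subgroups have central regular centralisers. -/
theorem defect_dichotomy {G : Type*} [Group G] [Finite G] {p : ℕ} [Fact p.Prime] {M : Ideal Cfsg.AlgInt}
    (hM : Cfsg.IsPModular p M) (Z : Subgroup G) (hZc : Z ≤ Subgroup.center G)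
    (hrad : ∀ D : Subgroup G, IsPGroup p D → D ≠ ⊥ →
      (∀ K : Subgroup G, IsPGroup p K → K ≤ Subgroup.normalizer (D : Set G) →
        (∀ n ∈ Subgroup.normalizer (D : Set G), ∀ k ∈ K, n * k * n⁻¹ ∈ K) → K ≤ D) →
      ∀ y, ¬ p ∣ orderOf y → y ∈ Subgroup.centralizer (D : Set G) → y ∈ Z)
    {B : Set (Cfsg.IrrCharacter G)} (hB : Cfsg.IsPBlock M B) :
    (Cfsg.IsDefectGroup p M B ⊥ ∧ Cfsg.blockDefect p B = 0) ∨
      Cfsg.blockDefect p B = (Nat.card G).factorization p := by
  classical
  cases nonempty_fintype G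
  obtain ⟨D, hD⟩ := exists_isDefectGroup hM hB
  have hc := card_defectGroup hM hB hD
  have hpow := Nat.pow_right_injective (Fact.out : p.Prime).two_le
  by_cases hDne : D = ⊥
  · subst hDne
    refine Or.inl ⟨hD, hpow ?_⟩
    show p ^ Cfsg.blockDefect p B = p ^ 0
    rw [← hc, Subgroup.card_bot, pow_zero]
  refine Or.inr (hpow ?_)
  show p ^ Cfsg.blockDefect p B = p ^ (Nat.card G).factorization p
  rw [← hc]
  obtain ⟨g, hg, Q, hQ⟩ := id hD
  have hy : g ∈ Z := hrad D (IsDefectGroup.isPGroup hD) hDne (fun K hK hKN hKn => by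
    haveI : (K.subgroupOf (Subgroup.normalizer (D : Set G))).Normal :=
      ⟨fun k hk n => hKn n n.2 k hk⟩
    have := pCore_normalizer_eq hM hB hD (K := K.subgroupOf (Subgroup.normalizer (D : Set G)))
      (hK.of_equiv (Subgroup.subgroupOfEquivOfLe hKN).symm)
    rwa [Subgroup.map_subgroupOf_eq_of_le hKN] at this) g
    (regular_of_unit hM hB hg.2.1) (hQ ▸ mem_centralizer_csyl Q)
  have htop : Subgroup.centralizer ({g} : Set G) = ⊤ := eq_top_iff.2 fun x _ =>
    Subgroup.mem_centralizer_singleton_iff.2 (Subgroup.mem_center_iff.1 (hZc hy) x)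
  rw [hQ]
  show Nat.card (csyl Q) = _
  rw [card_csyl, htop, Subgroup.card_top]

/-- A character of defect zero, in any universe. -/
theorem exists_full' {F : Type u} [Field F] [Fintype F] (p : ℕ) [Fact p.Prime] [CharP F p] {n : ℕ}
    (hn : 0 < n) : ∃ χ : Cfsg.IrrCharacter (Matrix.SpecialLinearGroup (Fin n) F),
    (Cfsg.charDegree (χ : Matrix.SpecialLinearGroup (Fin n) F → ℂ)).factorization p =
      (Nat.card (Matrix.SpecialLinearGroup (Fin n) F)).factorization p := by
  classical
  haveI : Small.{0} F := Countable.toSmall F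
  let r : Shrink.{0} F ≃+* F := Shrink.ringEquiv F
  haveI : Fintype (Shrink.{0} F) := Fintype.ofFinite _
  haveI : CharP (Shrink.{0} F) p := charP_of_injective_ringHom (f := r.symm.toRingHom) (show Function.Injective r.symm from r.symm.injective) p
  obtain ⟨χ, hχ⟩ := Cfsg.Agent.Classical.SLBlocks.exists_full (K := Shrink.{0} F) (p := p) (n := n) hn
  let E : Matrix.SpecialLinearGroup (Fin n) F ≃*
      Matrix.SpecialLinearGroup (Fin n) (Shrink.{0} F) :=
    MulEquiv.ofBijective (Matrix.SpecialLinearGroup.map r.symm.toRingHom) <| by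
      refine ⟨fun A B h => Matrix.SpecialLinearGroup.ext _ _ fun i j => r.symm.injective
        (congrArg (fun M => M i j) (congrArg Subtype.val h)), fun A => ⟨Matrix.SpecialLinearGroup.map r.toRingHom A, ?_⟩⟩
      ext i j
      simp
  refine ⟨⟨fun g => (χ : Matrix.SpecialLinearGroup (Fin n) (Shrink.{0} F) → ℂ) (E g),
    Cfsg.Agent.Char.IsIrr.comp_mulEquiv E χ.2⟩, ?_⟩
  rw [Nat.card_congr E.toEquiv, ← hχ]
  simp only [Cfsg.charDegree, map_one]

/-- Let F be a finite field of characteristic p and n ≥ 2. Relative to a maximal ideal M of the algebraic integers containing p, the group SL(n, F) has exactly one p-block of defect zero, and every other p-block has full defect (its defect equals the exponent of p in the order of the group, so its defect groups are Sylow p-subgroups). -/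
theorem result {F : Type*} [Field F] [Fintype F] (n : ℕ) (hn : 2 ≤ n) (p : ℕ) [Fact p.Prime] [CharP F p] (M : Ideal Cfsg.AlgInt) (hM : Cfsg.IsPModular p M) : Nat.card {B : Set (Cfsg.IrrCharacter (Matrix.SpecialLinearGroup (Fin n) F)) // Cfsg.IsPBlock M B ∧ Cfsg.blockDefect p B = 0} = 1 ∧ ∀ B : Set (Cfsg.IrrCharacter (Matrix.SpecialLinearGroup (Fin n) F)), Cfsg.IsPBlock M B → Cfsg.blockDefect p B = 0 ∨ Cfsg.blockDefect p B = (Nat.card (Matrix.SpecialLinearGroup (Fin n) F)).factorization p := by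
  classical
  have hn0 : 0 < n := by omega
  obtain ⟨m, rfl⟩ : ∃ m, n = m + 1 := ⟨n - 1, by omega⟩
  let G := Matrix.SpecialLinearGroup (Fin (m + 1)) F
  obtain ⟨χ, hχ⟩ := exists_full' (F := F) p hn0
  have hdich := fun {B : Set (Cfsg.IrrCharacter G)} (hB : Cfsg.IsPBlock M B) =>
    defect_dichotomy hM (Subgroup.center G) le_rfl
      (fun D hD hD1 hrad y hy hyD =>
        Cfsg.Agent.Classical.SLBlocks.centralizer_radical hn0 hD hD1 hrad hy hyD) hB
  refine ⟨?_, fun B hB => (hdich hB).imp And.right id⟩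
  haveI : Fintype (Cfsg.Agent.Fus.PSLN.unip F (m + 1)) := Fintype.ofFinite _
  haveI : Fintype G := Fintype.ofFinite _
  have hbot : ∀ {B : Set (Cfsg.IrrCharacter G)}, Cfsg.IsPBlock M B → Cfsg.blockDefect p B = 0 →
      Cfsg.IsDefectGroup p M B ⊥ := fun {B} hB h0 => by
    obtain ⟨D, hD⟩ := Cfsg.Agent.Block.exists_isDefectGroup hM hB
    have hc := Cfsg.Agent.Block.card_defectGroup hM hB hD
    rw [h0, pow_zero] at hc
    exact (Subgroup.eq_bot_of_card_eq D hc) ▸ hD
  refine Nat.card_eq_one_iff_unique.2 ⟨⟨fun a b => Subtype.ext ?_⟩, ?_⟩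
  · refine Cfsg.Agent.Classical.BlockCount.defectZero_unique hM (Cfsg.Agent.Fus.PSLN.unip F (m + 1))
      Cfsg.Agent.Fus.PSLN.isPGroup_unip Cfsg.Agent.Classical.BigCell.Big
      (fun g hg => Cfsg.Agent.Classical.BigCell.big_of_free hg) ?_ a.2.1 b.2.1 (hbot a.2.1 a.2.2) (hbot b.2.1 b.2.2)
    letI : Field (Cfsg.Agent.Block.ResField hM) := Cfsg.Agent.Block.resInst hM
    haveI := Cfsg.Agent.Block.resField_charP hM
    intro φ hr hl hs z hz g g' hg hg'
    exact Cfsg.Agent.Classical.BigCell.kernel_const p φ hr hl hs z hz g g' hg hg'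
  · obtain ⟨B, hB, hD⟩ := Cfsg.Agent.Classical.BlockCount.exists_block_bot hM hχ
    refine ⟨⟨B, hB, Nat.pow_right_injective (Fact.out : p.Prime).two_le ?_⟩⟩
    show p ^ Cfsg.blockDefect p B = p ^ 0
    rw [← Cfsg.Agent.Block.card_defectGroup hM hB hD, Subgroup.card_bot, pow_zero]

end Cfsg.Agent.S4538
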