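import Cfsg.Statements.S4541
import Cfsg.Agent.Lib.Char.SubsectionBound

set_option autoImplicit false
open Cfsg

namespace Cfsg.Agent.S4541

/-- Let B be a 2-block of the finite group G (relative to a maximal ideal M of the algebraic integers containing 2), u a 2-element, and b a block of the centralizer of u inducing B (a subsection (u, b)), of defect q and 2-regular rank l; write s for the integer square root of l and k₀(B) for the number of members of B of height zero. If s is odd then k₀(B) ≤ s·2 ^ q, and otherwise (s + 1)·k₀(B) ≤ l·2 ^ q; in particular k₀(B) ≤ 2 ^ q when l ≤ 3. -/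
theorem result {G : Type*} [Group G] [Finite G] (M : Ideal Cfsg.AlgInt) (hM : Cfsg.IsPModular 2 M) (B : Set (Cfsg.IrrCharacter G)) (hB : Cfsg.IsPBlock M B) (u : G) (hu : ∃ j : ℕ, orderOf u = 2 ^ j) (b : Set (Cfsg.IrrCharacter ↥(Subgroup.centralizer ({u} : Set G)))) (hb : Cfsg.IsInducedBlock M (Subgroup.centralizer ({u} : Set G)) b B) : (Odd (Nat.sqrt (Cfsg.blockRank 2 b)) → Nat.card {χ : Cfsg.IrrCharacter G // χ ∈ B ∧ Cfsg.blockHeight 2 B (χ : G → ℂ) = 0} ≤ Nat.sqrt (Cfsg.blockRank 2 b) * 2 ^ Cfsg.blockDefect 2 b) ∧ (¬ Odd (Nat.sqrt (Cfsg.blockRank 2 b)) → (Nat.sqrt (Cfsg.blockRank 2 b) + 1) * Nat.card {χ : Cfsg.IrrCharacter G // χ ∈ B ∧ Cfsg.blockHeight 2 B (χ : G → ℂ) = 0} ≤ Cfsg.blockRank 2 b * 2 ^ Cfsg.blockDefect 2 b) ∧ (Cfsg.blockRank 2 b ≤ 3 → Nat.card {χ : Cfsg.IrrCharacter G // χ ∈ B ∧ Cfsg.blockHeight 2 B (χ : G → ℂ) = 0} ≤ 2 ^ Cfsg.blockDefect 2 b) := by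
  classical
  haveI := Fintype.ofFinite G
  haveI : Fact (Nat.Prime 2) := ⟨Nat.prime_two⟩
  have key : ∀ (H : Subgroup G) (_ : H = Cfsg.Agent.Char.BP.CG (Subgroup.zpowers u))
      (b : Set (Cfsg.IrrCharacter H)), Cfsg.IsInducedBlock M H b B →
      (Odd (Nat.sqrt (Cfsg.blockRank 2 b)) →
        Nat.card {χ : Cfsg.IrrCharacter G // χ ∈ B ∧ Cfsg.blockHeight 2 B (χ : G → ℂ) = 0} ≤
          Nat.sqrt (Cfsg.blockRank 2 b) * 2 ^ Cfsg.blockDefect 2 b) ∧
      (¬ Odd (Nat.sqrt (Cfsg.blockRank 2 b)) → (Nat.sqrt (Cfsg.blockRank 2 b) + 1) *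
        Nat.card {χ : Cfsg.IrrCharacter G // χ ∈ B ∧ Cfsg.blockHeight 2 B (χ : G → ℂ) = 0} ≤
          Cfsg.blockRank 2 b * 2 ^ Cfsg.blockDefect 2 b) := by
    intro H hH b hb
    subst hH
    exact Cfsg.Agent.Char.Spec.height_zero_count hM hu (a := ⟨Subgroup.zpowers u, b⟩) rfl
      ((Cfsg.Agent.Char.Spec.ofB_iff_induced hM hb.2.1 hu b).2 hb)
  obtain ⟨h1, h2⟩ := key _ (Cfsg.Agent.Char.Spec.cg_zpowers u).symm b hb
  refine ⟨h1, h2, fun hl => ?_⟩
  rcases Nat.eq_zero_or_pos (Cfsg.blockRank 2 b) with h0 | h0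
  · have h := h2 (by simp [h0])
    simp only [h0, Nat.sqrt_zero, zero_add, one_mul, zero_mul, Nat.le_zero] at h
    rw [h]
    exact Nat.zero_le _
  · have hs : Nat.sqrt (Cfsg.blockRank 2 b) = 1 :=
      Nat.eq_sqrt.2 ⟨h0, by omega⟩ |>.symm
    have h := h1 (by rw [hs]; exact odd_one)
    rwa [hs, one_mul] at h

end Cfsg.Agent.S4541
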