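import Cfsg.Statements.S4549
import Cfsg.Agent.Lib.Char.GaloisParity
import Cfsg.Agent.Lib.Transfer.Tate
import Cfsg.Agent.Lib.Block.Principal
import Cfsg.Agent.Lib.Char.Quotient
import Cfsg.Agent.Lib.Char.ExtraspecialChar

set_option autoImplicit false
open Cfsg

namespace Cfsg.Agent.S4549

/-- Let G be a finite group and M a maximal ideal of the algebraic integers containing 2. Let k be a natural number with g ^ k = g ^ 3 for every 2-element g and g ^ k = g for every element g of odd order (such k exist); an irreducible character χ is unchanged by g ↦ g ^ k exactly when it is fixed by the field automorphism that cubes the 2-power roots of unity and fixes the roots of unity of odd order. Then G has a normal 2-complement if and only if every member χ of the principal 2-block of odd degree with χ (g ^ k) = χ g for all g has degree one. -/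
theorem result {G : Type*} [Group G] [Finite G] (M : Ideal Cfsg.AlgInt) (hM : Cfsg.IsPModular 2 M) (k : ℕ) (hk₁ : ∀ g : G, (∃ j : ℕ, orderOf g = 2 ^ j) → g ^ k = g ^ 3) (hk₂ : ∀ g : G, Odd (orderOf g) → g ^ k = g) : Cfsg.HasNormalPComplement 2 G ↔ ∀ χ ∈ Cfsg.principalBlock M G, Odd (Cfsg.charDegree (χ : G → ℂ)) → (∀ g : G, (χ : G → ℂ) (g ^ k) = (χ : G → ℂ) g) → Cfsg.charDegree (χ : G → ℂ) = 1 := by
  classical
  haveI : Fact (Nat.Prime 2) := ⟨Nat.prime_two⟩
  cases nonempty_fintype G
  constructor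
  · rintro h χ hχ hodd -
    obtain ⟨N, hN, hd, j, hj⟩ := Cfsg.Agent.Transfer.hasNormalPComplement_iff_exists.1 h
    haveI := hN
    obtain ⟨ψ, hψ, hψv⟩ := Cfsg.Agent.Char.IsIrr.exists_factor χ.2 (QuotientGroup.mk' N)
      (QuotientGroup.mk'_surjective N) (fun x hx => Cfsg.Agent.Block.principal_ker_of_coprime hM hd hχ
        (by rwa [QuotientGroup.ker_mk'] at hx))
    cases nonempty_fintype (G ⧸ N)
    have hv : ψ 1 = (Cfsg.charDegree (χ : G → ℂ) : ℂ) := by
      rw [← Cfsg.Agent.Block.charDeg_spec' χ, ← hψv, map_one]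
    have hdvd := Cfsg.Agent.Char.IsIrr.degree_dvd_card hψ hv
    rw [← Subgroup.index_eq_card, hj] at hdvd
    exact Nat.eq_one_of_dvd_coprimes ((Nat.coprime_two_right.2 hodd).pow_right j) dvd_rfl hdvd
  intro h
  have hcop : k.Coprime (Nat.card G) := by
    refine Nat.coprime_of_dvd fun q hq hqk hqG => ?_
    haveI := Fact.mk hq
    obtain ⟨g, hg⟩ := exists_prime_orderOf_dvd_card' q hqG
    have h1 : g ^ k = 1 := orderOf_dvd_iff_pow_eq_one.1 (by rw [hg]; exact hqk)
    rcases hq.eq_two_or_odd' with rfl | hodd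
    · rw [hk₁ g ⟨1, by rw [hg, pow_one]⟩, ← orderOf_dvd_iff_pow_eq_one, hg] at h1
      omega
    · rw [hk₂ g (by rw [hg]; exact hodd)] at h1
      rw [h1, orderOf_one] at hg
      exact hq.one_lt.ne' hg.symm
  set a := (Nat.card G).factorization 2 with ha
  have hper : ∀ g : G, g ^ k ^ 2 ^ a = g := by
    intro g
    obtain ⟨u, v, huv, hc, ⟨j, hj⟩, hv, -, -⟩ :=
      Cfsg.Agent.Block.exists_pPart_zpowers (p := 2) g
    have hv' : ∀ i, v ^ k ^ i = v := by
      intro i
      induction i with
      | zero => rw [pow_zero, pow_one]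
      | succ i ih => rw [pow_succ, pow_mul, ih, hk₂ v (Nat.odd_iff.2 (by omega))]
    have hu' : ∀ i, u ^ k ^ i = u ^ 3 ^ i := by
      intro i
      induction i with
      | zero => rfl
      | succ i ih =>
        obtain ⟨l, -, hl⟩ := (Nat.dvd_prime_pow Nat.prime_two).1
          ((orderOf_pow_dvd (x := u) (3 ^ i)).trans hj.dvd)
        rw [pow_succ, pow_mul, ih, hk₁ _ ⟨l, hl⟩, ← pow_mul, ← pow_succ]
    have hle : j ≤ a := (Nat.prime_two.pow_dvd_iff_le_factorization Nat.card_pos.ne').1
      (hj ▸ orderOf_dvd_natCard u)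
    have h3 : 3 ^ 2 ^ a ≡ 1 [MOD 2 ^ j] := by
      rcases Nat.eq_zero_or_pos j with h0 | hpos
      · rw [h0, pow_zero]; exact Nat.modEq_one
      · have hd : Nat.totient (2 ^ j) ∣ 2 ^ a := by
          rw [Nat.totient_prime_pow Nat.prime_two hpos]
          simpa using pow_dvd_pow 2 (show j - 1 ≤ a by omega)
        obtain ⟨c, hc'⟩ := hd
        rw [hc', pow_mul]
        simpa using (Nat.ModEq.pow_totient ((show Nat.Coprime 3 2 by norm_num).pow_right j)).pow c
    rw [← huv, hc.mul_pow, hv', hu', (pow_eq_pow_iff_modEq (x := u) (m := 1)).2 (by rw [hj]; exact h3), pow_one]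
  obtain ⟨P⟩ := (inferInstance : Nonempty (Sylow 2 G))
  set K := Subgroup.closure {x : G | ∃ y : G, x = y ^ 2} with hK
  haveI hKn : K.Normal := by
    refine ⟨fun x hx g => ?_⟩
    have hle : K ≤ K.comap (MulAut.conj g).toMonoidHom := by
      rw [hK, Subgroup.closure_le]
      rintro _ ⟨y, rfl⟩
      refine Subgroup.subset_closure ⟨g * y * g⁻¹, ?_⟩
      show g * y ^ 2 * g⁻¹ = (g * y * g⁻¹) ^ 2
      rw [conj_pow]
    exact hle hx
  -- every sign character of `P` comes from `G`
  have hle : K ⊓ (P : Subgroup G) ≤ (frattini P).map (P : Subgroup G).subtype := by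
    rintro x ⟨hxK, hxP⟩
    refine ⟨⟨x, hxP⟩, Subgroup.mem_iInf.2 fun L => Subgroup.mem_iInf.2 fun hL => ?_, rfl⟩
    have hL2 := Cfsg.Agent.Transfer.coatom_index_eq P.isPGroup' hL
    let lam : (P : Subgroup G) →* ℂˣ :=
      { toFun := fun z => if z ∈ L then 1 else -1
        map_one' := if_pos (one_mem L)
        map_mul' := fun a b => by
          have := Subgroup.mul_mem_iff_of_index_two hL2 (a := a) (b := b)
          by_cases ha : a ∈ L <;> by_cases hb : b ∈ L <;> simp [ha, hb, this] }
    have hsq : ∀ z, lam z ^ 2 = 1 := fun z => by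
      simp only [lam, MonoidHom.coe_mk, OneHom.coe_mk]
      split_ifs <;> simp
    obtain ⟨χ, hχ, hd, hfix, hne⟩ := Cfsg.Agent.Char.GalParity.exists_fixed hM P hcop hper lam
      (fun z => by
        have hz : z ^ k = z ^ 3 := Subtype.ext (by
          rw [SubmonoidClass.coe_pow, SubmonoidClass.coe_pow]
          obtain ⟨j, hj⟩ := IsPGroup.iff_orderOf.1 P.isPGroup' z
          exact hk₁ _ ⟨j, by rw [Subgroup.orderOf_coe, hj]⟩)
        rw [hz, map_pow, pow_succ, hsq, one_mul])
    have h1 : Cfsg.charDegree (χ : G → ℂ) = 1 := h χ hχ (Nat.odd_iff.2 (by omega)) hfix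
    obtain ⟨μ, hμ⟩ := Cfsg.Agent.Char.ESpec.exists_hom (Cfsg.Agent.Char.IsIrr.isCharacter χ.2)
      (by rw [Cfsg.Agent.Block.charDeg_spec' χ, h1, Nat.cast_one])
    -- the restriction is `lam`
    letI := Fintype.ofFinite (P : Subgroup G)
    rw [finsum_eq_sum_of_fintype] at hne
    have hres : ∀ z : (P : Subgroup G), μ (z : G) = lam z := by
      by_contra hall
      push Not at hall
      obtain ⟨z₀, hz₀⟩ := hall
      apply hne
      let ν : (P : Subgroup G) →* ℂˣ := μ.comp (P : Subgroup G).subtype / lam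
      have e : ∀ z : (P : Subgroup G), (χ : G → ℂ) z * (starRingEnd ℂ) ((lam z : ℂ)) = (ν z : ℂ) := by
        intro z
        simp only [ν, MonoidHom.div_apply, MonoidHom.comp_apply, Subgroup.coe_subtype,
          Units.val_div_eq_div_val, hμ]
        simp only [lam, MonoidHom.coe_mk, OneHom.coe_mk]
        split_ifs <;> simp [div_neg]
      rw [Finset.sum_congr rfl fun z _ => e z]
      refine sum_hom_units_eq_zero ((Units.coeHom ℂ).comp ν) fun hν => hz₀ ?_
      have := DFunLike.congr_fun hν z₀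
      simp only [MonoidHom.comp_apply, Units.coeHom_apply, MonoidHom.one_apply, Units.val_eq_one] at this
      simpa [ν, div_eq_one] using this
    by_contra hxL
    set t := Nat.card G / 2 ^ a with ht
    have htodd : Odd t := by
      rw [← Nat.not_even_iff_odd, even_iff_two_dvd]
      exact Nat.not_dvd_ordCompl Nat.prime_two Nat.card_pos.ne'
    have hsq2 : ∀ y : G, μ (y ^ 2) ^ t = 1 := by
      intro y
      obtain ⟨u, v, huv, hc, ⟨j, hj⟩, hv, -, -⟩ :=
        Cfsg.Agent.Block.exists_pPart_zpowers (p := 2) (y ^ t)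
      have hyt : (y ^ t) ^ 2 ^ a = 1 := by
        rw [← pow_mul, mul_comm, ht, ha, Nat.ordProj_mul_ordCompl_eq_self]
        exact pow_card_eq_one'
      have hp2 : IsPGroup 2 (Subgroup.zpowers (y ^ t)) := by
        obtain ⟨l, -, hl⟩ := (Nat.dvd_prime_pow Nat.prime_two).1 (orderOf_dvd_of_pow_eq_one hyt)
        exact IsPGroup.of_card (n := l) (by rw [Nat.card_zpowers, hl])
      obtain ⟨T, hT⟩ := hp2.exists_le_sylow
      obtain ⟨g, hg⟩ := MulAction.exists_smul_eq G P T
      have hmem : g⁻¹ * y ^ t * g ∈ (P : Subgroup G) := by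
        have : y ^ t ∈ ((g • P : Sylow 2 G) : Subgroup G) := hg ▸ hT (Subgroup.mem_zpowers _)
        rw [Sylow.coe_subgroup_smul, Subgroup.mem_pointwise_smul_iff_inv_smul_mem] at this
        simp [MulAut.smul_def] at this
        rwa [show (g⁻¹ * y * g) ^ t = g⁻¹ * y ^ t * g by
          simpa using conj_pow (a := g⁻¹) (b := y) (i := t)] at this
      have h2 := hres ⟨_, hmem⟩
      simp only [map_mul, map_inv, map_pow, inv_mul_cancel_comm] at h2
      rw [map_pow, ← pow_mul, mul_comm, pow_mul, h2, hsq]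
    have hK1 : K ≤ ((powMonoidHom t).comp μ).ker := by
      rw [hK, Subgroup.closure_le]
      rintro _ ⟨y, rfl⟩
      exact hsq2 y
    have h2 : μ x ^ t = 1 := hK1 hxK
    rw [show μ x = -1 by rw [hres ⟨x, hxP⟩]; simp [lam, hxL], htodd.neg_one_pow] at h2
    have := congrArg Units.val h2
    norm_num at this
  have hKc := Cfsg.Agent.Transfer.hasNormalPComplement_of_inf_le_frattini P K hle
  rw [Cfsg.Agent.Transfer.hasNormalPComplement_iff_not_dvd] at hKc ⊢
  have hq2 : IsPGroup 2 (G ⧸ K) := by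
    intro z
    obtain ⟨z, rfl⟩ := QuotientGroup.mk'_surjective K z
    refine ⟨1, ?_⟩
    rw [← map_pow, QuotientGroup.mk'_apply, QuotientGroup.eq_one_iff]
    exact Subgroup.subset_closure ⟨z, by simp⟩
  obtain ⟨j, hj⟩ := IsPGroup.iff_card.1 hq2
  have hsub : Cfsg.pResidual 2 G ≤ (Cfsg.pResidual 2 K).map K.subtype := by
    rw [Cfsg.pResidual, Subgroup.closure_le]
    intro g hg
    have hgK : g ∈ K := Cfsg.Agent.Block.regular_mem_of_index_pPow (p := 2) (k := j)
      ((Subgroup.index_eq_card K).trans hj) fun hd => by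
        have h5 : Nat.Coprime 2 2 := Nat.Coprime.coprime_dvd_left hd hg
        norm_num at h5
    exact ⟨⟨g, hgK⟩, Cfsg.Agent.Transfer.mem_pResidual_of_coprime
      (by rw [Subgroup.orderOf_mk]; exact hg), rfl⟩
  intro hd
  exact hKc ((hd.trans (Subgroup.card_dvd_of_le hsub)).trans (Subgroup.card_map_dvd _ _))

end Cfsg.Agent.S4549
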