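import Cfsg.Statements.S4550
import Cfsg.Agent.Lib.Block.Height
import Cfsg.Agent.Lib.Char.Galois
import Cfsg.Agent.Lib.Char.ModP
import Cfsg.Agent.Lib.Char.RealBlock
import Mathlib.GroupTheory.Perm.Cycle.Type
-- import your own Cfsg.Agent.* helpers here

set_option autoImplicit false
open Cfsg

namespace Cfsg.Agent.S4550

/-- Let G be a finite group of even order and M a maximal ideal of the algebraic integers containing 2. Let k be a natural number with g ^ k = g ^ 3 for every 2-element g and g ^ k = g for every element g of odd order (such k exist); an irreducible character χ is unchanged by g ↦ g ^ k exactly when it is fixed by the field automorphism that cubes the 2-power roots of unity and fixes the roots of unity of odd order. Then the number of members χ of the principal 2-block of odd degree with χ (g ^ k) = χ g for all g is even. -/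
theorem result {G : Type*} [Group G] [Finite G] (M : Ideal Cfsg.AlgInt) (hM : Cfsg.IsPModular 2 M) (hev : Even (Nat.card G)) (k : ℕ) (hk₁ : ∀ g : G, (∃ j : ℕ, orderOf g = 2 ^ j) → g ^ k = g ^ 3) (hk₂ : ∀ g : G, Odd (orderOf g) → g ^ k = g) : Even (Nat.card {χ : Cfsg.IrrCharacter G // χ ∈ Cfsg.principalBlock M G ∧ Odd (Cfsg.charDegree (χ : G → ℂ)) ∧ ∀ g : G, (χ : G → ℂ) (g ^ k) = (χ : G → ℂ) g}) := by
  classical
  haveI : Fact (Nat.Prime 2) := ⟨Nat.prime_two⟩
  cases nonempty_fintype G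
  have hcop : k.Coprime (Nat.card G) := by
    refine Nat.coprime_of_dvd fun q hq hqk hqG => ?_
    haveI := Fact.mk hq
    obtain ⟨g, hg⟩ := exists_prime_orderOf_dvd_card' q hqG
    have h1 : g ^ k = 1 := orderOf_dvd_iff_pow_eq_one.1 (by rw [hg]; exact hqk)
    rcases hq.eq_two_or_odd' with rfl | hodd
    · rw [hk₁ g ⟨1, by rw [hg, pow_one]⟩, ← orderOf_dvd_iff_pow_eq_one, hg] at h1
      omega
    · rw [hk₂ g (by rw [hg]; exact hodd)] at h1
      rw [h1, orderOf_one] at hg
      exact hq.one_lt.ne' hg.symm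
  set a := (Nat.card G).factorization 2 with ha
  have hper : ∀ g : G, g ^ k ^ 2 ^ a = g := by
    intro g
    obtain ⟨u, v, huv, hc, ⟨j, hj⟩, hv, -, -⟩ :=
      Cfsg.Agent.Block.exists_pPart_zpowers (p := 2) g
    have hv' : ∀ i, v ^ k ^ i = v := by
      intro i
      induction i with
      | zero => rw [pow_zero, pow_one]
      | succ i ih => rw [pow_succ, pow_mul, ih, hk₂ v (Nat.odd_iff.2 (by omega))]
    have hu' : ∀ i, u ^ k ^ i = u ^ 3 ^ i := by
      intro i
      induction i with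
      | zero => rfl
      | succ i ih =>
        obtain ⟨l, -, hl⟩ := (Nat.dvd_prime_pow Nat.prime_two).1
          ((orderOf_pow_dvd (x := u) (3 ^ i)).trans hj.dvd)
        rw [pow_succ, pow_mul, ih, hk₁ _ ⟨l, hl⟩, ← pow_mul, ← pow_succ]
    have hle : j ≤ a := (Nat.prime_two.pow_dvd_iff_le_factorization Nat.card_pos.ne').1
      (hj ▸ orderOf_dvd_natCard u)
    have h3 : 3 ^ 2 ^ a ≡ 1 [MOD 2 ^ j] := by
      rcases Nat.eq_zero_or_pos j with h0 | hpos
      · rw [h0, pow_zero]; exact Nat.modEq_one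
      · have hd : Nat.totient (2 ^ j) ∣ 2 ^ a := by
          rw [Nat.totient_prime_pow Nat.prime_two hpos]
          simpa using pow_dvd_pow 2 (show j - 1 ≤ a by omega)
        obtain ⟨c, hc'⟩ := hd
        rw [hc', pow_mul]
        simpa using (Nat.ModEq.pow_totient ((show Nat.Coprime 3 2 by norm_num).pow_right j)).pow c
    rw [← huv, hc.mul_pow, hv', hu', (pow_eq_pow_iff_modEq (x := u) (m := 1)).2 (by rw [hj]; exact h3), pow_one]
  have hidx : ∀ g : G, (Subgroup.centralizer ({g ^ k} : Set G)).index =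
      (Subgroup.centralizer ({g} : Set G)).index := fun g => by
    rw [Cfsg.Agent.Char.RealBlock.centralizer_pow_eq hcop]
  have hfun : ∀ χ : Cfsg.IrrCharacter G, (fun g => (χ : G → ℂ) (g ^ k)) 1 = (χ : G → ℂ) 1 := fun χ => by
    simp only [one_pow]
  let tw : Cfsg.IrrCharacter G → Cfsg.IrrCharacter G := fun χ =>
    ⟨fun g => (χ : G → ℂ) (g ^ k), Cfsg.Agent.Char.IsIrr.pow_map χ.2 hcop⟩
  have hdeg : ∀ χ, Cfsg.charDegree (tw χ : G → ℂ) = Cfsg.charDegree (χ : G → ℂ) := fun χ => by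
    have h1 := Cfsg.Agent.Block.charDeg_spec' (tw χ)
    have h2 := Cfsg.Agent.Block.charDeg_spec' χ
    simp only [tw, one_pow] at h1
    rw [h2] at h1
    exact (Nat.cast_injective h1).symm
  have hB : ∀ χ, χ ∈ Cfsg.principalBlock M G → tw χ ∈ Cfsg.principalBlock M G := by
    intro χ hχ g
    have h := hχ (g ^ k)
    simp only [Cfsg.centralChar, tw, one_pow, hidx] at h ⊢
    exact h
  let T := {χ : Cfsg.IrrCharacter G // χ ∈ Cfsg.principalBlock M G ∧ Odd (Cfsg.charDegree (χ : G → ℂ))}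
  let f : Function.End T := fun χ => ⟨tw χ.1, hB _ χ.2.1, by rw [hdeg]; exact χ.2.2⟩
  have hiter : ∀ (i : ℕ) (χ : T) (g : G),
      (((f ^ i : Function.End T) χ).1 : G → ℂ) g = (χ.1 : G → ℂ) (g ^ k ^ i) := by
    intro i
    induction i with
    | zero => intro χ g; rw [pow_zero, pow_zero, pow_one]; rfl
    | succ i ih =>
      intro χ g
      rw [pow_succ f i]
      show (((f ^ i : Function.End T) (f χ)).1 : G → ℂ) g = _
      rw [ih, pow_succ k i, pow_mul]
  have hf : f ^ 2 ^ a = 1 := by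
    funext χ
    refine Subtype.ext (Subtype.ext (funext fun g => ?_))
    rw [hiter, hper]
    rfl
  cases nonempty_fintype (Cfsg.IrrCharacter G)
  have hmod := Equiv.Perm.card_fixedPoints_modEq (p := 2) (n := a) hf
  have hbij : Nat.card {χ : Cfsg.IrrCharacter G // χ ∈ Cfsg.principalBlock M G ∧ Odd (Cfsg.charDegree (χ : G → ℂ)) ∧
      ∀ g : G, (χ : G → ℂ) (g ^ k) = (χ : G → ℂ) g} = Fintype.card (Function.fixedPoints f) := by
    rw [← Nat.card_eq_fintype_card]
    refine Nat.card_congr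
      { toFun := fun χ => ⟨⟨χ.1, χ.2.1, χ.2.2.1⟩, Subtype.ext (Subtype.ext (funext χ.2.2.2))⟩
        invFun := fun χ => ⟨χ.1.1, χ.1.2.1, χ.1.2.2, fun g => congrFun (congrArg Subtype.val (congrArg Subtype.val χ.2)) g⟩
        left_inv := fun _ => rfl
        right_inv := fun _ => rfl }
  rw [hbij, Nat.even_iff, ← hmod]
  -- the number of odd degree members is even
  obtain ⟨t, ht⟩ := exists_prime_orderOf_dvd_card' 2 (even_iff_two_dvd.1 hev)
  have hw := Cfsg.Agent.Block.weak_orth hM (Cfsg.Agent.Block.isPBlock_principalBlock (M := M) (G := G))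
    (x := 1) (y := t) (by simp) (by rw [ht])
  rw [Cfsg.Agent.Block.finsum_mem_block] at hw
  set F := Finset.univ.filter (· ∈ Cfsg.principalBlock M G) with hF
  have hint : ∀ χ : Cfsg.IrrCharacter G, Cfsg.MemLocalIdeal M ((χ : G → ℂ) t - (χ : G → ℂ) 1) := fun χ =>
    (Cfsg.Agent.Block.ideal_coe_iff hM _).2
      (Cfsg.Agent.Char.IsChar.sub_degree_mem (Cfsg.Agent.Char.IsIrr.isCharacter χ.2) hM ⟨1, by rw [ht, pow_one]⟩)
  have hsum : Cfsg.MemLocalIdeal M ((∑ χ ∈ F, Cfsg.charDegree (χ : G → ℂ) ^ 2 : ℕ) : ℂ) := by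
    have e : ((∑ χ ∈ F, Cfsg.charDegree (χ : G → ℂ) ^ 2 : ℕ) : ℂ) =
        -(∑ χ ∈ F, (χ : G → ℂ) 1 * ((χ : G → ℂ) t - (χ : G → ℂ) 1)) := by
      simp only [mul_sub, Finset.sum_sub_distrib]
      have h0 : ∑ χ ∈ F, (χ : G → ℂ) 1 * (χ : G → ℂ) t = 0 := by
        rw [← hw]
        refine Finset.sum_congr rfl fun χ _ => ?_
        rw [← Cfsg.Agent.Char.IsIrr.apply_inv χ.2, show t⁻¹ = t from inv_eq_of_mul_eq_one_right
          (by rw [← pow_two, ← ht]; exact pow_orderOf_eq_one t)]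
      rw [h0, zero_sub, neg_neg]
      push_cast
      exact Finset.sum_congr rfl fun χ _ => by rw [Cfsg.Agent.Block.charDeg_spec' χ]; ring
    rw [e]
    refine Cfsg.Agent.Block.ideal_neg (Cfsg.Agent.Block.ideal_sum hM fun χ _ => ?_)
    refine Cfsg.Agent.Block.ideal_mul_left hM ?_ (hint χ)
    rw [Cfsg.Agent.Block.charDeg_spec' χ]
    exact Cfsg.Agent.Block.ring_natCast hM _
  have h2 := (Cfsg.Agent.Block.ideal_natCast_iff hM _).1 hsum
  rw [← Finset.sum_filter_add_sum_filter_not F (fun χ : Cfsg.IrrCharacter G => Odd (Cfsg.charDegree (χ : G → ℂ)))] at h2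
  have hev2 : Even (∑ χ ∈ F.filter (fun χ : Cfsg.IrrCharacter G => ¬ Odd (Cfsg.charDegree (χ : G → ℂ))),
      Cfsg.charDegree (χ : G → ℂ) ^ 2) := Finset.even_sum _ fun χ hχ => by
    rw [Nat.even_pow]; exact ⟨Nat.not_odd_iff_even.1 (Finset.mem_filter.1 hχ).2, by omega⟩
  have hev1 := (Nat.dvd_add_left (even_iff_two_dvd.1 hev2)).1 h2
  have hodd : ∀ χ ∈ F.filter (fun χ : Cfsg.IrrCharacter G => Odd (Cfsg.charDegree (χ : G → ℂ))),
      Cfsg.charDegree (χ : G → ℂ) ^ 2 % 2 = 1 := fun χ hχ => Nat.odd_iff.1 ((Finset.mem_filter.1 hχ).2.pow)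
  rw [Nat.dvd_iff_mod_eq_zero, Finset.sum_nat_mod, Finset.sum_congr rfl hodd, Finset.sum_const, smul_eq_mul, mul_one] at hev1
  rw [← hev1, Fintype.card_subtype]
  congr 2
  ext χ
  simp [hF]

end Cfsg.Agent.S4550
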