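import Cfsg.Statements.S4551
import Cfsg.Agent.Lib.Char.AlperinBlocks
-- import your own Cfsg.Agent.* helpers here

set_option autoImplicit false
open Cfsg

namespace Cfsg.Agent.S4551

/-- Let N be a normal subgroup of the finite group G of index prime to p, P a Sylow p-subgroup of G with G = N·C_G(P), and M a maximal ideal of the algebraic integers containing p. Then restriction to N is a bijection from the principal p-block of G onto the principal p-block of N: every member of the principal block of G restricts to a member of the principal block of N, and every member of the principal block of N is the restriction of exactly one member of the principal block of G. -/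
theorem result {G : Type*} [Group G] [Finite G] (p : ℕ) [Fact p.Prime] (M : Ideal Cfsg.AlgInt) (hM : Cfsg.IsPModular p M) (N : Subgroup G) [N.Normal] (hidx : ¬ p ∣ N.index) (P : Sylow p G) (hsup : N ⊔ Subgroup.centralizer ((P : Subgroup G) : Set G) = ⊤) : (∀ χ ∈ Cfsg.principalBlock M G, ∃ θ ∈ Cfsg.principalBlock M ↥N, ∀ n : N, (χ : G → ℂ) n = (θ : N → ℂ) n) ∧ ∀ θ ∈ Cfsg.principalBlock M ↥N, ∃! χ : Cfsg.IrrCharacter G, χ ∈ Cfsg.principalBlock M G ∧ ∀ n : N, (χ : G → ℂ) n = (θ : N → ℂ) n := by
  classical
  cases nonempty_fintype G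
  haveI := Fintype.ofFinite N
  have hle : (P : Subgroup G) ≤ N := by
    have h1 : IsPGroup p ((P : Subgroup G).map (QuotientGroup.mk' N)) := P.2.map _
    obtain ⟨k, hk⟩ := IsPGroup.iff_card.1 h1
    have h2 : Nat.card ((P : Subgroup G).map (QuotientGroup.mk' N)) ∣ N.index :=
      Subgroup.card_subgroup_dvd_card _
    rcases Nat.eq_zero_or_pos k with rfl | hk0
    · intro x hx
      have hb : (P : Subgroup G).map (QuotientGroup.mk' N) = ⊥ :=
        Subgroup.card_eq_one.1 (by rw [hk, pow_zero])
      have h3 : QuotientGroup.mk' N x ∈ (P : Subgroup G).map (QuotientGroup.mk' N) := ⟨x, hx, rfl⟩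
      rw [hb, Subgroup.mem_bot] at h3
      exact (QuotientGroup.eq_one_iff x).1 h3
    · exact absurd ((dvd_pow_self p hk0.ne').trans (hk ▸ h2)) hidx
  exact Cfsg.Agent.Char.Alperin.isomorphic_blocks hM N
    (P := (P : Subgroup G)) ⟨hidx, hle, P.not_dvd_index, hsup⟩

end Cfsg.Agent.S4551
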