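import Cfsg.Statements.S4552
import Cfsg.Agent.Lib.Char.FreeDefectCount

set_option autoImplicit false
open Cfsg

namespace Cfsg.Agent.S4552
theorem zmod_two_torsion {m : ℕ} (hm : 1 ≤ m) {a : ZMod (2 ^ m)} (ha : a + a = 0) :
    a = 0 ∨ a = ((2 ^ (m - 1) : ℕ) : ZMod (2 ^ m)) := by
  obtain ⟨n, rfl⟩ : ∃ n, m = n + 1 := ⟨m - 1, by omega⟩
  haveI : NeZero (2 ^ (n + 1)) := ⟨pow_ne_zero _ two_ne_zero⟩
  have h : 2 ^ (n + 1) ∣ a.val + a.val := by
    rw [← ZMod.natCast_eq_zero_iff, Nat.cast_add, ZMod.natCast_zmod_val, ha]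
  have hlt := ZMod.val_lt a
  obtain ⟨k, hk⟩ := h
  have hk2 : k < 2 := by
    by_contra hc
    have : 2 ^ (n + 1) * 2 ≤ 2 ^ (n + 1) * k := Nat.mul_le_mul_left _ (by omega)
    omega
  interval_cases k
  · exact Or.inl ((ZMod.val_eq_zero a).1 (by omega))
  · refine Or.inr ((ZMod.natCast_zmod_val a).symm.trans (congrArg _ ?_))
    simp only [Nat.add_sub_cancel, pow_succ] at hk ⊢
    omega

/-- At most three involutions. -/
theorem involutions_le {D : Type*} [Group D] [Fintype D] [DecidableEq D] {m : ℕ} (hm : 1 ≤ m)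
    (φ : D ≃* Multiplicative (ZMod (2 ^ m) × ZMod (2 ^ m))) :
    (Finset.univ.filter fun w : D => w * w = 1 ∧ w ≠ 1).card ≤ 3 := by
  classical
  set h : ZMod (2 ^ m) := ((2 ^ (m - 1) : ℕ) : ZMod (2 ^ m))
  refine le_trans (Finset.card_le_card_of_injOn (fun w => Multiplicative.toAdd (φ w))
    (t := ({(0, h), (h, 0), (h, h)} : Finset (ZMod (2 ^ m) × ZMod (2 ^ m)))) (fun w hw => ?_)
    fun a _ b _ hab => φ.injective (Multiplicative.toAdd.injective hab)) Finset.card_le_three
  obtain ⟨hw1, hw2⟩ := (Finset.mem_filter.1 hw).2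
  have h2 : Multiplicative.toAdd (φ w) + Multiplicative.toAdd (φ w) = 0 := by
    rw [← toAdd_mul, ← map_mul, hw1, map_one, toAdd_one]
  have h0 : Multiplicative.toAdd (φ w) ≠ 0 := fun h => hw2 (φ.injective (by
    rw [map_one]; exact Multiplicative.toAdd.injective (h.trans toAdd_one.symm)))
  show Multiplicative.toAdd (φ w) ∈ ({(0, h), (h, 0), (h, h)} : Finset (ZMod (2 ^ m) × ZMod (2 ^ m)))
  generalize Multiplicative.toAdd (φ w) = ab at h2 h0
  obtain ⟨a, b⟩ := ab
  obtain ⟨ha, hb⟩ := Prod.ext_iff.1 h2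
  simp only [Prod.fst_add, Prod.snd_add, Prod.fst_zero, Prod.snd_zero] at ha hb
  rcases zmod_two_torsion hm ha with rfl | rfl <;> rcases zmod_two_torsion hm hb with rfl | rfl <;>
    simp_all [h]

/-- An automorphism of odd order fixing the involutions is trivial. -/
theorem eq_one_of_fix_involutions {D : Type*} [Group D] [Finite D] (hD : IsPGroup 2 D)
    (hab : ∀ a b : D, a * b = b * a) (r : MulAut D) {n : ℕ} (hn : r ^ n = 1) (hodd : ¬ 2 ∣ n)
    (hfix : ∀ w, w * w = 1 → r w = w) : r = 1 := by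
  refine MulEquiv.ext fun v => ?_
  obtain ⟨k, hk⟩ := hD v
  induction k generalizing v with
  | zero =>
    rw [pow_zero, pow_one] at hk
    rw [hk, map_one, map_one]
  | succ k ih =>
    have h1 := ih (v * v) (by rw [← pow_two, ← pow_mul, mul_comm, ← pow_succ, hk])
    rw [MulAut.one_apply] at h1 ⊢
    set w := v⁻¹ * r v with hw
    have hv : r v = v * w := by rw [hw, mul_inv_cancel_left]
    have hww : w * w = 1 := by
      have h2 : v * w * (v * w) = v * v := by rw [← hv, ← map_mul, h1]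
      rw [mul_assoc, ← mul_assoc w v w, hab w v, mul_assoc v w w, ← mul_assoc,
        mul_eq_left] at h2
      exact h2
    have hpow : ∀ j : ℕ, (r ^ j) v = v * w ^ j := by
      intro j
      induction j with
      | zero => simp
      | succ j ihj =>
        rw [pow_succ', MulAut.mul_apply, ihj, map_mul, map_pow, hfix w hww, hv, mul_assoc,
          ← pow_succ']
    have h3 := hpow n
    rw [hn, MulAut.one_apply] at h3
    have h4 : w ^ n = 1 := mul_eq_left.1 h3.symm
    obtain ⟨j, hj⟩ : ∃ j, n = 2 * j + 1 := ⟨n / 2, by omega⟩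
    rw [hj, pow_succ, pow_mul, pow_two, hww, one_pow, one_mul] at h4
    rw [hv, h4, mul_one]

/-- An automorphism of odd order fixing an involution is trivial, when there are at most three. -/
theorem eq_one_of_fix_one {D : Type*} [Group D] [Fintype D] [DecidableEq D] (hD : IsPGroup 2 D)
    (hab : ∀ a b : D, a * b = b * a)
    (h3 : (Finset.univ.filter fun w : D => w * w = 1 ∧ w ≠ 1).card ≤ 3)
    (r : MulAut D) {n : ℕ} (hn : r ^ n = 1) (hodd : ¬ 2 ∣ n) {v : D} (hv : v ≠ 1)
    (hrv : r v = v) : r = 1 := by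
  refine eq_one_of_fix_involutions hD hab r hn hodd fun w hw => ?_
  obtain ⟨z, hz, hzz, hzv⟩ : ∃ z : D, z ≠ 1 ∧ z * z = 1 ∧ r z = z := by
    obtain ⟨k, hk⟩ := hD v
    induction k generalizing v with
    | zero => exact absurd (by simpa using hk) hv
    | succ k ih =>
      by_cases h : v * v = 1
      · exact ⟨v, hv, h, hrv⟩
      · exact ih h (by rw [map_mul, hrv]) (by rw [← pow_two, ← pow_mul, mul_comm, ← pow_succ, hk])
  by_cases hw1 : w = 1
  · rw [hw1, map_one]
  by_cases hwz : w = z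
  · rw [hwz, hzv]
  have hr2 : r (r w) = w := by
    by_contra hne
    have hsub : ({z, w, r w, r (r w)} : Finset D) ⊆
        Finset.univ.filter fun w : D => w * w = 1 ∧ w ≠ 1 := by
      intro y hy
      refine Finset.mem_filter.2 ⟨Finset.mem_univ _, ?_⟩
      simp only [Finset.mem_insert, Finset.mem_singleton] at hy
      rcases hy with rfl | rfl | rfl | rfl
      · exact ⟨hzz, hz⟩
      · exact ⟨hw, hw1⟩
      · exact ⟨by rw [← map_mul, hw, map_one], by simpa using hw1⟩
      · exact ⟨by rw [← map_mul, ← map_mul, hw, map_one, map_one], by simpa using hw1⟩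
    have hrw : r w ≠ w := fun h => hne (by rw [h, h])
    have hz1 : z ≠ r w := fun h => hwz (r.injective (by rw [hzv]; exact h.symm))
    have hz2 : z ≠ r (r w) := fun h => by
      have h' : r w = z := r.injective (by rw [hzv]; exact h.symm)
      exact hz1 h'.symm
    have hcard : ({z, w, r w, r (r w)} : Finset D).card = 4 :=
      Finset.card_eq_four.2 ⟨z, w, r w, r (r w), Ne.symm hwz, hz1, hz2, Ne.symm hrw, Ne.symm hne,
        fun h => hrw (r.injective h).symm, rfl⟩
    have := Finset.card_le_card hsub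
    omega
  obtain ⟨j, hj⟩ : ∃ j, n = 2 * j + 1 := ⟨n / 2, by omega⟩
  have h2j : ∀ j : ℕ, (r ^ (2 * j)) w = w := by
    intro j
    induction j with
    | zero => simp
    | succ j ih =>
      rw [show 2 * (j + 1) = 2 + 2 * j by ring, pow_add, MulAut.mul_apply, ih, pow_two,
        MulAut.mul_apply, hr2]
  have h4 : (r ^ n) w = w := by rw [hn, MulAut.one_apply]
  rw [hj, pow_succ', MulAut.mul_apply, h2j] at h4
  exact h4


/-- Let B be a 2-block of the finite group G (relative to a maximal ideal M of the algebraic integers containing 2) whose defect group D is the direct product of two cyclic groups of the same order 2 ^ m, m ≥ 2. Then either B has 2-regular rank one and exactly 4 ^ m irreducible characters, or B has 2-regular rank three and exactly (4 ^ m + 8) / 3 irreducible characters. -/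
theorem result {G : Type*} [Group G] [Finite G] (M : Ideal Cfsg.AlgInt) (hM : Cfsg.IsPModular 2 M) (B : Set (Cfsg.IrrCharacter G)) (hB : Cfsg.IsPBlock M B) (D : Subgroup G) (hD : Cfsg.IsDefectGroup 2 M B D) (m : ℕ) (hm : 2 ≤ m) (hiso : Nonempty (D ≃* Multiplicative (ZMod (2 ^ m) × ZMod (2 ^ m)))) : (Cfsg.blockRank 2 B = 1 ∧ Nat.card B = 4 ^ m) ∨ (Cfsg.blockRank 2 B = 3 ∧ 3 * Nat.card B = 4 ^ m + 8) := by
  classical
  cases nonempty_fintype G
  obtain ⟨φ⟩ := hiso
  obtain ⟨χ, hχ, h0⟩ := Cfsg.Agent.Block.exists_height_zero hM hB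
  obtain ⟨i, c, -, hx, -⟩ := Cfsg.Agent.Char.Spec.exists_source hM hB hχ h0 hD
  set x : Cfsg.BrauerPairIdx G := ⟨D, c⟩ with hxdef
  have hab : ∀ v ∈ D, ∀ w ∈ D, v * w = w * v := fun v hv w hw =>
    congrArg Subtype.val (φ.injective (by rw [map_mul, map_mul, mul_comm]) :
      (⟨v, hv⟩ : D) * ⟨w, hw⟩ = ⟨w, hw⟩ * ⟨v, hv⟩)
  have hD2 : IsPGroup 2 x.1 := hx.1.1.1
  have habD : ∀ a b : x.1, a * b = b * a := fun a b => Subtype.ext (hab _ a.2 _ b.2)
  set R := (Cfsg.Agent.Char.FreeDef.act x).range with hR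
  set e := (Cfsg.Agent.Char.BP.CG x.1).relIndex (Cfsg.Agent.Char.BP.stab x) with he
  have hcR : Nat.card R = e := Cfsg.Agent.Char.FreeDef.card_act_range
  have hodd : ¬ 2 ∣ e := Cfsg.Agent.Char.BP.not_dvd_relIndex hM (P := x.1) (e := x.2) hx hab
  have h3 := involutions_le (D := x.1) (by omega : 1 ≤ m) φ
  have hfix : ∀ (r : R) (v : x.1), v ≠ 1 → (r : MulAut x.1) v = v → r = 1 := fun r v hv hrv =>
    Subtype.ext (eq_one_of_fix_one hD2 habD h3 (r : MulAut x.1) (n := e)
      (by rw [← hcR, ← Subgroup.coe_pow, pow_card_eq_one', Subgroup.coe_one]) hodd hv hrv)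
  have hfree : Cfsg.Agent.Char.FreeDef.Free x := by
    intro t ht v hv hv1 htv
    have h1 := hfix ⟨Cfsg.Agent.Char.FreeDef.act x ⟨t, ht⟩, ⟨t, ht⟩, rfl⟩ ⟨v, hv⟩
      (fun h => hv1 (congrArg Subtype.val h)) (Subtype.ext htv)
    refine Subgroup.mem_centralizer_iff.2 fun w hw => ?_
    have h2 : t * w * t⁻¹ = w := congrArg
      (fun r : R => (((r : MulAut x.1) ⟨w, hw⟩ : x.1) : G)) h1
    exact (mul_inv_eq_iff_eq_mul.1 h2).symm
  have hcard : Nat.card x.1 = 4 ^ m := by
    rw [Nat.card_congr φ.toEquiv, Nat.card_congr Multiplicative.toAdd, Nat.card_prod,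
      Nat.card_zmod, ← mul_pow]
    norm_num
  have hP1 : x.1 ≠ ⊥ := fun h => by
    rw [h, Subgroup.card_bot] at hcard
    have : 4 ^ 1 ≤ 4 ^ m := Nat.pow_le_pow_right (by norm_num) (by omega)
    omega
  have he3 : e ≤ 3 := by
    obtain ⟨v, hv⟩ : ∃ v : x.1, v ≠ 1 := by
      obtain ⟨v, hv⟩ := Subgroup.ne_bot_iff_exists_ne_one.1 hP1
      exact ⟨v, hv⟩
    obtain ⟨z, hz⟩ := exists_prime_orderOf_dvd_card' (G := x.1) 2 (by
      rw [hcard]; exact dvd_pow (by norm_num) (by omega))
    have hz1 : z ≠ 1 := fun h => by rw [h, orderOf_one] at hz; omega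
    have hzz : z * z = 1 := by
      have := pow_orderOf_eq_one z
      rwa [hz, pow_two] at this
    letI := Fintype.ofFinite R
    rw [← hcR, Nat.card_eq_fintype_card]
    refine le_trans (Finset.card_le_card_of_injOn (s := (Finset.univ : Finset R))
      (fun r : R => (r : MulAut x.1) z) (fun r _ => ?_) fun r _ s _ hrs => ?_) h3
    · exact Finset.mem_filter.2 ⟨Finset.mem_univ _, by rw [← map_mul, hzz, map_one],
        by simpa using hz1⟩
    · have h1 := hfix (s⁻¹ * r) z hz1 (by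
        show (s : MulAut x.1)⁻¹ ((r : MulAut x.1) z) = z
        rw [show (r : MulAut x.1) z = (s : MulAut x.1) z from hrs, MulAut.inv_apply_self])
      exact (inv_mul_eq_one.1 h1).symm
  obtain ⟨h1, -, h2⟩ := Cfsg.Agent.Char.FreeDef.counts hM hB hx hab hfree hP1 he.symm
  have h2' := h2 he3
  rw [hcard] at h1
  have hsplit := Cfsg.Agent.Char.FreeDef.card_split hM hB hx hab hfree
  rw [← he, hcard, h2'] at hsplit
  rw [h2'] at h1 ⊢
  have h4 : 1 ≤ 4 ^ m := Nat.one_le_pow _ _ (by norm_num)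
  interval_cases e
  · exact absurd (dvd_zero 2) hodd
  · exact Or.inl ⟨rfl, by omega⟩
  · exact absurd (dvd_refl 2) hodd
  · exact Or.inr ⟨rfl, by omega⟩

end Cfsg.Agent.S4552
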