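import Cfsg.Statements.S4558
import Cfsg.Agent.Lib.Char.ModP

set_option autoImplicit false
open Cfsg

namespace Cfsg.Agent.S4558

open Cfsg.Agent.Char

/-- Let χ be a character of the finite group G and g an element of p-power order for the prime p. If χ g = 0, then p divides the degree of χ. -/
theorem result {G : Type*} [Group G] [Finite G] (p : ℕ) [Fact p.Prime] (χ : G → ℂ) (hχ : Cfsg.IsCharacter G χ) (g : G) (hg : ∃ j : ℕ, orderOf g = p ^ j) (h0 : χ g = 0) : p ∣ Cfsg.charDegree χ := by
  obtain ⟨M, hM⟩ := exists_isPModular p (Fact.out)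
  obtain ⟨n, hn⟩ := IsChar.one_eq_nat hχ
  have h := IsChar.sub_degree_mem hχ hM hg
  have e : (⟨χ g, IsChar.isIntegral hχ g⟩ : AlgInt) - (⟨χ 1, IsChar.isIntegral hχ 1⟩ : AlgInt) = -(n : AlgInt) := by
    apply Subtype.val_injective
    simp [h0, hn]
  rw [e, M.neg_mem_iff, natCast_mem_iff hM] at h
  have : charDegree χ = n := by simp [charDegree, hn]
  rw [this]; exact h

end Cfsg.Agent.S4558
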