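import Cfsg.Prelude
import Cfsg.Agent.Lib.Invol.AltCharZeros
-- import your own Cfsg.Agent.* helpers here

set_option autoImplicit false
open Cfsg

open scoped Pointwise commutatorElement

namespace Cfsg.Agent.S4560

/-- For n ≥ 7 the alternating group on n letters has an irreducible character that vanishes at some 2-element and is the restriction of an irreducible character of the symmetric group, and an irreducible character that vanishes at some element of order 3 and is the restriction of an irreducible character of the symmetric group. -/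
theorem result (n : ℕ) (hn : 7 ≤ n) : (∃ χ : Cfsg.IrrCharacter (alternatingGroup (Fin n)), (∃ x : alternatingGroup (Fin n), (∃ j : ℕ, orderOf x = 2 ^ j) ∧ (χ : alternatingGroup (Fin n) → ℂ) x = 0) ∧ ∃ ψ : Cfsg.IrrCharacter (Equiv.Perm (Fin n)), ∀ x : alternatingGroup (Fin n), (ψ : Equiv.Perm (Fin n) → ℂ) x = (χ : alternatingGroup (Fin n) → ℂ) x) ∧ (∃ χ : Cfsg.IrrCharacter (alternatingGroup (Fin n)), (∃ y : alternatingGroup (Fin n), orderOf y = 3 ∧ (χ : alternatingGroup (Fin n) → ℂ) y = 0) ∧ ∃ ψ : Cfsg.IrrCharacter (Equiv.Perm (Fin n)), ∀ x : alternatingGroup (Fin n), (ψ : Equiv.Perm (Fin n) → ℂ) x = (χ : alternatingGroup (Fin n) → ℂ) x) := by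
  classical
  open Cfsg.Agent.Invol.AltZero in
  have hA : MulAction.IsMultiplyPretransitive (alternatingGroup (Fin n)) (Fin n) 4 := by
    haveI := alternatingGroup.isMultiplyPretransitive (Fin n)
    exact MulAction.isMultiplyPretransitive_of_le (n := Nat.card (Fin n) - 2)
      (by rw [Nat.card_eq_fintype_card, Fintype.card_fin]; omega) (Nat.sub_le _ _)
  open Cfsg.Agent.Invol.AltZero in
  obtain ⟨a1, a2, a3⟩ := irr_all (G := alternatingGroup (Fin n)) hA (by omega)
  open Cfsg.Agent.Invol.AltZero in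
  obtain ⟨s1, s2, s3⟩ := irr_all (G := Equiv.Perm (Fin n))
    (Equiv.Perm.isMultiplyPretransitive (Fin n) 4) (by omega)
  open Cfsg.Agent.Invol.AltZero in
  have key : ∀ (m : Multiset ℕ), (∀ a ∈ m, 2 ≤ a) → m.sum ≤ n → Even (m.sum + m.card) →
      (n = m.sum + 1 ∨ (2 ∉ m ∧ (n = m.sum ∨ n = m.sum + 2))) →
      ∃ χ : Cfsg.IrrCharacter (alternatingGroup (Fin n)),
        (∃ x : alternatingGroup (Fin n), orderOf x = m.lcm ∧
          (χ : alternatingGroup (Fin n) → ℂ) x = 0) ∧
        ∃ ψ : Cfsg.IrrCharacter (Equiv.Perm (Fin n)), ∀ x : alternatingGroup (Fin n),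
          (ψ : Equiv.Perm (Fin n) → ℂ) x = (χ : alternatingGroup (Fin n) → ℂ) x := by
    intro m h2 hsum hev hcase
    obtain ⟨x, hx, hord, hfix⟩ := exists_alt (n := n) m h2 hsum hev
    rcases hcase with h | ⟨hm2, h | h⟩
    · refine ⟨⟨_, a1⟩, ⟨x, hord, ?_⟩, ⟨_, s1⟩, fun y => rfl⟩
      show chiA n _ x = 0
      rw [chiA_val, hfix, show n - m.sum = 1 by omega]
      simp
    · refine ⟨⟨_, a2⟩, ⟨x, hord, ?_⟩, ⟨_, s2⟩, fun y => rfl⟩
      show chiB n _ x = 0
      rw [chiB_val _ (fun a => no_two_cycle (hx ▸ hm2) a), hfix, show n - m.sum = 0 by omega]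
      simp
    · refine ⟨⟨_, a3⟩, ⟨x, hord, ?_⟩, ⟨_, s3⟩, fun y => rfl⟩
      show chiC n _ x = 0
      rw [chiC_val _ (fun a => no_two_cycle (hx ▸ hm2) a), hfix, show n - m.sum = 2 by omega]
      norm_num [Nat.descFactorial_succ]
  have htwo : ∀ m : Multiset ℕ, (∀ a ∈ m, a = 2 ∨ a = 4 ∨ a = 8) → ∃ j : ℕ, m.lcm = 2 ^ j := by
    intro m hm
    obtain ⟨j, -, hj⟩ := (Nat.dvd_prime_pow Nat.prime_two).mp
      (show m.lcm ∣ 2 ^ 3 from Multiset.lcm_dvd.mpr fun a ha => by
        rcases hm a ha with rfl | rfl | rfl <;> norm_num)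
    exact ⟨j, hj⟩
  refine ⟨?_, ?_⟩
  · obtain ⟨m, hm, hsum, hev, hcase⟩ : ∃ m : Multiset ℕ, (∀ a ∈ m, a = 2 ∨ a = 4 ∨ a = 8) ∧
        m.sum ≤ n ∧ Even (m.sum + m.card) ∧
        (n = m.sum + 1 ∨ (2 ∉ m ∧ (n = m.sum ∨ n = m.sum + 2))) := by
      rcases Nat.even_or_odd' n with ⟨k, rfl | rfl⟩
      · -- even degree: only cycles of length four and eight
        obtain ⟨c, r, hr, rfl⟩ : ∃ c r, r ≤ 1 ∧ k = 2 * c + r :=
          ⟨k / 2, k % 2, by omega, (Nat.div_add_mod k 2).symm⟩
        rcases Nat.even_or_odd' c with ⟨d, rfl | rfl⟩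
        · refine ⟨Multiset.replicate (2 * d) 4, fun a ha => ?_, ?_, ?_, Or.inr ⟨?_, ?_⟩⟩
          · simp [Multiset.eq_of_mem_replicate ha]
          · simp only [Multiset.sum_replicate, smul_eq_mul]; omega
          · simp only [Multiset.sum_replicate, smul_eq_mul, Multiset.card_replicate]
            exact ⟨5 * d, by ring⟩
          · simp [Multiset.mem_replicate]
          · simp only [Multiset.sum_replicate, smul_eq_mul]; omega
        · obtain ⟨e, rfl⟩ : ∃ e, d = e + 1 := ⟨d - 1, by omega⟩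
          refine ⟨8 ::ₘ Multiset.replicate (2 * e + 1) 4, fun a ha => ?_, ?_, ?_, Or.inr ⟨?_, ?_⟩⟩
          · rcases Multiset.mem_cons.mp ha with rfl | ha
            · simp
            · simp [Multiset.eq_of_mem_replicate ha]
          · simp only [Multiset.sum_cons, Multiset.sum_replicate, smul_eq_mul]; omega
          · simp only [Multiset.sum_cons, Multiset.sum_replicate, smul_eq_mul, Multiset.card_cons,
              Multiset.card_replicate]
            exact ⟨5 * e + 7, by ring⟩
          · simp [Multiset.mem_replicate]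
          · simp only [Multiset.sum_cons, Multiset.sum_replicate, smul_eq_mul]; omega
      · rcases Nat.even_or_odd' k with ⟨d, rfl | rfl⟩
        · refine ⟨Multiset.replicate (2 * d) 2, fun a ha => ?_, ?_, ?_, Or.inl ?_⟩
          · simp [Multiset.eq_of_mem_replicate ha]
          · simp only [Multiset.sum_replicate, smul_eq_mul]; omega
          · simp only [Multiset.sum_replicate, smul_eq_mul, Multiset.card_replicate]
            exact ⟨3 * d, by ring⟩
          · simp only [Multiset.sum_replicate, smul_eq_mul]; omega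
        · obtain ⟨e, rfl⟩ : ∃ e, d = e + 1 := ⟨d - 1, by omega⟩
          refine ⟨4 ::ₘ Multiset.replicate (2 * e + 1) 2, fun a ha => ?_, ?_, ?_, Or.inl ?_⟩
          · rcases Multiset.mem_cons.mp ha with rfl | ha
            · simp
            · simp [Multiset.eq_of_mem_replicate ha]
          · simp only [Multiset.sum_cons, Multiset.sum_replicate, smul_eq_mul]; omega
          · simp only [Multiset.sum_cons, Multiset.sum_replicate, smul_eq_mul, Multiset.card_cons,
              Multiset.card_replicate]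
            exact ⟨3 * e + 4, by ring⟩
          · simp only [Multiset.sum_cons, Multiset.sum_replicate, smul_eq_mul]; omega
    obtain ⟨χ, ⟨x, hx, hx0⟩, hψ⟩ := key m (fun a ha => by rcases hm a ha with rfl | rfl | rfl <;> norm_num)
      hsum hev hcase
    obtain ⟨j, hj⟩ := htwo m hm
    exact ⟨χ, ⟨x, ⟨j, hx.trans hj⟩, hx0⟩, hψ⟩
  · obtain ⟨q, r, hr, rfl⟩ : ∃ q r, r ≤ 2 ∧ n = 3 * q + r :=
      ⟨n / 3, n % 3, by omega, (Nat.div_add_mod n 3).symm⟩
    obtain ⟨χ, ⟨x, hx, hx0⟩, hψ⟩ := key (Multiset.replicate q 3)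
      (fun a ha => by simp [Multiset.eq_of_mem_replicate ha])
      (by simp only [Multiset.sum_replicate, smul_eq_mul]; omega)
      (by simp only [Multiset.sum_replicate, smul_eq_mul, Multiset.card_replicate]; exact ⟨2 * q, by ring⟩)
      (by
        simp only [Multiset.sum_replicate, smul_eq_mul, Multiset.mem_replicate]
        omega)
    refine ⟨χ, ⟨x, hx.trans ?_, hx0⟩, hψ⟩
    refine Nat.dvd_antisymm (Multiset.lcm_dvd.mpr fun a ha => by
      rw [Multiset.eq_of_mem_replicate ha]) ?_
    exact Multiset.dvd_lcm (Multiset.mem_replicate.mpr ⟨by omega, rfl⟩)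

end Cfsg.Agent.S4560
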