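import Cfsg.Statements.S4564
import Cfsg.Agent.Lib.Char.RamifiedComplementMain

set_option autoImplicit false
open Cfsg

namespace Cfsg.Agent.S4564

/-- Let χ be an irreducible character of the finite group H that is fully ramified over the normal subgroup Z: the restriction of χ to Z is e times an irreducible character of Z with e ^ 2 equal to the index of Z. Let K be a normal subgroup of H containing Z and P a cyclic Sylow p-subgroup of H/K. Then P has a complement in H/K: a subgroup meeting P trivially whose product with P is the whole group. -/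
theorem result {H : Type*} [Group H] [Finite H] (Z : Subgroup H) [Z.Normal] (χ : Cfsg.IrrCharacter H) (hfr : ∃ (θ : Cfsg.IrrCharacter ↥Z) (e : ℕ), e ^ 2 = Z.index ∧ ∀ z : ↥Z, (χ : H → ℂ) z = (e : ℂ) * (θ : ↥Z → ℂ) z) (K : Subgroup H) [K.Normal] (hZK : Z ≤ K) (p : ℕ) [Fact p.Prime] (P : Sylow p (H ⧸ K)) (hcyc : IsCyclic P) : ∃ M : Subgroup (H ⧸ K), M.IsComplement' (P : Subgroup (H ⧸ K)) := by
  obtain ⟨θ, e, he, hres⟩ := hfr
  letI := Fintype.ofFinite H
  letI := Fintype.ofFinite ↥Z
  have d : Cfsg.Agent.Char.RamCompl.Data Z (χ : H → ℂ) (θ : ↥Z → ℂ) e := ⟨χ.2, θ.2, he, hres⟩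
  have hp : p.Prime := Fact.out
  obtain ⟨M, hM⟩ := d.complement_of hp K hZK (Or.inl fun B hB => by
    obtain ⟨P', hP'⟩ := hB.exists_le_sylow
    haveI := hcyc
    haveI : IsCyclic P' := isCyclic_of_surjective (Sylow.equiv P P').toMonoidHom
      (Sylow.equiv P P').surjective
    exact isCyclic_of_injective (Subgroup.inclusion hP') (Subgroup.inclusion_injective hP'))
  have hmul : Nat.card M * Nat.card (P : Subgroup (H ⧸ K)) = Nat.card (H ⧸ K) := by
    rw [← M.card_mul_index, hM, Subgroup.index_eq_card, P.card_eq_multiplicity]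
  have hndvd : ¬ p ∣ Nat.card M := by
    intro hdvd
    have h := P.card_eq_multiplicity
    have h2 : p ^ ((Nat.card (H ⧸ K)).factorization p + 1) ∣ Nat.card (H ⧸ K) :=
      dvd_trans (by rw [pow_succ']; exact mul_dvd_mul_right hdvd _) (dvd_of_eq (h ▸ hmul))
    have := (hp.pow_dvd_iff_le_factorization Nat.card_pos.ne').1 h2
    omega
  refine ⟨M, Subgroup.isComplement'_of_coprime hmul ?_⟩
  rw [P.card_eq_multiplicity]
  exact ((hp.coprime_iff_not_dvd.2 hndvd).symm).pow_right _

end Cfsg.Agent.S4564
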