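import Cfsg.Statements.S4566
import Cfsg.Agent.Lib.Char.Kernel

set_option autoImplicit false
open Cfsg

namespace Cfsg.Agent.S4566

open Cfsg.Agent.Char

/-- Let N be a central subgroup of the finite group G, ψ a faithful irreducible (hence degree-one) character of N, and χ an irreducible character of G whose restriction to N contains ψ. If g ∈ G and some x ∈ G has commutator x⁻¹ g⁻¹ x g in N but different from 1, then χ g = 0. -/
theorem result {G : Type*} [Group G] [Fintype G] (N : Subgroup G) [Fintype N] (hN : N ≤ Subgroup.center G) (ψ : Cfsg.IrrCharacter ↥N) (hfaith : ∀ n : ↥N, (ψ : ↥N → ℂ) n = (ψ : ↥N → ℂ) 1 → n = 1) (χ : Cfsg.IrrCharacter G) (hover : Cfsg.classInner (fun n : ↥N => (χ : G → ℂ) n) (ψ : ↥N → ℂ) ≠ 0) (g x : G) (hcomm : x⁻¹ * g⁻¹ * x * g ∈ N) (hne : x⁻¹ * g⁻¹ * x * g ≠ 1) : (χ : G → ℂ) g = 0 := by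
  classical
  haveI : N.Normal := ⟨fun n hn g => by rw [Subgroup.mem_center_iff.mp (hN hn) g, mul_inv_cancel_right]; exact hn⟩
  obtain ⟨c, hc, hcg⟩ := IsIrr.scalar_of_center χ.2 (hN hcomm)
  have hc1 : c ≠ 1 := by
    intro h
    refine hne (congrArg Subtype.val (hfaith ⟨_, hcomm⟩
      (constituent_ker (IsChar.res (IsIrr.isCharacter χ.2) N) ψ.2 hover (g := ⟨_, hcomm⟩) ?_)))
    have := hcg 1
    rw [h, one_mul, mul_one] at this
    simpa using this
  have h1 := hcg (x⁻¹ * g⁻¹ * x * g)⁻¹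
  rw [mul_inv_cancel] at h1
  -- the value is fixed and multiplied by the scalar
  have h2 := hcg (x⁻¹ * g * x)
  have e : x⁻¹ * g⁻¹ * x * g * (x⁻¹ * g * x) = x⁻¹ * g * x * (x⁻¹ * g⁻¹ * x * g) :=
    (Subgroup.mem_center_iff.mp (hN hcomm) _).symm
  rw [e, show x⁻¹ * g * x * (x⁻¹ * g⁻¹ * x * g) = g by group] at h2
  have h3 : (χ : G → ℂ) (x⁻¹ * g * x) = (χ : G → ℂ) g := by
    simpa using IsIrr.classFun χ.2 g x⁻¹
  rw [h3] at h2
  exact (mul_eq_zero.mp (show (c - 1) * (χ : G → ℂ) g = 0 by rw [sub_mul, one_mul, ← h2, sub_self])).resolve_left (sub_ne_zero.mpr hc1)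

end Cfsg.Agent.S4566
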