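import Cfsg.Statements.S4567
import Cfsg.Agent.Lib.Char.InvariantCover
import Cfsg.Agent.Lib.Char.Perm
import Cfsg.Agent.Lib.Block.NormalDefect

set_option autoImplicit false
open Cfsg

namespace Cfsg.Agent.S4567

/-- Let N be a central subgroup of the finite group G and ψ a faithful irreducible (hence degree-one) character of N. Call a coset g N special when every x ∈ G whose commutator x⁻¹ g⁻¹ x g lies in N actually commutes with g (this depends only on the coset). Then the number of irreducible characters of G whose restriction to N contains ψ equals the number of conjugacy classes of G/N consisting of special cosets. -/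
theorem result {G : Type*} [Group G] [Fintype G] (N : Subgroup G) [N.Normal] [Fintype N] (hN : N ≤ Subgroup.center G) (ψ : Cfsg.IrrCharacter ↥N) (hfaith : ∀ n : ↥N, (ψ : ↥N → ℂ) n = (ψ : ↥N → ℂ) 1 → n = 1) : Nat.card {χ : Cfsg.IrrCharacter G // Cfsg.classInner (fun n : ↥N => (χ : G → ℂ) n) (ψ : ↥N → ℂ) ≠ 0} = Nat.card {C : ConjClasses (G ⧸ N) // ∃ g : G, ConjClasses.mk (g : G ⧸ N) = C ∧ ∀ x : G, x⁻¹ * g⁻¹ * x * g ∈ N → x * g = g * x} := by
  classical
  open Cfsg.Agent.Char in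
  have hZ : ∀ n : ↥N, ∀ g : G, g * (n : G) = (n : G) * g := fun n g => Subgroup.mem_center_iff.1 (hN n.2) g
  obtain ⟨l, hl⟩ := Cfsg.Agent.Char.linearHom_of_isCharacter (Cfsg.Agent.Block.irr_isChar ψ) (by
    rw [Cfsg.Agent.Block.charDeg_spec' ψ, (Cfsg.Agent.Block.comm_iff_linear ↥N).1
      (fun a b => Subtype.ext (hZ b a)) ψ, Nat.cast_one])
  have hlinj : ∀ n : ↥N, l n = 1 → n = 1 := fun n h => hfaith n (by rw [hl]; simp [h])
  have hlconj : ∀ n : ↥N, (starRingEnd ℂ) (l n : ℂ) = ((l n⁻¹ : ℂˣ) : ℂ) := fun n => by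
    have h := Cfsg.Agent.Block.irr_apply_inv ψ n
    rw [hl] at h
    exact h.symm
  have hN0 : (Nat.card N : ℂ) ≠ 0 := Nat.cast_ne_zero.2 Nat.card_pos.ne'
  set O := Finset.univ.filter (fun χ : Cfsg.IrrCharacter G =>
    Cfsg.classInner (fun n : ↥N => (χ : G → ℂ) n) (ψ : ↥N → ℂ) ≠ 0) with hO
  have hT : ∀ (χ : Cfsg.IrrCharacter G) (g : G),
      ∑ n : ↥N, (starRingEnd ℂ) (l n : ℂ) * (χ : G → ℂ) ((n : G) * g) =
        if χ ∈ O then (Nat.card N : ℂ) * (χ : G → ℂ) g else 0 := by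
    intro χ g
    split_ifs with hχ
    · have hne := (Finset.mem_filter.1 hχ).2
      rw [hl] at hne
      have h1 : ∀ n : ↥N, (starRingEnd ℂ) (l n : ℂ) * (χ : G → ℂ) ((n : G) * g) = (χ : G → ℂ) g := fun n => by
        rw [Cfsg.Agent.Char.InvCover.central_scalar hN χ.2 l hne n g, hlconj, ← mul_assoc, ← Units.val_mul,
          ← map_mul, inv_mul_cancel, map_one, Units.val_one, one_mul]
      rw [Finset.sum_congr rfl fun n _ => h1 n, Finset.sum_const, Finset.card_univ,
        ← Nat.card_eq_fintype_card, nsmul_eq_mul]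
    · have hz : Cfsg.classInner (fun n : ↥N => (χ : G → ℂ) n) (ψ : ↥N → ℂ) = 0 := by
        by_contra h
        exact hχ (Finset.mem_filter.2 ⟨Finset.mem_univ _, h⟩)
      rw [hl, Cfsg.classInner, mul_eq_zero, or_iff_right (inv_ne_zero hN0)] at hz
      have h1 : ∀ n : ↥N, (starRingEnd ℂ) (l n : ℂ) * (χ : G → ℂ) ((n : G) * g) =
          ((χ : G → ℂ) g / (χ : G → ℂ) 1) * ((χ : G → ℂ) n * (starRingEnd ℂ) (l n : ℂ)) := fun n => by
        obtain ⟨c, -, hc⟩ := Cfsg.Agent.Char.IsIrr.scalar_of_center χ.2 (hN n.2)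
        have e1 := hc g
        have e2 := hc 1
        rw [mul_one] at e2
        rw [e1, e2]
        field_simp [Cfsg.Agent.Block.irr_one_ne_zero χ]
      rw [Finset.sum_congr rfl fun n _ => h1 n, ← Finset.mul_sum, hz, mul_zero]
  -- the column sums
  have hcol : ∀ g : G, ∑ χ ∈ O, (χ : G → ℂ) g * (starRingEnd ℂ) ((χ : G → ℂ) g) =
      (Nat.card (Subgroup.centralizer ({g} : Set G)) : ℂ) * ((Nat.card N : ℂ)⁻¹ *
        if (∀ x : G, x⁻¹ * g⁻¹ * x * g ∈ N → x * g = g * x) then 1 else 0) := by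
    intro g
    have h1 : (Nat.card N : ℂ) * ∑ χ ∈ O, (χ : G → ℂ) g * (starRingEnd ℂ) ((χ : G → ℂ) g) =
        ∑ n : ↥N, (starRingEnd ℂ) (l n : ℂ) * (if IsConj ((n : G) * g) g then
          (Nat.card (Subgroup.centralizer ({g} : Set G)) : ℂ) else 0) := by
      have e : ∀ n : ↥N, (if IsConj ((n : G) * g) g then
          (Nat.card (Subgroup.centralizer ({g} : Set G)) : ℂ) else 0) =
          ∑ χ : Cfsg.IrrCharacter G, (χ : G → ℂ) ((n : G) * g) * (starRingEnd ℂ) ((χ : G → ℂ) g) := fun n => by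
        rw [Cfsg.Agent.Char.sum_irr_mul_conj]
        split_ifs <;> rfl
      simp only [e, Finset.mul_sum]
      rw [Finset.sum_comm, ← Finset.sum_subset (Finset.subset_univ O) (fun χ _ hχ => by
        simp only [← mul_assoc, ← Finset.sum_mul]
        rw [hT, if_neg hχ, zero_mul])]
      refine Finset.sum_congr rfl fun χ hχ => ?_
      simp only [← mul_assoc, ← Finset.sum_mul]
      rw [hT, if_pos hχ]
    set K : Subgroup ↥N :=
      { carrier := {n | IsConj ((n : G) * g) g}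
        one_mem' := by
          show IsConj (((1 : ↥N) : G) * g) g
          rw [Subgroup.coe_one, one_mul]
        mul_mem' := fun {a b} ha hb => by
          obtain ⟨t, ht⟩ := isConj_iff.1 (show IsConj ((b : G) * g) g from hb)
          have h' : IsConj ((a : G) * ((b : G) * g)) ((a : G) * g) := isConj_iff.2 ⟨t, by
            calc t * ((a : G) * ((b : G) * g)) * t⁻¹ = (t * (a : G)) * ((b : G) * g) * t⁻¹ := by group
              _ = ((a : G) * t) * ((b : G) * g) * t⁻¹ := by rw [hZ a t]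
              _ = (a : G) * (t * ((b : G) * g) * t⁻¹) := by group
              _ = _ := by rw [ht]⟩
          show IsConj (((a * b : ↥N) : G) * g) g
          rw [Subgroup.coe_mul, mul_assoc]
          exact h'.trans ha
        inv_mem' := fun {a} ha => by
          obtain ⟨t, ht⟩ := isConj_iff.1 (show IsConj ((a : G) * g) g from ha)
          refine (isConj_iff.2 ⟨t, ?_⟩ : IsConj g (((a⁻¹ : ↥N) : G) * g)).symm
          have h2 : t * g * t⁻¹ = (a : G)⁻¹ * g := by
            rw [eq_inv_mul_iff_mul_eq]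
            calc (a : G) * (t * g * t⁻¹) = ((a : G) * t) * g * t⁻¹ := by group
              _ = (t * (a : G)) * g * t⁻¹ := by rw [hZ a t]
              _ = t * ((a : G) * g) * t⁻¹ := by group
              _ = g := ht
          simpa using h2 } with hK
    have hiff : (∀ x : G, x⁻¹ * g⁻¹ * x * g ∈ N → x * g = g * x) ↔ K = ⊥ := by
      constructor
      · intro h
        refine (Subgroup.eq_bot_iff_forall K).2 fun n hn => ?_
        obtain ⟨t, ht⟩ := isConj_iff.1 (show IsConj ((n : G) * g) g from hn)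
        have h1 : t * g = (n : G)⁻¹ * g * t := by
          rw [mul_assoc, eq_inv_mul_iff_mul_eq, ← mul_assoc]
          calc (n : G) * t * g = t * ((n : G) * g) := by rw [← hZ n t]; group
            _ = g * t := by rw [← mul_inv_eq_iff_eq_mul.1 ht]
        have h2 : t⁻¹ * g⁻¹ * t * g = ((n⁻¹ : ↥N) : G) := by
          calc t⁻¹ * g⁻¹ * t * g = t⁻¹ * (g⁻¹ * (t * g)) := by group
            _ = t⁻¹ * (g⁻¹ * ((n : G)⁻¹ * g * t)) := by rw [h1]
            _ = t⁻¹ * (g⁻¹ * (g * ((n⁻¹ : ↥N) : G) * t)) := by rw [hZ n⁻¹ g]; simp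
            _ = t⁻¹ * ((((n⁻¹ : ↥N) : G)) * t) := by group
            _ = _ := by rw [← hZ n⁻¹ t]; group
        have h3 := h t (h2 ▸ (n⁻¹).2)
        rw [h1] at h3
        refine inv_eq_one.1 (Subtype.ext ?_ : (n⁻¹ : ↥N) = 1)
        have h4 := mul_right_cancel h3
        simpa using h4
      · intro h x hx
        set n : ↥N := ⟨x⁻¹ * g⁻¹ * x * g, hx⟩ with hn
        have hmem : n⁻¹ ∈ K := by
          refine (isConj_iff.2 ⟨x⁻¹, ?_⟩ : IsConj g (((n⁻¹ : ↥N) : G) * g)).symm
          rw [← hZ n⁻¹ g]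
          show x⁻¹ * g * x⁻¹⁻¹ = g * (x⁻¹ * g⁻¹ * x * g)⁻¹
          group
        rw [h, Subgroup.mem_bot, inv_eq_one] at hmem
        have h1 : x⁻¹ * g⁻¹ * x * g = 1 := congrArg Subtype.val hmem
        calc x * g = g * x * (x⁻¹ * g⁻¹ * x * g) := by group
          _ = g * x := by rw [h1, mul_one]
    rw [if_congr hiff rfl rfl, ← mul_right_inj' hN0, h1]
    simp only [mul_ite, mul_zero, mul_one]
    rw [← Finset.sum_filter, ← Finset.sum_mul]
    split_ifs with hb
    · have hset : Finset.univ.filter (fun n : ↥N => IsConj ((n : G) * g) g) = {1} := by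
        ext n
        simp only [Finset.mem_filter, Finset.mem_univ, true_and, Finset.mem_singleton]
        refine ⟨fun h => (Subgroup.eq_bot_iff_forall K).1 hb n h, fun h => ?_⟩
        rw [h, Subgroup.coe_one, one_mul]
      rw [hset, Finset.sum_singleton]
      rw [map_one, Units.val_one, map_one, mul_comm (Nat.card (Subgroup.centralizer ({g} : Set G)) : ℂ),
        mul_inv_cancel_left₀ hN0, one_mul]
    · obtain ⟨m, hm, hm1⟩ : ∃ m ∈ K, m ≠ 1 := by
        by_contra hno
        push Not at hno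
        exact hb ((Subgroup.eq_bot_iff_forall K).2 hno)
      set F := Finset.univ.filter (fun n : ↥N => IsConj ((n : G) * g) g) with hF
      have hsum : ∑ n ∈ F, (starRingEnd ℂ) (l n : ℂ) = 0 := by
        have h2 : (starRingEnd ℂ) (l m : ℂ) * ∑ n ∈ F, (starRingEnd ℂ) (l n : ℂ) =
            ∑ n ∈ F, (starRingEnd ℂ) (l n : ℂ) := by
          rw [Finset.mul_sum]
          refine Finset.sum_equiv (Equiv.mulLeft m) (fun n => ?_) (fun n _ => ?_)
          · simp only [hF, Finset.mem_filter, Finset.mem_univ, true_and, Equiv.coe_mulLeft]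
            exact ⟨fun h => K.mul_mem hm h, fun h => by
              have := K.mul_mem (K.inv_mem hm) (show m * n ∈ K from h)
              rwa [inv_mul_cancel_left] at this⟩
          · simp only [Equiv.coe_mulLeft, map_mul, Units.val_mul]
        by_contra hne
        have h3 := mul_left_eq_self₀.1 h2
        rcases h3 with h3 | h3
        · rw [hlconj] at h3
          exact hm1 (inv_eq_one.1 (hlinj _ (Units.ext (h3.trans Units.val_one.symm))))
        · exact hne h3
      rw [hsum, zero_mul]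
  -- counting
  have hnorm : ∀ χ : Cfsg.IrrCharacter G,
      ∑ g : G, (χ : G → ℂ) g * (starRingEnd ℂ) ((χ : G → ℂ) g) = (Nat.card G : ℂ) := fun χ => by
    have h := Cfsg.Agent.Char.classInner_self_irr χ.2
    rwa [Cfsg.classInner, inv_mul_eq_iff_eq_mul₀ (Nat.cast_ne_zero.2 Nat.card_pos.ne'), mul_one] at h
  have hlhs : (Nat.card G : ℂ) * (O.card : ℂ) = ∑ g : G,
      (Nat.card (Subgroup.centralizer ({g} : Set G)) : ℂ) * ((Nat.card N : ℂ)⁻¹ *
        if (∀ x : G, x⁻¹ * g⁻¹ * x * g ∈ N → x * g = g * x) then 1 else 0) := by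
    rw [← Finset.sum_congr rfl fun g _ => hcol g, Finset.sum_comm, Finset.sum_congr rfl fun χ _ => hnorm χ,
      Finset.sum_const, nsmul_eq_mul, mul_comm]
  letI := Fintype.ofFinite (G ⧸ N)
  let P : ConjClasses (G ⧸ N) → Prop := fun C =>
    ∃ g : G, ConjClasses.mk (g : G ⧸ N) = C ∧ ∀ x : G, x⁻¹ * g⁻¹ * x * g ∈ N → x * g = g * x
  have hinvr : ∀ (g : G) (n : ↥N), (∀ x : G, x⁻¹ * g⁻¹ * x * g ∈ N → x * g = g * x) →
      ∀ x : G, x⁻¹ * (g * n)⁻¹ * x * (g * n) ∈ N → x * (g * n) = g * n * x := by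
    intro g n h x hx
    have e : x⁻¹ * (g * n)⁻¹ * x * (g * n) = x⁻¹ * g⁻¹ * x * g := by
      calc x⁻¹ * (g * n)⁻¹ * x * (g * n) = x⁻¹ * ((n : G)⁻¹ * g⁻¹) * x * (g * n) := by group
        _ = x⁻¹ * (g⁻¹ * (n : G)⁻¹) * x * (g * n) := by rw [show (n : G)⁻¹ * g⁻¹ = g⁻¹ * (n : G)⁻¹ from (by simpa using (hZ n⁻¹ g⁻¹).symm)]
        _ = x⁻¹ * g⁻¹ * ((n : G)⁻¹ * x) * (g * n) := by group
        _ = x⁻¹ * g⁻¹ * (x * (n : G)⁻¹) * (g * n) := by rw [show (n : G)⁻¹ * x = x * (n : G)⁻¹ from (by simpa using (hZ n⁻¹ x).symm)]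
        _ = x⁻¹ * g⁻¹ * x * ((n : G)⁻¹ * g * n) := by group
        _ = x⁻¹ * g⁻¹ * x * g := by rw [mul_assoc ((n : G)⁻¹), hZ n g]; group
    rw [e] at hx
    calc x * (g * n) = (x * g) * n := by group
      _ = (g * x) * n := by rw [h x hx]
      _ = g * (x * n) := by group
      _ = g * (n * x) := by rw [hZ n x]
      _ = _ := by group
  have hPmk : ∀ g : G, P (ConjClasses.mk (g : G ⧸ N)) ↔
      ∀ x : G, x⁻¹ * g⁻¹ * x * g ∈ N → x * g = g * x := by
    refine fun g => ⟨?_, fun h => ⟨g, rfl, h⟩⟩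
    rintro ⟨h, hh, hs⟩
    obtain ⟨t, ht⟩ := isConj_iff.1 (ConjClasses.mk_eq_mk_iff_isConj.1 hh)
    obtain ⟨t, rfl⟩ := QuotientGroup.mk_surjective t
    rw [← QuotientGroup.mk_inv, ← QuotientGroup.mk_mul, ← QuotientGroup.mk_mul, QuotientGroup.eq] at ht
    have hg : g = t * h * t⁻¹ * ((⟨_, ht⟩ : ↥N) : G) := (mul_inv_cancel_left _ _).symm
    rw [hg]
    refine hinvr _ _ fun x hx => ?_
    have e : (t⁻¹ * x * t)⁻¹ * h⁻¹ * (t⁻¹ * x * t) * h ∈ N := by
      have h2 : (t⁻¹ * x * t)⁻¹ * h⁻¹ * (t⁻¹ * x * t) * h =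
          t⁻¹ * (x⁻¹ * (t * h * t⁻¹)⁻¹ * x * (t * h * t⁻¹)) * t := by group
      rw [h2]
      simpa using (inferInstance : N.Normal).conj_mem _ hx t⁻¹
    have h3 := hs _ e
    calc x * (t * h * t⁻¹) = t * ((t⁻¹ * x * t) * h) * t⁻¹ := by group
      _ = t * (h * (t⁻¹ * x * t)) * t⁻¹ := by rw [h3]
      _ = _ := by group
  have hrhs : (Nat.card N : ℂ) * ((Nat.card (G ⧸ N) : ℂ) * (Nat.card {C : ConjClasses (G ⧸ N) // P C} : ℂ)) =
      ∑ g : G, (Nat.card (Subgroup.centralizer ({g} : Set G)) : ℂ) * ((Nat.card N : ℂ)⁻¹ *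
        if (∀ x : G, x⁻¹ * g⁻¹ * x * g ∈ N → x * g = g * x) then 1 else 0) := by
    rw [← Cfsg.Agent.Char.sum_centralizer_card P, Finset.mul_sum,
      ← Finset.sum_fiberwise (Finset.univ : Finset G) (fun g : G => (g : G ⧸ N))]
    refine Finset.sum_congr rfl fun y _ => ?_
    obtain ⟨g₀, rfl⟩ := QuotientGroup.mk_surjective y
    have hfib : ∀ g ∈ Finset.univ.filter (fun g : G => (g : G ⧸ N) = (g₀ : G ⧸ N)),
        (Nat.card (Subgroup.centralizer ({g} : Set G)) : ℂ) * ((Nat.card N : ℂ)⁻¹ *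
          if (∀ x : G, x⁻¹ * g⁻¹ * x * g ∈ N → x * g = g * x) then 1 else 0) =
        if P (ConjClasses.mk (g₀ : G ⧸ N)) then
          (Nat.card (Subgroup.centralizer ({(g₀ : G ⧸ N)} : Set (G ⧸ N))) : ℂ) else 0 := by
      intro g hg
      have hgg : (g : G ⧸ N) = (g₀ : G ⧸ N) := (Finset.mem_filter.1 hg).2
      rw [← hgg]
      by_cases hs : ∀ x : G, x⁻¹ * g⁻¹ * x * g ∈ N → x * g = g * x
      · rw [if_pos hs, if_pos ((hPmk g).2 hs), mul_one]
        set C' := Subgroup.centralizer ({(g : G ⧸ N)} : Set (G ⧸ N)) with hC'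
        have hcm : C'.comap (QuotientGroup.mk' N) = Subgroup.centralizer ({g} : Set G) := by
          ext x
          simp only [Subgroup.mem_comap, QuotientGroup.mk'_apply, hC',
            Subgroup.mem_centralizer_singleton_iff, ← QuotientGroup.mk_mul]
          refine ⟨fun h => hs x ?_, fun h => by rw [h]⟩
          rw [eq_comm, QuotientGroup.eq] at h
          simpa [mul_assoc] using h
        have hc : Nat.card (C'.comap (QuotientGroup.mk' N)) = Nat.card N * Nat.card C' := by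
          rw [← Nat.card_prod]
          exact Nat.card_congr (QuotientGroup.preimageMkEquivSubgroupProdSet N (C' : Set (G ⧸ N)))
        rw [← hcm, hc, Nat.cast_mul, mul_right_comm, mul_inv_cancel₀ hN0, one_mul]
      · rw [if_neg hs, if_neg fun h => hs ((hPmk g).1 h), mul_zero, mul_zero]
    rw [Finset.sum_congr rfl hfib, Finset.sum_const, nsmul_eq_mul]
    congr 2
    rw [← Fintype.card_subtype, ← Nat.card_eq_fintype_card]
    exact (Nat.card_congr ((QuotientGroup.preimageMkEquivSubgroupProdSet N {(g₀ : G ⧸ N)}).trans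
      (Equiv.prodUnique _ _))).symm
  have hcardO : Nat.card {χ : Cfsg.IrrCharacter G //
      Cfsg.classInner (fun n : ↥N => (χ : G → ℂ) n) (ψ : ↥N → ℂ) ≠ 0} = O.card := by
    rw [Nat.card_eq_fintype_card, Fintype.card_subtype]
  rw [hcardO]
  have hG : (Nat.card G : ℂ) = (Nat.card N : ℂ) * (Nat.card (G ⧸ N) : ℂ) := by
    rw [← Nat.cast_mul, mul_comm, ← Subgroup.card_eq_card_quotient_mul_card_subgroup]
  have := hlhs.trans hrhs.symm
  rw [hG, mul_assoc] at this
  exact_mod_cast mul_left_cancel₀ (Nat.cast_ne_zero.2 Nat.card_pos.ne') (mul_left_cancel₀ hN0 this)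

end Cfsg.Agent.S4567
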