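import Cfsg.Statements.S4574
import Cfsg.Agent.Lib.Char.NormAverage

set_option autoImplicit false
open Cfsg

namespace Cfsg.Agent.S4574

/-- Let χ be an irreducible character of the finite group G, of degree d, and let Z(χ) be the set of elements g with |χ g| = d (the centre of χ). Then χ vanishes on at least (d ^ 2 - 1) · |Z(χ)| elements of G, with equality when every value |χ g| is 0, 1 or d. -/
theorem result {G : Type*} [Group G] [Fintype G] [DecidableEq G] (χ : G → ℂ) (hχ : Cfsg.IsIrrCharacter G χ) : (Cfsg.charDegree χ ^ 2 - 1) * (Finset.univ.filter (fun g : G => ‖χ g‖ = (Cfsg.charDegree χ : ℝ))).card ≤ (Finset.univ.filter (fun g : G => χ g = 0)).card ∧ ((∀ g : G, ‖χ g‖ = 0 ∨ ‖χ g‖ = 1 ∨ ‖χ g‖ = (Cfsg.charDegree χ : ℝ)) → (Cfsg.charDegree χ ^ 2 - 1) * (Finset.univ.filter (fun g : G => ‖χ g‖ = (Cfsg.charDegree χ : ℝ))).card = (Finset.univ.filter (fun g : G => χ g = 0)).card) := by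
  obtain ⟨n, ρ, hirr, rfl⟩ := hχ
  have hχ' : Cfsg.IsIrrCharacter G ρ.character := ⟨n, ρ, hirr, rfl⟩
  set d := Cfsg.charDegree ρ.character with hd
  have hd1 : ρ.character 1 = (d : ℂ) := Cfsg.Agent.Block.charDeg_spec' (⟨ρ.character, hχ'⟩ : Cfsg.IrrCharacter G)
  have hd0 : 0 < d := Cfsg.Agent.Block.charDeg_pos (⟨ρ.character, hχ'⟩ : Cfsg.IrrCharacter G)
  have hfin : (Module.finrank ℂ (Fin n → ℂ) : ℂ) = (d : ℂ) := by
    rw [← hd1, Representation.char_one]
  have hfin' : Module.finrank ℂ (Fin n → ℂ) = d := by exact_mod_cast hfin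
  set Z := Finset.univ.filter (fun g : G => ‖ρ.character g‖ = (d : ℝ)) with hZ
  set N := Finset.univ.filter (fun g : G => ρ.character g = 0) with hN
  set R := Finset.univ.filter (fun g : G => ρ.character g ≠ 0 ∧ ‖ρ.character g‖ ≠ (d : ℝ)) with hR
  have hscal : ∀ g : G, ‖ρ.character g‖ = (d : ℝ) ↔ ∃ ω : ℂ, ρ g = ω • LinearMap.id := fun g => by
    rw [← hfin']; exact Cfsg.Agent.Char.norm_character_eq_iff ρ g
  have hclosed : ∀ g : G, ∀ k : ℕ, k.Coprime (Nat.card G) → (g ^ k ∈ R ↔ g ∈ R) := by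
    intro g k hk
    obtain ⟨σ, hσ⟩ := Cfsg.Agent.Char.exists_galois (G := G) k hk
    have h1 : ρ.character (g ^ k) = 0 ↔ ρ.character g = 0 := by
      rw [← hσ _ ⟨n, ρ, rfl⟩ g, map_eq_zero]
    have h2 : ‖ρ.character (g ^ k)‖ = (d : ℝ) ↔ ‖ρ.character g‖ = (d : ℝ) := by
      rw [hscal, hscal]
      constructor
      · rintro ⟨ω, hω⟩
        obtain ⟨m, hm⟩ := exists_pow_eq_self_of_coprime
          (hk.coprime_dvd_right (orderOf_dvd_natCard g))
        exact ⟨ω ^ m, by rw [← hm, map_pow, hω, smul_pow, ← Module.End.one_eq_id, one_pow]⟩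
      · rintro ⟨ω, hω⟩
        exact ⟨ω ^ k, by rw [map_pow, hω, smul_pow, ← Module.End.one_eq_id, one_pow]⟩
    simp only [hR, Finset.mem_filter, Finset.mem_univ, true_and, ne_eq, h1, h2]
  have hcast : (d : ℝ) ≠ 0 := Nat.cast_ne_zero.2 hd0.ne'
  have hsum : ∑ g : G, Complex.normSq (ρ.character g) = (Nat.card G : ℝ) := by
    have h := Cfsg.Agent.Char.classInner_self_irr hχ'
    rw [Cfsg.classInner, inv_mul_eq_iff_eq_mul₀ (Nat.cast_ne_zero.2 Nat.card_pos.ne'), mul_one] at h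
    simp only [Complex.mul_conj] at h
    exact_mod_cast h
  have h3 : ∀ f : G → ℝ, ∑ g, f g = ∑ g ∈ Z, f g + ∑ g ∈ N, f g + ∑ g ∈ R, f g := by
    intro f
    simp only [hZ, hN, hR, Finset.sum_filter, ← Finset.sum_add_distrib]
    refine Finset.sum_congr rfl fun g _ => ?_
    by_cases hz : ρ.character g = 0
    · simp [hz, hcast, hcast.symm]
    · by_cases hm : ‖ρ.character g‖ = (d : ℝ) <;> simp [hz, hm]
  have hc := h3 (fun _ => (1 : ℝ))
  simp only [Finset.sum_const, nsmul_eq_mul, mul_one, Finset.card_univ] at hc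
  have hq := h3 (fun g => Complex.normSq (ρ.character g))
  rw [hsum, Finset.sum_eq_card_nsmul (s := Z) (b := (d : ℝ) ^ 2) (fun g hg => by
      rw [Complex.normSq_eq_norm_sq, (Finset.mem_filter.1 hg).2]),
    Finset.sum_eq_zero (s := N) (fun g hg => by rw [(Finset.mem_filter.1 hg).2, map_zero]),
    nsmul_eq_mul, add_zero, Nat.card_eq_fintype_card] at hq
  have hR' := Cfsg.Agent.Char.NormAvg.card_le_sum (χ := ρ.character) ⟨n, ρ, rfl⟩ R hclosed
    (fun g hg => (Finset.mem_filter.1 hg).2.1)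
  have hd2 : 1 ≤ d ^ 2 := Nat.one_le_pow _ _ hd0
  refine ⟨?_, fun hall => ?_⟩
  · have : (((d ^ 2 - 1) * Z.card : ℕ) : ℝ) ≤ ((N.card : ℕ) : ℝ) := by
      push_cast [Nat.cast_sub hd2]
      nlinarith
    exact_mod_cast this
  · rw [Finset.sum_eq_card_nsmul (s := R) (b := (1 : ℝ)) (fun g hg => by
      obtain ⟨-, h0, hm⟩ := Finset.mem_filter.1 hg
      rcases hall g with h | h | h
      · exact absurd (norm_eq_zero.1 h) h0
      · rw [Complex.normSq_eq_norm_sq, h, one_pow]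
      · exact absurd h hm), nsmul_eq_mul, mul_one] at hq
    have : (((d ^ 2 - 1) * Z.card : ℕ) : ℝ) = ((N.card : ℕ) : ℝ) := by
      push_cast [Nat.cast_sub hd2]
      linarith
    exact_mod_cast this

end Cfsg.Agent.S4574
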