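import Cfsg.Statements.S4575
import Cfsg.Agent.Lib.Char.MajorBound

set_option autoImplicit false
open Cfsg

namespace Cfsg.Agent.S4575

/-- Let B be a 2-block of the finite group G (relative to a maximal ideal M of the algebraic integers containing 2) of defect d with defect group D. Let z be an element of D commuting with every element of D, and let b be a block of the centralizer of z with defect group D that induces B (a major subsection (z, b)). If the number of irreducible characters in B exceeds the 2-regular rank of b by at most three, then B contains at most 2 ^ d irreducible characters. -/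
theorem result {G : Type*} [Group G] [Finite G] (M : Ideal Cfsg.AlgInt) (hM : Cfsg.IsPModular 2 M) (B : Set (Cfsg.IrrCharacter G)) (hB : Cfsg.IsPBlock M B) (D : Subgroup G) (hD : Cfsg.IsDefectGroup 2 M B D) (z : G) (hzD : z ∈ D) (hzc : ∀ d ∈ D, d * z = z * d) (b : Set (Cfsg.IrrCharacter ↥(Subgroup.centralizer ({z} : Set G)))) (hb : Cfsg.IsInducedBlock M (Subgroup.centralizer ({z} : Set G)) b B) (hbD : Cfsg.IsDefectGroup 2 M b (D.subgroupOf (Subgroup.centralizer ({z} : Set G)))) (h : Nat.card B ≤ Cfsg.blockRank 2 b + 3) : Nat.card B ≤ 2 ^ Cfsg.blockDefect 2 B := by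
  classical
  haveI := Fintype.ofFinite G
  haveI : Fact (Nat.Prime 2) := ⟨Nat.prime_two⟩
  have hDH : D ≤ Subgroup.centralizer ({z} : Set G) := fun d hd =>
    Subgroup.mem_centralizer_singleton_iff.2 (hzc d hd)
  set A : Finset (Cfsg.IrrCharacter G) := Finset.univ.filter (· ∈ B) with hA
  have hkA : Nat.card B = A.card := by
    rw [Nat.card_eq_fintype_card]
    exact Fintype.card_of_subtype A (fun η => by simp [hA])
  by_cases hd0 : Cfsg.blockDefect 2 B = 0
  · have h1 := Cfsg.Agent.Char.Contrib.card_le_bound hM hB
    rw [hd0] at h1 ⊢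
    norm_num at h1 ⊢
    omega
  have key := Cfsg.Agent.Char.Spec.major_bound_induced hM hD hzD
    (Cfsg.Agent.Char.Spec.cg_zpowers z).symm hb hDH hbD (Or.inr ⟨h, hd0⟩)
  have hk' : 3 * A.card ≤ 3 * 2 ^ Cfsg.blockDefect 2 B := le_trans (by convert key.1) key.2
  rw [hkA]
  omega

end Cfsg.Agent.S4575
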