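import Cfsg.Statements.S4580
import Cfsg.Agent.Lib.Char.RealBlock

set_option autoImplicit false
open Cfsg

namespace Cfsg.Agent.S4580

/-- Let N be a normal subgroup of the finite group G, M a maximal ideal of the algebraic integers containing 2, and θ a real-valued irreducible character of N of odd degree that extends to G (some irreducible character of G restricts to θ). Then θ has an extension to G lying in the principal 2-block of G. -/
theorem result {G : Type*} [Group G] [Finite G] (N : Subgroup G) [N.Normal] (M : Ideal Cfsg.AlgInt) (hM : Cfsg.IsPModular 2 M) (θ : Cfsg.IrrCharacter N) (hreal : ∀ n : N, ((θ : N → ℂ) n).im = 0) (hodd : Odd (Cfsg.charDegree (θ : N → ℂ))) (hext : ∃ η : Cfsg.IrrCharacter G, ∀ n : N, (η : G → ℂ) n = (θ : N → ℂ) n) :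
    ∃ η : Cfsg.IrrCharacter G, (∀ n : N, (η : G → ℂ) n = (θ : N → ℂ) n) ∧ η ∈ Cfsg.principalBlock M G := by
  classical
  haveI := Fintype.ofFinite G
  haveI := Fintype.ofFinite N
  obtain ⟨η, hη⟩ := hext
  have hθη : (fun n : N => (η : G → ℂ) n) = (θ : N → ℂ) := funext hη
  have hcN : (fun n : N => (Cfsg.Agent.Char.RealBlock.invIrr η : G → ℂ) n) = (θ : N → ℂ) := by
    funext n
    show (η : G → ℂ) (n : G)⁻¹ = _
    rw [Cfsg.Agent.Block.irr_apply_inv, hη, Complex.conj_eq_iff_im.mpr (hreal n)]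
  obtain ⟨hL, hLmul⟩ := Cfsg.Agent.Char.gallagher N η.2
    (Cfsg.Agent.Char.RealBlock.invIrr η).2 (hθη.symm ▸ θ.2) (by
      rw [hcN, hθη, Cfsg.Agent.Char.classInner_irr_eq_ite θ.2 θ.2, if_pos rfl]
      exact one_ne_zero)
  set L := Cfsg.Agent.Char.avgN N ((Cfsg.Agent.Char.RealBlock.invIrr η : G → ℂ) *
    fun g => starRingEnd ℂ ((η : G → ℂ) g)) with hLdef
  have hη1 := Cfsg.Agent.Block.irr_one_ne_zero η
  have hL1 : L 1 = 1 := by
    have h := congrFun hLmul 1
    simp only [Pi.mul_apply, Cfsg.Agent.Char.RealBlock.invIrr, inv_one] at h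
    exact mul_left_cancel₀ hη1 (h.trans (mul_one _).symm)
  obtain ⟨l, hl⟩ := Cfsg.Agent.Char.linearHom_of_isCharacter (Cfsg.Agent.Char.IsIrr.isCharacter hL) hL1
  have hlN : ∀ n : N, l (n : G) = 1 := fun n => by
    apply Units.ext
    rw [← congrFun hl (n : G), Units.val_one, ← hL1, ← mul_one (n : G)]
    exact Cfsg.Agent.Char.avgN_mul_left N _ n 1
  have hpow : l ^ Nat.card G = 1 := MonoidHom.ext fun g => by
    rw [MonoidHom.pow_apply, ← map_pow, pow_card_eq_one', map_one, MonoidHom.one_apply]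
  obtain ⟨a, m, hm, hcard⟩ := Nat.exists_eq_two_pow_mul_odd (Nat.card_pos (α := G)).ne'
  obtain ⟨j, hj⟩ := hm
  let μ : G →* ℂˣ := l ^ (j + 1)
  let η' : IrrCharacter G :=
    ⟨fun g => (η : G → ℂ) g * (μ g : ℂ), by simpa [mul_comm] using Cfsg.Agent.Char.IsIrr.mul_linear η.2 μ⟩
  have hres : ∀ n : N, (η' : G → ℂ) n = (θ : N → ℂ) n := fun n => by
    show (η : G → ℂ) n * (μ (n : G) : ℂ) = _
    simp [μ, hlN, hη]
  have hodd' : Odd (charDegree (η' : G → ℂ)) := by
    have := hres 1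
    rw [Subgroup.coe_one] at this
    simp only [charDegree, this]
    exact hodd
  refine ⟨η', hres, Cfsg.Agent.Char.RealBlock.principal_of_odd_real hM hodd' fun g => ?_⟩
  have hν : ((l g : ℂ) ^ m) ^ 2 ^ a = 1 := by
    rw [← pow_mul, mul_comm, ← hcard, ← Units.val_pow_eq_pow_val, ← MonoidHom.pow_apply, hpow,
      MonoidHom.one_apply, Units.val_one]
  have hg0 : (l g : ℂ) ≠ 0 := (l g).ne_zero
  have hinv : (η' : G → ℂ) g⁻¹ = (η' : G → ℂ) g * ((l g : ℂ) ^ m)⁻¹ := by
    show (η : G → ℂ) g⁻¹ * (μ g⁻¹ : ℂ) = (η : G → ℂ) g * (μ g : ℂ) * _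
    have h := congrFun hLmul g
    simp only [Pi.mul_apply, Cfsg.Agent.Char.RealBlock.invIrr] at h
    rw [← h, hl, map_inv, Units.val_inv_eq_inv_val]
    simp only [μ, MonoidHom.pow_apply, Units.val_pow_eq_pow_val, hj]
    field_simp
    ring
  rw [Cfsg.Agent.Char.RealBlock.centralChar_invIrr]
  have e : centralChar (η' : G → ℂ) g⁻¹ = centralChar (η' : G → ℂ) g * ((l g : ℂ) ^ m)⁻¹ := by
    simp only [centralChar, Cfsg.Agent.Block.centralizer_inv, hinv]
    ring
  rw [e, show centralChar (η' : G → ℂ) g - centralChar (η' : G → ℂ) g * ((l g : ℂ) ^ m)⁻¹ =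
    centralChar (η' : G → ℂ) g * (1 - ((l g : ℂ) ^ m)⁻¹) by ring]
  exact Cfsg.Agent.Block.ideal_mul_left hM (Cfsg.Agent.Block.centralChar_ring hM η' g)
    (Cfsg.Agent.Block.ideal_sub_comm (Cfsg.Agent.Block.ideal_root_sub_one hM (k := a)
      (by rw [inv_pow, hν, inv_one])))

end Cfsg.Agent.S4580
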