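import Cfsg.Statements.S4581
import Cfsg.Agent.Lib.Char.RealOddCount

set_option autoImplicit false
open Cfsg

namespace Cfsg.Agent.S4581

/-- Let G be a finite solvable group, P a Sylow 2-subgroup and N its normalizer. Then G and N have the same number of real-valued irreducible characters of odd degree; and every odd-degree irreducible character of G is real-valued exactly when the derived subgroup of P equals the Frattini subgroup of P and P is its own normalizer in G. -/
theorem result {G : Type*} [Group G] [Finite G] [Group.IsSolvable G] (P : Sylow 2 G) :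
    Nat.card {χ : Cfsg.IrrCharacter G // (∀ g : G, ((χ : G → ℂ) g).im = 0) ∧ Odd (Cfsg.charDegree (χ : G → ℂ))} =
      Nat.card {ψ : Cfsg.IrrCharacter (Subgroup.normalizer ((P : Subgroup G) : Set G)) // (∀ g, ((ψ : Subgroup.normalizer ((P : Subgroup G) : Set G) → ℂ) g).im = 0) ∧ Odd (Cfsg.charDegree (ψ : Subgroup.normalizer ((P : Subgroup G) : Set G) → ℂ))} ∧
    ((∀ χ : Cfsg.IrrCharacter G, Odd (Cfsg.charDegree (χ : G → ℂ)) → ∀ g : G, ((χ : G → ℂ) g).im = 0) ↔
      (commutator (P : Subgroup G) = frattini (P : Subgroup G) ∧ Subgroup.normalizer ((P : Subgroup G) : Set G) = (P : Subgroup G))) := by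
  have hS : Cfsg.Agent.Char.RealOdd.IsSyl (P : Subgroup G) := ⟨P, rfl⟩
  have hG := Cfsg.Agent.Char.RealOdd.main_solvable _ G rfl inferInstance
  have hN := Cfsg.Agent.Char.RealOdd.main_solvable _
    (Subgroup.normalizer ((P : Subgroup G) : Set G)) rfl inferInstance
  refine ⟨?_, ?_, ?_⟩
  · rw [Cfsg.Agent.Char.RealOdd.card_subtype_ro, Cfsg.Agent.Char.RealOdd.card_subtype_ro]
    exact Cfsg.Agent.Char.RealOdd.card_ro_eq Subgroup.le_normalizer hG hN hS rfl
  · intro h
    have hall : Cfsg.Agent.Char.RealOdd.AllReal G := by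
      rintro χ hχ ⟨d, hd, h1⟩ g
      exact Complex.conj_eq_iff_im.2 (h ⟨χ, hχ⟩ (by
        show Odd (Cfsg.charDegree χ)
        rw [Cfsg.charDegree, h1, Complex.natCast_re, Nat.floor_natCast]
        exact hd) g)
    refine ⟨Cfsg.Agent.Char.RealOdd.commutator_eq_frattini_of_sq hS.isPGroup ?_,
      le_antisymm (Cfsg.Agent.Char.RealOdd.normalizer_le _ G rfl inferInstance hall _ hS)
        Subgroup.le_normalizer⟩
    intro e x
    by_contra hx
    obtain ⟨χ, hχ, hd, -, g, hg⟩ :=
      Cfsg.Agent.Char.RealOdd.exists_nonreal _ G rfl inferInstance _ hS e ⟨x, hx⟩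
    exact hg (hall χ hχ hd g)
  · rintro ⟨hc, hn⟩ χ hd g
    refine Complex.conj_eq_iff_im.1 (Cfsg.Agent.Char.RealOdd.allReal_of_sylow _ G rfl inferInstance
      _ hS (Cfsg.Agent.Char.RealOdd.sq_of_commutator_eq hS.isPGroup hc) hn.le _ χ.2 ⟨_, hd,
        Cfsg.Agent.Char.IsChar.degree_spec (Cfsg.Agent.Char.IsIrr.isCharacter χ.2)⟩ g)

end Cfsg.Agent.S4581
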