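import Cfsg.Statements.S4582
import Cfsg.Agent.Lib.Char.ExtendMain
import Cfsg.Agent.Lib.Char.PSolvableIto
import Cfsg.Agent.Lib.Grp.Subnormal
import Cfsg.Agent.Lib.Char.Clifford
import Cfsg.Agent.Lib.Char.Integral

set_option autoImplicit false
open Cfsg

namespace Cfsg.Agent.S4582
open Cfsg.Agent.Char Cfsg.Agent.Char.Ext
open scoped ComplexConjugate Pointwise

universe u

theorem detChar_conj {G : Type u} [Group G] [Finite G] {χ : G → ℂ} (h : IsIrrCharacter G χ) (g : G) :
    detChar (fun x => conj (χ x)) g = conj (detChar χ g) := by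
  obtain ⟨n, ρ, hρ, rfl, -, hdet⟩ := IsIrr.exists_rep h
  have e : ρ.dual.character = fun x => conj (ρ.character x) := funext fun x => by
    rw [Representation.char_dual, ← IsChar.apply_inv (isCharacter_character ρ)]
  haveI : ρ.dual.IsIrreducible := irreducible_of_character _ (e.symm ▸ IsIrr.conj h)
  rw [← e, detChar_eq ρ.dual g]
  obtain ⟨l, hl⟩ := isCharacter_detChar h
  rw [congrFun hl g]
  show LinearMap.det (LinearMap.dualMap (ρ g⁻¹)) = _
  rw [LinearMap.det_dualMap, ← detChar_eq ρ g⁻¹, congrFun hl g⁻¹, map_inv, Units.val_inv_eq_inv_val,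
    Complex.inv_eq_conj]
  exact norm_eq_one_of_pow_eq_one' (c := (l g : ℂ)) Nat.card_pos
    (by rw [← Units.val_pow_eq_pow_val, ← map_pow, pow_card_eq_one', map_one, Units.val_one])

theorem odd_fixed {α : Type*} [DecidableEq α] (s : Finset α) (f : α → α) (hf : ∀ a ∈ s, f a ∈ s)
    (hff : ∀ a ∈ s, f (f a) = a) (hs : Odd s.card) : Odd (s.filter fun a => f a = a).card := by
  have h1 : ∑ _a ∈ s.filter (fun a => ¬ f a = a), (1 : ZMod 2) = 0 := by
    refine Finset.sum_involution (fun a _ => f a) (fun _ _ => by decide)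
      (fun a ha _ => (Finset.mem_filter.1 ha).2) (fun a ha => ?_)
      (fun a ha => hff a (Finset.mem_filter.1 ha).1)
    obtain ⟨ha1, ha2⟩ := Finset.mem_filter.1 ha
    exact Finset.mem_filter.2 ⟨hf a ha1, fun e => ha2 (by rw [hff a ha1] at e; exact e.symm)⟩
  rw [Finset.sum_const, nsmul_one, ZMod.natCast_eq_zero_iff] at h1
  rw [← Finset.card_filter_add_card_filter_not (p := fun a => f a = a)] at hs
  rcases hs with ⟨k, hk⟩
  obtain ⟨j, hj⟩ := h1
  exact ⟨k - j, by omega⟩

theorem exists_odd_fix {α : Type u} [Fintype α] [DecidableEq α] (w : α → ℕ) (f : α → α)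
    (hff : ∀ a, f (f a) = a) (hw : ∀ a, w (f a) = w a) (hodd : Odd (∑ a, w a)) :
    Odd (Finset.univ.filter fun a => Odd (w a) ∧ f a = a).card := by
  classical
  have h1 : Odd (Finset.univ.filter fun a => Odd (w a)).card := (Finset.odd_sum_iff_odd_card_odd w).1 hodd
  have h2 := odd_fixed _ f (fun a ha => Finset.mem_filter.2 ⟨Finset.mem_univ _, by
    rw [hw]; exact (Finset.mem_filter.1 ha).2⟩) (fun a _ => hff a) h1
  rwa [Finset.filter_filter] at h2

theorem core {G : Type u} [Group G] [Finite G] (N : Subgroup G) [N.Normal] (P : Sylow 2 G)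
    (htop : (P : Subgroup G) ⊔ N = ⊤) (hodd : Odd (Nat.card (Abelianization N)))
    (lam : (P : Subgroup G) →* ℂˣ) (hlam : ∀ q : (P : Subgroup G), (q : G) ∈ N → lam q ^ 2 = 1) :
    ∃ ρ : (P : Subgroup G) →* ℂˣ, (∀ q, ρ q ^ 2 = 1) ∧
      ∀ q : (P : Subgroup G), (q : G) ∈ N → ρ q = lam q := by
  classical
  haveI : Fact (Nat.Prime 2) := ⟨Nat.prime_two⟩
  letI := Fintype.ofFinite G
  letI := Fintype.ofFinite N
  letI := Fintype.ofFinite (P : Subgroup G)
  set Q : Subgroup N := (P : Subgroup G).subgroupOf N with hQ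
  letI := Fintype.ofFinite Q
  let μ : Q →* ℂˣ :=
    lam.comp
      { toFun := fun q => ⟨((q : N) : G), q.2⟩
        map_one' := rfl
        map_mul' := fun _ _ => rfl }
  have hμc : IsCharacter Q fun q => (μ q : ℂ) := IsIrr.isCharacter (isIrr_linear μ)
  have hμr : ∀ q, conj (μ q : ℂ) = (μ q : ℂ) := fun q => by
    have h1 : (μ q : ℂ) ^ 2 = 1 := by
      rw [← Units.val_pow_eq_pow_val, hlam ⟨((q : N) : G), q.2⟩ (q : N).2 |> (fun h => show μ q ^ 2 = 1 from h),
        Units.val_one]
    rcases sq_eq_one_iff.1 h1 with h | h <;> rw [h] <;> simp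
  set I := indFun Q fun q => (μ q : ℂ) with hI
  have hIc : IsCharacter N I := isCharacter_indFun Q hμc
  obtain ⟨a, ha, hdec⟩ := IsChar.exists_decomp_inner hIc
  have hidx : Odd Q.index := by
    rw [Nat.odd_iff]
    have := Cfsg.Agent.Grp.not_dvd_relIndex_sylow P (H := N) (Subgroup.IsSubnormal.step _ ⊤ le_top
      Subgroup.IsSubnormal.top ((Subgroup.normal_subgroupOf_iff le_top).2 fun x g hx _ =>
        Subgroup.Normal.conj_mem inferInstance x hx g))
    have h3 : ¬ 2 ∣ Q.index := this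
    omega
  let w : IrrCharacter N → ℕ := fun θ => a θ * charDegree (θ : N → ℂ)
  have hsum : Odd (∑ θ, w θ) := by
    have h1 := congrFun hdec 1
    rw [sum_irr_apply, hI, indFun_one_eq, map_one, Units.val_one, mul_one] at h1
    have h2 : (Q.index : ℂ) = ((∑ θ, w θ : ℕ) : ℂ) := by
      rw [h1, Nat.cast_sum]
      exact Finset.sum_congr rfl fun θ _ => by rw [Nat.cast_mul, PIto.charDeg_cast θ]
    rwa [← Nat.cast_injective h2]
  let cj : IrrCharacter N → IrrCharacter N := fun θ => ⟨fun n => conj ((θ : N → ℂ) n), IsIrr.conj θ.2⟩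
  have haI : ∀ θ : IrrCharacter N, (a θ : ℂ) = classInner (fun q : Q => (μ q : ℂ))
      (fun q : Q => (θ : N → ℂ) q) := fun θ => by
    rw [← ha θ, hI, classInner_indFun Q _ (IsIrr.classFun θ.2)]
  have hwc : ∀ θ, w (cj θ) = w θ := by
    intro θ
    have h1 : a (cj θ) = a θ := by
      refine Nat.cast_injective (R := ℂ) ?_
      show (a (cj θ) : ℂ) = (a θ : ℂ)
      rw [haI, ← Complex.conj_natCast (a θ), haI]
      simp only [classInner, cj, map_mul, map_sum, map_inv₀, Complex.conj_natCast, Complex.conj_conj, hμr]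
    have h2 : charDegree (cj θ : N → ℂ) = charDegree (θ : N → ℂ) := PIto.charDeg_eq (by
      show conj ((θ : N → ℂ) 1) = _
      rw [PIto.charDeg_cast θ, Complex.conj_natCast])
    show a (cj θ) * _ = a θ * _
    rw [h1, h2]
  have hA := exists_odd_fix w cj (fun θ => Subtype.ext (funext fun n => Complex.conj_conj _)) hwc hsum
  let act : ↥(P : Subgroup G) → IrrCharacter N → IrrCharacter N := fun g θ =>
    ⟨conjN N (g : G)⁻¹ (θ : N → ℂ), IsIrr.conjN N θ.2 _⟩
  have hwa : ∀ g θ, w (act g θ) = w θ := by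
    intro g θ
    have h1 : a (act g θ) = a θ := by
      refine Nat.cast_injective (R := ℂ) ?_
      rw [haI, haI]
      simp only [classInner, act]
      congr 1
      let e : Q ≃ Q :=
        { toFun := fun q => ⟨conjEquivN N (g : G)⁻¹ q, by
            show ((conjEquivN N (g : G)⁻¹ q : N) : G) ∈ (P : Subgroup G)
            rw [conjEquivN_apply]
            exact mul_mem (mul_mem (inv_mem g.2) q.2) (inv_mem (inv_mem g.2))⟩
          invFun := fun q => ⟨conjEquivN N (g : G) q, by
            show ((conjEquivN N (g : G) q : N) : G) ∈ (P : Subgroup G)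
            rw [conjEquivN_apply]
            exact mul_mem (mul_mem g.2 q.2) (inv_mem g.2)⟩
          left_inv := fun q => Subtype.ext (Subtype.ext (by simp [conjEquivN_apply, mul_assoc]))
          right_inv := fun q => Subtype.ext (Subtype.ext (by simp [conjEquivN_apply, mul_assoc])) }
      refine Fintype.sum_equiv e _ _ fun q => ?_
      have hμe : μ (e q) = μ q := by
        show lam ⟨(((e q : Q) : N) : G), (e q).2⟩ = lam ⟨((q : N) : G), q.2⟩
        have : (⟨(((e q : Q) : N) : G), (e q).2⟩ : (P : Subgroup G)) =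
            g⁻¹ * ⟨((q : N) : G), q.2⟩ * g := Subtype.ext (by simp [e, conjEquivN_apply])
        rw [this, map_mul, map_mul, map_inv, mul_right_comm, inv_mul_cancel, one_mul]
      rw [hμe]
      congr 2
    have h2 : charDegree (act g θ : N → ℂ) = charDegree (θ : N → ℂ) := PIto.charDeg_eq (by
      show conjN N (g : G)⁻¹ (θ : N → ℂ) 1 = _
      rw [conjN_eq_comp]
      show (θ : N → ℂ) (conjEquivN N _ 1) = _
      rw [map_one, PIto.charDeg_cast θ])
    show a (act g θ) * _ = a θ * _
    rw [h1, h2]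
  let A := {θ : IrrCharacter N // Odd (w θ) ∧ cj θ = θ}
  letI : MulAction (P : Subgroup G) A :=
    { smul := fun g θ => ⟨act g θ.1, by rw [hwa]; exact θ.2.1, Subtype.ext (funext fun n => by
          have := congrFun (congrArg Subtype.val θ.2.2) (conjEquivN N (g : G)⁻¹ n)
          show conj (conjN N (g : G)⁻¹ (θ.1 : N → ℂ) n) = conjN N (g : G)⁻¹ (θ.1 : N → ℂ) n
          rw [conjN_eq_comp]
          exact this)⟩
      one_smul := fun θ => Subtype.ext (Subtype.ext (by
        show conjN N (((1 : (P : Subgroup G)) : G))⁻¹ _ = _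
        rw [Subgroup.coe_one, inv_one, conjN_one]))
      mul_smul := fun g h θ => Subtype.ext (Subtype.ext (by
        show conjN N ((g * h : (P : Subgroup G)) : G)⁻¹ _ = conjN N (g : G)⁻¹ (conjN N (h : G)⁻¹ _)
        rw [Subgroup.coe_mul, mul_inv_rev, conjN_mul])) }
  have hAc : Odd (Nat.card A) := by
    rw [Nat.card_eq_fintype_card, Fintype.card_subtype]; exact hA
  obtain ⟨⟨θ, hθw, hθr⟩, hθfix⟩ :=
    P.isPGroup'.nonempty_fixed_point_of_prime_not_dvd_card A (fun h => by
      rw [Nat.odd_iff] at hAc; omega)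
  obtain ⟨haodd, hdodd⟩ := Nat.odd_mul.1 hθw
  have hreal : ∀ n, conj ((θ : N → ℂ) n) = (θ : N → ℂ) n := congrFun (congrArg Subtype.val hθr)
  -- invariant
  have hinert : inertia N (θ : N → ℂ) = ⊤ := by
    rw [eq_top_iff, ← htop]
    refine sup_le (fun g hg => ?_) (le_inertia N (IsIrr.classFun θ.2))
    rw [mem_inertia]
    have h1 := hθfix ⟨g⁻¹, inv_mem hg⟩
    have h2 : conjN N (g⁻¹)⁻¹ (θ : N → ℂ) = θ := congrArg (fun x : A => (x.1 : N → ℂ)) h1
    rwa [inv_inv] at h2
  have hinv : ∀ (g : G) (n : N), (θ : N → ℂ) ⟨g * n * g⁻¹, Subgroup.Normal.conj_mem inferInstance (n : G) n.2 g⟩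
      = (θ : N → ℂ) n := fun g n => by
    have h := congrFun ((mem_inertia N).1 (hinert ▸ Subgroup.mem_top g : g ∈ inertia N (θ : N → ℂ))) n
    rwa [conjN_apply] at h
  -- trivial determinant
  have hdet : detChar (θ : N → ℂ) = 1 := by
    obtain ⟨l, hl⟩ := isCharacter_detChar θ.2
    have h2 : ∀ n, l n ^ 2 = 1 := fun n => by
      have h := detChar_conj θ.2 n
      rw [show (fun x => conj ((θ : N → ℂ) x)) = (θ : N → ℂ) from funext hreal, congrFun hl n] at h
      refine Units.ext ?_
      rw [Units.val_pow_eq_pow_val, Units.val_one, sq]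
      conv_lhs => arg 2; rw [h]
      rw [Complex.mul_conj, Complex.normSq_eq_norm_sq, norm_eq_one_of_pow_eq_one' (c := (l n : ℂ))
        Nat.card_pos (by rw [← Units.val_pow_eq_pow_val, ← map_pow, pow_card_eq_one', map_one, Units.val_one])]
      simp
    funext n
    rw [congrFun hl n, Pi.one_apply]
    have h3 : l n ^ Nat.card (Abelianization N) = 1 := by
      rw [← map_pow, ← Abelianization.lift_apply_of l, map_pow, pow_card_eq_one', map_one]
    have hg : Nat.gcd 2 (Nat.card (Abelianization N)) = 1 := by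
      exact (Nat.coprime_two_left.2 hodd)
    have := pow_gcd_eq_one.2 ⟨h2 n, h3⟩
    rw [hg, pow_one] at this
    rw [this, Units.val_one]
  have hd := PIto.charDeg_cast θ
  have hpow : ∃ k, N.index = 2 ^ k := by
    refine IsPGroup.exists_card_eq (G := G ⧸ N) ?_ |>.imp fun k hk => by rwa [Subgroup.index_eq_card]
    refine P.isPGroup'.of_surjective ((QuotientGroup.mk' N).comp (P : Subgroup G).subtype) fun q => ?_
    obtain ⟨g, rfl⟩ := QuotientGroup.mk'_surjective N q
    have hg : g ∈ ((P : Subgroup G) : Set G) * (N : Set G) := by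
      rw [← Subgroup.mul_normal, htop]; exact Subgroup.mem_top g
    obtain ⟨p, hp, n, hn, rfl⟩ := Set.mem_mul.1 hg
    exact ⟨⟨p, hp⟩, by simp [(QuotientGroup.eq_one_iff n).2 hn]⟩
  obtain ⟨k, hk⟩ := hpow
  have hcop : Nat.Coprime N.index (charDegree (θ : N → ℂ)) := by
    rw [hk]; exact Nat.Coprime.pow_left _ (Nat.coprime_two_left.2 hdodd)
  obtain ⟨η, hη, hηres⟩ := exists_extension_of_witness θ.2 hinv hd fun p hp =>
    witness_of_coprime θ.2 (by rw [hdet, orderOf_one, one_mul]; exact hcop) hp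
  obtain ⟨χ, hχ, hχres, hχdet⟩ := exists_ext_det θ.2 hd hcop hη hηres 1
    (fun m => by rw [hdet]; simp)
  have hχr : (fun g => conj (χ g)) = χ :=
    ext_unique θ.2 hd hcop hχ (IsIrr.conj hχ) hχres (fun m => by rw [hχres m, hreal m])
      (funext fun g => by rw [detChar_conj hχ, congrFun hχdet g]; simp)
  -- restrict to the Sylow subgroup
  set QP : Subgroup (P : Subgroup G) := N.subgroupOf (P : Subgroup G) with hQP
  letI := Fintype.ofFinite QP
  let μP : QP →* ℂˣ := lam.comp QP.subtype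
  have hμPirr := isIrr_linear μP
  have hres := IsChar.res (IsIrr.isCharacter hχ) (P : Subgroup G)
  obtain ⟨b, hb, hbdec⟩ := IsChar.exists_decomp_inner hres
  choose c hc using fun φ : IrrCharacter (P : Subgroup G) =>
    IsChar.classInner_nat (IsChar.res (IsIrr.isCharacter φ.2) QP) (IsIrr.isCharacter hμPirr)
  have htot : Odd (∑ φ, b φ * c φ) := by
    have h1 : ((∑ φ, b φ * c φ : ℕ) : ℂ) = (a θ : ℂ) := by
      have e1 : classInner (fun q : QP => χ (q : (P : Subgroup G))) (fun q => (μP q : ℂ)) =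
          ∑ φ : IrrCharacter (P : Subgroup G), (b φ : ℂ) * (c φ : ℂ) := by
        simp only [← hc, classInner, Finset.mul_sum]
        rw [Finset.sum_comm]
        refine Finset.sum_congr rfl fun q _ => ?_
        have := congrFun hbdec (q : (P : Subgroup G))
        rw [sum_irr_apply] at this
        rw [this, Finset.sum_mul, Finset.mul_sum]
        exact Finset.sum_congr rfl fun φ _ => by ring
      push_cast
      rw [← e1, ← Complex.conj_natCast (a θ), haI]
      simp only [classInner, map_mul, map_sum, map_inv₀, Complex.conj_natCast, Complex.conj_conj]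
      let e : QP ≃ Q :=
        { toFun := fun q => ⟨⟨((q : (P : Subgroup G)) : G), q.2⟩, (q : (P : Subgroup G)).2⟩
          invFun := fun q => ⟨⟨((q : N) : G), q.2⟩, (q : N).2⟩
          left_inv := fun _ => rfl
          right_inv := fun _ => rfl }
      have hcard : (Nat.card QP : ℂ) = (Nat.card Q : ℂ) := by rw [Nat.card_congr e]
      rw [hcard]
      congr 1
      refine Fintype.sum_equiv e _ _ fun q => ?_
      have hval : μ (e q) = μP q := rfl
      rw [hμr (e q), hval, ← hχres]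
      have h' := hμr (e q)
      rw [hval] at h'
      rw [h', mul_comm]
      rfl
    rw [Nat.cast_inj] at h1
    rwa [h1]
  have hμPr : ∀ q, conj (μP q : ℂ) = (μP q : ℂ) := fun q => by
    have h1 : (μP q : ℂ) ^ 2 = 1 := by
      rw [← Units.val_pow_eq_pow_val, show μP q ^ 2 = 1 from hlam (q : (P : Subgroup G)) q.2, Units.val_one]
    rcases sq_eq_one_iff.1 h1 with h | h <;> rw [h] <;> simp
  let cjP : IrrCharacter (P : Subgroup G) → IrrCharacter (P : Subgroup G) := fun φ =>
    ⟨fun n => conj ((φ : ↥(P : Subgroup G) → ℂ) n), IsIrr.conj φ.2⟩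
  have hwP : ∀ φ, b (cjP φ) * c (cjP φ) = b φ * c φ := by
    intro φ
    congr 1
    · refine Nat.cast_injective (R := ℂ) ?_
      rw [← hb, ← Complex.conj_natCast (b φ), ← hb]
      simp only [classInner, cjP, map_mul, map_sum, map_inv₀, Complex.conj_natCast, Complex.conj_conj]
      congr 1
      refine Finset.sum_congr rfl fun q _ => ?_
      rw [congrFun hχr (q : G)]
    · refine Nat.cast_injective (R := ℂ) ?_
      rw [← hc, ← Complex.conj_natCast (c φ), ← hc]
      simp only [classInner, cjP, map_mul, map_sum, map_inv₀, Complex.conj_natCast, Complex.conj_conj, hμPr]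
  obtain ⟨φ, hφ⟩ := Finset.card_pos.1 (Odd.pos (exists_odd_fix (fun φ => b φ * c φ) cjP
    (fun φ => Subtype.ext (funext fun n => Complex.conj_conj _)) hwP htot))
  obtain ⟨-, hφw, hφr⟩ := Finset.mem_filter.1 hφ
  obtain ⟨-, hcodd⟩ := Nat.odd_mul.1 hφw
  have hne : classInner (fun q : QP => (φ : ↥(P : Subgroup G) → ℂ) q) (fun q => (μP q : ℂ)) ≠ 0 := by
    rw [hc]; exact Nat.cast_ne_zero.2 (Odd.pos hcodd).ne'
  have hcl := clifford_one QP φ.2 hμPirr hne
  have hinP : inertia QP (fun q => (μP q : ℂ)) = ⊤ := eq_top_iff.2 fun g _ => by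
    rw [mem_inertia]
    funext q
    rw [conjN_apply]
    show (lam (g * q * g⁻¹) : ℂ) = (lam (q : (P : Subgroup G)) : ℂ)
    rw [map_mul, map_mul, map_inv, mul_right_comm, mul_inv_cancel, one_mul]
  rw [hinP, Subgroup.index_top, hc, map_one, Units.val_one, Nat.cast_one, mul_one, mul_one,
    PIto.charDeg_cast φ, Nat.cast_inj] at hcl
  obtain ⟨m, hm⟩ := IsPGroup.iff_card.1 P.isPGroup'
  obtain ⟨j, -, hj⟩ := (Nat.dvd_prime_pow Nat.prime_two).1
    ((IsIrr.degree_dvd_card φ.2 (PIto.charDeg_cast φ)).trans (dvd_of_eq hm))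
  have hφ1 : charDegree (φ : ↥(P : Subgroup G) → ℂ) = 1 := by
    rw [← hcl] at hcodd
    rcases Nat.eq_zero_or_pos j with rfl | hjp
    · simpa using hj
    · rw [hj, Nat.odd_iff] at hcodd
      have : 2 ∣ 2 ^ j := dvd_pow_self 2 hjp.ne'
      omega
  obtain ⟨ρ, hρ⟩ := linearHom_of_isCharacter (IsIrr.isCharacter φ.2)
    (by rw [PIto.charDeg_cast φ, hφ1, Nat.cast_one])
  refine ⟨ρ, fun q => Units.ext ?_, fun q hq => Units.ext ?_⟩
  · have h1 : conj (ρ q : ℂ) = (ρ q : ℂ) := by
      have := congrFun (congrArg Subtype.val hφr) q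
      simpa [cjP, show (φ : ↥(P : Subgroup G) → ℂ) = fun g => (ρ g : ℂ) from hρ] using this
    rw [Units.val_pow_eq_pow_val, Units.val_one, sq]
    conv_lhs => arg 2; rw [← h1]
    rw [Complex.mul_conj, Complex.normSq_eq_norm_sq, norm_eq_one_of_pow_eq_one' (c := (ρ q : ℂ))
      Nat.card_pos (by rw [← Units.val_pow_eq_pow_val, ← map_pow, pow_card_eq_one', map_one, Units.val_one])]
    simp
  · have h2 := congrFun (clifford QP φ.2 hμPirr hne) ⟨q, hq⟩
    have horb : conjOrbit QP (fun q => (μP q : ℂ)) = {fun q => (μP q : ℂ)} := by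
      refine Finset.eq_singleton_iff_unique_mem.2 ⟨(mem_conjOrbit QP).2 ⟨1, conjN_one QP _⟩, ?_⟩
      intro ψ hψ
      obtain ⟨g, rfl⟩ := (mem_conjOrbit QP).1 hψ
      exact (mem_inertia QP).1 (hinP ▸ Subgroup.mem_top g : g ∈ inertia QP _)
    rw [horb, Finset.sum_singleton, hc, ← hcl, hφ1, Nat.cast_one, one_smul,
      show (φ : ↥(P : Subgroup G) → ℂ) = fun g => (ρ g : ℂ) from hρ] at h2
    exact h2

/-- Let N be a normal subgroup of the finite group G, P a Sylow 2-subgroup of G and Q = P ∩ N. Suppose that P/QP' and Q/Q' are elementary abelian (every square of an element of P lies in the subgroup generated by Q and the derived subgroup of P, and every square of an element of Q lies in the derived subgroup of Q), and that the commutator factor group N/N' has odd order. Then P/P' is elementary abelian. -/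
theorem result {G : Type*} [Group G] [Finite G] (N : Subgroup G) [N.Normal] (P : Sylow 2 G)
    (hP : ∀ x ∈ (P : Subgroup G), x ^ 2 ∈ ((P : Subgroup G) ⊓ N) ⊔ ⁅(P : Subgroup G), (P : Subgroup G)⁆)
    (hQ : ∀ x ∈ (P : Subgroup G) ⊓ N, x ^ 2 ∈ ⁅(P : Subgroup G) ⊓ N, (P : Subgroup G) ⊓ N⁆)
    (hodd : Odd (Nat.card (Abelianization N))) :
    ∀ x ∈ (P : Subgroup G), x ^ 2 ∈ ⁅(P : Subgroup G), (P : Subgroup G)⁆ := by
  classical
  intro x hx
  set H := (P : Subgroup G) ⊔ N with hH
  set P' := P.subtype (le_sup_left : (P : Subgroup G) ≤ H) with hP'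
  haveI : (N.subgroupOf H).Normal := inferInstance
  have htop : (P' : Subgroup H) ⊔ N.subgroupOf H = ⊤ := by
    rw [Sylow.coe_subtype, ← Subgroup.subgroupOf_sup le_sup_left le_sup_right, Subgroup.subgroupOf_self]
  have hodd' : Odd (Nat.card (Abelianization (N.subgroupOf H))) := by
    rwa [Nat.card_congr (MulEquiv.abelianizationCongr
      (Subgroup.subgroupOfEquivOfLe (le_sup_right : N ≤ H))).toEquiv]
  let toP : (P' : Subgroup H) →* (P : Subgroup G) :=
    { toFun := fun q => ⟨((q : H) : G), q.2⟩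
      map_one' := rfl
      map_mul' := fun _ _ => rfl }
  let ofP : (P : Subgroup G) →* (P' : Subgroup H) :=
    { toFun := fun q => ⟨⟨(q : G), le_sup_left (b := N) q.2⟩, q.2⟩
      map_one' := rfl
      map_mul' := fun _ _ => rfl }
  have hcomm : ∀ y ∈ ⁅(P : Subgroup G), (P : Subgroup G)⁆, ∀ l : (P : Subgroup G) →* ℂˣ,
      ∃ hy : y ∈ (P : Subgroup G), l ⟨y, hy⟩ = 1 := by
    intro y hy l
    rw [← Subgroup.map_subtype_commutator] at hy
    obtain ⟨z, hz, rfl⟩ := hy
    exact ⟨z.2, MonoidHom.mem_ker.1 (Abelianization.commutator_subset_ker l hz)⟩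
  have key : ∀ lam : (P : Subgroup G) →* ℂˣ, lam ⟨x ^ 2, pow_mem hx 2⟩ = 1 := by
    intro lam
    have hlam : ∀ q : (P' : Subgroup H), (q : H) ∈ N.subgroupOf H → (lam.comp toP) q ^ 2 = 1 := by
      intro q hq
      have h1 := hQ ((q : H) : G) ⟨q.2, hq⟩
      obtain ⟨hy, e⟩ := hcomm _ (Subgroup.commutator_mono inf_le_left inf_le_left h1) lam
      rw [← map_pow]
      exact e
    obtain ⟨ρ, hρ2, hρN⟩ := core (N.subgroupOf H) P' htop hodd' (lam.comp toP) hlam
    set ν := lam * (ρ.comp ofP)⁻¹ with hν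
    have hνQ : ∀ y (hy : y ∈ ((P : Subgroup G) ⊓ N)), ν ⟨y, hy.1⟩ = 1 := by
      intro y hy
      have := hρN (ofP ⟨y, hy.1⟩) hy.2
      rw [hν, MonoidHom.mul_apply, MonoidHom.inv_apply, MonoidHom.comp_apply, this]
      exact mul_inv_cancel (lam ⟨y, hy.1⟩)
    have hker : ((P : Subgroup G) ⊓ N) ⊔ ⁅(P : Subgroup G), (P : Subgroup G)⁆ ≤
        ν.ker.map (P : Subgroup G).subtype := by
      refine sup_le (fun y hy => ⟨⟨y, hy.1⟩, hνQ y hy, rfl⟩) fun y hy => ?_
      obtain ⟨hy', e⟩ := hcomm y hy ν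
      exact ⟨⟨y, hy'⟩, e, rfl⟩
    obtain ⟨z, hz, hzx⟩ := hker (hP x hx)
    have h3 : ν ⟨x ^ 2, pow_mem hx 2⟩ = 1 := by
      rw [show (⟨x ^ 2, pow_mem hx 2⟩ : (P : Subgroup G)) = z from Subtype.ext hzx.symm]
      exact hz
    rw [hν, MonoidHom.mul_apply, MonoidHom.inv_apply, mul_inv_eq_one] at h3
    rw [h3]
    show ρ (ofP _) = 1
    rw [show (⟨x ^ 2, pow_mem hx 2⟩ : (P : Subgroup G)) = (⟨x, hx⟩ : (P : Subgroup G)) ^ 2 from rfl,
      map_pow, map_pow]
    exact hρ2 _
  rw [← Subgroup.map_subtype_commutator]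
  refine ⟨⟨x ^ 2, pow_mem hx 2⟩, ?_, rfl⟩
  refine (QuotientGroup.eq_one_iff _).1 ?_
  refine eq_one_of_forall_linear (G := Abelianization (P : Subgroup G)) (fun a b => mul_comm a b) fun l => ?_
  exact key (l.comp Abelianization.of)

end Cfsg.Agent.S4582
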