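import Cfsg.Statements.S4583
import Cfsg.Agent.Lib.Char.PrincipalInduced
-- import your own Cfsg.Agent.* helpers here

set_option autoImplicit false
open Cfsg

namespace Cfsg.Agent.S4583

/-- Let N be a normal subgroup of the finite group G, p a prime, M a maximal ideal of the algebraic integers containing p, and P a Sylow p-subgroup of G. Let θ be an irreducible character of N of degree prime to p lying in the principal p-block of N, and suppose θ extends to the subgroup NP (some irreducible character of NP restricts to θ). Then some irreducible character χ of G of degree prime to p in the principal p-block of G lies over θ (θ is a constituent of the restriction of χ to N). -/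
theorem result {G : Type*} [Group G] [Finite G] (N : Subgroup G) [N.Normal] (p : ℕ) [Fact p.Prime] (M : Ideal Cfsg.AlgInt) (hM : Cfsg.IsPModular p M) (P : Sylow p G)
    (θ : Cfsg.IrrCharacter N) (hθ : θ ∈ Cfsg.principalBlock M N) (hdeg : ¬ p ∣ Cfsg.charDegree (θ : N → ℂ))
    (hext : ∃ η : Cfsg.IrrCharacter ↥(N ⊔ (P : Subgroup G)), ∀ n : N, (η : ↥(N ⊔ (P : Subgroup G)) → ℂ) (Subgroup.inclusion le_sup_left n) = (θ : N → ℂ) n) :
    ∃ χ : Cfsg.IrrCharacter G, χ ∈ Cfsg.principalBlock M G ∧ ¬ p ∣ Cfsg.charDegree (χ : G → ℂ) ∧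
      haveI := Fintype.ofFinite N; Cfsg.classInner (fun n : N => (χ : G → ℂ) n) (θ : N → ℂ) ≠ 0 := by
  classical
  cases nonempty_fintype G
  letI : Fintype N := Fintype.ofFinite N
  set H := N ⊔ (P : Subgroup G) with hH
  haveI : Fintype H := Fintype.ofFinite H
  obtain ⟨η, hη⟩ := hext
  have hidx : ¬ p ∣ H.index := fun h =>
    P.not_dvd_index (h.trans (Subgroup.index_dvd_of_le le_sup_right))
  have h1 : Cfsg.charDegree (η : H → ℂ) = Cfsg.charDegree (θ : N → ℂ) := by
    have e := hη 1
    rw [map_one, Cfsg.Agent.Block.charDeg_spec', Cfsg.Agent.Block.charDeg_spec'] at e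
    exact_mod_cast e
  have hηB : η ∈ Cfsg.principalBlock M H := by
    by_contra hno
    have hreg : Cfsg.Agent.Block.regPair p η (Cfsg.Agent.Block.trivialIrr H) = 0 :=
      Cfsg.Agent.Block.regPair_outside hM fun h => hno (Cfsg.Agent.Block.pblock_mem_of_sameBlock hM
        Cfsg.Agent.Block.isPBlock_principalBlock (Cfsg.Agent.Block.trivial_mem_principalBlock hM)
        (Cfsg.Agent.Block.sameBlock_symm h))
    have hh : Cfsg.blockHeight p (Cfsg.principalBlock M N) (θ : N → ℂ) = 0 := by
      rw [Cfsg.blockHeight, Nat.factorization_eq_zero_of_not_dvd hdeg, Nat.zero_sub]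
    refine Cfsg.Agent.Block.regPair_unit hM Cfsg.Agent.Block.isPBlock_principalBlock hθ
      (Cfsg.Agent.Block.trivial_mem_principalBlock hM) hh ?_
    suffices hz : Cfsg.Agent.Block.regPair p θ (Cfsg.Agent.Block.trivialIrr N) = 0 by
      rw [hz]; exact Cfsg.Agent.Block.ideal_zero hM
    rw [← hreg, Cfsg.Agent.Block.regPair, Cfsg.Agent.Block.regPair,
      Cfsg.Agent.Block.regSum_eq_sum, Cfsg.Agent.Block.regSum_eq_sum]
    congr 1
    refine Finset.sum_bij (fun n _ => Subgroup.inclusion le_sup_left n) (fun n hn => ?_)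
      (fun a _ b _ h => Subgroup.inclusion_injective _ h) (fun x hx => ?_) (fun n hn => ?_)
    · simp only [Finset.mem_filter, Finset.mem_univ, true_and] at hn ⊢
      rwa [orderOf_injective _ (Subgroup.inclusion_injective _) n]
    · have hxN : (x : G) ∈ N := by
        have hq : ((x : G) : G ⧸ N) = 1 := by
          obtain ⟨n, hn, u, hu, hxe⟩ := Subgroup.mem_sup_of_normal_left.1 x.2
          have hu' : ((x : G) : G ⧸ N) = (u : G ⧸ N) := by
            rw [← hxe, QuotientGroup.mk_mul, (QuotientGroup.eq_one_iff n).2 hn, one_mul]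
          obtain ⟨k, hk⟩ := P.isPGroup' ⟨u, hu⟩
          have hk' : u ^ p ^ k = 1 := congrArg Subtype.val hk
          rw [← orderOf_eq_one_iff, hu']
          refine Nat.eq_one_of_dvd_coprimes (a := orderOf (x : G)) (b := p ^ k) ?_ ?_ ?_
          · refine Nat.Coprime.pow_right _ ((Fact.out : p.Prime).coprime_iff_not_dvd.2 ?_).symm
            simpa [← Subgroup.orderOf_coe] using hx
          · rw [← hu']; exact orderOf_map_dvd (QuotientGroup.mk' N) (x : G)
          · exact orderOf_dvd_of_pow_eq_one (by rw [← QuotientGroup.mk_pow, hk', QuotientGroup.mk_one])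
        exact (QuotientGroup.eq_one_iff _).1 hq
      refine ⟨⟨x, hxN⟩, ?_, rfl⟩
      simp only [Finset.mem_filter, Finset.mem_univ, true_and] at hx ⊢
      rwa [← Subgroup.orderOf_coe, Subgroup.orderOf_coe x]
    · rw [hη]
      simp [Cfsg.Agent.Block.trivialIrr]
  obtain ⟨χ, hχ, hχd, hne⟩ :=
    Cfsg.Agent.Char.PrincipalInd.exists_pPrime_over hM H hidx hηB (by rwa [h1])
  refine ⟨χ, hχ, hχd, ?_⟩
  -- the restriction to `N` of a constituent contains `θ`
  intro h0
  apply hne
  obtain ⟨a, ha, hdec⟩ := Cfsg.Agent.Char.IsChar.exists_decomp_inner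
    (Cfsg.Agent.Char.IsChar.res (Cfsg.Agent.Block.irr_isChar χ) H)
  let j : N →* H := Subgroup.inclusion le_sup_left
  have hNN : (fun n : N => (χ : G → ℂ) n) =
      ∑ φ : Cfsg.IrrCharacter H, (a φ : ℂ) • (fun n : N => (φ : H → ℂ) (j n)) := by
    funext n
    have e := congrFun hdec (j n)
    simp only [Finset.sum_apply, Pi.smul_apply] at e ⊢
    exact e
  rw [hNN, Cfsg.Agent.Char.classInner_sum_left] at h0
  simp only [Cfsg.Agent.Char.classInner_smul_left] at h0
  choose b hb using fun φ : Cfsg.IrrCharacter H => Cfsg.Agent.Char.IsChar.classInner_nat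
    (Cfsg.Agent.Char.IsChar.comp j (Cfsg.Agent.Block.irr_isChar φ)) (Cfsg.Agent.Block.irr_isChar θ)
  have hsum : ∑ φ : Cfsg.IrrCharacter H, a φ * b φ = 0 := by
    have : ((∑ φ : Cfsg.IrrCharacter H, a φ * b φ : ℕ) : ℂ) = 0 := by
      push_cast
      rw [← h0]
      exact Finset.sum_congr rfl fun φ _ => by rw [← hb φ]
    exact_mod_cast this
  have hbη : b η = 1 := by
    have e := hb η
    rw [show (fun x => (η : H → ℂ) (j x)) = (θ : N → ℂ) from funext hη] at e
    have e2 := e.symm.trans (Cfsg.Agent.Char.classInner_self_irr θ.2)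
    exact_mod_cast e2
  have h2 := (Finset.sum_eq_zero_iff.1 hsum) η (Finset.mem_univ _)
  rw [hbη, mul_one] at h2
  rw [ha η, h2, Nat.cast_zero]

end Cfsg.Agent.S4583
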