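import Cfsg.Statements.S4584
import Cfsg.Agent.Lib.Transfer.MaxClass
import Cfsg.Agent.Lib.Fus.MaxClassUpper
import Cfsg.Agent.Lib.Char.CenterIndexSq

set_option autoImplicit false
open Cfsg
open scoped commutatorElement

namespace Cfsg.Agent.S4584

/-- Let p be a prime and P a group of order p^4. Then the derived subgroup P' has order p if and only if the centre Z(P) has index p^2 in P. -/
theorem result {P : Type*} [Group P] [Finite P] (p : ℕ) [Fact p.Prime] (hP : Nat.card P = p ^ 4) :
    Nat.card (commutator P) = p ↔ (Subgroup.center P).index = p ^ 2 := by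
  classical
  have hp : p.Prime := Fact.out
  have hPp := IsPGroup.of_card hP
  obtain ⟨j, hj2, hj4, hj⟩ := Cfsg.Agent.Transfer.MaxClass.commutator_index_ge hP (by omega)
  constructor
  · intro hc
    have hne : commutator P ≠ ⊥ := fun h => by
      rw [h, Subgroup.card_bot] at hc; exact hp.ne_one hc.symm
    have hcen : commutator P ≤ Subgroup.center P := by
      haveI : Nontrivial P := Finite.one_lt_card_iff_nontrivial.1 (by rw [hP]; exact Nat.one_lt_pow (by omega) hp.one_lt)
      haveI : Group.IsNilpotent P := hPp.isNilpotent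
      have hlt := Cfsg.Agent.Transfer.MaxClass.lcs_succ_lt (G := P) (i := 1)
        (by rwa [Subgroup.top_lowerCentralSeries_one])
      rw [Subgroup.lowerCentralSeries_succ, Subgroup.top_lowerCentralSeries_one] at hlt
      have hb : ⁅commutator P, (⊤ : Subgroup P)⁆ = ⊥ := by
        have h1 := Subgroup.card_dvd_of_le hlt.le
        rw [hc, Nat.dvd_prime hp] at h1
        rcases h1 with h1 | h1
        · exact Subgroup.card_eq_one.1 h1
        · exact absurd (Subgroup.eq_of_le_of_card_ge hlt.le (by rw [hc, h1])) hlt.ne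
      intro z hz
      refine Subgroup.mem_center_iff.2 fun g => ?_
      have := (Subgroup.commutator_le.1 hb.le) z hz g (Subgroup.mem_top g)
      exact (commutatorElement_eq_one_iff_mul_comm.1 (Subgroup.mem_bot.1 this)).symm
    have hna : ¬ ∀ a b : P, a * b = b * a := fun h => hne (eq_bot_iff.2
      (Subgroup.commutator_le.2 fun a _ b _ =>
        Subgroup.mem_bot.2 (commutatorElement_eq_one_iff_mul_comm.2 (h a b))))
    obtain ⟨x, y, hxy⟩ : ∃ x y : P, x * y ≠ y * x := by simpa using hna
    have hcx : ∀ x : P, (∃ y, x * y ≠ y * x) →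
        (Subgroup.centralizer ({x} : Set P)).index = p := by
      intro x ⟨y, hy⟩
      have hne' : (Subgroup.centralizer ({x} : Set P)).index ≠ 1 := fun h => hy (by
        rw [Subgroup.index_eq_one] at h
        exact ((Subgroup.mem_centralizer_singleton_iff.1 (h.symm ▸ Subgroup.mem_top y :
          y ∈ Subgroup.centralizer ({x} : Set P)))).symm)
      let f : P →* commutator P :=
        { toFun := fun g => ⟨⁅g, x⁆, Subgroup.commutator_mem_commutator (Subgroup.mem_top _) (Subgroup.mem_top _)⟩
          map_one' := Subtype.ext (commutatorElement_one_left x)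
          map_mul' := fun a b => Subtype.ext (by
            have hz : a * ⁅b, x⁆ = ⁅b, x⁆ * a := Subgroup.mem_center_iff.1 (hcen
              (Subgroup.commutator_mem_commutator (Subgroup.mem_top _) (Subgroup.mem_top _))) a
            have hz2 : ⁅a, x⁆ * ⁅b, x⁆ = ⁅b, x⁆ * ⁅a, x⁆ := Subgroup.mem_center_iff.1 (hcen
              (Subgroup.commutator_mem_commutator (Subgroup.mem_top _) (Subgroup.mem_top _))) _
            show ⁅a * b, x⁆ = ⁅a, x⁆ * ⁅b, x⁆
            have e : ⁅a * b, x⁆ = a * ⁅b, x⁆ * a⁻¹ * ⁅a, x⁆ := by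
              simp only [commutatorElement_def, mul_inv_rev, mul_assoc, inv_mul_cancel_left]
            rw [e, hz, mul_inv_cancel_right, hz2]) }
      have hk : Subgroup.centralizer ({x} : Set P) = f.ker := by
        ext g
        rw [Subgroup.mem_centralizer_singleton_iff, MonoidHom.mem_ker]
        exact ⟨fun h => Subtype.ext (commutatorElement_eq_one_iff_mul_comm.2 h),
          fun h => commutatorElement_eq_one_iff_mul_comm.1 (congrArg Subtype.val h)⟩
      rw [hk, Subgroup.index_ker] at hne' ⊢
      have h1 := Subgroup.card_subgroup_dvd_card f.range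
      rw [hc, Nat.dvd_prime hp] at h1
      exact h1.resolve_left hne'
    set Cx := Subgroup.centralizer ({x} : Set P) with hCx
    set Cy := Subgroup.centralizer ({y} : Set P) with hCy
    have hix : Cx.index = p := hcx x ⟨y, hxy⟩
    have hiy : Cy.index = p := hcx y ⟨x, fun h => hxy h.symm⟩
    have hxCy : x ∉ Cy := fun h => hxy (Subgroup.mem_centralizer_singleton_iff.1 h)
    have hxCx : x ∈ Cx := Subgroup.mem_centralizer_singleton_iff.2 rfl
    have hcardx : Nat.card Cx = p ^ 3 := by
      have h := Cx.card_mul_index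
      rw [hix, hP] at h
      exact Nat.eq_of_mul_eq_mul_right hp.pos (h.trans (by ring))
    set C := Cx ⊓ Cy with hC
    have hlt : C < Cx := lt_of_le_of_ne inf_le_left fun e => hxCy
      ((e.symm ▸ hxCx : x ∈ C)).2
    have hCge : p ^ 2 ≤ Nat.card C := by
      have h1 : C.index ≤ Cx.index * Cy.index := Subgroup.index_inf_le
      rw [hix, hiy] at h1
      have h2 := C.card_mul_index
      rw [hP] at h2
      have h3 : p ^ 4 ≤ Nat.card C * (p * p) := h2 ▸ Nat.mul_le_mul_left _ h1
      rw [show p ^ 4 = p ^ 2 * (p * p) by ring] at h3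
      exact Nat.le_of_mul_le_mul_right h3 (Nat.mul_pos hp.pos hp.pos)
    have hCle : Nat.card C = p ^ 2 := by
      obtain ⟨e, -, he⟩ := (Nat.dvd_prime_pow hp).1 (hP ▸ C.card_subgroup_dvd_card)
      have h1 : Nat.card C < p ^ 3 := hcardx ▸ lt_of_le_of_ne (Subgroup.card_le_of_le hlt.le)
        fun h => hlt.ne (Subgroup.eq_of_le_of_card_ge hlt.le h.ge)
      rw [he] at h1 hCge ⊢
      rw [Nat.pow_le_pow_iff_right hp.one_lt] at hCge
      rw [Nat.pow_lt_pow_iff_right hp.one_lt] at h1
      rw [show e = 2 by omega]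
    have hCab : ∀ a ∈ C, ∀ b ∈ C, a * b = b * a := fun a ha b hb =>
      congrArg Subtype.val ((IsPGroup.commGroupOfCardEqPrimeSq hCle).mul_comm ⟨a, ha⟩ ⟨b, hb⟩)
    have hgenx : C ⊔ Subgroup.zpowers x = Cx := by
      refine Subgroup.eq_of_le_of_card_ge (sup_le hlt.le (Subgroup.zpowers_le.2 hxCx)) ?_
      obtain ⟨e, -, he⟩ := (Nat.dvd_prime_pow hp).1 (hP ▸ (C ⊔ Subgroup.zpowers x).card_subgroup_dvd_card)
      have hlt2 : C < C ⊔ Subgroup.zpowers x := lt_of_le_of_ne le_sup_left fun h2 => hxCy
        ((h2.symm ▸ Subgroup.mem_sup_right (Subgroup.mem_zpowers x) : x ∈ C)).2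
      have h1 : p ^ 2 < p ^ e := hCle ▸ he ▸ lt_of_le_of_ne (Subgroup.card_le_of_le hlt2.le)
        fun h => hlt2.ne (Subgroup.eq_of_le_of_card_ge hlt2.le h.ge)
      rw [Nat.pow_lt_pow_iff_right hp.one_lt] at h1
      rw [hcardx, he]
      exact Nat.pow_le_pow_right hp.pos h1
    have htop : Cx ⊔ Cy = ⊤ := by
      have hlt2 : Cy < Cx ⊔ Cy := lt_of_le_of_ne le_sup_right fun e => hxCy
        (e.symm ▸ Subgroup.mem_sup_left hxCx)
      have hdvd := Subgroup.index_dvd_of_le hlt2.le
      rw [hiy, Nat.dvd_prime hp] at hdvd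
      rcases hdvd with h | h
      · exact Subgroup.index_eq_one.1 h
      · exact absurd (Subgroup.index_strictAnti hlt2) (by rw [h, hiy]; exact lt_irrefl _)
    have hCyC : ∀ z ∈ C, Cy ≤ Subgroup.centralizer ({z} : Set P) := by
      intro z hz
      have hgeny : C ⊔ Subgroup.zpowers y = Cy := by
        have hlty : C < Cy := lt_of_le_of_ne inf_le_right fun e => hxy
          (Subgroup.mem_centralizer_singleton_iff.1 ((e.symm ▸ (Subgroup.mem_centralizer_singleton_iff.2
            rfl : y ∈ Cy) : y ∈ C)).1).symm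
        have hcardy : Nat.card Cy = p ^ 3 := by
          have h := Cy.card_mul_index
          rw [hiy, hP] at h
          exact Nat.eq_of_mul_eq_mul_right hp.pos (h.trans (by ring))
        refine Subgroup.eq_of_le_of_card_ge (sup_le hlty.le (Subgroup.zpowers_le.2
          (Subgroup.mem_centralizer_singleton_iff.2 rfl))) ?_
        obtain ⟨e, -, he⟩ := (Nat.dvd_prime_pow hp).1 (hP ▸ (C ⊔ Subgroup.zpowers y).card_subgroup_dvd_card)
        have hlt2 : C < C ⊔ Subgroup.zpowers y := lt_of_le_of_ne le_sup_left fun h2 => hxy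
          (Subgroup.mem_centralizer_singleton_iff.1
            ((h2.symm ▸ Subgroup.mem_sup_right (Subgroup.mem_zpowers y) : y ∈ C)).1).symm
        have h1 : p ^ 2 < p ^ e := hCle ▸ he ▸ lt_of_le_of_ne (Subgroup.card_le_of_le hlt2.le)
          fun h => hlt2.ne (Subgroup.eq_of_le_of_card_ge hlt2.le h.ge)
        rw [Nat.pow_lt_pow_iff_right hp.one_lt] at h1
        rw [hcardy, he]
        exact Nat.pow_le_pow_right hp.pos h1
      rw [← hgeny]
      refine sup_le (fun c hc => Subgroup.mem_centralizer_singleton_iff.2 (hCab c hc z hz))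
        (Subgroup.zpowers_le.2 (Subgroup.mem_centralizer_singleton_iff.2
          (Subgroup.mem_centralizer_singleton_iff.1 hz.2).symm))
    have hCZ : C ≤ Subgroup.center P := by
      intro z hz
      refine Subgroup.mem_center_iff.2 fun g => ?_
      have h1 : Cx ⊔ Cy ≤ Subgroup.centralizer ({z} : Set P) := by
        refine sup_le ?_ (hCyC z hz)
        rw [← hgenx]
        exact sup_le (fun c hc => Subgroup.mem_centralizer_singleton_iff.2 (hCab c hc z hz))
          (Subgroup.zpowers_le.2 (Subgroup.mem_centralizer_singleton_iff.2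
            (Subgroup.mem_centralizer_singleton_iff.1 hz.1).symm))
      exact Subgroup.mem_centralizer_singleton_iff.1 (h1 (htop ▸ Subgroup.mem_top g))
    have h1 := Cfsg.Agent.Fus.MC.not_index_le_of_center_quot hPp hna
    have h2 : (Subgroup.center P).index ≤ C.index := Subgroup.index_antitone hCZ
    have h3 := C.card_mul_index
    rw [hCle, hP, show p ^ 4 = p ^ 2 * p ^ 2 by ring] at h3
    rw [Nat.eq_of_mul_eq_mul_left (pow_pos hp.pos 2) h3] at h2
    exact le_antisymm h2 h1
  · intro hi
    have hna : ¬ ∀ a b : P, a * b = b * a := fun h => by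
      rw [show Subgroup.center P = ⊤ from eq_top_iff.2 fun z _ => Subgroup.mem_center_iff.2 fun g => h g z,
        Subgroup.index_top] at hi
      exact absurd hi.symm (Nat.one_lt_pow (by omega) hp.one_lt).ne'
    exact Cfsg.Agent.Char.card_commutator_of_center_index hPp hi hna

end Cfsg.Agent.S4584
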