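import Cfsg.Statements.S4585
import Cfsg.Agent.S4584

set_option autoImplicit false
open Cfsg
open scoped commutatorElement

namespace Cfsg.Agent.S4585

/-- Let p be a prime and P a group of order p^4. Then P' has index p^2 in P if and only if P has maximal nilpotency class, that is, nilpotency class exactly 3. -/
theorem result {P : Type*} [Group P] [Finite P] (p : ℕ) [Fact p.Prime] (hP : Nat.card P = p ^ 4) :
    (commutator P).index = p ^ 2 ↔ Group.nilpotencyClass P = 3 := by
  classical
  have hp : p.Prime := Fact.out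
  haveI : Group.IsNilpotent P := (IsPGroup.of_card hP).isNilpotent
  refine ⟨fun hi => ?_, fun hc => Cfsg.Agent.Transfer.MaxClass.commutator_index_of_class hP (by omega) hc⟩
  have hcard : Nat.card (commutator P) = p ^ 2 := by
    have h := (commutator P).card_mul_index
    rw [hi, hP, show p ^ 4 = p ^ 2 * p ^ 2 by rw [← pow_add]] at h
    exact Nat.eq_of_mul_eq_mul_right (pow_pos hp.pos 2) h
  have hne : commutator P ≠ ⊥ := fun h => by
    rw [h, Subgroup.card_bot] at hcard
    exact (Nat.one_lt_pow (by omega) hp.one_lt).ne hcard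
  set L : ℕ → Subgroup P := fun k => (⊤ : Subgroup P).lowerCentralSeries k with hL
  have hstep : ∀ k e, Nat.card (L k) ∣ p ^ (e + 1) → Nat.card (L (k + 1)) ∣ p ^ e := by
    intro k e h
    by_cases hk : L k = ⊥
    · have : L (k + 1) ≤ L k := Subgroup.lowerCentralSeries_antitone _ (by omega)
      rw [hk, le_bot_iff] at this
      rw [this, Subgroup.card_bot]
      exact one_dvd _
    · have hlt := Cfsg.Agent.Transfer.MaxClass.lcs_succ_lt hk
      obtain ⟨a, ha, hae⟩ := (Nat.dvd_prime_pow hp).1 ((Subgroup.card_dvd_of_le hlt.le).trans h)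
      rcases (show a ≤ e ∨ a = e + 1 by omega) with h1 | rfl
      · show Nat.card (L (k + 1)) ∣ _
        rw [hae]; exact pow_dvd_pow p h1
      · exact absurd (Subgroup.eq_of_le_of_card_ge hlt.le (by
          rw [hae]; exact Nat.le_of_dvd (pow_pos hp.pos _) h)) hlt.ne
  have h3 : L 3 = ⊥ := by
    have h1 : Nat.card (L 1) ∣ p ^ 2 := by
      show Nat.card ((⊤ : Subgroup P).lowerCentralSeries 1) ∣ _
      rw [Subgroup.top_lowerCentralSeries_one, hcard]
    exact Subgroup.card_eq_one.1 (Nat.eq_one_of_dvd_one (by simpa using hstep 2 0 (hstep 1 1 h1)))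
  have h2 : L 2 ≠ ⊥ := fun h => by
    have hcen : commutator P ≤ Subgroup.center P := by
      rw [← Subgroup.top_lowerCentralSeries_one]
      intro z hz
      refine Subgroup.mem_center_iff.2 fun g => ?_
      have := Subgroup.commutator_le.1 (show ⁅L 1, (⊤ : Subgroup P)⁆ ≤ ⊥ by
        rw [← h]; exact le_of_eq (Subgroup.lowerCentralSeries_succ _ 1).symm) z hz g (Subgroup.mem_top g)
      exact (commutatorElement_eq_one_iff_mul_comm.1 (Subgroup.mem_bot.1 this)).symm
    have hna : ¬ ∀ a b : P, a * b = b * a := fun h' => hne (eq_bot_iff.2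
      (Subgroup.commutator_le.2 fun a _ b _ =>
        Subgroup.mem_bot.2 (commutatorElement_eq_one_iff_mul_comm.2 (h' a b))))
    have ha := Cfsg.Agent.Fus.MC.not_index_le_of_center_quot (IsPGroup.of_card hP) hna
    have hb : (Subgroup.center P).index ≤ (commutator P).index := Subgroup.index_antitone hcen
    rw [hi] at hb
    have := (Cfsg.Agent.S4584.result p hP).2 (le_antisymm hb ha)
    rw [hcard, sq] at this
    exact hp.ne_one (Nat.eq_of_mul_eq_mul_left hp.pos (this.trans (mul_one p).symm))
  have a := Subgroup.lowerCentralSeries_eq_bot_iff_nilpotencyClass_le.1 h3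
  have b : ¬ Group.nilpotencyClass P ≤ 2 := fun h =>
    h2 (Subgroup.lowerCentralSeries_eq_bot_iff_nilpotencyClass_le.2 h)
  omega

end Cfsg.Agent.S4585
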