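import Cfsg.Statements.S4586
import Mathlib.Tactic.Linarith
import Mathlib.Tactic.Ring

set_option autoImplicit false
open Cfsg

namespace Cfsg.Agent.S4586

/-- Let p be a prime, P a finite p-group and N a normal subgroup of P of index p. For x ∈ P write c(x) for the number of elements n of N whose commutator x n x⁻¹ n⁻¹ lies in the derived subgroup N' (so c(x)/#N' is the order of the centralizer of x acting on N/N'). Then [P : P'] = p² if and only if c(x) = p·#N' for every x ∈ P outside N, and also if and only if c(x) = p·#N' for some x ∈ P outside N. -/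
theorem result {P : Type*} [Group P] [Finite P] (p : ℕ) [Fact p.Prime] (hP : IsPGroup p P) (N : Subgroup P) [N.Normal] (hN : N.index = p) :
    ((commutator P).index = p ^ 2 ↔ ∀ x : P, x ∉ N →
        Nat.card {n : N // x * n * x⁻¹ * (n : P)⁻¹ ∈ (commutator N).map N.subtype} = p * Nat.card (commutator N)) ∧
    ((commutator P).index = p ^ 2 ↔ ∃ x : P, x ∉ N ∧
        Nat.card {n : N // x * n * x⁻¹ * (n : P)⁻¹ ∈ (commutator N).map N.subtype} = p * Nat.card (commutator N)) := by
  classical
  have key : ∀ x : P, x ∉ N → (commutator P).index * Nat.card (commutator N) =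
      p * Nat.card {n : N // x * n * x⁻¹ * (n : P)⁻¹ ∈ (commutator N).map N.subtype} := by
    intro x hx
    let c : N →* N := (MulAut.conjNormal x : MulAut N).toMonoidHom
    let ab : N →* Abelianization N := Abelianization.of
    haveI : Finite (Abelianization N) := Finite.of_surjective ab (QuotientGroup.mk'_surjective _)
    let D : N →* Abelianization N := (ab.comp c) / ab
    have hc : ∀ n : N, ((c n : N) : P) = x * n * x⁻¹ := fun n => MulAut.conjNormal_apply x n
    have hD : ∀ n : N, D n = ab (c n * n⁻¹) := fun n => by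
      rw [map_mul, map_inv]; exact div_eq_mul_inv (ab (c n)) (ab n)
    set S : Subgroup P := (D.range.comap ab).map N.subtype with hS
    have hcomm : ∀ n m : P, n ∈ N → m ∈ N → n * m * n⁻¹ * m⁻¹ ∈ S := by
      intro n m hn hm
      refine ⟨⟨n, hn⟩ * ⟨m, hm⟩ * ⟨n, hn⟩⁻¹ * ⟨m, hm⟩⁻¹, ⟨1, ?_⟩, rfl⟩
      rw [map_one, map_mul, map_mul, map_mul, map_inv, map_inv, mul_comm (ab _) (ab _),
        mul_inv_cancel_right, mul_inv_cancel]
    have hδ : ∀ n : P, n ∈ N → x * n * x⁻¹ * n⁻¹ ∈ S := by
      intro n hn
      exact ⟨c ⟨n, hn⟩ * ⟨n, hn⟩⁻¹, ⟨⟨n, hn⟩, hD _⟩, by simp [hc]⟩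
    have hSN : S ≤ N := Subgroup.map_subtype_le _
    have hgen : N ⊔ Subgroup.zpowers x = ⊤ := by
      have hlt : N < N ⊔ Subgroup.zpowers x :=
        lt_of_le_of_ne le_sup_left fun e =>
          hx (e ▸ Subgroup.mem_sup_right (Subgroup.mem_zpowers x))
      have hdvd := Subgroup.index_dvd_of_le hlt.le
      rw [hN, Nat.dvd_prime (Fact.out : p.Prime)] at hdvd
      rcases hdvd with h | h
      · exact Subgroup.index_eq_one.1 h
      · exact absurd (Subgroup.index_strictAnti hlt) (by rw [h, hN]; exact lt_irrefl _)
    have hnorm : N ⊔ Subgroup.zpowers x ≤ Subgroup.normalizer (S : Set P) := by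
      refine sup_le (fun n hn => Subgroup.mem_normalizer_fintype fun s hs => ?_)
        (Subgroup.zpowers_le.2 (Subgroup.mem_normalizer_fintype ?_))
      · have := hcomm n s hn (hSN hs)
        have h2 := mul_mem this hs
        simpa [mul_assoc] using h2
      · rintro _ ⟨m, ⟨k, hk⟩, rfl⟩
        refine ⟨c m, ⟨c k, ?_⟩, hc m⟩
        have hker : ∀ a b : N, ab a = ab b → ab (c a) = ab (c b) := by
          intro a b e
          have h1 := congrArg (Abelianization.map c) e
          rwa [Abelianization.map_of, Abelianization.map_of] at h1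
        have : ab m = ab (c k * k⁻¹) := by rw [← hk, hD]
        rw [hker _ _ this, hD, map_mul c, map_inv c]
    rw [hgen] at hnorm
    haveI hSn : S.Normal := Subgroup.normalizer_eq_top_iff.1 (top_le_iff.1 hnorm)
    have hle : commutator P ≤ S := by
      rw [commutator_def, Subgroup.commutator_le]
      have hq : ∀ a b : P, (QuotientGroup.mk' S) a * QuotientGroup.mk' S b =
          QuotientGroup.mk' S b * QuotientGroup.mk' S a ↔ a * b * a⁻¹ * b⁻¹ ∈ S := by
        intro a b
        rw [← QuotientGroup.eq_one_iff (N := S), ← QuotientGroup.mk'_apply S, map_mul, map_mul,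
          map_mul, map_inv, map_inv, mul_inv_eq_one, mul_inv_eq_iff_eq_mul]
      have h1 : ∀ a ∈ N, N ⊔ Subgroup.zpowers x ≤
          (Subgroup.centralizer {QuotientGroup.mk' S a}).comap (QuotientGroup.mk' S) := by
        intro a ha
        refine sup_le (fun b hb => ?_) (Subgroup.zpowers_le.2 ?_) <;>
          rw [Subgroup.mem_comap, Subgroup.mem_centralizer_singleton_iff]
        · exact (hq b a).2 (hcomm b a hb ha)
        · exact (hq x a).2 (hδ a ha)
      have h2 : N ⊔ Subgroup.zpowers x ≤
          (Subgroup.centralizer {QuotientGroup.mk' S x}).comap (QuotientGroup.mk' S) := by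
        refine sup_le (fun b hb => ?_) (Subgroup.zpowers_le.2 ?_) <;>
          rw [Subgroup.mem_comap, Subgroup.mem_centralizer_singleton_iff]
        · exact ((hq x b).2 (hδ b hb)).symm
      intro a _ b _
      refine (hq a b).1 ?_
      have h3 : N ⊔ Subgroup.zpowers x ≤
          (Subgroup.centralizer {QuotientGroup.mk' S b}).comap (QuotientGroup.mk' S) := by
        refine sup_le (fun n hn => ?_) (Subgroup.zpowers_le.2 ?_) <;>
          rw [Subgroup.mem_comap, Subgroup.mem_centralizer_singleton_iff]
        · exact (Subgroup.mem_centralizer_singleton_iff.1 (h1 n hn (hgen ▸ Subgroup.mem_top b))).symm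
        · exact (Subgroup.mem_centralizer_singleton_iff.1 (h2 (hgen ▸ Subgroup.mem_top b))).symm
      exact Subgroup.mem_centralizer_singleton_iff.1 (h3 (hgen ▸ Subgroup.mem_top a))
    have hge : S ≤ commutator P := by
      rintro _ ⟨m, ⟨k, hk⟩, rfl⟩
      rw [hD] at hk
      have h1 : m⁻¹ * (c k * k⁻¹) ∈ commutator N := by
        rw [← Abelianization.ker_of, MonoidHom.mem_ker, map_mul, map_inv]
        exact inv_mul_eq_one.2 hk.symm
      have h2 : N.subtype (m⁻¹ * (c k * k⁻¹)) ∈ commutator P := by
        have := Subgroup.mem_map_of_mem N.subtype h1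
        rw [commutator_def, Subgroup.map_commutator] at this
        exact commutator_def P ▸ Subgroup.commutator_mono le_top le_top this
      have h3 : N.subtype (c k * k⁻¹) ∈ commutator P := by
        rw [map_mul, map_inv, Subgroup.subtype_apply, Subgroup.subtype_apply, hc]
        exact Subgroup.commutator_mem_commutator (Subgroup.mem_top x) (Subgroup.mem_top (k : P))
      have := mul_mem h3 (inv_mem h2)
      rwa [← map_inv N.subtype, ← map_mul N.subtype, mul_inv_rev, inv_inv,
        mul_inv_cancel_left] at this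
    rw [le_antisymm hle hge]
    have hset : Nat.card {n : N // x * n * x⁻¹ * (n : P)⁻¹ ∈ (commutator N).map N.subtype} =
        Nat.card D.ker := by
      refine Nat.card_congr (Equiv.subtypeEquivRight fun n => ?_)
      rw [MonoidHom.mem_ker, hD, ← MonoidHom.mem_ker, Abelianization.ker_of, ← hc,
        ← Subgroup.coe_inv, ← Subgroup.coe_mul]
      exact Subgroup.mem_map_iff_mem (K := commutator N) (x := c n * n⁻¹) N.subtype_injective
    have hcardS : Nat.card S = Nat.card D.range * Nat.card (commutator N) := by
      rw [hS, Subgroup.card_subtype, ← Abelianization.ker_of]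
      have hab : Function.Surjective ab := QuotientGroup.mk'_surjective _
      have e1 := (D.range.comap ab).card_mul_index
      rw [Subgroup.index_comap_of_surjective _ hab, ← ab.ker.card_mul_index, Subgroup.index_ker,
        MonoidHom.range_eq_top.2 hab, Subgroup.card_top, ← D.range.card_mul_index, ← mul_assoc] at e1
      exact (Nat.eq_of_mul_eq_mul_right (Nat.pos_of_ne_zero Subgroup.index_ne_zero_of_finite) e1).trans
        (mul_comm _ _)
    have hP := S.card_mul_index
    rw [← N.card_mul_index, hN, ← D.ker.card_mul_index, Subgroup.index_ker, hcardS] at hP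
    rw [hset]
    refine Nat.eq_of_mul_eq_mul_left (Nat.card_pos (α := D.range)) ?_
    linarith [hP]
  have hiff : ∀ x : P, x ∉ N → ((commutator P).index = p ^ 2 ↔
      Nat.card {n : N // x * n * x⁻¹ * (n : P)⁻¹ ∈ (commutator N).map N.subtype} = p * Nat.card (commutator N)) := by
    intro x hx
    have h := key x hx
    have hp0 : 0 < p := (Fact.out : p.Prime).pos
    constructor
    · intro e
      rw [e, sq, mul_assoc] at h
      exact (Nat.eq_of_mul_eq_mul_left hp0 h).symm
    · intro e
      rw [e, ← mul_assoc, ← sq] at h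
      exact Nat.eq_of_mul_eq_mul_right Nat.card_pos h
  obtain ⟨x₀, hx₀⟩ : ∃ x : P, x ∉ N := by
    by_contra h
    push Not at h
    have : N = ⊤ := eq_top_iff.2 fun x _ => h x
    rw [this, Subgroup.index_top] at hN
    exact (Fact.out : p.Prime).ne_one hN.symm
  exact ⟨⟨fun h x hx => (hiff x hx).1 h, fun h => (hiff x₀ hx₀).2 (h x₀ hx₀)⟩,
    ⟨fun h => ⟨x₀, hx₀, (hiff x₀ hx₀).1 h⟩, fun ⟨x, hx, h⟩ => (hiff x hx).2 h⟩⟩

end Cfsg.Agent.S4586
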