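import Cfsg.Statements.S4587
import Cfsg.Agent.Lib.Grp.AbelianizationSq
import Cfsg.Agent.Lib.Grp.Solvable
import Cfsg.Agent.Lib.Grp.Subnormal

set_option autoImplicit false
open Cfsg

namespace Cfsg.Agent.S4587
open scoped commutatorElement Pointwise
open Cfsg.Agent.Grp.AbSq

set_option maxHeartbeats 1000000

variable {G : Type*} [Group G] [Finite G] {p : ℕ} [hp : Fact p.Prime] (P : Sylow p G)

omit [Finite G] hp in
theorem relIndex_comm : (⁅(P : Subgroup G), (P : Subgroup G)⁆).relIndex (P : Subgroup G) =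
    (commutator (P : Subgroup G)).index := by
  rw [← Subgroup.map_subtype_commutator, Subgroup.relIndex, Subgroup.subgroupOf,
    Subgroup.comap_map_eq_self_of_injective (P : Subgroup G).subtype_injective]

/-- Tate: a subnormal subgroup meeting `P` inside `P'` is a `p`-group inside `O_p(G)`. -/
theorem pgroup_of_inf_le (hcore : Cfsg.pPrimeCore p G = ⊥) {N L : Subgroup G} [N.Normal]
    (hLN : L ≤ N) (hNL : N ≤ Subgroup.normalizer (L : Set G))
    (hPL : (P : Subgroup G) ≤ Subgroup.normalizer (L : Set G))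
    (h : L ⊓ (P : Subgroup G) ≤ ⁅(P : Subgroup G), (P : Subgroup G)⁆) :
    IsPGroup p L ∧ L ≤ Cfsg.pCore p G := by
  set H := (P : Subgroup G) ⊔ L with hH
  haveI : (L.subgroupOf H).Normal :=
    Subgroup.normal_subgroupOf_iff_le_normalizer le_sup_right |>.2
      (sup_le hPL Subgroup.le_normalizer)
  set P₁ : Sylow p H := P.subtype le_sup_left with hP₁
  let i : (P : Subgroup G) →* (P₁ : Subgroup H) :=
    { toFun := fun z => ⟨⟨z, le_sup_left (b := L) z.2⟩, z.2⟩
      map_one' := rfl
      map_mul' := fun _ _ => rfl }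
  have hnpc := Cfsg.Agent.Transfer.hasNormalPComplement_of_inf_le_frattini P₁ (L.subgroupOf H)
    (fun x hx => by
      have hx' : (x : G) ∈ L ⊓ (P : Subgroup G) := ⟨hx.1, hx.2⟩
      have h2 := h hx'
      rw [← Subgroup.map_subtype_commutator] at h2
      obtain ⟨y, hy, hyx⟩ := h2
      have hiy : i y ∈ commutator (P₁ : Subgroup H) := by
        have := Subgroup.mem_map_of_mem i hy
        rw [commutator_def, Subgroup.map_commutator] at this
        exact Subgroup.commutator_mono le_top le_top this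
      refine ⟨i y, ?_, Subtype.ext hyx⟩
      show i y ∈ frattini (P₁ : Subgroup H)
      refine Subgroup.mem_iInf.2 fun K => Subgroup.mem_iInf.2 fun hK => ?_
      haveI : K.Normal := Subgroup.NormalizerCondition.normal_of_coatom K
        (Group.normalizerCondition_of_isNilpotent (h := P₁.isPGroup'.isNilpotent)) hK
      exact Cfsg.Agent.Transfer.commutator_le_of_index_prime
        (Cfsg.Agent.Transfer.coatom_index_eq P₁.isPGroup' hK) hiy)
  rw [Cfsg.Agent.Transfer.hasNormalPComplement_congr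
    (Subgroup.subgroupOfEquivOfLe (le_sup_right : L ≤ H))] at hnpc
  obtain ⟨K, hK, hKd, k, hk⟩ := Cfsg.Agent.Transfer.hasNormalPComplement_iff_exists.1 hnpc
  have hLsub : L.IsSubnormal := by
    refine Subgroup.IsSubnormal.trans hLN (Subgroup.Normal.isSubnormal ?_)
      (Subgroup.Normal.isSubnormal inferInstance)
    exact (Subgroup.normal_subgroupOf_iff_le_normalizer hLN).2 hNL
  have hKbot : K = ⊥ := by
    have hle := Cfsg.Agent.Grp.le_pPrimeCore_of_isSubnormal (p := p)
      (Subgroup.IsSubnormal.trans' hK.isSubnormal hLsub)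
      (by
        rw [Subgroup.card_map_of_injective L.subtype_injective]
        exact (hp.out.coprime_iff_not_dvd.2 hKd).symm)
    rw [hcore, le_bot_iff, Subgroup.map_eq_bot_iff_of_injective _ L.subtype_injective] at hle
    exact hle
  rw [hKbot, Subgroup.index_bot] at hk
  have hpL : IsPGroup p L := IsPGroup.of_card hk
  exact ⟨hpL, Cfsg.Agent.Grp.le_pCore_of_isSubnormal hLsub hpL⟩

/-- Centralisers in `P` map into centralisers in `G`. -/
theorem cent_dvd (x : G) (g : G) (y : (P : Subgroup G)) (hxy : g * (y : G) * g⁻¹ = x) :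
    Nat.card (Subgroup.centralizer ({y} : Set (P : Subgroup G))) ∣
      p ^ (Nat.card (Subgroup.centralizer ({x} : Set G))).factorization p := by
  set C := Subgroup.centralizer ({y} : Set (P : Subgroup G))
  have h1 : Nat.card C ∣ Nat.card (Subgroup.centralizer ({x} : Set G)) := by
    rw [← Subgroup.card_map_of_injective (f := (MulAut.conj g).toMonoidHom.comp
      (P : Subgroup G).subtype) (fun a b h => (P : Subgroup G).subtype_injective ((MulAut.conj g).injective h))]
    refine Subgroup.card_dvd_of_le ?_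
    rintro _ ⟨c, hc, rfl⟩
    rw [Subgroup.mem_centralizer_singleton_iff]
    have hc' := congrArg Subtype.val (Subgroup.mem_centralizer_singleton_iff.1 hc)
    simp only [Subgroup.coe_mul] at hc'
    show g * (c : G) * g⁻¹ * x = x * (g * (c : G) * g⁻¹)
    rw [← hxy]
    calc g * (c : G) * g⁻¹ * (g * (y : G) * g⁻¹) = g * ((c : G) * (y : G)) * g⁻¹ := by group
      _ = g * ((y : G) * (c : G)) * g⁻¹ := by rw [hc']
      _ = _ := by group
  obtain ⟨j, hj⟩ := IsPGroup.iff_card.1 (P.isPGroup'.to_subgroup C)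
  rw [hj] at h1 ⊢
  exact Nat.pow_dvd_pow p ((hp.out.pow_dvd_iff_le_factorization Nat.card_pos.ne').1 h1)

/-- A `p`-element has a conjugate in `P` whose centraliser in `P` has the full `p`-part. -/
theorem exists_full (x : G) (hx : ∃ k : ℕ, orderOf x = p ^ k) :
    ∃ (g : G) (y : (P : Subgroup G)), g * (y : G) * g⁻¹ = x ∧
      p ^ (Nat.card (Subgroup.centralizer ({x} : Set G))).factorization p ∣
        Nat.card (Subgroup.centralizer ({y} : Set (P : Subgroup G))) := by
  set C := Subgroup.centralizer ({x} : Set G) with hC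
  obtain ⟨S⟩ := (inferInstance : Nonempty (Sylow p C))
  have hxC : x ∈ C := Subgroup.mem_centralizer_singleton_iff.2 rfl
  have hxS : (⟨x, hxC⟩ : C) ∈ (S : Subgroup C) := by
    obtain ⟨k, hk⟩ := hx
    haveI hn : (Subgroup.zpowers (⟨x, hxC⟩ : C)).Normal := by
      refine ⟨fun n hn c => ?_⟩
      have hz : (⟨x, hxC⟩ : C) ∈ Subgroup.center C := Subgroup.mem_center_iff.2
        fun d => Subtype.ext (Subgroup.mem_centralizer_singleton_iff.1 d.2)
      rw [Subgroup.mem_center_iff.1 (Subgroup.zpowers_le.2 hz hn) c, mul_inv_cancel_right]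
      exact hn
    have hpz : IsPGroup p (Subgroup.zpowers (⟨x, hxC⟩ : C)) :=
      IsPGroup.of_card (n := k) (by rw [Nat.card_zpowers, Subgroup.orderOf_mk, hk])
    exact hpz.le_sylow_of_normal S (Subgroup.mem_zpowers _)
  obtain ⟨T, hT⟩ := (S.isPGroup'.map C.subtype).exists_le_sylow
  obtain ⟨g, hg⟩ := MulAction.exists_smul_eq G P T
  have hconj : ∀ s ∈ (S : Subgroup C).map C.subtype, g⁻¹ * s * g ∈ (P : Subgroup G) := by
    intro s hs
    have : s ∈ ((g • P : Sylow p G) : Subgroup G) := hg ▸ hT hs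
    rw [Sylow.coe_subgroup_smul, Subgroup.mem_pointwise_smul_iff_inv_smul_mem] at this
    simpa [MulAut.smul_def] using this
  have hy : g⁻¹ * x * g ∈ (P : Subgroup G) := hconj x ⟨_, hxS, rfl⟩
  refine ⟨g, ⟨_, hy⟩, by show g * (g⁻¹ * x * g) * g⁻¹ = x; group, ?_⟩
  rw [← S.card_eq_multiplicity]
  let f : (S : Subgroup C) →* (P : Subgroup G) :=
    { toFun := fun s => ⟨g⁻¹ * ((s : C) : G) * g, hconj _ ⟨_, s.2, rfl⟩⟩
      map_one' := by ext; simp
      map_mul' := fun a b => by ext; simp [mul_assoc] }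
  have hf : Function.Injective f := fun a b h => by
    have := congrArg Subtype.val h
    simp only [f, MonoidHom.coe_mk, OneHom.coe_mk, mul_left_inj, mul_right_inj] at this
    exact Subtype.ext (Subtype.ext this)
  have hr : f.range ≤ Subgroup.centralizer ({⟨_, hy⟩} : Set (P : Subgroup G)) := by
    rintro _ ⟨s, rfl⟩
    rw [Subgroup.mem_centralizer_singleton_iff]
    apply Subtype.ext
    show g⁻¹ * ((s : C) : G) * g * (g⁻¹ * x * g) = g⁻¹ * x * g * (g⁻¹ * ((s : C) : G) * g)
    calc g⁻¹ * ((s : C) : G) * g * (g⁻¹ * x * g) = g⁻¹ * (((s : C) : G) * x) * g := by group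
      _ = g⁻¹ * (x * ((s : C) : G)) * g := by
        rw [Subgroup.mem_centralizer_singleton_iff.1 (s : C).2]
      _ = _ := by group
  rw [Nat.card_congr (MonoidHom.ofInjective hf).toEquiv]
  exact Subgroup.card_dvd_of_le hr

omit hp in
/-- The derived quotient is bounded by centralisers. -/
theorem index_le_card_cent {E : Type*} [Group E] [Finite E] (y : E) :
    (commutator E).index ≤ Nat.card (Subgroup.centralizer ({y} : Set E)) := by
  set C := Subgroup.centralizer ({y} : Set E)
  have h1 : C.index ≤ Nat.card (commutator E) := by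
    rw [Subgroup.index_eq_card]
    refine Nat.card_le_card_of_injective (fun t => ⟨⁅t.out, y⁆,
      Subgroup.commutator_mem_commutator (Subgroup.mem_top _) (Subgroup.mem_top _)⟩) fun a b h => ?_
    rw [← QuotientGroup.out_eq' a, ← QuotientGroup.out_eq' b, QuotientGroup.eq,
      Subgroup.mem_centralizer_singleton_iff]
    have h' : a.out * y * a.out⁻¹ = b.out * y * b.out⁻¹ := by
      have := congrArg Subtype.val h
      simp only [commutatorElement_def, mul_left_inj] at this
      exact this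
    calc a.out⁻¹ * b.out * y = a.out⁻¹ * (b.out * y * b.out⁻¹) * b.out := by group
      _ = a.out⁻¹ * (a.out * y * a.out⁻¹) * b.out := by rw [h']
      _ = _ := by group
  refine Nat.le_of_mul_le_mul_left ?_ (Nat.card_pos (α := commutator E))
  rw [Subgroup.card_mul_index, ← C.index_mul_card]
  exact Nat.mul_le_mul_right _ h1

/-- A normal subgroup with abelian trace of index `p` on `P` gives the element. -/
theorem exists_of_index_p (h : (commutator (P : Subgroup G)).index = p ^ 2) (N : Subgroup G)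
    [N.Normal] (hQi : (N.subgroupOf (P : Subgroup G)).index = p)
    (hQ : ∀ a ∈ N.subgroupOf (P : Subgroup G), ∀ b ∈ N.subgroupOf (P : Subgroup G), a * b = b * a) :
    ∃ x : G, (∃ k : ℕ, orderOf x = p ^ k) ∧
      (Nat.card (Subgroup.centralizer ({x} : Set G))).factorization p = 2 := by
  obtain ⟨y, hy⟩ : ∃ y, y ∉ N.subgroupOf (P : Subgroup G) := by
    by_contra hall
    push Not at hall
    rw [(Subgroup.eq_top_iff' _).2 hall, Subgroup.index_top] at hQi
    exact hp.out.ne_one hQi.symm
  have hx : ∃ k : ℕ, orderOf (y : G) = p ^ k := by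
    obtain ⟨k, hk⟩ := IsPGroup.iff_orderOf.1 P.isPGroup' y
    exact ⟨k, by rw [Subgroup.orderOf_coe, hk]⟩
  refine ⟨(y : G), hx, ?_⟩
  obtain ⟨g, z, hz, hd⟩ := exists_full P (y : G) hx
  have hzN : z ∉ N.subgroupOf (P : Subgroup G) := fun hzN => hy (by
    rw [Subgroup.mem_subgroupOf] at hzN ⊢
    exact hz ▸ Subgroup.Normal.conj_mem inferInstance _ hzN g)
  rw [card_centralizer h _ hQi hQ hzN] at hd
  have h1 := cent_dvd P (y : G) 1 y (by simp)
  rw [card_centralizer h _ hQi hQ hy] at h1
  exact le_antisymm (Nat.pow_dvd_pow_iff_le_right hp.out.one_lt |>.1 hd)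
    (Nat.pow_dvd_pow_iff_le_right hp.out.one_lt |>.1 h1)

omit hp in
/-- A subnormal minimal subgroup of `N`. -/
def IsMinIn (N L : Subgroup G) : Prop :=
  L ≤ N ∧ L ≠ ⊥ ∧ N ≤ Subgroup.normalizer (L : Set G) ∧
    ∀ K : Subgroup G, K ≤ L → N ≤ Subgroup.normalizer (K : Set G) → K = ⊥ ∨ K = L

/-- Let G be a finite group, p a prime and P a Sylow p-subgroup of order at least p². Assume that G has no nontrivial normal subgroup of order prime to p, that the derived subgroup P' of P contains no nontrivial normal subgroup of G, and that G is not almost simple (there is no non-abelian simple normal subgroup of G with trivial centralizer). Then [P : P'] = p² if and only if some p-element x of G has centralizer whose order has p-part exactly p². -/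
theorem result {G : Type*} [Group G] [Finite G] (p : ℕ) [Fact p.Prime] (P : Sylow p G) (hbig : p ^ 2 ∣ Nat.card G) (hcore : Cfsg.pPrimeCore p G = ⊥)
    (hcore' : (⁅(P : Subgroup G), (P : Subgroup G)⁆).normalCore = ⊥) (hnas : ¬ ∃ S : Subgroup G, S.Normal ∧ IsSimpleGroup S ∧ ¬ IsMulCommutative S ∧ Subgroup.centralizer (S : Set G) = ⊥) :
    (⁅(P : Subgroup G), (P : Subgroup G)⁆).relIndex (P : Subgroup G) = p ^ 2 ↔
      ∃ x : G, (∃ k : ℕ, orderOf x = p ^ k) ∧ (Nat.card (Subgroup.centralizer ({x} : Set G))).factorization p = 2 := by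
  classical
  have hp : Fact p.Prime := inferInstance
  rw [relIndex_comm]
  have hE := P.isPGroup'
  have hne : ∀ (i : ℕ), i ≤ 1 → (commutator (P : Subgroup G)).index ≠ p ^ i := by
    intro i hi he
    have hbot := commutator_eq_bot hE (he ▸ (pow_dvd_pow p hi).trans (pow_one p).dvd)
    rw [hbot, Subgroup.index_bot, P.card_eq_multiplicity] at he
    have := Nat.pow_right_injective hp.out.two_le he
    have h2 := (hp.out.pow_dvd_iff_le_factorization Nat.card_pos.ne').1 hbig
    omega
  constructor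
  swap
  · rintro ⟨x, hx, hxc⟩
    obtain ⟨g, y, hy, -⟩ := exists_full P x hx
    have h1 := Nat.le_of_dvd (pow_pos hp.out.pos _) (cent_dvd P x g y hy)
    rw [hxc] at h1
    have h2 := (index_le_card_cent y).trans h1
    obtain ⟨j, hj⟩ := hE.index (commutator (P : Subgroup G))
    rw [hj] at h2
    have hj2 : j ≤ 2 := (Nat.pow_le_pow_iff_right hp.out.one_lt).1 h2
    rw [hj]
    congr 1
    by_contra hne2
    exact hne j (by omega) hj
  intro h
  by_cases hab : commutator (P : Subgroup G) = ⊥
  · refine ⟨1, ⟨0, by simp⟩, ?_⟩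
    rw [hab, Subgroup.index_bot, P.card_eq_multiplicity] at h
    rw [show Subgroup.centralizer ({1} : Set G) = ⊤ from eq_top_iff.2 fun g _ =>
      Subgroup.mem_centralizer_singleton_iff.2 (by simp), Subgroup.card_top]
    exact Nat.pow_right_injective hp.out.two_le h
  set E' := commutator (P : Subgroup G) with hE'
  haveI : Nontrivial G := by
    rw [← Finite.one_lt_card_iff_nontrivial]
    exact lt_of_lt_of_le (Nat.one_lt_pow two_ne_zero hp.out.one_lt) (Nat.le_of_dvd Nat.card_pos hbig)
  obtain ⟨N, hNn, hN1, -, hmin⟩ :=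
    Cfsg.Agent.Grp.exists_minimal_normal_le (G := G) (N := ⊤) top_ne_bot
  haveI := hNn
  -- traces of normal subgroups lie above the derived subgroup
  have htr : ∀ M : Subgroup G, M.Normal → M ≠ ⊥ → E' ≤ M.subgroupOf (P : Subgroup G) ∧
      ¬ M.subgroupOf (P : Subgroup G) ≤ E' := by
    intro M hM hM1
    haveI := hM
    have hnle : ¬ M.subgroupOf (P : Subgroup G) ≤ E' := by
      intro hle
      have h' : M ⊓ (P : Subgroup G) ≤ ⁅(P : Subgroup G), (P : Subgroup G)⁆ := by
        rw [← Subgroup.map_subtype_commutator, ← Subgroup.subgroupOf_map_subtype]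
        exact Subgroup.map_mono hle
      obtain ⟨-, hMc⟩ := pgroup_of_inf_le P hcore (N := M) le_rfl Subgroup.le_normalizer
        (by rw [Subgroup.normalizer_eq_top]; exact le_top) h'
      have hMP : M ≤ (P : Subgroup G) := hMc.trans (Cfsg.Agent.Grp.pCore_le_sylow P)
      rw [inf_eq_left.2 hMP] at h'
      exact hM1 (le_bot_iff.1 (hcore' ▸ Subgroup.normal_le_normalCore.2 h'))
    exact ⟨commutator_le hE h _ hnle, hnle⟩
  have huniq : ∀ M : Subgroup G, M.Normal → M ≠ ⊥ → N ≤ M := by
    intro M hM hM1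
    rcases hmin (N ⊓ M) (Subgroup.normal_inf_normal N M) inf_le_left with h0 | h0
    · exfalso
      apply hab
      have h1 := le_inf (htr N hNn hN1).1 (htr M hM hM1).1
      rw [show N.subgroupOf (P : Subgroup G) ⊓ M.subgroupOf (P : Subgroup G) =
        (N ⊓ M).subgroupOf (P : Subgroup G) from rfl, h0, Subgroup.bot_subgroupOf, le_bot_iff] at h1
      exact h1
    · exact inf_eq_left.1 h0
  set Q := N.subgroupOf (P : Subgroup G) with hQ
  -- the index is `p` as soon as `Q` is proper
  have hindex : Q ≠ ⊤ → Q.index = p := by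
    intro hQt
    obtain ⟨hle, hnle⟩ := htr N hNn hN1
    have hd := Subgroup.index_dvd_of_le hle
    rw [h] at hd
    obtain ⟨i, hi, he⟩ := (Nat.dvd_prime_pow hp.out).1 hd
    rcases (show i = 0 ∨ i = 1 ∨ i = 2 by omega) with rfl | rfl | rfl
    · exact absurd (Subgroup.index_eq_one.1 (he.trans (pow_zero p))) hQt
    · simpa using he
    · exfalso
      have hmul := Subgroup.relIndex_mul_index hle
      rw [he, h] at hmul
      exact hnle (Subgroup.relIndex_eq_one.1 ((mul_eq_right₀ (pow_ne_zero 2 hp.out.ne_zero)).1 hmul))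
  by_cases hNab : IsMulCommutative N
  · have hQab : ∀ a ∈ Q, ∀ b ∈ Q, a * b = b * a := fun a ha b hb => by
      have h9 := congrArg Subtype.val (hNab.is_comm.comm (⟨(a : G), ha⟩ : N) ⟨(b : G), hb⟩)
      exact Subtype.ext h9
    refine exists_of_index_p P h N (hindex fun ht => hab (eq_bot_of_comm fun a b => ?_)) hQab
    exact hQab a (ht ▸ Subgroup.mem_top a) b (ht ▸ Subgroup.mem_top b)
  -- `N` is not abelian
  have hcentN : Subgroup.centralizer (N : Set G) = ⊥ := by
    by_contra hC
    have h1 := huniq _ inferInstance hC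
    exact hNab ⟨⟨fun a b => Subtype.ext ((Subgroup.mem_centralizer_iff.1 (h1 b.2)) _ a.2)⟩⟩
  have hpcN : N ⊓ Cfsg.pCore p G = ⊥ := by
    haveI := Cfsg.Agent.Grp.pCore_isNormal (p := p) (G := G)
    rcases hmin _ (Subgroup.normal_inf_normal N (Cfsg.pCore p G)) inf_le_left with h0 | h0
    · exact h0
    exfalso
    have hNp : IsPGroup p N := (Cfsg.Agent.Grp.pCore_isPGroup (p := p) (G := G)).to_le
      (inf_eq_left.1 h0)
    haveI := hNp.isNilpotent
    exact hNab (Cfsg.Agent.Grp.minimal_normal_solvable inferInstance hN1 hmin).1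
  -- facts about a minimal subgroup of `N`
  have hconjmin : ∀ L, IsMinIn N L → ∀ g : G, IsMinIn N (MulAut.conj g • L) := by
    rintro L ⟨h1, h2, h3, h4⟩ g
    have hnorm : ∀ (K : Subgroup G) (g : G), N ≤ Subgroup.normalizer (K : Set G) →
        N ≤ Subgroup.normalizer ((MulAut.conj g • K : Subgroup G) : Set G) := by
      intro K g hK n hn
      rw [Subgroup.mem_normalizer_iff]
      intro x
      have hn' : g⁻¹ * n * g ∈ Subgroup.normalizer (K : Set G) :=
        hK (by simpa using Subgroup.Normal.conj_mem inferInstance n hn g⁻¹)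
      simp only [Subgroup.mem_pointwise_smul_iff_inv_smul_mem, MulAut.smul_def, ← map_inv,
        MulAut.conj_apply, inv_inv]
      rw [(Subgroup.mem_normalizer_iff.1 hn') (g⁻¹ * x * g)]
      simp [mul_assoc]
    refine ⟨?_, fun hb => h2 ?_, hnorm L g h3, fun K hK hKn => ?_⟩
    · rintro _ ⟨x, hx, rfl⟩
      exact Subgroup.Normal.conj_mem inferInstance x (h1 hx) g
    · have := congrArg (fun S : Subgroup G => (MulAut.conj g)⁻¹ • S) hb
      simpa using this
    · rcases h4 ((MulAut.conj g)⁻¹ • K) (fun x hx => by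
        rw [Subgroup.mem_pointwise_smul_iff_inv_smul_mem, inv_inv] at hx
        have := hK hx
        rw [Subgroup.mem_pointwise_smul_iff_inv_smul_mem, inv_smul_smul] at this
        exact this)
        (by rw [← map_inv]; exact hnorm K g⁻¹ hKn) with h5 | h5
      · left
        have := congrArg (fun S : Subgroup G => MulAut.conj g • S) h5
        simpa using this
      · right
        rw [← h5, smul_inv_smul]
  have hgenN : ∀ L, IsMinIn N L → ∀ T : Subgroup G,
      (∀ g : G, MulAut.conj g • L ≤ T) → N ≤ T := by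
    rintro L ⟨h1, h2, -, -⟩ T hT
    refine (huniq (Subgroup.normalClosure (L : Set G)) Subgroup.normalClosure_normal fun hb => h2
      (le_bot_iff.1 (hb ▸ Subgroup.le_normalClosure))).trans ?_
    rw [Subgroup.normalClosure, Subgroup.closure_le]
    intro x hx
    obtain ⟨a, ha, hc⟩ := Group.mem_conjugatesOfSet_iff.1 hx
    obtain ⟨g, rfl⟩ := isConj_iff.1 hc
    exact hT g ⟨a, ha, rfl⟩
  have hconjC : ∀ L, IsMinIn N L → ∀ g : G, MulAut.conj g • L ≠ L →
      MulAut.conj g • L ≤ Subgroup.centralizer (L : Set G) := by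
    intro L hL g hne'
    obtain ⟨h1, h2, h3, h4⟩ := hL
    obtain ⟨k1, k2, k3, k4⟩ := hconjmin L ⟨h1, h2, h3, h4⟩ g
    have hinf : L ⊓ (MulAut.conj g • L) = ⊥ := by
      have hn : N ≤ Subgroup.normalizer ((L ⊓ (MulAut.conj g • L) : Subgroup G) : Set G) :=
        (le_inf h3 k3).trans Subgroup.inf_normalizer_le_normalizer_inf
      rcases h4 _ inf_le_left hn with h5 | h5
      · exact h5
      rcases k4 _ inf_le_right hn with h6 | h6
      · exact h6
      exact absurd (h6.symm.trans h5) hne'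
    intro b hb
    rw [Subgroup.mem_centralizer_iff]
    intro a ha
    have : ⁅a, b⁆ ∈ L ⊓ (MulAut.conj g • L) := ⟨by
      rw [commutatorElement_def, mul_assoc a b, mul_assoc a]
      exact mul_mem ha (((Subgroup.mem_normalizer_iff.1 (h3 (k1 hb))) a⁻¹).1 (L.inv_mem ha)), by
      rw [commutatorElement_def]
      exact mul_mem (((Subgroup.mem_normalizer_iff.1 (k3 (h1 ha))) b).1 hb) ((MulAut.conj g • L).inv_mem hb)⟩
    rw [hinf, Subgroup.mem_bot, commutatorElement_eq_one_iff_mul_comm] at this
    exact this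
  -- the main facts
  have hmain : ∀ L, IsMinIn N L →
      L ⊓ Subgroup.centralizer (L : Set G) = ⊥ ∧
      N ≤ L ⊔ (N ⊓ Subgroup.centralizer (L : Set G)) ∧
      ¬ (P : Subgroup G) ≤ Subgroup.normalizer (L : Set G) := by
    intro L hL
    obtain ⟨h1, h2, h3, h4⟩ := hL
    have hCn : Subgroup.normalizer (L : Set G) ≤
        Subgroup.normalizer ((Subgroup.centralizer (L : Set G) : Subgroup G) : Set G) :=
      (Subgroup.normal_subgroupOf_iff_le_normalizer (Subgroup.centralizer_le_normalizer _)).1 inferInstance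
    have hZ : L ⊓ Subgroup.centralizer (L : Set G) = ⊥ := by
      refine (h4 _ inf_le_left ((le_inf h3 (h3.trans hCn)).trans
        Subgroup.inf_normalizer_le_normalizer_inf)).resolve_right fun he => h2 ?_
      rw [← le_bot_iff, ← hcentN]
      intro a ha
      rw [Subgroup.mem_centralizer_iff]
      intro n hn
      have hNC : N ≤ Subgroup.centralizer (L : Set G) := hgenN L ⟨h1, h2, h3, h4⟩ _ fun g => by
        by_cases hg : MulAut.conj g • L = L
        · rw [hg]; exact inf_eq_left.1 he
        · exact hconjC L ⟨h1, h2, h3, h4⟩ g hg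
      exact ((Subgroup.mem_centralizer_iff.1 (hNC hn)) a ha).symm
    have hNsup : N ≤ L ⊔ (N ⊓ Subgroup.centralizer (L : Set G)) :=
      hgenN L ⟨h1, h2, h3, h4⟩ _ fun g => by
        by_cases hg : MulAut.conj g • L = L
        · rw [hg]; exact le_sup_left
        · exact le_sup_of_le_right
            (le_inf (hconjmin L ⟨h1, h2, h3, h4⟩ g).1 (hconjC L ⟨h1, h2, h3, h4⟩ g hg))
    refine ⟨hZ, hNsup, fun hPL => ?_⟩
    set C := N ⊓ Subgroup.centralizer (L : Set G) with hC
    have hNC : N ≤ Subgroup.normalizer (C : Set G) :=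
      (le_inf Subgroup.le_normalizer (h3.trans hCn)).trans Subgroup.inf_normalizer_le_normalizer_inf
    have hPC : (P : Subgroup G) ≤ Subgroup.normalizer (C : Set G) :=
      (le_inf (by rw [Subgroup.normalizer_eq_top]; exact le_top) (hPL.trans hCn)).trans
        Subgroup.inf_normalizer_le_normalizer_inf
    have hC0 : C ≠ ⊥ := by
      intro hC0
      rw [hC0, sup_bot_eq] at hNsup
      obtain rfl : L = N := le_antisymm h1 hNsup
      refine hnas ⟨L, hNn, ?_, hNab, hcentN⟩
      haveI : Nontrivial L := (Subgroup.nontrivial_iff_ne_bot L).2 h2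
      refine ⟨fun K hK => ?_⟩
      have hKn : L ≤ Subgroup.normalizer ((K.map L.subtype : Subgroup G) : Set G) := by
        have hh := Subgroup.le_normalizer_map L.subtype (H := K)
        rw [Subgroup.normalizer_eq_top, ← MonoidHom.range_eq_map, Subgroup.range_subtype] at hh
        exact hh
      rcases h4 (K.map L.subtype) (Subgroup.map_subtype_le K) hKn with h5 | h5
      · exact Or.inl ((Subgroup.map_eq_bot_iff_of_injective _ L.subtype_injective).1 h5)
      · refine Or.inr (Subgroup.map_injective L.subtype_injective (h5.trans ?_))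
        rw [← MonoidHom.range_eq_map, Subgroup.range_subtype]
    have side : ∀ K : Subgroup G, K ≤ N → K ≠ ⊥ → N ≤ Subgroup.normalizer (K : Set G) →
        (P : Subgroup G) ≤ Subgroup.normalizer (K : Set G) → E' ≤ K.subgroupOf (P : Subgroup G) := by
      intro K hKN hK1 hNK hPK
      haveI : (K.subgroupOf (P : Subgroup G)).Normal :=
        ⟨fun x hx n => by
          rw [Subgroup.mem_subgroupOf] at hx ⊢
          exact ((Subgroup.mem_normalizer_iff.1 (hPK n.2)) _).1 hx⟩
      refine commutator_le hE h _ fun hle => hK1 ?_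
      obtain ⟨-, hc⟩ := pgroup_of_inf_le P hcore hKN hNK hPK (by
        rw [← Subgroup.map_subtype_commutator, ← Subgroup.subgroupOf_map_subtype]
        exact Subgroup.map_mono hle)
      exact le_bot_iff.1 (hpcN ▸ le_inf hKN hc)
    apply hab
    have hh := le_inf (side L h1 h2 h3 hPL) (side C inf_le_left hC0 hNC hPC)
    rw [show L.subgroupOf (P : Subgroup G) ⊓ C.subgroupOf (P : Subgroup G) =
      (L ⊓ C).subgroupOf (P : Subgroup G) from rfl,
      show L ⊓ C = ⊥ from le_bot_iff.1 ((inf_le_inf_left L inf_le_right).trans hZ.le),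
      Subgroup.bot_subgroupOf, le_bot_iff] at hh
    exact hh
  obtain ⟨L₀, -, hL₀⟩ := (Set.toFinite {K : Subgroup G | K ≤ N ∧ K ≠ ⊥ ∧
    N ≤ Subgroup.normalizer (K : Set G)}).exists_le_minimal (a := N) ⟨le_rfl, hN1, Subgroup.le_normalizer⟩
  have hL₀' : IsMinIn N L₀ := by
    refine ⟨hL₀.1.1, hL₀.1.2.1, hL₀.1.2.2, fun K hK hKn => ?_⟩
    by_cases hK0 : K = ⊥
    · exact Or.inl hK0
    · exact Or.inr (le_antisymm hK (hL₀.2 ⟨hK.trans hL₀.1.1, hK0, hKn⟩ hK))
  have hQt : Q ≠ ⊤ := fun ht => (hmain L₀ hL₀').2.2 fun x hx =>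
    hL₀'.2.2.1 ((ht ▸ Subgroup.mem_top _ : (⟨x, hx⟩ : (P : Subgroup G)) ∈ Q))
  have hQi := hindex hQt
  obtain ⟨y, hy⟩ : ∃ y, y ∉ Q := by
    by_contra hall
    push Not at hall
    exact hQt ((Subgroup.eq_top_iff' _).2 hall)
  have hcardN : ∀ W : Subgroup G, W ≤ N → IsPGroup p W → N ⊓ (P : Subgroup G) ≤ W →
      W = N ⊓ (P : Subgroup G) := by
    intro W hWN hWp hle
    refine (Subgroup.eq_of_le_of_card_ge hle ?_).symm
    obtain ⟨a, ha⟩ := IsPGroup.iff_card.1 hWp
    have h1 := Subgroup.card_dvd_of_le hWN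
    have h2 := Cfsg.Agent.Grp.card_mul_relIndex (inf_le_left : N ⊓ (P : Subgroup G) ≤ N)
    rw [inf_comm, Subgroup.inf_relIndex_right] at h2
    rw [← h2] at h1
    have h3 : Nat.card W ∣ Nat.card ((P : Subgroup G) ⊓ N : Subgroup G) := by
      rw [ha] at h1 ⊢
      exact (Nat.Coprime.pow_left a (hp.out.coprime_iff_not_dvd.2
        (Cfsg.Agent.Grp.sylow_inf_normal_relIndex P N))).dvd_of_dvd_mul_right h1
    rw [inf_comm]
    exact Nat.le_of_dvd Nat.card_pos h3
  -- decompositions along a minimal subgroup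
  have hdec : ∀ L, IsMinIn N L → ∀ u ∈ Q, ∃ a ∈ Q ⊓ L.subgroupOf (P : Subgroup G),
      ∃ r ∈ Q ⊓ (Subgroup.centralizer (L : Set G)).subgroupOf (P : Subgroup G), u = a * r := by
    intro L hL
    obtain ⟨hZ, hNsup, -⟩ := hmain L hL
    obtain ⟨h1, h2, h3, h4⟩ := hL
    set C := N ⊓ Subgroup.centralizer (L : Set G) with hC
    have hcm : ∀ l ∈ L, ∀ c ∈ C, l * c = c * l := fun l hl c hc =>
      (Subgroup.mem_centralizer_iff.1 hc.2) l hl
    have huniq2 : ∀ l ∈ L, ∀ c ∈ C, l * c = 1 → l = 1 ∧ c = 1 := by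
      intro l hl c hc he
      have hlc : l = c⁻¹ := eq_inv_of_mul_eq_one_left he
      have hl' : l ∈ L ⊓ Subgroup.centralizer (L : Set G) := ⟨hl, hlc ▸ (Subgroup.centralizer (L : Set G)).inv_mem hc.2⟩
      rw [hZ, Subgroup.mem_bot] at hl'
      exact ⟨hl', by rwa [hl', one_mul] at he⟩
    let TL : Subgroup G :=
      { carrier := {l | l ∈ L ∧ ∃ c ∈ C, l * c ∈ N ⊓ (P : Subgroup G)}
        one_mem' := ⟨one_mem _, 1, one_mem _, by rw [mul_one]; exact one_mem _⟩
        mul_mem' := by
          rintro a b ⟨ha, c, hc, hac⟩ ⟨hb, d, hd, hbd⟩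
          refine ⟨mul_mem ha hb, c * d, mul_mem hc hd, ?_⟩
          rw [show a * b * (c * d) = a * c * (b * d) by
            rw [mul_assoc a b, ← mul_assoc b c, hcm b hb c hc]; group]
          exact mul_mem hac hbd
        inv_mem' := by
          rintro a ⟨ha, c, hc, hac⟩
          refine ⟨inv_mem ha, c⁻¹, inv_mem hc, ?_⟩
          rw [← mul_inv_rev, ← hcm a ha c hc]
          exact inv_mem hac }
    let TC : Subgroup G :=
      { carrier := {c | c ∈ C ∧ ∃ l ∈ L, l * c ∈ N ⊓ (P : Subgroup G)}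
        one_mem' := ⟨one_mem _, 1, one_mem _, by rw [mul_one]; exact one_mem _⟩
        mul_mem' := by
          rintro c d ⟨hc, a, ha, hac⟩ ⟨hd, b, hb, hbd⟩
          refine ⟨mul_mem hc hd, a * b, mul_mem ha hb, ?_⟩
          rw [show a * b * (c * d) = a * c * (b * d) by
            rw [mul_assoc a b, ← mul_assoc b c, hcm b hb c hc]; group]
          exact mul_mem hac hbd
        inv_mem' := by
          rintro c ⟨hc, a, ha, hac⟩
          refine ⟨inv_mem hc, a⁻¹, inv_mem ha, ?_⟩
          rw [← mul_inv_rev, ← hcm a ha c hc]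
          exact inv_mem hac }
    have hpow : ∀ l ∈ L, ∀ c ∈ C, l * c ∈ N ⊓ (P : Subgroup G) →
        ∃ k, l ^ (p ^ k) = 1 ∧ c ^ (p ^ k) = 1 := by
      intro l hl c hc hlc
      obtain ⟨k, hk⟩ := P.isPGroup' ⟨_, hlc.2⟩
      have hk' : (l * c) ^ (p ^ k) = 1 := congrArg Subtype.val hk
      rw [(show Commute l c from hcm l hl c hc).mul_pow] at hk'
      exact ⟨k, huniq2 _ (pow_mem hl _) _ (pow_mem hc _) hk'⟩
    have hTL : IsPGroup p TL := by
      rintro ⟨l, hl, c, hc, hlc⟩
      obtain ⟨k, hk, -⟩ := hpow l hl c hc hlc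
      exact ⟨k, Subtype.ext hk⟩
    have hTC : IsPGroup p TC := by
      rintro ⟨c, hc, l, hl, hlc⟩
      obtain ⟨k, -, hk⟩ := hpow l hl c hc hlc
      exact ⟨k, Subtype.ext hk⟩
    have hW : IsPGroup p (TL ⊔ TC : Subgroup G) := by
      refine hTL.to_sup_of_normal_right' hTC fun l hl => Subgroup.mem_normalizer_iff.2 fun c =>
        ⟨fun hcc => ?_, fun hcc => ?_⟩
      · rwa [hcm l hl.1 c hcc.1, mul_inv_cancel_right]
      · have h5 := hcm l hl.1 _ hcc.1
        have : l * c * l⁻¹ = c := by
          calc l * c * l⁻¹ = l⁻¹ * (l * (l * c * l⁻¹)) := by group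
            _ = l⁻¹ * (l * c * l⁻¹ * l) := by rw [h5]
            _ = c := by group
        rwa [this] at hcc
    have hle : N ⊓ (P : Subgroup G) ≤ TL ⊔ TC := by
      intro u hu
      have hn2 : N ≤ Subgroup.normalizer (L : Set G) := h3
      have hCnorm : C ≤ Subgroup.normalizer (L : Set G) := inf_le_left.trans hn2
      obtain ⟨c, hc, l, hl, rfl⟩ : ∃ c ∈ C, ∃ l ∈ L, c * l = u := by
        have hu' : u ∈ C ⊔ L := sup_comm L C ▸ hNsup hu.1
        rw [← SetLike.mem_coe, Subgroup.coe_mul_of_left_le_normalizer_right C L hCnorm] at hu'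
        exact Set.mem_mul.1 hu'
      rw [← hcm l hl c hc] at hu ⊢
      exact mul_mem (Subgroup.mem_sup_left ⟨hl, c, hc, hu⟩) (Subgroup.mem_sup_right ⟨hc, l, hl, hu⟩)
    have hWeq := hcardN _ (sup_le (show TL ≤ N from fun l hl => h1 hl.1) (show TC ≤ N from fun c hc => hc.1.1)) hW hle
    intro u hu
    have huS : (u : G) ∈ N ⊓ (P : Subgroup G) := ⟨hu, u.2⟩
    obtain ⟨c, hc, l, hl, he⟩ : ∃ c ∈ C, ∃ l ∈ L, c * l = (u : G) := by
      have hu' : (u : G) ∈ C ⊔ L := sup_comm L C ▸ hNsup hu
      rw [← SetLike.mem_coe,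
        Subgroup.coe_mul_of_left_le_normalizer_right C L (inf_le_left.trans h3)] at hu'
      exact Set.mem_mul.1 hu'
    rw [← hcm l hl c hc] at he
    have hlS : l ∈ N ⊓ (P : Subgroup G) :=
      hWeq ▸ Subgroup.mem_sup_left ⟨hl, c, hc, he ▸ huS⟩
    have hcS : c ∈ N ⊓ (P : Subgroup G) :=
      hWeq ▸ Subgroup.mem_sup_right ⟨hc, l, hl, he ▸ huS⟩
    exact ⟨⟨l, hlS.2⟩, ⟨hlS.1, hl⟩, ⟨c, hcS.2⟩, ⟨hcS.1, hc.2⟩, Subtype.ext he.symm⟩
  -- every component trace is abelian
  have hAab : ∀ L, IsMinIn N L → ∀ a ∈ Q ⊓ L.subgroupOf (P : Subgroup G),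
      ∀ b ∈ Q ⊓ L.subgroupOf (P : Subgroup G), a * b = b * a := by
    intro L hL
    obtain ⟨hZ, -, hnP⟩ := hmain L hL
    refine factor_comm hE h Q hQi hy (Q ⊓ L.subgroupOf (P : Subgroup G))
      (Q ⊓ (Subgroup.centralizer (L : Set G)).subgroupOf (P : Subgroup G)) inf_le_left inf_le_left
      (fun a ha r hr => Subtype.ext ((Subgroup.mem_centralizer_iff.1 hr.2) (a : G) ha.2))
      ?_ (hdec L hL) ?_
    · rw [eq_bot_iff]
      intro x hx
      have : (x : G) ∈ L ⊓ Subgroup.centralizer (L : Set G) := ⟨hx.1.2, hx.2.2⟩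
      rw [hZ, Subgroup.mem_bot] at this
      exact Subgroup.mem_bot.2 (Subtype.ext this)
    · intro i hi0 hip a ha
      set T := (Subgroup.normalizer (L : Set G)).subgroupOf (P : Subgroup G) with hT
      have hQT : Q ≤ T := fun x hx => hL.2.2.1 hx
      have hTeq : T = Q := by
        rcases (Nat.dvd_prime hp.out).1 (hQi ▸ Subgroup.index_dvd_of_le hQT) with h5 | h5
        · exact absurd (Subgroup.subgroupOf_eq_top.1 (Subgroup.index_eq_one.1 h5)) hnP
        · have hmul := Subgroup.relIndex_mul_index hQT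
          rw [h5, hQi] at hmul
          exact le_antisymm (Subgroup.relIndex_eq_one.1 ((mul_eq_right₀ hp.out.ne_zero).1 hmul)) hQT
      have hyi : y ^ i ∉ Q := by
        intro hmem
        apply hy
        rw [← QuotientGroup.eq_one_iff]
        set z : (P : Subgroup G) ⧸ Q := QuotientGroup.mk y with hz
        have h5 : z ^ i = 1 := by
          rw [hz, ← QuotientGroup.mk_pow, QuotientGroup.eq_one_iff]; exact hmem
        have h6 : z ^ p = 1 := by
          rw [hz, ← QuotientGroup.mk_pow, QuotientGroup.eq_one_iff]; simpa [hQi] using Q.pow_index_mem y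
        have h7 : z ^ Nat.gcd i p = 1 := pow_gcd_eq_one.2 ⟨h5, h6⟩
        rwa [show Nat.gcd i p = 1 from Nat.Coprime.symm (hp.out.coprime_iff_not_dvd.2
          (Nat.not_dvd_of_pos_of_lt hi0 hip)), pow_one] at h7
      refine ⟨Subgroup.Normal.conj_mem inferInstance _ ha.1 _, ?_⟩
      have hne' : MulAut.conj ((y ^ i : (P : Subgroup G)) : G) • L ≠ L := fun he =>
        hyi (hTeq ▸ (Subgroup.mem_normalizer_iff_map_conj_eq.2 he :
          ((y ^ i : (P : Subgroup G)) : G) ∈ Subgroup.normalizer (L : Set G)))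
      exact hconjC L hL _ hne' ⟨(a : G), ha.2, rfl⟩
  refine exists_of_index_p P h N hQi fun u hu v hv => ?_
  have hz : ⁅(u : G), (v : G)⁆ ∈ Subgroup.centralizer (N : Set G) := by
    rw [Subgroup.mem_centralizer_iff]
    have hzN : ∀ g : G, MulAut.conj g • L₀ ≤
        Subgroup.centralizer ({⁅(u : G), (v : G)⁆} : Set G) := by
      intro g
      have hL := hconjmin L₀ hL₀' g
      set L := MulAut.conj g • L₀
      obtain ⟨a, ha, r, hr, rfl⟩ := hdec L hL u hu
      obtain ⟨b, hb, s, hs, rfl⟩ := hdec L hL v hv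
      have c1 : Commute (a : G) (s : G) := (Subgroup.mem_centralizer_iff.1 hs.2) _ ha.2
      have c2 : Commute (b : G) (r : G) := (Subgroup.mem_centralizer_iff.1 hr.2) _ hb.2
      have c3 : Commute (a : G) (b : G) := congrArg Subtype.val (hAab L hL a ha b hb)
      have c4 : Commute (a : G) (r : G) := (Subgroup.mem_centralizer_iff.1 hr.2) _ ha.2
      have c5 : Commute (b : G) (s : G) := (Subgroup.mem_centralizer_iff.1 hs.2) _ hb.2
      have e : ⁅((a * r : (P : Subgroup G)) : G), ((b * s : (P : Subgroup G)) : G)⁆ =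
          ⁅(r : G), (s : G)⁆ := by
        simp only [Subgroup.coe_mul, commutatorElement_def]
        have e1 : ((a : G) * r) * (b * s) = (a * b) * (r * s) := by
          rw [mul_assoc, ← mul_assoc (r : G), ← c2.eq]; group
        have e2 : ((b : G) * s) * (a * r) = (a * b) * (s * r) := by
          rw [mul_assoc, ← mul_assoc (s : G), ← c1.eq, c3.eq]; group
        calc (a : G) * r * (b * s) * ((a : G) * r)⁻¹ * ((b : G) * s)⁻¹
            = ((a : G) * r * (b * s)) * ((b : G) * s * (a * r))⁻¹ := by group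
          _ = ((a : G) * b) * (((r : G) * (s : G)) * ((s : G) * (r : G))⁻¹) * ((a : G) * b)⁻¹ := by rw [e1, e2]; group
          _ = (r : G) * (s : G) * (r : G)⁻¹ * (s : G)⁻¹ := by
            have hcom : Commute ((a : G) * b) ((r : G) * s * ((s : G) * r)⁻¹) :=
              Commute.mul_left
                ((c4.mul_right c1).mul_right (c1.mul_right c4).inv_right)
                ((c2.mul_right c5).mul_right (c5.mul_right c2).inv_right)
            rw [hcom.eq]; group
      rw [e]
      intro x hx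
      rw [Subgroup.mem_centralizer_singleton_iff]
      have hrs : ⁅(r : G), (s : G)⁆ ∈ Subgroup.centralizer (L : Set G) := by
        rw [commutatorElement_def]
        exact mul_mem (mul_mem (mul_mem hr.2 hs.2) (inv_mem hr.2)) (inv_mem hs.2)
      exact (Subgroup.mem_centralizer_iff.1 hrs) x hx
    intro n hn
    exact Subgroup.mem_centralizer_singleton_iff.1 (hgenN L₀ hL₀' _ hzN hn)
  rw [hcentN, Subgroup.mem_bot, commutatorElement_eq_one_iff_mul_comm] at hz
  exact Subtype.ext hz

end Cfsg.Agent.S4587
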