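import Cfsg.Statements.S4591
import Cfsg.Agent.Lib.Char.PPrimeDegree

set_option autoImplicit false
open Cfsg

namespace Cfsg.Agent.S4591

open Cfsg.Agent.Char Cfsg.Agent.Char.PPrime

/-- Let G be a finite group, p a prime and P a Sylow p-subgroup, and let N be the largest normal subgroup of G in which P has trivial centralizer (N is normal with C_N(P) = 1 and contains every normal subgroup with that property). Then the intersection of the kernels of the irreducible characters of G of degree prime to p is the normal core in G of the subgroup N·P' (P' the derived subgroup of P). In particular, when G has no nontrivial normal subgroup of order prime to p, that intersection is the normal core of P'. -/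
theorem result {G : Type*} [Group G] [Finite G] (p : ℕ) [Fact p.Prime] (P : Sylow p G) (N : Subgroup G) [N.Normal]
    (hN : N ⊓ Subgroup.centralizer ((P : Subgroup G) : Set G) = ⊥)
    (hmax : ∀ L : Subgroup G, L.Normal → L ⊓ Subgroup.centralizer ((P : Subgroup G) : Set G) = ⊥ → L ≤ N) :
    {g : G | ∀ χ : Cfsg.IrrCharacter G, ¬ p ∣ Cfsg.charDegree (χ : G → ℂ) → (χ : G → ℂ) g = (χ : G → ℂ) 1} =
      ((N ⊔ ⁅(P : Subgroup G), (P : Subgroup G)⁆).normalCore : Set G) := by
  classical
  haveI := Fintype.ofFinite G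
  have hp : p.Prime := Fact.out
  -- `N` is a `p'`-group
  have hNp : ¬ p ∣ Nat.card N := by
    intro hd
    letI : MulAction (P : Subgroup G) N :=
      MulAction.compHom N ((MulAut.conjNormal : G →* MulAut N).comp (P : Subgroup G).subtype)
    have hmod := P.isPGroup'.card_modEq_card_fixedPoints N
    have hsub : Subsingleton (MulAction.fixedPoints (P : Subgroup G) N) := by
      refine ⟨fun a b => ?_⟩
      have key : ∀ a : MulAction.fixedPoints (P : Subgroup G) N, (a : N) = 1 := fun a => by
        have : ((a : N) : G) ∈ N ⊓ Subgroup.centralizer ((P : Subgroup G) : Set G) := by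
          refine ⟨(a : N).2, Subgroup.mem_centralizer_iff.mpr fun s hs => ?_⟩
          have h := congrArg Subtype.val (a.2 ⟨s, hs⟩)
          exact mul_inv_eq_iff_eq_mul.mp h
        rw [hN, Subgroup.mem_bot] at this
        exact Subtype.ext this
      exact Subtype.ext ((key a).trans (key b).symm)
    have h1 : Nat.card (MulAction.fixedPoints (P : Subgroup G) N) = 1 :=
      Nat.card_eq_one_iff_unique.mpr ⟨hsub, ⟨⟨1, fun s => Subtype.ext (by
        show (s : G) * ((1 : N) : G) * (s : G)⁻¹ = _
        simp)⟩⟩⟩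
    rw [h1] at hmod
    exact hp.not_dvd_one ((Nat.ModEq.dvd_iff hmod dvd_rfl).mp hd)
  -- the intersection of the kernels
  choose kr hkn hkr using fun χ : IrrCharacter G => exists_kernel χ
  set K : Subgroup G := ⨅ χ : {χ : IrrCharacter G // ¬ p ∣ charDegree (χ : G → ℂ)}, kr χ.1 with hK
  haveI : K.Normal := Subgroup.normal_iInf_normal fun χ => hkn χ.1
  have hmemK : ∀ g, g ∈ K ↔ ∀ χ : IrrCharacter G, ¬ p ∣ charDegree (χ : G → ℂ) →
      (χ : G → ℂ) g = (χ : G → ℂ) 1 := fun g => by
    simp only [K, Subgroup.mem_iInf, Subtype.forall, hkr]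
  obtain ⟨hKP, hKL⟩ := kernel_le P K fun g hg => (hmemK g).mp hg
  have hset : {g : G | ∀ χ : IrrCharacter G, ¬ p ∣ charDegree (χ : G → ℂ) →
      (χ : G → ℂ) g = (χ : G → ℂ) 1} = (K : Set G) := Set.ext fun g => (hmemK g).symm
  rw [hset, SetLike.coe_set_eq]
  refine le_antisymm (Subgroup.normal_le_normalCore.mpr ?_) fun x hx => (hmemK x).mpr fun χ hχ =>
    kills_core P N _ (Subgroup.normalCore_le _) χ hχ (kills_coreless P N hNp hN χ hχ) x hx
  -- `K` is `p`-nilpotent
  have hfr : K ⊓ (P : Subgroup G) ≤ (frattini (P : Subgroup G)).map (P : Subgroup G).subtype := by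
    refine hKP.trans ?_
    rw [← Subgroup.map_subtype_commutator]
    exact Subgroup.map_mono (Cfsg.Agent.Grp.pGroup_commutator_le_frattini P.isPGroup')
  have hnc := Cfsg.Agent.Transfer.hasNormalPComplement_of_inf_le_frattini P K hfr
  set L : Subgroup G := (Cfsg.pResidual p K).map K.subtype with hL
  have hLn : L.Normal := by
    haveI := Cfsg.Agent.Transfer.pResidual_characteristic p K
    exact inferInstanceAs ((Cfsg.pResidual p K).map K.subtype).Normal
  have hLp : ¬ p ∣ Nat.card L := by
    rw [hL, Subgroup.card_map_of_injective K.subtype_injective]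
    exact Cfsg.Agent.Transfer.hasNormalPComplement_iff_not_dvd.mp hnc
  have hLK : L ≤ K := Subgroup.map_subtype_le _
  have hLN : L ≤ N := hmax L hLn (hKL L hLn hLK hLp)
  intro x hx
  obtain ⟨k, hk⟩ := Cfsg.Agent.Transfer.exists_pResidual_index (G := K) p
  obtain ⟨Q, hQ⟩ : ∃ Q : Sylow p K, (Q : Subgroup K) = (P : Subgroup G).subgroupOf K := by
    have hpg : IsPGroup p ((P : Subgroup G).subgroupOf K) :=
      P.isPGroup'.comap_of_injective K.subtype K.subtype_injective
    refine ⟨hpg.toSylow ?_, rfl⟩
    exact Cfsg.Agent.Grp.sylow_inf_normal_relIndex P K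
  have hcomp := Cfsg.Agent.Transfer.isComplement'_sylow Q
    (Cfsg.Agent.Transfer.hasNormalPComplement_iff_not_dvd.mp hnc) hk
  obtain ⟨⟨a, b⟩, hab⟩ := hcomp.2 ⟨x, hx⟩
  have hb : ((b : K) : G) ∈ K ⊓ (P : Subgroup G) := by
    refine ⟨(b : K).2, ?_⟩
    have : (b : K) ∈ (P : Subgroup G).subgroupOf K := hQ ▸ b.2
    exact this
  rw [← show ((a : K) : G) * ((b : K) : G) = x from congrArg Subtype.val hab]
  exact Subgroup.mul_mem_sup (hLN ⟨a, a.2, rfl⟩) (hKP hb)

end Cfsg.Agent.S4591
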