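import Cfsg.Statements.S4593
import Mathlib
import Cfsg.Agent.Lib.Invol.Basic
import Cfsg.Agent.Lib.Grp.Cores
import Cfsg.Agent.S0215
-- import your own Cfsg.Agent.* helpers here

set_option autoImplicit false
open Cfsg

namespace Cfsg.Agent.S4593

/-- Let G be a finite group with trivial centre and no nontrivial normal subgroup of odd order, whose Sylow 2-subgroups are abelian, and let P be a Sylow 2-subgroup. Every automorphism of G of 2-power order that fixes P elementwise is inner. -/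
theorem result {G : Type*} [Group G] [Finite G] (hZ : Subgroup.center G = ⊥) (hcore : Cfsg.pPrimeCore 2 G = ⊥) (P : Sylow 2 G) (hab : IsMulCommutative (P : Subgroup G))
    (α : MulAut G) (h2 : ∃ j : ℕ, orderOf α = 2 ^ j) (hfix : ∀ x ∈ (P : Subgroup G), α x = x) :
    ∃ g : G, ∀ x : G, α x = g * x * g⁻¹ := by
  classical
  haveI : Fact (Nat.Prime 2) := ⟨Nat.prime_two⟩
  set ι : G →* MulAut G := MulAut.conj with hι
  have hιinj : Function.Injective ι := by
    rw [injective_iff_map_eq_one]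
    intro g hg
    have hgc : g ∈ Subgroup.center G := Subgroup.mem_center_iff.2 fun x => by
      have h1 : g * x * g⁻¹ = x := by
        have := congrArg (fun f : MulAut G => f x) hg
        simpa [hι] using this
      exact (mul_inv_eq_iff_eq_mul.1 h1).symm
    rwa [hZ, Subgroup.mem_bot] at hgc
  have hconj : ∀ (f : MulAut G) (g : G), f * ι g * f⁻¹ = ι (f g) := fun f g => by
    ext x
    simp [hι, MulAut.mul_apply]
  set I := ι.range with hI
  haveI hIn : I.Normal := ⟨by
    rintro _ ⟨g, rfl⟩ f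
    exact ⟨f g, (hconj f g).symm⟩⟩
  by_cases hαI : α ∈ I
  · obtain ⟨g, hg⟩ := hαI
    exact ⟨g, fun x => by rw [← hg]; rfl⟩
  exfalso
  set X := I ⊔ Subgroup.zpowers α with hX
  have hαX : α ∈ X := Subgroup.mem_sup_right (Subgroup.mem_zpowers α)
  have hIX : I ≤ X := le_sup_left
  set Q := (P : Subgroup G).map ι ⊔ Subgroup.zpowers α with hQ
  have hPI : (P : Subgroup G).map ι ≤ I := by rintro _ ⟨g, -, rfl⟩; exact ⟨g, rfl⟩
  have hQX : Q ≤ X := sup_le_sup_right hPI _
  have hαP : ∀ g ∈ (P : Subgroup G), Commute α (ι g) := fun g hg => by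
    have h1 := hconj α g
    rw [hfix g hg] at h1
    exact mul_inv_eq_iff_eq_mul.1 h1
  have hαpg : IsPGroup 2 (Subgroup.zpowers α) := by
    obtain ⟨j, hj⟩ := h2
    exact IsPGroup.of_card (n := j) (by rw [Nat.card_zpowers, hj])
  have hQ2 : IsPGroup 2 Q := by
    refine IsPGroup.to_sup_of_normal_left' (P.2.map ι) hαpg ?_
    rw [Subgroup.zpowers_le, Subgroup.mem_normalizer_iff]
    intro t
    constructor
    · rintro ⟨g, hg, rfl⟩
      exact ⟨g, hg, by rw [hconj, hfix g hg]⟩
    · rintro ⟨g, hg, he⟩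
      refine ⟨g, hg, ?_⟩
      have h1 := congrArg (fun u => α⁻¹ * u * α) he
      rw [mul_assoc, ← (hαP g hg).eq, inv_mul_cancel_left] at h1
      rw [h1]; group
  obtain ⟨R, hR⟩ := (hQ2.comap_of_injective X.subtype X.subtype_injective).exists_le_sylow
  have hPR : ∀ g ∈ (P : Subgroup G), (⟨ι g, hIX ⟨g, rfl⟩⟩ : X) ∈ R := fun g hg =>
    hR (Subgroup.mem_comap.2 (Subgroup.mem_sup_left ⟨g, hg, rfl⟩))
  set a : X := ⟨α, hαX⟩ with ha
  have haR : a ∈ R := hR (Subgroup.mem_comap.2 (Subgroup.mem_sup_right (Subgroup.mem_zpowers α)))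
  set ιX : G →* X := ι.codRestrict X (fun g => hIX ⟨g, rfl⟩) with hιX
  have hPmax : ∀ g, ιX g ∈ R → g ∈ (P : Subgroup G) := by
    have h1 : IsPGroup 2 ((R : Subgroup X).comap ιX) :=
      R.2.comap_of_injective ιX fun g h he => hιinj (congrArg Subtype.val he :)
    have h2' : (P : Subgroup G) ≤ (R : Subgroup X).comap ιX := fun g hg => hPR g hg
    intro g hg
    exact (P.is_maximal' h1 h2').le hg
  -- every element of `R` is `ιX g * a ^ i` with `g ∈ P`
  have hRel : ∀ r ∈ R, ∃ g ∈ (P : Subgroup G), ∃ i : ℤ, r = ιX g * a ^ i := fun r hr => by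
    have hmem : (r : MulAut G) ∈ I ⊔ Subgroup.zpowers α := r.2
    rw [← SetLike.mem_coe, Subgroup.normal_mul I] at hmem
    obtain ⟨u, ⟨g, rfl⟩, v, hv, huv⟩ := hmem
    obtain ⟨i, rfl⟩ := Subgroup.mem_zpowers_iff.1 hv
    have he : r = ιX g * a ^ i := Subtype.ext (by rw [← huv]; rfl)
    refine ⟨g, hPmax g ?_, i, he⟩
    rw [show ιX g = r * (a ^ i)⁻¹ by rw [he, mul_inv_cancel_right]]
    exact mul_mem hr (inv_mem (zpow_mem haR i))
  have hRab : ∀ r ∈ R, ∀ s ∈ R, r * s = s * r := fun r hr s hs => by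
    obtain ⟨g, hg, i, rfl⟩ := hRel r hr
    obtain ⟨h, hh, j, rfl⟩ := hRel s hs
    have c0 : ∀ u ∈ (P : Subgroup G), Commute a (ιX u) := fun u hu =>
      Subtype.ext (hαP u hu).eq
    have c1 : Commute g h := congrArg Subtype.val (hab.is_comm.comm ⟨g, hg⟩ ⟨h, hh⟩)
    exact (((c1.map ιX).mul_right ((c0 g hg).symm.zpow_right j)).mul_left
      (((c0 h hh).zpow_left i).mul_right ((Commute.refl a).zpow_zpow i j))).eq
  haveI hRc : IsMulCommutative (R : Subgroup X) := ⟨⟨fun x y => Subtype.ext (hRab _ x.2 _ y.2)⟩⟩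
  letI : CommGroup (R : Subgroup X) :=
    { (inferInstance : Group (R : Subgroup X)) with mul_comm := fun x y => Subtype.ext (hRab _ x.2 _ y.2) }
  set N := Subgroup.normalizer ((R : Subgroup X) : Set X) with hN
  set RN := (R : Subgroup X).subgroupOf N with hRN
  haveI : Fintype (N ⧸ RN) := Fintype.ofFinite _
  have hodd : Odd (Fintype.card (N ⧸ RN)) := by
    rw [← Nat.card_eq_fintype_card, ← Subgroup.index_eq_card]
    rw [Nat.odd_iff, ← Nat.two_dvd_ne_zero]
    intro hd
    exact R.not_dvd_index (dvd_trans hd (Dvd.intro _ (Subgroup.relIndex_mul_index Subgroup.le_normalizer)))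
  have hcR : ∀ n : N, ∀ r ∈ R, (n : X) * r * (n : X)⁻¹ ∈ R := fun n r hr =>
    (Subgroup.mem_normalizer_iff.1 n.2 r).1 hr
  let F : N ⧸ RN → (R : Subgroup X) := fun q => ⟨(q.out : X) * a * (q.out : X)⁻¹, hcR q.out a haR⟩
  set β : (R : Subgroup X) := ∏ q, F q with hβ
  -- `β` is fixed by the normalizer
  have hfixed : ∀ n : N, (n : X) * (β : X) * (n : X)⁻¹ = β := fun n => by
    let c : (R : Subgroup X) →* (R : Subgroup X) := MonoidHom.mk' (fun r => ⟨(n : X) * r * (n : X)⁻¹, hcR n r r.2⟩)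
      fun r s => Subtype.ext (by simp [mul_assoc])
    have h1 : c β = β := by
      rw [hβ, map_prod]
      refine Fintype.prod_equiv (MulAction.toPerm n) _ _ fun q => ?_
      show c (F q) = F (n • q)
      have hq : QuotientGroup.mk (n * q.out) = n • q := by
        conv_rhs => rw [← QuotientGroup.out_eq' q]
        rfl
      obtain ⟨w, hw⟩ : ∃ w : RN, (n • q).out = (n * q.out) * w := by
        rw [← hq]; exact QuotientGroup.mk_out_eq_mul RN (n * q.out)
      refine Subtype.ext ?_
      show (n : X) * ((q.out : X) * a * (q.out : X)⁻¹) * (n : X)⁻¹ = ((n • q).out : X) * a * ((n • q).out : X)⁻¹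
      have hwR : ((w : N) : X) ∈ R := Subgroup.mem_subgroupOf.1 w.2
      rw [hw]
      push_cast
      rw [mul_assoc ((n : X) * (q.out : X)), hRab _ hwR a haR]
      group
    exact congrArg Subtype.val h1
  -- `β` is not inner
  set π := QuotientGroup.mk' (I.subgroupOf X) with hπ
  have hπι : ∀ g, π (ιX g) = 1 := fun g => (QuotientGroup.eq_one_iff _).2 (Subgroup.mem_subgroupOf.2 ⟨g, rfl⟩)
  have hπX : ∀ x : X, ∃ i : ℤ, π x = π a ^ i := fun x => by
    have hmem : (x : MulAut G) ∈ I ⊔ Subgroup.zpowers α := x.2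
    rw [← SetLike.mem_coe, Subgroup.normal_mul I] at hmem
    obtain ⟨u, ⟨g, rfl⟩, v, hv, huv⟩ := hmem
    obtain ⟨i, rfl⟩ := Subgroup.mem_zpowers_iff.1 hv
    refine ⟨i, ?_⟩
    rw [show x = ιX g * a ^ i from Subtype.ext (by rw [← huv]; rfl), map_mul, hπι, one_mul, map_zpow]
  have hβne : (β : X) ≠ 1 := fun h1 => by
    have h3 : π (β : X) = π a ^ Fintype.card (N ⧸ RN) := by
      have : (π.comp (R : Subgroup X).subtype) β = π (β : X) := rfl
      rw [← this, hβ]
      have h4 : ∀ q, (π.comp (R : Subgroup X).subtype) (F q) = π a := fun q => by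
        show π ((q.out : X) * a * (q.out : X)⁻¹) = π a
        obtain ⟨i, hi⟩ := hπX (q.out : X)
        rw [map_mul, map_mul, map_inv, hi, ((Commute.refl (π a)).zpow_left i).eq, mul_inv_cancel_right]
      have h5 : ∀ s : Finset (N ⧸ RN), (π.comp (R : Subgroup X).subtype) (∏ q ∈ s, F q) = π a ^ s.card := by
        intro s
        induction s using Finset.induction_on with
        | empty => simp
        | insert q s hq ih => rw [Finset.prod_insert hq, map_mul, h4, ih, Finset.card_insert_of_notMem hq, pow_succ']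
      exact h5 _
    rw [h1, map_one] at h3
    refine hαI ?_
    have h4 : π a = 1 := by
      obtain ⟨j, hj⟩ := h2
      have h5 : π a ^ (2 ^ j) = 1 := by
        rw [← map_pow, show a ^ (2 ^ j) = 1 from Subtype.ext (by
          show α ^ (2 ^ j) = 1
          rw [← hj, pow_orderOf_eq_one]), map_one]
      have h6 : Nat.Coprime (Fintype.card (N ⧸ RN)) (2 ^ j) := Nat.Coprime.pow_right _ (Nat.coprime_two_right.2 hodd)
      have h7 := Nat.dvd_gcd (orderOf_dvd_of_pow_eq_one h3.symm) (orderOf_dvd_of_pow_eq_one h5)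
      rw [h6.gcd_eq_one] at h7
      exact orderOf_eq_one_iff.1 (Nat.dvd_one.1 h7)
    exact Subgroup.mem_subgroupOf.1 ((QuotientGroup.eq_one_iff a).1 h4)
  -- an isolated involution
  obtain ⟨j, hj⟩ := (R.2.exists_orderOf_eq_pow β)
  rw [← Subgroup.orderOf_coe] at hj
  have hj0 : j ≠ 0 := fun h0 => hβne (orderOf_eq_one_iff.1 (by rw [hj, h0, pow_zero]))
  set t : X := (β : X) ^ (orderOf (β : X) / 2) with ht
  have hto : orderOf t = 2 := orderOf_pow_orderOf_div (orderOf_pos _).ne' (hj ▸ dvd_pow_self 2 hj0)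
  have htR : t ∈ R := pow_mem β.2 _
  have hiso : ∀ g : X, g * t * g⁻¹ ∈ R → g * t * g⁻¹ = t := fun g hg => by
    obtain ⟨n, hn, hn'⟩ := R.conj_eq_normalizer_conj_of_mem t g⁻¹ htR (by rwa [inv_inv])
    rw [inv_inv] at hn'
    have h1 := hfixed ⟨n, hn⟩⁻¹
    simp only [InvMemClass.coe_inv, inv_inv] at h1
    rw [hn', ht]
    have h2' := conj_pow (i := orderOf (β : X) / 2) (a := (n⁻¹ : X)) (b := (β : X))
    rw [inv_inv] at h2'
    rw [← h2', h1]
  obtain ⟨M, hMn, hModd, hMc⟩ := S0215.result R t hto htR hiso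
  -- the odd normal subgroup is trivial
  have hM : M = ⊥ := by
    have hMI : ∀ m ∈ M, ∃ g, ιX g = m := fun m hm => by
      have h1 : π m = 1 := by
        obtain ⟨i, hi⟩ := hπX m
        obtain ⟨k, hk⟩ := h2
        have h5 : π m ^ (2 ^ k) = 1 := by
          have h0 : π a ^ (2 ^ k) = 1 := by
            rw [← map_pow, show a ^ (2 ^ k) = 1 from Subtype.ext (by
              show α ^ (2 ^ k) = 1
              rw [← hk, pow_orderOf_eq_one]), map_one]
          rw [hi, ← zpow_natCast, ← zpow_mul, mul_comm, zpow_mul, zpow_natCast, h0, one_zpow]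
        have h6 : π m ^ Nat.card M = 1 := by
          rw [← map_pow, show m ^ Nat.card M = 1 from congrArg Subtype.val (pow_card_eq_one' (x := (⟨m, hm⟩ : M))),
            map_one]
        have h7 := Nat.dvd_gcd (orderOf_dvd_of_pow_eq_one h5) (orderOf_dvd_of_pow_eq_one h6)
        rw [(Nat.Coprime.pow_left _ (Nat.coprime_two_left.2 hModd)).gcd_eq_one] at h7
        exact orderOf_eq_one_iff.1 (Nat.dvd_one.1 h7)
      obtain ⟨g, hg⟩ := Subgroup.mem_subgroupOf.1 ((QuotientGroup.eq_one_iff m).1 h1)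
      exact ⟨g, Subtype.ext hg⟩
    have hιXinj : Function.Injective ιX := fun g h he => hιinj (congrArg Subtype.val he :)
    haveI : M.Normal := hMn
    have h1 : M.comap ιX ≤ Cfsg.pPrimeCore 2 G := by
      refine Cfsg.Agent.Grp.le_pPrimeCore inferInstance ?_
      have hdvd : Nat.card (M.comap ιX) ∣ Nat.card M :=
        Subgroup.card_dvd_of_injective ((ιX.comp (M.comap ιX).subtype).codRestrict M fun g => g.2)
          fun g h he => Subtype.ext (hιXinj (congrArg Subtype.val he :))
      exact Nat.Coprime.coprime_dvd_left hdvd (Nat.coprime_two_right.2 hModd)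
    rw [hcore, le_bot_iff] at h1
    refine M.eq_bot_iff_forall.2 fun m hm => ?_
    obtain ⟨g, rfl⟩ := hMI m hm
    have hg : g ∈ M.comap ιX := hm
    rw [h1, Subgroup.mem_bot] at hg
    rw [hg, map_one]
  -- `t` centralizes every inner automorphism
  have htfix : ∀ g, (t : MulAut G) g = g := fun g => hιinj (by
    have h1 := hMc (ιX g)
    rw [hM, Subgroup.mem_bot, mul_inv_eq_one] at h1
    rw [← hconj]
    exact congrArg Subtype.val h1)
  exact Cfsg.Agent.Invol.ne_one_of_orderOf_two hto (Subtype.ext (MulEquiv.ext htfix))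

end Cfsg.Agent.S4593
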