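import Cfsg.Statements.S4601
import Cfsg.Agent.Lib.Char.NormalizedSylow
import Cfsg.Agent.Lib.Grp.PComponents
-- import your own Cfsg.Agent.* helpers here

set_option autoImplicit false
open Cfsg

namespace Cfsg.Agent.S4601

universe u

open scoped Pointwise
open Cfsg.Agent.Char

theorem quot_hyp {G : Type u} [Group G] [Finite G] {p q : ℕ} [Fact q.Prime] (N : Subgroup G) [N.Normal]
    (h : ∀ y : G, (∃ k : ℕ, orderOf y = q ^ k) → ¬ p ∣ (Subgroup.centralizer ({y} : Set G)).index)
    (y : G ⧸ N) (hy : ∃ k : ℕ, orderOf y = q ^ k) :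
    ¬ p ∣ (Subgroup.centralizer ({y} : Set (G ⧸ N))).index := by
  obtain ⟨k, hk⟩ := hy
  obtain ⟨g, rfl⟩ := QuotientGroup.mk'_surjective N y
  obtain ⟨a, -, hap, ha⟩ := Cfsg.Agent.Grp.exists_pElement_lift (p := q) (QuotientGroup.mk' N) (y := g)
    (IsPGroup.of_card (n := k) (by rw [Nat.card_zpowers, hk]))
  obtain ⟨j, hj⟩ := IsPGroup.iff_card.1 hap
  rw [Nat.card_zpowers] at hj
  intro hd
  apply h a ⟨j, hj⟩
  rw [← ha] at hd
  have hle : (Subgroup.centralizer ({a} : Set G)).map (QuotientGroup.mk' N) ≤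
      Subgroup.centralizer ({QuotientGroup.mk' N a} : Set (G ⧸ N)) := by
    rintro _ ⟨c, hc, rfl⟩
    rw [Subgroup.mem_centralizer_singleton_iff, ← map_mul, ← map_mul,
      Subgroup.mem_centralizer_singleton_iff.1 hc]
  exact hd.trans ((Subgroup.index_dvd_of_le hle).trans
    (Subgroup.index_map_dvd _ (QuotientGroup.mk'_surjective N)))

theorem sylow_elt {G : Type u} [Group G] [Finite G] {q : ℕ} [Fact q.Prime] (Q : Sylow q G) {y : G}
    (hy : y ∈ (Q : Subgroup G)) : ∃ k : ℕ, orderOf y = q ^ k := by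
  obtain ⟨k, hk⟩ := Q.isPGroup' ⟨y, hy⟩
  obtain ⟨j, -, hj⟩ := (Nat.dvd_prime_pow Fact.out).1
    (orderOf_dvd_of_pow_eq_one (show y ^ q ^ k = 1 by simpa using congrArg Subtype.val hk))
  exact ⟨j, hj⟩

theorem main_step {p q : ℕ} [Fact p.Prime] [Fact q.Prime] : ∀ (n : ℕ) (G : Type u) [Group G] [Finite G],
    Nat.card G = n → (Cfsg.IsPSolvable p G ∨ Cfsg.IsPSolvable q G) →
    (∀ y : G, (∃ k : ℕ, orderOf y = q ^ k) → ¬ p ∣ (Subgroup.centralizer ({y} : Set G)).index) →
    ∃ Q : Sylow q G, ¬ p ∣ (Subgroup.normalizer ((Q : Subgroup G) : Set G)).index := by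
  intro n
  induction n using Nat.strong_induction_on with
  | _ n ih =>
  intro G _ _ hn hsolv h
  by_cases h1 : (⊤ : Subgroup G) = ⊥
  · obtain ⟨Q⟩ : Nonempty (Sylow q G) := Sylow.nonempty
    refine ⟨Q, ?_⟩
    rw [show Subgroup.normalizer ((Q : Subgroup G) : Set G) = ⊤ from
      top_le_iff.1 (by rw [h1]; exact bot_le), Subgroup.index_top]
    exact (Fact.out : p.Prime).one_lt.ne' ∘ Nat.dvd_one.1
  have key : ∀ (N : Subgroup G) [N.Normal], N ≠ ⊥ →
      (∃ Q : Sylow q G, ¬ p ∣ (Subgroup.normalizer ((Q : Subgroup G) : Set G)).relIndex N) →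
      ∃ Q : Sylow q G, ¬ p ∣ (Subgroup.normalizer ((Q : Subgroup G) : Set G)).index := by
    intro N _ hN hQ
    obtain ⟨Q, hQ⟩ := hQ
    refine ⟨Q, NormSylow.step N (ih _ (hn ▸ Cfsg.Agent.Grp.card_quotient_lt hN) (G ⧸ N) rfl ?_
      (quot_hyp N h)) Q hQ⟩
    exact hsolv.imp (fun hs => Cfsg.Agent.Grp.isPSolvable_map hs _ (QuotientGroup.mk'_surjective N))
      (fun hs => Cfsg.Agent.Grp.isPSolvable_map hs _ (QuotientGroup.mk'_surjective N))
  obtain ⟨Q₀⟩ : Nonempty (Sylow q G) := Sylow.nonempty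
  rcases hsolv with hs | hs
  · by_cases h2 : Cfsg.pPrimeCore p G = ⊥
    · have := Cfsg.Agent.Grp.pCore_isNormal (p := p) (G := G)
      refine key _ (fun e => h1 (Cfsg.Agent.Grp.isPSolvable_eq_top_of_cores hs e h2)) ⟨Q₀, ?_⟩
      refine NormSylow.not_dvd_of_le (le_trans (fun v hv => ?_) (Subgroup.centralizer_le_normalizer _))
      rw [Subgroup.mem_centralizer_iff]
      intro y hy
      obtain ⟨P₁, hP₁⟩ := NormSylow.exists_sylow_le (h y (sylow_elt Q₀ hy))
      exact (Subgroup.mem_centralizer_singleton_iff.1 (hP₁ (Cfsg.Agent.Grp.pCore_le_sylow P₁ hv))).symm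
    · have := Cfsg.Agent.Grp.pPrimeCore_isNormal (p := p) (G := G)
      exact key _ h2 ⟨Q₀, fun hd => Cfsg.Agent.Grp.pPrimeCore_not_dvd (p := p) (G := G)
        (hd.trans (NormSylow.relIndex_dvd_card _ _))⟩
  · by_cases h2 : Cfsg.pPrimeCore q G = ⊥
    · have := Cfsg.Agent.Grp.pCore_isNormal (p := q) (G := G)
      refine key _ (fun e => h1 (Cfsg.Agent.Grp.isPSolvable_eq_top_of_cores hs e h2)) ⟨Q₀, ?_⟩
      exact NormSylow.not_dvd_of_le ((Cfsg.Agent.Grp.pCore_le_sylow Q₀).trans Subgroup.le_normalizer)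
    · have := Cfsg.Agent.Grp.pPrimeCore_isNormal (p := q) (G := G)
      refine key _ h2 ?_
      set N := Cfsg.pPrimeCore q G with hN
      have hcopN : (Nat.card N).Coprime q := Cfsg.Agent.Grp.pPrimeCore_coprime
      obtain ⟨R, hR⟩ := Cfsg.Agent.Grp.exists_isSylowIn p N
      obtain ⟨R', hR'⟩ := Cfsg.Agent.Grp.isSylowIn_iff.1 hR
      have hfr : Subgroup.normalizer (R : Set G) ⊔ N = ⊤ := by
        rw [← hR']; exact R'.normalizer_sup_eq_top
      obtain ⟨Q, hQ⟩ : ∃ Q : Sylow q G, (Q : Subgroup G) ≤ Subgroup.normalizer (R : Set G) := by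
        refine NormSylow.exists_sylow_le (fun hd => ?_)
        rw [sup_comm] at hfr
        have hd' : q ∣ Nat.card N := by
          refine hd.trans ?_
          rw [← Subgroup.relIndex_top_right, ← hfr, NormSylow.relIndex_sup_normal]
          exact NormSylow.relIndex_dvd_card _ _
        exact (Nat.Prime.coprime_iff_not_dvd Fact.out).1 hcopN.symm hd'
      refine ⟨Q, fun hd => hR.2.2 (hd.trans ?_)⟩
      refine Subgroup.relIndex_dvd_of_le_left N (le_trans (fun v hv => ?_) (Subgroup.centralizer_le_normalizer _))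
      rw [Subgroup.mem_centralizer_iff]
      intro y hy
      obtain ⟨k, hk⟩ := sylow_elt Q hy
      set A := Subgroup.zpowers y with hA
      have hAN : A ≤ Subgroup.normalizer (N : Set G) := by rw [Subgroup.normalizer_eq_top]; exact le_top
      have hcopA : (Nat.card A).Coprime (Nat.card N) := by
        rw [hA, Nat.card_zpowers, hk]; exact hcopN.symm.pow_left k
      have hAs : Group.IsSolvable A ∨ Group.IsSolvable N := Or.inl (by
        have := (IsPGroup.of_card (n := k) (G := A) (by rw [hA, Nat.card_zpowers, hk])).isNilpotent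
        infer_instance)
      have hAR : A ≤ Subgroup.normalizer (R : Set G) := Subgroup.zpowers_le.2 (hQ hy)
      set C := N ⊓ Subgroup.centralizer ({y} : Set G) with hC
      have hCidx : ¬ p ∣ C.relIndex N := by
        rw [hC, inf_comm, Subgroup.inf_relIndex_right]
        intro hd'
        rw [← NormSylow.relIndex_sup_normal] at hd'
        exact h y ⟨k, hk⟩ (hd'.trans ⟨_, (Subgroup.relIndex_mul_index le_sup_right).symm⟩)
      obtain ⟨S, hS⟩ := Cfsg.Agent.Grp.exists_isSylowIn p C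
      have hSN : S ≤ N := hS.1.trans inf_le_left
      have hSN' : Cfsg.Agent.Grp.IsSylowIn p S N := ⟨hSN, hS.2.1, fun hd' => by
        rw [← Subgroup.relIndex_mul_relIndex S C N hS.1 inf_le_left] at hd'
        exact ((Fact.out : p.Prime).dvd_mul.1 hd').elim hS.2.2 hCidx⟩
      have hSy : ∀ s ∈ S, s * y = y * s := fun s hs' =>
        Subgroup.mem_centralizer_singleton_iff.1 (hS.1 hs').2
      have hAS : A ≤ Subgroup.normalizer (S : Set G) := by
        refine Subgroup.zpowers_le.2 (Subgroup.centralizer_le_normalizer _ ?_)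
        exact Subgroup.mem_centralizer_iff.2 hSy
      obtain ⟨c, hc, rfl⟩ := Cfsg.Agent.Grp.invariant_sylow_conj A N hAN hcopA hAs hSN' hR hAS hAR
      have hcy : y * c = c * y :=
        Subgroup.mem_centralizer_iff.1 hc.2 y (Subgroup.mem_zpowers y)
      rw [Subgroup.mem_pointwise_smul_iff_inv_smul_mem] at hv
      have hv' := hSy _ hv
      have e : v = c * ((MulAut.conj c)⁻¹ • v) * c⁻¹ := by
        simp [MulAut.smul_def, mul_assoc]
      rw [e]
      have : c⁻¹ * y = y * c⁻¹ := by rw [eq_mul_inv_iff_mul_eq, mul_assoc, hcy, inv_mul_cancel_left]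
      calc y * (c * ((MulAut.conj c)⁻¹ • v) * c⁻¹)
          = c * (y * ((MulAut.conj c)⁻¹ • v)) * c⁻¹ := by rw [← mul_assoc, ← mul_assoc, hcy, mul_assoc c]
        _ = c * ((MulAut.conj c)⁻¹ • v) * (y * c⁻¹) := by rw [← hv']; group
        _ = c * ((MulAut.conj c)⁻¹ • v) * c⁻¹ * y := by rw [← this, ← mul_assoc]


/-- Let p and q be primes and G a finite group that is p-solvable or q-solvable, in which no q-element has conjugacy class size divisible by p. Then some Sylow p-subgroup of G normalizes some Sylow q-subgroup of G. -/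
theorem result {G : Type*} [Group G] [Finite G] (p q : ℕ) [Fact p.Prime] [Fact q.Prime] (hsolv : Cfsg.IsPSolvable p G ∨ Cfsg.IsPSolvable q G)
    (h : ∀ y : G, (∃ k : ℕ, orderOf y = q ^ k) → ¬ p ∣ (Subgroup.centralizer ({y} : Set G)).index) :
    ∃ (P : Sylow p G) (Q : Sylow q G), (P : Subgroup G) ≤ Subgroup.normalizer ((Q : Subgroup G) : Set G) := Cfsg.Agent.Char.NormSylow.exists_iff.2 (main_step _ G rfl hsolv h)

end Cfsg.Agent.S4601
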