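import Cfsg.Statements.S4602
import Cfsg.Agent.Lib.Char.NormalizedSylow
-- import your own Cfsg.Agent.* helpers here

set_option autoImplicit false
open Cfsg

namespace Cfsg.Agent.S4602

/-- Let G be a finite p-solvable group and q a prime different from p. Some Sylow p-subgroup of G normalizes some Sylow q-subgroup of G if and only if q does not divide the order of G/O_{p'}(G), the quotient by the largest normal subgroup of order prime to p. -/
theorem result {G : Type*} [Group G] [Finite G] (p q : ℕ) [Fact p.Prime] [Fact q.Prime] (hpq : p ≠ q) (hsolv : Cfsg.IsPSolvable p G) :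
    (∃ (P : Sylow p G) (Q : Sylow q G), (P : Subgroup G) ≤ Subgroup.normalizer ((Q : Subgroup G) : Set G)) ↔ ¬ q ∣ (Cfsg.pPrimeCore p G).index := by
  classical
  have hN := Cfsg.Agent.Grp.pPrimeCore_isNormal (p := p) (G := G)
  set N := Cfsg.pPrimeCore p G with hNdef
  constructor
  · rintro ⟨P, Q, hPQ⟩
    set f := QuotientGroup.mk' N with hf
    have hs : Function.Surjective f := QuotientGroup.mk'_surjective N
    set P' := P.mapSurjective hs with hP'
    set Q' := Q.mapSurjective hs with hQ'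
    have hbot : Cfsg.pPrimeCore p (G ⧸ N) = ⊥ := Cfsg.Agent.Grp.pPrimeCore_quotient_eq_bot
    have hV := Cfsg.Agent.Grp.pCore_isNormal (p := p) (G := G ⧸ N)
    set V := Cfsg.pCore p (G ⧸ N) with hVdef
    have hle : (P' : Subgroup (G ⧸ N)) ≤ Subgroup.normalizer ((Q' : Subgroup (G ⧸ N)) : Set (G ⧸ N)) := by
      rw [hP', hQ', Sylow.coe_mapSurjective, Sylow.coe_mapSurjective]
      exact (Subgroup.map_mono hPQ).trans (Subgroup.le_normalizer_map f)
    have hVQ : V ≤ Subgroup.normalizer ((Q' : Subgroup (G ⧸ N)) : Set (G ⧸ N)) :=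
      (Cfsg.Agent.Grp.pCore_le_sylow P').trans hle
    have hcent : (Q' : Subgroup (G ⧸ N)) ≤ Subgroup.centralizer (V : Set (G ⧸ N)) := by
      intro y hy
      rw [Subgroup.mem_centralizer_iff]
      intro v hv
      have h1 : v * y * v⁻¹ * y⁻¹ ∈ (Q' : Subgroup (G ⧸ N)) :=
        mul_mem ((Subgroup.mem_normalizer_iff.1 (hVQ hv) y).1 hy) (inv_mem hy)
      have h2 : v * y * v⁻¹ * y⁻¹ ∈ V := by
        have := hV.conj_mem _ (inv_mem hv) y
        simpa [mul_assoc] using mul_mem hv this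
      have h3 : v * y * v⁻¹ * y⁻¹ = 1 := Subgroup.disjoint_def.1
        (IsPGroup.disjoint_of_ne p q hpq _ _ (Cfsg.Agent.Grp.pCore_isPGroup (p := p)) Q'.isPGroup') h2 h1
      exact mul_inv_eq_iff_eq_mul.1 (mul_inv_eq_one.1 h3)
    have hQV : (Q' : Subgroup (G ⧸ N)) ≤ V := hcent.trans
      (Cfsg.Agent.Grp.centralizer_pCore_le_of_pSolvable (Cfsg.Agent.Grp.isPSolvable_map hsolv f hs) hbot)
    have hQ1 : (Q' : Subgroup (G ⧸ N)) = ⊥ := (disjoint_self.1 ((IsPGroup.disjoint_of_ne p q hpq _ _ (Cfsg.Agent.Grp.pCore_isPGroup (p := p)) Q'.isPGroup').mono_left hQV))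
    have hnd := Q'.not_dvd_index
    rwa [hQ1, Subgroup.index_bot] at hnd
  · intro hq
    obtain ⟨Q⟩ : Nonempty (Sylow q G) := Sylow.nonempty
    refine Cfsg.Agent.Char.NormSylow.exists_iff.2 ⟨Q, Cfsg.Agent.Char.NormSylow.step N ?_ Q ?_⟩
    · obtain ⟨Qb⟩ : Nonempty (Sylow q (G ⧸ N)) := Sylow.nonempty
      refine ⟨Qb, ?_⟩
      have hQb : (Qb : Subgroup (G ⧸ N)) = ⊥ := by
        refine Subgroup.eq_bot_of_card_eq _ ?_
        obtain ⟨k, hk⟩ := IsPGroup.iff_card.1 Qb.isPGroup'
        rcases k with _ | k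
        · rwa [pow_zero] at hk
        · exfalso
          apply hq
          have := (Qb : Subgroup (G ⧸ N)).card_subgroup_dvd_card
          rw [hk] at this
          exact (dvd_pow_self q k.succ_ne_zero).trans this
      have hn : ((⊥ : Subgroup (G ⧸ N))).Normal := inferInstance
      rw [hQb, Subgroup.normalizer_eq_top, Subgroup.index_top]
      exact (Fact.out : p.Prime).one_lt.ne' ∘ Nat.dvd_one.1
    · exact fun h => Cfsg.Agent.Grp.pPrimeCore_not_dvd (p := p) (G := G)
        (h.trans (Cfsg.Agent.Char.NormSylow.relIndex_dvd_card _ _))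

end Cfsg.Agent.S4602
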