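import Cfsg.Statements.S4604
import Cfsg.Agent.Lib.Char.ModularRank
import Cfsg.Agent.Lib.Char.ModP

set_option autoImplicit false
open Cfsg

namespace Cfsg.Agent.S4604

/-- The p-power map is additive modulo p on algebraic integers. -/
theorem sum_pow_congr {p : ℕ} (hp : p.Prime) (n : ℕ) {ι : Type*} (s : Finset ι) (c : ι → Cfsg.AlgInt) :
    ∃ γ : Cfsg.AlgInt, (∑ i ∈ s, c i) ^ p ^ n - ∑ i ∈ s, c i ^ p ^ n = (p : Cfsg.AlgInt) * γ := by
  classical
  induction s using Finset.induction with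
  | empty => exact ⟨0, by simp [zero_pow (pow_ne_zero n hp.ne_zero)]⟩
  | insert i s hi ih =>
    obtain ⟨γ, hγ⟩ := ih
    obtain ⟨r, hr⟩ := exists_add_pow_prime_pow_eq hp (c i) (∑ j ∈ s, c j) n
    exact ⟨c i * (∑ j ∈ s, c j) * r + γ, by
      rw [Finset.sum_insert hi, Finset.sum_insert hi, hr, mul_add, ← hγ]; ring⟩

open Cfsg.Agent.Block in
/-- A character value raised to the p-part of the group order. -/
theorem value_pow {G : Type*} [Group G] [Finite G] (p : ℕ) [Fact p.Prime] (χ : Cfsg.IrrCharacter G)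
    (x : G) : ∃ γ : Cfsg.AlgInt, (χ : G → ℂ) x ^ p ^ (Nat.card G).factorization p -
      (χ : G → ℂ) (x ^ p ^ (Nat.card G).factorization p) = (p : ℂ) * (γ : ℂ) := by
  obtain ⟨d, ρ, hρ⟩ := irr_isChar χ
  obtain ⟨b, c, -, hc, hk⟩ := Cfsg.Agent.Char.exists_rep_eigenbasis ρ x
  have hci : ∀ i, IsIntegral ℤ (c i) := fun i => isIntegral_of_pow_eq_one (orderOf_pos x) (hc i)
  obtain ⟨γ, hγ⟩ := sum_pow_congr (Fact.out : p.Prime) ((Nat.card G).factorization p)
    Finset.univ (fun i => (⟨c i, hci i⟩ : Cfsg.AlgInt))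
  refine ⟨γ, ?_⟩
  rw [← hρ, hk]
  have h1 := hk 1
  simp only [pow_one] at h1
  rw [h1]
  have h2 := congrArg (Cfsg.AlgInt.val : Cfsg.AlgInt →ₐ[ℤ] ℂ) hγ
  simpa [map_sub, map_pow, map_sum, map_mul] using h2

/-- Let G be a finite group, p a prime and p^a the p-part of the order of G. Let x, y ∈ G and let x′, y′ be their p-regular parts: x′ has order prime to p, commutes with x·x′⁻¹, and x·x′⁻¹ has p-power order (likewise for y). Then x′ and y′ are conjugate in G if and only if for every irreducible character χ of G the algebraic integer χ(x)^(p^a) − χ(y)^(p^a) is p times an algebraic integer. -/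
theorem result {G : Type*} [Group G] [Finite G] (p : ℕ) [Fact p.Prime] (x y x' y' : G)
    (hx : (∃ k : ℕ, orderOf (x * x'⁻¹) = p ^ k) ∧ Commute (x * x'⁻¹) x' ∧ ¬ p ∣ orderOf x')
    (hy : (∃ k : ℕ, orderOf (y * y'⁻¹) = p ^ k) ∧ Commute (y * y'⁻¹) y' ∧ ¬ p ∣ orderOf y') :
    IsConj x' y' ↔ ∀ χ : Cfsg.IrrCharacter G, ∃ γ : Cfsg.AlgInt,
      (χ : G → ℂ) x ^ (p ^ (Nat.card G).factorization p) - (χ : G → ℂ) y ^ (p ^ (Nat.card G).factorization p) = (p : ℂ) * (γ : ℂ) := by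
  classical
  cases nonempty_fintype G
  have hp : p.Prime := Fact.out
  set q := p ^ (Nat.card G).factorization p with hq
  have hpart : ∀ {z z' : G}, (∃ k : ℕ, orderOf (z * z'⁻¹) = p ^ k) → Commute (z * z'⁻¹) z' →
      z ^ q = z' ^ q := by
    rintro z z' ⟨k, hk⟩ hc
    have hle : p ^ k ∣ q := by
      refine pow_dvd_pow p ((hp.pow_dvd_iff_le_factorization Nat.card_pos.ne').1 ?_)
      rw [← hk]; exact orderOf_dvd_natCard _
    have h1 : (z * z'⁻¹) ^ q = 1 := orderOf_dvd_iff_pow_eq_one.1 (hk ▸ hle)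
    calc z ^ q = ((z * z'⁻¹) * z') ^ q := by rw [inv_mul_cancel_right]
      _ = z' ^ q := by rw [hc.mul_pow, h1, one_mul]
  have ex := hpart hx.1 hx.2.1
  have ey := hpart hy.1 hy.2.1
  have key : (∀ χ : Cfsg.IrrCharacter G, ∃ γ : Cfsg.AlgInt,
      (χ : G → ℂ) x ^ q - (χ : G → ℂ) y ^ q = (p : ℂ) * (γ : ℂ)) ↔
      ∀ χ : Cfsg.IrrCharacter G, ∃ γ : Cfsg.AlgInt,
        (χ : G → ℂ) (x' ^ q) - (χ : G → ℂ) (y' ^ q) = (p : ℂ) * (γ : ℂ) := by
    refine forall_congr' fun χ => ?_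
    obtain ⟨α, hα⟩ := value_pow p χ x
    obtain ⟨β, hβ⟩ := value_pow p χ y
    rw [← ex, ← ey]
    constructor
    · rintro ⟨γ, hγ⟩; exact ⟨γ - α + β, by push_cast; linear_combination hγ - hα + hβ⟩
    · rintro ⟨γ, hγ⟩; exact ⟨γ + α - β, by push_cast; linear_combination hγ + hα - hβ⟩
  rw [key]
  constructor
  · intro h χ
    obtain ⟨t, ht⟩ := isConj_iff.1 h
    refine ⟨0, ?_⟩
    rw [← ht, conj_pow, Cfsg.Agent.Block.irr_classFun χ]
    simp
  intro h
  obtain ⟨M, hM⟩ := Cfsg.Agent.Char.exists_isPModular p hp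
  letI := Cfsg.Agent.Block.resInst hM
  have hreg : ∀ {z : G}, ¬ p ∣ orderOf z → ¬ p ∣ orderOf (z ^ q) := fun hz h' =>
    hz (h'.trans (orderOf_pow_dvd q))
  obtain ⟨k, hk⟩ : ∃ k : ℕ, ∀ g u v : G, u * v = g → Commute u v → (∃ a, orderOf u = p ^ a) →
      ¬ p ∣ orderOf v → g ^ k = v := by
    set n := Nat.card G / q with hn
    have hpn : ¬ p ∣ n := Nat.not_dvd_ordCompl hp Nat.card_pos.ne'
    have hco : Nat.Coprime q n := (hp.coprime_iff_not_dvd.2 hpn).pow_left _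
    have hmn : Nat.card G = q * n := (Nat.ordProj_mul_ordCompl_eq_self _ p).symm
    obtain ⟨k, hk, hk'⟩ := Cfsg.Agent.Char.Brauer.exists_projection_exponent (G := G) hco
    refine ⟨k, fun g u v huv hc hu hv => ?_⟩
    obtain ⟨a, ha⟩ := hu
    have h1 : orderOf u ∣ q :=
      Nat.Coprime.dvd_of_dvd_mul_right (ha ▸ (hp.coprime_iff_not_dvd.2 hpn).pow_left a)
        (hmn ▸ orderOf_dvd_natCard u)
    have h2 : orderOf v ∣ n := Nat.Coprime.dvd_of_dvd_mul_left
      ((hp.coprime_iff_not_dvd.2 hv).symm.pow_right _) (hmn ▸ orderOf_dvd_natCard v)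
    rw [← huv, hc.mul_pow, hk' u h1, hk v h2, one_mul]
  let τ : G → Cfsg.Agent.Block.ResField hM := fun g => if IsConj (g ^ k) (x' ^ q) then 1 else 0
  have hfix : ∀ {z : G}, ¬ p ∣ orderOf z → z ^ k = z := fun {z} hz =>
    hk z 1 z (one_mul z) (Commute.one_left z) ⟨0, by simp⟩ hz
  obtain ⟨c, hc⟩ := Cfsg.Agent.Char.CycMod.exists_red_comb hM τ (fun g t => by
      have h1 : IsConj (g ^ k) ((t * g * t⁻¹) ^ k) := isConj_iff.2 ⟨t, by rw [conj_pow]⟩
      simp only [τ]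
      exact if_congr ⟨fun h => h1.trans h, fun h => h1.symm.trans h⟩ rfl rfl)
    (fun g u v huv hcom hu hv => by
      simp only [τ]
      rw [hk g u v huv hcom hu hv, hfix hv])
  have hτ : τ (x' ^ q) = τ (y' ^ q) := by
    rw [hc, hc]
    refine Finset.sum_congr rfl fun χ _ => ?_
    congr 1
    refine (Cfsg.Agent.Block.red_eq_red hM (Cfsg.Agent.Block.irr_ring hM χ _)
      (Cfsg.Agent.Block.irr_ring hM χ _)).2 ?_
    obtain ⟨γ, hγ⟩ := h χ
    rw [hγ]
    exact Cfsg.Agent.Block.ideal_mul_right hM (Cfsg.Agent.Block.ideal_p hM)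
      (Cfsg.Agent.Block.ring_of_integral hM γ.2)
  have hconj : IsConj (y' ^ q) (x' ^ q) := by
    by_contra hn
    simp only [τ, hfix (hreg hx.2.2), hfix (hreg hy.2.2), if_pos (IsConj.refl (x' ^ q)),
      if_neg hn] at hτ
    exact one_ne_zero hτ
  obtain ⟨t, ht⟩ := isConj_iff.1 hconj
  have hy' : ¬ p ∣ orderOf (t * y' * t⁻¹) := by
    rw [← MulAut.conj_apply, MulEquiv.orderOf_eq]; exact hy.2.2
  have hco : Nat.Coprime q (orderOf ((t * y' * t⁻¹, x') : G × G)) := by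
    refine Nat.Coprime.pow_left _ (hp.coprime_iff_not_dvd.2 fun h' => ?_)
    rw [Prod.orderOf] at h'
    exact (hp.dvd_mul.1 (h'.trans (Nat.lcm_dvd_mul _ _))).elim hy' hx.2.2
  obtain ⟨j, hj⟩ := exists_pow_eq_self_of_coprime hco
  have h1 := congrArg Prod.fst hj
  have h2 := congrArg Prod.snd hj
  simp only [Prod.pow_fst, Prod.pow_snd] at h1 h2
  rw [conj_pow, ht] at h1
  exact (isConj_iff.2 ⟨t, h1.symm.trans h2⟩).symm

end Cfsg.Agent.S4604
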