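import Cfsg.Statements.S4607
import Cfsg.Agent.Lib.Char.RankOneBasic
import Cfsg.Agent.Lib.Char.NilpotentMain
import Cfsg.Agent.Lib.Char.PairCyclicLocal
-- import your own Cfsg.Agent.* helpers here

set_option autoImplicit false
open Cfsg

namespace Cfsg.Agent.S4607

/-- Let G be a finite group, p a prime, M a maximal ideal of the algebraic integers containing p, and B a p-block of G with defect group D. Then B contains exactly two irreducible characters if and only if D has order 2. -/
theorem result {G : Type*} [Group G] [Finite G] (p : ℕ) [Fact p.Prime] (M : Ideal Cfsg.AlgInt) (hM : Cfsg.IsPModular p M) (B : Set (Cfsg.IrrCharacter G)) (hB : Cfsg.IsPBlock M B) (D : Subgroup G) (hD : Cfsg.IsDefectGroup p M B D) : Nat.card B = 2 ↔ Nat.card D = 2 := by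
  classical
  cases nonempty_fintype G
  have hp : p.Prime := Fact.out
  have hcardD := Cfsg.Agent.Block.card_defectGroup hM hB hD
  constructor
  · intro hk
    obtain ⟨hle, hzero, heq⟩ := Cfsg.Agent.Block.blockRank_facts hM hB
    have hl0 := Cfsg.Agent.Char.Res.blockRank_pos (p := p) hM hB
    have hd : blockDefect p B ≠ 0 := fun h => by
      have := (hzero.1 h).1
      omega
    have hlt : blockRank p B ≠ Nat.card B := fun h => hd (heq.2 h.symm)
    rw [hcardD, Cfsg.Agent.Char.Res.pow_defect_eq_card hM hB hD (by omega) (by omega), hk]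
  · intro h2
    obtain ⟨χ, hχ, h0⟩ := Cfsg.Agent.Block.exists_height_zero hM hB
    obtain ⟨i, e, -, hmx, -, -⟩ := Cfsg.Agent.Char.Spec.exists_source hM hB hχ h0 hD
    have hcyc : IsCyclic D := isCyclic_of_prime_card (p := 2) h2
    have hab := Cfsg.Agent.Char.BP.comm_of_cyclic hcyc
    have hnil := (Cfsg.Agent.Char.BP.nilpotent_iff_inertial hM hmx hab).2 (by
      intro y hy
      rw [Subgroup.mem_centralizer_iff]
      intro d hd
      by_cases hd1 : d = 1
      · simp [hd1]
      have hn := Cfsg.Agent.Char.BP.stab_le_normalizer _ hy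
      have hyd : y * d * y⁻¹ ∈ D := (Subgroup.mem_normalizer_iff.1 hn d).1 hd
      have huniq := (Nat.card_eq_two_iff' (1 : D)).1 h2
      have := huniq.unique (y₁ := ⟨y * d * y⁻¹, hyd⟩) (y₂ := ⟨d, hd⟩)
        (fun he => hd1 (by simpa using congrArg Subtype.val he))
        (fun he => hd1 (congrArg Subtype.val he))
      have he : y * d * y⁻¹ = d := congrArg Subtype.val this
      calc d * y = y * d * y⁻¹ * y := by rw [he]
        _ = y * d := by group)
    obtain ⟨Φ, -⟩ := Cfsg.Agent.Char.Spec.exists_height_equiv hM hnil hD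
    rw [Nat.card_congr Φ]
    letI : CommGroup D :=
      { (inferInstance : Group D) with mul_comm := fun a b => Subtype.ext (hab a a.2 b b.2) }
    rw [Cfsg.Agent.Char.card_irrCharacter]
    rw [← h2]
    exact Nat.card_congr (ConjClasses.mkEquiv (α := D)).symm

end Cfsg.Agent.S4607
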