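import Cfsg.Statements.S4609
import Cfsg.Agent.Lib.Transfer.KThree.Normal
import Cfsg.Agent.S4607
-- import your own Cfsg.Agent.* helpers here

set_option autoImplicit false
open Cfsg

namespace Cfsg.Agent.S4609

/-- Let G be a finite group, p a prime, M a maximal ideal of the algebraic integers containing p, and B a p-block of G with defect group D containing exactly three irreducible characters. Suppose the number of height-zero characters of B equals the number of height-zero characters of its Brauer correspondent b, the block of N_G(D) with defect group D inducing B (as the Alperin–McKay conjecture predicts). Then D has order 3. -/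
theorem result {G : Type*} [Group G] [Finite G] (p : ℕ) [Fact p.Prime] (M : Ideal Cfsg.AlgInt) (hM : Cfsg.IsPModular p M) (B : Set (Cfsg.IrrCharacter G)) (hB : Cfsg.IsPBlock M B) (D : Subgroup G) (hD : Cfsg.IsDefectGroup p M B D) (hk : Nat.card B = 3)
    (b : Set (Cfsg.IrrCharacter (Subgroup.normalizer (D : Set G)))) (hbB : Cfsg.IsInducedBlock M (Subgroup.normalizer (D : Set G)) b B)
    (hbD : Cfsg.IsDefectGroup p M b (D.subgroupOf (Subgroup.normalizer (D : Set G))))
    (hAM : Nat.card {χ : Cfsg.IrrCharacter G // χ ∈ B ∧ Cfsg.blockHeight p B (χ : G → ℂ) = 0} =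
           Nat.card {ψ : Cfsg.IrrCharacter (Subgroup.normalizer (D : Set G)) // ψ ∈ b ∧ Cfsg.blockHeight p b (ψ : Subgroup.normalizer (D : Set G) → ℂ) = 0}) :
    Nat.card D = 3 := by
  classical
  cases nonempty_fintype G
  set N := Subgroup.normalizer (D : Set G) with hN
  letI := Fintype.ofFinite N
  set D' := D.subgroupOf N with hD'
  have hDN : D ≤ N := Subgroup.le_normalizer
  haveI : D'.Normal := Subgroup.normal_in_normalizer
  have hc : Nat.card D' = Nat.card D := Nat.card_congr (Subgroup.subgroupOfEquivOfLe hDN).toEquiv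
  have hne : D ≠ ⊥ := by
    intro h
    have h1 := Cfsg.Agent.Block.card_defectGroup hM hB hD
    rw [h, Subgroup.card_bot] at h1
    have hd : Cfsg.blockDefect p B = 0 := by
      rcases Nat.pow_eq_one.1 h1.symm with h2 | h2
      · exact absurd h2 (Fact.out : p.Prime).one_lt.ne'
      · exact h2
    have := ((Cfsg.Agent.Block.blockRank_facts hM hB).2.1.1 hd).1
    omega
  have hne' : D' ≠ ⊥ := fun h => hne (Subgroup.card_eq_one.1 (by rw [← hc, h, Subgroup.card_bot]))
  have hk0 : Nat.card {χ : Cfsg.IrrCharacter G // χ ∈ B ∧ Cfsg.blockHeight p B (χ : G → ℂ) = 0} ≤ 3 := by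
    rw [← hk]
    exact Nat.card_le_card_of_injective (fun χ => (⟨χ.1, χ.2.1⟩ : B))
      fun a a' h => Subtype.ext (congrArg (fun t : B => (t : Cfsg.IrrCharacter G)) h)
  rcases Cfsg.Agent.Transfer.KThree.normal_small hM hbB.1 hbD hne' (hAM ▸ hk0) with h | h
  · have h2 := (Cfsg.Agent.S4607.result p M hM B hB D hD).2 (hc ▸ h)
    omega
  · exact hc ▸ h

end Cfsg.Agent.S4609
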