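import Cfsg.Statements.S4611
import Cfsg.Agent.Lib.Block.TwoPrime.Basic
import Cfsg.Agent.Lib.Fus.TransitivityOdd

set_option autoImplicit false
open Cfsg

namespace Cfsg.Agent.S4611
open Cfsg.Agent.Char


/-- Let G be a finite solvable group and π a nonempty set of primes, each dividing the order of G; fix for each p in π a maximal ideal M p of the algebraic integers containing p. Then the only irreducible character lying in the principal p-block for every p in π is the principal character if and only if G is generated by the subgroups O_{p'}(G), p in π (the largest normal subgroups of order prime to p). -/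
theorem result {G : Type*} [Group G] [Finite G] [Group.IsSolvable G] (π : Set ℕ) (hπ : ∀ p ∈ π, p.Prime ∧ p ∣ Nat.card G) (hne : π.Nonempty) (M : ℕ → Ideal Cfsg.AlgInt) (hM : ∀ p ∈ π, Cfsg.IsPModular p (M p)) :
    (∀ χ : Cfsg.IrrCharacter G, (∀ p ∈ π, χ ∈ Cfsg.principalBlock (M p) G) → (χ : G → ℂ) = fun _ => 1) ↔
      ⨆ p ∈ π, Cfsg.pPrimeCore p G = ⊤ := by
  classical
  cases nonempty_fintype G
  have hps : ∀ p ∈ π, Cfsg.IsPSolvable p G := fun p hp =>
    Cfsg.Agent.Fus.TransOdd.isPSolvable_of_solvable (hπ p hp).1 _ G rfl inferInstance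
  have hmem : ∀ p ∈ π, ∀ χ : Cfsg.IrrCharacter G, χ ∈ Cfsg.principalBlock (M p) G ↔
      ∀ k ∈ Cfsg.pPrimeCore p G, (χ : G → ℂ) k = (χ : G → ℂ) 1 := fun p hp χ =>
    haveI := Fact.mk (hπ p hp).1
    Cfsg.Agent.Block.TwoPrime.mem_principal_iff_ker (hM p hp) (hps p hp) χ
  set K : Subgroup G := ⨆ p ∈ π, Cfsg.pPrimeCore p G with hK
  haveI : ∀ p, (Cfsg.pPrimeCore p G).Normal := fun p => Cfsg.Agent.Grp.pPrimeCore_isNormal
  haveI : ∀ p, (⨆ _ : p ∈ π, Cfsg.pPrimeCore p G).Normal := fun p => Subgroup.iSup_normal _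
  haveI hKn : K.Normal := Subgroup.iSup_normal _
  constructor
  · intro h
    by_contra hne
    letI : Fintype (G ⧸ K) := Fintype.ofFinite _
    obtain ⟨ψ, hψ⟩ : ∃ ψ : Cfsg.IrrCharacter (G ⧸ K), (ψ : G ⧸ K → ℂ) ≠ fun _ => 1 := by
      by_contra hall
      push Not at hall
      haveI : Subsingleton (Cfsg.IrrCharacter (G ⧸ K)) :=
        ⟨fun a b => Subtype.ext ((hall a).trans (hall b).symm)⟩
      have h1 := sum_degree_sq (G := G ⧸ K)
      rw [Fintype.sum_subsingleton _ ⟨_, isIrr_one⟩] at h1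
      simp only [one_pow] at h1
      have h2 : Nat.card (G ⧸ K) = 1 := by exact_mod_cast h1.symm
      exact hne (Subgroup.index_eq_one.1 h2)
    refine hψ (funext fun q => ?_)
    obtain ⟨g, rfl⟩ := QuotientGroup.mk_surjective q
    have h' := h ⟨fun g => (ψ : G ⧸ K → ℂ) (g : G ⧸ K), IsIrr.comp_surjective (QuotientGroup.mk' K)
      (QuotientGroup.mk'_surjective K) ψ.2⟩ fun p hp => (hmem p hp _).2 fun k hk => by
        show (ψ : G ⧸ K → ℂ) (k : G ⧸ K) = (ψ : G ⧸ K → ℂ) ((1 : G) : G ⧸ K)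
        rw [(QuotientGroup.eq_one_iff k).2
          ((le_iSup₂ (f := fun p (_ : p ∈ π) => Cfsg.pPrimeCore p G) p hp) hk), QuotientGroup.mk_one]
    exact congrFun h' g
  · intro h χ hχ
    have hker : K ≤ charKer (IsIrr.isCharacter χ.2) := iSup₂_le fun p hp k hk =>
      (mem_charKer _).2 ((hmem p hp χ).1 (hχ p hp) k hk)
    rw [h] at hker
    exact irr_const_eq_one χ.2 fun g => (mem_charKer (IsIrr.isCharacter χ.2)).1 (hker (Subgroup.mem_top g))

end Cfsg.Agent.S4611
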