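import Cfsg.Statements.S4614
import Cfsg.Agent.Lib.Char.SectionColumnInd
import Cfsg.Agent.Lib.Block.PrincipalColumn
import Cfsg.Agent.S4607
-- import your own Cfsg.Agent.* helpers here

set_option autoImplicit false
open Cfsg

namespace Cfsg.Agent.S4614

open scoped ComplexConjugate
open Cfsg.Agent.Block Cfsg.Agent.Char

/-- Of two natural numbers with an integral combination of the entries equal to `-1`, equal or
opposite entries are units. -/
theorem unit_of_combination {a b d e : ℤ} (h : 1 + d * a + e * b = 0) (hab : a = b ∨ a = -b) :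
    a * a = 1 ∧ b * b = 1 := by
  have hb : a * a = b * b := by rcases hab with h' | h' <;> subst h' <;> ring
  have hu : IsUnit a := by
    rcases hab with h' | h'
    · exact IsUnit.of_mul_eq_one (-(d + e)) (by subst h'; linarith)
    · exact IsUnit.of_mul_eq_one (-(d - e)) (by subst h'; linarith)
  rcases Int.isUnit_iff.1 hu with h' | h' <;> subst h' <;> exact ⟨by norm_num, by rw [← hb]; norm_num⟩

/-- A square sum one less than a power of two. -/
theorem pow_two_small {a b : ℤ} {n : ℕ} (h : 1 + (a * a + b * b) = 2 ^ n) : n ≤ 1 := by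
  by_contra hn
  obtain ⟨m, rfl⟩ := Nat.exists_eq_add_of_le (show 2 ≤ n by omega)
  have h1 := congrArg (fun t : ℤ => (t : ZMod 4)) h
  simp only [pow_add] at h1
  push_cast at h1
  rw [show (4 : ZMod 4) = 0 from rfl, zero_mul] at h1
  revert h1
  generalize (a : ZMod 4) = u
  generalize (b : ZMod 4) = v
  revert u v
  decide

/-- The arithmetic of the column of three characters. -/
theorem three_sum {q : ℤ} {a b d e : ℤ} (hd : d * a + e * b = -1) (hq : 1 + a * a + b * b = q)
    (hodd : Odd q) (h : a = b ∨ a = -b ∨ a = 0 ∨ b = 0) : q = 3 := by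
  rcases h with h | h | h | h
  · obtain ⟨h1, h2⟩ := unit_of_combination (a := a) (b := b) (d := d) (e := e) (by linarith) (Or.inl h)
    linarith
  · obtain ⟨h1, h2⟩ := unit_of_combination (a := a) (b := b) (d := d) (e := e) (by linarith) (Or.inr h)
    linarith
  · subst h
    rcases Int.isUnit_iff.1 (IsUnit.of_mul_eq_one (a := b) (-e) (by linarith)) with h' | h' <;>
      subst h' <;> norm_num at hq <;> subst hq <;> exact absurd hodd (by decide)
  · subst h
    rcases Int.isUnit_iff.1 (IsUnit.of_mul_eq_one (a := a) (-d) (by linarith)) with h' | h' <;>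
      subst h' <;> norm_num at hq <;> subst hq <;> exact absurd hodd (by decide)

/-- Let G be a finite group, p a prime and M a maximal ideal of the algebraic integers containing p. If the principal p-block of G contains exactly three irreducible characters, then a Sylow p-subgroup of G has order 3 (so p = 3). -/
theorem result {G : Type*} [Group G] [Finite G] (p : ℕ) [Fact p.Prime] (M : Ideal Cfsg.AlgInt) (hM : Cfsg.IsPModular p M) (hk : Nat.card (Cfsg.principalBlock M G) = 3) (D : Sylow p G) : Nat.card (D : Subgroup G) = 3 := by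
  classical
  cases nonempty_fintype G
  have hp : p.Prime := Fact.out
  have hB : IsPBlock M (principalBlock M G) := isPBlock_principalBlock
  obtain ⟨hle, hzero, heq⟩ := blockRank_facts hM hB
  obtain ⟨D₀, hD₀⟩ := exists_isDefectGroup hM hB
  have hcard₀ : Nat.card D₀ = p ^ (Nat.card G).factorization p := by
    rw [card_defectGroup hM hB hD₀, GalParity.principal_defect hM]
  rw [D.card_eq_multiplicity]
  set ν := (Nat.card G).factorization p with hν
  have hd : blockDefect p (principalBlock M G) ≠ 0 := fun h => by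
    have := (hzero.1 h).1
    omega
  have hν0 : ν ≠ 0 := fun h => hd (by rw [GalParity.principal_defect hM, ← hν, h])
  have hl : blockRank p (principalBlock M G) ≠ Nat.card (principalBlock M G) :=
    fun h => hd (heq.2 h.symm)
  have hl0 := Res.blockRank_pos (p := p) hM hB
  by_cases hl1 : blockRank p (principalBlock M G) = 1
  · rw [← hcard₀, card_defectGroup hM hB hD₀, Res.pow_defect_eq_card hM hB hD₀ hl1 (by omega), hk]
  obtain ⟨x, a, ha, hnorm, horth, hind⟩ := SectionColumnInd.exists_column hM
    (Nat.dvd_of_factorization_pos hν0) (by omega)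
  set A := Finset.univ.filter (fun χ : IrrCharacter G => χ ∈ principalBlock M G) with hA
  have h1A : trivialIrr G ∈ A := by simp [hA, trivial_mem_principalBlock hM]
  have hA3 : A.card = 3 := by rw [← hk, Nat.card_eq_fintype_card, Fintype.card_subtype]
  obtain ⟨χ, ψ, hne, hA'⟩ := Finset.card_eq_two.1
    (show (A.erase (trivialIrr G)).card = 2 by rw [Finset.card_erase_of_mem h1A, hA3])
  have hmem : ∀ {ξ}, ξ ∈ ({χ, ψ} : Finset (IrrCharacter G)) →
      ξ ≠ trivialIrr G ∧ ξ ∈ principalBlock M G := fun {ξ} h => by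
    rw [← hA', Finset.mem_erase] at h
    exact ⟨h.1, by simpa [hA] using h.2⟩
  obtain ⟨hχ1, hχ⟩ := hmem (Finset.mem_insert_self χ {ψ})
  obtain ⟨hψ1, hψ⟩ := hmem (Finset.mem_insert_of_mem (Finset.mem_singleton_self ψ))
  have ha1 : a (trivialIrr G) = 1 := by
    have := ha _ (trivial_mem_principalBlock hM)
    simp only [trivialIrr] at this
    exact_mod_cast this.symm
  have hsum : ∀ f : IrrCharacter G → ℂ,
      ∑ᶠ ξ ∈ principalBlock M G, f ξ = f (trivialIrr G) + (f χ + f ψ) := fun f => by
    rw [finsum_mem_block, ← hA, ← Finset.add_sum_erase A f h1A, hA', Finset.sum_pair hne]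
  obtain ⟨d, hd'⟩ := IsChar.one_eq_nat (irr_isChar χ)
  obtain ⟨e, he'⟩ := IsChar.one_eq_nat (irr_isChar ψ)
  rw [hsum, ha1] at hnorm
  have hq : 1 + a χ * a χ + a ψ * a ψ = ((p ^ ν : ℕ) : ℤ) := by
    have : ((1 + a χ * a χ + a ψ * a ψ : ℤ) : ℂ) = (((p ^ ν : ℕ) : ℤ) : ℂ) := by
      push_cast at hnorm ⊢
      linear_combination hnorm
    exact_mod_cast this
  have hlin : (d : ℤ) * a χ + (e : ℤ) * a ψ = -1 := by
    have h := horth 1 (by rw [orderOf_one]; exact hp.not_dvd_one)
    rw [hsum, ha1, hd', he'] at h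
    have : (((d : ℤ) * a χ + (e : ℤ) * a ψ : ℤ) : ℂ) = ((-1 : ℤ) : ℂ) := by
      simp only [trivialIrr] at h
      push_cast at h ⊢
      linear_combination h
    exact_mod_cast this
  by_cases hp2 : p = 2
  · subst hp2
    have hν1 : ν ≤ 1 := pow_two_small (a := a χ) (b := a ψ) (by push_cast at hq; linarith)
    have h2 := (Cfsg.Agent.S4607.result 2 M hM _ hB D₀ hD₀).2
      (by rw [hcard₀, show ν = 1 by omega, pow_one])
    omega
  have hi := hind hp2
  rw [hsum, ha1, show FS.ind (trivialIrr G : G → ℂ) = 1 from FS.ind_one] at hi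
  have hodd : Odd ((p ^ ν : ℕ) : ℤ) := by exact_mod_cast (hp.odd_of_ne_two hp2).pow
  have hgoal : ((p ^ ν : ℕ) : ℤ) = 3 := by
    refine three_sum hlin hq hodd ?_
    have hreal : ∀ ξ ξ' : IrrCharacter G, ξ ∈ principalBlock M G → ξ ≠ trivialIrr G →
        (∀ η ∈ principalBlock M G, η ≠ trivialIrr G → η ≠ ξ → η = ξ') →
        FS.ind (ξ : G → ℂ) = 0 → a ξ' = a ξ := by
      intro ξ ξ' hξ hξ1 hall h0
      set η := PrinCol.galIrr (starRingAut (R := ℂ)) ξ with hη
      have hηv : ∀ g, (η : G → ℂ) g = conj ((ξ : G → ℂ) g) := fun g => rfl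
      have hηB : η ∈ principalBlock M G := PrinCol.galIrr_mem hM _ hξ
      have hηne : η ≠ ξ := fun h => by
        rcases FS.ind_eq ξ with ⟨-, hr⟩ | ⟨h', -⟩
        · exact hr fun g => by rw [← hηv, h]
        · rw [h0] at h'; norm_num at h'
      have hη1 : η ≠ trivialIrr G := fun h => hξ1 (Subtype.ext (funext fun g => by
        have := congrArg conj (congrArg (fun t : IrrCharacter G => (t : G → ℂ) g) h)
        rw [hηv, Complex.conj_conj] at this
        rw [this]; simp [trivialIrr]))
      have h : ((a η : ℤ) : ℂ) = ((a ξ : ℤ) : ℂ) := by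
        rw [← ha η hηB, hηv, ha ξ hξ, map_intCast]
      rw [← hall η hηB hη1 hηne]
      exact_mod_cast h
    have hall : ∀ η ∈ principalBlock M G, η ≠ trivialIrr G → η = χ ∨ η = ψ := fun η hη h1 => by
      have : η ∈ ({χ, ψ} : Finset (IrrCharacter G)) := by
        rw [← hA', Finset.mem_erase]; exact ⟨h1, by simp [hA, hη]⟩
      simpa using this
    rcases FS.ind_eq χ with ⟨h0, -⟩ | ⟨hχi, -⟩
    · exact Or.inl (hreal χ ψ hχ hχ1 (fun η hη h1 h2 => (hall η hη h1).resolve_left h2) h0).symm
    rcases FS.ind_eq ψ with ⟨h0, -⟩ | ⟨hψi, -⟩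
    · exact Or.inl (hreal ψ χ hψ hψ1 (fun η hη h1 h2 => (hall η hη h1).resolve_right h2) h0)
    rcases hχi with h | h <;> rcases hψi with h' | h' <;> rw [h, h'] at hi
    · refine Or.inr (Or.inl ?_)
      have : ((a χ : ℤ) : ℂ) = ((-a ψ : ℤ) : ℂ) := by push_cast at hi ⊢; linear_combination hi
      exact_mod_cast this
    · refine Or.inl ?_
      have : ((a χ : ℤ) : ℂ) = ((a ψ : ℤ) : ℂ) := by push_cast at hi ⊢; linear_combination hi
      exact_mod_cast this
    · refine Or.inl ?_
      have : ((a χ : ℤ) : ℂ) = ((a ψ : ℤ) : ℂ) := by push_cast at hi ⊢; linear_combination -hi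
      exact_mod_cast this
    · refine Or.inr (Or.inl ?_)
      have : ((a χ : ℤ) : ℂ) = ((-a ψ : ℤ) : ℂ) := by push_cast at hi ⊢; linear_combination -hi
      exact_mod_cast this
  exact_mod_cast hgoal

end Cfsg.Agent.S4614
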