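import Cfsg.Statements.S4620
import Cfsg.Agent.Lib.Grp.Subnormal

set_option autoImplicit false
open scoped Pointwise
open Cfsg

namespace Cfsg.Agent.S4620
universe u

variable {H : Type u} [Group H] [Finite H] {p : ℕ} [Fact p.Prime]

theorem inf_ne_bot (hOp' : Cfsg.pPrimeCore p H = ⊥) (P : Sylow p H) {S : Subgroup H}
    (hS : S.IsSubnormal) (h : S ≠ ⊥) : (P : Subgroup H) ⊓ S ≠ ⊥ := by
  intro hb
  refine h (eq_bot_iff.2 (hOp' ▸ Cfsg.Agent.Grp.le_pPrimeCore_of_isSubnormal hS ?_))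
  have h1 := Cfsg.Agent.Grp.not_dvd_relIndex_sylow P hS
  rw [← Subgroup.inf_relIndex_right, hb, Subgroup.relIndex_bot_left] at h1
  exact ((Nat.Prime.coprime_iff_not_dvd Fact.out).2 h1).symm

/-- Something centralised by a subnormal subgroup of the group meets the Sylow subgroup trivially. -/
theorem absurd_of_centralized (hOp : Cfsg.pCore p H = ⊥) (hOp' : Cfsg.pPrimeCore p H = ⊥)
    (P : Sylow p H)
    (hTI : ∀ g : H, g ∉ Subgroup.normalizer ((P : Subgroup H) : Set H) →
      (P : Subgroup H) ⊓ (MulAut.conj g • (P : Subgroup H)) = ⊥)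
    {S T : Subgroup H} (hS : S.IsSubnormal) (hS1 : S ≠ ⊥) (hT : T.IsSubnormal) (hT1 : T ≠ ⊥)
    (hcomm : ∀ s ∈ S, ∀ t ∈ T, s * t = t * s) : False := by
  obtain ⟨x, hx, hx1⟩ := (Subgroup.bot_or_exists_ne_one _).resolve_left (inf_ne_bot hOp' P hT hT1)
  have hN : S ≤ Subgroup.normalizer ((P : Subgroup H) : Set H) := by
    intro g hg
    by_contra hgn
    refine hx1 (Subgroup.mem_bot.1 ((hTI g hgn).le ⟨hx.1, ?_⟩))
    refine (Subgroup.mem_smul_pointwise_iff_exists _ _ _).2 ⟨x, hx.1, ?_⟩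
    rw [MulAut.smul_def, MulAut.conj_apply, hcomm g hg x hx.2, mul_inv_cancel_right]
  refine inf_ne_bot hOp' P hS hS1 (eq_bot_iff.2 (hOp ▸
    Cfsg.Agent.Grp.le_pCore_of_isSubnormal ?_ (P.isPGroup'.to_le inf_le_left)))
  refine Subgroup.IsSubnormal.step _ S inf_le_right hS ?_
  refine (Subgroup.normal_subgroupOf_iff inf_le_right).2 fun a g ha hg => ⟨?_, ?_⟩
  · exact (Subgroup.mem_normalizer_iff.1 (hN hg) a).1 ha.1
  · exact S.mul_mem (S.mul_mem hg ha.2) (S.inv_mem hg)

theorem normal_isSubnormal {K : Subgroup H} (hK : K.Normal) : K.IsSubnormal :=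
  Subgroup.IsSubnormal.step _ ⊤ le_top Subgroup.IsSubnormal.top
    ((Subgroup.normal_subgroupOf_iff le_top).2 fun a g ha _ => hK.conj_mem a ha g)

/-- Let H be a finite group with no nontrivial normal p-subgroup and no nontrivial normal subgroup of order prime to p, whose Sylow p-subgroup P is nontrivial and a trivial-intersection set (P meets its conjugates by elements outside N_H(P) trivially). Then H has a unique minimal normal subgroup N; N is non-abelian simple with trivial centralizer in H (so H embeds in Aut(N)), and a Sylow p-subgroup of N is again a nontrivial trivial-intersection set in N. -/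
theorem result {H : Type*} [Group H] [Finite H] (p : ℕ) [Fact p.Prime] (hOp : Cfsg.pCore p H = ⊥) (hOp' : Cfsg.pPrimeCore p H = ⊥) (P : Sylow p H) (hP1 : (P : Subgroup H) ≠ ⊥)
    (hTI : ∀ g : H, g ∉ Subgroup.normalizer ((P : Subgroup H) : Set H) → (P : Subgroup H) ⊓ (MulAut.conj g • (P : Subgroup H)) = ⊥) :
    ∃ N : Subgroup H, N.Normal ∧ N ≠ ⊥ ∧ (∀ K : Subgroup H, K.Normal → K ≠ ⊥ → N ≤ K) ∧
      IsSimpleGroup N ∧ ¬ IsMulCommutative N ∧ Subgroup.centralizer (N : Set H) = ⊥ ∧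
      ∀ Q : Sylow p N, (Q : Subgroup N) ≠ ⊥ ∧
        ∀ n : N, n ∉ Subgroup.normalizer ((Q : Subgroup N) : Set N) → (Q : Subgroup N) ⊓ (MulAut.conj n • (Q : Subgroup N)) = ⊥ := by
  classical
  set S₀ : Set (Subgroup H) := {K | K.Normal ∧ K ≠ ⊥}
  have hne : (⊤ : Subgroup H) ≠ ⊥ := fun h => hP1 (eq_bot_iff.2 fun x hx => h ▸ Subgroup.mem_top x)
  obtain ⟨N, ⟨hN, hN1⟩, hmin⟩ := (Set.toFinite S₀).exists_minimal ⟨⊤, inferInstance, hne⟩
  haveI := hN
  have hNs := normal_isSubnormal hN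
  have hC : Subgroup.centralizer (N : Set H) = ⊥ := by
    by_contra hC
    have hCn : (Subgroup.centralizer (N : Set H)).Normal := inferInstance
    exact absurd_of_centralized hOp hOp' P hTI (normal_isSubnormal hCn) hC hNs hN1
      fun s hs t ht => (Subgroup.mem_centralizer_iff.1 hs t ht).symm
  have huniq : ∀ K : Subgroup H, K.Normal → K ≠ ⊥ → N ≤ K := by
    intro K hK hK1
    haveI := hK
    by_contra hle
    have hbot : N ⊓ K = ⊥ := by
      by_contra h
      exact hle ((hmin (y := N ⊓ K) ⟨Subgroup.normal_inf_normal _ _, h⟩ inf_le_left).trans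
        inf_le_right)
    refine hK1 (eq_bot_iff.2 (hC ▸ ?_))
    intro k hk
    refine Subgroup.mem_centralizer_iff.2 fun n hn => ?_
    exact Subgroup.commute_of_normal_of_disjoint N K hN hK (disjoint_iff.2 hbot) n k hn hk
  haveI : Nontrivial N := (Subgroup.nontrivial_iff_ne_bot N).2 hN1
  have hsimp : IsSimpleGroup N := by
    refine ⟨fun K hK => ?_⟩
    by_contra hcon
    push Not at hcon
    set S₁ : Set (Subgroup H) := {L | L ≤ N ∧ (L.subgroupOf N).Normal ∧ L ≠ ⊥}
    have hK' : K.map N.subtype ∈ S₁ := by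
      refine ⟨Subgroup.map_subtype_le _, ?_, ?_⟩
      · rw [Subgroup.subgroupOf, Subgroup.comap_map_eq_self_of_injective N.subtype_injective]
        exact hK
      · intro h
        exact hcon.1 ((Subgroup.map_eq_bot_iff_of_injective _ N.subtype_injective).1 h)
    obtain ⟨S, hSle, ⟨hSN, hSn, hS1⟩, hSmin⟩ :
        ∃ S, S ≤ K.map N.subtype ∧ S ∈ S₁ ∧ ∀ L ∈ S₁, L ≤ S → S ≤ L := by
      obtain ⟨S, h1, h2⟩ := (Set.toFinite S₁).exists_le_minimal hK'
      exact ⟨S, h1, h2.1, fun L hL => h2.2 hL⟩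
    have hSlt : ¬ N ≤ S := by
      intro h
      refine hcon.2 (eq_top_iff.2 fun x _ => ?_)
      obtain ⟨y, hy, e⟩ := hSle (h x.2)
      rwa [← Subtype.ext (e : (y : H) = x)]
    obtain ⟨g, hg⟩ : ∃ g : H, MulAut.conj g • S ≠ S := by
      by_contra hall
      push Not at hall
      have hSnormal : S.Normal := ⟨fun x hx g => by
        rw [← hall g, Subgroup.mem_smul_pointwise_iff_exists]
        exact ⟨x, hx, rfl⟩⟩
      exact hSlt (huniq S hSnormal hS1)
    have hconj : ∀ x : H, x ∈ MulAut.conj g • S ↔ g⁻¹ * x * g ∈ S := by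
      intro x
      rw [Subgroup.mem_smul_pointwise_iff_exists]
      constructor
      · rintro ⟨y, hy, rfl⟩
        simpa [MulAut.smul_def, mul_assoc] using hy
      · intro h
        exact ⟨_, h, by simp [MulAut.smul_def, mul_assoc]⟩
    set T := MulAut.conj g • S with hT
    have hTN : T ≤ N := fun x hx => by
      have := hN.conj_mem _ (hSN ((hconj x).1 hx)) g
      simpa [mul_assoc] using this
    have hTn : (T.subgroupOf N).Normal := by
      refine (Subgroup.normal_subgroupOf_iff hTN).2 fun a n ha hn => ?_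
      rw [hconj] at ha ⊢
      have hn' : g⁻¹ * n * g ∈ N := by simpa using hN.conj_mem n hn g⁻¹
      have := (Subgroup.normal_subgroupOf_iff hSN).1 hSn _ _ ha hn'
      simpa [mul_assoc] using this
    have hT1 : T ≠ ⊥ := fun h => hS1 (eq_bot_iff.2 fun x hx => by
      have : g * x * g⁻¹ ∈ T := (hconj _).2 (by simpa [mul_assoc] using hx)
      rw [h, Subgroup.mem_bot, conj_eq_one_iff] at this
      exact Subgroup.mem_bot.2 this)
    have hST : S ⊓ T = ⊥ := by
      by_contra h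
      have h1 : S ≤ S ⊓ T := hSmin _ ⟨inf_le_left.trans hSN, by
        rw [Subgroup.subgroupOf, Subgroup.comap_inf]
        exact Subgroup.normal_inf_normal (hH := hSn) (hK := hTn) _ _, h⟩ inf_le_left
      refine hg (Subgroup.eq_of_le_of_card_ge (le_inf_iff.1 h1).2 ?_).symm
      exact (Nat.card_congr (Subgroup.equivSMul (MulAut.conj g) S).toEquiv).symm.le
    refine absurd_of_centralized hOp hOp' P hTI (Subgroup.IsSubnormal.step S N hSN hNs hSn) hS1
      (Subgroup.IsSubnormal.step T N hTN hNs hTn) hT1 fun s hs t ht => ?_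
    have h1 : (⟨s, hSN hs⟩ : N) * ⟨t, hTN ht⟩ = ⟨t, hTN ht⟩ * ⟨s, hSN hs⟩ :=
      Subgroup.commute_of_normal_of_disjoint _ _ hSn hTn (by
        rw [disjoint_iff, Subgroup.subgroupOf, Subgroup.subgroupOf, ← Subgroup.comap_inf, hST,
          MonoidHom.comap_bot, Subgroup.ker_subtype]) _ _ hs ht
    exact congrArg Subtype.val h1
  refine ⟨N, hN, hN1, huniq, hsimp, ?_, hC, fun Q => ?_⟩
  · intro hab
    refine hN1 (eq_bot_iff.2 (hC ▸ fun n hn => Subgroup.mem_centralizer_iff.2 fun m hm => ?_))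
    exact congrArg Subtype.val (hab.is_comm.comm (⟨m, hm⟩ : N) ⟨n, hn⟩)
  have hQP : ∀ P' : Sylow p H, (P' : Subgroup H).subgroupOf N = Q → (Q : Subgroup N) ≠ ⊥ ∧
      ∀ n : N, n ∉ Subgroup.normalizer ((Q : Subgroup N) : Set N) →
        (Q : Subgroup N) ⊓ (MulAut.conj n • (Q : Subgroup N)) = ⊥ := by
    intro P' e
    obtain ⟨h, hh⟩ := MulAction.exists_smul_eq H P P'
    have hh' : MulAut.conj h • (P : Subgroup H) = P' := by rw [← hh]; rfl
    refine ⟨fun hQ => inf_ne_bot hOp' P' hNs hN1 ?_, fun n hn => ?_⟩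
    · rw [hQ, Subgroup.subgroupOf_eq_bot] at e
      exact disjoint_iff.1 e
    rw [eq_bot_iff]
    rintro x ⟨hx, hx'⟩
    obtain ⟨y, hy, hyx⟩ := (Subgroup.mem_smul_pointwise_iff_exists _ _ _).1 hx'
    rw [← e] at hx hy
    replace hx : (x : H) ∈ (P' : Subgroup H) := hx
    rw [← hh', Subgroup.mem_smul_pointwise_iff_exists] at hx
    replace hy : (y : H) ∈ (P' : Subgroup H) := hy
    rw [← hh', Subgroup.mem_smul_pointwise_iff_exists] at hy
    obtain ⟨a, ha, hax⟩ := hx
    obtain ⟨b, hb, hby⟩ := hy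
    have hyx' : (n : H) * (y : H) * (n : H)⁻¹ = (x : H) := congrArg Subtype.val hyx
    simp only [MulAut.smul_def, MulAut.conj_apply] at hax hby
    have hk : h⁻¹ * n * h ∉ Subgroup.normalizer ((P : Subgroup H) : Set H) := by
      intro hk
      refine hn (Subgroup.mem_normalizer_iff.2 fun z => ?_)
      have hmem : ∀ w : H, w ∈ (P' : Subgroup H) ↔ h⁻¹ * w * h ∈ (P : Subgroup H) := fun w => by
        rw [← hh', Subgroup.mem_smul_pointwise_iff_exists]
        exact ⟨fun ⟨c, hc, hcw⟩ => by rw [← hcw]; simpa [MulAut.smul_def, mul_assoc] using hc,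
          fun hw => ⟨_, hw, by simp [MulAut.smul_def, mul_assoc]⟩⟩
      rw [← e]
      simp only [Subgroup.mem_subgroupOf, hmem, Subgroup.coe_mul, Subgroup.coe_inv]
      rw [Subgroup.mem_normalizer_iff.1 hk (h⁻¹ * (z : H) * h)]
      simp [mul_assoc]
    have : h⁻¹ * (x : H) * h ∈ (⊥ : Subgroup H) := (hTI _ hk).le ⟨by
      show h⁻¹ * (x : H) * h ∈ (P : Subgroup H)
      rw [show h⁻¹ * (x : H) * h = a by rw [← hax]; group]
      exact ha, by
      exact (Subgroup.mem_smul_pointwise_iff_exists _ _ _).2 ⟨b, hb, by rw [← hyx', ← hby]; simp [MulAut.smul_def, mul_assoc]⟩⟩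
    rw [Subgroup.mem_bot] at this ⊢
    refine Subtype.ext ?_
    simpa [mul_eq_one_iff_eq_inv, mul_assoc] using this
  obtain ⟨P', hP'⟩ := Q.exists_comap_subtype_eq
  exact hQP P' hP'

end Cfsg.Agent.S4620
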