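import Cfsg.Statements.S4626
import Cfsg.Agent.Lib.Block.Height
import Cfsg.Agent.Lib.Char.Quotient

set_option autoImplicit false
open Cfsg

namespace Cfsg.Agent.S4626

/-- Let G be a finite group, p a prime, M a maximal ideal of the algebraic integers containing p, P a Sylow p-subgroup of G and N a normal subgroup of index prime to p containing the centralizer C_G(P). Then every irreducible character of G whose kernel contains N lies in the principal p-block of G. -/
theorem result {G : Type*} [Group G] [Finite G] (p : ℕ) [Fact p.Prime] (M : Ideal Cfsg.AlgInt) (hM : Cfsg.IsPModular p M) (P : Sylow p G) (N : Subgroup G) [N.Normal] (hidx : ¬ p ∣ N.index)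
    (hC : Subgroup.centralizer ((P : Subgroup G) : Set G) ≤ N) (χ : Cfsg.IrrCharacter G) (hker : ∀ n ∈ N, (χ : G → ℂ) n = (χ : G → ℂ) 1) :
    χ ∈ Cfsg.principalBlock M G := by
  classical
  have hp : p.Prime := Fact.out
  cases nonempty_fintype G
  obtain ⟨χ₀, hirr, hcomp⟩ := Cfsg.Agent.Char.IsIrr.exists_factor χ.2 (QuotientGroup.mk' N)
    (QuotientGroup.mk'_surjective N) (fun n hn => hker n (by simpa using hn))
  have hdeg : ¬ p ∣ Cfsg.charDegree (χ : G → ℂ) := fun h => hidx (h.trans (by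
    have h1 : χ₀ 1 = ((Cfsg.charDegree (χ : G → ℂ) : ℕ) : ℂ) := by
      rw [← Cfsg.Agent.Block.charDeg_spec' χ]
      first
        | rw [← hcomp]; simp
        | rw [hcomp]; simp
        | simpa using (hcomp 1).symm
    simpa [Subgroup.index_eq_card] using Cfsg.Agent.Char.IsIrr.degree_dvd_card hirr h1))
  refine Cfsg.Agent.Block.mem_blockOf.2 fun g => ?_
  have hχ1 : ((Cfsg.charDegree (χ : G → ℂ) : ℕ) : ℂ) ≠ 0 :=
    Nat.cast_ne_zero.2 (Cfsg.Agent.Block.charDeg_pos χ).ne'
  set c := (Subgroup.centralizer ({g} : Set G)).index with hc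
  have htriv : Cfsg.centralChar ((Cfsg.Agent.Block.trivialIrr G : Cfsg.IrrCharacter G) : G → ℂ) g = (c : ℂ) := by
    simp [Cfsg.centralChar, Cfsg.Agent.Block.trivialIrr, hc]
  refine Cfsg.Agent.Block.ideal_sub_comm ?_
  show Cfsg.MemLocalIdeal M (Cfsg.centralChar (χ : G → ℂ) g - Cfsg.centralChar (fun _ => 1) g)
  rw [show Cfsg.centralChar (fun _ : G => (1 : ℂ)) g = (c : ℂ) from htriv]
  have hω : Cfsg.centralChar (χ : G → ℂ) g = (c : ℂ) * (χ : G → ℂ) g / ((Cfsg.charDegree (χ : G → ℂ) : ℕ) : ℂ) := by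
    rw [Cfsg.centralChar, Cfsg.Agent.Block.charDeg_spec' χ]
  by_cases hpc : p ∣ c
  · refine Cfsg.Agent.Block.ideal_sub hM ?_ ((Cfsg.Agent.Block.ideal_natCast_iff hM c).2 hpc)
    rw [hω, mul_div_assoc, div_eq_mul_inv]
    exact Cfsg.Agent.Block.ideal_mul_right hM ((Cfsg.Agent.Block.ideal_natCast_iff hM c).2 hpc)
      (Cfsg.Agent.Block.ring_mul hM (Cfsg.Agent.Block.irr_ring hM χ g)
        (Cfsg.Agent.Block.ring_inv_natCast hM hdeg))
  · obtain ⟨Q⟩ : Nonempty (Sylow p (Subgroup.centralizer ({g} : Set G))) := inferInstance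
    have hsyl : ∃ S : Sylow p G, (S : Subgroup G) = Cfsg.Agent.Block.csyl Q := by
      refine ⟨Sylow.ofCard (Cfsg.Agent.Block.csyl Q) ?_, rfl⟩
      rw [Cfsg.Agent.Block.card_csyl]
      congr 1
      conv_rhs => rw [← (Subgroup.centralizer ({g} : Set G)).index_mul_card,
        Nat.factorization_mul Subgroup.index_ne_zero_of_finite Nat.card_pos.ne', Finsupp.add_apply,
        Nat.factorization_eq_zero_of_not_dvd hpc, zero_add]
    obtain ⟨S, hS⟩ := hsyl
    obtain ⟨t, ht⟩ := MulAction.exists_smul_eq G S P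
    have hgN : g ∈ N := by
      have h1 : t * g * t⁻¹ ∈ N := hC (Subgroup.mem_centralizer_iff.2 fun u hu => by
        rw [SetLike.mem_coe, ← ht, Sylow.coe_subgroup_smul] at hu
        obtain ⟨v, hv, rfl⟩ := hu
        rw [hS] at hv
        have h2 := Subgroup.mem_centralizer_singleton_iff.1 (Cfsg.Agent.Block.csyl_le Q hv)
        show t * v * t⁻¹ * (t * g * t⁻¹) = t * g * t⁻¹ * (t * v * t⁻¹)
        calc t * v * t⁻¹ * (t * g * t⁻¹) = t * (v * g) * t⁻¹ := by group
          _ = t * (g * v) * t⁻¹ := by rw [h2]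
          _ = _ := by group)
      have h3 := Subgroup.Normal.conj_mem inferInstance _ h1 t⁻¹
      simpa [mul_assoc] using h3
    rw [hω, hker g hgN, Cfsg.Agent.Block.charDeg_spec' χ, mul_div_cancel_right₀ _ hχ1, sub_self]
    exact Cfsg.Agent.Block.ideal_zero hM

end Cfsg.Agent.S4626
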