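import Cfsg.Statements.S4634
import Cfsg.Agent.Lib.Char.CycDefFrob

set_option autoImplicit false
open Cfsg

namespace Cfsg.Agent.S4634

/-- Let B be a block of the finite group G relative to a maximal ideal M of the algebraic integers containing the prime p, with a nontrivial cyclic defect group P, let c be a block of C_G(P) inducing B, T the stabilizer of c in N_G(P) and e the index of C_G(P) in T. Let F be any finite group of order #P · e having a cyclic subgroup Q of order #P that is its own centralizer (F is then the semidirect product of Q by a cyclic group of order e acting faithfully). Then there is a perfect isometry from the set of all irreducible characters of F onto B whose signs agree on all the characters of F that do not contain Q in their kernel. -/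
theorem result {G : Type*} [Group G] [Finite G] (p : ℕ) [Fact p.Prime] (M : Ideal Cfsg.AlgInt) (hM : Cfsg.IsPModular p M) (B : Set (Cfsg.IrrCharacter G)) (hB : Cfsg.IsPBlock M B) (P : Subgroup G) (hPD : Cfsg.IsDefectGroup p M B P) (hP1 : P ≠ ⊥) (hcyc : IsCyclic P) (c : Set (Cfsg.IrrCharacter (Subgroup.centralizer (P : Set G)))) (hc : Cfsg.IsInducedBlock M (Subgroup.centralizer (P : Set G)) c B) (T : Subgroup G) (hT : ∀ g : G, g ∈ T ↔ (g ∈ Subgroup.normalizer (P : Set G) ∧ Cfsg.StabilizesBlock (Subgroup.centralizer (P : Set G)) c g)) (e : ℕ) (he : (Subgroup.centralizer (P : Set G)).relIndex T = e) (F : Type*) [Group F] [Finite F] (hF : Nat.card F = Nat.card P * e) (Q : Subgroup F) (hQ : IsCyclic Q) (hQcard : Nat.card Q = Nat.card P) (hQC : Subgroup.centralizer (Q : Set F) = Q) : ∃ (I : Cfsg.IrrCharacter F → Cfsg.IrrCharacter G) (ε : Cfsg.IrrCharacter F → ℤ), Cfsg.IsPerfectIsometry p M (Set.univ : Set (Cfsg.IrrCharacter F)) B I ε ∧ ∀ η η' : Cfsg.IrrCharacter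 F, (∃ x ∈ Q, (η : F → ℂ) x ≠ (η : F → ℂ) 1) → (∃ x ∈ Q, (η' : F → ℂ) x ≠ (η' : F → ℂ) 1) → ε η = ε η' := by
  classical
  haveI : Fintype G := Fintype.ofFinite G
  haveI : Fintype F := Fintype.ofFinite F
  have hp : p.Prime := Fact.out
  have hab := Cfsg.Agent.Char.BP.comm_of_cyclic (P := P) hcyc
  have hx := Cfsg.Agent.Char.BP.isMx_of_induced hM hPD hab hc
  have hst : Cfsg.Agent.Char.BP.stab (⟨P, c⟩ : BrauerPairIdx G) = T :=
    (Cfsg.Agent.Char.BP.eq_stab hM (a := (⟨P, c⟩ : BrauerPairIdx G)) hx.1.1.2 hT).symm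
  haveI : Nontrivial P := (Subgroup.nontrivial_iff_ne_bot P).2 hP1
  obtain ⟨a, ha, hPa⟩ := hx.1.1.1.nontrivial_iff_card.1 ‹_›
  change Nat.card P = p ^ a at hPa
  haveI : NeZero (Nat.card P) := ⟨Nat.card_pos.ne'⟩
  obtain ⟨u₀, hgen⟩ := Cfsg.Agent.Char.CycDef.exists_gen (x := (⟨P, c⟩ : BrauerPairIdx G)) hcyc
  have hN : orderOf u₀ = Nat.card P := by rw [← Nat.card_zpowers, hgen]
  obtain ⟨R, β, X, y, cc, ε, hd⟩ :=
    Cfsg.Agent.Char.CycDef.exists_data (N := Nat.card P) hM hB hx hcyc hP1 hgen hN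
  have heq : (Cfsg.Agent.Char.BP.CG P).relIndex
      (Cfsg.Agent.Char.BP.stab (⟨P, c⟩ : BrauerPairIdx G)) = e := by rw [hst]; exact he
  have hRe : Nat.card R = e := hd.card_R.trans heq
  have hdvd : e ∣ p - 1 := by
    haveI : ((Cfsg.Agent.Char.BP.CG P).subgroupOf
        (Cfsg.Agent.Char.BP.stab (⟨P, c⟩ : BrauerPairIdx G))).Normal :=
      (Subgroup.normal_subgroupOf_iff_le_normalizer
        (Cfsg.Agent.Char.BP.cg_le_stab (⟨P, c⟩ : BrauerPairIdx G))).2
        ((Cfsg.Agent.Char.BP.stab_le_normalizer _).trans fun u hu =>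
          Cfsg.Agent.Char.BP.mem_normalizer_cg hu)
    have h := (Cfsg.Agent.Char.BP.cyclic_quotient hx.1.1.1 hP1 hcyc
      (Cfsg.Agent.Char.BP.stab_le_normalizer (⟨P, c⟩ : BrauerPairIdx G))
      (Cfsg.Agent.Char.BP.free_of_cyclic hM hx hcyc)).2
    exact heq ▸ h
  have hele : e ≤ p - 1 := Nat.le_of_dvd (by have := hp.two_le; omega) hdvd
  have he0 : 0 < e := hRe ▸ Nat.card_pos
  have hpe : ¬ p ∣ e := fun h => by
    have := Nat.le_of_dvd he0 h
    omega
  have hQp : IsPGroup p Q := IsPGroup.of_card (hQcard.trans hPa)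
  have hidx : Q.index = e := by
    have h := Q.card_mul_index
    rw [hQcard, hF] at h
    exact Nat.eq_of_mul_eq_mul_left Nat.card_pos h
  haveI : Q.Normal := by
    have hndvd : ¬ p ∣ Q.index := hidx ▸ hpe
    have h1 : Nat.card (Sylow p F) ∣ Q.index := by
      have := (hQp.toSylow hndvd).card_dvd_index
      rwa [IsPGroup.toSylow_coe] at this
    have h2 : Nat.card (Sylow p F) ≡ 1 [MOD p] := card_sylow_modEq_one p F
    have h3 : Nat.card (Sylow p F) < p := by
      have := Nat.le_of_dvd he0 (hidx ▸ h1)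
      omega
    have h4 : Nat.card (Sylow p F) = 1 := Nat.ModEq.eq_of_lt_of_lt h2 h3 hp.one_lt
    haveI : Subsingleton (Sylow p F) := (Nat.card_eq_one_iff_unique.1 h4).1
    have := (hQp.toSylow hndvd).normal_of_subsingleton
    rwa [IsPGroup.toSylow_coe] at this
  have hQa : Nat.card Q = p ^ a := hQcard.trans hPa
  have hFa : Nat.card F = p ^ a * e := by rw [hF, hPa]
  obtain ⟨hB', hx', hst', hrel⟩ := Cfsg.Agent.Char.CycDef.frob_setup hM hQ hQa hFa hpe hQC
  have hQ1 : Q ≠ ⊥ := fun h => hP1 (by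
    rw [h, Subgroup.card_bot] at hQcard
    exact P.eq_bot_of_card_eq hQcard.symm)
  obtain ⟨u₁, hgen'⟩ := Cfsg.Agent.Char.CycDef.exists_gen
    (x := (Cfsg.Agent.Char.BP.prPair M Q : BrauerPairIdx F)) hQ
  have hN' : orderOf u₁ = Nat.card P := by
    rw [← Nat.card_zpowers, hgen']; exact hQcard
  obtain ⟨R', β', X', y', cc', ε', hd'⟩ :=
    Cfsg.Agent.Char.CycDef.exists_data (N := Nat.card P) hM hB' hx' hQ hQ1 hgen' hN'
  have hRe' : Nat.card R' = e := hd'.card_R.trans hrel
  obtain rfl : R' = R :=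
    Cfsg.Agent.Char.CycDef.units_subgroup_eq hPa (hRe'.trans hRe.symm) (hRe'.symm ▸ hdvd)
  obtain ⟨I, σ, hiso, hσX, hσY⟩ := Cfsg.Agent.Char.CycDef.exists_isometry hM hB hx hcyc hP1 hgen hN
    hd hB' hx' hQ hgen' hN' hd'
  refine ⟨I, σ, hiso, fun η η' hη hη' => ?_⟩
  have hmem : ∀ ξ : IrrCharacter F, ξ ∈ X' ∨ ξ ∈ Cfsg.Agent.Char.CycDef.ys y' := fun ξ =>
    ((hd'.mem_iff ξ).1 (Set.mem_univ ξ)).imp_right Cfsg.Agent.Char.CycDef.mem_ys.2
  rcases Nat.lt_or_ge 1 e with he1 | he1
  · rcases hmem η with h | h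
    · rw [Cfsg.Agent.Char.CycDef.frob_signs hM hQ hQa hFa hpe hQC ha he1 hgen' hN' hd' hη hη' h]
    · rcases hmem η' with h' | h'
      · rw [Cfsg.Agent.Char.CycDef.frob_signs hM hQ hQa hFa hpe hQC ha he1 hgen' hN' hd' hη' hη h']
      · rw [hσY η h, hσY η' h']
  · have he' : e = 1 := by omega
    have h1N : (1 : ZMod (Nat.card P)) ≠ 0 := fun h => hP1 (by
      have h' := Cfsg.Agent.Char.CycDef.pw_one hN
      rw [h, Cfsg.Agent.Char.CycDef.pw_zero] at h'
      show (⟨P, c⟩ : BrauerPairIdx G).1 = ⊥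
      rw [← hgen, Subgroup.zpowers_eq_bot, h'])
    have hXone : ∀ χ ∈ X, cc χ = -ε := by
      intro χ hχ
      have hX1 : X = {χ} := by
        refine Finset.eq_singleton_iff_unique_mem.2 ⟨hχ, fun z hz => ?_⟩
        exact Finset.card_le_one.1 (by rw [hd.card_X, heq, he']) z hz χ hχ
      have h := hd.regular 1 h1N 1 (by rw [orderOf_one]; exact hp.not_dvd_one)
      rw [hX1, Finset.sum_singleton, Cfsg.Agent.Block.charDeg_spec',
        Cfsg.Agent.Block.charDeg_spec'] at h
      have h' : cc χ * (charDegree (χ : G → ℂ) : ℤ) + ε * (charDegree (y 1 : G → ℂ) : ℤ) = 0 := by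
        exact_mod_cast h
      have p1 := Cfsg.Agent.Block.charDeg_pos χ
      have p2 := Cfsg.Agent.Block.charDeg_pos (y 1)
      rcases hd.c_sign χ hχ with e1 | e1 <;> rcases hd.ε_sign with e2 | e2 <;> rw [e1, e2] at h' <;>
        rw [e1, e2] <;> omega
    have hXone' : ∀ χ ∈ X', cc' χ = -ε' := by
      intro χ hχ
      have hX1 : X' = {χ} := by
        refine Finset.eq_singleton_iff_unique_mem.2 ⟨hχ, fun z hz => ?_⟩
        exact Finset.card_le_one.1 (by rw [hd'.card_X, ← hd'.card_R, hRe', he']) z hz χ hχ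
      have h := hd'.regular 1 h1N 1 (by rw [orderOf_one]; exact hp.not_dvd_one)
      rw [hX1, Finset.sum_singleton, Cfsg.Agent.Block.charDeg_spec',
        Cfsg.Agent.Block.charDeg_spec'] at h
      have h' : cc' χ * (charDegree (χ : F → ℂ) : ℤ) + ε' * (charDegree (y' 1 : F → ℂ) : ℤ) = 0 := by
        exact_mod_cast h
      have p1 := Cfsg.Agent.Block.charDeg_pos χ
      have p2 := Cfsg.Agent.Block.charDeg_pos (y' 1)
      rcases hd'.c_sign χ hχ with e1 | e1 <;> rcases hd'.ε_sign with e2 | e2 <;> rw [e1, e2] at h' <;>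
        rw [e1, e2] <;> omega
    have hall : ∀ ξ : IrrCharacter F, σ ξ = ε * ε' := fun ξ => by
      rcases hmem ξ with h | h
      · rw [(hσX ξ h).2, hXone _ (hσX ξ h).1, hXone' ξ h, neg_mul_neg]
      · exact hσY ξ h
    rw [hall, hall]

end Cfsg.Agent.S4634
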