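import Cfsg.Statements.S4635
import Cfsg.Agent.Lib.Char.CycDefNorm

set_option autoImplicit false
open Cfsg

namespace Cfsg.Agent.S4635

/-- Let B be a block of the finite group G relative to a maximal ideal M of the algebraic integers containing the prime p, with a nontrivial cyclic defect group P; let Z be the subgroup of order p of P and H = N_G(Z), which contains N_G(P). Let c be the block of H with defect group P that induces B. Then B and c contain the same number of irreducible characters, have the same p-regular rank, and there is a perfect isometry from c onto B. -/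
theorem result {G : Type*} [Group G] [Finite G] (p : ℕ) [Fact p.Prime] (M : Ideal Cfsg.AlgInt) (hM : Cfsg.IsPModular p M) (B : Set (Cfsg.IrrCharacter G)) (hB : Cfsg.IsPBlock M B) (P : Subgroup G) (hPD : Cfsg.IsDefectGroup p M B P) (hP1 : P ≠ ⊥) (hcyc : IsCyclic P) (Z : Subgroup G) (hZ : Z ≤ P) (hZcard : Nat.card Z = p) (H : Subgroup G) (hH : H = Subgroup.normalizer (Z : Set G)) (c : Set (Cfsg.IrrCharacter H)) (hcD : Cfsg.IsDefectGroup p M c (P.subgroupOf H)) (hc : Cfsg.IsInducedBlock M H c B) : Nat.card c = Nat.card B ∧ Cfsg.blockRank p c = Cfsg.blockRank p B ∧ ∃ (I : Cfsg.IrrCharacter H → Cfsg.IrrCharacter G) (ε : Cfsg.IrrCharacter H → ℤ), Cfsg.IsPerfectIsometry p M c B I ε := by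
  classical
  haveI : Fintype G := Fintype.ofFinite G
  subst hH
  haveI : Fintype (Subgroup.normalizer (Z : Set G)) := Fintype.ofFinite _
  have hN : Subgroup.normalizer (P : Set G) ≤ Subgroup.normalizer (Z : Set G) :=
    Cfsg.Agent.Char.BP.le_normalizer_of_cyclic hcyc hZ
  obtain ⟨x, h1, h2, rfl, hx, hx'⟩ :=
    Cfsg.Agent.Char.CycDef.exists_common_max hM hB hPD hN hcD hc
  haveI : NeZero (Nat.card x.1) := ⟨Nat.card_pos.ne'⟩
  obtain ⟨u₀, hgen⟩ := Cfsg.Agent.Char.CycDef.exists_gen (x := x) hcyc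
  have hord : orderOf u₀ = Nat.card x.1 := by rw [← Nat.card_zpowers, hgen]
  obtain ⟨R, β, X, y, cc, ε, hd⟩ :=
    Cfsg.Agent.Char.CycDef.exists_data (N := Nat.card x.1) hM hB hx hcyc hP1 hgen hord
  set x' := Cfsg.Agent.Char.BP.dn (Subgroup.normalizer (Z : Set G)) x h1 h2 with hx'def
  have hfst : x'.1 = x.1.subgroupOf (Subgroup.normalizer (Z : Set G)) := rfl
  have hcyc' : IsCyclic x'.1 := by
    rw [hfst]
    exact (MulEquiv.isCyclic (Subgroup.subgroupOfEquivOfLe h1)).2 hcyc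
  have hcard' : Nat.card x'.1 = Nat.card x.1 := by
    rw [hfst, Nat.card_congr (Subgroup.subgroupOfEquivOfLe h1).toEquiv]
  have hP1' : x'.1 ≠ ⊥ := fun h => hP1 (by
    rw [h, Subgroup.card_bot] at hcard'
    exact Subgroup.eq_bot_of_card_eq _ hcard'.symm)
  obtain ⟨u₁, hgen'⟩ := Cfsg.Agent.Char.CycDef.exists_gen (x := x') hcyc'
  have hord' : orderOf u₁ = Nat.card x.1 := by rw [← Nat.card_zpowers, hgen', hcard']
  obtain ⟨R', β', X', y', cc', ε', hd'⟩ :=
    Cfsg.Agent.Char.CycDef.exists_data (N := Nat.card x.1) hM hc.1 hx' hcyc' hP1' hgen' hord'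
  have hrel : (Cfsg.Agent.Char.BP.CG x'.1).relIndex (Cfsg.Agent.Char.BP.stab x') =
      (Cfsg.Agent.Char.BP.CG x.1).relIndex (Cfsg.Agent.Char.BP.stab x) := by
    have e1 : Cfsg.Agent.Char.BP.CG x'.1 =
        (Cfsg.Agent.Char.BP.CG x.1).subgroupOf (Subgroup.normalizer (Z : Set G)) :=
      Subgroup.ext fun k => (Cfsg.Agent.Char.BP.mem_cg_subgroupOf h1 k).trans
        Subgroup.mem_subgroupOf.symm
    have e2 : Cfsg.Agent.Char.BP.stab x' =
        (Cfsg.Agent.Char.BP.stab x).subgroupOf (Subgroup.normalizer (Z : Set G)) :=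
      Subgroup.ext fun k => (Cfsg.Agent.Char.Wat.mem_stab_dn h1 h2 k).trans
        Subgroup.mem_subgroupOf.symm
    rw [e1, e2, Subgroup.relIndex_subgroupOf]
    exact (Cfsg.Agent.Char.BP.stab_le_normalizer x).trans hN
  have hdvd : Nat.card R' ∣ p - 1 := by
    haveI : ((Cfsg.Agent.Char.BP.CG x.1).subgroupOf (Cfsg.Agent.Char.BP.stab x)).Normal :=
      (Subgroup.normal_subgroupOf_iff_le_normalizer (Cfsg.Agent.Char.BP.cg_le_stab x)).2
        ((Cfsg.Agent.Char.BP.stab_le_normalizer _).trans fun u hu =>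
          Cfsg.Agent.Char.BP.mem_normalizer_cg hu)
    rw [hd'.card_R, hrel]
    exact (Cfsg.Agent.Char.BP.cyclic_quotient hx.1.1.1 hP1 hcyc
      (Cfsg.Agent.Char.BP.stab_le_normalizer x)
      (Cfsg.Agent.Char.BP.free_of_cyclic hM (P := x.1) (e := x.2) hx hcyc)).2
  obtain ⟨a, ha⟩ := hx.1.1.1.exists_card_eq
  obtain rfl : R' = R := Cfsg.Agent.Char.CycDef.units_subgroup_eq ha
    (by rw [hd'.card_R, hd.card_R, hrel]) hdvd
  obtain ⟨I, σ, hiso, -, -⟩ := Cfsg.Agent.Char.CycDef.exists_isometry hM hB hx hcyc hP1 hgen hord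
    hd hc.1 hx' hcyc' hgen' hord' hd'
  exact ⟨Nat.card_congr hiso.1.equiv, by rw [hd.rank, hd'.rank, hrel], I, σ, hiso⟩

end Cfsg.Agent.S4635
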