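import Cfsg.Statements.S4636
import Cfsg.Agent.Lib.Char.Complete

set_option autoImplicit false
open scoped Pointwise
open Cfsg

namespace Cfsg.Agent.S4636

open Cfsg.Agent.Char

/-- Let P be a nontrivial cyclic p-subgroup of the finite group G and Z its subgroup of order p. For every x outside N_G(Z), P meets its conjugate xPx⁻¹ trivially; consequently N_G(Q) ≤ N_G(Z) for every nontrivial subgroup Q of P. -/
theorem result {G : Type*} [Group G] [Finite G] (p : ℕ) [Fact p.Prime] (P : Subgroup G) (hP : IsPGroup p P) (hP1 : P ≠ ⊥) (hcyc : IsCyclic P) (Z : Subgroup G) (hZ : Z ≤ P) (hZcard : Nat.card Z = p) : (∀ x : G, x ∉ Subgroup.normalizer (Z : Set G) → P ⊓ MulAut.conj x • P = ⊥) ∧ ∀ Q : Subgroup G, Q ≤ P → Q ≠ ⊥ → Subgroup.normalizer (Q : Set G) ≤ Subgroup.normalizer (Z : Set G) := by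
  classical
  have hp : p.Prime := Fact.out
  have uniq : ∀ W : Subgroup G, W ≤ P → Nat.card W = p → W = Z := by
    intro W hW hWc
    have : Fintype P := Fintype.ofFinite P
    let S : Finset P := Finset.univ.filter fun a => a ^ p = 1
    have hS : S.card ≤ p := IsCyclic.card_pow_eq_one_le hp.pos
    have hmk : ∀ V : Subgroup G, V ≤ P → Nat.card V = p →
        (Finset.univ.filter fun a : P => (a : G) ∈ V) = S := by
      intro V hV hVc
      refine Finset.eq_of_subset_of_card_le ?_ ?_
      · intro a ha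
        simp only [Finset.mem_filter, Finset.mem_univ, true_and, S] at ha ⊢
        have h : (⟨(a : G), ha⟩ : V) ^ p = 1 := hVc ▸ pow_card_eq_one'
        exact Subtype.ext (by simpa using congrArg Subtype.val h)
      · have e : (Finset.univ.filter fun a : P => (a : G) ∈ V).card = p := by
          rw [← Fintype.card_subtype, ← Nat.card_eq_fintype_card, ← hVc]
          exact Nat.card_congr ⟨fun a => ⟨a.1.1, a.2⟩, fun v => ⟨⟨v.1, hV v.2⟩, v.2⟩,
            fun a => rfl, fun v => rfl⟩
        rw [e]; exact hS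
    have h := (hmk W hW hWc).trans (hmk Z hZ hZcard).symm
    ext a
    constructor <;> intro ha
    · simpa using (Finset.ext_iff.mp h ⟨a, hW ha⟩).mp (by simpa using ha)
    · simpa using (Finset.ext_iff.mp h ⟨a, hZ ha⟩).mpr (by simpa using ha)
  have contains : ∀ Q : Subgroup G, Q ≤ P → Q ≠ ⊥ → Z ≤ Q := by
    intro Q hQP hQ
    have : Nontrivial Q := Q.nontrivial_iff_ne_bot.mpr hQ
    have hQp : IsPGroup p Q := hP.to_le hQP
    obtain ⟨n, hn, hcard⟩ := hQp.nontrivial_iff_card.mp ‹_›
    obtain ⟨q, hq⟩ := exists_prime_orderOf_dvd_card' (G := Q) p (hcard ▸ dvd_pow_self p hn.ne')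
    have hle : Subgroup.zpowers (q : G) ≤ Q := Subgroup.zpowers_le.mpr q.2
    rw [← uniq (Subgroup.zpowers (q : G)) (hle.trans hQP) (by rw [Nat.card_zpowers, Subgroup.orderOf_coe, hq])]
    exact hle
  have cardconj : ∀ x : G, Nat.card ↥(MulAut.conj x • Z) = p := by
    intro x
    rw [← hZcard]
    exact Nat.card_congr (Subgroup.equivSMul (MulAut.conj x) Z).toEquiv.symm
  have norm : ∀ x : G, MulAut.conj x • Z = Z → x ∈ Subgroup.normalizer (Z : Set G) := by
    intro x h
    rw [Subgroup.mem_normalizer_iff]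
    intro z
    conv_rhs => rw [← h, Subgroup.mem_pointwise_smul_iff_inv_smul_mem]
    simp [mul_assoc]
  refine ⟨fun x hx => ?_, fun Q hQP hQ x hx => ?_⟩
  · by_contra hne
    have h1 := contains _ inf_le_left hne
    have h2 : MulAut.conj x⁻¹ • Z ≤ P := by
      intro z hz
      rw [Subgroup.mem_pointwise_smul_iff_inv_smul_mem] at hz
      have := Subgroup.mem_pointwise_smul_iff_inv_smul_mem.mp (h1 hz).2
      simpa [mul_assoc] using this
    have h3 := norm _ (uniq _ h2 (cardconj _))
    exact hx (by simpa using Subgroup.inv_mem _ h3)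
  · apply norm
    refine uniq _ ?_ (cardconj _)
    intro z hz
    rw [Subgroup.mem_pointwise_smul_iff_inv_smul_mem] at hz
    have := (Subgroup.mem_normalizer_iff.mp hx _).mp (contains Q hQP hQ hz)
    exact hQP (by simpa [mul_assoc] using this)

end Cfsg.Agent.S4636
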