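import Cfsg.Statements.S4637
import Cfsg.Agent.Lib.Char.KleinBlock
-- import your own Cfsg.Agent.* helpers here

set_option autoImplicit false
open Cfsg

namespace Cfsg.Agent.S4637

/-- Let B be a block of the finite group G relative to a maximal ideal M of the algebraic integers containing 2, with a Klein four defect group P. Let c be a block of C_G(P) inducing B, T the stabilizer of c in N_G(P) and e the index of C_G(P) in T (the inertial index). Then e is 1 or 3, B contains exactly four irreducible characters, and the 2-regular rank of B (its number of irreducible Brauer characters) equals e. -/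
theorem result {G : Type*} [Group G] [Finite G] (M : Ideal Cfsg.AlgInt) (hM : Cfsg.IsPModular 2 M) (B : Set (Cfsg.IrrCharacter G)) (hB : Cfsg.IsPBlock M B) (P : Subgroup G) (hPD : Cfsg.IsDefectGroup 2 M B P) (hV : IsKleinFour P) (c : Set (Cfsg.IrrCharacter (Subgroup.centralizer (P : Set G)))) (hc : Cfsg.IsInducedBlock M (Subgroup.centralizer (P : Set G)) c B) (T : Subgroup G) (hT : ∀ g : G, g ∈ T ↔ (g ∈ Subgroup.normalizer (P : Set G) ∧ Cfsg.StabilizesBlock (Subgroup.centralizer (P : Set G)) c g)) (e : ℕ) (he : (Subgroup.centralizer (P : Set G)).relIndex T = e) : (e = 1 ∨ e = 3) ∧ Nat.card B = 4 ∧ Cfsg.blockRank 2 B = e := by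
  classical
  cases nonempty_fintype G
  obtain rfl := Cfsg.Agent.Char.BP.eq_stab hM (a := ⟨P, c⟩) hc.1 hT
  have hexp : ∀ v ∈ P, v * v = 1 := fun v hv =>
    congrArg Subtype.val (IsKleinFour.mul_self (⟨v, hv⟩ : P))
  have hab : ∀ v ∈ P, ∀ w ∈ P, v * w = w * v := fun v hv w hw => by
    have hi : ∀ z ∈ P, z⁻¹ = z := fun z hz => inv_eq_of_mul_eq_one_right (hexp z hz)
    calc v * w = (v * w)⁻¹ := (hi _ (mul_mem hv hw)).symm
      _ = w * v := by rw [mul_inv_rev, hi v hv, hi w hw]
  have hmx := Cfsg.Agent.Char.BP.isMx_of_induced hM hPD hab hc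
  have h4 : Nat.card P = 4 := IsKleinFour.card_four
  have := Cfsg.Agent.Char.Spec.klein_block hM hB hPD hmx hab h4 hexp
  rw [he] at this
  exact this

end Cfsg.Agent.S4637
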