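import Cfsg.Statements.S4638
import Cfsg.Agent.Lib.Char.KleinIso

set_option autoImplicit false
open Cfsg

namespace Cfsg.Agent.S4638

/-- Let B be a block of the finite group G relative to a maximal ideal M of the algebraic integers containing 2, with a Klein four defect group P, and let c be its Brauer correspondent: the block of N_G(P) with defect group P that induces B. Then there is a perfect isometry from c onto B. -/
theorem result {G : Type*} [Group G] [Finite G] (M : Ideal Cfsg.AlgInt) (hM : Cfsg.IsPModular 2 M) (B : Set (Cfsg.IrrCharacter G)) (hB : Cfsg.IsPBlock M B) (P : Subgroup G) (hPD : Cfsg.IsDefectGroup 2 M B P) (hV : IsKleinFour P) (c : Set (Cfsg.IrrCharacter (Subgroup.normalizer (P : Set G)))) (hcD : Cfsg.IsDefectGroup 2 M c (P.subgroupOf (Subgroup.normalizer (P : Set G)))) (hc : Cfsg.IsInducedBlock M (Subgroup.normalizer (P : Set G)) c B) : ∃ (I : Cfsg.IrrCharacter (Subgroup.normalizer (P : Set G)) → Cfsg.IrrCharacter G)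 (ε : Cfsg.IrrCharacter (Subgroup.normalizer (P : Set G)) → ℤ), Cfsg.IsPerfectIsometry 2 M c B I ε := by
  classical
  haveI : Fintype G := Fintype.ofFinite G
  haveI : Fintype (Subgroup.normalizer (P : Set G)) := Fintype.ofFinite _
  obtain ⟨x, h1, h2, rfl, hx, hx'⟩ :=
    Cfsg.Agent.Char.CycDef.exists_common_max hM hB hPD le_rfl hcD hc
  have hexp : ∀ v ∈ x.1, v * v = 1 := fun v hv =>
    congrArg Subtype.val (IsKleinFour.mul_self (⟨v, hv⟩ : x.1))
  have hab : ∀ v ∈ x.1, ∀ w ∈ x.1, v * w = w * v := fun v hv w hw => by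
    have hi : ∀ z ∈ x.1, z⁻¹ = z := fun z hz => inv_eq_of_mul_eq_one_right (hexp z hz)
    calc v * w = (v * w)⁻¹ := (hi _ (mul_mem hv hw)).symm
      _ = w * v := by rw [mul_inv_rev, hi v hv, hi w hw]
  have h4 : Nat.card x.1 = 4 := IsKleinFour.card_four
  set H := Subgroup.normalizer (x.1 : Set G) with hH
  set x' := Cfsg.Agent.Char.BP.dn H x h1 h2 with hx'def
  have hfst : x'.1 = x.1.subgroupOf H := rfl
  have hab' : ∀ v ∈ x'.1, ∀ w ∈ x'.1, v * w = w * v := fun v hv w hw =>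
    Subtype.ext (hab _ (Subgroup.mem_subgroupOf.1 hv) _ (Subgroup.mem_subgroupOf.1 hw))
  have hexp' : ∀ v ∈ x'.1, v * v = 1 := fun v hv =>
    Subtype.ext (hexp _ (Subgroup.mem_subgroupOf.1 hv))
  have h4' : Nat.card x'.1 = 4 := by
    rw [hfst, Nat.card_congr (Subgroup.subgroupOfEquivOfLe h1).toEquiv, h4]
  obtain ⟨d, hd⟩ := Cfsg.Agent.Char.Klein.exists_data hM hB hx hPD hab h4 hexp
  obtain ⟨d', hd'⟩ := Cfsg.Agent.Char.Klein.exists_data hM hc.1 hx' hcD hab' h4' hexp'
  have hiff : (¬ Cfsg.Agent.Char.BP.stab x' ≤ Cfsg.Agent.Char.BP.CG x'.1) =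
      (¬ Cfsg.Agent.Char.BP.stab x ≤ Cfsg.Agent.Char.BP.CG x.1) := by
    refine propext (not_congr ⟨fun h t ht => ?_, fun h t ht => ?_⟩)
    · have htH : t ∈ H := Cfsg.Agent.Char.BP.stab_le_normalizer x ht
      exact (Cfsg.Agent.Char.BP.mem_cg_subgroupOf h1 (⟨t, htH⟩ : H)).1
        (h ((Cfsg.Agent.Char.Wat.mem_stab_dn h1 h2 _).2 ht))
    · exact (Cfsg.Agent.Char.BP.mem_cg_subgroupOf h1 t).2
        (h ((Cfsg.Agent.Char.Wat.mem_stab_dn h1 h2 t).1 ht))
  rw [hiff] at hd'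
  exact Cfsg.Agent.Char.Klein.exists_isometry hM hB hc.1 hd hd'

end Cfsg.Agent.S4638
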