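import Cfsg.Statements.S4642
import Cfsg.Agent.Lib.Char.FongLocal
-- import your own Cfsg.Agent.* helpers here

set_option autoImplicit false
open Cfsg

namespace Cfsg.Agent.S4642

/-- Let G be a finite group, p a prime, M a maximal ideal of the algebraic integers containing p, K the largest normal subgroup of G of order prime to p, and L the preimage in G of the largest normal p-subgroup of G/K. Let Q be a Sylow p-subgroup of L and suppose C_G(Q) ≤ L. Let θ be an irreducible character of K invariant under conjugation by every element of G, and let B be the set of irreducible characters of G whose restriction to K contains θ. Then B is a block of G, every Sylow p-subgroup of G is a defect group of B, and B is of principal type: for every p-subgroup R of G exactly one block of C_G(R) induces B. -/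
theorem result {G : Type*} [Group G] [Fintype G] (p : ℕ) [Fact p.Prime] (M : Ideal Cfsg.AlgInt) (hM : Cfsg.IsPModular p M) (K : Subgroup G) (hK : K = Cfsg.pPrimeCore p G) [Fintype K] (L : Subgroup G) (hL : L = Cfsg.pPrimePCore p G) (Q : Subgroup G) (hQL : Q ≤ L) (hQp : IsPGroup p Q) (hQS : ¬ p ∣ Q.relIndex L) (hCQ : Subgroup.centralizer (Q : Set G) ≤ L) (θ : Cfsg.IrrCharacter K) (hθ : ∀ g : G, Cfsg.IsConjCharOf K g (θ : K → ℂ) (θ : K → ℂ)) (B : Set (Cfsg.IrrCharacter G)) (hBdef : ∀ χ : Cfsg.IrrCharacter G, χ ∈ B ↔ Cfsg.classInner (fun k : K => (χ : G → ℂ) k) (θ : K → ℂ) ≠ 0) : Cfsg.IsPBlock M B ∧ (∀ S : Sylow p G, Cfsg.IsDefectGroup p M B S) ∧ ∀ R : Subgroup G, IsPGroup p R → ∃! f : Set (Cfsg.IrrCharacter (Subgroup.centralizer (R : Set G))), Cfsg.IsInducedBlock M (Subgroup.centralizer (R : Set G)) f B := by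
  classical
  subst hK; subst hL
  haveI := Cfsg.Agent.Grp.pPrimeCore_isNormal (p := p) (G := G)
  haveI := Cfsg.Agent.Char.Fong.pPrimePCore_normal (p := p) (G := G)
  letI := Fintype.ofFinite (Cfsg.pPrimePCore p G)
  obtain ⟨j, hj⟩ := Cfsg.Agent.Char.Fong.exists_relIndex_pPrimePCore (p := p) (G := G)
  have hKL := Cfsg.Agent.Char.Fong.pPrimeCore_le_pPrimePCore (p := p) (G := G)
  have hcop := Cfsg.Agent.Grp.pPrimeCore_not_dvd (p := p) (G := G)
  have hinv : Cfsg.Agent.Char.Fong.Fixed (Cfsg.pPrimeCore p G) θ :=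
    fun g n => hθ g n _ rfl
  obtain ⟨B₀, hB₀, hmem, hsyl, -⟩ := Cfsg.Agent.Char.Fong.block_over (Cfsg.pPrimePCore p G) Q hM
    hKL hQL hQp hcop hj hinv
    (fun x hx hr => Cfsg.Agent.Char.Fong.mem_of_regular_of_index hj (hCQ hx) hr)
  obtain rfl : B = B₀ := Set.ext fun χ => (hBdef χ).trans (hmem χ).symm
  refine ⟨hB₀, hsyl, fun R hR => ?_⟩
  obtain ⟨S, hRS⟩ := hR.exists_le_sylow
  set Q' := (S : Subgroup G) ⊓ Cfsg.pPrimePCore p G with hQ'
  have hQ'S : ¬ p ∣ Q'.relIndex (Cfsg.pPrimePCore p G) := by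
    rw [hQ', Subgroup.inf_relIndex_right]
    exact Cfsg.Agent.Grp.sylow_inf_normal_relIndex S _
  have hQ'p : IsPGroup p Q' := S.isPGroup'.to_le inf_le_left
  have hRQ : R ≤ Subgroup.normalizer (Q' : Set G) := fun r hr =>
    Subgroup.mem_normalizer_iff.2 fun w => by
      rw [hQ', Subgroup.mem_inf, Subgroup.mem_inf,
        ← Subgroup.mem_normalizer_iff.1 (Subgroup.le_normalizer (hRS hr)) w,
        ← Subgroup.mem_normalizer_iff.1 ((Subgroup.normalizer_eq_top
          (H := Cfsg.pPrimePCore p G)).symm ▸ Subgroup.mem_top r) w]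
  have hCQ' : Subgroup.centralizer (Q' : Set G) ≤ Cfsg.pPrimePCore p G := by
    let S₁ : Sylow p (Cfsg.pPrimePCore p G) :=
      (hQp.comap_subtype (K := Cfsg.pPrimePCore p G)).toSylow hQS
    let S₂ : Sylow p (Cfsg.pPrimePCore p G) :=
      (hQ'p.comap_subtype (K := Cfsg.pPrimePCore p G)).toSylow hQ'S
    obtain ⟨l, hl⟩ := MulAction.exists_smul_eq (Cfsg.pPrimePCore p G) S₁ S₂
    intro x hx
    have hmem' : (l : G)⁻¹ * x * (l : G) ∈ Subgroup.centralizer (Q : Set G) := by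
      refine Subgroup.mem_centralizer_iff.2 fun q hq => ?_
      have h2 : (l : G) * q * (l : G)⁻¹ ∈ Q' := by
        have h1 : l * (⟨q, hQL hq⟩ : Cfsg.pPrimePCore p G) * l⁻¹ ∈
            ((l • S₁ : Sylow p (Cfsg.pPrimePCore p G)) : Subgroup (Cfsg.pPrimePCore p G)) :=
          ⟨⟨q, hQL hq⟩, hq, rfl⟩
        rw [hl] at h1
        exact h1
      have h3 := Subgroup.mem_centralizer_iff.1 hx _ h2
      calc q * ((l : G)⁻¹ * x * (l : G))
          = (l : G)⁻¹ * (((l : G) * q * (l : G)⁻¹) * x) * (l : G) := by group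
        _ = (l : G)⁻¹ * (x * ((l : G) * q * (l : G)⁻¹)) * (l : G) := by rw [h3]
        _ = _ := by group
    rw [show x = (l : G) * ((l : G)⁻¹ * x * (l : G)) * (l : G)⁻¹ by group]
    exact mul_mem (mul_mem l.2 (hCQ hmem')) (inv_mem l.2)
  have hBr : ¬ Cfsg.Agent.Block.BrZero M R (Cfsg.Agent.Block.blockInd B) :=
    (Cfsg.Agent.Block.not_brZero_iff hM hB₀ (hsyl S) hR).2
      ⟨1, Cfsg.Agent.Block.map_conj_le_iff.2 fun u hu => by simpa using hRS hu⟩
  obtain ⟨f, hfb, hf⟩ := Cfsg.Agent.Char.BP.exists_holds hM hR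
    (Cfsg.Agent.Char.BP.blockCoeff_idem hM hB₀)
    (Cfsg.Agent.Char.BP.inv_of_classFun (Cfsg.Agent.Block.blockCoeff_classFun B) _)
    (Cfsg.Agent.Char.BP.inv_of_classFun (Cfsg.Agent.Block.blockCoeff_classFun B) _) (by
      by_contra hno
      push Not at hno
      exact hBr fun x hx => by rw [← Cfsg.Agent.Block.blockCoeff_eq]; exact hno x hx)
  have hcov : ∀ x : Cfsg.BrauerPairIdx G, Cfsg.Agent.Char.BP.OfB p M B x →
      Cfsg.Agent.Char.BP.Holds M x
        (Cfsg.Agent.Block.covCoeff (Cfsg.pPrimeCore p G) ({θ} : Set (Cfsg.IrrCharacter _))) :=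
    fun x hx => Cfsg.Agent.Char.Fong.holds_cov hinv hcop hB₀
      (fun χ hχ => (Cfsg.Agent.Char.Fong.covInd_eq_one hinv χ).2 ((hmem χ).1 hχ)) hM hx
  have hof := Cfsg.Agent.Char.BP.ofB_of_holds (p := p) (x := ⟨R, f⟩) hB₀ ⟨hR, hfb⟩ hf
  refine ⟨f, Cfsg.Agent.Char.Fong.induced_of_ofB hM hof, fun f' hf' => ?_⟩
  exact Cfsg.Agent.Char.Fong.unique_pair_local hM hKL hcop hj hinv inf_le_right hQ'p hQ'S hCQ'
    hR hRQ hf'.1 hfb (hcov _ (Cfsg.Agent.Block.ofB_of_induced hM hR hf')) (hcov _ hof)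

end Cfsg.Agent.S4642
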