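import Cfsg.Statements.S4651
import Cfsg.Agent.Lib.Char.ChainSum
import Cfsg.Agent.Lib.Char.ChainToggle

set_option autoImplicit false
open Cfsg

namespace Cfsg.Agent.S4651
open Cfsg.Agent Cfsg.Agent.Char.ChainSum Cfsg.Agent.Char.ChainToggle
open scoped ComplexConjugate


/-- An alternating-sum identity over chains of p-subgroups (the character-count form behind the chain reformulation of Alperin's weight conjecture, which holds unconditionally for the difference k − l). Let b be a block of the finite group G relative to a maximal ideal M of the algebraic integers containing the prime p. Consider the nonempty chains s = {Q_0 < Q_1 < ⋯ < Q_m} of nontrivial p-subgroups of G in which every member is normal in the largest member; let N_G(s) be the intersection of the normalizers of the members (the stabilizer of the chain), and let b_s be the set of irreducible characters of N_G(s) lying in blocks of N_G(s) that induce b. Then #G · (k(b) − l(b)) equals the sum over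 all such chains s of (−1)^m · #N_G(s) · (k(b_s) − l(b_s)), where k counts irreducible characters and l is the p-regular rank; equivalently, k(b) − l(b) is the alternating sum of k(b_s) − l(b_s) over representatives of the conjugacy classes of such chains. -/
theorem result {G : Type*} [Group G] [Finite G] (p : ℕ) [Fact p.Prime] (M : Ideal Cfsg.AlgInt) (hM : Cfsg.IsPModular p M) (b : Set (Cfsg.IrrCharacter G)) (hb : Cfsg.IsPBlock M b) : (Nat.card G : ℤ) * ((Nat.card b : ℤ) - (Cfsg.blockRank p b : ℤ)) = ∑ᶠ s ∈ {s : Finset (Subgroup G) | s.Nonempty ∧ (∀ Q ∈ s, ∀ R ∈ s, Q ≤ R ∨ R ≤ Q) ∧ (∀ Q ∈ s, Q ≠ ⊥ ∧ IsPGroup p Q) ∧ ∃ T ∈ s, ∀ Q ∈ s, Q ≤ T ∧ T ≤ Subgroup.normalizer ((Q : Subgroup G) : Set G)}, (-1 : ℤ) ^ (s.card - 1) * (Nat.card (((⨅ Q ∈ s, Subgroup.normalizer ((Q : Subgroup G) : Set G) : Subgroup G))) : ℤ) * ((Nat.card {ψ : Cfsg.IrrCharacter (((⨅ Q ∈ s, Subgroup.normalizer ((Q : Subgroup G) : Set G) : Subgroup G))) | ∃ β : Set (Cfsg.IrrCharacter (((⨅ Q ∈ s, Subgroup.normalizer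 ((Q : Subgroup G) : Set G) : Subgroup G)))), ψ ∈ β ∧ Cfsg.IsInducedBlock M (((⨅ Q ∈ s, Subgroup.normalizer ((Q : Subgroup G) : Set G) : Subgroup G))) β b} : ℤ) - (Cfsg.blockRank p {ψ : Cfsg.IrrCharacter (((⨅ Q ∈ s, Subgroup.normalizer ((Q : Subgroup G) : Set G) : Subgroup G))) | ∃ β : Set (Cfsg.IrrCharacter (((⨅ Q ∈ s, Subgroup.normalizer ((Q : Subgroup G) : Set G) : Subgroup G)))), ψ ∈ β ∧ Cfsg.IsInducedBlock M (((⨅ Q ∈ s, Subgroup.normalizer ((Q : Subgroup G) : Set G) : Subgroup G))) β b} : ℤ)) := by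
  classical
  cases nonempty_fintype G
  rw [finsum_mem_eq_toFinset_sum]
  have hU : ∀ s : Finset (Subgroup G),
      {ψ : Cfsg.IrrCharacter (stN s) | ∃ β : Set (Cfsg.IrrCharacter (stN s)),
        ψ ∈ β ∧ Cfsg.IsInducedBlock M (stN s) β b} =
      ↑(overSet M (fun β : Set (Cfsg.IrrCharacter (stN s)) =>
        Cfsg.IsInducedBlock M (stN s) β b)) := fun s => by
    ext ψ
    rw [Set.mem_ofPred_eq, Finset.mem_coe, mem_overSet]
    exact ⟨fun ⟨β, h1, h2⟩ => Block.pblock_eq_blockOf hM h2.1 h1 ▸ h2,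
      fun h => ⟨_, Block.mem_blockOf_self hM ψ, h⟩⟩
  have hbset : b = ↑(overSet M (fun β : Set (Cfsg.IrrCharacter G) => β = b)) := by
    ext ψ
    rw [Finset.mem_coe, mem_overSet]
    exact ⟨fun h => (Block.pblock_eq_blockOf hM hb h).symm,
      fun h => h ▸ Block.mem_blockOf_self hM ψ⟩
  let ρ : G → G := fun g => (Block.exists_pPart_zpowers (p := p) g).choose
  have hρ : ∀ g, ∃ y, ρ g * y = g ∧ Commute (ρ g) y ∧ (∃ k, orderOf (ρ g) = p ^ k) ∧
      ¬ p ∣ orderOf y ∧ ρ g ∈ Subgroup.zpowers g ∧ y ∈ Subgroup.zpowers g :=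
    fun g => (Block.exists_pPart_zpowers (p := p) g).choose_spec
  choose y hy using hρ
  set C : G → Subgroup G := fun g => Subgroup.centralizer ({ρ g} : Set G) with hC
  set sg := Finset.univ.filter (fun g : G => p ∣ orderOf g) with hsg
  rw [← Int.cast_inj (α := ℂ), Int.cast_sum]
  have hL : (((Nat.card G : ℤ) * ((Nat.card b : ℤ) - (Cfsg.blockRank p b : ℤ)) : ℤ) : ℂ) =
      ∑ g ∈ sg, secNorm M b (C g) (y g) := by
    conv_lhs => rw [hbset]
    rw [Nat.card_coe_set_eq, Set.ncard_coe_finset, defect_eq_sum hM]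
    refine Finset.sum_congr rfl fun g hg => ?_
    have := norm_over_top hM hb (hy g).2.1 (hy g).2.2.1 (hy g).2.2.2.1
    rwa [(hy g).1] at this
  have hR : ∀ s : Finset (Subgroup G),
      (((-1 : ℤ) ^ (s.card - 1) * (Nat.card (stN s) : ℤ) *
        ((Nat.card {ψ : Cfsg.IrrCharacter (stN s) | ∃ β : Set (Cfsg.IrrCharacter (stN s)),
            ψ ∈ β ∧ Cfsg.IsInducedBlock M (stN s) β b} : ℤ) -
          (Cfsg.blockRank p {ψ : Cfsg.IrrCharacter (stN s) | ∃ β : Set (Cfsg.IrrCharacter (stN s)),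
            ψ ∈ β ∧ Cfsg.IsInducedBlock M (stN s) β b} : ℤ)) : ℤ) : ℂ) =
      ∑ g ∈ sg, if ρ g ∈ stN s then (-1 : ℂ) ^ (s.card - 1) * secNorm M b (stN s ⊓ C g) (y g)
        else 0 := by
    intro s
    rw [hU s, Nat.card_coe_set_eq, Set.ncard_coe_finset, mul_assoc, Int.cast_mul,
      defect_eq_sum hM, Int.cast_pow, Int.cast_neg, Int.cast_one, Finset.mul_sum]
    have hval : ∀ g : stN s,
        ∑ ξ ∈ overSet M (fun β : Set (Cfsg.IrrCharacter (stN s)) =>
          Cfsg.IsInducedBlock M (stN s) β b), (ξ : stN s → ℂ) g * conj ((ξ : stN s → ℂ) g) =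
        secNorm M b (stN s ⊓ C g) (y g) := fun g =>
      norm_over_subgroup hM hb (stN s) (Subgroup.zpowers_le.2 g.2 (hy g).2.2.2.2.1)
        (Subgroup.zpowers_le.2 g.2 (hy g).2.2.2.2.2) (hy g).1 (hy g).2.1 (hy g).2.2.1 (hy g).2.2.2.1
    rw [← Finset.sum_filter]
    refine Finset.sum_bij_ne_zero (fun g _ _ => (g : G)) (fun g hg _ => ?_)
      (fun g _ _ g' _ _ h => Subtype.ext h) (fun g hg hne => ?_) (fun g _ _ => by rw [hval])
    · rw [Finset.mem_filter] at hg
      exact Finset.mem_filter.2 ⟨Finset.mem_filter.2 ⟨Finset.mem_univ _,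
        by rw [Subgroup.orderOf_coe]; exact hg.2⟩, Subgroup.zpowers_le.2 g.2 (hy g).2.2.2.2.1⟩
    · obtain ⟨hg1, hg2⟩ := Finset.mem_filter.1 hg
      have hyW : y g ∈ stN s := by
        by_contra hn
        refine hne ?_
        rw [secNorm, dif_neg (fun h => hn h.1), mul_zero]
      have hgN : g ∈ stN s := by
        rw [← (hy g).1]
        exact mul_mem hg2 hyW
      have hmem : (⟨g, hgN⟩ : stN s) ∈ Finset.univ.filter (fun z : stN s => p ∣ orderOf z) :=
        Finset.mem_filter.2 ⟨Finset.mem_univ _, by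
          rw [Subgroup.orderOf_mk]; exact (Finset.mem_filter.1 hg1).2⟩
      exact ⟨⟨g, hgN⟩, hmem, by rw [hval]; exact hne, rfl⟩
  rw [hL, Finset.sum_congr rfl fun s _ => hR s, Finset.sum_comm]
  refine Finset.sum_congr rfl fun g hg => ?_
  have hx1 : ρ g ≠ 1 := fun e => (hy g).2.2.2.1 (by
    have h1 := (hy g).1
    rw [e, one_mul] at h1
    rw [h1]
    exact (Finset.mem_filter.1 hg).2)
  have hxp := (hy g).2.2.1
  have hR1 : IsNChain p ({Subgroup.zpowers (ρ g)} : Finset (Subgroup G)) := by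
    refine ⟨Finset.singleton_nonempty _, fun Q hQ R hR => Or.inl ?_, fun Q hQ => ?_,
      Subgroup.zpowers (ρ g), Finset.mem_singleton_self _, fun Q hQ => ?_⟩
    · rw [Finset.mem_singleton.1 hQ, Finset.mem_singleton.1 hR]
    · rw [Finset.mem_singleton.1 hQ]
      obtain ⟨k, hk⟩ := hxp
      exact ⟨by rwa [Ne, Subgroup.zpowers_eq_bot],
        IsPGroup.of_card (n := k) (by rw [Nat.card_zpowers, hk])⟩
    · rw [Finset.mem_singleton.1 hQ]
      exact ⟨le_rfl, Subgroup.le_normalizer⟩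
  have hxR : ρ g ∈ stN ({Subgroup.zpowers (ρ g)} : Finset (Subgroup G)) :=
    mem_stN.2 fun Q hQ => by
      rw [Finset.mem_singleton.1 hQ]
      exact Subgroup.le_normalizer (Subgroup.mem_zpowers _)
  have hinf : stN ({Subgroup.zpowers (ρ g)} : Finset (Subgroup G)) ⊓ C g = C g := by
    refine inf_eq_right.2 fun w hw => mem_stN.2 fun Q hQ => ?_
    rw [Finset.mem_singleton.1 hQ, Subgroup.zpowers_eq_closure]
    refine normalizes_closure fun z => ?_
    have hw' := Subgroup.mem_centralizer_singleton_iff.1 hw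
    simp only [Set.mem_singleton_iff]
    constructor
    · rintro rfl
      rw [hw']; group
    · intro hz
      have : z = w⁻¹ * (w * z * w⁻¹) * w := by group
      rw [this, hz, mul_assoc, ← hw']; group
  rw [← Finset.sum_filter]
  set S0 := Finset.filter (fun a : Finset (Subgroup G) => ρ g ∈ stN a) _ with hS0
  have hmemR : ({Subgroup.zpowers (ρ g)} : Finset (Subgroup G)) ∈ S0 :=
    Finset.mem_filter.2 ⟨Set.mem_toFinset.2 hR1, hxR⟩
  rw [← Finset.add_sum_erase _ _ hmemR, hinf, Finset.card_singleton, Nat.sub_self, pow_zero,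
    one_mul, left_eq_add]
  refine Finset.sum_involution (fun s _ => toggle s (ρ g)) (fun s hs => ?_) (fun s hs _ => ?_)
    (fun s hs => ?_) (fun s hs => ?_)
  all_goals
    obtain ⟨hne, hs1⟩ := Finset.mem_erase.1 hs
    obtain ⟨hsc, hsx⟩ := Finset.mem_filter.1 hs1
    have hsn : IsNChain p s := by
      have := hsc
      rw [Set.mem_toFinset] at this
      exact this
    obtain ⟨h1, h2, h3, h4, h5, h6, h7⟩ := toggle_spec hsn hsx hx1 hxp hne
  · rw [h5]
    have hsign : (-1 : ℂ) ^ (s.card - 1) + (-1 : ℂ) ^ ((toggle s (ρ g)).card - 1) = 0 := by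
      have hp1 : 0 < s.card := hsn.1.card_pos
      have hp2 : 0 < (toggle s (ρ g)).card := h1.1.card_pos
      rcases h6 with h | h
      · rw [show s.card - 1 = (toggle s (ρ g)).card - 1 + 1 by omega, pow_succ]; ring
      · rw [show (toggle s (ρ g)).card - 1 = s.card - 1 + 1 by omega, pow_succ]; ring
    rw [← add_mul, hsign, zero_mul]
  · exact h7
  · exact Finset.mem_erase.2 ⟨h3, Finset.mem_filter.2 ⟨Set.mem_toFinset.2 h1, h2⟩⟩
  · exact h4

end Cfsg.Agent.S4651
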