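import Cfsg.Statements.S4664
import Cfsg.Agent.Lib.Block.Defect

set_option autoImplicit false
open Cfsg

namespace Cfsg.Agent.S4664

/-- Fix a prime p and a maximal ideal M of the algebraic integers containing p, and let B be a p-block of the finite group G. Let m be the p'-part of the order of G and η = exp(2πi/m). Then every coefficient of the idempotent of B lies in the cyclotomic field ℚ(η). -/
theorem result {G : Type*} [Group G] [Fintype G] (p : ℕ) [Fact p.Prime] (M : Ideal Cfsg.AlgInt) (hM : Cfsg.IsPModular p M) (B : Set (Cfsg.IrrCharacter G)) (hB : Cfsg.IsPBlock M B) (g : G) : Cfsg.blockCoeff B g ∈ IntermediateField.adjoin ℚ ({Complex.exp (2 * Real.pi * Complex.I / ((Nat.card G / p ^ (Nat.card G).factorization p : ℕ) : ℂ))} : Set ℂ) := by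
  classical
  have hp : p.Prime := Fact.out
  set m := Nat.card G / p ^ (Nat.card G).factorization p with hm
  have hm0 : m ≠ 0 := (Nat.ordCompl_pos p Nat.card_pos.ne').ne'
  haveI : NeZero m := ⟨hm0⟩
  set η := Complex.exp (2 * Real.pi * Complex.I / (m : ℂ)) with hη
  set K := IntermediateField.adjoin ℚ ({η} : Set ℂ) with hK
  show Cfsg.blockCoeff B g ∈ K
  by_cases hg : p ∣ orderOf g
  · rw [Cfsg.Agent.Block.blockCoeff_singular hM hB hg]
    exact zero_mem K
  have hprim : IsPrimitiveRoot η m := Complex.isPrimitiveRoot_exp m hm0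
  have hval : ∀ (χ : Cfsg.IrrCharacter G) (h : G), ¬ p ∣ orderOf h → (χ : G → ℂ) h ∈ K := by
    intro χ h hh
    obtain ⟨d, ρ, hρ⟩ := Cfsg.Agent.Block.irr_isChar χ
    obtain ⟨b, c, -, hc, hk⟩ := Cfsg.Agent.Char.exists_rep_eigenbasis ρ h
    have h1 := hk 1
    simp only [pow_one] at h1
    rw [← hρ, h1]
    refine sum_mem fun i _ => ?_
    have hdvd : orderOf h ∣ m := by
      refine ((hp.coprime_iff_not_dvd.2 hh).symm.pow_right ((Nat.card G).factorization p)).dvd_of_dvd_mul_left ?_
      rw [hm, Nat.ordProj_mul_ordCompl_eq_self]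
      exact orderOf_dvd_natCard h
    obtain ⟨l, hl⟩ := hdvd
    obtain ⟨j, -, hj⟩ := hprim.eq_pow_of_pow_eq_one (show c i ^ m = 1 by
      rw [hl, pow_mul, hc, one_pow])
    rw [← hj]
    exact pow_mem (IntermediateField.mem_adjoin_simple_self ℚ η) j
  rw [Cfsg.Agent.Block.blockCoeff_eq, Cfsg.Agent.Block.coeffFun_eq_sum]
  refine mul_mem (inv_mem (natCast_mem K _)) (sum_mem fun χ _ => ?_)
  have hb : Cfsg.Agent.Block.blockInd B χ ∈ K := by
    by_cases hχ : χ ∈ B
    · rw [Cfsg.Agent.Block.blockInd_of_mem hχ]; exact one_mem K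
    · rw [Cfsg.Agent.Block.blockInd_of_notMem hχ]; exact zero_mem K
  refine mul_mem (mul_mem hb (hval χ 1 (by simp [hp.ne_one]))) (hval χ g⁻¹ (by rwa [orderOf_inv]))

end Cfsg.Agent.S4664
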