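import Cfsg.Statements.S4665
import Cfsg.Agent.Lib.Char.DegreeSum

set_option autoImplicit false
open Cfsg

namespace Cfsg.Agent.S4665

/-- Fix a prime p, a maximal ideal M of the algebraic integers containing p, and a p-block B of the finite group G, and let p^a be the p-part of the order of G. Let χ be an integer combination of the irreducible characters in B. If the function that agrees with χ on p-regular elements and vanishes on p-singular elements is again an integer combination of the irreducible characters in B, then p^a divides χ(1). -/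
theorem result {G : Type*} [Group G] [Fintype G] (p : ℕ) [Fact p.Prime] (M : Ideal Cfsg.AlgInt) (hM : Cfsg.IsPModular p M) (B : Set (Cfsg.IrrCharacter G)) (hB : Cfsg.IsPBlock M B) (χ : G → ℂ) (hχ : (∃ n : Cfsg.IrrCharacter G → ℤ, ∀ g : G, χ g = ∑ᶠ ψ ∈ B, (n ψ : ℂ) * (ψ : G → ℂ) g)) (h0 : (∃ n : Cfsg.IrrCharacter G → ℤ, ∀ g : G, Cfsg.pRegularPart p χ g = ∑ᶠ ψ ∈ B, (n ψ : ℂ) * (ψ : G → ℂ) g)) : ∃ k : ℤ, χ 1 = (p ^ (Nat.card G).factorization p : ℂ) * k := by
  classical
  have hp : p.Prime := Fact.out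
  set a := (Nat.card G).factorization p with ha
  obtain ⟨n, hn⟩ := hχ
  obtain ⟨m, hm⟩ := h0
  have hint : ∃ z : ℤ, χ 1 = (z : ℂ) := by
    refine ⟨∑ ψ ∈ Finset.univ.filter (· ∈ B), n ψ * (Cfsg.charDegree (ψ : G → ℂ) : ℤ), ?_⟩
    rw [hn 1, Cfsg.Agent.Block.finsum_mem_block]
    push_cast
    exact Finset.sum_congr rfl fun ψ _ => by rw [Cfsg.Agent.Block.charDeg_spec' ψ]
  obtain ⟨z, hz⟩ := hint
  set P := Finset.univ.filter (fun v : G => v ^ p ^ a = 1) with hP
  have hsum : ∑ v ∈ P, Cfsg.pRegularPart p χ v = χ 1 := by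
    rw [Finset.sum_eq_single (1 : G)]
    · simp [Cfsg.pRegularPart, Cfsg.IsPRegular, hp.ne_one]
    · intro v hv hv1
      obtain ⟨j, -, hj⟩ := (Nat.dvd_prime_pow hp).1
        (orderOf_dvd_of_pow_eq_one (Finset.mem_filter.1 hv).2)
      have hdvd : p ∣ orderOf v := by
        rcases Nat.eq_zero_or_pos j with rfl | hj0
        · exact absurd (orderOf_eq_one_iff.1 (by rw [hj, pow_zero])) hv1
        · rw [hj]; exact dvd_pow_self p hj0.ne'
      simp [Cfsg.pRegularPart, Cfsg.IsPRegular, hdvd]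
    · simp [hP]
  have hring : Cfsg.MemLocalRing M ((z : ℂ) / (Nat.card G : ℂ)) := by
    rw [← hz, ← hsum, Finset.sum_congr rfl fun v _ => (hm v).trans (Cfsg.Agent.Block.finsum_mem_block B _),
      Finset.sum_comm, Finset.sum_div]
    refine Cfsg.Agent.Block.ring_sum hM fun ψ _ => ?_
    rw [← Finset.mul_sum, mul_div_assoc]
    exact Cfsg.Agent.Block.ring_mul hM (Cfsg.Agent.Block.ring_intCast hM _)
      (Cfsg.Agent.Char.Contrib.ring_sum_qElements hM a le_rfl (Cfsg.Agent.Block.irr_isChar ψ))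
  have hdvd : ((p ^ a : ℕ) : ℤ) ∣ z := by
    rcases eq_or_ne z 0 with rfl | hz0
    · exact dvd_zero _
    by_contra hnd
    have hlt : z.natAbs.factorization p < a := by
      by_contra hle
      exact hnd (Int.natCast_dvd.2 ((hp.pow_dvd_iff_le_factorization (Int.natAbs_ne_zero.2 hz0)).2
        (not_lt.1 hle)))
    have hi := Cfsg.Agent.Block.ideal_natDiv hM (Int.natAbs_ne_zero.2 hz0) Nat.card_pos.ne' (a := Nat.card G) hlt
    have h1 := Cfsg.Agent.Block.ideal_mul_left hM hring hi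
    have hG0 : (Nat.card G : ℂ) ≠ 0 := Nat.cast_ne_zero.2 Nat.card_pos.ne'
    have hzn : ((z.natAbs : ℕ) : ℂ) ≠ 0 := Nat.cast_ne_zero.2 (Int.natAbs_ne_zero.2 hz0)
    rw [div_mul_div_cancel₀ hG0] at h1
    have hsign : (z : ℂ) / ((z.natAbs : ℕ) : ℂ) = 1 ∨ (z : ℂ) / ((z.natAbs : ℕ) : ℂ) = -1 := by
      rcases Int.natAbs_eq z with hs | hs
      · left
        rw [div_eq_one_iff_eq hzn, ← Int.cast_natCast (R := ℂ), ← hs]
      · right
        rw [div_eq_iff hzn, neg_one_mul, ← Int.cast_natCast (R := ℂ), ← Int.cast_neg, ← hs]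
    rcases hsign with hs | hs
    · exact Cfsg.Agent.Block.ideal_one hM (hs ▸ h1)
    · rw [hs] at h1
      have h2 := Cfsg.Agent.Block.ideal_mul_left hM (Cfsg.Agent.Block.ring_intCast hM (-1)) h1
      simp only [Int.cast_neg, Int.cast_one, mul_neg, neg_mul, mul_one, neg_neg, one_mul] at h2
      exact Cfsg.Agent.Block.ideal_one hM h2
  obtain ⟨k, hk⟩ := hdvd
  exact ⟨k, by rw [hz, hk]; push_cast; rfl⟩

end Cfsg.Agent.S4665
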