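import Cfsg.Statements.S4666
import Cfsg.Agent.Lib.Char.RegularPartGen
-- import your own Cfsg.Agent.* helpers here

set_option autoImplicit false
open Cfsg

namespace Cfsg.Agent.S4666

/-- Fix a prime p and a maximal ideal M of the algebraic integers containing p, and a p-block B of the finite group G of defect d. For every integer combination χ of the irreducible characters in B, p^d times the function that agrees with χ on p-regular elements and vanishes elsewhere is again an integer combination of the irreducible characters in B. -/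
theorem result {G : Type*} [Group G] [Fintype G] (p : ℕ) [Fact p.Prime] (M : Ideal Cfsg.AlgInt) (hM : Cfsg.IsPModular p M) (B : Set (Cfsg.IrrCharacter G)) (hB : Cfsg.IsPBlock M B) (χ : G → ℂ) (hχ : (∃ n : Cfsg.IrrCharacter G → ℤ, ∀ g : G, χ g = ∑ᶠ ψ ∈ B, (n ψ : ℂ) * (ψ : G → ℂ) g)) : (∃ n : Cfsg.IrrCharacter G → ℤ, ∀ g : G, (p ^ Cfsg.blockDefect p B : ℂ) * Cfsg.pRegularPart p χ g = ∑ᶠ ψ ∈ B, (n ψ : ℂ) * (ψ : G → ℂ) g) := by
  classical
  obtain ⟨n, hn⟩ := hχ
  have key : ∀ ψ : Cfsg.IrrCharacter G, ∃ a : Cfsg.IrrCharacter G → ℤ,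
      (∀ η, η ∉ B → a η = 0) ∧ (ψ ∈ B → ∀ x : G, (if p ∣ orderOf x then (0 : ℂ) else
        ((p : ℂ) ^ Cfsg.blockDefect p B) * (ψ : G → ℂ) x) = ∑ η, (a η : ℂ) * (η : G → ℂ) x) := by
    intro ψ
    by_cases hψ : ψ ∈ B
    · obtain ⟨a, ha, he⟩ := Cfsg.Agent.Char.Contrib.exists_coeff_reg hM hB hψ
        (c := (p : ℂ) ^ Cfsg.blockDefect p B) fun η hη => by
          obtain ⟨z, hz, -⟩ := Cfsg.Agent.Char.Contrib.exists_int_regSum_defect hM hB hψ hη
          refine ⟨(p : ℤ) ^ Cfsg.blockHeight p B (η : G → ℂ) * z, ?_⟩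
          rw [Cfsg.Agent.Char.Contrib.regSum_swap,
            div_eq_iff (Nat.cast_ne_zero.2 Nat.card_pos.ne')]
          push_cast
          linear_combination hz
      exact ⟨a, ha, fun _ x => congrFun he x⟩
    · exact ⟨0, fun _ _ => rfl, fun h => absurd h hψ⟩
  choose a ha he using key
  refine ⟨fun η => ∑ ψ ∈ Finset.univ.filter (· ∈ B), n ψ * a ψ η, fun g => ?_⟩
  rw [Cfsg.Agent.Block.finsum_mem_block]
  have h1 : (p : ℂ) ^ Cfsg.blockDefect p B * Cfsg.pRegularPart p χ g =
      ∑ ψ ∈ Finset.univ.filter (· ∈ B), (n ψ : ℂ) * (if p ∣ orderOf g then (0 : ℂ) else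
        ((p : ℂ) ^ Cfsg.blockDefect p B) * (ψ : G → ℂ) g) := by
    by_cases hg : p ∣ orderOf g
    · have : Cfsg.pRegularPart p χ g = 0 := by
        simp only [Cfsg.pRegularPart]
        rw [if_neg fun h => h hg]
      simp [this, hg]
    · have : Cfsg.pRegularPart p χ g = χ g := by
        simp only [Cfsg.pRegularPart]
        rw [if_pos (show Cfsg.IsPRegular p g from hg)]
      rw [this, hn g, Cfsg.Agent.Block.finsum_mem_block, Finset.mul_sum]
      exact Finset.sum_congr rfl fun ψ _ => by rw [if_neg hg]; ring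
  rw [h1, Finset.sum_congr rfl fun ψ hψ => by rw [he ψ (Finset.mem_filter.1 hψ).2 g]]
  simp only [Finset.mul_sum, Int.cast_sum, Int.cast_mul, Finset.sum_mul]
  rw [Finset.sum_comm]
  refine (Finset.sum_subset (Finset.subset_univ _) fun η _ hη => ?_).symm.trans
    (Finset.sum_congr rfl fun η _ => Finset.sum_congr rfl fun ψ _ => by ring)
  refine Finset.sum_eq_zero fun ψ _ => ?_
  rw [ha ψ η (by simpa using hη)]
  simp

end Cfsg.Agent.S4666
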