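import Cfsg.Statements.S4681
import Cfsg.Agent.Lib.Char.PairMax
-- import your own Cfsg.Agent.* helpers here

set_option autoImplicit false
open Cfsg

namespace Cfsg.Agent.S4681

/-- Fix a prime p and a maximal ideal M of the algebraic integers containing p. Let B₀ be the principal p-block of the finite group G, P a Sylow p-subgroup and e₀ the principal p-block of C_G(P). Then (P, e₀) is a maximal Brauer pair of B₀, and the fusion system of B₀ on (P, e₀) is the fusion system of G on P: its maps from each subgroup of P are exactly the conjugation maps into P by elements of G. -/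
theorem result {G : Type*} [Group G] [Fintype G] (p : ℕ) [Fact p.Prime] (M : Ideal Cfsg.AlgInt) (hM : Cfsg.IsPModular p M) (S : Sylow p G) : Cfsg.IsMaximalBrauerPair p M (Cfsg.principalBlock M G) (S : Subgroup G) (Cfsg.principalBlock M (Subgroup.centralizer ((S : Subgroup G) : Set G))) ∧ ∀ F : Cfsg.FusionSystem (S : Subgroup G), Cfsg.IsBlockFusionSystemOn p M (Cfsg.principalBlock M G) (S : Subgroup G) (Cfsg.principalBlock M (Subgroup.centralizer ((S : Subgroup G) : Set G))) F → ∀ Q : Subgroup G, F.Hom Q = (Cfsg.groupFusionSystem (S : Subgroup G)).Hom Q := by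
  refine ⟨Cfsg.Agent.Char.BP.isMx_prPair_sylow hM S, fun F hF Q => Set.ext fun φ => ?_⟩
  have hS := S.isPGroup'
  constructor
  · intro hφ
    obtain ⟨hQ, g, hg, hmap, -⟩ := (hF.2 Q φ).1 hφ
    exact ⟨hQ, fun u => hg u ▸ hmap ⟨(u : G), u.2, rfl⟩, g, hg⟩
  · rintro ⟨hQ, hmem, g, hg⟩
    have hmap : Q.map (MulAut.conj g).toMonoidHom ≤ (S : Subgroup G) := by
      rintro _ ⟨u, hu, rfl⟩
      have := hmem ⟨u, hu⟩
      rw [hg] at this
      exact this
    refine (hF.2 Q φ).2 ⟨hQ, g, hg, hmap, Cfsg.principalBlock M (Cfsg.Agent.Char.BP.CG Q),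
      Cfsg.Agent.Char.BP.le_prPair hM hS hQ, ?_⟩
    have h := Cfsg.Agent.Char.BP.le_prPair hM hS hmap
    rw [← Cfsg.Agent.Char.BP.cjI_prPair hM g] at h
    exact h

end Cfsg.Agent.S4681
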