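import Cfsg.Statements.S4694
import Cfsg.Agent.Lib.Char.WeightPair

set_option autoImplicit false
open Cfsg

namespace Cfsg.Agent.S4694
open Cfsg.Agent.Block Cfsg.Agent.Char


/-- Fix a prime p and a maximal ideal M of the algebraic integers containing p, a p-block B of the finite group G and a Brauer pair (Q, e) of B. Let T be the stabilizer of e in N_G(Q) and suppose that (Q, e) carries a weight: the block of T whose idempotent is that of e contains an irreducible character χ that is constant on the cosets of Q and whose degree has p-part equal to the p-part of the index of Q in T. Then Z(Q) is a defect group of e as a block of C_G(Q), and Q is the largest normal p-subgroup of T: every p-subgroup of T normalized by T lies in Q. -/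
theorem result {G : Type*} [Group G] [Fintype G] (p : ℕ) [Fact p.Prime] (M : Ideal Cfsg.AlgInt) (hM : Cfsg.IsPModular p M) (B : Set (Cfsg.IrrCharacter G)) (Q : Subgroup G) (e : Set (Cfsg.IrrCharacter (Subgroup.centralizer (Q : Set G)))) (hQe : Cfsg.IsBrauerPairOf p M B Q e) (T : Subgroup G) (hT : ∀ y : G, y ∈ T ↔ y ∈ Subgroup.normalizer (Q : Set G) ∧ Cfsg.StabilizesBlock (Subgroup.centralizer (Q : Set G)) e y) (F' : Set (Cfsg.IrrCharacter T)) (hF' : Cfsg.IsPBlock M F') (hF'e : ∀ t : T, Cfsg.blockCoeff F' t = Cfsg.subgroupBlockCoeff (Subgroup.centralizer (Q : Set G)) e (t : G)) (χ : Cfsg.IrrCharacter T) (hχ : χ ∈ F') (hχQ : ∀ q : G, q ∈ Q → ∀ t : T, ∀ t' : T, (t' : G) = q * (t : G) → (χ : T → ℂ) t' = (χ : T → ℂ) t) (hdeg : (Cfsg.charDegree (χ : T → ℂ)).factorization p + (Nat.card Q).factorization p = (Nat.card T).factorization p) : Cfsg.IsDefectGroup p M e ((Q ⊓ Subgroup.centralizer (Q : Set G)).subgroupOf (Subgroup.centralizer (Q : Set G))) ∧ ∀ R : Subgroup G, R ≤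 T → IsPGroup p R → (∀ t ∈ T, t ∈ Subgroup.normalizer (R : Set G)) → R ≤ Q := by
  classical
  obtain ⟨⟨hQp, he⟩, -, -⟩ := hQe
  have hCc : ∀ c ∈ (Subgroup.centralizer (Q : Set G)), ∀ q ∈ Q, q * c = c * q := fun c hc q hq =>
    Subgroup.mem_centralizer_iff.1 hc q hq
  have hCN : (Subgroup.centralizer (Q : Set G)) ≤ Subgroup.normalizer (Q : Set G) := fun c hc => Subgroup.mem_normalizer_iff.2
    fun x => ⟨fun hx => by rwa [← hCc c hc x hx, mul_inv_cancel_right], fun hx => by
      have h1 := hCc c hc _ hx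
      rw [inv_mul_cancel_right] at h1
      exact (mul_left_cancel h1).symm ▸ hx⟩
  have hQT : Q ≤ T := fun q hq => (hT q).2 ⟨Subgroup.le_normalizer hq, by
      have hfix : ∀ c ∈ (Subgroup.centralizer (Q : Set G)), q * c * q⁻¹ = c := fun c hc => by rw [hCc c hc q hq, mul_inv_cancel_right]
      refine ⟨Subgroup.mem_normalizer_iff.2 fun c => ⟨fun hc => ?_, fun hc => ?_⟩, fun η hη => ⟨η, hη,
        fun k k' hk => ?_⟩⟩
      · show q * c * q⁻¹ ∈ (Subgroup.centralizer (Q : Set G))
        rw [hfix c hc]; exact hc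
      · have h1 : q⁻¹ * (q * c * q⁻¹) * q = q * c * q⁻¹ := by
          have := hCc _ hc q⁻¹ (inv_mem hq)
          rw [this]; group
        have e : c = q * c * q⁻¹ := by
          conv_rhs => rw [← h1]
          group
        exact e ▸ hc
      · rw [hfix k k.2] at hk
        rw [Subtype.ext hk]⟩
  have hCT : (Subgroup.centralizer (Q : Set G)) ≤ T := fun c hc => (hT c).2 ⟨hCN hc, Subgroup.le_normalizer hc, fun η hη =>
    ⟨η, hη, fun k k' hk => by
      rw [show k' = (⟨c, hc⟩ : (Subgroup.centralizer (Q : Set G))) * k * (⟨c, hc⟩ : (Subgroup.centralizer (Q : Set G)))⁻¹ from Subtype.ext hk]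
      exact irr_classFun η k ⟨c, hc⟩⟩⟩
  have hTN : ∀ t ∈ T, t ∈ Subgroup.normalizer (Q : Set G) := fun t ht => ((hT t).1 ht).1
  set C₁ : Subgroup T := (Subgroup.centralizer (Q : Set G)).subgroupOf T with hC₁
  set Q₁ : Subgroup T := Q.subgroupOf T with hQ₁
  haveI : Q₁.Normal := ⟨fun n hn g => (Subgroup.mem_normalizer_iff.1 (hTN g g.2) (n : G)).1 hn⟩
  haveI : C₁.Normal := ⟨fun n hn g => by
    show (g : G) * (n : G) * (g : G)⁻¹ ∈ (Subgroup.centralizer (Q : Set G))
    refine Subgroup.mem_centralizer_iff.2 fun q hq => ?_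
    have hq' : (g : G)⁻¹ * q * (g : G) ∈ Q := by
      have := (Subgroup.mem_normalizer_iff.1 (hTN _ (inv_mem g.2)) q).1 hq
      simpa using this
    have h1 : (g : G)⁻¹ * q * g * (n : G) = (n : G) * ((g : G)⁻¹ * q * g) := hCc _ hn _ hq'
    calc q * ((g : G) * (n : G) * (g : G)⁻¹) = g * ((g : G)⁻¹ * q * g * n) * (g : G)⁻¹ := by group
      _ = g * ((n : G) * ((g : G)⁻¹ * q * g)) * (g : G)⁻¹ := by rw [h1]
      _ = _ := by group⟩
  -- the weight is trivial on the subgroup
  have hker : ∀ q ∈ Q₁, (χ : T → ℂ) q = (χ : T → ℂ) 1 := fun q hq =>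
    hχQ (q : G) hq 1 q (by simp)
  have hcard₁ : Nat.card Q₁ = Nat.card Q := Nat.card_congr (Subgroup.subgroupOfEquivOfLe hQT).toEquiv
  rw [← hcard₁] at hdeg
  refine ⟨?_, fun R hRT hR hnorm => ?_⟩
  swap
  · set R₁ : Subgroup T := R.subgroupOf T
    haveI : R₁.Normal := ⟨fun n hn g => (Subgroup.mem_normalizer_iff.1 (hnorm g g.2) (n : G)).1 hn⟩
    have hp1 : IsPGroup p ↥(R₁ ⊔ Q₁) :=
      IsPGroup.to_sup_of_normal_right (hR.of_equiv (Subgroup.subgroupOfEquivOfLe hRT).symm)
        (hQp.of_equiv (Subgroup.subgroupOfEquivOfLe hQT).symm)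
    have h := Cfsg.Agent.Char.WeightPair.eq_of_defectZero χ Q₁ (R₁ ⊔ Q₁) le_sup_right hp1 hker hdeg
    intro r hr
    have hr' : (⟨r, hRT hr⟩ : T) ∈ R₁ ⊔ Q₁ := Subgroup.mem_sup_left hr
    rw [h] at hr'
    exact hr'
  -- a constituent of full defect in the block
  let j : (Subgroup.centralizer (Q : Set G)) →* T := Subgroup.inclusion hCT
  obtain ⟨θ, hθ, hθker, hle⟩ := Cfsg.Agent.Char.WeightPair.exists_full_constituent (p := p) χ j Q₁
    (C₁ ⊔ Q₁) le_sup_right (fun c => Subgroup.mem_sup_left c.2) (fun h hh => by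
      rw [← SetLike.mem_coe, Subgroup.mul_normal] at hh
      obtain ⟨c, hc, q, hq, rfl⟩ := hh
      refine ⟨⟨(c : G), hc⟩, ?_⟩
      show (j ⟨(c : G), hc⟩)⁻¹ * (c * q) ∈ Q₁
      rw [show j ⟨(c : G), hc⟩ = c from Subtype.ext rfl, inv_mul_cancel_left]
      exact hq) hker
  have hθe : θ ∈ e := by
    refine Cfsg.Agent.Char.WeightPair.mem_of_constituent j (Subgroup.inclusion_injective hCT)
      (F' := F') (fun c => ?_) (fun t ht => ?_) hχ hθ
    · rw [hF'e]
      show subgroupBlockCoeff (Subgroup.centralizer (Q : Set G)) e (c : G) = _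
      rw [subgroupBlockCoeff, dif_pos c.2]
    · rw [hF'e, subgroupBlockCoeff, dif_neg]
      exact fun h => ht ⟨⟨_, h⟩, Subtype.ext rfl⟩
  set Z : Subgroup (Subgroup.centralizer (Q : Set G)) := (Q ⊓ (Subgroup.centralizer (Q : Set G))).subgroupOf (Subgroup.centralizer (Q : Set G)) with hZ
  have hZc : Z ≤ Subgroup.center (Subgroup.centralizer (Q : Set G)) := fun z hz => Subgroup.mem_center_iff.2 fun y =>
    Subtype.ext (hCc y y.2 z hz.1).symm
  haveI : Z.Normal := ⟨fun z hz g => by
    rw [Subgroup.mem_center_iff.1 (hZc hz) g, mul_inv_cancel_right]; exact hz⟩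
  have hZp : IsPGroup p Z :=
    (hQp.to_le inf_le_left).of_equiv (Subgroup.subgroupOfEquivOfLe inf_le_right).symm
  have hinf : Nat.card ↥(C₁ ⊓ Q₁) = Nat.card Z := by
    rw [show C₁ ⊓ Q₁ = (Q ⊓ (Subgroup.centralizer (Q : Set G))).subgroupOf T from Subgroup.ext fun x => ⟨fun h => ⟨h.2, h.1⟩,
        fun h => ⟨h.2, h.1⟩⟩,
      Nat.card_congr (Subgroup.subgroupOfEquivOfLe (inf_le_left.trans hQT)).toEquiv,
      Nat.card_congr (Subgroup.subgroupOfEquivOfLe (inf_le_right (a := Q) (b := (Subgroup.centralizer (Q : Set G))))).toEquiv]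
  have hH : Nat.card ↥(C₁ ⊔ Q₁) * Nat.card Z = Nat.card (Subgroup.centralizer (Q : Set G)) * Nat.card Q₁ := by
    rw [← hinf, Cfsg.Agent.Grp.card_sup_mul_card_inf_normal,
      Nat.card_congr (Subgroup.subgroupOfEquivOfLe hCT).toEquiv]
  have hdeg' : (charDegree (θ : (Subgroup.centralizer (Q : Set G)) → ℂ)).factorization p = Z.index.factorization p := by
    refine le_antisymm ((Nat.factorization_le_iff_dvd (charDeg_pos θ).ne'
      Subgroup.index_ne_zero_of_finite).2 (Cfsg.Agent.Char.WeightPair.degree_dvd_index θ Z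
        fun z hz => hθker z hz.1) p) ?_
    have h1 := congrArg (fun n => n.factorization p) hH
    simp only [Nat.factorization_mul Nat.card_pos.ne' Nat.card_pos.ne', Finsupp.coe_add,
      Pi.add_apply] at h1
    have h2 := congrArg (fun n => n.factorization p) (Subgroup.card_mul_index Z)
    simp only [Nat.factorization_mul Nat.card_pos.ne' Subgroup.index_ne_zero_of_finite,
      Finsupp.coe_add, Pi.add_apply] at h2
    omega
  have hblock : e = blockOf M (θ : (Subgroup.centralizer (Q : Set G)) → ℂ) := pblock_eq_blockOf hM he hθe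
  rw [hblock]
  exact central_defect_isDefectGroup hM hZp hZc θ hdeg'

end Cfsg.Agent.S4694
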