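import Cfsg.Statements.S4696
import Cfsg.Agent.Lib.Char.CycDefect

set_option autoImplicit false
open Cfsg

namespace Cfsg.Agent.S4696

/-- Let p be a prime, M a maximal ideal of the algebraic integers containing p, and B a p-block of the finite group G whose defect group D is cyclic of order p^a with a ≥ 1. Let C = C_G(D), let b be a block of C inducing B, let T be the stabilizer of b in N_G(D) (the elements g of N_G(D) such that the g-conjugate of every member of b is again in b), and let e be the index of C in T (the inertial index of B). Then e divides p − 1, every irreducible character in B has height zero, and B is the disjoint union of a set X of e characters and a set Y of (p^a − 1)/e characters, the members of Y agreeing on p-regular elements, for which there are signs δ_χ = ±1 (χ ∈ X) and δ₀ = ±1 such that: for every ψ ∈ Y and every p-regular g, δ₀ ψ(g) + Σ_{χ ∈ X} δ_χ χ(g) =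 0; for all χ, χ' ∈ X the integers δ_χ χ(1) and δ_χ' χ'(1) are congruent modulo p^a; and for ψ ∈ Y and χ ∈ X, ψ(1) ≡ −e δ₀ δ_χ χ(1) modulo p^a. -/
theorem result {G : Type*} [Group G] [Finite G] (p : ℕ) [Fact p.Prime] (M : Ideal Cfsg.AlgInt) (hM : Cfsg.IsPModular p M) (D : Subgroup G) (hD : IsCyclic D) (a : ℕ) (ha : 1 ≤ a) (hDa : Nat.card D = p ^ a) (B : Set (Cfsg.IrrCharacter G)) (hB : Cfsg.IsPBlock M B) (hBD : Cfsg.IsDefectGroup p M B D) (b : Set (Cfsg.IrrCharacter (Subgroup.centralizer (D : Set G)))) (hind : Cfsg.IsInducedBlock M (Subgroup.centralizer (D : Set G)) b B) (T : Subgroup G) (hT : ∀ g : G, g ∈ T ↔ (g ∈ Subgroup.normalizer (D : Set G) ∧ ∀ θ ∈ b, ∀ θ' : Cfsg.IrrCharacter (Subgroup.centralizer (D : Set G)), (∀ h h' : Subgroup.centralizer (D : Set G), (h' : G) = g * h * g⁻¹ → (θ' : Subgroup.centralizer (D : Set G) → ℂ) h' = (θ : Subgroup.centralizer (D : Set G) → ℂ) h) → θ' ∈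 b)) (e : ℕ) (he : (Subgroup.centralizer (D : Set G)).relIndex T = e) : e ∣ p - 1 ∧ (∀ χ ∈ B, Cfsg.blockHeight p B (χ : G → ℂ) = 0) ∧ ∃ X Y : Set (Cfsg.IrrCharacter G), B = X ∪ Y ∧ Disjoint X Y ∧ Nat.card X = e ∧ Nat.card Y = (p ^ a - 1) / e ∧ (∀ ψ ∈ Y, ∀ ψ' ∈ Y, ∀ g : G, ¬ p ∣ orderOf g → (ψ : G → ℂ) g = (ψ' : G → ℂ) g) ∧ ∃ (δ : Cfsg.IrrCharacter G → ℤ) (δ₀ : ℤ), (∀ χ ∈ X, δ χ = 1 ∨ δ χ = -1) ∧ (δ₀ = 1 ∨ δ₀ = -1) ∧ (∀ ψ ∈ Y, ∀ g : G, ¬ p ∣ orderOf g → (δ₀ : ℂ) * (ψ : G → ℂ) g + ∑ᶠ χ ∈ X, (δ χ : ℂ) * (χ : G → ℂ) g = 0) ∧ (∀ χ ∈ X, ∀ χ' ∈ X, δ χ * (Cfsg.charDegree (χ : G → ℂ) : ℤ) ≡ δ χ' * (Cfsg.charDegree (χ' : G → ℂ) : ℤ) [ZMOD (p : ℤ) ^ a]) ∧ (∀ ψ ∈ Y, ∀ χ ∈ X, (Cfsg.charDegree (ψ : G → ℂ) : ℤ) ≡ -((e : ℤ) * δ₀ * δ χ * (Cfsg.charDegree (χ : G → ℂ) : ℤ)) [ZMOD (p : ℤ) ^ a]) := by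
  classical
  haveI : Fintype G := Fintype.ofFinite G
  have hp : p.Prime := Fact.out
  have hab := Cfsg.Agent.Char.BP.comm_of_cyclic (P := D) hD
  have hx := Cfsg.Agent.Char.BP.isMx_of_induced hM hBD hab hind
  have hst : Cfsg.Agent.Char.BP.stab (⟨D, b⟩ : BrauerPairIdx G) = T :=
    Cfsg.Agent.Char.CycDef.stab_eq_of_forall hM hx.1.1.2 hT
  have hP1 : D ≠ ⊥ := fun h => by
    rw [h, Subgroup.card_bot] at hDa
    exact absurd hDa (Nat.one_lt_pow (by omega) hp.one_lt).ne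
  obtain ⟨u₀, hgen⟩ := Cfsg.Agent.Char.CycDef.exists_gen (x := (⟨D, b⟩ : BrauerPairIdx G)) hD
  haveI : NeZero (orderOf u₀) := ⟨(orderOf_pos u₀).ne'⟩
  obtain ⟨R, β, X, y, c, ε, hd⟩ := Cfsg.Agent.Char.CycDef.exists_data hM hB hx hD hP1 hgen rfl
  have hN : orderOf u₀ = p ^ a := by rw [← Nat.card_zpowers, hgen, hDa]
  have heq : (Cfsg.Agent.Char.BP.CG D).relIndex
      (Cfsg.Agent.Char.BP.stab (⟨D, b⟩ : BrauerPairIdx G)) = e := by rw [hst]; exact he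
  refine ⟨?_, fun χ hχ => Cfsg.Agent.Char.CycDef.height_zero hM hB hx hgen rfl hP1 hd hχ,
    (X : Set (IrrCharacter G)), (Cfsg.Agent.Char.CycDef.ys y : Set (IrrCharacter G)), ?_, ?_, ?_, ?_,
    fun ψ hψ ψ' hψ' g hg => Cfsg.Agent.Char.CycDef.agree hd hψ hψ' hg, c, ε, hd.c_sign, hd.ε_sign,
    fun ψ hψ g hg => ?_, fun χ hχ χ' hχ' => ?_, fun ψ hψ χ hχ => ?_⟩
  · haveI : ((Cfsg.Agent.Char.BP.CG D).subgroupOf
        (Cfsg.Agent.Char.BP.stab (⟨D, b⟩ : BrauerPairIdx G))).Normal :=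
      (Subgroup.normal_subgroupOf_iff_le_normalizer
        (Cfsg.Agent.Char.BP.cg_le_stab (⟨D, b⟩ : BrauerPairIdx G))).2
        ((Cfsg.Agent.Char.BP.stab_le_normalizer _).trans fun u hu =>
          Cfsg.Agent.Char.BP.mem_normalizer_cg hu)
    have h := (Cfsg.Agent.Char.BP.cyclic_quotient hx.1.1.1 hP1 hD
      (Cfsg.Agent.Char.BP.stab_le_normalizer (⟨D, b⟩ : BrauerPairIdx G))
      (Cfsg.Agent.Char.BP.free_of_cyclic hM hx hD)).2
    rwa [heq] at h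
  · ext χ
    rw [Set.mem_union, Finset.mem_coe, Finset.mem_coe, Cfsg.Agent.Char.CycDef.mem_ys]
    exact hd.mem_iff χ
  · rw [Finset.disjoint_coe, Finset.disjoint_left]
    intro χ h1 h2
    obtain ⟨j, hj, rfl⟩ := Cfsg.Agent.Char.CycDef.mem_ys.1 h2
    exact hd.disj j hj h1
  · rw [Nat.card_coe_set_eq, Set.ncard_coe_finset, hd.card_X, heq]
  · have h := Cfsg.Agent.Char.CycDef.card_ys hd
    rw [heq] at h
    replace h : (Cfsg.Agent.Char.CycDef.ys y).card * e = p ^ a - 1 := h.trans (by rw [hN])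
    have he0 : e ≠ 0 := by rw [← heq, ← hd.card_R]; exact Nat.card_pos.ne'
    rw [Nat.card_coe_set_eq, Set.ncard_coe_finset, ← h, Nat.mul_div_cancel _ (Nat.pos_of_ne_zero he0)]
  · obtain ⟨j, hj, rfl⟩ := Cfsg.Agent.Char.CycDef.mem_ys.1 (Finset.mem_coe.1 hψ)
    rw [finsum_mem_coe_finset, add_comm]
    exact hd.regular j hj g hg
  · have hle : (p : ℤ) ^ a ∣ (p : ℤ) ^ (Nat.card G).factorization p := by
      refine pow_dvd_pow _ ?_
      rw [← hp.pow_dvd_iff_le_factorization Nat.card_pos.ne', ← hDa]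
      exact Subgroup.card_subgroup_dvd_card D
    exact ((Int.modEq_iff_dvd).2 (hle.trans
      (Cfsg.Agent.Char.CycDef.congr_X hM hB hx hgen rfl hd hχ hχ'))).symm
  · have hle : (p : ℤ) ^ a ∣ (p : ℤ) ^ (Nat.card G).factorization p := by
      refine pow_dvd_pow _ ?_
      rw [← hp.pow_dvd_iff_le_factorization Nat.card_pos.ne', ← hDa]
      exact Subgroup.card_subgroup_dvd_card D
    obtain ⟨k, hk⟩ := hle.trans (Cfsg.Agent.Char.CycDef.congr_Y hM hB hx hgen rfl hd hχ hψ)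
    have hy := Cfsg.Agent.Char.CycDef.card_ys hd
    rw [heq] at hy
    replace hy : (Cfsg.Agent.Char.CycDef.ys y).card * e = p ^ a - 1 := hy.trans (by rw [hN])
    have hyZ : ((Cfsg.Agent.Char.CycDef.ys y).card : ℤ) * e = (p : ℤ) ^ a - 1 := by
      have h1 : (((Cfsg.Agent.Char.CycDef.ys y).card * e : ℕ) : ℤ) = ((p ^ a - 1 : ℕ) : ℤ) := by
        rw [hy]
      rw [Nat.cast_sub (Nat.one_le_pow _ _ hp.pos)] at h1
      push_cast at h1
      exact h1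
    have hε : ε * ε = 1 := by rcases hd.ε_sign with h | h <;> simp [h]
    refine Int.modEq_iff_dvd.2 ⟨-(e : ℤ) * ε * k - (charDegree (ψ : G → ℂ) : ℤ), ?_⟩
    linear_combination (-(e : ℤ) * ε) * hk -
      ((charDegree (ψ : G → ℂ) : ℤ) * (((Cfsg.Agent.Char.CycDef.ys y).card : ℤ) * e)) * hε -
      (charDegree (ψ : G → ℂ) : ℤ) * hyZ

end Cfsg.Agent.S4696
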