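import Cfsg.Statements.S4704
import Cfsg.Agent.Lib.Block.SmallFaith.Main
import Cfsg.Agent.Lib.Block.SmallFaith.Odd

set_option autoImplicit false
open Cfsg

namespace Cfsg.Agent.S4704

/-- Let G be a finite group with centre Z, p > 7 a prime, and suppose a Sylow p-subgroup of G has order p and is not normal. Let ζ be a faithful irreducible character of G and t the number of conjugacy classes of G consisting of elements of order p. Then one of the following holds: G/Z is isomorphic to PSL(2, p), ζ has degree (p + 1)/2 or (p − 1)/2 and t = 2; or ζ has degree at least p − 1; or ζ has degree at least p + 3/2 − √(p + 5/4) and p ≤ t^2 − 3t + 1. -/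
theorem result {G : Type*} [Group G] [Finite G] (p : ℕ) [Fact p.Prime] (hp : 7 < p) (P : Sylow p G) (hP : Nat.card P = p) (hnn : ¬ (P : Subgroup G).Normal) (ζ : G → ℂ) (hζ : Cfsg.IsIrrCharacter G ζ) (hfaith : ∀ g : G, ζ g = ζ 1 → g = 1) (t : ℕ) (ht : Nat.card {c : ConjClasses G // ∃ g : G, ConjClasses.mk g = c ∧ orderOf g = p} = t) : ((∃ (F : Type) (_ : Field F) (_ : Fintype F), Fintype.card F = p ∧ Nonempty (G ⧸ Subgroup.center G ≃* Matrix.ProjectiveSpecialLinearGroup (Fin 2) F)) ∧ (2 * Cfsg.charDegree ζ = p + 1 ∨ 2 * Cfsg.charDegree ζ = p - 1) ∧ t = 2) ∨ p - 1 ≤ Cfsg.charDegree ζ ∨ ((p : ℝ) + 3 / 2 - Real.sqrt ((p : ℝ) + 5 / 4) ≤ (Cfsg.charDegree ζ : ℝ) ∧ (p : ℤ) ≤ (t : ℤ) ^ 2 - 3 * t + 1) := by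
  classical
  letI := Fintype.ofFinite G
  rcases le_or_gt (p - 1) (Cfsg.charDegree ζ) with h | h
  · exact Or.inr (Or.inl h)
  have hsq := Block.SmallFaith.not_sq_dvd P hP
  have hn := Block.SmallFaith.no_normal_order P hP hnn
  have hep : Cfsg.charDegree ζ + 2 ≤ p := by omega
  obtain ⟨u, R, L, hcase⟩ := Block.SmallFaith.exists_cases hp P hP hnn ⟨ζ, hζ⟩ hfaith hep
  rw [L.card_order_classes] at ht
  have hidx := R.card_mul_index
  rw [Nat.card_eq_fintype_card (α := (ZMod p)ˣ), ZMod.card_units] at hidx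
  subst ht
  rcases hcase with ⟨hiso, hR, hd⟩ | ⟨ω, y, t', Z, ht, ht3, hR2, hd⟩
  · refine Or.inl ⟨⟨ZMod p, inferInstance, inferInstance, ZMod.card p, hiso⟩, ?_, ?_⟩
    · change 2 * Cfsg.charDegree ζ + 1 = p ∨ 2 * Cfsg.charDegree ζ = p + 1 at hd
      omega
    · refine Nat.eq_of_mul_eq_mul_left (Nat.card_pos (α := R)) ?_
      omega
  · change Cfsg.charDegree ζ + Nat.card R = p at hd
    have hti : t' = R.index := Nat.eq_of_mul_eq_mul_left (Nat.card_pos (α := R)) (by omega)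
    subst hti
    have hb := Z.e_add_three_le L (fun φ hφ => Block.SmallFaith.two_mul_degree_ge (by omega) hsq hn
      (Char.IsIrr.isCharacter hζ) hfaith (Block.charDeg_spec (Char.IsIrr.isCharacter hζ)) hep φ L.hu hφ)
      ht ht3 hp hR2
    have hbR : (Nat.card R : ℝ) + 3 ≤ R.index := by exact_mod_cast hb
    have hpR : (p : ℝ) = Nat.card R * R.index + 1 := by exact_mod_cast ht.symm
    have hdR : (Cfsg.charDegree ζ : ℝ) = p - Nat.card R := by
      rw [eq_sub_iff_add_eq]
      exact_mod_cast hd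
    have he0 : (0 : ℝ) ≤ Nat.card R := Nat.cast_nonneg _
    refine Or.inr (Or.inr ⟨?_, ?_⟩)
    · have hs : (Nat.card R : ℝ) + 3 / 2 ≤ Real.sqrt ((p : ℝ) + 5 / 4) :=
        Real.le_sqrt_of_sq_le (by rw [hpR]; nlinarith)
      linarith
    · zify at hb ht
      nlinarith

end Cfsg.Agent.S4704
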