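import Cfsg.Statements.S4708
import Cfsg.Agent.Lib.Char.CoverAll
import Cfsg.Agent.Lib.Char.Constituent
import Cfsg.Agent.Lib.Char.Induce
-- import your own Cfsg.Agent.* helpers here

set_option autoImplicit false
open Cfsg

namespace Cfsg.Agent.S4708

open Cfsg.Agent.Block in
theorem constituent_mem {G : Type*} [Group G] [Fintype G] {p : ℕ} [Fact p.Prime] {M : Ideal Cfsg.AlgInt}
    (hM : Cfsg.IsPModular p M) (N : Subgroup G) [N.Normal] [Fintype N] {χ : IrrCharacter G}
    (hχ : χ ∈ principalBlock M G) {ψ : IrrCharacter N}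
    (h : classInner (fun n : N => (χ : G → ℂ) n) (ψ : N → ℂ) ≠ 0) :
    ψ ∈ principalBlock M N := by
  classical
  have h0 : classInner (fun n : N => (trivialIrr G : G → ℂ) n) (trivialIrr N : N → ℂ) ≠ 0 := by
    rw [show classInner (fun n : N => (trivialIrr G : G → ℂ) n) (trivialIrr N : N → ℂ) = 1 from
      Cfsg.Agent.Char.classInner_self_irr (Cfsg.Agent.Char.isIrr_one (G := N))]
    exact one_ne_zero
  obtain ⟨g, θ', hθ', he⟩ := constituents_in_conjugates N hM isPBlock_principalBlock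
    isPBlock_principalBlock (trivial_mem_principalBlock hM) (trivial_mem_principalBlock hM) h0 hχ h
  have h1 : conjPerm N g (trivialIrr N) = trivialIrr N := Subtype.ext (funext fun n => rfl)
  have h2 := sameBlock_conjPerm N g
    (pblock_sameBlock hM isPBlock_principalBlock (trivial_mem_principalBlock hM) hθ')
  rw [h1] at h2
  have h3 : ψ = conjPerm N g θ' := Subtype.ext (funext he)
  rw [h3]
  exact pblock_mem_of_sameBlock hM isPBlock_principalBlock (trivial_mem_principalBlock hM) h2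

/-- Let p be a prime, M a maximal ideal of the algebraic integers containing p, G a finite group and H a normal subgroup. Write λ(X) for the sum of the squares of the degrees of the irreducible characters in the principal p-block of a group X. Then λ(H) ≤ λ(G) ≤ [G : H]·λ(H). -/
theorem result {G : Type*} [Group G] [Finite G] (p : ℕ) [Fact p.Prime] (M : Ideal Cfsg.AlgInt) (hM : Cfsg.IsPModular p M) (H : Subgroup G) [H.Normal] : (∑ᶠ θ ∈ Cfsg.principalBlock M H, Cfsg.charDegree (θ : H → ℂ) ^ 2) ≤ (∑ᶠ χ ∈ Cfsg.principalBlock M G, Cfsg.charDegree (χ : G → ℂ) ^ 2) ∧ (∑ᶠ χ ∈ Cfsg.principalBlock M G, Cfsg.charDegree (χ : G → ℂ) ^ 2) ≤ H.index * ∑ᶠ θ ∈ Cfsg.principalBlock M H, Cfsg.charDegree (θ : H → ℂ) ^ 2 := by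
  classical
  cases nonempty_fintype G
  haveI : Fintype H := Fintype.ofFinite _
  set SG := Finset.univ.filter (fun χ : IrrCharacter G => χ ∈ principalBlock M G) with hSG
  set SH := Finset.univ.filter (fun θ : IrrCharacter H => θ ∈ principalBlock M H) with hSH
  rw [finsum_mem_eq_sum_of_inter_support_eq (t := SH) _ (by ext; simp [hSH]),
    finsum_mem_eq_sum_of_inter_support_eq (t := SG) _ (by ext; simp [hSG])]
  have hm : ∀ (χ : IrrCharacter G) (θ : IrrCharacter H), ∃ m : ℕ,
      classInner (fun n : H => (χ : G → ℂ) n) (θ : H → ℂ) = m := fun χ θ =>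
    Cfsg.Agent.Char.IsChar.classInner_nat (Cfsg.Agent.Char.IsChar.comp H.subtype
      (Cfsg.Agent.Char.IsIrr.isCharacter χ.2)) (Cfsg.Agent.Char.IsIrr.isCharacter θ.2)
  choose m hm using hm
  have hdG : ∀ χ : IrrCharacter G, (charDegree (χ : G → ℂ) : ℂ) = (χ : G → ℂ) 1 := fun χ =>
    (Cfsg.Agent.Char.IsChar.degree_spec (Cfsg.Agent.Char.IsIrr.isCharacter χ.2)).symm
  have hdH : ∀ θ : IrrCharacter H, (charDegree (θ : H → ℂ) : ℂ) = (θ : H → ℂ) 1 := fun θ =>
    (Cfsg.Agent.Char.IsChar.degree_spec (Cfsg.Agent.Char.IsIrr.isCharacter θ.2)).symm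
  have hdeg : ∀ χ ∈ SG, charDegree (χ : G → ℂ) = ∑ θ ∈ SH, m χ θ * charDegree (θ : H → ℂ) := by
    intro χ hχ
    have h1 := congrFun (Cfsg.Agent.Char.classFunction_expansion (G := H)
      (Cfsg.Agent.Char.IsChar.classFun (Cfsg.Agent.Char.IsChar.comp H.subtype
        (Cfsg.Agent.Char.IsIrr.isCharacter χ.2)))) 1
    simp only [Finset.sum_apply, Pi.smul_apply, smul_eq_mul] at h1
    have h2 : (charDegree (χ : G → ℂ) : ℂ) = ∑ θ ∈ SH, (m χ θ : ℂ) * charDegree (θ : H → ℂ) := by
      rw [hdG]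
      refine h1.trans (((Finset.sum_subset (Finset.subset_univ SH) fun θ _ hθ => ?_).symm).trans ?_)
      rotate_left
      · exact Finset.sum_congr rfl fun θ _ => by rw [← hm χ θ, hdH]; rfl
      · by_contra hne
        apply hθ
        simp only [hSH, Finset.mem_filter, Finset.mem_univ, true_and]
        exact constituent_mem hM H (Finset.mem_filter.1 hχ).2 (left_ne_zero_of_mul hne)
    exact_mod_cast h2
  have hcov : ∀ θ ∈ SH, ∃ χ ∈ SG, m χ θ ≠ 0 := by
    intro θ hθ
    have h0 : classInner (fun n : H => (Cfsg.Agent.Block.trivialIrr G : G → ℂ) n) (Cfsg.Agent.Block.trivialIrr H : H → ℂ) ≠ 0 := by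
      rw [show classInner (fun n : H => (Cfsg.Agent.Block.trivialIrr G : G → ℂ) n) (Cfsg.Agent.Block.trivialIrr H : H → ℂ) = 1 from
        Cfsg.Agent.Char.classInner_self_irr (Cfsg.Agent.Char.isIrr_one (G := H))]
      exact one_ne_zero
    obtain ⟨χ, hχ, hne⟩ := Cfsg.Agent.Char.CoverAll.exists_over_mem H hM
      Cfsg.Agent.Block.isPBlock_principalBlock Cfsg.Agent.Block.isPBlock_principalBlock
      ⟨_, Cfsg.Agent.Block.trivial_mem_principalBlock hM, _,
        Cfsg.Agent.Block.trivial_mem_principalBlock hM, h0⟩ (Finset.mem_filter.1 hθ).2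
    refine ⟨χ, Finset.mem_filter.2 ⟨Finset.mem_univ _, hχ⟩, fun h => hne ?_⟩
    rw [hm, h, Nat.cast_zero]
  refine ⟨?_, ?_⟩
  · calc ∑ θ ∈ SH, charDegree (θ : H → ℂ) ^ 2
        ≤ ∑ θ ∈ SH, ∑ χ ∈ SG, (m χ θ * charDegree (θ : H → ℂ)) ^ 2 := by
          refine Finset.sum_le_sum fun θ hθ => ?_
          obtain ⟨χ, hχ, hne⟩ := hcov θ hθ
          refine le_trans ?_ (Finset.single_le_sum (fun χ _ => Nat.zero_le _) hχ)
          exact Nat.pow_le_pow_left (Nat.le_mul_of_pos_left _ (Nat.pos_of_ne_zero hne)) 2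
      _ = ∑ χ ∈ SG, ∑ θ ∈ SH, (m χ θ * charDegree (θ : H → ℂ)) ^ 2 := Finset.sum_comm
      _ ≤ ∑ χ ∈ SG, charDegree (χ : G → ℂ) ^ 2 := by
          refine Finset.sum_le_sum fun χ hχ => ?_
          rw [hdeg χ hχ]
          exact Finset.sum_sq_le_sq_sum_of_nonneg fun θ _ => Nat.zero_le _
  · have hind : ∀ θ : IrrCharacter H, ∑ χ ∈ SG, m χ θ * charDegree (χ : G → ℂ) ≤
        H.index * charDegree (θ : H → ℂ) := by
      intro θ
      have h1 := congrFun (Cfsg.Agent.Char.classFunction_expansion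
        (Cfsg.Agent.Char.indFun_classFun H (θ : H → ℂ))) 1
      simp only [Finset.sum_apply, Pi.smul_apply, smul_eq_mul] at h1
      have h2 : ((H.index * charDegree (θ : H → ℂ) : ℕ) : ℂ) =
          ((∑ χ : IrrCharacter G, m χ θ * charDegree (χ : G → ℂ) : ℕ) : ℂ) := by
        push_cast
        rw [hdH, ← Cfsg.Agent.Char.indFun_one_eq H (θ : H → ℂ), h1]
        refine Finset.sum_congr (by ext; simp) fun χ _ => ?_
        rw [hdG, Cfsg.Agent.Char.classInner_indFun H _ (Cfsg.Agent.Char.IsIrr.classFun χ.2),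
          ← Complex.conj_natCast (m χ θ), ← hm χ θ, Cfsg.Agent.Char.classInner_conj_symm]
      rw [Nat.cast_injective h2]
      exact Finset.sum_le_univ_sum_of_nonneg fun χ => Nat.zero_le _
    calc ∑ χ ∈ SG, charDegree (χ : G → ℂ) ^ 2
        = ∑ χ ∈ SG, ∑ θ ∈ SH, charDegree (θ : H → ℂ) * (m χ θ * charDegree (χ : G → ℂ)) := by
          refine Finset.sum_congr rfl fun χ hχ => ?_
          rw [sq]
          conv_lhs => arg 1; rw [hdeg χ hχ]
          rw [Finset.sum_mul]
          exact Finset.sum_congr rfl fun θ _ => by ring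
      _ = ∑ θ ∈ SH, charDegree (θ : H → ℂ) * ∑ χ ∈ SG, m χ θ * charDegree (χ : G → ℂ) := by
          rw [Finset.sum_comm]
          exact Finset.sum_congr rfl fun θ _ => (Finset.mul_sum _ _ _).symm
      _ ≤ ∑ θ ∈ SH, charDegree (θ : H → ℂ) * (H.index * charDegree (θ : H → ℂ)) :=
          Finset.sum_le_sum fun θ _ => Nat.mul_le_mul_left _ (hind θ)
      _ = H.index * ∑ θ ∈ SH, charDegree (θ : H → ℂ) ^ 2 := by
          rw [Finset.mul_sum]
          exact Finset.sum_congr rfl fun θ _ => by ring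

end Cfsg.Agent.S4708
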