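import Cfsg.Statements.S4709
import Cfsg.Agent.Lib.Block.AbelianFree

set_option autoImplicit false
open Cfsg

namespace Cfsg.Agent.S4709
open scoped IsMulCommutative

/-- Let p be a prime, M a maximal ideal of the algebraic integers containing p, and G a finite group with a nontrivial abelian Sylow p-subgroup P; put N = N_G(P), C = C_G(P). Suppose N/C is cyclic of order m with 1 < m < #P − 1 (C has index m in N and N is generated by C and one element), and C_G(y) ∩ N = C for every non-identity y ∈ P. Put r = (#P − 1)/m. Then there is s ≤ m such that the principal p-block is the disjoint union of a set X of s characters containing the principal character and a set Y of r characters, with integers a_χ ≠ 0 (χ ∈ X), d and a sign δ = ±1, such that: every χ ∈ X takes the value a_χ at every element whose p-part is a non-identity element of P; there is a map ζ from the non-principal linear characters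 ψ of P onto Y, constant on N-conjugacy classes, with ζ_ψ(z) = d + δ·Σ ψ'(y) for every z whose p-part y is a non-identity element of P, the sum running over the N-conjugates ψ' of ψ; (d − δ)^2 + (r − 1) d^2 + Σ_{χ ∈ X} a_χ^2 = m + 1; all members of Y agree on p-regular elements; and (r d − δ) η(g) + Σ_{χ ∈ X} a_χ χ(g) = 0 for every η ∈ Y and every p-regular g. -/
theorem result {G : Type*} [Group G] [Finite G] (p : ℕ) [Fact p.Prime] (M : Ideal Cfsg.AlgInt) (hM : Cfsg.IsPModular p M) (P : Sylow p G) (hab : IsMulCommutative P) (hP1 : Nat.card P ≠ 1) (m : ℕ) (hm1 : 1 < m) (hm2 : m + 1 < Nat.card P) (hCN : (Subgroup.centralizer ((P : Subgroup G) : Set G)).relIndex (Subgroup.normalizer ((P : Subgroup G) : Set G)) = m) (hcyc : ∃ g : G, g ∈ Subgroup.normalizer ((P : Subgroup G) : Set G) ∧ Subgroup.centralizer ((P : Subgroup G) : Set G) ⊔ Subgroup.zpowers g = Subgroup.normalizer ((P : Subgroup G) : Set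 G)) (hfrob : ∀ y : G, y ∈ (P : Subgroup G) → y ≠ 1 → Subgroup.centralizer ({y} : Set G) ⊓ Subgroup.normalizer ((P : Subgroup G) : Set G) = Subgroup.centralizer ((P : Subgroup G) : Set G)) : ∃ (s : ℕ) (X Y : Set (Cfsg.IrrCharacter G)), s ≤ m ∧ Cfsg.principalBlock M G = X ∪ Y ∧ Disjoint X Y ∧ Nat.card X = s ∧ Nat.card Y = (Nat.card P - 1) / m ∧ (∃ χ₁ ∈ X, (χ₁ : G → ℂ) = fun _ => 1) ∧ ∃ (a : Cfsg.IrrCharacter G → ℤ) (d δ : ℤ) (ζ : (↥(P : Subgroup G) →* ℂˣ) → Cfsg.IrrCharacter G), (δ = 1 ∨ δ = -1) ∧ (∀ χ ∈ X, a χ ≠ 0 ∧ ∀ z y : G, Cfsg.IsPPart p z y → y ∈ (P : Subgroup G) → y ≠ 1 → (χ : G → ℂ) z = (a χ : ℂ)) ∧ (∀ ψ : ↥(P : Subgroup G) →* ℂˣ, ψ ≠ 1 → ζ ψ ∈ Y) ∧ (∀ η ∈ Y, ∃ ψ : ↥(P : Subgroup G) →* ℂˣ, ψ ≠ 1 ∧ ζ ψ = η) ∧ (∀ ψ ψ' : ↥(P : Subgroup G) →* ℂˣ, ψ ≠ 1 → (∃ n : G, n ∈ Subgroup.normalizer ((P : Subgroup G) : Set G) ∧ ∀ w w' : ↥(P : Subgroup G), (w' : G) = n * w * n⁻¹ → ψ' w' = ψ w) → ζ ψ' =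 ζ ψ) ∧ (∀ ψ : ↥(P : Subgroup G) →* ℂˣ, ψ ≠ 1 → ∀ (z : G) (y : ↥(P : Subgroup G)), Cfsg.IsPPart p z (y : G) → (y : G) ≠ 1 → (ζ ψ : G → ℂ) z = (d : ℂ) + (δ : ℂ) * ∑ᶠ ψ' ∈ {ψ' : ↥(P : Subgroup G) →* ℂˣ | ∃ n : G, n ∈ Subgroup.normalizer ((P : Subgroup G) : Set G) ∧ ∀ w w' : ↥(P : Subgroup G), (w' : G) = n * w * n⁻¹ → ψ' w' = ψ w}, ((ψ' y : ℂˣ) : ℂ)) ∧ ((d - δ) ^ 2 + ((Nat.card P - 1) / m - 1 : ℤ) * d ^ 2 + ∑ᶠ χ ∈ X, a χ ^ 2 = (m : ℤ) + 1) ∧ (∀ η ∈ Y, ∀ η' ∈ Y, ∀ g : G, ¬ p ∣ orderOf g → (η : G → ℂ) g = (η' : G → ℂ) g) ∧ (∀ η ∈ Y, ∀ g : G, ¬ p ∣ orderOf g → ((((Nat.card P - 1) / m : ℕ) : ℂ) * d - δ) * (η : G → ℂ) g + ∑ᶠ χ ∈ X, (a χ : ℂ) * (χ : G → ℂ) g = 0) := by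
  classical
  haveI := hab
  cases nonempty_fintype G
  haveI := Cfsg.Agent.Block.lin_finite (H := (P : Subgroup G))
  cases nonempty_fintype (↥(P : Subgroup G) →* ℂˣ)
  have hF : Cfsg.Agent.Block.FreeNormalizer P := fun y hy hy1 => by
    rw [inf_comm]; exact hfrob y hy hy1
  choose A hA using fun (ψ : (P : Subgroup G) →* ℂˣ) (χ : IrrCharacter G) =>
    Cfsg.Agent.Block.linCoef_int (P := P) χ ψ
  set S := Finset.univ.filter (fun χ : IrrCharacter G => χ ∈ principalBlock M G) with hSdef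
  have hmem : ∀ χ, χ ∈ S ↔ χ ∈ principalBlock M G := fun χ => by simp [hSdef]
  set T := Finset.univ.erase (1 : (P : Subgroup G) →* ℂˣ) with hTdef
  have hT : T.card = Nat.card (P : Subgroup G) - 1 := by
    rw [Finset.card_erase_of_mem (Finset.mem_univ _), Finset.card_univ,
      ← Nat.card_eq_fintype_card, CommGroup.card_monoidHom_of_hasEnoughRootsOfUnity]
  obtain ⟨ψ₀, hψ₀T⟩ : T.Nonempty := Finset.card_pos.1 (by
    have : m + 1 < Nat.card (P : Subgroup G) := hm2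
    omega)
  have hψ₀ : ψ₀ ≠ 1 := Finset.ne_of_mem_erase hψ₀T
  have hex : ∃ i j : {ψ : (P : Subgroup G) →* ℂˣ // ψ ≠ 1},
      ¬ Cfsg.Agent.Block.NOrbit (P : Subgroup G) i.1 j.1 := by
    obtain ⟨φ, hφ, hφ'⟩ := Finset.exists_mem_notMem_of_card_lt_card
      (s := Finset.univ.filter fun ψ => Cfsg.Agent.Block.NOrbit (P : Subgroup G) ψ ψ₀) (t := T) (by
        rw [hF.card_orbit hCN hψ₀, hT]
        have : m + 1 < Nat.card (P : Subgroup G) := hm2
        omega)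
    exact ⟨⟨φ, Finset.ne_of_mem_erase hφ⟩, ⟨ψ₀, hψ₀⟩, fun h => hφ' (by simpa using h)⟩
  obtain ⟨W, δ, c, η₀, hδ, hη, hR, hnorm⟩ :=
    Cfsg.Agent.Block.free_core (Ψ := {ψ : (P : Subgroup G) →* ℂˣ // ψ ≠ 1}) S
      (fun i j => Cfsg.Agent.Block.NOrbit (P : Subgroup G) i.1 j.1)
      (fun i => Cfsg.Agent.Block.nOrbit_refl _ i.1) (fun i χ => A i.1 χ)
      (fun χ => charDegree (χ : G → ℂ)) (fun χ => Cfsg.Agent.Block.charDeg_pos χ) (m : ℤ)
      (fun i j => by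
        have h := Cfsg.Agent.Block.linCoef_gram_free hM hF hCN i.2 j.2
        simp only [hA, map_intCast, Cfsg.Agent.Block.finsum_mem_block] at h
        split_ifs at h ⊢ <;> (push_cast at h ⊢; exact_mod_cast h))
      (fun i => by
        have h := Cfsg.Agent.Block.linCoef_deg (P := P) hM i.1
        simp only [hA, Cfsg.Agent.Block.charDeg_spec', Cfsg.Agent.Block.finsum_mem_block] at h
        rw [Finset.sum_congr rfl fun (χ : IrrCharacter G) _ =>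
          mul_comm ((charDegree (χ : G → ℂ) : ℕ) : ℤ) (A i.1 χ)]
        exact_mod_cast h) hex
  set o := Cfsg.Agent.Block.trivialIrr G with ho
  let η : (↥(P : Subgroup G) →* ℂˣ) → IrrCharacter G := fun ψ =>
    if h : ψ ≠ 1 then η₀ ⟨ψ, h⟩ else o
  have hηe : ∀ ψ (h : ψ ≠ 1), η ψ = η₀ ⟨ψ, h⟩ := fun ψ h => dif_pos h
  have hAW : ∀ ψ, ψ ≠ 1 → ∀ χ ∈ S, A ψ χ = W χ + if χ = η ψ then δ else 0 := fun ψ h χ hχ => by
    rw [hηe ψ h]; exact (hη ⟨ψ, h⟩).2.2 χ hχ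
  have hηS : ∀ ψ, ψ ≠ 1 → η ψ ∈ S ∧ W (η ψ) = c := fun ψ h => by
    rw [hηe ψ h]; exact ⟨(hη ⟨ψ, h⟩).1, (hη ⟨ψ, h⟩).2.1⟩
  have hRη : ∀ ψ φ, ψ ≠ 1 → φ ≠ 1 →
      (Cfsg.Agent.Block.NOrbit (P : Subgroup G) ψ φ ↔ η ψ = η φ) := fun ψ φ hψ hφ => by
    rw [hηe ψ hψ, hηe φ hφ]; exact hR ⟨ψ, hψ⟩ ⟨φ, hφ⟩
  have horbne : ∀ ψ φ, φ ≠ 1 → Cfsg.Agent.Block.NOrbit (P : Subgroup G) ψ φ → ψ ≠ 1 := by
    rintro ψ φ hφ ⟨n, rfl⟩
    exact Cfsg.Agent.Block.conjLin_ne_one _ n hφ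
  set YF : Finset (IrrCharacter G) := T.image η with hYF
  set XF : Finset (IrrCharacter G) := S \ YF with hXF
  have hYS : YF ⊆ S := fun χ hχ => by
    obtain ⟨ψ, hψ, rfl⟩ := Finset.mem_image.1 hχ
    exact (hηS ψ (Finset.ne_of_mem_erase hψ)).1
  have hfib : ∀ ψ, ψ ≠ 1 → T.filter (fun φ => η φ = η ψ) =
      Finset.univ.filter fun φ => Cfsg.Agent.Block.NOrbit (P : Subgroup G) φ ψ := fun ψ hψ => by
    ext φ
    simp only [Finset.mem_filter, hTdef, Finset.mem_erase, Finset.mem_univ, and_true, true_and]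
    exact ⟨fun h => (hRη φ ψ h.1 hψ).2 h.2, fun h =>
      ⟨horbne φ ψ hψ h, (hRη φ ψ (horbne φ ψ hψ h) hψ).1 h⟩⟩
  have hYc : Nat.card (P : Subgroup G) - 1 = YF.card * m := by
    rw [← hT, Finset.card_eq_sum_card_image η T, ← hYF, Finset.sum_congr rfl (g := fun _ => m),
      Finset.sum_const, smul_eq_mul]
    intro χ hχ
    obtain ⟨ψ, hψ, rfl⟩ := Finset.mem_image.1 hχ
    rw [hfib ψ (Finset.ne_of_mem_erase hψ)]
    convert hF.card_orbit hCN (Finset.ne_of_mem_erase hψ)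
  have hr : (Nat.card P - 1) / m = YF.card := by
    show (Nat.card (P : Subgroup G) - 1) / m = _
    rw [hYc, Nat.mul_div_cancel _ (by omega)]
  have hYpos : 0 < YF.card := Finset.card_pos.2 ⟨η ψ₀, Finset.mem_image_of_mem η hψ₀T⟩
  have hYW : ∀ χ ∈ YF, W χ = c := fun χ hχ => by
    obtain ⟨ψ, hψ, rfl⟩ := Finset.mem_image.1 hχ
    exact (hηS ψ (Finset.ne_of_mem_erase hψ)).2
  have hAX : ∀ ψ, ψ ≠ 1 → ∀ χ ∈ XF, A ψ χ = W χ := fun ψ hψ χ hχ => by
    obtain ⟨hχS, hχY⟩ := Finset.mem_sdiff.1 hχ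
    rw [hAW ψ hψ χ hχS, if_neg, add_zero]
    intro h
    exact hχY (h ▸ Finset.mem_image_of_mem η (Finset.mem_erase.2 ⟨hψ, Finset.mem_univ _⟩))
  have hW0 : ∀ χ ∈ XF, W χ ≠ 0 := fun χ hχ h => by
    obtain ⟨ψ, hψ, h'⟩ := Cfsg.Agent.Block.exists_linCoef_ne_zero hM hP1
      ((hmem χ).1 (Finset.mem_sdiff.1 hχ).1)
    rw [hA, hAX ψ hψ χ hχ, h, Int.cast_zero] at h'
    exact h' rfl
  have hoX : o ∈ XF := by
    refine Finset.mem_sdiff.2
      ⟨(hmem o).2 (Cfsg.Agent.Block.trivial_mem_principalBlock hM), fun hoY => ?_⟩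
    obtain ⟨ψ, hψ, hψo⟩ := Finset.mem_image.1 hoY
    obtain ⟨i, j, hij⟩ := hex
    have hval : ∀ φ, φ ≠ 1 → A φ o = -1 := fun φ hφ => by
      have h := hA φ o
      rw [Cfsg.Agent.Block.linCoef_trivial hφ] at h
      exact_mod_cast h.symm
    have hψ1 := Finset.ne_of_mem_erase hψ
    have hoS := (hmem o).2 (Cfsg.Agent.Block.trivial_mem_principalBlock (G := G) hM)
    have key : ∀ k : {φ : (P : Subgroup G) →* ℂˣ // φ ≠ 1},
        Cfsg.Agent.Block.NOrbit (P : Subgroup G) k.1 ψ := fun k => by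
      by_contra hk
      have e1 := hAW k.1 k.2 o hoS
      have e2 := hAW ψ hψ1 o hoS
      rw [hval _ k.2, if_neg fun h => hk ((hRη k.1 ψ k.2 hψ1).2 (h.symm.trans hψo.symm))] at e1
      rw [hval _ hψ1, if_pos hψo.symm] at e2
      rcases hδ with rfl | rfl <;> omega
    exact hij ((hRη _ _ i.2 j.2).2 (((hRη _ _ i.2 hψ1).1 (key i)).trans
      ((hRη _ _ j.2 hψ1).1 (key j)).symm))
  have hsplit : ∀ f : IrrCharacter G → ℂ,
      ∑ χ ∈ S, f χ = ∑ χ ∈ XF, f χ + ∑ χ ∈ YF, f χ :=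
    fun f => (Finset.sum_sdiff hYS).symm
  have hnorm' : ∑ χ ∈ XF, W χ ^ 2 + (YF.card : ℤ) * c ^ 2 + 2 * δ * c = m := by
    rw [← hnorm, ← Finset.sum_sdiff hYS, ← hXF, Finset.sum_congr rfl (s₁ := YF)
      (g := fun _ => c ^ 2) (fun χ hχ => by rw [hYW χ hχ]), Finset.sum_const, nsmul_eq_mul]
  have hsection : ∀ χ ∈ Cfsg.principalBlock M G, ∀ z y : G, Cfsg.IsPPart p z y →
      y ∈ (P : Subgroup G) → y ≠ 1 → (χ : G → ℂ) z = (χ : G → ℂ) y := by
    intro χ hχ z y hzy hy hy1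
    obtain ⟨v, rfl, hcomm, hyp, hv⟩ := hzy
    obtain ⟨K, k, hKn, hK, hidx, -, -⟩ :=
      Cfsg.Agent.Block.abelian_centralizer_complement P hy (hF y hy hy1).le
    haveI := hKn
    let v' : Subgroup.centralizer ({y} : Set G) :=
      ⟨v, Subgroup.mem_centralizer_singleton_iff.2 hcomm.symm.eq⟩
    have hv' : ¬ p ∣ orderOf v' := by rwa [← Subgroup.orderOf_coe]
    exact Cfsg.Agent.Block.principal_section_const hM hyp hK hv'
      (Cfsg.Agent.Block.regular_mem_of_index_pPow hidx hv') hχ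
  have hval : ∀ χ ∈ S, ∀ y : (P : Subgroup G), y ≠ 1 → (χ : G → ℂ) y =
      -(W χ : ℂ) + (δ : ℂ) * ∑ φ ∈ T.filter (fun φ => η φ = χ), ((φ y : ℂˣ) : ℂ) := by
    intro χ hχ y hy
    rw [Cfsg.Agent.Block.value_eq_linCoef χ hy,
      ← Finset.add_sum_erase _ _ (Finset.mem_univ (1 : (P : Subgroup G) →* ℂˣ)),
      Cfsg.Agent.Block.linCoef_one, zero_mul, zero_add, ← hTdef]
    have hsum1 : ∑ φ ∈ T, ((φ y : ℂˣ) : ℂ) = -1 := by
      have h := Cfsg.Agent.Block.lin_sum_hom (H := (P : Subgroup G)) y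
      rw [if_neg hy, ← Finset.add_sum_erase _ _ (Finset.mem_univ (1 : (P : Subgroup G) →* ℂˣ)),
        ← hTdef] at h
      simp only [MonoidHom.one_apply, Units.val_one] at h
      linear_combination h
    rw [Finset.sum_congr rfl (g := fun φ => (W χ : ℂ) * ((φ y : ℂˣ) : ℂ) +
      (δ : ℂ) * if η φ = χ then ((φ y : ℂˣ) : ℂ) else 0) fun φ hφ => by
        rw [hA, hAW φ (Finset.ne_of_mem_erase hφ) χ hχ]
        by_cases h : η φ = χ
        · rw [if_pos h, if_pos h.symm]; push_cast; ring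
        · rw [if_neg h, if_neg fun h' => h h'.symm]; push_cast; ring,
      Finset.sum_add_distrib, ← Finset.mul_sum, hsum1, ← Finset.mul_sum, ← Finset.sum_filter]
    ring
  have hreg : ∀ ψ, ψ ≠ 1 → ∀ g : G, ¬ p ∣ orderOf g →
      ∑ χ ∈ S, (W χ : ℂ) * (χ : G → ℂ) g + (δ : ℂ) * (η ψ : G → ℂ) g = 0 := by
    intro ψ hψ g hg
    have h := Cfsg.Agent.Block.linCoef_orth (P := P) hM ψ (fun χ => (χ : G → ℂ) g) fun y hy => by
      have hy1 : (y : G) ≠ 1 := fun h => hy (by rw [Subtype.ext (a2 := (1 : (P : Subgroup G))) h, map_one])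
      have hyp := Cfsg.Agent.Block.pPow_of_mem P.isPGroup' y.2
      have hyi : ∃ k : ℕ, orderOf (y : G)⁻¹ = p ^ k := by
        obtain ⟨k, hk⟩ := hyp; exact ⟨k, by rw [orderOf_inv, hk]⟩
      have h := Cfsg.Agent.Block.section_orth hM (g := g) (h := ((y : G)⁻¹)) (x := 1)
        (z := ((y : G)⁻¹)) ⟨g, one_mul g, Commute.one_left g, ⟨0, by rw [orderOf_one, pow_zero]⟩, hg⟩
        (Cfsg.Agent.Block.isPPart_self_of_pPow hyi)
        (fun hc => hy1 (inv_eq_one.1 (isConj_one_right.1 hc)))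
        (Cfsg.Agent.Block.isPBlock_principalBlock (G := G) (M := M))
      simpa only [inv_inv] using h
    simp only [hA, Cfsg.Agent.Block.finsum_mem_block, ← hSdef] at h
    rw [← h, Finset.sum_congr rfl (g := fun χ => (A ψ χ : ℂ) * (χ : G → ℂ) g)
        (f := fun χ => (A ψ χ : ℂ) * (χ : G → ℂ) g) fun χ _ => rfl,
      Finset.sum_congr rfl (g := fun χ => (W χ : ℂ) * (χ : G → ℂ) g +
        if χ = η ψ then (δ : ℂ) * (χ : G → ℂ) g else 0)
        (f := fun χ => (A ψ χ : ℂ) * (χ : G → ℂ) g) fun χ hχ => by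
          rw [hAW ψ hψ χ hχ]
          split_ifs <;> push_cast <;> ring,
      Finset.sum_add_distrib, Finset.sum_ite_eq' S, if_pos (hηS ψ hψ).1]
  have hδC : (δ : ℂ) ≠ 0 := by rcases hδ with rfl | rfl <;> norm_num
  have hconst : ∀ η₁ ∈ YF, ∀ η₂ ∈ YF, ∀ g : G, ¬ p ∣ orderOf g →
      (η₁ : G → ℂ) g = (η₂ : G → ℂ) g := by
    intro η₁ h1 η₂ h2 g hg
    obtain ⟨ψ, hψ, rfl⟩ := Finset.mem_image.1 h1
    obtain ⟨φ, hφ, rfl⟩ := Finset.mem_image.1 h2
    exact mul_left_cancel₀ hδC (add_left_cancel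
      ((hreg ψ (Finset.ne_of_mem_erase hψ) g hg).trans
        (hreg φ (Finset.ne_of_mem_erase hφ) g hg).symm))
  refine ⟨XF.card, (XF : Set (IrrCharacter G)), (YF : Set (IrrCharacter G)), ?_, ?_, ?_, ?_, ?_,
    ⟨o, hoX, rfl⟩, fun χ => -W χ, -c, δ, η, hδ, ?_, ?_, ?_, ?_, ?_, ?_, ?_, ?_⟩
  · have h1 : (XF.card : ℤ) ≤ ∑ χ ∈ XF, W χ ^ 2 := by
      have h := Finset.card_nsmul_le_sum XF (fun χ => W χ ^ 2) 1 fun χ hχ => by
        have := hW0 χ hχ
        have : 0 < W χ ^ 2 := by positivity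
        omega
      simpa using h
    have hY2 : (2 : ℤ) ≤ YF.card := by
      have : m + 1 < Nat.card (P : Subgroup G) := hm2
      have : 1 < YF.card := by
        by_contra hc
        have : YF.card = 1 := by omega
        rw [this, one_mul] at hYc
        omega
      exact_mod_cast this
    have h3 : (0 : ℤ) ≤ (YF.card : ℤ) * c ^ 2 + 2 * δ * c := by
      have : 0 ≤ c ^ 2 := sq_nonneg c
      rcases eq_or_ne c 0 with rfl | hc
      · simp
      · have : 0 < c ^ 2 := by positivity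
        have h4 : (2 : ℤ) * c ^ 2 ≤ YF.card * c ^ 2 := mul_le_mul_of_nonneg_right hY2 (by omega)
        rcases hδ with rfl | rfl <;> rcases lt_or_gt_of_ne hc with h | h <;> nlinarith
    omega
  · ext χ
    simp only [Set.mem_union, Finset.mem_coe, hXF, Finset.mem_sdiff, hmem]
    constructor
    · intro h
      by_cases hY : χ ∈ YF
      · exact .inr hY
      · exact .inl ⟨h, hY⟩
    · rintro (h | h)
      · exact h.1
      · exact (hmem χ).1 (hYS h)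
  · rw [Finset.disjoint_coe]; exact Finset.sdiff_disjoint
  · simp
  · rw [hr]; simp
  · intro χ hχ
    refine ⟨neg_ne_zero.2 (hW0 χ hχ), fun z y hzy hy hy1 => ?_⟩
    have hχS := (Finset.mem_sdiff.1 hχ).1
    rw [hsection χ ((hmem χ).1 hχS) z y hzy hy hy1,
      show y = ((⟨y, hy⟩ : (P : Subgroup G)) : G) from rfl,
      hval χ hχS ⟨y, hy⟩ fun h => hy1 (congrArg Subtype.val h)]
    rw [Finset.filter_eq_empty_iff.2, Finset.sum_empty]
    · push_cast; ring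
    · intro φ hφ h
      exact (Finset.mem_sdiff.1 hχ).2 (h ▸ Finset.mem_image_of_mem η hφ)
  · exact fun ψ hψ => Finset.mem_image_of_mem η (Finset.mem_erase.2 ⟨hψ, Finset.mem_univ _⟩)
  · intro χ hχ
    obtain ⟨ψ, hψ, rfl⟩ := Finset.mem_image.1 hχ
    exact ⟨ψ, Finset.ne_of_mem_erase hψ, rfl⟩
  · intro ψ ψ' hψ h
    have ho' := (Cfsg.Agent.Block.nOrbit_iff _ ψ ψ').1 h
    exact (hRη ψ' ψ (horbne ψ' ψ hψ ho') hψ).1 ho'
  · intro ψ hψ z y hzy hy1
    have hS' := (hηS ψ hψ).1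
    rw [hsection _ ((hmem _).1 hS') z y hzy y.2 hy1,
      hval _ hS' y fun h => hy1 (congrArg Subtype.val h), (hηS ψ hψ).2, hfib ψ hψ]
    push_cast
    congr 1
    simp only [Cfsg.Agent.Block.nOrbit_iff]
    rw [finsum_mem_eq_sum_of_inter_support_eq]
    ext; simp
  · have hm0 : (m : ℤ) ≠ 0 := by omega
    have hq : ((Nat.card (P : Subgroup G) : ℤ) - 1) = (YF.card : ℤ) * m := by
      have h1 : 1 ≤ Nat.card (P : Subgroup G) := Nat.card_pos
      have h2 := congrArg (fun n : ℕ => (n : ℤ)) hYc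
      simp only [Nat.cast_sub h1, Nat.cast_mul, Nat.cast_one] at h2
      exact h2
    rw [hq, Int.mul_ediv_cancel _ hm0, finsum_mem_coe_finset]
    simp only [neg_sq]
    rcases hδ with rfl | rfl <;> linarith
  · exact hconst
  · intro χ hχ g hg
    obtain ⟨ψ, hψ, rfl⟩ := Finset.mem_image.1 hχ
    have h := hreg ψ (Finset.ne_of_mem_erase hψ) g hg
    rw [hsplit, Finset.sum_congr rfl (s₁ := YF) (g := fun _ => (c : ℂ) * (η ψ : G → ℂ) g)
      (fun η' hη' => by rw [hYW η' hη', hconst η' hη' (η ψ) (Finset.mem_image_of_mem η hψ) g hg]),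
      Finset.sum_const, nsmul_eq_mul] at h
    rw [finsum_mem_coe_finset, hr]
    push_cast
    simp only [neg_mul, Finset.sum_neg_distrib]
    linear_combination -h

end Cfsg.Agent.S4709
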