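import Cfsg.Statements.S4712
import Cfsg.Agent.Lib.Char.SectionTrace
import Cfsg.Agent.Lib.Char.GaloisOrbit
import Cfsg.Agent.Lib.Block.QuotientBlocks
import Mathlib.RingTheory.ZMod.UnitsCyclic

set_option autoImplicit false
open Cfsg

namespace Cfsg.Agent.S4712
open scoped ComplexConjugate
open Cfsg.Agent.Block Cfsg.Agent.Char.Decomp Cfsg.Agent.Char.SectionTrace Cfsg.Agent.Char.Spec Cfsg.Agent.Char.BP Cfsg.Agent.Char.Res
open Cfsg.Agent.Char.GaloisOrbit (ex ex_coprime ex_modEq ex_cast tw tw_apply tw_mul tw_one modEq_of pow_eq cop cop_mul coprime_cop neZero_pp)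

set_option linter.unusedSectionVars false
set_option linter.style.haveILetI false
set_option maxHeartbeats 1000000

universe u

variable {G : Type u} [Group G] [Fintype G] [DecidableEq G] {p : ℕ} [Fact p.Prime]

/-- Fixing a generator of the twists is fixing all of them. -/
theorem fixed_all [IsCyclic (ZMod (p ^ (Nat.card G).factorization p))ˣ]
    {j₀ : (ZMod (p ^ (Nat.card G).factorization p))ˣ} (hj₀ : ∀ u, u ∈ Subgroup.zpowers j₀)
    (χ : IrrCharacter G) (h : tw χ j₀ = χ) {k : ℕ} (hk : k.Coprime (Nat.card G))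
    (hk1 : k ≡ 1 [MOD Nat.card G / p ^ (Nat.card G).factorization p]) (g : G) :
    (χ : G → ℂ) (g ^ k) = (χ : G → ℂ) g := by
  haveI := neZero_pp (G := G) (p := p)
  have hko : k.Coprime (p ^ (Nat.card G).factorization p) :=
    hk.coprime_dvd_right (Nat.ordProj_dvd _ _)
  obtain ⟨n, hn⟩ := (isOfFinOrder_of_finite j₀).mem_powers_iff_mem_zpowers.2
    (hj₀ (ZMod.unitOfCoprime k hko))
  have hpow : ∀ n : ℕ, tw χ (j₀ ^ n) = χ := by
    intro n
    induction n with
    | zero => rw [pow_zero, tw_one]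
    | succ n ih => rw [pow_succ, ← tw_mul, ih, h]
  have h2 := congrArg (fun ψ : IrrCharacter G => (ψ : G → ℂ) g) (hpow n)
  simp only [tw_apply] at h2
  rw [← h2]
  refine congrArg (χ : G → ℂ) (pow_eq (modEq_of (p := p) _ _ (hk1.trans (ex_modEq _).symm) ?_) g)
  rw [ex_cast]
  simp only at hn
  rw [hn, ZMod.coe_unitOfCoprime]

/-- The classes lying in a block are as many as its regular rank. -/
theorem card_classes_block {M : Ideal AlgInt} (hM : IsPModular p M) {B : Set (IrrCharacter G)}
    (hB : IsPBlock M B) (Cl : Classes M G)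
    [DecidablePred fun c : Fin Cl.n => ∃ χ ∈ B, ev (χ : G → ℂ) (Cl.i c) ≠ 0] :
    (Finset.univ.filter fun c : Fin Cl.n => ∃ χ ∈ B, ev (χ : G → ℂ) (Cl.i c) ≠ 0).card =
      blockRank p B := by
  classical
  obtain ⟨D⟩ := exists_bdata hM hB
  choose f hf using fun t => Cl.cover _ (D.pr t)
  rw [D.rank]
  conv_rhs => rw [← Fintype.card_fin D.n, ← Finset.card_univ]
  symm
  refine Finset.card_bij (fun t _ => f t) (fun t _ => ?_) (fun a _ b _ hab => ?_) fun c hc => ?_
  · rw [Finset.mem_filter]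
    refine ⟨Finset.mem_univ _, ?_⟩
    obtain ⟨χ, hχ⟩ : ∃ χ, D.N χ t ≠ 0 := by
      by_contra hn
      push Not at hn
      have := D.dual t t
      simp [hn] at this
    refine ⟨χ, by_contra fun h => hχ (D.supp χ h t), ?_⟩
    rw [← Eqv.ev_eq hM (D.pr t) (Cl.pr _) (hf t) (irr_classFun χ), D.val]
    exact_mod_cast hχ
  · by_contra hne
    have hb := hf b
    rw [← show f a = f b from hab] at hb
    exact D.ne a b hne (Eqv.trans hM (Cl.pr _) (hf a) (Eqv.symm hM (D.pr b) (Cl.pr _) hb))
  · obtain ⟨-, χ, hχ, hne⟩ := Finset.mem_filter.1 hc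
    have hb : bz B * Cl.i c = Cl.i c := (bz_dichotomy hM hB (Cl.pr c)).resolve_right fun h0 => hne (by
      have h1 := ev_bz (B := B) χ (Cl.i c)
      rw [if_pos hχ, h0, Cfsg.Agent.Char.Spec.ev_zero] at h1
      exact h1.symm)
    obtain ⟨t, ht⟩ := D.cover _ (Cl.pr c) hb
    refine ⟨t, Finset.mem_univ _, by_contra fun hne' => ?_⟩
    exact Cl.ne _ _ hne' (Eqv.trans hM (D.pr t) (Eqv.symm hM (D.pr t) (Cl.pr _) (hf t))
      (Eqv.symm hM (Cl.pr c) (D.pr t) ht))

theorem main (p : ℕ) [Fact p.Prime] (hodd : p ≠ 2) (M : Ideal AlgInt) (hM : IsPModular p M)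
    (B : Set (IrrCharacter G)) (hB : IsPBlock M B) :
    blockRank p B ≤ Nat.card {χ : IrrCharacter G // χ ∈ B ∧ ∀ k : ℕ, Nat.Coprime k (Nat.card G) →
      k ≡ 1 [MOD Nat.card G / p ^ (Nat.card G).factorization p] →
      ∀ g : G, (χ : G → ℂ) (g ^ k) = (χ : G → ℂ) g} := by
  classical
  have hp : p.Prime := Fact.out
  haveI := neZero_pp (G := G) (p := p)
  haveI : IsCyclic (ZMod (p ^ (Nat.card G).factorization p))ˣ :=
    ZMod.isCyclic_units_of_prime_pow p hp hodd _
  obtain ⟨j₀, hj₀⟩ := IsCyclic.exists_generator (α := (ZMod (p ^ (Nat.card G).factorization p))ˣ)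
  set k := ex (G := G) (p := p) j₀ with hk
  have hkc : k.Coprime (Nat.card G) := ex_coprime _
  set Fx := Finset.univ.filter (fun χ : IrrCharacter G => χ ∈ B ∧ tw χ j₀ = χ) with hFx
  suffices h : blockRank p B ≤ Fx.card by
    refine h.trans ?_
    rw [Nat.card_eq_fintype_card, Fintype.card_subtype]
    refine Finset.card_le_card fun χ hχ => ?_
    simp only [hFx, Finset.mem_filter, Finset.mem_univ, true_and] at hχ ⊢
    exact ⟨hχ.1, fun k' hk' hk1 g => fixed_all hj₀ χ hχ.2 hk' hk1 g⟩
  set S : G → ℂ := fun g =>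
    ∑ χ ∈ Finset.univ.filter (· ∈ B), (χ : G → ℂ) (g ^ k) * conj ((χ : G → ℂ) g) with hS
  have htot : ∑ g : G, S g = (Nat.card G : ℂ) * (Fx.card : ℂ) := by
    simp only [hS]
    rw [Finset.sum_comm, show (Fx.card : ℂ) = ∑ χ ∈ Finset.univ.filter (· ∈ B),
      if tw χ j₀ = χ then (1 : ℂ) else 0 by
        rw [Finset.sum_ite, Finset.sum_const_zero, add_zero, Finset.sum_const, nsmul_eq_mul,
          mul_one, Finset.filter_filter, hFx], Finset.mul_sum]
    refine Finset.sum_congr rfl fun χ _ => ?_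
    have h1 := Cfsg.Agent.Char.classInner_irr_eq_ite (tw χ j₀).2 χ.2
    rw [classInner, inv_mul_eq_iff_eq_mul₀ (Nat.cast_ne_zero.2 Nat.card_pos.ne')] at h1
    simp only [tw_apply, ← hk] at h1
    rw [h1]
    congr 1
    exact if_congr Subtype.ext_iff.symm rfl rfl
  choose pp vv hpp using fun g : G => exists_pPart_zpowers (p := p) g
  have hpart : ∀ g, IsPPart p g (pp g) := fun g =>
    ⟨vv g, (hpp g).1, (hpp g).2.1, (hpp g).2.2.1, (hpp g).2.2.2.1⟩
  have hfib : ∀ g x, pp g = x ↔ IsPPart p g x := fun g x =>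
    ⟨fun h => h ▸ hpart g, fun h => pPart_unique (hpart g) h⟩
  have hreg : ∀ v : G, ¬ p ∣ orderOf v → v ^ k = v := by
    intro v hv
    conv_rhs => rw [← pow_one v]
    refine pow_eq_pow_iff_modEq.2 ((ex_modEq (G := G) (p := p) j₀).of_dvd ?_)
    refine Nat.Coprime.dvd_of_dvd_mul_left ?_ ((cop_mul G p).symm ▸ orderOf_dvd_natCard v)
    exact ((Nat.Prime.coprime_iff_not_dvd hp).2 hv).symm.pow_right _
  have hsec : ∀ x ∈ Finset.univ.image pp,
      ∃ n : ℕ, ∑ g ∈ Finset.univ.filter (fun g => pp g = x), S g = (n : ℂ) := by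
    intro x hx
    obtain ⟨g₀, -, hg₀⟩ := Finset.mem_image.1 hx
    obtain ⟨j, hj⟩ := (hg₀ ▸ (hpp g₀).2.2.1 : ∃ j, orderOf x = p ^ j)
    have hxc : (orderOf x).Coprime k := (hkc.coprime_dvd_right (orderOf_dvd_natCard x)).symm
    by_cases hcj : IsConj x (x ^ k)
    · obtain ⟨s, hs⟩ := isConj_iff.1 hcj
      set C := Subgroup.centralizer ({x} : Set G) with hC
      haveI : Fintype C := Fintype.ofFinite C
      obtain ⟨m, hm⟩ := exists_pow_eq_self_of_coprime hxc.symm
      have hmem : ∀ v : C, s⁻¹ * (v : G) * s ∈ C := fun v => Subgroup.mem_centralizer_singleton_iff.2 <| by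
        have hv : Commute (v : G) x := Subgroup.mem_centralizer_singleton_iff.1 v.2
        have h1 : (v : G) * (s * x * s⁻¹) = s * x * s⁻¹ * v := by rw [hs]; exact hv.pow_right k
        calc s⁻¹ * (v : G) * s * x = s⁻¹ * ((v : G) * (s * x * s⁻¹)) * s := by group
          _ = x * (s⁻¹ * (v : G) * s) := by rw [h1]; group
      let τ : C →* C :=
        { toFun := fun v => ⟨s⁻¹ * (v : G) * s, hmem v⟩
          map_one' := Subtype.ext (by simp)
          map_mul' := fun a b => Subtype.ext (by simp only [Subgroup.coe_mul]; group) }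
      obtain ⟨Cl⟩ := exists_classes (G := C) hM
      obtain ⟨φ, hgen, hval, -, hdual⟩ := Cl.exists_brauer hM
      obtain ⟨cnt, hcnt⟩ := exists_act hM Cl τ
      have hφ : ∀ c, IsClassFunction C (φ c) := fun c => by
        obtain ⟨a, b, ha, hb, he⟩ := hgen c
        rw [he]
        exact Cfsg.Agent.Char.classFunction_sub (Cfsg.Agent.Char.IsChar.classFun ha)
          (Cfsg.Agent.Char.IsChar.classFun hb)
      have hτo : ∀ v : C, orderOf (τ v) = orderOf v := fun v =>
        orderOf_injective τ (fun a b h => by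
          have := congrArg Subtype.val h
          exact Subtype.ext (mul_left_cancel (mul_right_cancel this))) v
      have h := trace_eq (B := B) (x := x) (ι := C.subtype) hM Cl hφ hval hdual Subtype.coe_injective
        (fun t => ⟨fun ⟨c, hc⟩ => hc ▸ (Subgroup.mem_centralizer_singleton_iff.1 c.2).symm,
          fun h => ⟨⟨t, Subgroup.mem_centralizer_singleton_iff.2 h.symm⟩, rfl⟩⟩) hj
        (fun c χ ψ h1 h2 h3 => unique_block hM ⟨j, hj⟩ hB (Cl.pr c) χ ψ h1 h2 h3) τ
        (fun v hv => by rwa [hτo]) (fun f hf v t => by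
          show f (τ (t * v * t⁻¹)) = f (τ v)
          rw [map_mul, map_mul, map_inv]
          exact hf _ _) hcnt
      refine ⟨Nat.card C * ∑ c ∈ Finset.univ.filter
        (fun c => ∃ χ ∈ B, ev (sec x C.subtype χ) (Cl.i c) ≠ 0), cnt c c, ?_⟩
      rw [Nat.cast_mul, ← h]
      symm
      refine Finset.sum_bij (fun (v : C) _ => x * (v : G)) (fun v hv => ?_)
        (fun a _ b _ hab => Subtype.ext (mul_left_cancel hab)) (fun g hg => ?_) fun v hv => ?_
      · rw [Finset.mem_filter] at hv ⊢
        refine ⟨Finset.mem_univ _, (hfib _ _).2 ⟨v, rfl,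
          (Subgroup.mem_centralizer_singleton_iff.1 v.2).symm, ⟨j, hj⟩, ?_⟩⟩
        rw [Subgroup.orderOf_coe]
        exact hv.2
      · obtain ⟨y, hy, hxy, -, hyo⟩ := (hfib g x).1 (Finset.mem_filter.1 hg).2
        exact ⟨⟨y, Subgroup.mem_centralizer_singleton_iff.2 hxy.eq.symm⟩,
          Finset.mem_filter.2 ⟨Finset.mem_univ _, by rwa [← Subgroup.orderOf_coe]⟩, hy⟩
      · simp only [hS, sec]
        refine Finset.sum_congr rfl fun χ _ => ?_
        congr 1
        have hvc : Commute x (v : G) := (Subgroup.mem_centralizer_singleton_iff.1 v.2).symm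
        rw [hvc.mul_pow, hreg (v : G) (by rw [Subgroup.orderOf_coe]; exact (Finset.mem_filter.1 hv).2), ← hs,
          ← irr_classFun χ (x * C.subtype (τ v)) s]
        refine congrArg (χ : G → ℂ) ?_
        show s * (x * (s⁻¹ * (v : G) * s)) * s⁻¹ = _
        group
    · refine ⟨0, ?_⟩
      rw [Nat.cast_zero]
      refine Finset.sum_eq_zero fun g hg => ?_
      obtain ⟨y, hy, hxy, -, hyo⟩ := (hfib g x).1 (Finset.mem_filter.1 hg).2
      have hgk : IsPPart p (g ^ k) (x ^ k) :=
        ⟨y ^ k, by rw [← hxy.mul_pow, hy], hxy.pow_pow _ _,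
          ⟨j, by rw [hxc.orderOf_pow, hj]⟩, by rwa [hreg y hyo]⟩
      have h := section_orth hM hgk ((hfib g x).1 (Finset.mem_filter.1 hg).2)
        (fun hc => hcj hc.symm) hB
      rw [finsum_mem_block] at h
      simp only [hS]
      rw [← h]
      exact Finset.sum_congr rfl fun χ _ => by rw [irr_apply_inv]
  choose n hn using hsec
  have h1mem : (1 : G) ∈ Finset.univ.image pp := Finset.mem_image.2
    ⟨1, Finset.mem_univ _, (hfib 1 1).2 ⟨1, one_mul 1, Commute.one_left 1, ⟨0, by simp⟩, by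
      simpa using hp.ne_one⟩⟩
  have hn1 : ∑ g ∈ Finset.univ.filter (fun g => pp g = 1), S g =
      ((Nat.card G * blockRank p B : ℕ) : ℂ) := by
    obtain ⟨Cl⟩ := exists_classes (G := G) hM
    obtain ⟨φ, hgen, hval, -, hdual⟩ := Cl.exists_brauer hM
    have hφ : ∀ c, IsClassFunction G (φ c) := fun c => by
      obtain ⟨a, b, ha, hb, he⟩ := hgen c
      rw [he]
      exact Cfsg.Agent.Char.classFunction_sub (Cfsg.Agent.Char.IsChar.classFun ha)
        (Cfsg.Agent.Char.IsChar.classFun hb)
    have hsid : ∀ χ : IrrCharacter G, sec (1 : G) (MonoidHom.id G) χ = (χ : G → ℂ) := fun χ =>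
      funext fun v => by simp [sec]
    have h := trace_eq (B := B) (x := (1 : G)) (ι := MonoidHom.id G) hM Cl hφ hval hdual
      Function.injective_id (fun t => ⟨fun _ => Commute.one_left t, fun _ => ⟨t, rfl⟩⟩) (j := 0)
      (by simp) (fun c χ ψ h1 h2 h3 => by
        rw [hsid] at h1 h2
        by_contra hχ
        rcases bz_dichotomy hM hB (Cl.pr c) with h0 | h0
        · exact h1 (by rw [← h0, ev_bz, if_neg hχ])
        · refine h2 ?_
          have h4 := ev_bz (B := B) ψ (Cl.i c)
          rw [if_pos h3, h0, Cfsg.Agent.Char.Spec.ev_zero] at h4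
          exact h4.symm)
      (MonoidHom.id G) (fun v hv => hv) (fun f hf => hf) (cnt := fun d c => if d = c then 1 else 0)
      (fun d f _ => by simp)
    simp only [hsid, if_true, Finset.sum_const, smul_eq_mul, mul_one, MonoidHom.id_apply] at h
    rw [card_classes_block hM hB Cl] at h
    rw [Nat.cast_mul, ← h]
    refine Finset.sum_congr (Finset.ext fun g => ?_) fun g hg => ?_
    · simp only [Finset.mem_filter, Finset.mem_univ, true_and, hfib]
      refine ⟨fun ⟨y, hy, _, _, hyo⟩ => ?_, fun hg => ⟨g, one_mul g, Commute.one_left g, ⟨0, by simp⟩, hg⟩⟩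
      rw [one_mul] at hy
      exact hy ▸ hyo
    · simp only [Finset.mem_filter, Finset.mem_univ, true_and] at hg
      simp only [hS, hreg g hg]
  rw [← Finset.sum_fiberwise_of_maps_to (t := Finset.univ.image pp) (g := pp)
    (fun g hg => Finset.mem_image_of_mem _ hg),
    ← Finset.add_sum_erase _ _ h1mem, hn1, ← Finset.sum_attach,
    Finset.sum_congr rfl fun x _ => hn x.1 (Finset.mem_of_mem_erase x.2)] at htot
  have h3 : Nat.card G * blockRank p B ≤ Nat.card G * Fx.card := by
    have h4 : Nat.card G * blockRank p B +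
        (∑ x ∈ ((Finset.univ.image pp).erase 1).attach, n x.1 (Finset.mem_of_mem_erase x.2)) =
        Nat.card G * Fx.card := by
      exact_mod_cast htot
    omega
  exact Nat.le_of_mul_le_mul_left h3 Nat.card_pos

/-- Let p be an odd prime, M a maximal ideal of the algebraic integers containing p, G a finite group of order n with p-part p^a, and B a p-block of G. Call an irreducible character χ p-rational when χ(g^k) = χ(g) for every g and every k coprime to n with k ≡ 1 modulo n/p^a (χ is fixed by the Galois automorphisms fixing the roots of unity of order prime to p). Then the number of p-rational irreducible characters in B is at least the p-regular rank of B (the number of irreducible Brauer characters in B). -/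
theorem result {G : Type*} [Group G] [Finite G] (p : ℕ) [Fact p.Prime] (hodd : p ≠ 2) (M : Ideal Cfsg.AlgInt) (hM : Cfsg.IsPModular p M) (B : Set (Cfsg.IrrCharacter G)) (hB : Cfsg.IsPBlock M B) : Cfsg.blockRank p B ≤ Nat.card {χ : Cfsg.IrrCharacter G // χ ∈ B ∧ ∀ k : ℕ, Nat.Coprime k (Nat.card G) → k ≡ 1 [MOD Nat.card G / p ^ (Nat.card G).factorization p] → ∀ g : G, (χ : G → ℂ) (g ^ k) = (χ : G → ℂ) g} := by
  classical
  cases nonempty_fintype G
  exact Cfsg.Agent.S4712.main p hodd M hM B hB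

end Cfsg.Agent.S4712
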