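import Cfsg.Statements.S4714
import Cfsg.Agent.Lib.Block.NilpotentBlock

set_option autoImplicit false
open Cfsg

namespace Cfsg.Agent.S4714
open Cfsg.Agent.Block

/-- Let p be a prime, M a maximal ideal of the algebraic integers containing p, D a p-subgroup of the finite group G with G = D·C_G(D), and B a p-block with defect group D. Let χ be a member of B having D in its kernel (there is exactly one, the canonical character of B). Then the irreducible characters in B are exactly the functions θ on G for which there is an irreducible character ζ of D such that θ(yx) = ζ(y)χ(x) whenever y ∈ D, x has order prime to p and x commutes with y, and θ(z) = 0 whenever the p-part of z does not lie in D. -/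
theorem result {G : Type*} [Group G] [Finite G] (p : ℕ) [Fact p.Prime] (M : Ideal Cfsg.AlgInt) (hM : Cfsg.IsPModular p M) (D : Subgroup G) (hD : IsPGroup p D) (hG : D ⊔ Subgroup.centralizer (D : Set G) = ⊤) (B : Set (Cfsg.IrrCharacter G)) (hB : Cfsg.IsPBlock M B) (hBD : Cfsg.IsDefectGroup p M B D) (χ : Cfsg.IrrCharacter G) (hχ : χ ∈ B) (hχD : ∀ y ∈ D, (χ : G → ℂ) y = (χ : G → ℂ) 1) : (∀ θ : Cfsg.IrrCharacter G, θ ∈ B ↔ ∃ ζ : Cfsg.IrrCharacter D, (∀ (y : D) (x : G), ¬ p ∣ orderOf x → Commute (y : G) x → (θ : G → ℂ) ((y : G) * x) = (ζ : D → ℂ) y * (χ : G → ℂ) x) ∧ (∀ z : G, (∀ y : G, Cfsg.IsPPart p z y → y ∉ D) → (θ : G → ℂ) z = 0)) ∧ ∀ ζ : Cfsg.IrrCharacter D, ∃ θ ∈ B, (∀ (y : D) (x : G), ¬ p ∣ orderOf x → Commute (y : G) x → (θ : G → ℂ) ((y : G) * x) = (ζ : D → ℂ) y * (χ : G → ℂ) x) ∧ (∀ z : G, (∀ y : G, Cfsg.IsPPart p z y → y ∉ D) → (θ : G → ℂ) z = 0) := by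
  classical
  cases nonempty_fintype G
  cases nonempty_fintype D
  haveI : D.Normal := Subgroup.normalizer_eq_top_iff.1
    (top_le_iff.1 (hG ▸ sup_le Subgroup.le_normalizer (Subgroup.centralizer_le_normalizer _)))
  obtain ⟨⟨θ₀, -, huniq⟩, -, hcard, hex, hreg⟩ := sup_centralizer_block_data hM hG hB hBD
  have hχeq : χ = θ₀ := huniq χ ⟨hχ, hχD⟩
  -- the member attached to `ζ`
  have hmk : ∀ ζ : IrrCharacter D, ∃ θ ∈ B,
      (∀ x : D, (θ : G → ℂ) x = (χ : G → ℂ) 1 * (ζ : D → ℂ) x) ∧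
      (∀ (y : D) (x : G), ¬ p ∣ orderOf x →
        (θ : G → ℂ) ((y : G) * x) = (ζ : D → ℂ) y * (χ : G → ℂ) x) := by
    intro ζ
    obtain ⟨η, hη, θ, hθ, hθk, hres, hdeg⟩ := hex ζ
    have hθχ : θ = χ := (huniq θ ⟨hθ, hθk⟩).trans hχeq.symm
    subst hθχ
    have hr : ∀ x : D, (η : G → ℂ) x = (θ : G → ℂ) 1 * (ζ : D → ℂ) x := fun x => by
      rw [hres x, hdeg, mul_div_cancel_right₀ _ (irr_one_ne_zero ζ)]
    refine ⟨η, hη, hr, fun y x hx => ?_⟩
    have hxC := regular_mem_centralizer hD hG hx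
    have h1 := char_mul_centralizer hG η y.2 hxC
    rw [hreg η hη θ hθ hθk x hx, hr y] at h1
    have hη1 := irr_one_ne_zero η
    have hθ1 := irr_one_ne_zero θ
    field_simp at h1
    exact h1
  choose E hEB hEres hEval using hmk
  have hvan : ∀ θ ∈ B, ∀ z : G, (∀ y : G, IsPPart p z y → y ∉ D) → (θ : G → ℂ) z = 0 := by
    intro θ hθ z hz
    obtain ⟨u', v', huv, hc', hk', hv', -, -⟩ := exists_pPart_zpowers (p := p) z
    have hu : IsPPart p z u' := ⟨v', huv, hc', hk', hv'⟩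
    refine value_eq_zero_of_pPart_notMem hM θ hu fun E' hE hzE => hz u' hu ?_
    rw [← pblock_eq_blockOf hM hB hθ] at hE
    obtain ⟨t, ht⟩ := defectGroup_conj hM hB hBD hE
    rw [← ht, Subgroup.mem_map] at hzE
    obtain ⟨w, hw, rfl⟩ := hzE
    exact Subgroup.Normal.conj_mem inferInstance w hw t
  have hinj : Function.Injective fun ζ : IrrCharacter D => (⟨E ζ, hEB ζ⟩ : B) := by
    intro a b hab
    have h : E a = E b := congrArg Subtype.val hab
    refine Subtype.ext (funext fun x => ?_)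
    have h1 := hEres a x
    rw [h, hEres b x] at h1
    exact mul_left_cancel₀ (irr_one_ne_zero χ) h1.symm
  have hsurj : Function.Surjective fun ζ : IrrCharacter D => (⟨E ζ, hEB ζ⟩ : B) :=
    (hinj.bijective_of_nat_card_le (by
      rw [hcard, Cfsg.Agent.Char.card_irrCharacter])).2
  have hagree : ∀ (θ : IrrCharacter G) (ζ : IrrCharacter D),
      (∀ (y : D) (x : G), ¬ p ∣ orderOf x → Commute (y : G) x →
        (θ : G → ℂ) ((y : G) * x) = (ζ : D → ℂ) y * (χ : G → ℂ) x) →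
      (∀ z : G, (∀ y : G, IsPPart p z y → y ∉ D) → (θ : G → ℂ) z = 0) → θ = E ζ := by
    intro θ ζ h1 h2
    refine Subtype.ext (funext fun z => ?_)
    by_cases hz : ∀ y : G, IsPPart p z y → y ∉ D
    · rw [h2 z hz, hvan _ (hEB ζ) z hz]
    · push Not at hz
      obtain ⟨y, ⟨x, hyx, hc, -, hx⟩, hy⟩ := hz
      subst hyx
      rw [h1 ⟨y, hy⟩ x hx hc, hEval ζ ⟨y, hy⟩ x hx]
  refine ⟨fun θ => ⟨fun hθ => ?_, fun ⟨ζ, h1, h2⟩ => hagree θ ζ h1 h2 ▸ hEB ζ⟩,
    fun ζ => ⟨E ζ, hEB ζ, fun y x hx _ => hEval ζ y x hx, hvan _ (hEB ζ)⟩⟩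
  obtain ⟨ζ, hζ⟩ := hsurj ⟨θ, hθ⟩
  have hθe : E ζ = θ := congrArg Subtype.val hζ
  exact ⟨ζ, fun y x hx _ => hθe ▸ hEval ζ y x hx, hθe ▸ hvan _ (hEB ζ)⟩

end Cfsg.Agent.S4714
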