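import Cfsg.Agent.Lib.Block.Landau
import Cfsg.Agent.Lib.Char.Contrib
import Cfsg.Statements.S4718
-- import your own Cfsg.Agent.* helpers here

set_option autoImplicit false
universe u
open Cfsg

namespace Cfsg.Agent.S4718

/-- Let p be a prime and a a natural number. There is a bound N such that every finite group whose Sylow p-subgroups have order p^a and whose only p-block (relative to a maximal ideal of the algebraic integers containing p) is the principal block has order at most N. -/
theorem result (p : ℕ) [Fact p.Prime] (a : ℕ) : ∃ N : ℕ, ∀ (G : Type u) [Group G] [Finite G] (M : Ideal Cfsg.AlgInt), Cfsg.IsPModular p M → (Nat.card G).factorization p = a → (∀ B : Set (Cfsg.IrrCharacter G), Cfsg.IsPBlock M B → B = Cfsg.principalBlock M G) → Nat.card G ≤ N := by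
  obtain ⟨N, hN⟩ := Cfsg.Agent.Block.exists_order_bound.{u} (p ^ (2 * a) + 4)
  refine ⟨N, fun G _ _ M hM ha hone => hN G ?_⟩
  haveI := Fintype.ofFinite G
  have hB := Cfsg.Agent.Block.isPBlock_principalBlock (G := G) (M := M)
  have hk := Cfsg.Agent.Char.Contrib.card_le_bound hM hB
  have hall : Cfsg.principalBlock M G = Set.univ := Set.eq_univ_of_forall fun χ =>
    hone _ (Cfsg.Agent.Block.isPBlock_blockOf χ) ▸ Cfsg.Agent.Block.mem_blockOf_self hM χ
  rw [hall, Nat.card_congr (Equiv.Set.univ _), Cfsg.Agent.Char.card_irrCharacter] at hk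
  have hd : p ^ (2 * Cfsg.blockDefect p (Set.univ : Set (Cfsg.IrrCharacter G))) ≤ p ^ (2 * a) :=
    Nat.pow_le_pow_right (Fact.out : p.Prime).pos
      (Nat.mul_le_mul_left 2 (ha ▸ Cfsg.Agent.Block.blockDefect_le _))
  omega

end Cfsg.Agent.S4718
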