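import Cfsg.Agent.Lib.Block.DefectBound
import Cfsg.Statements.S4719
-- import your own Cfsg.Agent.* helpers here

set_option autoImplicit false
universe u
open Cfsg

namespace Cfsg.Agent.S4719

/-- For every natural number a there is a bound N with the following property. Let G be a finite group with Sylow 2-subgroups of order 2^a and r ≥ 0 such that G has no non-principal 2-block (relative to a maximal ideal of the algebraic integers containing 2) of defect ≥ r, and suppose a Sylow 2-subgroup of G contains an elementary abelian subgroup of order 2^(r+1). Then the order of G is at most N. -/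
theorem result (a : ℕ) : ∃ N : ℕ, ∀ (G : Type u) [Group G] [Finite G] (M : Ideal Cfsg.AlgInt) (r : ℕ) (P : Sylow 2 G), Cfsg.IsPModular 2 M → Nat.card P = 2 ^ a → (∀ B : Set (Cfsg.IrrCharacter G), Cfsg.IsPBlock M B → B ≠ Cfsg.principalBlock M G → Cfsg.blockDefect 2 B < r) → (∃ E : Subgroup G, E ≤ (P : Subgroup G) ∧ IsMulCommutative E ∧ (∀ x ∈ E, x * x = 1) ∧ Nat.card E = 2 ^ (r + 1)) → Nat.card G ≤ N := by
  classical
  choose N hN using fun j : ℕ => Cfsg.Agent.Block.exists_bound_of_defect.{u} a j
  refine ⟨(Finset.range (a + 1)).sum N, fun G _ _ M r P hM hP hB ⟨E, hEP, hEc, hsq, hE⟩ => ?_⟩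
  haveI : Fact (Nat.Prime 2) := ⟨Nat.prime_two⟩
  have ha : (Nat.card G).factorization 2 = a := by
    have h := P.card_eq_multiplicity
    rw [hP] at h
    exact (Nat.pow_right_injective (le_refl 2) h).symm
  have hra : r < a + 1 := by
    have h := Subgroup.card_le_of_le hEP
    rw [hE, hP] at h
    have := (Nat.pow_le_pow_iff_right (le_refl 2)).1 h
    omega
  have hcomm : ∀ x ∈ E, ∀ y ∈ E, x * y = y * x := fun x hx y hy =>
    congrArg Subtype.val (hEc.is_comm.comm ⟨x, hx⟩ ⟨y, hy⟩)
  have h := hN r G M r E ⊥ hM ha.le hB hcomm hsq hE bot_le (by rw [Subgroup.card_bot, one_mul])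
  have htop : Subgroup.centralizer ((⊥ : Subgroup G) : Set G) = ⊤ := by
    rw [eq_top_iff]
    intro g _ y hy
    rw [Subgroup.coe_bot, Set.mem_singleton_iff] at hy
    rw [hy, one_mul, mul_one]
  rw [htop, Subgroup.card_top] at h
  exact le_trans h (Finset.single_le_sum (f := N) (fun i _ => Nat.zero_le _) (Finset.mem_range.2 hra))

end Cfsg.Agent.S4719
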