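import Cfsg.Agent.Lib.Block.AbelianThreeInvolution
import Cfsg.Statements.S4721
-- import your own Cfsg.Agent.* helpers here

set_option autoImplicit false
open Cfsg

namespace Cfsg.Agent.S4721

open scoped IsMulCommutative

/-- Let p be a prime, M a maximal ideal of the algebraic integers containing p, and G a finite group with a nontrivial abelian Sylow p-subgroup P, N = N_G(P), C = C_G(P), such that N/C is cyclic of order 3, #P > 4, and C_G(y) ∩ N = C for every non-identity y ∈ P. Then the principal p-block is the disjoint union of a set X of exactly 3 characters containing the principal character and a set Y of (#P − 1)/3 characters, with signs a_χ = ±1 (χ ∈ X, a = 1 at the principal character) and δ = ±1 such that every χ ∈ X takes the value a_χ at every element whose p-part is a non-identity element of P, and there is a map ζ from the non-principal linear characters of P onto Y, constant on N-conjugacy classes,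 with ζ_ψ(z) = δ·Σ ψ'(y) over the N-orbit of ψ, for z with p-part y ≠ 1 in P. If moreover G has an involution lying in no proper normal subgroup of G, then exactly two of the three numbers −δ and a_χ (χ ∈ X non-principal) equal −1, and the product of the degrees of the two non-principal members of X and of any member of Y is a perfect square. -/
theorem result {G : Type*} [Group G] [Finite G] (p : ℕ) [Fact p.Prime] (M : Ideal Cfsg.AlgInt) (hM : Cfsg.IsPModular p M) (P : Sylow p G) (hab : IsMulCommutative P) (hP1 : Nat.card P ≠ 1) (hCN : (Subgroup.centralizer ((P : Subgroup G) : Set G)).relIndex (Subgroup.normalizer ((P : Subgroup G) : Set G)) = 3) (hcyc : ∃ g : G, g ∈ Subgroup.normalizer ((P : Subgroup G) : Set G) ∧ Subgroup.centralizer ((P : Subgroup G) : Set G) ⊔ Subgroup.zpowers g = Subgroup.normalizer ((P : Subgroup G) : Set G)) (hm2 : 3 + 1 < Nat.card P) (hfrob : ∀ y : G, y ∈ (P : Subgroup G) → y ≠ 1 → Subgroup.centralizer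 ({y} : Set G) ⊓ Subgroup.normalizer ((P : Subgroup G) : Set G) = Subgroup.centralizer ((P : Subgroup G) : Set G)) : ∃ (X Y : Set (Cfsg.IrrCharacter G)), Cfsg.principalBlock M G = X ∪ Y ∧ Disjoint X Y ∧ Nat.card X = 3 ∧ Nat.card Y = (Nat.card P - 1) / 3 ∧ (∃ χ₁ ∈ X, (χ₁ : G → ℂ) = fun _ => 1) ∧ ∃ (a : Cfsg.IrrCharacter G → ℤ) (δ : ℤ) (ζ : (↥(P : Subgroup G) →* ℂˣ) → Cfsg.IrrCharacter G), (δ = 1 ∨ δ = -1) ∧ (∀ χ ∈ X, (a χ = 1 ∨ a χ = -1) ∧ ∀ z y : G, Cfsg.IsPPart p z y → y ∈ (P : Subgroup G) → y ≠ 1 → (χ : G → ℂ) z = (a χ : ℂ)) ∧ (∀ ψ : ↥(P : Subgroup G) →* ℂˣ, ψ ≠ 1 → ζ ψ ∈ Y) ∧ (∀ η ∈ Y, ∃ ψ : ↥(P : Subgroup G) →* ℂˣ, ψ ≠ 1 ∧ ζ ψ = η) ∧ (∀ ψ ψ' : ↥(P : Subgroup G) →* ℂˣ, ψ ≠ 1 → (∃ n : G, n ∈ Subgroup.normalizer ((P : Subgroup G) : Set G) ∧ ∀ w w' : ↥(P : Subgroup G), (w' : G) = n * w * n⁻¹ → ψ' w' = ψ w) → ζ ψ' = ζ ψ) ∧ (∀ ψ : ↥(P : Subgroup G) →* ℂˣ, ψ ≠ 1 → ∀ (z : G) (y : ↥(P : Subgroup G)), Cfsg.IsPPart p z (y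 : G) → (y : G) ≠ 1 → (ζ ψ : G → ℂ) z = (δ : ℂ) * ∑ᶠ ψ' ∈ {ψ' : ↥(P : Subgroup G) →* ℂˣ | ∃ n : G, n ∈ Subgroup.normalizer ((P : Subgroup G) : Set G) ∧ ∀ w w' : ↥(P : Subgroup G), (w' : G) = n * w * n⁻¹ → ψ' w' = ψ w}, ((ψ' y : ℂˣ) : ℂ)) ∧ ((∃ t : G, orderOf t = 2 ∧ ∀ K : Subgroup G, K.Normal → t ∈ K → K = ⊤) → Nat.card {χ : Cfsg.IrrCharacter G // χ ∈ X ∧ (χ : G → ℂ) ≠ (fun _ => 1) ∧ a χ = -1} + (if δ = 1 then 1 else 0) = 2 ∧ ∀ η ∈ Y, IsSquare (Cfsg.charDegree (η : G → ℂ) * ∏ᶠ χ ∈ {χ : Cfsg.IrrCharacter G | χ ∈ X ∧ (χ : G → ℂ) ≠ fun _ => 1}, Cfsg.charDegree (χ : G → ℂ))) := by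
  classical
  haveI := hab
  cases nonempty_fintype G
  haveI := Cfsg.Agent.Block.lin_finite (H := (P : Subgroup G))
  cases nonempty_fintype (↥(P : Subgroup G) →* ℂˣ)
  obtain ⟨F⟩ := Cfsg.Agent.Block.exists_freeThree P hCN hcyc hfrob
  obtain ⟨a, b, va, vb, δ, η, hva, hvb, hδ, haB, hbB, hao, hbo, habne, hηB, hall, hR, hval, hdeg,
    hmom⟩ := Cfsg.Agent.Block.three_block hM F hm2
  set o := Cfsg.Agent.Block.trivialIrr G with ho
  let Y : Set (Cfsg.IrrCharacter G) := {χ | ∃ ψ, ψ ≠ 1 ∧ η ψ = χ}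
  let X : Set (Cfsg.IrrCharacter G) := {o, a, b}
  let aX : Cfsg.IrrCharacter G → ℤ := fun χ => if χ = a then va else if χ = b then vb else 1
  have haa : aX a = va := if_pos rfl
  have hab' : aX b = vb := by simp [aX, habne.symm]
  have hao' : aX o = 1 := by simp [aX, hao.symm, hbo.symm]
  have hsection : ∀ χ ∈ Cfsg.principalBlock M G, ∀ z y : G, Cfsg.IsPPart p z y →
      y ∈ (P : Subgroup G) → y ≠ 1 → (χ : G → ℂ) z = (χ : G → ℂ) y := by
    intro χ hχ z y hzy hy hy1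
    obtain ⟨v, rfl, hcomm, hyp, hv⟩ := hzy
    obtain ⟨K, k, hKn, hK, hidx, -, -⟩ :=
      Cfsg.Agent.Block.abelian_centralizer_complement P hy (F.norm_inf_centralizer hy hy1).le
    haveI := hKn
    let v' : Subgroup.centralizer ({y} : Set G) :=
      ⟨v, Subgroup.mem_centralizer_singleton_iff.2 hcomm.symm.eq⟩
    have hv' : ¬ p ∣ orderOf v' := by rwa [← Subgroup.orderOf_coe]
    exact Cfsg.Agent.Block.principal_section_const hM hyp hK hv'
      (Cfsg.Agent.Block.regular_mem_of_index_pPow hidx hv') hχ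
  have horbit : ∀ ψ ψ' : ↥(P : Subgroup G) →* ℂˣ,
      (∃ n : G, n ∈ Subgroup.normalizer ((P : Subgroup G) : Set G) ∧
        ∀ w w' : ↥(P : Subgroup G), (w' : G) = n * w * n⁻¹ → ψ' w' = ψ w) ↔ F.Orbit ψ' ψ := by
    intro ψ ψ'
    constructor
    · rintro ⟨n, hn, h⟩
      rcases F.norm_conj n hn with e | e | e
      · exact .inl (MonoidHom.ext fun w => h w w (e w).symm)
      · have e' : F.τ ψ' = ψ := MonoidHom.ext fun w => h w (F.σ w) (e w).symm
        exact .inr (.inr (by rw [← e', F.τ_cube]))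
      · have e' : F.τ (F.τ ψ') = ψ := MonoidHom.ext fun w => h w (F.σ (F.σ w)) (e w).symm
        exact .inr (.inl (by rw [← e', F.τ_cube]))
    · rintro (rfl | rfl | rfl)
      · exact ⟨1, one_mem _, fun w w' hw => by rw [show w' = w from Subtype.ext (by simpa using hw)]⟩
      · refine ⟨F.gen * F.gen, mul_mem F.gen_mem F.gen_mem, fun w w' hw => ?_⟩
        rw [show w' = F.σ (F.σ w) from Subtype.ext (by
          simpa [Cfsg.Agent.Block.sylowConj_val, mul_assoc] using hw)]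
        exact congrArg ψ (F.cube w)
      · refine ⟨F.gen, F.gen_mem, fun w w' hw => ?_⟩
        rw [show w' = F.σ w from Subtype.ext hw]
        exact congrArg ψ (F.cube w)
  refine ⟨X, Y, ?_, ?_, ?_, ?_, ⟨o, Set.mem_insert _ _, rfl⟩, aX, δ, η, hδ, ?_,
    fun ψ hψ => ⟨ψ, hψ, rfl⟩, fun χ hχ => hχ, ?_, ?_, ?_⟩
  · ext χ
    constructor
    · intro hχ
      rcases hall χ hχ with h | h | h | ⟨ψ, hψ, h⟩
      · exact .inl (.inl h)
      · exact .inl (.inr (.inl h))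
      · exact .inl (.inr (.inr h))
      · exact .inr ⟨ψ, hψ, h.symm⟩
    · rintro ((rfl | rfl | rfl) | ⟨ψ, hψ, rfl⟩)
      · exact Cfsg.Agent.Block.trivial_mem_principalBlock hM
      · exact haB
      · exact hbB
      · exact (hηB ψ hψ).1
  · rw [Set.disjoint_left]
    rintro χ hX ⟨ψ, hψ, rfl⟩
    obtain ⟨-, h1, h2, h3⟩ := hηB ψ hψ
    rcases hX with h | h | h
    · exact h1 h
    · exact h2 h
    · exact h3 h
  · rw [Nat.card_coe_set_eq, Set.ncard_eq_three]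
    exact ⟨o, a, b, hao.symm, hbo.symm, habne, rfl⟩
  · have h := F.card_image_orbits η hR
    show Nat.card {χ : Cfsg.IrrCharacter G // ∃ ψ, ψ ≠ 1 ∧ η ψ = χ} = _
    omega
  · rintro χ (rfl | rfl | rfl)
    · refine ⟨.inl hao', fun z y hzy hy hy1 => ?_⟩
      rw [hao', Int.cast_one]
      rfl
    · refine ⟨haa.symm ▸ hva, fun z y hzy hy hy1 => ?_⟩
      rw [hsection _ haB z y hzy hy hy1, haa]
      exact (hval ⟨y, hy⟩ fun h => hy1 (congrArg Subtype.val h)).1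
    · refine ⟨hab'.symm ▸ hvb, fun z y hzy hy hy1 => ?_⟩
      rw [hsection _ hbB z y hzy hy hy1, hab']
      exact (hval ⟨y, hy⟩ fun h => hy1 (congrArg Subtype.val h)).2.1
  · intro ψ ψ' hψ h
    have ho' := (horbit ψ ψ').1 h
    exact (hR ψ' ψ (F.orbit_ne_one ho' hψ) hψ).1 ho'
  · intro ψ hψ z y hzy hy1
    rw [hsection _ (hηB ψ hψ).1 z y hzy y.2 hy1,
      (hval y fun h => hy1 (congrArg Subtype.val h)).2.2 ψ hψ]
    congr 1
    simp only [horbit]
    have h1 : ψ ≠ F.τ ψ := fun h => hψ (F.τ_free h.symm)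
    have h2 : ψ ≠ F.τ (F.τ ψ) := fun h => hψ (F.τ_free2 h.symm)
    have h3 : F.τ ψ ≠ F.τ (F.τ ψ) := fun h => F.τ_ne_one hψ (F.τ_free h.symm)
    rw [show {ψ' : ↥(P : Subgroup G) →* ℂˣ | F.Orbit ψ' ψ} = {ψ, F.τ ψ, F.τ (F.τ ψ)} from rfl,
      finsum_mem_insert _ (by simp [h1, h2]) (Set.toFinite _), finsum_mem_pair h3]
    ring
  · rintro ⟨t, ht, htop⟩
    obtain ⟨hs, hsq⟩ := Cfsg.Agent.Block.three_involution hM F hm2 ht htop hva hvb hδ hao hbo
      (fun ψ hψ => (hηB ψ hψ).2.1) hdeg hmom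
    have hXne : ∀ χ : Cfsg.IrrCharacter G, (χ ∈ X ∧ (χ : G → ℂ) ≠ fun _ => 1) ↔ χ = a ∨ χ = b := by
      intro χ
      constructor
      · rintro ⟨rfl | rfl | rfl, h⟩
        · exact absurd rfl h
        · exact .inl rfl
        · exact .inr rfl
      · rintro (rfl | rfl)
        · exact ⟨.inr (.inl rfl), fun h => hao (Subtype.ext h)⟩
        · exact ⟨.inr (.inr rfl), fun h => hbo (Subtype.ext h)⟩
    refine ⟨?_, fun χ hχ => ?_⟩
    · rw [← hs]
      congr 1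
      rw [show Nat.card {χ : Cfsg.IrrCharacter G // χ ∈ X ∧ (χ : G → ℂ) ≠ (fun _ => 1) ∧ aX χ = -1} =
        (({a, b} : Finset (Cfsg.IrrCharacter G)).filter fun χ => aX χ = -1).card by
          rw [← Nat.card_eq_finsetCard]
          exact Nat.card_congr (Equiv.subtypeEquivRight fun χ => by
            rw [← and_assoc, hXne]; simp),
        Finset.card_filter, Finset.sum_pair habne, haa, hab']
    · obtain ⟨ψ, hψ, rfl⟩ := hχ
      rw [show {χ : Cfsg.IrrCharacter G | χ ∈ X ∧ (χ : G → ℂ) ≠ fun _ => 1} = {a, b} from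
        Set.ext fun χ => hXne χ, finprod_mem_pair habne]
      exact hsq ψ hψ

end Cfsg.Agent.S4721
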