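import Cfsg.Agent.Lib.Block.SuzukiIdentity
import Cfsg.Statements.S4722
-- import your own Cfsg.Agent.* helpers here

set_option autoImplicit false
open Cfsg

namespace Cfsg.Agent.S4722

/-- Let M be a maximal ideal of the algebraic integers containing 2, P a 2-subgroup of the finite group G, U a subset of P, and t an involution of G such that no element of U is inverted by any conjugate of t. Let θ be a generalized character of P vanishing outside U, and for χ in the principal 2-block B₀ put a_χ = #P⁻¹ Σ_{y ∈ P} χ(y) θ(y⁻¹). Then Σ_{χ ∈ B₀} a_χ χ(t)^2/χ(1) = 0, Σ_{χ ∈ B₀} a_χ χ(1) = 0 and Σ_{χ ∈ B₀} a_χ χ(t) = 0. If moreover #P⁻¹ Σ_{y ∈ P} θ(y) ≠ 0, then either at least two of the a_χ have positive real part and at least two have negative real part, or G has a proper normal subgroup containing O_2'(G) and t. -/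
theorem result {G : Type*} [Group G] [Finite G] (M : Ideal Cfsg.AlgInt) (hM : Cfsg.IsPModular 2 M) (P : Subgroup G) (hP : IsPGroup 2 P) (U : Set G) (hUP : U ⊆ (P : Set G)) (t : G) (ht : orderOf t = 2) (hinv : ∀ u ∈ U, ∀ g : G, (g * t * g⁻¹) * u * (g * t * g⁻¹)⁻¹ ≠ u⁻¹) (θ : ↥P → ℂ) (hθ : Cfsg.IsGeneralizedCharacter ↥P θ) (hθU : ∀ y : ↥P, (y : G) ∉ U → θ y = 0) : (∑ᶠ χ ∈ Cfsg.principalBlock M G, ((Nat.card ↥P : ℂ)⁻¹ * ∑ᶠ y : ↥P, (χ : G → ℂ) (y : G) * θ y⁻¹) * (χ : G → ℂ) t ^ 2 / (χ : G → ℂ) 1 = 0) ∧ (∑ᶠ χ ∈ Cfsg.principalBlock M G, ((Nat.card ↥P : ℂ)⁻¹ * ∑ᶠ y : ↥P, (χ : G → ℂ) (y : G) * θ y⁻¹) * (χ : G → ℂ) 1 = 0) ∧ (∑ᶠ χ ∈ Cfsg.principalBlock M G, ((Nat.card ↥P : ℂ)⁻¹ * ∑ᶠ y : ↥P, (χ : G → ℂ) (y : G) * θ y⁻¹) * (χ : G → ℂ) t = 0) ∧ ((Nat.card ↥P : ℂ)⁻¹ * ∑ᶠ y : ↥P, θ y ≠ 0 → (2 ≤ Nat.card {χ : Cfsg.IrrCharacter G // χ ∈ Cfsg.principalBlock M G ∧ 0 < (((Nat.card ↥P : ℂ)⁻¹ * ∑ᶠ y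 : ↥P, (χ : G → ℂ) (y : G) * θ y⁻¹)).re} ∧ 2 ≤ Nat.card {χ : Cfsg.IrrCharacter G // χ ∈ Cfsg.principalBlock M G ∧ (((Nat.card ↥P : ℂ)⁻¹ * ∑ᶠ y : ↥P, (χ : G → ℂ) (y : G) * θ y⁻¹)).re < 0}) ∨ ∃ K : Subgroup G, K.Normal ∧ K ≠ ⊤ ∧ Cfsg.pPrimeCore 2 G ≤ K ∧ t ∈ K) := by
  classical
  haveI : Fintype G := Fintype.ofFinite G
  haveI : Fintype P := Fintype.ofFinite P
  have eP : ∀ f : P → ℂ, ∑ᶠ y, f y = ∑ y, f y := finsum_eq_sum_of_fintype
  simp only [eP]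
  have ht2 : t * t = 1 := by
    rw [← pow_two, ← ht]
    exact pow_orderOf_eq_one t
  have htinv : t⁻¹ = t := inv_eq_of_mul_eq_one_right ht2
  have htp : ∃ k : ℕ, orderOf t = 2 ^ k := ⟨1, by rw [ht, pow_one]⟩
  have hsupp : ∀ y : P, θ y⁻¹ ≠ 0 → (y : G) ∈ U := fun y hy => by
    by_contra hU
    exact hy (by rw [Cfsg.Agent.Block.genChar_apply_inv hθ, hθU y hU, map_zero])
  set a : Cfsg.IrrCharacter G → ℂ := fun χ =>
    (Nat.card P : ℂ)⁻¹ * ∑ y : P, (χ : G → ℂ) (y : G) * θ y⁻¹ with ha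
  have hzero : ∀ F : Cfsg.IrrCharacter G → ℂ,
      (∀ y : P, (y : G) ∈ U → ∑ᶠ χ ∈ Cfsg.principalBlock M G, F χ * (χ : G → ℂ) (y : G) = 0) →
      ∑ᶠ χ ∈ Cfsg.principalBlock M G, a χ * F χ = 0 := by
    intro F hF
    rw [Cfsg.Agent.Block.finsum_mem_block]
    simp only [ha, Finset.mul_sum, Finset.sum_mul]
    rw [Finset.sum_comm, Finset.sum_eq_zero]
    intro y _
    rcases eq_or_ne (θ y⁻¹) 0 with h0 | h0
    · exact Finset.sum_eq_zero fun χ _ => by rw [h0]; ring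
    · rw [Finset.sum_congr rfl (g := fun χ => ((Nat.card P : ℂ)⁻¹ * θ y⁻¹) *
        (F χ * (χ : G → ℂ) (y : G))) fun χ _ => by ring, ← Finset.mul_sum,
        ← Cfsg.Agent.Block.finsum_mem_block, hF y (hsupp y h0), mul_zero]
  have hne1 : ∀ y : P, (y : G) ∈ U → ¬ IsConj (y : G) 1 := fun y hy hc =>
    hinv y hy 1 (by rw [isConj_one_right.1 hc.symm]; group)
  have hnet : ∀ y : P, (y : G) ∈ U → ¬ IsConj (y : G) t := fun y hy hc => by
    obtain ⟨c, hc⟩ := isConj_iff.1 hc.symm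
    refine hinv y hy c ?_
    rw [← hc]
    calc c * t * c⁻¹ * (c * t * c⁻¹) * (c * t * c⁻¹)⁻¹ = c * t * c⁻¹ := by group
      _ = c * t⁻¹ * c⁻¹ := by rw [htinv]
      _ = (c * t * c⁻¹)⁻¹ := by group
  have h1 : ∑ᶠ χ ∈ Cfsg.principalBlock M G, a χ * (χ : G → ℂ) 1 = 0 := hzero _ fun y hy => by
    rw [← Cfsg.Agent.Block.principal_pElem_orth hM (Cfsg.Agent.Block.pPow_of_mem hP y.2)
      ⟨0, by rw [orderOf_one, pow_zero]⟩ (hne1 y hy)]
    refine finsum_congr fun χ => finsum_congr fun _ => ?_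
    rw [Cfsg.Agent.Block.charDeg_spec' χ, Complex.conj_natCast, mul_comm]
  have htreal : ∀ χ : Cfsg.IrrCharacter G, (starRingEnd ℂ) ((χ : G → ℂ) t) = (χ : G → ℂ) t :=
    fun χ => by rw [← Cfsg.Agent.Block.irr_apply_inv, htinv]
  have h2 : ∑ᶠ χ ∈ Cfsg.principalBlock M G, a χ * (χ : G → ℂ) t = 0 := hzero _ fun y hy => by
    rw [← Cfsg.Agent.Block.principal_pElem_orth hM (Cfsg.Agent.Block.pPow_of_mem hP y.2)
      htp (hnet y hy)]
    refine finsum_congr fun χ => finsum_congr fun _ => ?_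
    rw [htreal, mul_comm]
  have h3' : ∑ᶠ χ ∈ Cfsg.principalBlock M G, a χ * ((χ : G → ℂ) t ^ 2 / (χ : G → ℂ) 1) = 0 :=
    hzero _ fun y hy => Cfsg.Agent.Block.block_involution_product hM
      Cfsg.Agent.Block.isPBlock_principalBlock ht2 (Cfsg.Agent.Block.pPow_of_mem hP y.2)
      (hinv y hy)
  have h3 : ∑ᶠ χ ∈ Cfsg.principalBlock M G, a χ * (χ : G → ℂ) t ^ 2 / (χ : G → ℂ) 1 = 0 := by
    rw [← h3']
    refine finsum_congr fun χ => finsum_congr fun _ => ?_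
    rw [mul_div_assoc]
  refine ⟨h3, h1, h2, fun hmean => ?_⟩
  by_contra hnot
  rw [not_or] at hnot
  obtain ⟨hcount, hK⟩ := hnot
  -- real weights
  have hint : ∀ χ : Cfsg.IrrCharacter G, ∃ n : ℤ, a χ = n := by
    intro χ
    obtain ⟨n, hn⟩ := Cfsg.Agent.Char.IsGenChar.classInner_int
      (Cfsg.Agent.Char.IsGenChar.of_isCharacter
        (Cfsg.Agent.Char.IsChar.res (Cfsg.Agent.Block.irr_isChar χ) P)) hθ
    refine ⟨n, ?_⟩
    rw [← hn, ha, Cfsg.classInner]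
    simp only [Cfsg.Agent.Block.genChar_apply_inv hθ]
  choose n hn using hint
  set S := Finset.univ.filter (fun χ : Cfsg.IrrCharacter G => χ ∈ Cfsg.principalBlock M G)
  set d : Cfsg.IrrCharacter G → ℝ := fun χ => (Cfsg.charDegree (χ : G → ℂ) : ℝ) with hd
  have hd0 : ∀ χ, d χ ≠ 0 := fun χ => Nat.cast_ne_zero.2 (Cfsg.Agent.Block.charDeg_pos χ).ne'
  set x : Cfsg.IrrCharacter G → ℝ := fun χ => ((χ : G → ℂ) t).re / d χ with hx
  have hdC : ∀ χ : Cfsg.IrrCharacter G, (χ : G → ℂ) 1 = ((d χ : ℝ) : ℂ) := fun χ => by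
    rw [Cfsg.Agent.Block.charDeg_spec' χ, hd, Complex.ofReal_natCast]
  have hxC : ∀ χ : Cfsg.IrrCharacter G, (χ : G → ℂ) t = ((x χ * d χ : ℝ) : ℂ) := fun χ => by
    rw [hx, div_mul_cancel₀ _ (hd0 χ)]
    exact (Complex.conj_eq_iff_re.1 (htreal χ)).symm
  rw [Cfsg.Agent.Block.finsum_mem_block] at h1 h2 h3'
  have e0 : ∑ χ ∈ S, (n χ : ℝ) * d χ = 0 := by
    apply Complex.ofReal_injective
    rw [Complex.ofReal_zero, ← h1, Complex.ofReal_sum]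
    refine Finset.sum_congr rfl fun χ _ => ?_
    rw [hn χ, hdC χ]; push_cast; rfl
  have e1 : ∑ χ ∈ S, (n χ : ℝ) * d χ * x χ = 0 := by
    apply Complex.ofReal_injective
    rw [Complex.ofReal_zero, ← h2, Complex.ofReal_sum]
    refine Finset.sum_congr rfl fun χ _ => ?_
    rw [hn χ, hxC χ]; push_cast; ring
  have e2 : ∑ χ ∈ S, (n χ : ℝ) * d χ * x χ ^ 2 = 0 := by
    apply Complex.ofReal_injective
    rw [Complex.ofReal_zero, ← h3', Complex.ofReal_sum]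
    refine Finset.sum_congr rfl fun χ _ => ?_
    rw [hn χ, hxC χ, hdC χ]
    have := hd0 χ
    push_cast
    field_simp
  have hsub : ∀ (Q : Cfsg.IrrCharacter G → Prop),
      ¬ 2 ≤ Nat.card {χ : Cfsg.IrrCharacter G // χ ∈ Cfsg.principalBlock M G ∧ Q χ} →
      ∀ i ∈ S, ∀ j ∈ S, Q i → Q j → i = j := by
    intro Q hQ i hi j hj hqi hqj
    haveI : Subsingleton {χ : Cfsg.IrrCharacter G // χ ∈ Cfsg.principalBlock M G ∧ Q χ} :=
      Finite.card_le_one_iff_subsingleton.1 (by omega)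
    exact congrArg Subtype.val (Subsingleton.elim
      (⟨i, (Finset.mem_filter.1 hi).2, hqi⟩ :
        {χ : Cfsg.IrrCharacter G // χ ∈ Cfsg.principalBlock M G ∧ Q χ})
      ⟨j, (Finset.mem_filter.1 hj).2, hqj⟩)
  have hre : ∀ χ, (a χ).re = (n χ : ℝ) := fun χ => by rw [hn χ, Complex.intCast_re]
  have hconst : ∀ i ∈ S, ∀ j ∈ S, n i ≠ 0 → n j ≠ 0 → x i = x j := by
    intro i hi j hj hni hnj
    have hne : ∀ k, n k ≠ 0 → (n k : ℝ) * d k ≠ 0 := fun k hk =>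
      mul_ne_zero (Int.cast_ne_zero.2 hk) (hd0 k)
    have hdpos : ∀ k, 0 < d k := fun k => lt_of_le_of_ne (Nat.cast_nonneg _) (hd0 k).symm
    rcases not_and_or.1 hcount with hA | hA
    · refine Cfsg.Agent.Block.eq_of_moments S (fun k => (n k : ℝ) * d k) x e0 e1 e2 ?_ hi hj
        (hne i hni) (hne j hnj)
      intro k hk l hl hwk hwl
      refine hsub _ hA k hk l hl ?_ ?_
      · exact (hre k).symm ▸ (pos_iff_pos_of_mul_pos hwk).2 (hdpos k)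
      · exact (hre l).symm ▸ (pos_iff_pos_of_mul_pos hwl).2 (hdpos l)
    · refine Cfsg.Agent.Block.eq_of_moments S (fun k => -((n k : ℝ) * d k)) x
        (by rw [Finset.sum_neg_distrib, e0, neg_zero])
        (by simp only [neg_mul]; rw [Finset.sum_neg_distrib, e1, neg_zero])
        (by simp only [neg_mul]; rw [Finset.sum_neg_distrib, e2, neg_zero]) ?_ hi hj
        (neg_ne_zero.2 (hne i hni)) (neg_ne_zero.2 (hne j hnj))
      intro k hk l hl hwk hwl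
      have hneg : ∀ q, 0 < -((n q : ℝ) * d q) → (a q).re < 0 := fun q hq => by
        rw [hre q]
        by_contra hc
        have := mul_nonneg (not_lt.1 hc) (hdpos q).le
        linarith
      exact hsub _ hA k hk l hl (hneg k hwk) (hneg l hwl)
  set χ₁ := Cfsg.Agent.Block.trivialIrr G
  have hχ₁S : χ₁ ∈ S :=
    Finset.mem_filter.2 ⟨Finset.mem_univ _, Cfsg.Agent.Block.trivial_mem_principalBlock hM⟩
  have hn1 : n χ₁ ≠ 0 := fun h => hmean (by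
    have ha1 := hn χ₁
    rw [h, Int.cast_zero, ha] at ha1
    simp only [show ∀ g : G, (χ₁ : G → ℂ) g = 1 from fun _ => rfl, one_mul] at ha1
    rw [Fintype.sum_equiv (Equiv.inv P) θ (fun y => θ y⁻¹) fun y => by simp]
    exact ha1)
  have hother : ∃ χ ∈ S, χ ≠ χ₁ ∧ n χ ≠ 0 := by
    by_contra h
    push Not at h
    rw [Finset.sum_eq_single χ₁ (fun χ hχ hne => by rw [h χ hχ hne]; simp)
      (fun hh => absurd hχ₁S hh)] at e0
    exact mul_ne_zero (Int.cast_ne_zero.2 hn1) (hd0 χ₁) e0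
  obtain ⟨χ, hχS, hχne, hnχ⟩ := hother
  have hx1 : x χ = 1 := by
    rw [hconst χ hχS χ₁ hχ₁S hnχ hn1, hx, hd]
    simp [χ₁, Cfsg.Agent.Block.trivialIrr, Cfsg.Agent.Block.charDeg_trivial]
  have htker : (χ : G → ℂ) t = (χ : G → ℂ) 1 := by rw [hxC χ, hdC χ, hx1, one_mul]
  refine hK ⟨Cfsg.Agent.Char.charKer (Cfsg.Agent.Block.irr_isChar χ),
    Cfsg.Agent.Char.charKer_normal _, fun htop => ?_, fun k hk => ?_, ?_⟩
  · refine hχne (Subtype.ext ?_)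
    exact Cfsg.Agent.Char.irr_const_eq_one χ.2 fun g =>
      (Cfsg.Agent.Char.mem_charKer _).1 (htop ▸ Subgroup.mem_top g)
  · haveI := Cfsg.Agent.Grp.pPrimeCore_isNormal (p := 2) (G := G)
    exact (Cfsg.Agent.Char.mem_charKer _).2 (Cfsg.Agent.Block.principal_ker_of_coprime hM
      Cfsg.Agent.Grp.pPrimeCore_not_dvd (Finset.mem_filter.1 hχS).2 hk)
  · exact (Cfsg.Agent.Char.mem_charKer _).2 htker

end Cfsg.Agent.S4722
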