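import Cfsg.Statements.S4723
import Cfsg.Agent.Lib.Block.CoveringBasic
import Cfsg.Agent.Lib.Block.Covering
import Cfsg.Agent.Lib.Char.PairDefect
import Mathlib
-- import your own Cfsg.Agent.* helpers here

set_option autoImplicit false
open Cfsg

namespace Cfsg.Agent.S4723

/-- Let p be a prime, M a maximal ideal of the algebraic integers containing p, H a normal subgroup of the finite group G and b a p-block of H. Let T be the stabilizer of b in G. Then b contains a character θ of height zero whose own stabilizer in G (the elements g with θ(g h g⁻¹) = θ(h) for all h ∈ H) has index prime to p in T, i.e. contains a Sylow p-subgroup of T. -/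
theorem result {G : Type*} [Group G] [Finite G] (p : ℕ) [Fact p.Prime] (M : Ideal Cfsg.AlgInt) (hM : Cfsg.IsPModular p M) (H : Subgroup G) [H.Normal] (b : Set (Cfsg.IrrCharacter ↥H)) (hb : Cfsg.IsPBlock M b) (T : Subgroup G) (hT : (∀ g : G, g ∈ T ↔ ∀ θ ∈ b, ∀ θ' : Cfsg.IrrCharacter ↥H, (∀ h h' : ↥H, (h' : G) = g * h * g⁻¹ → (θ' : ↥H → ℂ) h' = (θ : ↥H → ℂ) h) → θ' ∈ b)) : ∃ θ ∈ b, Cfsg.blockHeight p b (θ : ↥H → ℂ) = 0 ∧ ∃ S : Subgroup G, S ≤ T ∧ (∀ g : G, g ∈ S ↔ (g ∈ T ∧ ∀ h h' : ↥H, (h' : G) = g * h * g⁻¹ → (θ : ↥H → ℂ) h' = (θ : ↥H → ℂ) h)) ∧ ¬ p ∣ S.relIndex T := by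
  classical
  haveI := Fintype.ofFinite G
  haveI := Fintype.ofFinite H
  haveI := Fintype.ofFinite T
  have hHT : H ≤ T := fun g hg => (hT g).2 fun θ hθ θ' h => by
    suffices θ' = θ by rwa [this]
    refine Subtype.ext (funext fun x => ?_)
    have hc := Cfsg.Agent.Block.irr_classFun θ x ⟨g, hg⟩⁻¹
    rw [← hc]
    exact h _ x (by simp [mul_assoc])
  set N : Subgroup ↥T := H.subgroupOf T with hNdef
  haveI : N.Normal := Subgroup.Normal.subgroupOf inferInstance _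
  haveI := Fintype.ofFinite ↥N
  set e : ↥N ≃* ↥H := Subgroup.subgroupOfEquivOfLe hHT with he
  set b' : Set (Cfsg.IrrCharacter ↥N) := Cfsg.Agent.Char.BP.pullB e.symm b with hb'def
  have hb' : Cfsg.IsPBlock M b' := Cfsg.Agent.Char.BP.isPBlock_pullB hM e.symm hb
  have hd' : Cfsg.blockDefect p b' = Cfsg.blockDefect p b :=
    Cfsg.Agent.Char.BP.blockDefect_pullB e.symm b
  have hecoe : ∀ x : ↥N, ((e x : ↥H) : G) = ((x : ↥T) : G) := fun x => rfl
  have hecoe' : ∀ x : ↥H, (((e.symm x : ↥N) : ↥T) : G) = (x : G) := fun x => rfl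
  have hconjcoe : ∀ (t : ↥T) (x : ↥N), (((⟨(t : ↥T) * x * t⁻¹, (inferInstance : N.Normal).conj_mem _ x.2 t⟩ : ↥N) : ↥T) : G)
      = (t : G) * ((x : ↥T) : G) * (t : G)⁻¹ := fun t x => rfl
  have hst : Cfsg.Agent.Block.ConjStable N b' := by
    intro t θ hθ θ' h
    refine (hT (((t⁻¹ : ↥T) : G))).1 (t⁻¹).2 _ hθ (Cfsg.Agent.Block.irrPull e.symm θ') fun x y hxy => ?_
    simp only [Cfsg.Agent.Block.irrPull_apply]
    rw [h (e.symm y)]
    refine congrArg (θ : ↥N → ℂ) (Subtype.ext (Subtype.ext ?_))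
    rw [hconjcoe, hecoe', hecoe', hxy]
    push_cast
    group
  -- a covering block of largest defect
  set Cov : Set (Set (Cfsg.IrrCharacter ↥T)) := {B | Cfsg.IsPBlock M B ∧
    ∃ χ ∈ B, ∃ θ ∈ b', Cfsg.classInner (fun n : ↥N => (χ : ↥T → ℂ) n) (θ : ↥N → ℂ) ≠ 0} with hCov
  obtain ⟨θ₀, hθ₀⟩ := Cfsg.Agent.Block.pblock_nonempty hM hb'
  obtain ⟨χ₀, hχ₀⟩ := Cfsg.Agent.Block.exists_over N θ₀
  obtain ⟨B, hB, hmax⟩ := Set.Finite.exists_maximalFor (Cfsg.blockDefect p) Cov (Set.toFinite _)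
    ⟨Cfsg.blockOf M (χ₀ : ↥T → ℂ), Cfsg.Agent.Block.isPBlock_blockOf χ₀, χ₀,
      Cfsg.Agent.Block.mem_blockOf_self hM χ₀, θ₀, hθ₀, hχ₀⟩
  obtain ⟨hBblk, χ₁, hχ₁, θ₁, hθ₁, hc₁⟩ := hB
  obtain ⟨P, hP⟩ := Cfsg.Agent.Block.exists_isDefectGroup hM hBblk
  obtain ⟨-, -, hdB⟩ := Cfsg.Agent.Block.covering_max_defect N hM hb' hst hBblk
    ⟨χ₁, hχ₁, θ₁, hθ₁, hc₁⟩ (fun B' hB' hcov => by
      by_contra hlt
      push Not at hlt
      exact absurd (hmax (j := B') ⟨hB', hcov⟩ hlt.le) (not_le.2 hlt)) hP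
  obtain ⟨χ, hχ, hχ0⟩ := Cfsg.Agent.Block.exists_height_zero hM hBblk
  obtain ⟨θ, hθb, hθc⟩ := (Cfsg.Agent.Block.covInd_eq_one_iff N hst χ).1 (by
    rw [← Cfsg.Agent.Block.covInd_congr N hM hb' hst (Cfsg.Agent.Block.pblock_sameBlock hM hBblk hχ₁ hχ)]
    exact (Cfsg.Agent.Block.covInd_eq_one_iff N hst χ₁).2 ⟨θ₁, hθ₁, hc₁⟩)
  have hdeg := Cfsg.Agent.Char.clifford_one N χ.2 θ.2 hθc
  obtain ⟨m, hm⟩ := Cfsg.Agent.Char.IsChar.classInner_nat
    (Cfsg.Agent.Char.IsChar.res (Cfsg.Agent.Block.irr_isChar χ) N) (Cfsg.Agent.Block.irr_isChar θ)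
  rw [hm, Cfsg.Agent.Block.charDeg_spec' χ, Cfsg.Agent.Block.charDeg_spec' θ, ← Nat.cast_mul,
    ← Nat.cast_mul, Nat.cast_inj] at hdeg
  set I := Cfsg.Agent.Char.inertia N (θ : ↥N → ℂ) with hI
  have hm0 : m ≠ 0 := fun h => hθc (by rw [hm, h, Nat.cast_zero])
  have hI0 : I.index ≠ 0 := Subgroup.index_ne_zero_of_finite
  have hfac : (Cfsg.charDegree (χ : ↥T → ℂ)).factorization p =
      m.factorization p + I.index.factorization p + (Cfsg.charDegree (θ : ↥N → ℂ)).factorization p := by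
    rw [hdeg, Nat.factorization_mul (Nat.mul_ne_zero hm0 hI0)
      (Cfsg.Agent.Block.charDeg_pos θ).ne', Nat.factorization_mul hm0 hI0]
    simp only [Finsupp.add_apply]
  rw [Cfsg.Agent.Block.blockHeight_zero_iff hM hBblk hχ] at hχ0
  have hle := Cfsg.Agent.Block.le_defect_add hM hb' hθb
  have hT' : (Nat.card ↥T).factorization p = (Nat.card ↥N).factorization p + N.index.factorization p := by
    rw [← N.card_mul_index, Nat.factorization_mul Nat.card_pos.ne' Subgroup.index_ne_zero_of_finite,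
      Finsupp.add_apply]
  have hθ0 : Cfsg.blockDefect p b' + (Cfsg.charDegree (θ : ↥N → ℂ)).factorization p =
      (Nat.card ↥N).factorization p := by omega
  have hIp : I.index.factorization p = 0 := by omega
  set θH : Cfsg.IrrCharacter ↥H := Cfsg.Agent.Block.irrPull e.symm θ with hθH
  have hθHb : θH ∈ b := hθb
  have hθHdeg : Cfsg.charDegree (θH : ↥H → ℂ) = Cfsg.charDegree (θ : ↥N → ℂ) := by
    simp [hθH, Cfsg.charDegree]
  refine ⟨θH, hθHb, ?_, I.map T.subtype, Subgroup.map_subtype_le _, fun g => ?_, ?_⟩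
  · rw [Cfsg.Agent.Block.blockHeight_zero_iff hM hb hθHb, hθHdeg, ← hd',
      ← Nat.card_congr e.toEquiv]
    exact hθ0
  · constructor
    · rintro ⟨t, ht, rfl⟩
      refine ⟨t.2, fun x y hxy => ?_⟩
      have h1 := congrFun ((Cfsg.Agent.Char.mem_inertia N).1 ht) (e.symm x)
      rw [Cfsg.Agent.Char.conjN_apply] at h1
      rw [hθH, Cfsg.Agent.Block.irrPull_apply, Cfsg.Agent.Block.irrPull_apply, ← h1]
      refine congrArg (θ : ↥N → ℂ) (Subtype.ext (Subtype.ext ?_))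
      rw [hecoe', hxy, hconjcoe, hecoe']
      rfl
    · rintro ⟨hg, hfix⟩
      refine ⟨⟨g, hg⟩, (Cfsg.Agent.Char.mem_inertia N).2 (funext fun x => ?_), rfl⟩
      have h1 := hfix (e x) (e ⟨⟨g, hg⟩ * x * ⟨g, hg⟩⁻¹, (inferInstance : N.Normal).conj_mem _ x.2 _⟩) rfl
      rw [hθH, Cfsg.Agent.Block.irrPull_apply, Cfsg.Agent.Block.irrPull_apply,
        MulEquiv.symm_apply_apply, MulEquiv.symm_apply_apply] at h1
      rw [Cfsg.Agent.Char.conjN_apply]
      exact h1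
  · intro hdvd
    have hrel : (I.map T.subtype).relIndex T = I.index := by
      rw [Subgroup.relIndex, Subgroup.subgroupOf, Subgroup.comap_map_eq_self_of_injective T.subtype_injective]
    rw [hrel] at hdvd
    exact absurd ((Nat.Prime.factorization_pos_of_dvd (Fact.out : p.Prime) hI0 hdvd)) (by omega)

end Cfsg.Agent.S4723
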