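import Cfsg.Statements.S4725
import Cfsg.Agent.Lib.Block.Induced
import Cfsg.Agent.Lib.Char.Induce
import Cfsg.Agent.Lib.Char.Constituent
import Mathlib
-- import your own Cfsg.Agent.* helpers here

set_option autoImplicit false
open Cfsg

namespace Cfsg.Agent.S4725

/-- Let p be a prime, M a maximal ideal of the algebraic integers containing p, H a subgroup of the finite group G, and b a p-block of H inducing the p-block B of G, with b and B of the same defect. Then for every height-zero ζ ∈ b there is a height-zero χ ∈ B whose multiplicity in the character induced from ζ is not divisible by p. -/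
theorem result {G : Type*} [Group G] [Fintype G] (p : ℕ) [Fact p.Prime] (M : Ideal Cfsg.AlgInt) (hM : Cfsg.IsPModular p M) (H : Subgroup G) (b : Set (Cfsg.IrrCharacter ↥H)) (B : Set (Cfsg.IrrCharacter G)) (hind : Cfsg.IsInducedBlock M H b B) (hdef : Cfsg.blockDefect p b = Cfsg.blockDefect p B) (ζ : Cfsg.IrrCharacter ↥H) (hζ : ζ ∈ b) (hζ0 : Cfsg.blockHeight p b (ζ : ↥H → ℂ) = 0) : ∃ χ ∈ B, Cfsg.blockHeight p B (χ : G → ℂ) = 0 ∧ ∃ a : ℕ, Cfsg.classInner (Cfsg.indFun H (ζ : ↥H → ℂ)) (χ : G → ℂ) = (a : ℂ) ∧ ¬ p ∣ a := by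
  classical
  letI := Fintype.ofFinite H
  obtain ⟨χ₀, hχ₀, h0⟩ := Cfsg.Agent.Block.exists_height_zero hM hind.2.1
  obtain ⟨a, ha, hdec⟩ := Cfsg.Agent.Char.IsChar.exists_decomp_inner
    (Cfsg.Agent.Char.isCharacter_indFun H (θ := (ζ : ↥H → ℂ))
      (Cfsg.Agent.Char.IsIrr.isCharacter ζ.2))
  set R := Cfsg.Agent.Block.resCen H (Cfsg.Agent.Block.regPair p χ₀) ζ with hR
  have hRu : ¬ Cfsg.MemLocalIdeal M R := fun h =>
    Cfsg.Agent.Block.regPair_unit hM hind.2.1 hχ₀ hχ₀ h0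
      ((Cfsg.Agent.Block.ideal_congr hM (Cfsg.Agent.Block.induced_congr hM hind
        (Cfsg.Agent.Block.cenInt_regPair hM χ₀) hζ hχ₀)).1 h)
  have hm : (0 : ℕ) < H.index * Cfsg.charDegree (ζ : ↥H → ℂ) :=
    Nat.mul_pos (Nat.pos_of_ne_zero Subgroup.index_ne_zero_of_finite) (Cfsg.Agent.Block.charDeg_pos ζ)
  have hone : ∀ χ : Cfsg.IrrCharacter G, ∑ g : G, (χ : G → ℂ) g * Cfsg.Agent.Block.regConj p χ₀ g =
      (Cfsg.charDegree (χ : G → ℂ) : ℂ) * Cfsg.Agent.Block.regPair p χ₀ χ := fun χ => by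
    rw [← Cfsg.Agent.Block.omegaFun_regConj, Cfsg.Agent.Block.omegaFun,
      ← Cfsg.Agent.Block.charDeg_spec', mul_div_cancel₀ _ (Cfsg.Agent.Block.irr_one_ne_zero χ)]
    exact Finset.sum_congr rfl fun g _ => mul_comm _ _
  have hsum : R = ∑ χ : Cfsg.IrrCharacter G, (a χ : ℂ) *
      (((Cfsg.charDegree (χ : G → ℂ) : ℕ) : ℂ) / ((H.index * Cfsg.charDegree (ζ : ↥H → ℂ) : ℕ) : ℂ)) *
        Cfsg.Agent.Block.regPair p χ₀ χ := by
    have e1 := Cfsg.Agent.Char.sum_indFun_mul H (ζ : ↥H → ℂ)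
      (Cfsg.Agent.Block.regConj_classFun (p := p) χ₀)
    have e2 : ∑ h : ↥H, (ζ : ↥H → ℂ) h * Cfsg.Agent.Block.regConj p χ₀ h =
        (Cfsg.charDegree (ζ : ↥H → ℂ) : ℂ) * R := by
      rw [hR, Cfsg.Agent.Block.resCen_eq_omegaFun, Cfsg.Agent.Block.coeffFun_regPair,
        Cfsg.Agent.Block.omegaFun, ← Cfsg.Agent.Block.charDeg_spec',
        mul_div_cancel₀ _ (Cfsg.Agent.Block.irr_one_ne_zero ζ)]
      exact Finset.sum_congr rfl fun g _ => mul_comm _ _
    have e3 : ∑ g : G, Cfsg.indFun H (ζ : ↥H → ℂ) g * Cfsg.Agent.Block.regConj p χ₀ g =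
        ∑ χ : Cfsg.IrrCharacter G, (a χ : ℂ) * ((Cfsg.charDegree (χ : G → ℂ) : ℂ) *
          Cfsg.Agent.Block.regPair p χ₀ χ) := by
      simp only [← hone, Finset.mul_sum]
      rw [Finset.sum_comm]
      refine Finset.sum_congr rfl fun g _ => ?_
      rw [hdec, Cfsg.Agent.Char.sum_irr_apply, Finset.sum_mul]
      exact Finset.sum_congr rfl fun χ _ => by ring
    rw [e2, e3, ← mul_assoc, ← Nat.cast_mul] at e1
    have hm' : ((H.index * Cfsg.charDegree (ζ : ↥H → ℂ) : ℕ) : ℂ) ≠ 0 := Nat.cast_ne_zero.2 hm.ne'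
    refine mul_left_cancel₀ hm' ?_
    rw [← e1, Finset.mul_sum]
    refine Finset.sum_congr rfl fun χ _ => ?_
    field_simp
  by_contra hno
  push Not at hno
  refine hRu ?_
  rw [hsum]
  refine Cfsg.Agent.Block.ideal_sum hM fun χ _ => ?_
  by_cases hχB : χ ∈ B
  swap
  · rw [Cfsg.Agent.Block.regPair_outside hM fun h => hχB
      (Cfsg.Agent.Block.pblock_mem_of_sameBlock hM hind.2.1 hχ₀ h), mul_zero]
    exact Cfsg.Agent.Block.ideal_zero hM
  refine Cfsg.Agent.Block.ideal_mul_right hM ?_ ((Cfsg.Agent.Block.cenInt_regPair hM χ₀).ring hM χ)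
  have hb := (Cfsg.Agent.Block.blockHeight_zero_iff hM hind.1 hζ).1 hζ0
  have hB := Cfsg.Agent.Block.le_defect_add hM hind.2.1 hχB
  have hfac : (H.index * Cfsg.charDegree (ζ : ↥H → ℂ)).factorization p + Cfsg.blockDefect p b =
      (Nat.card G).factorization p := by
    rw [← H.index_mul_card, Nat.factorization_mul Subgroup.index_ne_zero_of_finite Nat.card_pos.ne',
      Nat.factorization_mul Subgroup.index_ne_zero_of_finite (Cfsg.Agent.Block.charDeg_pos ζ).ne']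
    simp only [Finsupp.add_apply]
    omega
  by_cases hz : Cfsg.blockHeight p B (χ : G → ℂ) = 0
  · refine Cfsg.Agent.Block.ideal_mul_right hM ((Cfsg.Agent.Block.ideal_natCast_iff hM (a χ)).2
      (hno χ hχB hz (a χ) (ha χ))) (Cfsg.Agent.Block.ring_natDiv hM hm.ne'
        (Cfsg.Agent.Block.charDeg_pos χ).ne' ?_)
    omega
  · refine Cfsg.Agent.Block.ideal_mul_left hM (Cfsg.Agent.Block.ring_natCast hM _)
      (Cfsg.Agent.Block.ideal_natDiv hM hm.ne' (Cfsg.Agent.Block.charDeg_pos χ).ne' ?_)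
    rw [Cfsg.Agent.Block.blockHeight_eq hM hind.2.1 hχB] at hz
    omega

end Cfsg.Agent.S4725
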