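import Cfsg.Statements.S4726
import Cfsg.Agent.Lib.Block.InducedDefect
import Mathlib
-- import your own Cfsg.Agent.* helpers here

set_option autoImplicit false
open Cfsg

namespace Cfsg.Agent.S4726

/-- Let p be a prime, M a maximal ideal of the algebraic integers containing p, H a subgroup of the finite group G and b a p-block of H with defect group D₀ such that C_G(D₀) ≤ H. Then b induces a block of G, and for every block B of G induced by b there is a defect group D of B with Z(D) ≤ Z(D₀) ≤ D₀ ≤ D (as subgroups of G). In particular, if the defect groups of B are abelian then D₀ is a defect group of B. -/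
theorem result {G : Type*} [Group G] [Finite G] (p : ℕ) [Fact p.Prime] (M : Ideal Cfsg.AlgInt) (hM : Cfsg.IsPModular p M) (H : Subgroup G) (b : Set (Cfsg.IrrCharacter ↥H)) (hb : Cfsg.IsPBlock M b) (D₀ : Subgroup ↥H) (hD₀ : Cfsg.IsDefectGroup p M b D₀) (hC : Subgroup.centralizer ((D₀.map H.subtype : Subgroup G) : Set G) ≤ H) : Cfsg.InducedBlockDefined M H b ∧ ∀ B : Set (Cfsg.IrrCharacter G), Cfsg.IsInducedBlock M H b B → (∃ D : Subgroup G, Cfsg.IsDefectGroup p M B D ∧ (Subgroup.center ↥D).map D.subtype ≤ ((Subgroup.center ↥D₀).map D₀.subtype).map H.subtype ∧ ((Subgroup.center ↥D₀).map D₀.subtype).map H.subtype ≤ D₀.map H.subtype ∧ D₀.map H.subtype ≤ D) ∧ (∀ D : Subgroup G, Cfsg.IsDefectGroup p M B D → IsMulCommutative ↥D → Cfsg.IsDefectGroup p M B (D₀.map H.subtype)) := by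
  classical
  haveI := Fintype.ofFinite G
  refine ⟨Cfsg.Agent.Block.IndDefect.induced_defined hM hb hD₀ hC, fun B hB => ?_⟩
  obtain ⟨D, hD, hle, hinf⟩ := Cfsg.Agent.Block.IndDefect.exists_defect hM hB hD₀ hC
  refine ⟨⟨D, hD, ?_, Subgroup.map_mono (Subgroup.map_subtype_le _), hle⟩, fun E hE hcomm => ?_⟩
  · rintro _ ⟨⟨z, hz⟩, hzc, rfl⟩
    have hzC : z ∈ Subgroup.centralizer ((D₀.map H.subtype : Subgroup G) : Set G) := by
      rw [Subgroup.mem_centralizer_iff]
      intro u hu
      exact congrArg Subtype.val (Subgroup.mem_center_iff.1 hzc ⟨u, hle hu⟩)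
    obtain ⟨w, hw, hwz⟩ := hinf ⟨hz, hzC⟩
    refine ⟨w, ⟨⟨w, hw⟩, Subgroup.mem_center_iff.2 fun v => ?_, rfl⟩, hwz⟩
    refine Subtype.ext (Subtype.ext ?_)
    have hv : ((v : ↥H) : G) ∈ D := hle ⟨(v : ↥H), v.2, rfl⟩
    have := congrArg Subtype.val (Subgroup.mem_center_iff.1 hzc ⟨_, hv⟩)
    show ((v : ↥H) : G) * (w : G) = (w : G) * ((v : ↥H) : G)
    simp only [Subgroup.coe_subtype] at hwz
    rw [hwz]
    exact this
  · obtain ⟨x, rfl⟩ := Cfsg.Agent.Block.defectGroup_conj hM hB.2.1 hD hE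
    have hab : ∀ a ∈ D, ∀ c ∈ D, a * c = c * a := fun a ha c hc => by
      have := hcomm.is_comm.comm ⟨_, Subgroup.mem_map_of_mem _ ha⟩ ⟨_, Subgroup.mem_map_of_mem _ hc⟩
      have h' := congrArg Subtype.val this
      simp only [MulMemClass.coe_mul] at h'
      rw [← map_mul, ← map_mul] at h'
      exact (MulAut.conj x).injective h'
    have heq : D₀.map H.subtype = D := le_antisymm hle fun z hz => hinf
      ⟨hz, Subgroup.mem_centralizer_iff.2 fun u hu => hab u (hle hu) z hz⟩
    rw [heq]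
    exact hD

end Cfsg.Agent.S4726
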