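import Cfsg.Agent.Lib.Block.PiKernel
import Cfsg.Statements.S4728
-- import your own Cfsg.Agent.* helpers here

set_option autoImplicit false
open Cfsg

namespace Cfsg.Agent.S4728

/-- Let p be a prime, π a set of primes containing p, M a maximal ideal of the algebraic integers containing p, B a p-block of the finite group G with defect group D, and B₁ the block of N_G(D) with defect group D inducing B. Let D₀ be a p-subgroup, H₀ = D₀·C_G(D₀), and b a block of H₀ inducing B. Write O_π'(X) for the largest normal subgroup of X whose order has no prime divisor in π. Suppose that O_π'(C_G(D₀)) is a normal Hall π'-subgroup of C_G(D₀) (it contains every element of C_G(D₀) whose order has no prime divisor in π) and that every element of it lies in the kernel of every member of b. Then every element of O_π'(N_G(D)) lies in the kernel of every member of B₁. -/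
theorem result {G : Type*} [Group G] [Finite G] (p : ℕ) [Fact p.Prime] (M : Ideal Cfsg.AlgInt) (hM : Cfsg.IsPModular p M) (π : Set ℕ) (hpπ : p ∈ π) (B : Set (Cfsg.IrrCharacter G)) (hB : Cfsg.IsPBlock M B) (D : Subgroup G) (hBD : Cfsg.IsDefectGroup p M B D) (B₁ : Set (Cfsg.IrrCharacter ↥(Subgroup.normalizer (D : Set G)))) (hB₁ : Cfsg.IsInducedBlock M (Subgroup.normalizer (D : Set G)) B₁ B) (hB₁D : Cfsg.IsDefectGroup p M B₁ (D.subgroupOf (Subgroup.normalizer (D : Set G)))) (D₀ : Subgroup G) (hD₀ : IsPGroup p D₀) (H₀ : Subgroup G) (hH₀ : H₀ = D₀ ⊔ Subgroup.centralizer (D₀ : Set G)) (b : Set (Cfsg.IrrCharacter ↥H₀)) (hb : Cfsg.IsInducedBlock M H₀ b B) (hcompl : ∀ x : ↥(Subgroup.centralizer (D₀ : Set G)), (∀ q : ℕ, q.Prime → q ∣ orderOf x → q ∉ π) → x ∈ Cfsg.piCore {q | q ∉ π} ↥(Subgroup.centralizer (D₀ : Set G))) (hkerb : ∀ x : ↥(Subgroup.centralizer (D₀ : Set G)), x ∈ Cfsg.piCore {q | q ∉ π} ↥(Subgroup.centralizer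 (D₀ : Set G)) → ∀ θ ∈ b, ∀ h : ↥H₀, (h : G) = (x : G) → (θ : ↥H₀ → ℂ) h = (θ : ↥H₀ → ℂ) 1) : ∀ n : ↥(Subgroup.normalizer (D : Set G)), n ∈ Cfsg.piCore {q | q ∉ π} ↥(Subgroup.normalizer (D : Set G)) → n ∈ Cfsg.blockKer B₁ := by
  classical
  cases nonempty_fintype G
  have hσ : p ∉ {q : ℕ | q ∉ π} := fun h => h hpπ
  obtain ⟨θ, hθ⟩ := Cfsg.Agent.Block.pblock_nonempty hM hb.1
  obtain ⟨ξ, hξB, hξk⟩ := Cfsg.Agent.Block.exists_ofB_constituent hM hD₀ hH₀ hb hθ
  have h0 : Cfsg.Agent.Block.CoreKer M {q : ℕ | q ∉ π}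
      (⟨D₀, Cfsg.blockOf M (ξ : _ → ℂ)⟩ : Cfsg.BrauerPairIdx G) :=
    Cfsg.Agent.Block.coreKer_of_member hM hσ hξB.1 (Cfsg.Agent.Block.mem_blockOf_self hM ξ)
      fun c hc => hξk ⟨(c : G), hH₀ ▸ Subgroup.mem_sup_right c.2⟩ c rfl
        (hkerb c hc θ hθ _ rfl)
  have hcl : Cfsg.Agent.Block.CoreClosed {q : ℕ | q ∉ π}
      (⟨D₀, Cfsg.blockOf M (ξ : _ → ℂ)⟩ : Cfsg.BrauerPairIdx G) := fun c hc hq =>
    (Cfsg.Agent.Block.mem_piCoreOf_iff (⟨c, hc⟩ : Subgroup.centralizer (D₀ : Set G))).2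
      (hcompl ⟨c, hc⟩ fun q hq' hd => hq q hq' (by rwa [← Subgroup.orderOf_coe] at hd))
  obtain ⟨y, hle, hy⟩ := Cfsg.Agent.Char.BP.exists_max_above hM hξB
  obtain ⟨e, he⟩ := Cfsg.Agent.Block.exists_max_at_defect hM hB hBD
  exact (Cfsg.Agent.Block.coreKer_iff_blockKer hM hσ hBD hB₁ hB₁D he).1
    ((Cfsg.Agent.Block.coreKer_max_iff hM hy he).1
      (Cfsg.Agent.Block.coreKer_ge hM hσ hle hcl h0).2)

end Cfsg.Agent.S4728
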