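import Cfsg.Statements.S4729
import Mathlib
import Cfsg.Agent.Lib.Block.Central
import Cfsg.Agent.Lib.Char.Basic
-- import your own Cfsg.Agent.* helpers here

set_option autoImplicit false
open Cfsg

namespace Cfsg.Agent.S4729

/-- Let p be a prime, M a maximal ideal of the algebraic integers containing p, G a finite perfect group and P a Sylow p-subgroup. If the principal p-block of G contains a faithful irreducible character of degree less than 2p, then the centralizer of P is a p-group. -/
theorem result {G : Type*} [Group G] [Finite G] (p : ℕ) [Fact p.Prime] (M : Ideal Cfsg.AlgInt) (hM : Cfsg.IsPModular p M) (hperf : commutator G = ⊤) (P : Sylow p G) (χ : Cfsg.IrrCharacter G) (hχ : χ ∈ Cfsg.principalBlock M G) (hfaith : ∀ g : G, (χ : G → ℂ) g = (χ : G → ℂ) 1 → g = 1) (hdeg : Cfsg.charDegree (χ : G → ℂ) < 2 * p) : IsPGroup p ↥(Subgroup.centralizer ((P : Subgroup G) : Set G)) := by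
  classical
  obtain ⟨n, ρ, hρ⟩ := Cfsg.Agent.Char.IsIrr.isCharacter χ.2
  have hp := (Fact.out : p.Prime)
  have hd0 : (χ : G → ℂ) 1 = ((n : ℕ) : ℂ) := by
    rw [← hρ, Representation.char_one]
    simp
  have hdn : Cfsg.charDegree (χ : G → ℂ) = n := by
    simp only [Cfsg.charDegree, hd0]
    simp
  rw [hdn] at hdeg
  by_contra hnot
  -- an element of prime order `q ≠ p` centralising `P`
  set C := Subgroup.centralizer ((P : Subgroup G) : Set G) with hCdef
  obtain ⟨q, hq, hqd, hqp⟩ : ∃ q, q.Prime ∧ q ∣ Nat.card ↥C ∧ q ≠ p := by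
    by_contra hno
    push Not at hno
    exact hnot (IsPGroup.of_card (Nat.eq_prime_pow_of_unique_prime_dvd Nat.card_pos.ne'
      (fun {d} hd hdd => hno d hd hdd)))
  haveI := Fact.mk hq
  obtain ⟨⟨x, hxC⟩, hxo⟩ := exists_prime_orderOf_dvd_card' q hqd
  rw [← Subgroup.orderOf_coe] at hxo
  simp only at hxo
  have hpow : ∀ k : ℕ, x ^ k ∈ C := fun k => C.pow_mem hxC k
  -- the congruence
  have hcong : ∀ k : ℕ, Cfsg.MemLocalIdeal M ((χ : G → ℂ) (x ^ k) - (n : ℂ)) := by
    intro k
    have h1 := hχ (x ^ k)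
    have h2 : ¬ p ∣ (Subgroup.centralizer ({x ^ k} : Set G)).index := fun h => by
      have hle : (P : Subgroup G) ≤ Subgroup.centralizer ({x ^ k} : Set G) := fun y hy =>
        Subgroup.mem_centralizer_singleton_iff.mpr (Subgroup.mem_centralizer_iff.mp (hpow k) y hy)
      exact P.not_dvd_index (h.trans (Subgroup.index_dvd_of_le hle))
    have h3 : Cfsg.MemLocalIdeal M (((Subgroup.centralizer ({x ^ k} : Set G)).index : ℂ) *
        ((χ : G → ℂ) (x ^ k) - (n : ℂ))) := by
      have h4 := Cfsg.Agent.Block.ideal_mul_right hM (Cfsg.Agent.Block.ideal_neg h1)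
        (Cfsg.Agent.Block.irr_ring hM χ 1)
      convert h4 using 1
      simp only [Cfsg.centralChar, hd0, mul_one, div_one]
      have : (n : ℂ) ≠ 0 := hd0 ▸ Cfsg.Agent.Char.IsIrr.one_ne_zero χ.2
      field_simp
      ring
    exact (Cfsg.Agent.Block.ideal_or_of_mul hM (Cfsg.Agent.Block.ring_natCast hM _)
      (Cfsg.Agent.Block.ring_sub hM (Cfsg.Agent.Block.irr_ring hM χ _)
        (Cfsg.Agent.Block.ring_natCast hM _)) h3).resolve_left
        (fun h => h2 ((Cfsg.Agent.Block.ideal_natCast_iff hM _).mp h))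
  -- eigenvalues
  obtain ⟨b, c, hb, hc, hk⟩ := Cfsg.Agent.Char.exists_rep_eigenbasis ρ x
  rw [hxo] at hc
  have hcard : Fintype.card (Fin (Module.finrank ℂ (Fin n → ℂ))) = n := by simp
  have hmult : ∀ ε : ℂ, ε ^ q = 1 → ε ≠ 1 → p ∣ (Finset.univ.filter fun i => c i = ε).card := by
    intro ε hε hε1
    have hε0 : ε ≠ 0 := fun e => by rw [e, zero_pow hq.ne_zero] at hε; exact zero_ne_one hε
    have hgeo : ∀ η : ℂ, η ^ q = 1 → ∑ k ∈ Finset.range q, η ^ k = if η = 1 then (q : ℂ) else 0 := by
      intro η hη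
      split_ifs with h1
      · simp [h1]
      · rw [geom_sum_eq h1, hη, sub_self, zero_div]
    have hinv : (ε⁻¹) ^ q = 1 := by rw [inv_pow, hε, inv_one]
    have hsum : ∑ k ∈ Finset.range q, ((χ : G → ℂ) (x ^ k) - (n : ℂ)) * (ε⁻¹) ^ k =
        (q : ℂ) * ((Finset.univ.filter fun i => c i = ε).card : ℂ) := by
      have e1 : ∀ k, (χ : G → ℂ) (x ^ k) = ∑ i, c i ^ k := fun k => by rw [← hρ]; exact hk k
      simp only [sub_mul, Finset.sum_sub_distrib, e1, Finset.sum_mul, ← mul_pow]
      rw [← Finset.mul_sum, hgeo _ hinv, if_neg (fun h => hε1 (inv_eq_one.mp h)), mul_zero, sub_zero,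
        Finset.sum_comm, Finset.sum_congr rfl fun i _ => hgeo _ (by rw [mul_pow, hc, hinv, one_mul])]
      rw [← Finset.sum_filter, Finset.sum_const, nsmul_eq_mul, mul_comm]
      congr 3
      ext i
      simp [mul_inv_eq_one₀ hε0]
    have h5 : Cfsg.MemLocalIdeal M ((q : ℂ) * ((Finset.univ.filter fun i => c i = ε).card : ℂ)) := by
      rw [← hsum]
      refine Cfsg.Agent.Block.ideal_sum hM fun k _ => Cfsg.Agent.Block.ideal_mul_right hM (hcong k) ?_
      exact Cfsg.Agent.Block.ring_of_integral hM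
        (Cfsg.Agent.Char.isIntegral_of_pow_eq_one hq.pos (by rw [← pow_mul, mul_comm, pow_mul, hinv, one_pow]))
    rw [← Nat.cast_mul, Cfsg.Agent.Block.ideal_natCast_iff hM] at h5
    exact (hp.dvd_mul.mp h5).resolve_left fun h => hqp ((Nat.prime_dvd_prime_iff_eq hp hq).mp h).symm
  -- some eigenvalue is nontrivial
  obtain ⟨i₀, hi₀⟩ : ∃ i, c i ≠ 1 := by
    by_contra hno
    push Not at hno
    have : x = 1 := hfaith x (by
      rw [hd0, ← hρ]
      have h1 := hk 1
      simp only [pow_one, hno, Finset.sum_const, Finset.card_univ, hcard, nsmul_eq_mul, mul_one] at h1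
      exact h1)
    rw [this, orderOf_one] at hxo
    exact hq.one_lt.ne hxo
  set ε := c i₀ with hεdef
  set S := Finset.univ.filter fun i => c i = ε with hS
  have hSp : p ∣ S.card := hmult ε (hc i₀) hi₀
  have hS0 : 0 < S.card := Finset.card_pos.mpr ⟨i₀, by simp [hS, hεdef]⟩
  have hSle : S.card ≤ n := (Finset.card_le_univ S).trans hcard.le
  have hSeq : S.card = p := by
    obtain ⟨m, hm⟩ := hSp
    rcases m with _ | _ | m
    · simp [hm] at hS0
    · simpa using hm
    · have : 2 * p ≤ S.card := by rw [hm]; nlinarith [hp.pos]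
      omega
  have hrest : ∀ j, j ∉ S → c j = 1 := by
    intro j hj
    by_contra hj1
    have hd2 := hmult (c j) (hc j) hj1
    have hpos : 0 < (Finset.univ.filter fun i => c i = c j).card := Finset.card_pos.mpr ⟨j, by simp⟩
    have hdis : Disjoint S (Finset.univ.filter fun i => c i = c j) := by
      rw [Finset.disjoint_filter]
      intro i _ h1 h2
      exact hj (by simp [hS, ← h2, h1])
    have h6 := Finset.card_union_of_disjoint hdis
    have h7 : (S ∪ Finset.univ.filter fun i => c i = c j).card ≤ n := (Finset.card_le_univ _).trans hcard.le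
    have h8 := Nat.le_of_dvd hpos hd2
    omega
  -- the determinant
  have hdet : LinearMap.det (ρ x) = 1 := by
    let f : G →* ℂˣ := (LinearMap.det.comp (ρ : G →* Module.End ℂ (Fin n → ℂ))).toHomUnits
    have h1 : x ∈ f.ker := Abelianization.commutator_subset_ker f (by rw [hperf]; trivial)
    exact congrArg Units.val (MonoidHom.mem_ker.mp h1)
  have hprod : LinearMap.det (ρ x) = ∏ i, c i := by
    rw [← LinearMap.det_toMatrix b]
    have : LinearMap.toMatrix b b (ρ x) = Matrix.diagonal c := by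
      ext i j
      rw [LinearMap.toMatrix_apply, hb, map_smul, Module.Basis.repr_self, Finsupp.smul_apply,
        Finsupp.single_apply, Matrix.diagonal_apply]
      by_cases h : i = j
      · subst h; simp
      · simp [h, Ne.symm h]
    rw [this, Matrix.det_diagonal]
  rw [hprod, ← Finset.prod_filter_mul_prod_filter_not Finset.univ (fun i => c i = ε),
    Finset.prod_eq_one (s := Finset.univ.filter fun i => ¬ c i = ε)
      (fun j hj => hrest j (by simpa [hS] using hj)), mul_one,
    Finset.prod_congr rfl (fun i hi => (Finset.mem_filter.mp hi).2), Finset.prod_const] at hdet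
  rw [← hS, hSeq] at hdet
  have h9 : orderOf ε ∣ 1 := by
    have := Nat.dvd_gcd (orderOf_dvd_of_pow_eq_one hdet) (orderOf_dvd_of_pow_eq_one (hc i₀))
    rwa [((Nat.coprime_primes hp hq).mpr hqp.symm)] at this
  exact hi₀ (orderOf_eq_one_iff.mp (Nat.dvd_one.mp h9))

end Cfsg.Agent.S4729
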