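import Cfsg.Statements.S4732
import Cfsg.Agent.Lib.Block.JordanModular.Main

set_option autoImplicit false
universe u v
open Cfsg

namespace Cfsg.Agent.S4732

/-- Let p be a prime. There is a function f of two natural-number arguments such that every finite group G admitting a faithful representation of degree n over a field of characteristic p, with Sylow p-subgroups of order p^m, has a normal abelian subgroup A with [G : A] < f(m, n). -/
theorem result (p : ℕ) [Fact p.Prime] : ∃ f : ℕ → ℕ → ℕ, ∀ (G : Type u) [Group G] [Finite G] (F : Type v) [Field F] [CharP F p] (n : ℕ) (ρ : Representation F G (Fin n → F)), Function.Injective ρ → ∀ m : ℕ, (Nat.card G).factorization p = m → ∃ A : Subgroup G, A.Normal ∧ IsMulCommutative A ∧ A.index < f m n := by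
  classical
  choose J hJ using fun md : ℕ × ℕ =>
    Cfsg.Agent.Block.JordanModular.exists_bound.{u, v, v} p md.1 md.2
  refine ⟨fun m n => J (m, n) + 1, fun G _ _ F _ _ n ρ hρ m hm => ?_⟩
  haveI : CharP (AlgebraicClosure F) p :=
    charP_of_injective_algebraMap (algebraMap F (AlgebraicClosure F)).injective p
  let ρ' : G →* Module.End (AlgebraicClosure F) (Fin n → AlgebraicClosure F) :=
    ((Matrix.toLinAlgEquiv' (R := AlgebraicClosure F) (n := Fin n)).toMonoidHom.comp
      (((algebraMap F (AlgebraicClosure F)).mapMatrix (m := Fin n)).toMonoidHom.comp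
        ((LinearMap.toMatrixAlgEquiv' (R := F) (n := Fin n)).toMonoidHom.comp ρ)))
  have hρ' : Function.Injective ρ' :=
    (Matrix.toLinAlgEquiv'.injective).comp
      ((Matrix.map_injective (algebraMap F (AlgebraicClosure F)).injective).comp
        ((LinearMap.toMatrixAlgEquiv'.injective).comp hρ))
  have hcard : ¬ p ^ (m + 1) ∣ Nat.card G := by
    rw [(Fact.out : p.Prime).pow_dvd_iff_le_factorization Nat.card_pos.ne', hm]
    omega
  obtain ⟨A, hAn, hAc, -, hAi⟩ :=
    hJ (m, n) G (AlgebraicClosure F) (Fin n → AlgebraicClosure F) ρ' hρ' (by simp) hcard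
  exact ⟨A, hAn, ⟨⟨fun a b => Subtype.ext (hAc a a.2 b b.2)⟩⟩, Nat.lt_succ_of_le hAi⟩

end Cfsg.Agent.S4732
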