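import Cfsg.Statements.S4735
import Cfsg.Agent.Lib.Block.PrincipalColumn
import Cfsg.Agent.Lib.Grp.Cores
import Mathlib
-- import your own Cfsg.Agent.* helpers here

set_option autoImplicit false
open Cfsg

namespace Cfsg.Agent.S4735

/-- Let p be a prime, M a maximal ideal of the algebraic integers containing p, G a finite group, H = O_p'(G) and Ḡ = G/H. For x ∈ G write λ(G, x) for the sum of |χ(x)|^2 over the irreducible characters χ in the principal p-block of G. Then λ(G, x) is a positive integer, λ(G, x) = λ(Ḡ, x̄) where x̄ is the image of x, and λ(G, x) ≤ #C_Ḡ(x̄). Moreover λ(G, 1) = [G : H] if and only if the principal block is the only p-block of Ḡ. -/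
theorem result {G : Type*} [Group G] [Finite G] (p : ℕ) [Fact p.Prime] (M : Ideal Cfsg.AlgInt) (hM : Cfsg.IsPModular p M) (x : G) : (∃ n : ℕ, 0 < n ∧ ∑ᶠ χ ∈ Cfsg.principalBlock M G, Complex.normSq ((χ : G → ℂ) x) = n) ∧ ∑ᶠ χ ∈ Cfsg.principalBlock M G, Complex.normSq ((χ : G → ℂ) x) = ∑ᶠ ψ ∈ Cfsg.principalBlock M (G ⧸ Cfsg.pPrimeCore p G), Complex.normSq ((ψ : G ⧸ Cfsg.pPrimeCore p G → ℂ) (QuotientGroup.mk x)) ∧ ∑ᶠ χ ∈ Cfsg.principalBlock M G, Complex.normSq ((χ : G → ℂ) x) ≤ (Nat.card ↥(Subgroup.centralizer ({(QuotientGroup.mk x : G ⧸ Cfsg.pPrimeCore p G)} : Set (G ⧸ Cfsg.pPrimeCore p G))) : ℝ) ∧ ((∑ᶠ χ ∈ Cfsg.principalBlock M G, Cfsg.charDegree (χ : G → ℂ) ^ 2) = (Cfsg.pPrimeCore p G).index ↔ ∀ B : Set (Cfsg.IrrCharacter (G ⧸ Cfsg.pPrimeCore p G)), Cfsg.IsPBlock M B → B = Cfsg.principalBlock M (G ⧸ Cfsg.pPrimeCore p G)) := by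
  classical
  haveI := Fintype.ofFinite G
  set N := Cfsg.pPrimeCore p G with hNdef
  haveI : N.Normal := Cfsg.Agent.Grp.pPrimeCore_isNormal
  haveI := Fintype.ofFinite (G ⧸ N)
  have hN : ¬ p ∣ Nat.card N := Cfsg.Agent.Grp.pPrimeCore_not_dvd
  have hcast : ∀ {K : Type _} [Group K] [Finite K] (y : K),
      ((∑ᶠ χ ∈ Cfsg.principalBlock M K, Complex.normSq ((χ : K → ℂ) y) : ℝ) : ℂ) =
        ∑ᶠ χ ∈ Cfsg.principalBlock M K, (χ : K → ℂ) y * (starRingEnd ℂ) ((χ : K → ℂ) y) := by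
    intro K _ _ y
    haveI := Fintype.ofFinite K
    rw [Cfsg.Agent.Block.finsum_mem_block, Cfsg.Agent.Block.finsum_mem_block, Complex.ofReal_sum]
    exact Finset.sum_congr rfl fun χ _ => (Complex.mul_conj _).symm
  have hquot : ∑ᶠ χ ∈ Cfsg.principalBlock M G, Complex.normSq ((χ : G → ℂ) x) =
      ∑ᶠ ψ ∈ Cfsg.principalBlock M (G ⧸ N), Complex.normSq ((ψ : G ⧸ N → ℂ) (QuotientGroup.mk x)) :=
    Cfsg.Agent.Block.PrinCol.finsum_quotient hM hN _
  refine ⟨?_, hquot, ?_, ?_⟩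
  · obtain ⟨m, hm⟩ := Cfsg.Agent.Block.PrinCol.column_int hM x
    rw [← hcast] at hm
    have hm' : ∑ᶠ χ ∈ Cfsg.principalBlock M G, Complex.normSq ((χ : G → ℂ) x) = (m : ℝ) := by
      have := congrArg Complex.re hm
      simpa using this
    have h1 : (1 : ℝ) ≤ (m : ℝ) := by
      rw [← hm', Cfsg.Agent.Block.finsum_mem_block]
      refine le_trans ?_ (Finset.single_le_sum (fun (χ : Cfsg.IrrCharacter G) _ => Complex.normSq_nonneg ((χ : G → ℂ) x))
        (Finset.mem_filter.2 ⟨Finset.mem_univ (Cfsg.Agent.Block.trivialIrr G),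
          Cfsg.Agent.Block.trivial_mem_principalBlock hM⟩))
      simp [Cfsg.Agent.Block.trivialIrr]
    have h2 : (1 : ℤ) ≤ m := by exact_mod_cast h1
    refine ⟨m.toNat, by omega, ?_⟩
    have h3 : ((m.toNat : ℕ) : ℤ) = m := Int.toNat_of_nonneg (by omega)
    rw [hm']
    exact_mod_cast h3.symm
  · rw [hquot, Cfsg.Agent.Block.finsum_mem_block]
    refine le_trans (Finset.sum_le_sum_of_subset_of_nonneg (Finset.subset_univ _)
      (fun _ _ _ => Complex.normSq_nonneg _)) (le_of_eq ?_)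
    have := Cfsg.Agent.Char.sum_irr_mul_conj (QuotientGroup.mk x : G ⧸ N) (QuotientGroup.mk x)
    rw [if_pos (IsConj.refl _)] at this
    simp only [Complex.mul_conj] at this
    exact_mod_cast this
  · have hdq : ∑ᶠ χ ∈ Cfsg.principalBlock M G, Cfsg.charDegree (χ : G → ℂ) ^ 2 =
        ∑ᶠ ψ ∈ Cfsg.principalBlock M (G ⧸ N), Cfsg.charDegree (ψ : G ⧸ N → ℂ) ^ 2 := by
      rw [Cfsg.Agent.Block.PrinCol.finsum_quotient hM hN]
      refine finsum_mem_congr rfl fun ψ _ => ?_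
      simp [Cfsg.Agent.Block.PrinCol.infl, Cfsg.charDegree]
    have htot : N.index = ∑ ψ : Cfsg.IrrCharacter (G ⧸ N), Cfsg.charDegree (ψ : G ⧸ N → ℂ) ^ 2 := by
      have h := Cfsg.Agent.Char.sum_degree_sq (G := G ⧸ N)
      simp only [Cfsg.Agent.Block.charDeg_spec'] at h
      rw [Subgroup.index_eq_card]
      exact_mod_cast h.symm
    rw [hdq, htot, Cfsg.Agent.Block.finsum_mem_block]
    constructor
    · intro h B hB
      obtain ⟨ψ, hψ⟩ := Cfsg.Agent.Block.pblock_nonempty hM hB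
      have hmem : ψ ∈ Cfsg.principalBlock M (G ⧸ N) := by
        by_contra hno
        refine absurd h (Finset.sum_lt_sum_of_subset (Finset.subset_univ _) (Finset.mem_univ ψ)
          (fun hh => hno (Finset.mem_filter.1 hh).2) (pow_pos (Cfsg.Agent.Block.charDeg_pos ψ) 2)
          fun _ _ _ => Nat.zero_le _).ne
      rw [Cfsg.Agent.Block.pblock_eq_blockOf hM hB hψ,
        Cfsg.Agent.Block.pblock_eq_blockOf hM Cfsg.Agent.Block.isPBlock_principalBlock hmem]
    · intro h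
      refine Finset.sum_congr (Finset.filter_true_of_mem fun ψ _ => ?_) fun _ _ => rfl
      rw [← h _ (Cfsg.Agent.Block.isPBlock_blockOf (M := M) ψ)]
      exact Cfsg.Agent.Block.mem_blockOf_self hM ψ

end Cfsg.Agent.S4735
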