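import Cfsg.Statements.S4736
import Cfsg.Agent.Lib.Block.PPartDerived
import Cfsg.Agent.Lib.Block.PrincipalColumn
import Cfsg.Agent.Lib.Block.Elementary
import Cfsg.Agent.Lib.Block.Covering

set_option autoImplicit false
open Cfsg

namespace Cfsg.Agent.S4736

open Cfsg.Agent Cfsg.Agent.Block
open scoped commutatorElement

/-- Let p be a prime, M a maximal ideal of the algebraic integers containing p, and G a finite p-solvable group with Sylow p-subgroup P. Then P is abelian if and only if every irreducible character in the principal p-block of G has height zero. -/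
theorem result {G : Type*} [Group G] [Finite G] (p : ℕ) [Fact p.Prime] (M : Ideal Cfsg.AlgInt) (hM : Cfsg.IsPModular p M) (hsolv : Cfsg.IsPSolvable p G) (P : Sylow p G) : IsMulCommutative P ↔ ∀ χ ∈ Cfsg.principalBlock M G, Cfsg.blockHeight p (Cfsg.principalBlock M G) (χ : G → ℂ) = 0 := by
  classical
  have hpp : p.Prime := Fact.out
  haveI := Fintype.ofFinite G
  haveI hKn : (Cfsg.pPrimeCore p G).Normal := Grp.pPrimeCore_isNormal
  set K := Cfsg.pPrimeCore p G with hKdef
  have hK : ¬ p ∣ Nat.card K := Grp.pPrimeCore_not_dvd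
  haveI := Fintype.ofFinite (G ⧸ K)
  -- heights in the principal block
  have htriv : (Cfsg.charDegree (trivialIrr G : G → ℂ)).factorization p = 0 := by
    have h1 : Cfsg.charDegree (trivialIrr G : G → ℂ) = 1 := by
      have := charDeg_spec' (trivialIrr G)
      simpa [trivialIrr] using this.symm
    simp [h1]
  have hinf : sInf ((fun ψ : Cfsg.IrrCharacter G => (Cfsg.charDegree (ψ : G → ℂ)).factorization p) ''
      Cfsg.principalBlock M G) = 0 :=
    le_antisymm (htriv ▸ Nat.sInf_le ⟨trivialIrr G, trivial_mem_principalBlock hM, rfl⟩) (Nat.zero_le _)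
  have hheight : ∀ χ : Cfsg.IrrCharacter G,
      Cfsg.blockHeight p (Cfsg.principalBlock M G) (χ : G → ℂ) = 0 ↔
        ¬ p ∣ Cfsg.charDegree (χ : G → ℂ) := by
    intro χ
    rw [Cfsg.blockHeight, hinf, Nat.sub_zero, Nat.factorization_eq_zero_iff]
    constructor
    · rintro (h | h | h)
      · exact absurd hpp h
      · exact h
      · exact absurd h (charDeg_pos χ).ne'
    · exact fun h => Or.inr (Or.inl h)
  -- all characters of the quotient are in its principal block
  have hsK : Cfsg.IsPSolvable p (G ⧸ K) :=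
    Grp.isPSolvable_map hsolv _ (QuotientGroup.mk'_surjective K)
  have hbot : Cfsg.pPrimeCore p (G ⧸ K) = ⊥ := PPartDerived.pPrimeCore_quotient_eq_bot
  have hHH := Grp.centralizer_pCore_le_of_pSolvable hsK hbot
  haveI : (Cfsg.pCore p (G ⧸ K)).Normal := Grp.pCore_isNormal
  have hall : ∀ ψ : Cfsg.IrrCharacter (G ⧸ K), ψ ∈ Cfsg.principalBlock M (G ⧸ K) := fun ψ =>
    pblock_mem_of_sameBlock hM isPBlock_principalBlock (trivial_mem_principalBlock hM)
      (single_block_of_centralizer hM _ Grp.pCore_isPGroup hHH (trivialIrr _) ψ)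
  have hiff : (∀ χ ∈ Cfsg.principalBlock M G,
      Cfsg.blockHeight p (Cfsg.principalBlock M G) (χ : G → ℂ) = 0) ↔
      ∀ ψ : Cfsg.IrrCharacter (G ⧸ K), ¬ p ∣ Cfsg.charDegree (ψ : G ⧸ K → ℂ) := by
    constructor
    · intro h ψ
      exact (hheight (PrinCol.infl ψ)).1 (h _ ((PrinCol.infl_mem_iff hM hK ψ).2 (hall ψ)))
    · intro h χ hχ
      refine (hheight χ).2 ?_
      obtain ⟨ψ, hψ, hval⟩ := Cfsg.Agent.Char.IsIrr.exists_factor_quotient χ.2 K
        (fun k hk => principal_ker_of_coprime hM hK hχ hk)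
      have he : PrinCol.infl (⟨ψ, hψ⟩ : Cfsg.IrrCharacter (G ⧸ K)) = χ := Subtype.ext (funext hval)
      rw [← he]
      exact h ⟨ψ, hψ⟩
  rw [hiff]
  set f := QuotientGroup.mk' K with hf
  set Q := P.mapSurjective (QuotientGroup.mk'_surjective K) with hQ
  have hQmap : (Q : Subgroup (G ⧸ K)) = (P : Subgroup G).map f := Sylow.coe_mapSurjective _ _
  have hPK : ∀ x ∈ (P : Subgroup G), f x = 1 → x = 1 := by
    intro x hx hfx
    obtain ⟨k, hk⟩ := P.isPGroup' ⟨x, hx⟩
    have h1 : orderOf x ∣ p ^ k := orderOf_dvd_iff_pow_eq_one.2 (congrArg Subtype.val hk)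
    have h2 : orderOf x ∣ Nat.card K :=
      Subgroup.orderOf_dvd_natCard _ ((QuotientGroup.eq_one_iff x).1 hfx)
    exact orderOf_eq_one_iff.mp (Nat.eq_one_of_dvd_coprimes
      ((Grp.pPrimeCore_coprime (p := p) (G := G)).symm.pow_left k) h1 h2)
  have hcomm : IsMulCommutative P ↔
      ∀ a ∈ (Q : Subgroup (G ⧸ K)), ∀ b ∈ (Q : Subgroup (G ⧸ K)), a * b = b * a := by
    constructor
    · intro h a ha b hb
      rw [hQmap] at ha hb
      obtain ⟨a', ha', rfl⟩ := ha
      obtain ⟨b', hb', rfl⟩ := hb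
      have h1 : (⟨a', ha'⟩ : P) * ⟨b', hb'⟩ = ⟨b', hb'⟩ * ⟨a', ha'⟩ :=
        h.is_comm.comm _ _
      rw [← map_mul, ← map_mul]
      exact congrArg f (congrArg Subtype.val h1)
    · intro h
      refine ⟨⟨fun a b => Subtype.ext ?_⟩⟩
      show (a : G) * b = b * a
      have h1 := h (f a) (hQmap ▸ Subgroup.mem_map_of_mem f a.2) (f b)
        (hQmap ▸ Subgroup.mem_map_of_mem f b.2)
      rw [← map_mul, ← map_mul] at h1
      have h2 := hPK ((↑a * ↑b) * (↑b * ↑a)⁻¹)
        ((P : Subgroup G).mul_mem ((P : Subgroup G).mul_mem a.2 b.2)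
          ((P : Subgroup G).inv_mem ((P : Subgroup G).mul_mem b.2 a.2)))
        (by rw [map_mul f, map_inv, h1, mul_inv_cancel])
      exact mul_inv_eq_one.mp h2
  rw [hcomm]
  constructor
  · intro hab ψ
    have hQc : (Q : Subgroup (G ⧸ K)) ≤
        Subgroup.centralizer ((Cfsg.pCore p (G ⧸ K) : Subgroup (G ⧸ K)) : Set (G ⧸ K)) :=
      fun x hx => Subgroup.mem_centralizer_iff.mpr fun y hy =>
        hab y (Grp.pCore_le_sylow Q hy) x hx
    have hQeq : (Q : Subgroup (G ⧸ K)) = Cfsg.pCore p (G ⧸ K) :=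
      le_antisymm (hQc.trans hHH) (Grp.pCore_le_sylow Q)
    haveI : (Q : Subgroup (G ⧸ K)).Normal := hQeq ▸ Grp.pCore_isNormal
    haveI := Fintype.ofFinite (Q : Subgroup (G ⧸ K))
    obtain ⟨θ, hθ⟩ := exists_constituent_res (Q : Subgroup (G ⧸ K)) ψ
    have hθ1 : (θ : ↥(Q : Subgroup (G ⧸ K)) → ℂ) 1 = 1 :=
      Cfsg.Agent.Char.IsIrr.one_of_comm (fun a b => Subtype.ext (hab a a.2 b b.2)) θ.2
    obtain ⟨e, he, hdvd⟩ := Cfsg.Agent.Char.Ext.ratio_dvd_index' ψ.2 θ.2 hθ
    rw [hθ1, mul_one, charDeg_spec' ψ, Nat.cast_inj] at he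
    exact fun h => Q.not_dvd_index' Subgroup.FiniteIndex.index_ne_zero
      (h.trans (he ▸ hdvd))
  · intro h a ha b hb
    have h1 := PPartDerived.bound (p := p) _ (G ⧸ K) le_rfl hsK Q
    rw [PPartDerived.nn_eq_zero_iff.mpr h, zero_add, derivedSeries_one, commutator_def] at h1
    have h2 : ⁅(⟨a, ha⟩ : (Q : Subgroup (G ⧸ K))), (⟨b, hb⟩ : (Q : Subgroup (G ⧸ K)))⁆ ∈
        (⊥ : Subgroup (Q : Subgroup (G ⧸ K))) :=
      h1 ▸ Subgroup.commutator_mem_commutator (Subgroup.mem_top _) (Subgroup.mem_top _)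
    exact congrArg Subtype.val (commutatorElement_eq_one_iff_mul_comm.mp (Subgroup.mem_bot.mp h2))

end Cfsg.Agent.S4736
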