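import Cfsg.Agent.Lib.Block.Separated
import Cfsg.Statements.S4737
-- import your own Cfsg.Agent.* helpers here

set_option autoImplicit false
open Cfsg

namespace Cfsg.Agent.S4737

/-- Let G be a finite group of order divisible by 6. Then the number of irreducible characters of G whose degree has the same 2-part as the order of G (the characters of 2-defect zero, each forming a 2-block of defect zero on its own) is at least the number of conjugacy classes of elements of order 3 that normalize no nontrivial 2-subgroup of G. In particular G has a 2-block of defect zero as soon as some element of order 3 normalizes no nontrivial 2-subgroup. -/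
theorem result {G : Type*} [Group G] [Finite G] (h6 : 6 ∣ Nat.card G) : Nat.card {C : ConjClasses G // ∃ g ∈ C.carrier, orderOf g = 3 ∧ ∀ Q : Subgroup G, IsPGroup 2 ↥Q → g ∈ Subgroup.normalizer (Q : Set G) → Q = ⊥} ≤ Nat.card {χ : Cfsg.IrrCharacter G // (Cfsg.charDegree (χ : G → ℂ)).factorization 2 = (Nat.card G).factorization 2} := by
  classical
  haveI : Fact (Nat.Prime 2) := ⟨Nat.prime_two⟩
  have hnorm : ∀ g g' : G, IsConj g g' →
      (∀ Q : Subgroup G, IsPGroup 2 ↥Q → g ∈ Subgroup.normalizer (Q : Set G) → Q = ⊥) →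
      ∀ Q : Subgroup G, IsPGroup 2 ↥Q → g' ∈ Subgroup.normalizer (Q : Set G) → Q = ⊥ := by
    intro g g' hc hg Q hQ hn
    obtain ⟨c, rfl⟩ := isConj_iff.1 hc
    have hmap : (Subgroup.map (MulAut.conj c⁻¹).toMonoidHom Q) = ⊥ := by
      refine hg _ (hQ.map _) (Subgroup.mem_normalizer_iff.2 fun w => ?_)
      have key : ∀ v : G, v ∈ Subgroup.map (MulAut.conj c⁻¹).toMonoidHom Q ↔ c * v * c⁻¹ ∈ Q := by
        intro v
        constructor
        · rintro ⟨q, hq, rfl⟩
          simpa [mul_assoc] using hq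
        · intro hv
          exact ⟨_, hv, by simp [mul_assoc]⟩
      rw [key, key, (Subgroup.mem_normalizer_iff.1 hn (c * w * c⁻¹))]
      simp [mul_assoc]
    exact (Subgroup.map_eq_bot_iff_of_injective _ (MulAut.conj c⁻¹).injective).1 hmap
  have ho3 : ∀ g g' : G, IsConj g g' → orderOf g = 3 → g' ^ 3 = 1 := by
    intro g g' hc hg
    obtain ⟨c, rfl⟩ := isConj_iff.1 hc
    rw [conj_pow, ← hg, pow_orderOf_eq_one, mul_one, mul_inv_cancel]
  let ι := {C : ConjClasses G // ∃ g ∈ C.carrier, orderOf g = 3 ∧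
    ∀ Q : Subgroup G, IsPGroup 2 ↥Q → g ∈ Subgroup.normalizer (Q : Set G) → Q = ⊥}
  show Nat.card ι ≤ _
  let x : ι → G := fun C => C.2.choose
  have hx : ∀ C : ι, ConjClasses.mk (x C) = C.1 ∧ orderOf (x C) = 3 ∧
      ∀ Q : Subgroup G, IsPGroup 2 ↥Q → x C ∈ Subgroup.normalizer (Q : Set G) → Q = ⊥ :=
    fun C => ⟨ConjClasses.mem_carrier_iff_mk_eq.1 C.2.choose_spec.1, C.2.choose_spec.2⟩
  refine Cfsg.Agent.Block.card_le_defectZero_of_separated x (fun C hd => ?_)
    (fun C C' h => Subtype.ext ?_) (fun C C' g h hg hh hgh => ?_)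
  · obtain ⟨t, ht⟩ := exists_prime_orderOf_dvd_card' (G := Subgroup.centralizer ({x C} : Set G)) 2 hd
    have ht' : orderOf (t : G) = 2 := by rw [Subgroup.orderOf_coe]; exact ht
    have hP : IsPGroup 2 (Subgroup.zpowers (t : G)) :=
      IsPGroup.of_card (n := 1) (by rw [Nat.card_zpowers, ht', pow_one])
    have hb := (hx C).2.2 _ hP (Subgroup.mem_normalizer_iff.2 fun w => by
      have hc : Commute (x C) (t : G) :=
        (Subgroup.mem_centralizer_singleton_iff.1 t.2 : (t : G) * x C = x C * t).symm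
      constructor
      · intro hw
        obtain ⟨i, rfl⟩ := Subgroup.mem_zpowers_iff.1 hw
        rw [(hc.zpow_right i).eq, mul_inv_cancel_right]
        exact hw
      · intro hw
        obtain ⟨i, hi⟩ := Subgroup.mem_zpowers_iff.1 hw
        have hwi : w = (t : G) ^ i := by
          calc w = (x C)⁻¹ * (x C * w * (x C)⁻¹) * x C := by group
            _ = (x C)⁻¹ * (t : G) ^ i * x C := by rw [hi]
            _ = (t : G) ^ i := by rw [mul_assoc, ← (hc.zpow_right i).eq, inv_mul_cancel_left]
        exact hwi ▸ Subgroup.zpow_mem _ (Subgroup.mem_zpowers _) i)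
    rw [Subgroup.zpowers_eq_bot] at hb
    rw [hb, orderOf_one] at ht'
    omega
  · rw [← (hx C).1, ← (hx C').1]
    exact ConjClasses.mk_eq_mk_iff_isConj.2 h
  · by_contra hne
    obtain ⟨Q, hQ, hgQ, hQ0⟩ := Cfsg.Agent.Block.exists_twoGroup_of_order_three
      (ho3 _ g hg (hx C).2.1) (ho3 _ h hh (hx C').2.1) hgh hne
    exact hQ0 (hnorm _ g hg (hx C).2.2 Q hQ hgQ)

end Cfsg.Agent.S4737
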