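import Cfsg.Statements.S4740
import Mathlib
import Cfsg.Agent.Lib.Block.ClassMul

set_option autoImplicit false
open Cfsg

namespace Cfsg.Agent.S4740

/-- Let p be an odd prime, G a finite group of even order, x an involution of G and P a subgroup of G of order p ^ c such that no conjugate of x inverts a non-identity element of P. If p ^ a is the p-part of the order of C_G(x), then some irreducible character of G has degree divisible by p ^ (c - a). -/
theorem result {G : Type*} [Group G] [Finite G] (p : ℕ) [Fact p.Prime] (hp2 : p ≠ 2) (hG : Even (Nat.card G)) (x : G) (hx : orderOf x = 2) (P : Subgroup G) (c : ℕ) (hP : Nat.card ↥P = p ^ c) (hinv : ∀ g : G, IsConj x g → ∀ z ∈ P, z ≠ 1 → g * z * g⁻¹ ≠ z⁻¹) (a : ℕ) (ha : (Nat.card ↥(Subgroup.centralizer ({x} : Set G))).factorization p = a) : ∃ χ : Cfsg.IrrCharacter G, p ^ (c - a) ∣ Cfsg.charDegree (χ : G → ℂ) := by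
  classical
  refine Cfsg.Agent.Block.exists_char_pow_dvd p P c hP x x ?_ ?_ a ha
  · have hxi : x⁻¹ = x := by
      rw [inv_eq_iff_mul_eq_one, ← sq, ← hx, pow_orderOf_eq_one]
    rw [hxi]
  · intro g h hgh
    by_contra hne
    have hxi : x⁻¹ = x := by
      rw [inv_eq_iff_mul_eq_one, ← sq, ← hx, pow_orderOf_eq_one]
    set x' := g * x * g⁻¹ with hx'
    have hx'i : x'⁻¹ = x' := by rw [hx', conj_inv, hxi]
    have key : x * (x * x') * x⁻¹ = (x * x')⁻¹ := by
      rw [mul_inv_rev, hx'i, hxi, ← mul_assoc, ← sq, ← hx, pow_orderOf_eq_one, one_mul]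
    refine hinv (h⁻¹ * x * h) (isConj_iff.2 ⟨h⁻¹, by rw [inv_inv]⟩) _ hgh ?_ ?_
    · intro h1
      apply hne
      have := congrArg (fun t => h * t * h⁻¹) h1
      simpa [mul_assoc] using this
    · calc h⁻¹ * x * h * (h⁻¹ * (x * x') * h) * (h⁻¹ * x * h)⁻¹
          = h⁻¹ * (x * (x * x') * x⁻¹) * h := by group
        _ = h⁻¹ * (x * x')⁻¹ * h := by rw [key]
        _ = _ := by group

end Cfsg.Agent.S4740
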