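import Cfsg.Statements.S4742
import Mathlib
import Cfsg.Agent.Lib.Block.ClassMul

set_option autoImplicit false
open Cfsg

namespace Cfsg.Agent.S4742

/-- Let p ≠ q be primes dividing the order of the finite group G, and suppose the centralizer of every non-identity p-element of G has order prime to q. Then either G has an irreducible character of p-defect zero, or for every non-identity q-element z of G there are conjugates g, h of z such that g h⁻¹ is a non-identity p-element. -/
theorem result {G : Type*} [Group G] [Finite G] (p q : ℕ) [Fact p.Prime] [Fact q.Prime] (hppq : p ≠ q) (hpG : p ∣ Nat.card G) (hqG : q ∣ Nat.card G) (hC : ∀ g : G, g ≠ 1 → (∃ k : ℕ, orderOf g = p ^ k) → ¬ q ∣ Nat.card ↥(Subgroup.centralizer ({g} : Set G))) : (∃ χ : Cfsg.IrrCharacter G, (Cfsg.charDegree (χ : G → ℂ)).factorization p = (Nat.card G).factorization p) ∨ ∀ z : G, z ≠ 1 → (∃ k : ℕ, orderOf z = q ^ k) → ∃ g h : G, IsConj z g ∧ IsConj z h ∧ g * h⁻¹ ≠ 1 ∧ ∃ k : ℕ, orderOf (g *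 h⁻¹) = p ^ k := by
  classical
  by_cases hall : ∀ z : G, z ≠ 1 → (∃ k : ℕ, orderOf z = q ^ k) → ∃ g h : G, IsConj z g ∧ IsConj z h ∧ g * h⁻¹ ≠ 1 ∧ ∃ k : ℕ, orderOf (g * h⁻¹) = p ^ k
  · exact Or.inr hall
  left
  push Not at hall
  obtain ⟨z, hz1, ⟨k, hk⟩, hz⟩ := hall
  refine Cfsg.Agent.Block.exists_defect_zero p z z⁻¹ (IsConj.refl _) ?_ ?_
  · intro hdvd
    obtain ⟨u, hu⟩ := exists_prime_orderOf_dvd_card' p hdvd
    have hu' : orderOf (u : G) = p := by rw [Subgroup.orderOf_coe, hu]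
    have hu1 : (u : G) ≠ 1 := fun h => by
      rw [h, orderOf_one] at hu'; exact (Fact.out : p.Prime).ne_one hu'.symm
    refine hC (u : G) hu1 ⟨1, by rw [hu', pow_one]⟩ ?_
    have hz' : z ∈ Subgroup.centralizer ({(u : G)} : Set G) := by
      rw [Subgroup.mem_centralizer_singleton_iff]
      exact (Subgroup.mem_centralizer_singleton_iff.1 u.2).symm
    refine dvd_trans ?_ (orderOf_dvd_natCard (⟨z, hz'⟩ : Subgroup.centralizer ({(u : G)} : Set G)))
    rw [show orderOf (⟨z, hz'⟩ : Subgroup.centralizer ({(u : G)} : Set G)) = orderOf z from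
      (Subgroup.orderOf_coe (⟨z, hz'⟩ : Subgroup.centralizer ({(u : G)} : Set G))).symm, hk]
    rcases k with _ | k
    · rw [pow_zero, orderOf_eq_one_iff] at hk; exact absurd hk hz1
    · exact dvd_pow_self q k.succ_ne_zero
  · intro g ⟨j, hj⟩
    by_contra hne
    refine hz z (g * z * g⁻¹) (IsConj.refl z) (isConj_iff.2 ⟨g, rfl⟩) ?_ j ?_
    · rwa [conj_inv]
    · rwa [conj_inv]

end Cfsg.Agent.S4742
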