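import Cfsg.Statements.S4744
import Mathlib
import Cfsg.Agent.Lib.Block.ClassMul
import Cfsg.Agent.S4738

set_option autoImplicit false
open Cfsg

namespace Cfsg.Agent.S4744

/-- Let p be an odd prime and G a finite group of even order divisible by p in which the centralizer of every non-identity p-element has odd order. Then either G has an irreducible character of p-defect zero, or the normalizer of every Sylow p-subgroup P of G has even order and P is abelian. -/
theorem result {G : Type*} [Group G] [Finite G] (p : ℕ) [Fact p.Prime] (hp2 : p ≠ 2) (hpG : p ∣ Nat.card G) (h2G : 2 ∣ Nat.card G) (hC : ∀ g : G, g ≠ 1 → (∃ k : ℕ, orderOf g = p ^ k) → Odd (Nat.card ↥(Subgroup.centralizer ({g} : Set G)))) : (∃ χ : Cfsg.IrrCharacter G, (Cfsg.charDegree (χ : G → ℂ)).factorization p = (Nat.card G).factorization p) ∨ ∀ P : Sylow p G, Even (Nat.card ↥(Subgroup.normalizer ((P : Subgroup G) : Set G))) ∧ IsMulCommutative ↥(P : Subgroup G) := by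
  classical
  by_cases hd : ∃ χ : IrrCharacter G, (charDegree (χ : G → ℂ)).factorization p = (Nat.card G).factorization p
  · exact Or.inl hd
  refine Or.inr (fun P => ?_)
  have hp : p.Prime := Fact.out
  have h2p : ∀ g : G, orderOf g ≠ 2 * p := by
    intro g hg
    have h1 : orderOf (g ^ 2) = p := by
      rw [orderOf_pow_of_dvd (by norm_num) (by rw [hg]; exact dvd_mul_right _ _), hg,
        Nat.mul_div_cancel_left _ (by norm_num)]
    have h2 : g ^ 2 ≠ 1 := fun h => by rw [h, orderOf_one] at h1; exact hp.ne_one h1.symm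
    have hodd := hC _ h2 ⟨1, by rw [h1, pow_one]⟩
    have hmem : g ^ p ∈ Subgroup.centralizer ({g ^ 2} : Set G) := by
      rw [Subgroup.mem_centralizer_singleton_iff]
      exact (Commute.pow_pow (Commute.refl g) p 2).eq
    have h3 : orderOf (g ^ p) = 2 := by
      rw [orderOf_pow_of_dvd hp.ne_zero (by rw [hg]; exact dvd_mul_left _ _), hg,
        Nat.mul_div_cancel _ hp.pos]
    have := orderOf_dvd_natCard (⟨g ^ p, hmem⟩ : Subgroup.centralizer ({g ^ 2} : Set G))
    rw [← Subgroup.orderOf_coe, Subgroup.coe_mk, h3] at this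
    exact (Nat.not_even_iff_odd.2 hodd) (even_iff_two_dvd.2 this)
  have hG : Even (Nat.card G) := even_iff_two_dvd.2 h2G
  refine ⟨?_, ?_⟩
  · obtain ⟨t₀, ht₀⟩ := exists_prime_orderOf_dvd_card' 2 h2G
    obtain ⟨g, ho, hinv⟩ := S4738.inverted_sylow p hp2 h2p hd P t₀ ht₀
    set t := g * t₀ * g⁻¹
    have htN : t ∈ Subgroup.normalizer ((P : Subgroup G) : Set G) := by
      rw [Subgroup.mem_normalizer_iff]
      intro u
      refine ⟨fun hu => by rw [hinv u hu]; exact (P : Subgroup G).inv_mem hu, fun hu => ?_⟩
      have h1 := hinv _ hu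
      have ht2 : t * t = 1 := by rw [← sq, ← ho, pow_orderOf_eq_one]
      have : t * (t * u * t⁻¹) * t⁻¹ = u := by
        calc t * (t * u * t⁻¹) * t⁻¹ = (t * t) * u * (t * t)⁻¹ := by group
          _ = u := by rw [ht2]; group
      rw [this] at h1
      rw [h1]
      exact (P : Subgroup G).inv_mem hu
    have := orderOf_dvd_natCard (⟨t, htN⟩ : Subgroup.normalizer ((P : Subgroup G) : Set G))
    rw [← Subgroup.orderOf_coe, Subgroup.coe_mk, ho] at this
    exact even_iff_two_dvd.2 this
  · rcases S4738.result p hp2 hG h2p with h | h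
    · exact absurd h hd
    · exact h.1 P

end Cfsg.Agent.S4744
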