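import Cfsg.Statements.S4746
import Cfsg.Agent.S4738
import Cfsg.Agent.Lib.Block.RealOddCentralizer

set_option autoImplicit false
open Cfsg

namespace Cfsg.Agent.S4746

/-- Let p be an odd prime and G a finite group of even order divisible by p in which the centralizer of every non-identity p-element has odd order. Then G has an irreducible character of p-defect zero or an irreducible character of even degree. -/
theorem result {G : Type*} [Group G] [Finite G] (p : ℕ) [Fact p.Prime] (hp2 : p ≠ 2) (hpG : p ∣ Nat.card G) (h2G : 2 ∣ Nat.card G) (hC : ∀ g : G, g ≠ 1 → (∃ k : ℕ, orderOf g = p ^ k) → Odd (Nat.card ↥(Subgroup.centralizer ({g} : Set G)))) : (∃ χ : Cfsg.IrrCharacter G, (Cfsg.charDegree (χ : G → ℂ)).factorization p = (Nat.card G).factorization p) ∨ ∃ χ : Cfsg.IrrCharacter G, Even (Cfsg.charDegree (χ : G → ℂ)) := by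
  classical
  by_cases hd : ∃ χ : IrrCharacter G, (charDegree (χ : G → ℂ)).factorization p = (Nat.card G).factorization p
  · exact Or.inl hd
  refine Or.inr ?_
  have hp : p.Prime := Fact.out
  have h2p : ∀ g : G, orderOf g ≠ 2 * p := by
    intro g hg
    have h1 : orderOf (g ^ 2) = p := by
      rw [orderOf_pow_of_dvd (by norm_num) (by rw [hg]; exact dvd_mul_right _ _), hg,
        Nat.mul_div_cancel_left _ (by norm_num)]
    have h2 : g ^ 2 ≠ 1 := fun h => by rw [h, orderOf_one] at h1; exact hp.ne_one h1.symm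
    have hodd := hC _ h2 ⟨1, by rw [h1, pow_one]⟩
    have hmem : g ^ p ∈ Subgroup.centralizer ({g ^ 2} : Set G) := by
      rw [Subgroup.mem_centralizer_singleton_iff]
      exact (Commute.pow_pow (Commute.refl g) p 2).eq
    have h3 : orderOf (g ^ p) = 2 := by
      rw [orderOf_pow_of_dvd hp.ne_zero (by rw [hg]; exact dvd_mul_left _ _), hg,
        Nat.mul_div_cancel _ hp.pos]
    have := Subgroup.orderOf_dvd_natCard _ hmem
    rw [h3] at this
    exact (Nat.not_even_iff_odd.2 hodd) (even_iff_two_dvd.2 this)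
  obtain ⟨P⟩ : Nonempty (Sylow p G) := inferInstance
  obtain ⟨t₀, ht₀⟩ := exists_prime_orderOf_dvd_card' 2 h2G
  obtain ⟨g, -, hinv⟩ := S4738.inverted_sylow p hp2 h2p hd P t₀ ht₀
  obtain ⟨u, hu, hu1⟩ := (Subgroup.bot_or_exists_ne_one (P : Subgroup G)).resolve_left
    (S4738.sylow_ne_bot p hd P)
  obtain ⟨k, hk⟩ := P.isPGroup'.exists_orderOf_eq_pow ⟨u, hu⟩
  rw [Subgroup.orderOf_mk] at hk
  exact Cfsg.Agent.Block.exists_even_degree_of_real hu1
    (isConj_iff.mpr ⟨g * t₀ * g⁻¹, hinv u hu⟩) (hC u hu1 ⟨k, hk⟩)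

end Cfsg.Agent.S4746
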