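import Cfsg.Statements.S4750
import Cfsg.Agent.Lib.Block.TIFixed
import Cfsg.Agent.Lib.Block.ClassMul
import Cfsg.Agent.Lib.Char.Quotient
import Mathlib
-- import your own Cfsg.Agent.* helpers here

set_option autoImplicit false
open scoped Pointwise
open Cfsg

namespace Cfsg.Agent.S4750

/-- Let P be a Sylow p-subgroup of the finite group G that meets each conjugate g P g⁻¹ with g outside N_G(P) trivially, χ a character of G with χ(1)² ≤ |P|, and H a subgroup of G containing N_G(P). Then the inner product of χ with itself over G equals the inner product over H of the restriction of χ to H. -/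
theorem result {G : Type*} [Group G] [Fintype G] [DecidableEq G] (p : ℕ) [Fact p.Prime] (P : Sylow p G) (hTI : ∀ g : G, g ∉ Subgroup.normalizer ((P : Subgroup G) : Set G) → (P : Subgroup G) ⊓ (MulAut.conj g • (P : Subgroup G)) = ⊥) (χ : G → ℂ) (hχ : Cfsg.IsCharacter G χ) (hdeg : Cfsg.charDegree χ ^ 2 ≤ Nat.card ↥(P : Subgroup G)) (H : Subgroup G) [Fintype ↥H] (hH : Subgroup.normalizer ((P : Subgroup G) : Set G) ≤ H) : Cfsg.classInner χ χ = Cfsg.classInner (fun h : ↥H => χ h) (fun h : ↥H => χ h) := by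
  classical
  have hH' := hH
  have htI : ∀ (G : Type _) [Group G] [Finite G], Cfsg.IsIrrCharacter G (fun _ : G => (1 : ℂ)) :=
    fun G _ _ => Cfsg.Agent.Char.isIrr_one
  set N := Subgroup.normalizer ((P : Subgroup G) : Set G) with hN
  set one : Cfsg.IrrCharacter G := ⟨fun _ => 1, htI G⟩ with hone
  set η : G → ℂ := χ * fun g => (starRingEnd ℂ) (χ g) with hη
  have hηc : Cfsg.IsCharacter G η := Cfsg.Agent.Char.IsChar.mul hχ (Cfsg.Agent.Char.IsChar.conj hχ)
  have hG : Cfsg.classInner χ χ = Cfsg.classInner η (one : G → ℂ) := by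
    simp [Cfsg.classInner, hη, hone]
  have hHc : Cfsg.classInner (fun h : ↥H => χ h) (fun h : ↥H => χ h) =
      Cfsg.classInner (fun h : ↥H => η h) (fun _ => 1) := by
    simp [Cfsg.classInner, hη]
  obtain ⟨a, ha, hdec⟩ := Cfsg.Agent.Char.IsChar.exists_decomp_inner hηc
  obtain ⟨d, hd⟩ := Cfsg.Agent.Char.IsChar.one_eq_nat hχ
  have hdd : Cfsg.charDegree χ = d := by
    simp [Cfsg.charDegree, hd]
  -- the degrees of the constituents
  have hsq : d * d = ∑ φ : Cfsg.IrrCharacter G, a φ * Cfsg.charDegree (φ : G → ℂ) := by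
    have := congrFun hdec 1
    rw [Cfsg.Agent.Char.sum_irr_apply] at this
    simp only [hη, Pi.mul_apply, hd, Complex.conj_natCast, Cfsg.Agent.Block.charDeg_spec'] at this
    exact_mod_cast this
  have ha1 : d ≠ 0 → a one ≠ 0 := fun hd0 h0 => by
    have h1 := ha one
    rw [h0, ← hG, Nat.cast_zero, Cfsg.Agent.Char.classInner_self_eq_zero] at h1
    exact hd0 (by simpa [hd] using congrFun h1 1)
  have hval : ∀ g : G, η g = ∑ φ : Cfsg.IrrCharacter G, (a φ : ℂ) * (φ : G → ℂ) g := fun g => by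
    rw [hdec, Cfsg.Agent.Char.sum_irr_apply]
  have hexp : Cfsg.classInner (fun h : ↥H => η h) (fun _ => 1) = ∑ φ : Cfsg.IrrCharacter G,
      (a φ : ℂ) * Cfsg.classInner (fun h : ↥H => (φ : G → ℂ) h) (fun _ => 1) := by
    simp only [Cfsg.classInner, map_one, mul_one, hval, Finset.mul_sum]
    rw [Finset.sum_comm]
    exact Finset.sum_congr rfl fun φ _ => Finset.sum_congr rfl fun h _ => by ring
  rw [hG, hHc, hexp, Finset.sum_eq_single one]
  · rw [show (fun h : ↥H => (one : G → ℂ) h) = fun _ => (1 : ℂ) from rfl,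
      Cfsg.Agent.Char.classInner_self_irr (htI ↥H), mul_one, ha one]
  swap
  · exact fun h => absurd (Finset.mem_univ _) h
  intro φ _ hφ1
  by_cases hφ0 : a φ = 0
  · simp [hφ0]
  suffices hz : Cfsg.classInner (fun h : ↥H => (φ : G → ℂ) h) (fun _ => 1) = 0 by rw [hz, mul_zero]
  have hlt : Cfsg.charDegree (φ : G → ℂ) < Nat.card (P : Subgroup G) := by
    have hle : a one * Cfsg.charDegree (one : G → ℂ) + a φ * Cfsg.charDegree (φ : G → ℂ) ≤ d * d := by
      rw [hsq, ← Finset.sum_pair (f := fun ψ : Cfsg.IrrCharacter G => a ψ * Cfsg.charDegree (ψ : G → ℂ))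
        hφ1.symm]
      exact Finset.sum_le_sum_of_subset_of_nonneg (Finset.subset_univ _) fun _ _ _ => Nat.zero_le _
    have hφpos : 0 < a φ * Cfsg.charDegree (φ : G → ℂ) :=
      Nat.mul_pos (Nat.pos_of_ne_zero hφ0) (Cfsg.Agent.Block.charDeg_pos φ)
    have hd0 : d ≠ 0 := fun h => by rw [h, Nat.mul_zero] at hle; omega
    have h1 : 0 < a one * Cfsg.charDegree (one : G → ℂ) :=
      Nat.mul_pos (Nat.pos_of_ne_zero (ha1 hd0)) (Cfsg.Agent.Block.charDeg_pos one)
    have h2 : Cfsg.charDegree (φ : G → ℂ) ≤ a φ * Cfsg.charDegree (φ : G → ℂ) :=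
      Nat.le_mul_of_pos_left _ (Nat.pos_of_ne_zero hφ0)
    rw [hdd, sq] at hdeg
    omega
  haveI := Fintype.ofFinite N
  obtain ⟨n, ρ, hρ⟩ := Cfsg.Agent.Block.irr_isChar φ
  have hn : n = Cfsg.charDegree (φ : G → ℂ) := by
    have h := Cfsg.Agent.Block.charDeg_spec' φ
    rw [← hρ, Representation.char_one, Module.finrank_fin_fun] at h
    rw [hρ] at h
    exact_mod_cast h
  set R : G →* Matrix (Fin n) (Fin n) ℂ :=
    (LinearMap.toMatrixAlgEquiv' (R := ℂ) (n := Fin n)).toAlgHom.toMonoidHom.comp ρ with hR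
  have hRt : ∀ g, (R g).trace = (φ : G → ℂ) g := fun g => by
    rw [← hρ]
    show (LinearMap.toMatrix' (ρ g)).trace = LinearMap.trace ℂ _ (ρ g)
    rw [LinearMap.trace_eq_matrix_trace ℂ (Pi.basisFun ℂ (Fin n)), LinearMap.toMatrix_eq_toMatrix']
  have h0 : (∑ g, R g).trace = 0 := by
    rw [Matrix.trace_sum]
    simp only [hRt]
    have h := Cfsg.Agent.Char.classInner_irr_ne φ.2 one.2 (fun e => hφ1 (Subtype.ext e))
    simp only [Cfsg.classInner, hone, map_one, mul_one, mul_eq_zero, inv_eq_zero, Nat.cast_eq_zero] at h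
    exact h.resolve_left Nat.card_pos.ne'
  have hfix := Cfsg.Agent.Block.TIFixed.no_fixed P hTI (hn ▸ hlt) R h0
  simp only [hRt] at hfix
  obtain ⟨b, hb, hbdec⟩ := Cfsg.Agent.Char.IsChar.exists_decomp_inner
    (Cfsg.Agent.Char.IsChar.res (Cfsg.Agent.Block.irr_isChar φ) H)
  set oneH : Cfsg.IrrCharacter ↥H := ⟨fun _ => 1, htI ↥H⟩
  have hterm : ∀ ξ : Cfsg.IrrCharacter ↥H, ∃ c : ℕ,
      ∑ x : N, (ξ : ↥H → ℂ) (Subgroup.inclusion hH' x) = (Nat.card N : ℂ) * c := by
    intro ξ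
    obtain ⟨c, hc⟩ := Cfsg.Agent.Char.IsChar.classInner_nat
      (Cfsg.Agent.Char.IsChar.comp (Subgroup.inclusion hH') (Cfsg.Agent.Block.irr_isChar ξ))
      (Cfsg.Agent.Char.IsIrr.isCharacter (htI ↥N))
    refine ⟨c, ?_⟩
    rw [← hc, Cfsg.classInner, ← mul_assoc, mul_inv_cancel₀ (Nat.cast_ne_zero.2 Nat.card_pos.ne'), one_mul]
    simp
  choose c hc using hterm
  have hsum : (0 : ℂ) = (Nat.card N : ℂ) * ((∑ ξ : Cfsg.IrrCharacter ↥H, b ξ * c ξ : ℕ) : ℂ) := by
    rw [← hfix]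
    push_cast
    rw [Finset.mul_sum]
    simp only [mul_left_comm (Nat.card N : ℂ), ← hc, Finset.mul_sum]
    rw [Finset.sum_comm]
    refine Finset.sum_congr rfl fun x _ => ?_
    have := congrFun hbdec (Subgroup.inclusion hH' x)
    rw [Cfsg.Agent.Char.sum_irr_apply] at this
    exact this
  rw [eq_comm, mul_eq_zero, Nat.cast_eq_zero, Nat.cast_eq_zero, Finset.sum_eq_zero_iff] at hsum
  have h1 := (hsum.resolve_left Nat.card_pos.ne') oneH (Finset.mem_univ _)
  have hc1 : c oneH = 1 := by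
    have h := hc oneH
    rw [show ∑ x : N, (oneH : ↥H → ℂ) (Subgroup.inclusion hH' x) = (Nat.card N : ℂ) * 1 by
      simp [oneH, Nat.card_eq_fintype_card]] at h
    exact_mod_cast (mul_left_cancel₀ (Nat.cast_ne_zero.2 Nat.card_pos.ne') h).symm
  rw [hc1, mul_one] at h1
  rw [show Cfsg.classInner (fun h : ↥H => (φ : G → ℂ) h) (fun _ => 1) = (b oneH : ℂ) from hb oneH, h1,
    Nat.cast_zero]

end Cfsg.Agent.S4750
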