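import Cfsg.Statements.S4751
import Cfsg.Agent.Lib.Block.RootSingular.SymFour
import Cfsg.Agent.Lib.Grp.Cores

set_option autoImplicit false
open Cfsg

namespace Cfsg.Agent.S4751

/-- Let χ be a faithful, non-linear irreducible character of the finite group G (χ g = χ 1 only for g = 1, χ 1 ≠ 1) whose value at every element of order divisible by p is a root of unity, and suppose P = O_p(G) ≠ 1. Then either P is an elementary abelian Sylow p-subgroup of G, C_G(P) is the internal direct product of P and Z(G), G acts transitively by conjugation on the non-principal linear characters of P, and χ 1 = |P| − 1; or p = 2 and G is the internal direct product of a subgroup isomorphic to the symmetric group S₄ and the centre Z(G), which has odd order. -/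
theorem result {G : Type*} [Group G] [Finite G] (p : ℕ) [Fact p.Prime] (χ : Cfsg.IrrCharacter G) (hfaith : ∀ g : G, (χ : G → ℂ) g = (χ : G → ℂ) 1 → g = 1) (hnl : (χ : G → ℂ) 1 ≠ 1) (hroot : ∀ g : G, p ∣ orderOf g → ∃ n : ℕ, 0 < n ∧ ((χ : G → ℂ) g) ^ n = 1) (hP : Cfsg.pCore p G ≠ ⊥) : ((Nat.card ↥(Cfsg.pCore p G)).factorization p = (Nat.card G).factorization p ∧ Cfsg.IsElementaryAbelian p (Cfsg.pCore p G) ∧ Subgroup.centralizer ((Cfsg.pCore p G : Subgroup G) : Set G) = Cfsg.pCore p G ⊔ Subgroup.center G ∧ Cfsg.pCore p G ⊓ Subgroup.center G = ⊥ ∧ (∀ lam mu : ↥(Cfsg.pCore p G) → ℂ, Cfsg.IsCharacter ↥(Cfsg.pCore p G) lam → lam 1 = 1 → lam ≠ (fun _ => (1 : ℂ)) → Cfsg.IsCharacter ↥(Cfsg.pCore p G) mu → mu 1 = 1 → mu ≠ (fun _ => (1 : ℂ)) → ∃ g : G, ∀ (x : G) (hx : x ∈ Cfsg.pCore p G) (hgx : g * x * g⁻¹ ∈ Cfsg.pCore p G), mu ⟨x, hx⟩ = lam ⟨g * x * g⁻¹, hgx⟩) ∧ (χ : G → ℂ) 1 = (Nat.card ↥(Cfsg.pCore p G) : ℂ) - 1) ∨ (p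 = 2 ∧ Odd (Nat.card ↥(Subgroup.center G)) ∧ ∃ H : Subgroup G, Nonempty (↥H ≃* Equiv.Perm (Fin 4)) ∧ H ⊓ Subgroup.center G = ⊥ ∧ H ⊔ Subgroup.center G = ⊤) := by
  classical
  obtain ⟨d, hd0, hd⟩ := Cfsg.Agent.Char.IsIrr.one_eq_pos χ.2
  have hd2 : 2 ≤ d := by
    by_contra hlt
    exact hnl (by rw [hd, show d = 1 by omega, Nat.cast_one])
  have h : Cfsg.Agent.Block.RootSingular.Hyp p (χ : G → ℂ) d := ⟨χ.2, hfaith, hd, hd2, fun g hg => by
    obtain ⟨n, hn, hn'⟩ := hroot g hg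
    exact Complex.norm_eq_one_of_pow_eq_one hn' hn.ne'⟩
  haveI : (Cfsg.pCore p G).Normal := Cfsg.Agent.Grp.pCore_isNormal
  have hPp : IsPGroup p ↥(Cfsg.pCore p G) := Cfsg.Agent.Grp.pCore_isPGroup
  obtain ⟨hcard, -⟩ := h.card_P hPp hP
  have hC := h.centralizer_eq hPp hP
  have hPZ := h.center_trivial hPp
  obtain ⟨Q, hQ⟩ := hPp.exists_le_sylow
  rcases h.sylow_alt hPp hP Q.isPGroup' hQ with e | ⟨rfl, hP4, -, hout, s, hsQ, hsP, hss⟩
  · left
    obtain ⟨-, -, htrans⟩ := h.abelian_normal hPp hP (h.pGroup_comm hPp hP)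
    refine ⟨?_, ⟨⟨⟨fun a b => Subtype.ext (h.pGroup_comm hPp hP a a.2 b b.2)⟩⟩,
      h.pGroup_pow hPp hP⟩, hC, hPZ, ?_, ?_⟩
    · rw [← e, Sylow.card_eq_multiplicity, Nat.Prime.factorization_pow Fact.out,
        Finsupp.single_eq_same]
    · intro lam mu hlam hl1 hlne hmu hm1 hmne
      obtain ⟨l, hl⟩ := Cfsg.Agent.Char.linearHom_of_isCharacter hlam hl1
      obtain ⟨m, hm⟩ := Cfsg.Agent.Char.linearHom_of_isCharacter hmu hm1
      obtain ⟨g, hg⟩ := htrans lam mu (hl ▸ Cfsg.Agent.Char.isIrr_linear l)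
        (hm ▸ Cfsg.Agent.Char.isIrr_linear m) hlne hmne
      exact ⟨g, fun x hx hgx => (congrFun hg ⟨x, hx⟩).symm⟩
    · rw [hd, ← hcard, Nat.cast_add, Nat.cast_one, add_sub_cancel_right]
  · right
    have hodd : Odd (Nat.card ↥(Subgroup.center G)) := by
      rw [Nat.odd_iff, Nat.two_dvd_ne_zero.symm]
      intro hdvd
      obtain ⟨z, hz⟩ := exists_prime_orderOf_dvd_card' 2 hdvd
      have hzp : IsPGroup 2 ↥(Subgroup.zpowers (z : G)) :=
        IsPGroup.of_card (n := 1) (by rw [Nat.card_zpowers, Subgroup.orderOf_coe, hz, pow_one])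
      have hzn : (Subgroup.zpowers (z : G)).Normal := ⟨fun a ha g => by
        have : a ∈ Subgroup.center G := Subgroup.zpowers_le.mpr z.2 ha
        rwa [Subgroup.mem_center_iff.mp this g, mul_inv_cancel_right]⟩
      have := (Subgroup.eq_bot_iff_forall _).mp hPZ z (Subgroup.mem_inf.mpr
        ⟨Cfsg.Agent.Grp.le_pCore hzn hzp (Subgroup.mem_zpowers _), z.2⟩)
      rw [← Subgroup.orderOf_coe, this, orderOf_one] at hz
      omega
    exact ⟨rfl, hodd, Cfsg.Agent.Block.RootSingular.symFour hP4 hPZ hodd hC hss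
      (hout s hsQ hsP)⟩

end Cfsg.Agent.S4751
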