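import Cfsg.Statements.S4757
import Cfsg.Agent.Lib.Block.ClassMul
import Cfsg.Agent.Lib.Char.Complete
import Cfsg.Agent.Lib.Char.Constituent
import Cfsg.Agent.Lib.Grp.Cores
import Mathlib
-- import your own Cfsg.Agent.* helpers here

set_option autoImplicit false
open Cfsg

namespace Cfsg.Agent.S4757

/-- Let u ≠ 1 be an element of the finite group G and c a complex number such that every non-principal irreducible character χ satisfies χ(1) − χ(u) = c or χ(u) = 0. Then the following are equivalent: (a) u has order 2, G is generated by u together with O(G), the largest normal subgroup of G of odd order, and the centralizer of u is {1, u}; (b) G is not perfect; (c) c = 2. -/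
theorem result {G : Type*} [Group G] [Finite G] (u : G) (hu : u ≠ 1) (c : ℂ) (hyp : ∀ χ : Cfsg.IrrCharacter G, (χ : G → ℂ) ≠ (fun _ => (1 : ℂ)) → ((χ : G → ℂ) 1 - (χ : G → ℂ) u = c ∨ (χ : G → ℂ) u = 0)) : ((orderOf u = 2 ∧ Subgroup.zpowers u ⊔ Cfsg.oddCore G = ⊤ ∧ Subgroup.centralizer ({u} : Set G) = Subgroup.zpowers u) ↔ commutator G ≠ ⊤) ∧ (commutator G ≠ ⊤ ↔ c = 2) := by
  classical
  haveI := Fintype.ofFinite G
  set one : Cfsg.IrrCharacter G := ⟨fun _ => 1, Cfsg.Agent.Char.isIrr_one⟩ with hone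
  have hnp : ∀ χ : Cfsg.IrrCharacter G, χ ≠ one →
      ((χ : G → ℂ) u = (Cfsg.charDegree (χ : G → ℂ) : ℂ) - c ∨ (χ : G → ℂ) u = 0) := fun χ hχ =>
    (hyp χ fun h => hχ (Subtype.ext h)).imp_left fun h => by
      rw [← Cfsg.Agent.Block.charDeg_spec' χ, ← h]; ring
  have horth : ∑ χ : Cfsg.IrrCharacter G, (Cfsg.charDegree (χ : G → ℂ) : ℂ) * (χ : G → ℂ) u = 0 := by
    have h := Cfsg.Agent.Char.sum_irr_mul_conj u (1 : G)
    rw [if_neg (fun h => hu (isConj_one_left.1 h))] at h
    rw [← h]
    exact Finset.sum_congr rfl fun χ _ => by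
      rw [Cfsg.Agent.Block.charDeg_spec' χ, Complex.conj_natCast, mul_comm]
  have hlin : ∀ l : G →* ℂˣ, l ≠ 1 → ∃ χ : Cfsg.IrrCharacter G, χ ≠ one ∧
      Cfsg.charDegree (χ : G → ℂ) = 1 ∧ (∀ g, (χ : G → ℂ) g = (l g : ℂ)) ∧ (l u : ℂ) = 1 - c := by
    intro l hl
    set χ : Cfsg.IrrCharacter G := ⟨fun g => (l g : ℂ), Cfsg.Agent.Char.isIrr_linear l⟩
    have hne : χ ≠ one := fun h => hl (MonoidHom.ext fun g => Units.ext (congrFun (congrArg Subtype.val h) g))
    have hd : Cfsg.charDegree (χ : G → ℂ) = 1 := by simp [χ, Cfsg.charDegree]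
    refine ⟨χ, hne, hd, fun g => rfl, ?_⟩
    rcases hnp χ hne with h | h
    · rw [hd, Nat.cast_one] at h; exact h
    · exact absurd h (l u).ne_zero
  have hb2 : commutator G ≠ ⊤ → c = 2 := by
    intro hG
    obtain ⟨a, ha⟩ : ∃ a : Abelianization G, a ≠ 1 := by
      by_contra hall
      push Not at hall
      exact hG (eq_top_iff.2 fun g _ => (QuotientGroup.eq_one_iff g).1 (hall (Abelianization.of g)))
    obtain ⟨l₀, hl₀⟩ : ∃ l₀ : Abelianization G →* ℂˣ, l₀ a ≠ 1 := by
      by_contra hall
      push Not at hall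
      exact ha (Cfsg.Agent.Char.eq_one_of_forall_linear mul_comm hall)
    set l : G →* ℂˣ := l₀.comp Abelianization.of with hl
    have hne : l ≠ 1 := fun h' => by
      obtain ⟨g, rfl⟩ := QuotientGroup.mk_surjective a
      exact hl₀ (DFunLike.congr_fun h' g)
    obtain ⟨χ, -, -, -, hv⟩ := hlin l hne
    have hc0 : c ≠ 0 := by
      intro hc
      have hre : ∀ ψ : Cfsg.IrrCharacter G,
          0 ≤ ((Cfsg.charDegree (ψ : G → ℂ) : ℂ) * (ψ : G → ℂ) u).re := fun ψ => by
        by_cases hψ : ψ = one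
        · subst hψ; simp [hone]
        rcases hnp ψ hψ with h | h <;> simp [h, hc, mul_self_nonneg]
      have h1 := congrArg Complex.re horth
      rw [Complex.re_sum, Complex.zero_re] at h1
      have h2 := (Finset.sum_eq_zero_iff_of_nonneg fun ψ _ => hre ψ).1 h1 one (Finset.mem_univ _)
      simp [hone, Cfsg.charDegree] at h2
    have hsq : l * l = 1 := by
      by_contra hne2
      obtain ⟨-, -, -, -, hv2⟩ := hlin (l * l) hne2
      rw [MonoidHom.mul_apply, Units.val_mul, hv] at hv2
      exact hc0 (by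
        have h3 : (1 - c) * (1 - c - 1) = 0 := by linear_combination hv2
        rcases mul_eq_zero.1 h3 with h | h
        · exact absurd (hv.trans h) (l u).ne_zero
        · linear_combination -h)
    have hvv : (1 - c) * (1 - c) = 1 := by
      rw [← hv, ← Units.val_mul, ← MonoidHom.mul_apply, hsq]; rfl
    have h3 : c * (c - 2) = 0 := by linear_combination hvv
    exact sub_eq_zero.1 ((mul_eq_zero.1 h3).resolve_left hc0)
  have hc2 : c = 2 → ∃ l : G →* ℂˣ, l ≠ 1 ∧ (l u : ℂ) = -1 := by
    intro hc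
    by_contra hno
    push Not at hno
    have hre : ∀ ψ : Cfsg.IrrCharacter G,
        0 ≤ ((Cfsg.charDegree (ψ : G → ℂ) : ℂ) * (ψ : G → ℂ) u).re := fun ψ => by
      by_cases hψ : ψ = one
      · subst hψ; simp [hone]
      rcases hnp ψ hψ with h | h
      · rw [h, hc]
        have hd := Cfsg.Agent.Block.charDeg_pos ψ
        by_cases hd1 : Cfsg.charDegree (ψ : G → ℂ) = 1
        · exfalso
          obtain ⟨l, hl⟩ := Cfsg.Agent.Char.linearHom_of_isCharacter (Cfsg.Agent.Char.IsIrr.isCharacter ψ.2)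
            (by rw [Cfsg.Agent.Block.charDeg_spec' ψ, hd1, Nat.cast_one])
          refine hno l (fun h1 => hψ (Subtype.ext (by rw [hl, h1]; rfl))) ?_
          rw [← congrFun hl u, h, hd1, hc]; norm_num
        · have h2 : (2 : ℝ) ≤ Cfsg.charDegree (ψ : G → ℂ) := by exact_mod_cast (by omega : 2 ≤ Cfsg.charDegree (ψ : G → ℂ))
          simp only [Complex.mul_re, Complex.natCast_re, Complex.natCast_im, zero_mul, sub_zero,
            Complex.sub_re, Complex.re_ofNat]
          nlinarith
      · simp [h]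
    have h1 := congrArg Complex.re horth
    rw [Complex.re_sum, Complex.zero_re] at h1
    have h2 := (Finset.sum_eq_zero_iff_of_nonneg fun ψ _ => hre ψ).1 h1 one (Finset.mem_univ _)
    simp [hone, Cfsg.charDegree] at h2
  have hcb : c = 2 → commutator G ≠ ⊤ := by
    intro hc htop
    obtain ⟨l, hl, -⟩ := hc2 hc
    exact hl (MonoidHom.ext fun g => MonoidHom.mem_ker.1
      (Abelianization.commutator_subset_ker l (htop ▸ Subgroup.mem_top g)))
  refine ⟨⟨?_, fun hG => ?_⟩, hb2, hcb⟩
  · rintro ⟨ho, htop, -⟩ hperf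
    set O := Cfsg.oddCore G
    haveI hOn : O.Normal := Cfsg.Agent.Grp.pPrimeCore_isNormal
    have hnot : ¬ commutator G ≤ O := fun hle => by
      rw [hperf] at hle
      have h2 := Cfsg.Agent.Grp.pPrimeCore_coprime (p := 2) (G := G)
      have : 2 ∣ Nat.card O := ho ▸ (Subgroup.orderOf_mk u (hle (Subgroup.mem_top u)) ▸ orderOf_dvd_natCard _)
      exact (Nat.prime_two.coprime_iff_not_dvd.1 h2.symm) this
    refine hnot (Subgroup.Normal.quotient_commutative_iff_commutator_le.1 ⟨⟨fun a b => ?_⟩⟩)
    obtain ⟨x, rfl⟩ := QuotientGroup.mk_surjective a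
    obtain ⟨y, rfl⟩ := QuotientGroup.mk_surjective b
    have key : ∀ z : G, ∃ i : ℤ, (z : G ⧸ O) = (u : G ⧸ O) ^ i := fun z => by
      obtain ⟨w, hw, o, ho', rfl⟩ := Subgroup.mem_sup_of_normal_right.1
        (show z ∈ Subgroup.zpowers u ⊔ O by rw [htop]; exact Subgroup.mem_top z)
      obtain ⟨i, rfl⟩ := hw
      refine ⟨i, ?_⟩
      rw [QuotientGroup.mk_mul, (QuotientGroup.eq_one_iff o).2 ho', mul_one, QuotientGroup.mk_zpow]
    obtain ⟨i, hi⟩ := key x
    obtain ⟨j, hj⟩ := key y
    rw [hi, hj, ← _root_.zpow_add, ← _root_.zpow_add, add_comm]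
  · have hc := hb2 hG
    obtain ⟨l, hl, hlu⟩ := hc2 hc
    obtain ⟨L, hL1, hLd, hLv, -⟩ := hlin l hl
    have honly : ∀ χ : Cfsg.IrrCharacter G, (χ : G → ℂ) u ≠ 0 → χ = one ∨ χ = L := by
      intro χ hχu
      by_contra hne
      push Not at hne
      have hv := (hnp χ hne.1).resolve_right hχu
      set χ' : Cfsg.IrrCharacter G := ⟨fun g => (l g : ℂ) * (χ : G → ℂ) g,
        Cfsg.Agent.Char.IsIrr.mul_linear χ.2 l⟩
      have hd' : Cfsg.charDegree (χ' : G → ℂ) = Cfsg.charDegree (χ : G → ℂ) := by
        simp [χ', Cfsg.charDegree]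
      have hv' : (χ' : G → ℂ) u = -(χ : G → ℂ) u := by
        show (l u : ℂ) * _ = _
        rw [hlu, neg_one_mul]
      by_cases hd1 : Cfsg.charDegree (χ : G → ℂ) = 1
      · obtain ⟨m, hm⟩ := Cfsg.Agent.Char.linearHom_of_isCharacter (Cfsg.Agent.Char.IsIrr.isCharacter χ.2)
          (by rw [Cfsg.Agent.Block.charDeg_spec' χ, hd1, Nat.cast_one])
        have hml : l * m ≠ 1 := fun h => hne.2 (Subtype.ext (funext fun g => by
          have h' := congrArg Units.val (DFunLike.congr_fun h g)
          have hll : (l g : ℂ) * (l g : ℂ) = 1 := by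
            by_contra hll'
            obtain ⟨-, -, -, -, h2⟩ := hlin (l * l) fun h3 => hll' (by
              rw [← Units.val_mul, ← MonoidHom.mul_apply, h3]; rfl)
            rw [MonoidHom.mul_apply, Units.val_mul, hlu, hc] at h2
            norm_num at h2
          simp only [MonoidHom.mul_apply, Units.val_mul, MonoidHom.one_apply, Units.val_one] at h'
          rw [hLv, congrFun hm g]
          calc (m g : ℂ) = ((l g : ℂ) * (l g : ℂ)) * (m g : ℂ) := by rw [hll, one_mul]
            _ = (l g : ℂ) * ((l g : ℂ) * (m g : ℂ)) := by ring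
            _ = _ := by rw [h', mul_one]))
        obtain ⟨-, -, -, -, h2⟩ := hlin (l * m) hml
        rw [MonoidHom.mul_apply, Units.val_mul, ← congrFun hm u, hv, hd1, hlu, hc] at h2
        norm_num at h2
      · have hne' : χ' ≠ one := fun h => hd1 (by rw [← hd', h]; simp [hone, Cfsg.charDegree])
        rcases hnp χ' hne' with h | h
        · rw [hv', hd', hv, hc] at h
          have : (Cfsg.charDegree (χ : G → ℂ) : ℂ) = 2 := by linear_combination (-(1 : ℂ) / 2) * h
          exact hχu (by rw [hv, hc, this, sub_self])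
        · exact hχu (neg_eq_zero.1 (hv' ▸ h))
    have hC : Nat.card (Subgroup.centralizer ({u} : Set G)) = 2 := by
      have h := Cfsg.Agent.Char.sum_irr_mul_conj u u
      rw [if_pos (IsConj.refl u), ← Finset.sum_subset (Finset.subset_univ ({one, L} : Finset (Cfsg.IrrCharacter G)))
        (fun χ _ hχ => by
          by_cases h0 : (χ : G → ℂ) u = 0
          · rw [h0, zero_mul]
          · rcases honly χ h0 with rfl | rfl <;> simp at hχ),
        Finset.sum_pair hL1.symm, hLv u, hlu] at h
      simp [hone] at h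
      norm_num at h
      rw [Nat.card_eq_fintype_card]
      exact_mod_cast h.symm
    set C := Subgroup.centralizer ({u} : Set G) with hCdef
    have huC : Subgroup.zpowers u ≤ C := by
      rw [Subgroup.zpowers_le, hCdef, Subgroup.mem_centralizer_singleton_iff]
    have hord : orderOf u = 2 := by
      have h1 := Subgroup.card_dvd_of_le huC
      rw [Nat.card_zpowers, hC] at h1
      exact ((Nat.dvd_prime Nat.prime_two).1 h1).resolve_left fun h => hu (orderOf_eq_one_iff.1 h)
    have hCz : C = Subgroup.zpowers u :=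
      (Subgroup.eq_of_le_of_card_ge huC (by rw [hC, Nat.card_zpowers, hord])).symm
    refine ⟨hord, ?_, hCz⟩
    haveI : Fact (Nat.Prime 2) := ⟨Nat.prime_two⟩
    obtain ⟨P, hP⟩ := IsPGroup.exists_le_sylow (p := 2) (IsPGroup.of_card (G := Subgroup.zpowers u) (n := 1)
      (by rw [Nat.card_zpowers, hord, pow_one]))
    have huP : u ∈ (P : Subgroup G) := hP (Subgroup.mem_zpowers u)
    have hPc : Nat.card (P : Subgroup G) = 2 := by
      haveI : Nontrivial (P : Subgroup G) := ⟨⟨⟨u, huP⟩, 1, fun h => hu (congrArg Subtype.val h)⟩⟩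
      haveI := P.isPGroup'.center_nontrivial
      obtain ⟨⟨⟨z, hz⟩, hzc⟩, hz1⟩ := exists_ne (1 : Subgroup.center (P : Subgroup G))
      have hzu : z ∈ C := by
        rw [hCdef, Subgroup.mem_centralizer_singleton_iff]
        exact (congrArg Subtype.val (Subgroup.mem_center_iff.1 hzc ⟨u, huP⟩)).symm
      rw [hCz] at hzu
      have hze : z = u := by
        obtain ⟨k, hk⟩ := mem_powers_iff_mem_zpowers.2 hzu
        have hz1' : z ≠ 1 := fun h => hz1 (Subtype.ext (Subtype.ext h))
        have hk' : u ^ (k % orderOf u) = z := (pow_mod_orderOf u k).trans hk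
        rw [hord] at hk'
        rcases Nat.mod_two_eq_zero_or_one k with h | h <;> rw [h] at hk'
        · exact absurd (hk'.symm.trans (pow_zero u)) hz1'
        · exact hk'.symm.trans (pow_one u)
      subst hze
      have hle : (P : Subgroup G) ≤ C := fun v hv => by
        rw [hCdef, Subgroup.mem_centralizer_singleton_iff]
        exact congrArg Subtype.val (Subgroup.mem_center_iff.1 hzc ⟨v, hv⟩)
      refine le_antisymm ((Subgroup.card_le_of_le hle).trans hC.le) ?_
      exact Finite.one_lt_card_iff_nontrivial.2 inferInstance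
    haveI : IsCyclic (P : Subgroup G) := isCyclic_of_prime_card hPc
    have hmin : (Nat.card G).minFac = 2 :=
      (Nat.minFac_eq_two_iff _).2 (by rw [← hord]; exact orderOf_dvd_natCard u)
    have hc' := IsCyclic.isComplement' (P := P) hmin inferInstance
    set K := (MonoidHom.transferSylow P _).ker
    have hKi : K.index = 2 := hc'.symm.index_eq_card.trans hPc
    have hKodd : (Nat.card K).Coprime 2 := by
      have h1 : Nat.card K = (P : Subgroup G).index := hc'.index_eq_card.symm
      rw [h1]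
      exact (Nat.prime_two.coprime_iff_not_dvd.2 P.not_dvd_index).symm
    have hKle : K ≤ Cfsg.oddCore G := Cfsg.Agent.Grp.le_pPrimeCore inferInstance hKodd
    refine eq_top_iff.2 (le_trans ?_ (sup_le_sup_left hKle _))
    rw [top_le_iff, ← Subgroup.index_eq_one]
    have hd := Subgroup.index_dvd_of_le (le_sup_right : K ≤ Subgroup.zpowers u ⊔ K)
    rw [hKi] at hd
    refine ((Nat.dvd_prime Nat.prime_two).1 hd).resolve_right fun h2 => ?_
    have heq : Subgroup.zpowers u ⊔ K = K := by
      refine (Subgroup.eq_of_le_of_card_ge le_sup_right ?_).symm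
      have e1 := (Subgroup.zpowers u ⊔ K).card_mul_index
      have e2 := K.card_mul_index
      rw [h2] at e1; rw [hKi] at e2; omega
    have huK : u ∈ K := heq ▸ Subgroup.mem_sup_left (Subgroup.mem_zpowers u)
    refine (Nat.prime_two.coprime_iff_not_dvd.1 hKodd.symm) ?_
    rw [← hord, ← Subgroup.orderOf_mk u huK]
    exact orderOf_dvd_natCard _

end Cfsg.Agent.S4757
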