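import Cfsg.Statements.S4758
import Cfsg.Agent.Lib.Block.ConstFour.Core

set_option autoImplicit false
open Cfsg

namespace Cfsg.Agent.S4758

open Cfsg.Agent.Block.ConstFour

/-- Let u ≠ 1 be an element of the finite group G such that every non-principal irreducible character χ satisfies χ(1) − χ(u) = 4 or χ(u) = 0. Then O(G), the largest normal subgroup of odd order, is abelian, and either G ⧸ O(G) ≅ PSL₂(5) and u is an involution, or G ⧸ O(G) ≅ SL₂(5) and u has order 4. -/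
theorem result {G : Type*} [Group G] [Finite G] (u : G) (hu : u ≠ 1) (hyp : ∀ χ : Cfsg.IrrCharacter G, (χ : G → ℂ) ≠ (fun _ => (1 : ℂ)) → ((χ : G → ℂ) 1 - (χ : G → ℂ) u = 4 ∨ (χ : G → ℂ) u = 0)) : IsMulCommutative ↥(Cfsg.oddCore G) ∧ ((Nonempty (G ⧸ Cfsg.oddCore G ≃* Matrix.ProjectiveSpecialLinearGroup (Fin 2) (ZMod 5)) ∧ orderOf u = 2) ∨ (Nonempty (G ⧸ Cfsg.oddCore G ≃* Matrix.SpecialLinearGroup (Fin 2) (ZMod 5)) ∧ orderOf u = 4)) := by
  haveI : Fintype G := Fintype.ofFinite G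
  obtain ⟨K, hK, hframe⟩ := Hyp.exists_frame ⟨hu, hyp⟩
  haveI := hK
  obtain ⟨hab, ⟨⟨e⟩, ho⟩ | ⟨hbi, ho⟩⟩ := hframe.conclude
  · haveI := Classical.PSL_isSimple (F := ZMod 5) (n := 2) le_rfl (fun _ => by rw [ZMod.card]; norm_num)
    have hc : Nat.card (Subgroup.center (Matrix.SpecialLinearGroup (Fin 2) (ZMod 5))) = 2 := by
      rw [Classical.natCard_center_SL, Nat.card_eq_fintype_card, ZMod.card_units]; rfl
    have h60 : Nat.card (Matrix.ProjectiveSpecialLinearGroup (Fin 2) (ZMod 5)) = 60 := by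
      have := Subgroup.card_mul_index (Subgroup.center (Matrix.SpecialLinearGroup (Fin 2) (ZMod 5)))
      rw [hc, Grp.Zas.card_SL25] at this
      show Nat.card (Matrix.SpecialLinearGroup (Fin 2) (ZMod 5) ⧸ Subgroup.center _) = 60
      rw [← Subgroup.index_eq_card]
      omega
    obtain ⟨e'⟩ := Fus.alternating_five_of_card h60
    exact ⟨hab, Or.inl ⟨⟨e.trans e'.symm⟩, ho⟩⟩
  · exact ⟨hab, Or.inr ⟨hbi.nonempty_mulEquiv Grp.Zas.binaryIco_SL25, ho⟩⟩

end Cfsg.Agent.S4758
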