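import Cfsg.Statements.S4759
import Cfsg.Agent.Lib.Char.SympExt.Main

set_option autoImplicit false
open Cfsg
open scoped commutatorElement

namespace Cfsg.Agent.S4759

/-- Let G be a finite group that is the semidirect product of a normal extraspecial 2-subgroup E and a complement H acting faithfully on E (no non-identity element of H centralizes E), and suppose H has a normal subgroup K of odd order with [E, K] = E. Then every faithful irreducible character θ of E (there is exactly one) extends to G: some irreducible character of G restricts to θ on E. -/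
theorem result {G : Type*} [Group G] [Finite G] (E H : Subgroup G) [E.Normal] (hE : Cfsg.IsExtraspecial 2 ↥E) (hEH : E ⊓ H = ⊥) (hEHtop : E ⊔ H = ⊤) (hfaith : ∀ h ∈ H, (∀ e ∈ E, h * e = e * h) → h = 1) (K : Subgroup G) (hKH : K ≤ H) (hKn : ∀ h ∈ H, ∀ k ∈ K, h * k * h⁻¹ ∈ K) (hKodd : Odd (Nat.card ↥K)) (hEK : ⁅E, K⁆ = E) (θ : Cfsg.IrrCharacter ↥E) (hθ : ∀ e : ↥E, (θ : ↥E → ℂ) e = (θ : ↥E → ℂ) 1 → e = 1) : ∃ χ : Cfsg.IrrCharacter G, ∀ e : ↥E, (χ : G → ℂ) e = (θ : ↥E → ℂ) e := by
  obtain ⟨⟨-, -, hder⟩, hZ⟩ := hE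
  obtain ⟨w, hw1, hw2⟩ := (Nat.card_eq_two_iff' (1 : Subgroup.center ↥E)).mp hZ
  have hwc : (w : ↥E) ∈ Subgroup.center ↥E := w.2
  set z : G := ((w : ↥E) : G) with hz
  have hcases : ∀ a : ↥E, a ∈ Subgroup.center ↥E → (a : G) = 1 ∨ (a : G) = z := fun a ha => by
    by_cases h : (⟨a, ha⟩ : Subgroup.center ↥E) = 1
    · exact Or.inl (congrArg (fun x : Subgroup.center ↥E => ((x : ↥E) : G)) h)
    · exact Or.inr (congrArg (fun x : Subgroup.center ↥E => ((x : ↥E) : G)) (hw2 _ h))
  have hz1 : z ≠ 1 := fun h => hw1 (Subtype.ext (Subtype.ext h))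
  have hcentral : ∀ a ∈ E, a * z = z * a := fun a ha =>
    congrArg Subtype.val (Subgroup.mem_center_iff.mp hwc ⟨a, ha⟩)
  have hs : Cfsg.Agent.SympExt.Sym E z :=
    { mem := (w : ↥E).2
      ne_one := hz1
      sq := by
        rcases hcases ((w : ↥E) * w) ((Subgroup.center ↥E).mul_mem hwc hwc) with h | h
        · exact h
        · have h' : z * z = z := h
          exact absurd (mul_eq_left.mp h') hz1
      central := hcentral
      comm := fun a ha b hb => hcases ⁅(⟨a, ha⟩ : ↥E), ⟨b, hb⟩⁆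
        (hder ▸ Subgroup.commutator_mem_commutator (Subgroup.mem_top _) (Subgroup.mem_top _))
      center := fun a ha h => hcases ⟨a, ha⟩
        (Subgroup.mem_center_iff.mpr fun b => Subtype.ext (h b b.2).symm) }
  have hgz : ∀ g : G, g * z * g⁻¹ = z := fun g => by
    have hmem : g * z * g⁻¹ ∈ E := (inferInstance : E.Normal).conj_mem z hs.mem g
    refine (hs.center _ hmem fun b hb => ?_).resolve_left fun h => ?_
    · have hb' : g⁻¹ * b * g ∈ E := by simpa using (inferInstance : E.Normal).conj_mem b hb g⁻¹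
      have e := hs.central _ hb'
      calc g * z * g⁻¹ * b = g * (z * (g⁻¹ * b * g)) * g⁻¹ := by group
        _ = g * ((g⁻¹ * b * g) * z) * g⁻¹ := by rw [e]
        _ = b * (g * z * g⁻¹) := by group
    · rw [mul_inv_eq_one, mul_eq_left] at h
      exact hz1 h
  have hh : Cfsg.Agent.SympExt.Hyp E H K z :=
    { sym := hs
      norm := Cfsg.Agent.SympExt.le_normalizer_of_conj fun h _ x hx =>
        (inferInstance : E.Normal).conj_mem x hx h
      disj := hEH
      le := hKH
      normK := Cfsg.Agent.SympExt.le_normalizer_of_conj hKn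
      odd := hKodd
      fix := fun a ha hab => hs.center a ha fun b hb => by
        have hle : ⁅E, K⁆ ≤ Subgroup.centralizer ({a} : Set G) := by
          rw [Subgroup.commutator_le]
          intro u hu k hk
          rw [Subgroup.mem_centralizer_singleton_iff]
          have hka : k⁻¹ * a * k = a := by rw [mul_assoc, ← hab k hk, inv_mul_cancel_left]
          have hconj : k * u⁻¹ * k⁻¹ ∈ E := (inferInstance : E.Normal).conj_mem _ (E.inv_mem hu) k
          have h1 : ⁅a, k * u⁻¹ * k⁻¹⁆ = ⁅a, u⁻¹⁆ := by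
            rw [show ⁅a, k * u⁻¹ * k⁻¹⁆ = k * ⁅k⁻¹ * a * k, u⁻¹⁆ * k⁻¹ by
              simp only [commutatorElement_def]; group, hka]
            rcases hs.comm a ha u⁻¹ (E.inv_mem hu) with e | e <;> rw [e]
            · simp
            · exact hgz k
          have h2 : ⁅a, ⁅u, k⁆⁆ = 1 := by
            rw [show ⁅u, k⁆ = u * (k * u⁻¹ * k⁻¹) by rw [commutatorElement_def]; group,
              hs.comm_mul_right ha hu hconj, h1, ← hs.comm_mul_right ha hu (E.inv_mem hu),
              mul_inv_cancel, commutatorElement_one_right]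
          exact (commutatorElement_eq_one_iff_mul_comm.mp h2).symm
        rw [hEK] at hle
        exact (Subgroup.mem_centralizer_singleton_iff.mp (hle hb)).symm }
  obtain ⟨χ, hχ, hf⟩ := Cfsg.Agent.SympExt.good hh
  have hθf : Cfsg.Agent.SympExt.Faith E z θ.1 := by
    refine ⟨θ.2, fun x hx => ?_⟩
    obtain rfl : x = (w : ↥E) := Subtype.ext hx
    obtain ⟨c, -, hc⟩ := Cfsg.Agent.Char.IsIrr.scalar_of_center θ.2 hwc
    have h0 := Cfsg.Agent.Char.IsIrr.one_ne_zero θ.2
    have h1 : θ.1 (w : ↥E) = c * θ.1 1 := by rw [← hc 1, mul_one]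
    have h2 : θ.1 1 = c * θ.1 (w : ↥E) := by
      rw [← hc (w : ↥E), show (w : ↥E) * (w : ↥E) = 1 from Subtype.ext hs.sq]
    have hc2 : c * c = 1 := by
      have e : c * c * θ.1 1 = 1 * θ.1 1 := by rw [one_mul, mul_assoc, ← h1, ← h2]
      exact mul_right_cancel₀ h0 e
    rcases mul_self_eq_one_iff.mp hc2 with rfl | rfl
    · exact absurd (congrArg Subtype.val (hθ _ (h1.trans (one_mul _)))) hz1
    · rw [h1, neg_one_mul]
  let j : G →* ↥(E ⊔ H) := (MonoidHom.id G).codRestrict _ fun g => by rw [hEHtop]; exact Subgroup.mem_top g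
  have hj : Function.Surjective j := fun x => ⟨x, Subtype.ext rfl⟩
  have hirr := Cfsg.Agent.SympExt.isIrr_res hχ (Subgroup.inclusion (le_sup_left : E ≤ E ⊔ H)) hf.1
  refine ⟨⟨fun g => χ (j g), Cfsg.Agent.Char.IsIrr.comp_surjective j hj hirr⟩, fun e => ?_⟩
  exact congrFun (hs.faith_unique hf hθf) e

end Cfsg.Agent.S4759
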