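import Cfsg.Statements.S4762
import Cfsg.Agent.Lib.Char.ExtendMain
import Cfsg.Agent.Lib.Char.CoprimeDegree
import Cfsg.Agent.Lib.Char.Quotient
import Cfsg.Agent.Lib.Block.ClassMul
import Cfsg.Agent.Lib.Grp.Carter
import Cfsg.Agent.Lib.Grp.Frattini
import Mathlib
-- import your own Cfsg.Agent.* helpers here

set_option autoImplicit false
open Cfsg

namespace Cfsg.Agent.S4762

open Cfsg.Agent.Block
open scoped commutatorElement

universe u

variable {G : Type u} [Group G]

theorem card_linear [Finite G] :
    Nat.card {χ : IrrCharacter G // charDegree (χ : G → ℂ) = 1} = (commutator G).index := by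
  classical
  let e : (G →* ℂˣ) → {χ : IrrCharacter G // charDegree (χ : G → ℂ) = 1} := fun l =>
    ⟨⟨fun g => (l g : ℂ), Cfsg.Agent.Char.isIrr_linear l⟩, by simp [charDegree]⟩
  have he : Function.Bijective e := by
    constructor
    · intro a b h
      have h' : (fun g => (a g : ℂ)) = (fun g => (b g : ℂ)) :=
        congrArg Subtype.val (congrArg Subtype.val h)
      exact MonoidHom.ext fun g => Units.ext (congrFun h' g)
    · rintro ⟨χ, hχ⟩
      obtain ⟨l, hl⟩ := Cfsg.Agent.Char.linearHom_of_isCharacter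
        (Cfsg.Agent.Char.IsIrr.isCharacter χ.2) (by rw [charDeg_spec' χ, hχ, Nat.cast_one])
      exact ⟨l, Subtype.ext (Subtype.ext (funext fun g => by simp [e, hl]))⟩
  rw [← Nat.card_congr (Equiv.ofBijective e he)]
  haveI : HasEnoughRootsOfUnity ℂ (Monoid.exponent (Abelianization G)) := by
    haveI : NeZero (Monoid.exponent (Abelianization G)) := ⟨Monoid.exponent_ne_zero_of_finite⟩
    infer_instance
  calc Nat.card (G →* ℂˣ) = Nat.card (Abelianization G →* ℂˣ) :=
        Nat.card_congr Abelianization.lift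
    _ = Nat.card (Abelianization G) := CommGroup.card_monoidHom_of_hasEnoughRootsOfUnity _ ℂ
    _ = (commutator G).index := rfl

theorem deg_one_or_dvd [Finite G] {p : ℕ} [hp : Fact p.Prime] (hG : IsPGroup p G) (χ : IrrCharacter G) :
    charDegree (χ : G → ℂ) = 1 ∨ p ∣ charDegree (χ : G → ℂ) := by
  obtain ⟨n, hn⟩ := (IsPGroup.iff_card (p := p) (G := G)).1 hG
  obtain ⟨j, -, hj⟩ := (Nat.dvd_prime_pow hp.out).1 (hn ▸ Cfsg.Agent.Char.CopDeg.degree_dvd_card' χ)
  rcases j with _ | j
  · exact Or.inl hj
  · exact Or.inr (hj ▸ dvd_pow_self p j.succ_ne_zero)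

/-- With a derived subgroup of order two every non-central class has two elements. -/
theorem two_mul_classes [Finite G] (h2 : Nat.card (commutator G) = 2) :
    commutator G ≤ Subgroup.center G ∧ (∀ g : G, g * g ∈ Subgroup.center G) ∧
      2 * Nat.card (ConjClasses G) = Nat.card G + Nat.card (Subgroup.center G) := by
  classical
  haveI := Fintype.ofFinite G
  obtain ⟨⟨z, hz⟩, hz1⟩ : ∃ z : commutator G, z ≠ 1 := by
    haveI : Nontrivial (commutator G) := Finite.one_lt_card_iff_nontrivial.1 (by omega)
    exact exists_ne 1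
  have hmem : ∀ c ∈ commutator G, c = 1 ∨ c = z := by
    intro c hc
    by_contra hh
    push Not at hh
    haveI := Fintype.ofFinite (commutator G)
    have h3 : ({1, ⟨z, hz⟩, ⟨c, hc⟩} : Finset (commutator G)).card = 3 := by
      rw [Finset.card_eq_three]
      exact ⟨1, ⟨z, hz⟩, ⟨c, hc⟩, hz1.symm, fun h => hh.1 (congrArg Subtype.val h).symm,
        fun h => hh.2 (congrArg Subtype.val h).symm, rfl⟩
    have hle := Finset.card_le_univ ({1, ⟨z, hz⟩, ⟨c, hc⟩} : Finset (commutator G))
    rw [← Nat.card_eq_fintype_card] at hle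
    omega
  have hzz : z * z = 1 := by
    rcases hmem _ (mul_mem hz hz) with h | h
    · exact h
    · exact absurd (Subtype.ext (mul_eq_left.1 h : z = 1)) hz1
  have hzc : ∀ g : G, g * z = z * g := by
    intro g
    rcases hmem _ ((inferInstance : (commutator G).Normal).conj_mem z hz g) with h | h
    · exact absurd (Subtype.ext (by simpa using h : z = 1)) hz1
    · exact mul_inv_eq_iff_eq_mul.1 h
  have hle : commutator G ≤ Subgroup.center G := fun c hc => Subgroup.mem_center_iff.2 fun g => by
    rcases hmem c hc with rfl | rfl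
    · simp
    · exact hzc g
  have hcom : ∀ g h : G, g * h = h * g ∨ g * h = z * (h * g) := by
    intro g h
    have hc : ⁅g, h⁆ ∈ commutator G := by
      rw [commutator_def]
      exact Subgroup.commutator_mem_commutator (Subgroup.mem_top g) (Subgroup.mem_top h)
    have e : g * h = ⁅g, h⁆ * (h * g) := by rw [commutatorElement_def]; group
    rcases hmem _ hc with h' | h'
    · left; rw [e, h', one_mul]
    · right; rw [e, h']
  refine ⟨hle, fun g => Subgroup.mem_center_iff.2 fun h => ?_, ?_⟩
  · rcases hcom g h with e | e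
    · rw [mul_assoc g g h, e, ← mul_assoc g h g, e, ← mul_assoc]
    · rw [mul_assoc g g h, e, ← mul_assoc g z (h * g), hzc g, mul_assoc z g (h * g), ← mul_assoc g h g,
        e, mul_assoc z (h * g) g, ← mul_assoc z z, hzz, one_mul, mul_assoc]
  set f : G → ℕ := fun g => if g ∈ Subgroup.center G then 2 else 1 with hf
  have hfib : ∀ C : ConjClasses G,
      ∑ g ∈ Finset.univ.filter (fun g : G => ConjClasses.mk g = C), f g = 2 := by
    intro C
    obtain ⟨g, rfl⟩ := C.exists_rep
    by_cases hg : g ∈ Subgroup.center G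
    · have : Finset.univ.filter (fun x : G => ConjClasses.mk x = ConjClasses.mk g) = {g} := by
        ext x
        simp only [Finset.mem_filter, Finset.mem_univ, true_and, Finset.mem_singleton,
          ConjClasses.mk_eq_mk_iff_isConj]
        constructor
        · intro h
          obtain ⟨c, hc⟩ := isConj_iff.1 h.symm
          rw [← hc, Subgroup.mem_center_iff.1 hg c, mul_inv_cancel_right]
        · rintro rfl
          exact IsConj.refl _
      rw [this, Finset.sum_singleton, hf]
      exact if_pos hg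
    · have hzg : z * g ∉ Subgroup.center G := fun h => hg (by
        have := mul_mem (hle hz) h
        rwa [← mul_assoc, hzz, one_mul] at this)
      have hne : g ≠ z * g := fun h => hz1 (Subtype.ext (mul_eq_right.1 h.symm))
      have : Finset.univ.filter (fun x : G => ConjClasses.mk x = ConjClasses.mk g) = {g, z * g} := by
        ext x
        simp only [Finset.mem_filter, Finset.mem_univ, true_and, Finset.mem_insert,
          Finset.mem_singleton, ConjClasses.mk_eq_mk_iff_isConj]
        constructor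
        · intro h
          obtain ⟨c, hc⟩ := isConj_iff.1 h.symm
          rcases hcom c g with e | e
          · left; rw [← hc, e, mul_inv_cancel_right]
          · right; rw [← hc, e, mul_assoc, mul_inv_cancel_right]
        · rintro (rfl | rfl)
          · exact IsConj.refl _
          · obtain ⟨h, hh⟩ : ∃ h, h * g ≠ g * h := by
              by_contra hall
              push Not at hall
              exact hg (Subgroup.mem_center_iff.2 hall)
            refine IsConj.symm (isConj_iff.2 ⟨h, ?_⟩)
            rcases hcom h g with e | e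
            · exact absurd e hh
            · rw [e, mul_assoc, mul_inv_cancel_right]
      rw [this, Finset.sum_pair hne]
      simp [hf, hg, hzg]
  haveI := Fintype.ofFinite (ConjClasses G)
  have h := Finset.sum_fiberwise (Finset.univ : Finset G) ConjClasses.mk f
  rw [Finset.sum_congr rfl (fun C _ => hfib C), Finset.sum_const, smul_eq_mul,
    Finset.card_univ] at h
  have hs : ∑ g, f g = Fintype.card G + (Finset.univ.filter (fun g : G => g ∈ Subgroup.center G)).card := by
    have : ∀ g, f g = 1 + (if g ∈ Subgroup.center G then 1 else 0) := fun g => by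
      simp only [hf]; split_ifs <;> rfl
    simp only [this, Finset.sum_add_distrib, Finset.sum_const, smul_eq_mul, mul_one, Finset.card_univ,
      ← Finset.sum_filter]
  rw [Nat.card_eq_fintype_card, Nat.card_eq_fintype_card, mul_comm, h, hs]
  congr 1
  rw [Nat.card_eq_fintype_card, Fintype.card_subtype]

theorem isPGroup_of_unique [Finite G] [Group.IsNilpotent G] {p : ℕ} [hp : Fact p.Prime]
    (χ₀ : IrrCharacter G) (h0 : p ∣ charDegree (χ₀ : G → ℂ))
    (huniq : ∀ χ : IrrCharacter G, p ∣ charDegree (χ : G → ℂ) → χ = χ₀) : IsPGroup p G := by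
  classical
  haveI := Fintype.ofFinite G
  obtain ⟨P⟩ : Nonempty (Sylow p G) := inferInstance
  have hcop : (Nat.card (P : Subgroup G)).Coprime (P : Subgroup G).index := P.card_coprime_index
  haveI hPn : (P : Subgroup G).Normal := Cfsg.Agent.Grp.Carter.normal_of_coprime inferInstance hcop
  obtain ⟨K, hK⟩ := Subgroup.exists_right_complement'_of_coprime (N := (P : Subgroup G)) hcop
  have hKc : Nat.card K = (P : Subgroup G).index := hK.symm.index_eq_card.symm
  have hKi : K.index = Nat.card (P : Subgroup G) := hK.index_eq_card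
  haveI hKn : K.Normal := Cfsg.Agent.Grp.Carter.normal_of_coprime inferInstance (by
    rw [hKc, hKi]; exact hcop.symm)
  suffices hbot : K = ⊥ by
    refine P.isPGroup'.of_equiv ?_
    have htop : (P : Subgroup G) = ⊤ := by
      rw [← Subgroup.index_eq_one, ← hKc, hbot, Subgroup.card_bot]
    exact (MulEquiv.subgroupCongr htop).trans Subgroup.topEquiv
  by_contra hne
  set π : G →* (P : Subgroup G) := hK.QuotientMulEquiv.toMonoidHom.comp (QuotientGroup.mk' K) with hπdef
  have hπP : ∀ x : (P : Subgroup G), π (x : G) = x := fun x =>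
    hK.QuotientMulEquiv.apply_symm_apply x
  have hπK : ∀ k ∈ K, π k = 1 := fun k hk => by
    rw [hπdef, MonoidHom.comp_apply, QuotientGroup.mk'_apply, (QuotientGroup.eq_one_iff k).2 hk, map_one]
  set π' : G →* K := hK.symm.QuotientMulEquiv.toMonoidHom.comp
    (QuotientGroup.mk' (P : Subgroup G)) with hπ'def
  have hπ'K : ∀ x : K, π' (x : G) = x := fun x => hK.symm.QuotientMulEquiv.apply_symm_apply x
  haveI : Nontrivial K := (Subgroup.nontrivial_iff_ne_bot K).2 hne
  obtain ⟨a, ha⟩ : ∃ a : Abelianization K, a ≠ 1 := by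
    by_contra hall
    push Not at hall
    exact (ne_of_lt (IsSolvable.commutator_lt_top_of_nontrivial K)) (eq_top_iff.2 fun g _ =>
      (QuotientGroup.eq_one_iff g).1 (hall (Abelianization.of g)))
  obtain ⟨l₀, hl₀⟩ : ∃ l₀ : Abelianization K →* ℂˣ, l₀ a ≠ 1 := by
    by_contra hall
    push Not at hall
    exact ha (Cfsg.Agent.Char.eq_one_of_forall_linear mul_comm hall)
  obtain ⟨k, hk⟩ := QuotientGroup.mk_surjective a
  set μ : G →* ℂˣ := (l₀.comp Abelianization.of).comp π' with hμ
  have hμk : μ (k : G) ≠ 1 := by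
    rw [hμ, MonoidHom.comp_apply, hπ'K, MonoidHom.comp_apply]
    intro h
    exact hl₀ (hk ▸ h)
  haveI := Fintype.ofFinite (P : Subgroup G)
  obtain ⟨θ, hθ⟩ := Cfsg.Agent.Char.IsChar.exists_constituent'
    (Cfsg.Agent.Char.IsChar.res (irr_isChar χ₀) (P : Subgroup G))
    (show (χ₀ : G → ℂ) ((1 : (P : Subgroup G)) : G) ≠ 0 from irr_one_ne_zero χ₀)
  obtain ⟨e, he, hedvd⟩ := Cfsg.Agent.Char.Ext.ratio_dvd_index' χ₀.2 θ.2 hθ
  rw [charDeg_spec' χ₀, charDeg_spec' θ, ← Nat.cast_mul, Nat.cast_inj] at he
  have hpθ : p ∣ charDegree (θ : ↥(P : Subgroup G) → ℂ) := by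
    refine (hp.out.dvd_mul.1 (he ▸ h0)).resolve_left fun h => P.not_dvd_index ?_
    exact h.trans hedvd
  have hψ : Cfsg.IsIrrCharacter G (fun g => (θ : ↥(P : Subgroup G) → ℂ) (π g)) :=
    Cfsg.Agent.Char.IsIrr.comp_surjective π (fun x => ⟨(x : G), hπP x⟩) θ.2
  have hψ' : Cfsg.IsIrrCharacter G (fun g => (μ g : ℂ) * (θ : ↥(P : Subgroup G) → ℂ) (π g)) :=
    Cfsg.Agent.Char.IsIrr.mul_linear hψ μ
  have hd : ∀ φ : IrrCharacter G, (φ : G → ℂ) 1 = (θ : ↥(P : Subgroup G) → ℂ) 1 → φ = χ₀ := by
    intro φ hφ
    refine huniq φ ?_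
    rw [charDeg_spec' φ, charDeg_spec' θ, Nat.cast_inj] at hφ
    rwa [hφ]
  have h1 : (⟨_, hψ⟩ : IrrCharacter G) = χ₀ := hd _ (by simp)
  have h2 : (⟨_, hψ'⟩ : IrrCharacter G) = χ₀ := hd _ (by simp)
  have h3 := congrFun (congrArg Subtype.val (h1.trans h2.symm)) (k : G)
  simp only [hπK _ k.2] at h3
  exact hμk (Units.ext (mul_eq_right₀ (irr_one_ne_zero θ) |>.1 h3.symm))


/-- Let p be a prime and G a finite nilpotent group. Then G has exactly one irreducible complex character of degree divisible by p if and only if p = 2 and G is an extraspecial 2-group. -/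
theorem result {G : Type*} [Group G] [Finite G] [Group.IsNilpotent G] (p : ℕ) [Fact p.Prime] : Nat.card {χ : Cfsg.IrrCharacter G // p ∣ Cfsg.charDegree (χ : G → ℂ)} = 1 ↔ (p = 2 ∧ Cfsg.IsExtraspecial 2 G) := by
  classical
  haveI := Fintype.ofFinite G
  have hp : p.Prime := Fact.out
  constructor
  · intro h
    obtain ⟨hsub, ⟨⟨χ₀, h0⟩⟩⟩ := Nat.card_eq_one_iff_unique.1 h
    have huniq : ∀ χ : IrrCharacter G, p ∣ charDegree (χ : G → ℂ) → χ = χ₀ := fun χ hχ =>
      congrArg Subtype.val (Subsingleton.elim (⟨χ, hχ⟩ : {χ : IrrCharacter G // p ∣ charDegree (χ : G → ℂ)}) ⟨χ₀, h0⟩)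
    have hG : IsPGroup p G := isPGroup_of_unique χ₀ h0 huniq
    set d := charDegree (χ₀ : G → ℂ)
    have hd1 : ∀ χ : IrrCharacter G, χ ≠ χ₀ → charDegree (χ : G → ℂ) = 1 := fun χ hχ =>
      (deg_one_or_dvd hG χ).resolve_right fun h' => hχ (huniq χ h')
    have hd0 : d ≠ 1 := fun h' => hp.not_dvd_one (h' ▸ h0)
    have hL : Fintype.card (IrrCharacter G) = (commutator G).index + 1 := by
      rw [← card_linear, Nat.card_eq_fintype_card,
        Fintype.card_subtype (fun χ : IrrCharacter G => charDegree (χ : G → ℂ) = 1),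
        show Finset.univ.filter (fun χ : IrrCharacter G => charDegree (χ : G → ℂ) = 1) =
          Finset.univ.erase χ₀ from ?_, Finset.card_erase_add_one (Finset.mem_univ _), Finset.card_univ]
      ext χ
      simp only [Finset.mem_filter, Finset.mem_univ, true_and, Finset.mem_erase, and_true]
      exact ⟨fun h' e => hd0 (by subst e; exact h'), hd1 χ⟩
    have hsum : Nat.card G = (commutator G).index + d ^ 2 := by
      have e := Cfsg.Agent.Char.sum_degree_sq (G := G)
      rw [← Finset.sum_erase_add _ _ (Finset.mem_univ χ₀),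
        Finset.sum_congr (g := fun _ => (1 : ℂ)) rfl
          (fun (χ : IrrCharacter G) hχ => show (χ : G → ℂ) 1 ^ 2 = 1 by
            rw [charDeg_spec' χ, hd1 χ (Finset.ne_of_mem_erase hχ)]; simp),
        Finset.sum_const, Finset.card_erase_of_mem (Finset.mem_univ _), Finset.card_univ, hL,
        Nat.add_sub_cancel, nsmul_eq_mul, mul_one, charDeg_spec' χ₀] at e
      exact_mod_cast e.symm
    set L := (commutator G).index with hLdef
    set c := Nat.card (commutator G) with hcdef
    have hLc : L * c = Nat.card G := by rw [mul_comm]; exact (commutator G).card_mul_index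
    have hdpos : 0 < d := charDeg_pos χ₀
    obtain ⟨n, hn⟩ := (IsPGroup.iff_card (p := p) (G := G)).1 hG
    obtain ⟨b, -, hb⟩ := (Nat.dvd_prime_pow hp).1 (hn ▸ Cfsg.Agent.Char.CopDeg.degree_dvd_card' χ₀)
    have hc1 : c ≠ 1 := fun h' => by
      rw [h', mul_one] at hLc
      rw [← hLc] at hsum
      have := pow_pos hdpos 2
      omega
    obtain ⟨j, -, hj⟩ := (Nat.dvd_prime_pow hp).1 (hn ▸ (Subgroup.card_subgroup_dvd_card (commutator G)))
    have hpc : p ∣ c := by
      rcases j with _ | j
      · exact absurd hj hc1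
      · rw [hcdef, hj]; exact dvd_pow_self p j.succ_ne_zero
    have hmul : L * (c - 1) = (p ^ b) ^ 2 := by rw [Nat.mul_sub, mul_one, hLc, hsum, Nat.add_sub_cancel_left, show d = p ^ b from hb]
    have hc2 : c = 2 := by
      obtain ⟨i, -, hi⟩ := (Nat.dvd_prime_pow hp).1
        (show c - 1 ∣ p ^ (b * 2) from ⟨L, by rw [pow_mul, ← hmul, mul_comm]⟩)
      have hcp : 0 < c := Nat.card_pos
      rcases i with _ | i
      · rw [pow_zero] at hi; omega
      · exfalso
        have h' : p ∣ c - 1 := hi ▸ dvd_pow_self p i.succ_ne_zero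
        have := Nat.dvd_sub hpc h'
        rw [show c - (c - 1) = 1 by omega] at this
        exact hp.not_dvd_one this
    have hp2 : p = 2 := (Nat.prime_dvd_prime_iff_eq hp Nat.prime_two).1 (hc2 ▸ hpc)
    subst hp2
    obtain ⟨hle, hsq, hcls⟩ := two_mul_classes (G := G) hc2
    rw [← Cfsg.Agent.Char.card_irrCharacter, Nat.card_eq_fintype_card (α := IrrCharacter G), hL] at hcls
    have hZ : Nat.card (Subgroup.center G) = 2 := by rw [hc2] at hLc; omega
    have hCZ : commutator G = Subgroup.center G :=
      Subgroup.eq_of_le_of_card_ge hle (by rw [hZ, ← hc2])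
    refine ⟨rfl, ⟨hG, le_antisymm ?_ ?_, hCZ⟩, hZ⟩
    · exact Cfsg.Agent.Grp.frattini_le_of_elementary hp hle (fun x => by rw [pow_two]; exact hsq x)
    · exact hCZ ▸ Cfsg.Agent.Grp.pGroup_commutator_le_frattini hG
  · rintro ⟨rfl, ⟨hG, -, hCZ⟩, hZ⟩
    obtain ⟨-, -, hcls⟩ := two_mul_classes (G := G) (by rw [hCZ, hZ])
    rw [← Cfsg.Agent.Char.card_irrCharacter, hZ] at hcls
    have hLc : (commutator G).index * 2 = Nat.card G := by
      rw [mul_comm, ← hZ, ← hCZ]; exact (commutator G).card_mul_index
    have hsplit : Nat.card {χ : IrrCharacter G // charDegree (χ : G → ℂ) = 1} +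
        Nat.card {χ : IrrCharacter G // ¬ charDegree (χ : G → ℂ) = 1} = Nat.card (IrrCharacter G) := by
      rw [← Nat.card_sum]
      exact Nat.card_congr (Equiv.sumCompl _)
    rw [card_linear] at hsplit
    rw [Nat.card_congr (Equiv.subtypeEquivRight (q := fun χ : IrrCharacter G => ¬ charDegree (χ : G → ℂ) = 1)
      fun χ => ⟨fun h h' => by rw [h'] at h; exact absurd h (by decide),
        fun h => (deg_one_or_dvd hG χ).resolve_left h⟩)]
    omega

end Cfsg.Agent.S4762
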