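import Cfsg.Statements.S4763
import Cfsg.Agent.S4452
import Cfsg.Agent.Lib.Char.PPrimeDegree
import Cfsg.Agent.Lib.Char.Average
import Cfsg.Agent.Lib.Char.InvariantCover
import Cfsg.Agent.Lib.Char.Induce
import Cfsg.Agent.Lib.Block.CoveringBasic
import Mathlib
-- import your own Cfsg.Agent.* helpers here

set_option autoImplicit false
open Cfsg

namespace Cfsg.Agent.S4763

open Cfsg.Agent.Block
open scoped ComplexConjugate

universe u

theorem card_carrier {G : Type u} [Group G] [Finite G] (g : G) :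
    Nat.card (ConjClasses.mk g).carrier = (Subgroup.centralizer ({g} : Set G)).index := by
  rw [← ConjAct.orbit_eq_carrier_conjClasses]
  refine (Nat.card_coe_set_eq _).trans ?_
  rw [← MulAction.index_stabilizer, ConjAct.stabilizer_eq_centralizer]
  rfl

/-- Classes of size prime to `p` when the Sylow `p`-subgroup is abelian. -/
theorem card_classes_prime {G : Type u} [Group G] [Finite G] {p : ℕ} [Fact p.Prime] (P : Sylow p G)
    (hab : ∀ x ∈ (P : Subgroup G), ∀ y ∈ (P : Subgroup G), x * y = y * x)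
    (hcen : ∀ x : Subgroup.normalizer ((P : Subgroup G) : Set G),
      (x : G) ∈ Subgroup.centralizer ((P : Subgroup G) : Set G)) :
    Nat.card (ConjClasses (Subgroup.normalizer ((P : Subgroup G) : Set G))) =
      Nat.card {C : ConjClasses G // ¬ p ∣ Nat.card C.carrier} := by
  classical
  set N := Subgroup.normalizer ((P : Subgroup G) : Set G) with hN
  have hsz : ∀ x : N, ¬ p ∣ Nat.card (ConjClasses.mk (x : G)).carrier := fun x => by
    rw [card_carrier]
    refine fun h => P.not_dvd_index (h.trans (Subgroup.index_dvd_of_le fun u hu => ?_))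
    rw [Subgroup.mem_centralizer_singleton_iff]
    exact Subgroup.mem_centralizer_iff.1 (hcen x) u hu
  refine Nat.card_congr (Equiv.ofBijective (fun D => ⟨ConjClasses.map N.subtype D, ?_⟩) ⟨?_, ?_⟩)
  · obtain ⟨x, rfl⟩ := D.exists_rep
    exact hsz x
  · intro D D' h
    obtain ⟨x, rfl⟩ := D.exists_rep
    obtain ⟨y, rfl⟩ := D'.exists_rep
    obtain ⟨g, hg⟩ := isConj_iff.1 (ConjClasses.mk_eq_mk_iff_isConj.1 (congrArg Subtype.val h))
    simp only [Subgroup.coe_subtype] at hg
    set C := Subgroup.centralizer ({(y : G)} : Set G) with hC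
    have h1 : (P : Subgroup G) ≤ C := fun u hu => by
      rw [hC, Subgroup.mem_centralizer_singleton_iff]
      exact Subgroup.mem_centralizer_iff.1 (hcen y) u hu
    have h2 : ((g • P : Sylow p G) : Subgroup G) ≤ C := by
      intro u hu
      rw [Sylow.coe_subgroup_smul, Subgroup.mem_pointwise_smul_iff_inv_smul_mem] at hu
      rw [hC, Subgroup.mem_centralizer_singleton_iff, ← hg]
      simp only [MulAut.smul_def, ← map_inv, MulAut.conj_apply, inv_inv] at hu
      have h3 := Subgroup.mem_centralizer_iff.1 (hcen x) _ hu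
      calc u * (g * (x : G) * g⁻¹) = g * ((g⁻¹ * u * g) * (x : G)) * g⁻¹ := by group
        _ = g * ((x : G) * (g⁻¹ * u * g)) * g⁻¹ := by rw [h3]
        _ = _ := by group
    obtain ⟨c, hc⟩ := MulAction.exists_smul_eq C ((g • P).subtype h2) (P.subtype h1)
    have hc' : ((c : G) * g) • P = P := by
      rw [mul_smul]
      refine Sylow.subtype_injective (hP := ?_) (hQ := h1) ?_
      · intro u hu
        rw [Sylow.coe_subgroup_smul, Subgroup.mem_pointwise_smul_iff_inv_smul_mem] at hu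
        simp only [MulAut.smul_def, ← map_inv, MulAut.conj_apply, inv_inv] at hu
        have h4 := C.mul_mem (C.mul_mem c.2 (h2 hu)) (C.inv_mem c.2)
        simpa [mul_assoc] using h4
      · rw [← hc]
        exact Sylow.smul_subtype h2 c |>.symm
    have hmem : (c : G) * g ∈ N := Sylow.smul_eq_iff_mem_normalizer.1 hc'
    refine ConjClasses.mk_eq_mk_iff_isConj.2 (isConj_iff.2 ⟨⟨_, hmem⟩, Subtype.ext ?_⟩)
    show (c : G) * g * (x : G) * ((c : G) * g)⁻¹ = (y : G)
    rw [show (c : G) * g * (x : G) * ((c : G) * g)⁻¹ = (c : G) * (g * (x : G) * g⁻¹) * (c : G)⁻¹ by group,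
      hg, Subgroup.mem_centralizer_singleton_iff.1 c.2, mul_inv_cancel_right]
  · rintro ⟨D, hD⟩
    obtain ⟨g, rfl⟩ := D.exists_rep
    rw [← ConjClasses.quot_mk_eq_mk, ConjClasses.quot_mk_eq_mk] at hD
    rw [card_carrier] at hD
    set C := Subgroup.centralizer ({g} : Set G) with hC
    obtain ⟨Q⟩ : Nonempty (Sylow p C) := inferInstance
    have hQi : ¬ p ∣ ((Q : Subgroup C).map C.subtype).index := by
      rw [Subgroup.index_map_subtype]
      exact fun h => ((Fact.out : p.Prime).dvd_mul.1 h).elim Q.not_dvd_index hD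
    obtain ⟨t, ht⟩ := MulAction.exists_smul_eq G ((Q.isPGroup'.map C.subtype).toSylow hQi) P
    have hx : t * g * t⁻¹ ∈ N := by
      refine Subgroup.centralizer_le_normalizer _ ?_
      rw [Subgroup.mem_centralizer_iff]
      intro u hu
      rw [← ht] at hu
      change u ∈ ((t • ((Q.isPGroup'.map C.subtype).toSylow hQi) : Sylow p G) : Subgroup G) at hu
      rw [Sylow.coe_subgroup_smul, Subgroup.mem_pointwise_smul_iff_inv_smul_mem] at hu
      simp only [MulAut.smul_def, ← map_inv, MulAut.conj_apply, inv_inv] at hu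
      obtain ⟨v, -, hv⟩ := hu
      have h3 : (t⁻¹ * u * t) * g = g * (t⁻¹ * u * t) := by
        rw [← hv]; exact Subgroup.mem_centralizer_singleton_iff.1 v.2
      calc u * (t * g * t⁻¹) = t * ((t⁻¹ * u * t) * g) * t⁻¹ := by group
        _ = t * (g * (t⁻¹ * u * t)) * t⁻¹ := by rw [h3]
        _ = _ := by group
    refine ⟨ConjClasses.mk ⟨_, hx⟩, Subtype.ext ?_⟩
    exact ConjClasses.mk_eq_mk_iff_isConj.2 (isConj_iff.2 ⟨t, rfl⟩).symm

theorem mul_ext_irr {G : Type u} [Group G] [Fintype G] (N : Subgroup G) [N.Normal] [Fintype N]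
    {η ψ : G → ℂ} (hη : IsIrrCharacter G η) (hηN : IsIrrCharacter N (fun n : N => η n))
    (hψ : IsIrrCharacter G ψ) (hψN : ∀ (n : N) (g : G), ψ ((n : G) * g) = ψ g) :
    IsIrrCharacter G (ψ * η) := by
  refine Cfsg.Agent.Char.IsChar.irr_of_norm_one (Cfsg.Agent.Char.IsChar.mul
    (Cfsg.Agent.Char.IsIrr.isCharacter hψ) (Cfsg.Agent.Char.IsIrr.isCharacter hη)) ?_
  set h : G → ℂ := fun g => conj (ψ g) * ψ g with hh
  have havg : Cfsg.Agent.Char.avgN N h = h := by
    funext g
    simp only [Cfsg.Agent.Char.avgN, hh, hψN, Finset.sum_const, Finset.card_univ, nsmul_eq_mul,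
      ← Nat.card_eq_fintype_card]
    rw [inv_mul_cancel_left₀ (Nat.cast_ne_zero.mpr Nat.card_pos.ne')]
  have h1 : classInner (ψ * η) (ψ * η) = classInner (η * fun g => conj (η g)) h := by
    simp only [classInner, hh, Pi.mul_apply, map_mul, Complex.conj_conj]
    congr 1
    exact Finset.sum_congr rfl fun g _ => by ring
  rw [h1, ← havg, ← Cfsg.Agent.Char.classInner_avgN, Cfsg.Agent.Char.InvCover.avgN_absSq N hη hηN]
  refine Eq.trans ?_ (Cfsg.Agent.Char.classInner_self_irr hψ)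
  simp only [classInner, hh, map_mul, Complex.conj_conj, one_mul]
  


/-- Let p be a prime and G a finite group that is not nilpotent and has a normal p-complement (a normal subgroup of order prime to p and index a power of p). If G has exactly one irreducible complex character of degree divisible by p, then G has exactly one conjugacy class whose size is divisible by p. -/
theorem result {G : Type*} [Group G] [Finite G] (p : ℕ) [Fact p.Prime] (hnil : ¬ Group.IsNilpotent G) (N : Subgroup G) [N.Normal] (hN : (Nat.card N).Coprime p) (hidx : ∃ k : ℕ, N.index = p ^ k) (hone : Nat.card {χ : Cfsg.IrrCharacter G // p ∣ Cfsg.charDegree (χ : G → ℂ)} = 1) : Nat.card {C : ConjClasses G // p ∣ Nat.card C.carrier} = 1 := by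
  classical
  haveI := Fintype.ofFinite G
  haveI := Fintype.ofFinite N
  haveI := Fintype.ofFinite (G ⧸ N)
  have hp : p.Prime := Fact.out
  obtain ⟨k, hk⟩ := hidx
  obtain ⟨hsub, ⟨⟨χ₀, h0⟩⟩⟩ := Nat.card_eq_one_iff_unique.1 hone
  have huniq : ∀ χ : Cfsg.IrrCharacter G, p ∣ Cfsg.charDegree (χ : G → ℂ) → χ = χ₀ := fun χ hχ =>
    congrArg Subtype.val (Subsingleton.elim (⟨χ, hχ⟩ : {χ : Cfsg.IrrCharacter G // p ∣ Cfsg.charDegree (χ : G → ℂ)}) ⟨χ₀, h0⟩)
  have hNp : ¬ p ∣ Nat.card N := fun h => hp.one_lt.ne' (Nat.eq_one_of_dvd_coprimes hN h dvd_rfl)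
  have hk0 : k ≠ 0 := by
    rintro rfl
    rw [pow_zero, Subgroup.index_eq_one] at hk
    subst hk
    rw [Subgroup.card_top] at hNp
    exact hNp (h0.trans (Cfsg.Agent.Char.CopDeg.degree_dvd_card' χ₀))
  have hNtop : N ≠ ⊥ := by
    rintro rfl
    rw [Subgroup.index_bot] at hk
    exact hnil (IsPGroup.of_card hk).isNilpotent
  obtain ⟨P⟩ : Nonempty (Sylow p G) := inferInstance
  have hPc : Nat.card (P : Subgroup G) = p ^ k := by
    rw [P.card_eq_multiplicity, ← N.card_mul_index, hk, Nat.factorization_mul Nat.card_pos.ne'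
      (pow_ne_zero _ hp.ne_zero), Finsupp.add_apply, Nat.factorization_eq_zero_of_not_dvd hNp,
      Nat.Prime.factorization_pow hp, Finsupp.single_eq_same, zero_add]
  have hcop : (Nat.card N).Coprime (Nat.card (P : Subgroup G)) := by
    rw [hPc]; exact hN.pow_right k
  have hdisj : Disjoint N (P : Subgroup G) := Subgroup.disjoint_of_coprime_natCard hcop
  -- the quotient is commutative
  have habq : ∀ a b : G ⧸ N, a * b = b * a := by
    by_contra hna
    obtain ⟨ψ, hψd⟩ : ∃ ψ : Cfsg.IrrCharacter (G ⧸ N), Cfsg.charDegree (ψ : G ⧸ N → ℂ) ≠ 1 := by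
      by_contra hall
      push Not at hall
      refine hna fun a b => ?_
      have hc : IsConj (a * b * a⁻¹ * b⁻¹) 1 := (Cfsg.Agent.Char.isConj_iff_irr _ _).2 fun χ => by
        obtain ⟨l, hl⟩ := Cfsg.Agent.Char.linearHom_of_isCharacter (Cfsg.Agent.Block.irr_isChar χ)
          (by rw [Cfsg.Agent.Block.charDeg_spec' χ, hall χ, Nat.cast_one])
        rw [congrFun hl (a * b * a⁻¹ * b⁻¹), congrFun hl 1, map_mul, map_mul, map_mul, map_one, map_inv, map_inv,
          mul_comm (l a) (l b), mul_assoc (l b), mul_inv_cancel, mul_one, mul_inv_cancel]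
      have h1 := isConj_one_left.1 hc
      exact mul_inv_eq_iff_eq_mul.1 (mul_inv_eq_one.1 h1)
    have hψp : p ∣ Cfsg.charDegree (ψ : G ⧸ N → ℂ) := by
      have hd := Cfsg.Agent.Char.CopDeg.degree_dvd_card' ψ
      rw [← Subgroup.index_eq_card, hk] at hd
      obtain ⟨j, -, hj⟩ := (Nat.dvd_prime_pow hp).1 hd
      rcases j with _ | j
      · exact absurd hj hψd
      · exact hj ▸ dvd_pow_self p j.succ_ne_zero
    set ψ' : Cfsg.IrrCharacter G := ⟨fun g => (ψ : G ⧸ N → ℂ) (g : G ⧸ N),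
      Cfsg.Agent.Char.IsIrr.comp_surjective (QuotientGroup.mk' N) (QuotientGroup.mk'_surjective N) ψ.2⟩
    have hψ'd : Cfsg.charDegree (ψ' : G → ℂ) = Cfsg.charDegree (ψ : G ⧸ N → ℂ) := by
      simp [ψ', Cfsg.charDegree]
    have hψ'1 : ∀ n : N, (ψ' : G → ℂ) n = (ψ' : G → ℂ) 1 := fun n => by
      show (ψ : G ⧸ N → ℂ) ((n : G) : G ⧸ N) = (ψ : G ⧸ N → ℂ) ((1 : G) : G ⧸ N)
      rw [(QuotientGroup.eq_one_iff _).2 n.2, QuotientGroup.mk_one]
    obtain ⟨θ, hθ⟩ : ∃ θ : Cfsg.IrrCharacter N, θ ≠ Cfsg.Agent.Block.trivialIrr N := by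
      haveI : Nontrivial N := (Subgroup.nontrivial_iff_ne_bot N).2 hNtop
      obtain ⟨n, hn⟩ := exists_ne (1 : N)
      by_contra hall
      push Not at hall
      refine hn (isConj_one_left.1 ((Cfsg.Agent.Char.isConj_iff_irr n 1).2 fun χ => ?_))
      rw [hall χ]; rfl
    obtain ⟨χ, hχ⟩ := Cfsg.Agent.Block.exists_over N θ
    have hconst : ∀ φ : Cfsg.IrrCharacter G, (∀ n : N, (φ : G → ℂ) n = (φ : G → ℂ) 1) →
        Cfsg.classInner (fun n : N => (φ : G → ℂ) n) (θ : N → ℂ) = 0 := fun φ hφ => by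
      rw [show (fun n : N => (φ : G → ℂ) n) = (φ : G → ℂ) 1 • (Cfsg.Agent.Block.trivialIrr N : N → ℂ)
        from funext fun n => by simp [hφ n, Cfsg.Agent.Block.trivialIrr],
        Cfsg.Agent.Char.classInner_smul_left, Cfsg.Agent.Char.classInner_irr_ne
          (Cfsg.Agent.Block.trivialIrr N).2 θ.2 (fun e => hθ (Subtype.ext e.symm)), mul_zero]
    by_cases hχp : p ∣ Cfsg.charDegree (χ : G → ℂ)
    · have e : χ = ψ' := (huniq χ hχp).trans (huniq ψ' (hψ'd ▸ hψp)).symm
      subst e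
      exact hχ (hconst _ hψ'1)
    · obtain ⟨-, hdeg⟩ := Cfsg.Agent.Char.PPrime.inertia_of_pPrime hk χ hχp θ hχ
      have hres : (fun n : N => (χ : G → ℂ) n) = (θ : N → ℂ) :=
        Cfsg.Agent.Char.eq_of_constituent_degree (Cfsg.Agent.Char.IsChar.res
          (Cfsg.Agent.Block.irr_isChar χ) N) θ.2 hχ (by
          show (χ : G → ℂ) ((1 : N) : G) = _
          rw [Subgroup.coe_one, Cfsg.Agent.Block.charDeg_spec' χ, Cfsg.Agent.Block.charDeg_spec' θ, hdeg])
      have hψN : ∀ (n : N) (g : G), (ψ' : G → ℂ) ((n : G) * g) = (ψ' : G → ℂ) g := fun n g => by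
        show (ψ : G ⧸ N → ℂ) (((n : G) * g : G) : G ⧸ N) = (ψ : G ⧸ N → ℂ) (g : G ⧸ N)
        rw [QuotientGroup.mk_mul, (QuotientGroup.eq_one_iff _).2 n.2, one_mul]
      set τ : Cfsg.IrrCharacter G := ⟨(ψ' : G → ℂ) * (χ : G → ℂ),
        mul_ext_irr N χ.2 (hres ▸ θ.2) ψ'.2 hψN⟩
      have hτd : Cfsg.charDegree (τ : G → ℂ) =
          Cfsg.charDegree (ψ' : G → ℂ) * Cfsg.charDegree (χ : G → ℂ) := by
        have := Cfsg.Agent.Block.charDeg_spec' τ
        simp only [τ, Pi.mul_apply, Cfsg.Agent.Block.charDeg_spec', ← Nat.cast_mul, Nat.cast_inj] at this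
        exact this.symm
      have e : τ = ψ' := (huniq τ (hτd ▸ (hψ'd ▸ hψp).mul_right _)).trans (huniq ψ' (hψ'd ▸ hψp)).symm
      refine hθ (Subtype.ext (funext fun n => ?_))
      have h1 := congrFun (congrArg Subtype.val e) (n : G)
      simp only [τ, Pi.mul_apply, hψ'1 n] at h1
      rw [← congrFun hres n]
      exact mul_left_cancel₀ (Cfsg.Agent.Block.irr_one_ne_zero ψ') (h1.trans (mul_one _).symm)
  have hab : ∀ x ∈ (P : Subgroup G), ∀ y ∈ (P : Subgroup G), x * y = y * x := fun x hx y hy => by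
    have h1 : x * y * x⁻¹ * y⁻¹ ∈ N ⊓ (P : Subgroup G) := by
      refine ⟨(QuotientGroup.eq_one_iff _).1 ?_, (P : Subgroup G).mul_mem ((P : Subgroup G).mul_mem
        ((P : Subgroup G).mul_mem hx hy) (inv_mem hx)) (inv_mem hy)⟩
      simp only [QuotientGroup.mk_mul, QuotientGroup.mk_inv]
      rw [habq (x : G ⧸ N) (y : G ⧸ N), mul_inv_cancel_right, mul_inv_cancel]
    rw [hdisj.eq_bot, Subgroup.mem_bot] at h1
    exact mul_inv_eq_iff_eq_mul.1 (mul_inv_eq_one.1 h1)
  have htop : N ⊔ (P : Subgroup G) = ⊤ := by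
    apply Subgroup.eq_top_of_card_eq
    refine le_antisymm (Subgroup.card_le_card_group _) ?_
    rw [← N.card_mul_index, hk, ← hPc]
    exact Nat.le_of_dvd Nat.card_pos (hcop.mul_dvd_of_dvd_of_dvd
      (Subgroup.card_dvd_of_le le_sup_left) (Subgroup.card_dvd_of_le le_sup_right))
  set NP := Subgroup.normalizer ((P : Subgroup G) : Set G) with hNPdef
  have hcen : ∀ x : NP, (x : G) ∈ Subgroup.centralizer ((P : Subgroup G) : Set G) := by
    intro x
    rw [Subgroup.mem_centralizer_iff]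
    intro u hu
    obtain ⟨n, hn, v, hv, hx⟩ := Subgroup.mem_sup_of_normal_left.1 (show (x : G) ∈ N ⊔ (P : Subgroup G) by
      rw [htop]; exact Subgroup.mem_top _)
    have hnN : n ∈ NP := by
      rw [show n = (x : G) * v⁻¹ by rw [← hx]; group]
      exact NP.mul_mem x.2 (NP.inv_mem (Subgroup.le_normalizer hv))
    have h1 : n * u * n⁻¹ * u⁻¹ ∈ N ⊓ (P : Subgroup G) := by
      refine ⟨?_, (P : Subgroup G).mul_mem ((Subgroup.mem_normalizer_iff.1 hnN u).1 hu) (inv_mem hu)⟩
      rw [show n * u * n⁻¹ * u⁻¹ = n * (u * n⁻¹ * u⁻¹) by group]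
      exact N.mul_mem hn ((inferInstance : N.Normal).conj_mem _ (N.inv_mem hn) u)
    rw [hdisj.eq_bot, Subgroup.mem_bot] at h1
    have h2 : n * u = u * n := mul_inv_eq_iff_eq_mul.1 (mul_inv_eq_one.1 h1)
    rw [← hx, ← mul_assoc, ← h2, mul_assoc, hab u hu v hv, ← mul_assoc]
  -- characters of degree prime to `p`
  have hsolv : Group.IsSolvable (P : Subgroup G) := by
    haveI := P.isPGroup'.isNilpotent
    infer_instance
  have hS := Cfsg.Agent.S4452.result N (P : Subgroup G) htop hcop hsolv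
  have hiff : ∀ d : ℕ, d.Coprime (Nat.card (P : Subgroup G)) ↔ ¬ p ∣ d := fun d => by
    rw [hPc, Nat.coprime_pow_right_iff (Nat.pos_of_ne_zero hk0), Nat.coprime_comm, hp.coprime_iff_not_dvd]
  have hall : ∀ η : Cfsg.IrrCharacter NP, ¬ p ∣ Cfsg.charDegree (η : NP → ℂ) := by
    intro η
    haveI := Fintype.ofFinite NP
    set P' : Subgroup NP := (P : Subgroup G).subgroupOf NP
    haveI : P'.Normal := (Subgroup.normal_subgroupOf_iff_le_normalizer Subgroup.le_normalizer).2 le_rfl
    haveI := Fintype.ofFinite P'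
    obtain ⟨θ, hθ⟩ := Cfsg.Agent.Block.exists_constituent_res P' η
    obtain ⟨e, he, hedvd⟩ := Cfsg.Agent.Char.Ext.ratio_dvd_index' η.2 θ.2 hθ
    rw [Cfsg.Agent.Char.IsIrr.one_of_comm (fun a b => Subtype.ext (Subtype.ext (hab _ a.2 _ b.2))) θ.2,
      mul_one, Cfsg.Agent.Block.charDeg_spec' η, Nat.cast_inj] at he
    intro hd
    exact P.not_dvd_index ((hd.trans (he ▸ hedvd)).trans (Subgroup.relIndex_dvd_index_of_le Subgroup.le_normalizer))
  rw [Nat.card_congr (Equiv.subtypeEquivRight fun χ : Cfsg.IrrCharacter G => hiff (Cfsg.charDegree (χ : G → ℂ))),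
    Nat.card_congr (Equiv.subtypeEquivRight fun η : Cfsg.IrrCharacter NP => hiff (Cfsg.charDegree (η : NP → ℂ))),
    Nat.card_congr (Equiv.subtypeUnivEquiv hall), Cfsg.Agent.Char.card_irrCharacter] at hS
  have hcls := card_classes_prime P hab hcen
  have hsum1 : Nat.card {χ : Cfsg.IrrCharacter G // p ∣ Cfsg.charDegree (χ : G → ℂ)} +
      Nat.card {χ : Cfsg.IrrCharacter G // ¬ p ∣ Cfsg.charDegree (χ : G → ℂ)} = Nat.card (Cfsg.IrrCharacter G) := by
    rw [← Nat.card_sum]; exact Nat.card_congr (Equiv.sumCompl _)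
  have hsum2 : Nat.card {C : ConjClasses G // p ∣ Nat.card C.carrier} +
      Nat.card {C : ConjClasses G // ¬ p ∣ Nat.card C.carrier} = Nat.card (ConjClasses G) := by
    rw [← Nat.card_sum]; exact Nat.card_congr (Equiv.sumCompl _)
  rw [Cfsg.Agent.Char.card_irrCharacter, hS, hone] at hsum1
  rw [← hNPdef] at hcls
  omega

end Cfsg.Agent.S4763
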