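import Cfsg.Statements.S4765
import Cfsg.Agent.Lib.Block.SL2Char.PSLDegrees
-- import your own Cfsg.Agent.* helpers here

set_option autoImplicit false
open Cfsg

namespace Cfsg.Agent.S4765

open Cfsg.Agent.Block.SL2Char

/-- Let F be a finite field of characteristic p with at least 4 elements. Then PSL(2,F) has exactly one irreducible complex character of degree divisible by p, and its degree is the order of F. -/
theorem result (p : ℕ) [Fact p.Prime] (F : Type*) [Field F] [Fintype F] [CharP F p] (hF : 4 ≤ Fintype.card F) : Nat.card {χ : Cfsg.IrrCharacter (Matrix.ProjectiveSpecialLinearGroup (Fin 2) F) // p ∣ Cfsg.charDegree (χ : Matrix.ProjectiveSpecialLinearGroup (Fin 2) F → ℂ)} = 1 ∧ ∀ χ : Cfsg.IrrCharacter (Matrix.ProjectiveSpecialLinearGroup (Fin 2) F), p ∣ Cfsg.charDegree (χ : Matrix.ProjectiveSpecialLinearGroup (Fin 2) F → ℂ) → Cfsg.charDegree (χ : Matrix.ProjectiveSpecialLinearGroup (Fin 2) F → ℂ) = Fintype.card F := by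
  classical
  obtain ⟨n, -, hn⟩ := FiniteField.card F p
  have hp : p.Prime := Fact.out
  have hpq : p ∣ Fintype.card F := hn ▸ dvd_pow_self p n.ne_zero
  have key : ∀ χ : Cfsg.IrrCharacter (Matrix.ProjectiveSpecialLinearGroup (Fin 2) F),
      p ∣ Cfsg.charDegree (χ : Matrix.ProjectiveSpecialLinearGroup (Fin 2) F → ℂ) →
      (χ : Matrix.ProjectiveSpecialLinearGroup (Fin 2) F → ℂ) 1 = ((Fintype.card F : ℕ) : ℂ) := by
    intro χ hd
    obtain ⟨d, h1, h⟩ := okDeg_PS χ.2
    rw [charDegree_eq h1] at hd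
    have e : d = Fintype.card F := by
      by_contra hne
      have h2 : p ∣ 1 := by
        rcases okDeg_dvd h with e | e | e
        · exact absurd e hne
        · exact (Nat.dvd_add_right hpq).1 (hd.trans e)
        · have := Nat.dvd_sub hpq (hd.trans e)
          rwa [Nat.sub_sub_self Fintype.card_pos] at this
      exact hp.one_lt.ne' (Nat.dvd_one.1 h2)
    rw [h1, e]
  refine ⟨?_, fun χ h => charDegree_eq (key χ h)⟩
  obtain ⟨K, _, _, _, _, hK⟩ := exists_model F
  obtain ⟨ψ, hψ, hψ1⟩ := (exists_deg_PS (F := F)).1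
  rw [Nat.card_eq_one_iff_unique]
  refine ⟨⟨fun a b => ?_⟩, ⟨⟨⟨ψ, hψ⟩, by rw [charDegree_eq hψ1]; exact hpq⟩⟩⟩
  have pull : ∀ χ : Cfsg.IrrCharacter (Matrix.ProjectiveSpecialLinearGroup (Fin 2) F),
      p ∣ Cfsg.charDegree (χ : Matrix.ProjectiveSpecialLinearGroup (Fin 2) F → ℂ) →
      (fun g => χ.1 (QuotientGroup.mk' (Subgroup.center (Matrix.SpecialLinearGroup (Fin 2) F)) g)) =
        vSS := by
    intro χ hd
    obtain ⟨m, hm, h⟩ := irr_cases_S K hK (Cfsg.Agent.Char.IsIrr.comp_surjective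
      (QuotientGroup.mk' (Subgroup.center (Matrix.SpecialLinearGroup (Fin 2) F)))
      (QuotientGroup.mk'_surjective _) χ.2)
    have hm' : m = Fintype.card F := Nat.cast_injective (R := ℂ) (by rw [← hm, map_one, key χ hd])
    rcases h with ⟨g1, g2⟩ | ⟨g1, g2⟩ | ⟨g1, g2⟩ | ⟨g1, g2⟩ | ⟨g1, -, g2⟩ | ⟨g1, -, g2⟩
    all_goals first | omega | exact g2
  refine Subtype.ext (Subtype.ext (funext fun g => ?_))
  obtain ⟨s, rfl⟩ := QuotientGroup.mk'_surjective _ g
  exact (congrFun (pull a.1 a.2) s).trans (congrFun (pull b.1 b.2) s).symm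

end Cfsg.Agent.S4765
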