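import Cfsg.Statements.S4774
import Cfsg.Agent.Lib.Block.SL2Char.PSLDegrees
-- import your own Cfsg.Agent.* helpers here

set_option autoImplicit false
open Cfsg

namespace Cfsg.Agent.S4774

open Cfsg.Agent.Block.SL2Char

/-- Let F be a finite field of odd characteristic t with q > 5 elements and let S be isomorphic to PSL(2,F) or to SL(2,F). Then the vertices of the character degree graph of S are the primes dividing q(q²−1); the prime t is adjacent to no vertex; two distinct primes dividing q² − 1 are adjacent exactly when one of them is 2, or both divide q + 1, or both divide q − 1. -/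
theorem result (F : Type*) [Field F] [Fintype F] (t : ℕ) [Fact t.Prime] [CharP F t] (ht : t ≠ 2) (q : ℕ) (hq : Fintype.card F = q) (h5 : 5 < q) {S : Type*} [Group S] [Finite S] (hS : Nonempty (S ≃* Matrix.ProjectiveSpecialLinearGroup (Fin 2) F) ∨ Nonempty (S ≃* Matrix.SpecialLinearGroup (Fin 2) F)) : Cfsg.degreePrimes S = {r : ℕ | r.Prime ∧ r ∣ q * (q ^ 2 - 1)} ∧ ∀ r s : ℕ, (Cfsg.degreeGraph S).Adj r s ↔ (r ≠ s ∧ r.Prime ∧ s.Prime ∧ r ∣ q ^ 2 - 1 ∧ s ∣ q ^ 2 - 1 ∧ (r = 2 ∨ s = 2 ∨ (r ∣ q + 1 ∧ s ∣ q + 1) ∨ (r ∣ q - 1 ∧ s ∣ q - 1))) := by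
  classical
  subst hq
  obtain ⟨n, -, hn⟩ := FiniteField.card F t
  have hodd : Fintype.card F % 2 = 1 := by
    have h2 : t % 2 = 1 := (Fact.out : t.Prime).eq_two_or_odd.resolve_left ht
    rw [hn, Nat.pow_mod, h2, one_pow]; rfl
  have h1 : ¬ (Fintype.card F - 1) ∣ 4 := not_dvd_four (Or.inl (by omega))
  have h2 : ¬ (Fintype.card F + 1) ∣ 4 := not_dvd_four (Or.inl (by omega))
  refine ⟨degreePrimes_eq hS h1 h2, fun r s => ?_⟩
  rw [adj_iff t hS h1 h2, sq_sub_one]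
  have hp : 2 ∣ Fintype.card F + 1 := by omega
  have hm : 2 ∣ Fintype.card F - 1 := by omega
  refine and_congr_right fun hne => and_congr_right fun hr => and_congr_right fun hs => ⟨?_, ?_⟩
  · rintro (⟨e1, e2⟩ | ⟨e1, e2⟩)
    · exact ⟨dvd_mul_of_dvd_left e1 _, dvd_mul_of_dvd_left e2 _, Or.inr (Or.inr (Or.inl ⟨e1, e2⟩))⟩
    · exact ⟨dvd_mul_of_dvd_right e1 _, dvd_mul_of_dvd_right e2 _, Or.inr (Or.inr (Or.inr ⟨e1, e2⟩))⟩
  · rintro ⟨d1, d2, h | h | h | h⟩
    · subst h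
      rcases hs.dvd_mul.1 d2 with e | e
      exacts [Or.inl ⟨hp, e⟩, Or.inr ⟨hm, e⟩]
    · subst h
      rcases hr.dvd_mul.1 d1 with e | e
      exacts [Or.inl ⟨e, hp⟩, Or.inr ⟨e, hm⟩]
    · exact Or.inl h
    · exact Or.inr h

end Cfsg.Agent.S4774
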