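import Cfsg.Statements.S4776
import Cfsg.Agent.Lib.Block.DegreeRel.Graph

set_option autoImplicit false
set_option linter.style.haveILetI false

open Cfsg Cfsg.Agent.Block.DegreeRel

namespace Cfsg.Agent.S4776

/-- Let N be a normal subgroup of the finite group G that is not perfect and is contained in the derived subgroup of G. Consider the common-divisor graph on the relative degree set cd(G|N) (the degrees of the irreducible complex characters of G whose kernel does not contain N; two distinct degrees adjacent when they have a common divisor greater than one). Then this graph has at most two connected components; and if a, b ∈ cd(G|N) lie in different components, then one of a, b is coprime to the index m of the derived subgroup of N in N while the other is divisible by every prime divisor of m. -/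
theorem result {G : Type*} [Group G] [Finite G] (N : Subgroup G) [N.Normal] (hN : ⁅N, N⁆ < N) (hNG : N ≤ commutator G) : Nat.card (Cfsg.commonDivisorGraph.induce (Cfsg.relCharDegrees N)).ConnectedComponent ≤ 2 ∧ ∀ (a b : ℕ) (ha : a ∈ Cfsg.relCharDegrees N) (hb : b ∈ Cfsg.relCharDegrees N), ¬ (Cfsg.commonDivisorGraph.induce (Cfsg.relCharDegrees N)).Reachable ⟨a, ha⟩ ⟨b, hb⟩ → (Nat.Coprime a (⁅N, N⁆.relIndex N) ∧ ∀ r : ℕ, r.Prime → r ∣ ⁅N, N⁆.relIndex N → r ∣ b) ∨ (Nat.Coprime b (⁅N, N⁆.relIndex N) ∧ ∀ r : ℕ, r.Prime → r ∣ ⁅N, N⁆.relIndex N → r ∣ a) := by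
  classical
  haveI := Fintype.ofFinite G
  haveI := Fintype.ofFinite N
  have hm1 : ⁅N, N⁆.relIndex N ≠ 1 := fun h => hN.ne (le_antisymm hN.le (Subgroup.relIndex_eq_one.1 h))
  obtain ⟨r, hr, hrm⟩ := Nat.exists_prime_and_dvd hm1
  rw [relIndex_commutator] at hrm
  by_cases hconn : (rGraph N).Preconnected
  · refine ⟨?_, fun a b ha hb h => absurd (hconn _ _) h⟩
    haveI := SimpleGraph.Preconnected.subsingleton_connectedComponent hconn
    exact (Finite.card_le_one_iff_subsingleton.2 inferInstance).trans one_le_two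
  obtain ⟨-, hiff⟩ := dichotomy hNG hr hrm hconn
  refine ⟨?_, fun a b ha hb h => ?_⟩
  · let f : (rGraph N).ConnectedComponent → Prop := fun C =>
      C.lift (fun v : Vtx N => r ∣ (v : ℕ)) fun v w q _ => propext ((hiff v w).1 q.reachable)
    have hf : Function.Injective f := by
      intro C D
      induction C using SimpleGraph.ConnectedComponent.ind with
      | _ v =>
        induction D using SimpleGraph.ConnectedComponent.ind with
        | _ w =>
          intro e
          exact SimpleGraph.ConnectedComponent.eq.2 ((hiff v w).2 (Iff.of_eq e))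
    refine (Nat.card_le_card_of_injective f hf).trans ?_
    simp
  · have h1 : ¬ (r ∣ a ↔ r ∣ b) := fun e => h ((hiff ⟨a, ha⟩ ⟨b, hb⟩).2 e)
    have hsame : ∀ s : ℕ, s.Prime → s ∣ ⁅N, N⁆.relIndex N → ∀ d : Vtx N, s ∣ (d : ℕ) ↔ r ∣ (d : ℕ) :=
      fun s hs hsm d => same_side hNG hs hr (relIndex_commutator (N := N) ▸ hsm) hrm hconn d
    by_cases hra : r ∣ a
    · have hrb : ¬ r ∣ b := fun e => h1 (iff_of_true hra e)
      exact Or.inr ⟨Nat.coprime_of_dvd fun s hs hsb hsm => hrb ((hsame s hs hsm ⟨b, hb⟩).1 hsb),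
        fun s hs hsm => (hsame s hs hsm ⟨a, ha⟩).2 hra⟩
    · have hrb : r ∣ b := Classical.not_not.1 fun e => h1 (iff_of_false hra e)
      exact Or.inl ⟨Nat.coprime_of_dvd fun s hs hsa hsm => hra ((hsame s hs hsm ⟨a, ha⟩).1 hsa),
        fun s hs hsm => (hsame s hs hsm ⟨b, hb⟩).2 hrb⟩

end Cfsg.Agent.S4776
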