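import Cfsg.Statements.S4779
import Cfsg.Agent.Lib.Block.DegreeRel.Solvable

set_option autoImplicit false
set_option linter.style.haveILetI false

open Cfsg Cfsg.Agent.Block.DegreeRel

namespace Cfsg.Agent.S4779

/-- Let N be a solvable normal subgroup of the finite group G contained in the derived subgroup of G, and consider the common-divisor graph on the relative degree set cd(G|N) (degrees of irreducible complex characters of G whose kernel does not contain N, two distinct degrees adjacent when not coprime). If this graph has two vertices that are not joined by any path, then there is a vertex a₀ such that any two distinct vertices in the component of a₀ are adjacent, and any two distinct vertices outside that component are adjacent or have a common neighbour (one component is complete, the other has diameter at most 2). -/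
theorem result {G : Type*} [Group G] [Finite G] (N : Subgroup G) [N.Normal] [Group.IsSolvable N] (hNG : N ≤ commutator G) (hdisc : ¬ (Cfsg.commonDivisorGraph.induce (Cfsg.relCharDegrees N)).Preconnected) : ∃ a₀ : ↥(Cfsg.relCharDegrees N), (∀ b c : ↥(Cfsg.relCharDegrees N), (Cfsg.commonDivisorGraph.induce (Cfsg.relCharDegrees N)).Reachable a₀ b → (Cfsg.commonDivisorGraph.induce (Cfsg.relCharDegrees N)).Reachable a₀ c → b ≠ c → (Cfsg.commonDivisorGraph.induce (Cfsg.relCharDegrees N)).Adj b c) ∧ (∀ b c : ↥(Cfsg.relCharDegrees N), ¬ (Cfsg.commonDivisorGraph.induce (Cfsg.relCharDegrees N)).Reachable a₀ b → ¬ (Cfsg.commonDivisorGraph.induce (Cfsg.relCharDegrees N)).Reachable a₀ c → b ≠ c → (Cfsg.commonDivisorGraph.induce (Cfsg.relCharDegrees N)).Adj b c ∨ ∃ d : ↥(Cfsg.relCharDegrees N), (Cfsg.commonDivisorGraph.induce (Cfsg.relCharDegrees N)).Adj b d ∧ (Cfsg.commonDivisorGraph.induce (Cfsg.relCharDegrees N)).Adj d c) := by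
  classical
  haveI := Fintype.ofFinite G
  haveI := Fintype.ofFinite N
  have hm1 : (commutator N).index ≠ 1 := by
    intro h1
    have hsub : Subsingleton N := by
      by_contra hne
      rw [not_subsingleton_iff_nontrivial] at hne
      exact (IsSolvable.commutator_lt_top_of_nontrivial N).ne (Subgroup.index_eq_one.1 h1)
    refine hdisc fun d _ => ?_
    obtain ⟨χ, ⟨x, hx, hx1⟩, -⟩ := d.2
    exact absurd (congrArg (χ : G → ℂ) (congrArg Subtype.val (Subsingleton.elim (⟨x, hx⟩ : N) 1))) hx1
  obtain ⟨r, hr, hrm⟩ := Nat.exists_prime_and_dvd hm1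
  obtain ⟨-, hiff⟩ := dichotomy hNG hr hrm hdisc
  obtain ⟨a₀, ha₀⟩ : ∃ a₀ : Vtx N, r ∣ (a₀ : ℕ) := by
    by_contra hno
    push Not at hno
    exact hdisc fun d e => (hiff d e).2 (iff_of_false (hno d) (hno e))
  refine ⟨a₀, fun b c hb hc hbc => ?_, fun b c hb hc hbc => ?_⟩
  · exact (near_of_dvd hr.ne_one (((hiff a₀ b).1 hb).1 ha₀) (((hiff a₀ c).1 hc).1 ha₀)).resolve_left hbc
  · have hrb : ¬ r ∣ (b : ℕ) := fun h => hb ((hiff a₀ b).2 (iff_of_true ha₀ h))
    have hrc : ¬ r ∣ (c : ℕ) := fun h => hc ((hiff a₀ c).2 (iff_of_true ha₀ h))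
    have key : ∀ {x y : Vtx N}, ¬ r ∣ (x : ℕ) → HasB y → Close x y := by
      rintro x y hx ⟨s, hs, hsm, hy⟩
      exact rest_close hNG hs (fun h => hx ((same_side hNG hs hr hsm hrm hdisc x).1 h)) hy
    have hclose : Close b c := by
      by_cases h1 : HasB c
      · exact key hrb h1
      by_cases h2 : HasB b
      · exact (key hrc h2).symm
      obtain ⟨hne, hb'⟩ := no_key_dvd hNG hr hrm hdisc hrb h2
      obtain ⟨-, hc'⟩ := no_key_dvd hNG hr hrm hdisc hrc h1
      obtain ⟨q, hq, hqm⟩ := Nat.exists_prime_and_dvd hne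
      exact (near_of_dvd hq.ne_one (hb' q hq hqm) (hc' q hq hqm)).close
    exact hclose.resolve_left hbc

end Cfsg.Agent.S4779
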