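import Cfsg.Statements.S4798
import Cfsg.Agent.Lib.Char.CoprimeDegree
import Cfsg.Agent.Lib.Char.Induce
import Cfsg.Agent.Lib.Char.Average
import Cfsg.Agent.Lib.Char.Constituent
import Mathlib
-- import your own Cfsg.Agent.* helpers here

set_option autoImplicit false
open Cfsg

namespace Cfsg.Agent.S4798

/-- Let p be a prime and χ a faithful irreducible complex character of the finite group G (χ(g) = χ(1) only for g = 1), so that its codegree is #G / χ(1). Then #G / χ(1) is a power of p if and only if χ is induced from a character of a Sylow p-subgroup of G. -/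
theorem result {G : Type*} [Group G] [Fintype G] (p : ℕ) [Fact p.Prime] (χ : Cfsg.IrrCharacter G) (hfaith : ∀ g : G, (χ : G → ℂ) g = (χ : G → ℂ) 1 → g = 1) : (∃ k : ℕ, Nat.card G = p ^ k * Cfsg.charDegree (χ : G → ℂ)) ↔ ∃ (P : Sylow p G) (θ : ↥(P : Subgroup G) → ℂ), Cfsg.IsCharacter ↥(P : Subgroup G) θ ∧ (χ : G → ℂ) = Cfsg.indFun (P : Subgroup G) θ := by
  classical
  have hp : p.Prime := Fact.out
  constructor
  · rintro ⟨k, hk⟩
    obtain ⟨P⟩ : Nonempty (Sylow p G) := inferInstance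
    haveI := Fintype.ofFinite (P : Subgroup G)
    set d := Cfsg.charDegree (χ : G → ℂ)
    have hd0 : 0 < d := Cfsg.Agent.Block.charDeg_pos χ
    set a := d.factorization p with ha
    have hPc : Nat.card (P : Subgroup G) = p ^ (Nat.card G).factorization p := P.card_eq_multiplicity
    have hPi : (P : Subgroup G).index * p ^ a = d := by
      have h1 := (P : Subgroup G).index_mul_card
      rw [hPc] at h1
      have h2 : (Nat.card G).factorization p = k + a := by
        rw [hk, Nat.factorization_mul (pow_ne_zero _ hp.ne_zero) hd0.ne', Finsupp.add_apply,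
          Nat.Prime.factorization_pow hp, Finsupp.single_eq_same]
      rw [h2, hk, pow_add, mul_comm (p ^ k), ← mul_assoc, mul_comm (p ^ k)] at h1
      exact Nat.eq_of_mul_eq_mul_right (pow_pos hp.pos k) h1
    obtain ⟨c, hc, hdec⟩ := Cfsg.Agent.Char.IsChar.exists_decomp_inner
      (Cfsg.Agent.Char.IsChar.res (Cfsg.Agent.Block.irr_isChar χ) (P : Subgroup G))
    have hd : d = ∑ φ : Cfsg.IrrCharacter (P : Subgroup G), c φ * Cfsg.charDegree (φ : ↥(P : Subgroup G) → ℂ) := by
      have := congrFun hdec 1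
      rw [Cfsg.Agent.Char.sum_irr_apply] at this
      simp only [Subgroup.coe_one, Cfsg.Agent.Block.charDeg_spec'] at this
      exact_mod_cast this
    have hnd : ¬ p ^ (a + 1) ∣ d := Nat.pow_succ_factorization_not_dvd hd0.ne' hp
    obtain ⟨θ, hθc, hθd⟩ : ∃ θ : Cfsg.IrrCharacter (P : Subgroup G), c θ ≠ 0 ∧
        Cfsg.charDegree (θ : ↥(P : Subgroup G) → ℂ) ∣ p ^ a := by
      by_contra hno
      push Not at hno
      refine hnd (hd ▸ Finset.dvd_sum fun φ _ => ?_)
      by_cases h0 : c φ = 0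
      · simp [h0]
      · obtain ⟨j, -, hj⟩ := (Nat.dvd_prime_pow hp).1 (hPc ▸ Cfsg.Agent.Char.CopDeg.degree_dvd_card' φ)
        have hja : ¬ j ≤ a := fun hle => hno φ h0 (hj ▸ pow_dvd_pow p hle)
        exact (hj ▸ pow_dvd_pow p (by omega : a + 1 ≤ j)).mul_left _
    refine ⟨P, (θ : ↥(P : Subgroup G) → ℂ), Cfsg.Agent.Block.irr_isChar θ, ?_⟩
    have hI := Cfsg.Agent.Char.isCharacter_indFun (P : Subgroup G) (Cfsg.Agent.Block.irr_isChar θ)
    have hne : Cfsg.classInner (Cfsg.indFun (P : Subgroup G) (θ : ↥(P : Subgroup G) → ℂ)) (χ : G → ℂ) ≠ 0 := by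
      rw [Cfsg.Agent.Char.classInner_indFun _ _ (Cfsg.Agent.Block.irr_classFun χ),
        ← Cfsg.Agent.Char.classInner_conj_symm, hc, map_natCast]
      exact Nat.cast_ne_zero.2 hθc
    have h1 : Cfsg.indFun (P : Subgroup G) (θ : ↥(P : Subgroup G) → ℂ) 1 =
        (((P : Subgroup G).index * Cfsg.charDegree (θ : ↥(P : Subgroup G) → ℂ) : ℕ) : ℂ) := by
      rw [Cfsg.Agent.Char.indFun_one_eq, Cfsg.Agent.Block.charDeg_spec' θ, Nat.cast_mul]
    have hle := Cfsg.Agent.Char.degree_le_of_constituent hI χ.2 hne h1 (Cfsg.Agent.Block.charDeg_spec' χ)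
    have hge : (P : Subgroup G).index * Cfsg.charDegree (θ : ↥(P : Subgroup G) → ℂ) ≤ d := by
      rw [← hPi]
      exact Nat.mul_le_mul_left _ (Nat.le_of_dvd (pow_pos hp.pos a) hθd)
    refine (Cfsg.Agent.Char.eq_of_constituent_degree hI χ.2 hne ?_).symm
    rw [h1, Cfsg.Agent.Block.charDeg_spec' χ, le_antisymm hge hle]
  · rintro ⟨P, θ, hθ, hχ⟩
    obtain ⟨n, hn⟩ := Cfsg.Agent.Char.IsChar.one_eq_nat hθ
    have h1 : Cfsg.charDegree (χ : G → ℂ) = (P : Subgroup G).index * n := by
      have := congrFun hχ 1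
      rw [Cfsg.Agent.Char.indFun_one_eq, hn, Cfsg.Agent.Block.charDeg_spec' χ] at this
      exact_mod_cast this
    have h2 := Cfsg.Agent.Char.CopDeg.degree_dvd_card' χ
    rw [h1, ← (P : Subgroup G).index_mul_card] at h2
    have hi : 0 < (P : Subgroup G).index := Nat.pos_of_ne_zero Subgroup.index_ne_zero_of_finite
    have h3 : n ∣ Nat.card (P : Subgroup G) := Nat.dvd_of_mul_dvd_mul_left hi h2
    rw [P.card_eq_multiplicity] at h3
    obtain ⟨j, hj, hj'⟩ := (Nat.dvd_prime_pow hp).1 h3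
    refine ⟨(Nat.card G).factorization p - j, ?_⟩
    conv_lhs => rw [← (P : Subgroup G).index_mul_card, P.card_eq_multiplicity]
    rw [h1, hj', mul_left_comm, ← pow_add, Nat.sub_add_cancel hj]

end Cfsg.Agent.S4798
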