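import Cfsg.Agent.Lib.Block.FirstMain
import Cfsg.Agent.Lib.Char.Complete
import Cfsg.Statements.S4802
-- import your own Cfsg.Agent.* helpers here

set_option autoImplicit false
open Cfsg

namespace Cfsg.Agent.S4802

/-- Let N < M be normal subgroups of the finite group G and g ∈ M ∖ N. Then the conjugacy class of g is exactly M ∖ N if and only if every irreducible complex character of G whose kernel contains N takes the same value at all elements of M ∖ N, and every irreducible complex character of G whose kernel does not contain N vanishes at g. -/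
theorem result {G : Type*} [Group G] [Finite G] (N M : Subgroup G) [N.Normal] [M.Normal] (hNM : N < M) (g : G) (hgM : g ∈ M) (hgN : g ∉ N) : {h : G | IsConj g h} = (M : Set G) \ (N : Set G) ↔ ((∀ χ : Cfsg.IrrCharacter G, (∀ x ∈ N, (χ : G → ℂ) x = (χ : G → ℂ) 1) → ∀ x ∈ M, x ∉ N → ∀ y ∈ M, y ∉ N → (χ : G → ℂ) x = (χ : G → ℂ) y) ∧ (∀ χ : Cfsg.IrrCharacter G, (∃ x ∈ N, (χ : G → ℂ) x ≠ (χ : G → ℂ) 1) → (χ : G → ℂ) g = 0)) := by
  classical
  cases nonempty_fintype G
  cases nonempty_fintype (Cfsg.IrrCharacter G)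
  cases nonempty_fintype N
  have hmem : ∀ h, IsConj g h → h ∈ M ∧ h ∉ N := by
    intro h hh
    obtain ⟨t, rfl⟩ := isConj_iff.1 hh
    exact ⟨Subgroup.Normal.conj_mem inferInstance g hgM t, fun hN => hgN (by
      simpa [mul_assoc] using Subgroup.Normal.conj_mem (inferInstance : N.Normal) _ hN t⁻¹)⟩
  constructor
  · intro hset
    have hconj : ∀ x ∈ M, x ∉ N → IsConj g x := fun x hx hx' => by
      have : x ∈ {h : G | IsConj g h} := by rw [hset]; exact ⟨hx, hx'⟩
      exact this
    refine ⟨fun χ _ x hx hx' y hy hy' => Cfsg.Agent.Char.IsClass.eq_of_isConj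
      (Cfsg.Agent.Char.IsIrr.classFun χ.2) ((hconj x hx hx').symm.trans (hconj y hy hy')),
      fun χ ⟨x, hx, hne⟩ => ?_⟩
    have h0 := Cfsg.Agent.Block.sum_normal_mul_eq_zero N χ (fun hk => hne (hk x hx)) g
    rw [Finset.sum_congr rfl (fun (u : N) _ => Cfsg.Agent.Char.IsClass.eq_of_isConj
      (Cfsg.Agent.Char.IsIrr.classFun χ.2) (hconj ((u : G) * g) (mul_mem (hNM.le u.2) hgM)
        (fun hN => hgN (by simpa using mul_mem (inv_mem u.2) hN))).symm), Finset.sum_const,
      nsmul_eq_mul, mul_eq_zero, Nat.cast_eq_zero] at h0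
    exact h0.resolve_left (Finset.card_ne_zero.2 Finset.univ_nonempty)
  · rintro ⟨h1, h2⟩
    refine Set.ext fun h => ⟨fun hh => hmem h hh, fun hh => ?_⟩
    by_contra hnc
    have e := Cfsg.Agent.Char.sum_irr_mul_conj g h
    have e' := Cfsg.Agent.Char.sum_irr_mul_conj g g
    rw [if_neg (show ¬ IsConj g h from hnc)] at e
    rw [if_pos (IsConj.refl g)] at e'
    have : (Nat.card ↥(Subgroup.centralizer ({g} : Set G)) : ℂ) = 0 := by
      rw [← e', ← e]
      refine Finset.sum_congr rfl fun χ _ => ?_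
      by_cases hk : ∀ x ∈ N, (χ : G → ℂ) x = (χ : G → ℂ) 1
      · rw [h1 χ hk h hh.1 hh.2 g hgM hgN]
      · push Not at hk
        rw [h2 χ hk, zero_mul, zero_mul]
    exact Nat.card_pos.ne' (Nat.cast_eq_zero.1 this)

end Cfsg.Agent.S4802
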