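import Cfsg.Statements.S4811
import Cfsg.Agent.Lib.Block.PrimeDegreesThree

set_option autoImplicit false
open Cfsg

namespace Cfsg.Agent.S4811

/-- For every finite solvable group G the character degree graph of G (vertices: the primes dividing some irreducible complex character degree; edges: distinct primes whose product divides some degree) has at most two connected components. -/
theorem result {G : Type*} [Group G] [Finite G] [Group.IsSolvable G] : Nat.card ((Cfsg.degreeGraph G).induce (Cfsg.degreePrimes G)).ConnectedComponent ≤ 2 := by
  exact Cfsg.Agent.Block.PrimeNL.solvable_components

end Cfsg.Agent.S4811
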