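import Cfsg.Agent.Lib.Char.Schur
import Cfsg.Agent.Lib.Block.Central
import Cfsg.Statements.S4814
-- import your own Cfsg.Agent.* helpers here

set_option autoImplicit false
open Cfsg

namespace Cfsg.Agent.S4814

/-- Let G be a finite group such that the sum, over the irreducible complex characters χ of G, of 1/χ(1)² is less than 2. Then every element of G is a product of two commutators. -/
theorem result {G : Type*} [Group G] [Finite G]
    (h : ∑ᶠ χ : Cfsg.IrrCharacter G, 1 / ‖(χ : G → ℂ) 1‖ ^ 2 < (2 : ℝ)) (g : G) :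
    ∃ a b c d : G, (a * b * a⁻¹ * b⁻¹) * (c * d * c⁻¹ * d⁻¹) = g := by
  classical
  cases nonempty_fintype G
  cases nonempty_fintype (Cfsg.IrrCharacter G)
  by_contra hno
  push Not at hno
  have hG : (Nat.card G : ℂ) ≠ 0 := Nat.cast_ne_zero.mpr Nat.card_pos.ne'
  have key : ∀ (χ : Cfsg.IrrCharacter G) (t : G),
      ∑ x : G, ∑ y : G, (χ : G → ℂ) (x * y * x⁻¹ * y⁻¹ * t) =
        (Nat.card G : ℂ) ^ 2 / (χ : G → ℂ) 1 ^ 2 * (χ : G → ℂ) t := by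
    intro χ t
    rw [Finset.sum_comm]
    have e : ∀ y : G, ∑ x : G, (χ : G → ℂ) (x * y * x⁻¹ * y⁻¹ * t) =
        (Nat.card G : ℂ) / (χ : G → ℂ) 1 * ((χ : G → ℂ) y * (χ : G → ℂ) (y⁻¹ * t)) := fun y => by
      have := Cfsg.Agent.Char.sum_conj_apply χ.2 y (y⁻¹ * t)
      simp only [← mul_assoc] at this ⊢
      rw [this]; ring
    rw [Finset.sum_congr rfl fun y _ => e y, ← Finset.mul_sum]
    have e2 : ∑ y : G, (χ : G → ℂ) y * (χ : G → ℂ) (y⁻¹ * t) =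
        (Nat.card G : ℂ) * (χ : G → ℂ) t / (χ : G → ℂ) 1 := by
      rw [← Cfsg.Agent.Char.sum_mul_conj_shift χ.2 t]
      refine Fintype.sum_equiv (Equiv.inv G) _ _ fun y => ?_
      simp [Cfsg.Agent.Char.IsIrr.apply_inv χ.2]
    rw [e2]; ring
  have hzero : ∑ a : G, ∑ b : G, ∑ c : G, ∑ d : G,
      ∑ χ : Cfsg.IrrCharacter G, (χ : G → ℂ) 1 *
        (χ : G → ℂ) (a * b * a⁻¹ * b⁻¹ * (c * d * c⁻¹ * d⁻¹ * g⁻¹)) = 0 := by
    refine Finset.sum_eq_zero fun a _ => Finset.sum_eq_zero fun b _ =>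
      Finset.sum_eq_zero fun c _ => Finset.sum_eq_zero fun d _ => ?_
    have hne : a * b * a⁻¹ * b⁻¹ * (c * d * c⁻¹ * d⁻¹ * g⁻¹) ≠ 1 := fun h =>
      hno a b c d (by rw [← mul_assoc] at h; exact mul_inv_eq_one.1 h)
    have h1 := Cfsg.Agent.Char.sum_irr_mul_conj (a * b * a⁻¹ * b⁻¹ * (c * d * c⁻¹ * d⁻¹ * g⁻¹)) 1
    rw [if_neg fun hc => hne (isConj_one_left.1 hc)] at h1
    refine Eq.trans ?_ h1
    refine Finset.sum_congr (by ext; simp) fun χ _ => ?_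
    obtain ⟨m, -, hm⟩ := Cfsg.Agent.Char.IsIrr.one_eq_pos χ.2
    rw [hm, Complex.conj_natCast, mul_comm]
  have hsum : ∑ χ : Cfsg.IrrCharacter G, (χ : G → ℂ) g⁻¹ / (χ : G → ℂ) 1 ^ 3 = 0 := by
    have e : ∀ χ : Cfsg.IrrCharacter G, ∑ a : G, ∑ b : G, ∑ c : G, ∑ d : G,
        (χ : G → ℂ) 1 * (χ : G → ℂ) (a * b * a⁻¹ * b⁻¹ * (c * d * c⁻¹ * d⁻¹ * g⁻¹)) =
        (Nat.card G : ℂ) ^ 4 * ((χ : G → ℂ) g⁻¹ / (χ : G → ℂ) 1 ^ 3) := by
      intro χ
      simp only [← Finset.mul_sum]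
      rw [Finset.sum_congr rfl fun a _ => Finset.sum_comm]
      rw [Finset.sum_comm]
      rw [Finset.sum_congr rfl fun c _ => Finset.sum_congr rfl fun a _ => Finset.sum_comm]
      rw [Finset.sum_congr rfl fun c _ => Finset.sum_comm]
      rw [Finset.sum_congr rfl fun c _ => Finset.sum_congr rfl fun d _ =>
        key χ (c * d * c⁻¹ * d⁻¹ * g⁻¹)]
      simp only [← Finset.mul_sum]
      rw [key χ g⁻¹]
      have := Cfsg.Agent.Block.irr_one_ne_zero χ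
      field_simp
    have h0 : ∑ χ : Cfsg.IrrCharacter G,
        (Nat.card G : ℂ) ^ 4 * ((χ : G → ℂ) g⁻¹ / (χ : G → ℂ) 1 ^ 3) = 0 := by
      rw [← hzero, Finset.sum_congr rfl fun χ _ => (e χ).symm, Finset.sum_comm]
      refine Finset.sum_congr rfl fun a _ => ?_
      rw [Finset.sum_comm]
      refine Finset.sum_congr rfl fun b _ => ?_
      rw [Finset.sum_comm]
      refine Finset.sum_congr rfl fun c _ => ?_
      rw [Finset.sum_comm]
    rw [← Finset.mul_sum] at h0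
    exact (mul_eq_zero.1 h0).resolve_left (pow_ne_zero _ hG)
  set τ : Cfsg.IrrCharacter G := ⟨fun _ => 1, Cfsg.Agent.Char.isIrr_one⟩ with hτ
  rw [finsum_eq_sum_of_fintype, ← Finset.add_sum_erase _ _ (Finset.mem_univ τ)] at h
  rw [← Finset.add_sum_erase _ _ (Finset.mem_univ τ)] at hsum
  simp only [hτ, one_pow, div_one] at hsum h
  simp only [norm_one, one_pow, div_one] at h
  have hle : ‖∑ χ ∈ Finset.univ.erase τ, (χ : G → ℂ) g⁻¹ / (χ : G → ℂ) 1 ^ 3‖ ≤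
      ∑ χ ∈ Finset.univ.erase τ, 1 / ‖(χ : G → ℂ) 1‖ ^ 2 := by
    refine (norm_sum_le _ _).trans (Finset.sum_le_sum fun χ _ => ?_)
    have hp : 0 < ‖(χ : G → ℂ) 1‖ := norm_pos_iff.2 (Cfsg.Agent.Block.irr_one_ne_zero χ)
    rw [norm_div, norm_pow, div_le_iff₀ (pow_pos hp 3)]
    calc ‖(χ : G → ℂ) g⁻¹‖ ≤ ‖(χ : G → ℂ) 1‖ :=
          Cfsg.Agent.Char.IsChar.norm_le (Cfsg.Agent.Block.irr_isChar χ) _
      _ = 1 / ‖(χ : G → ℂ) 1‖ ^ 2 * ‖(χ : G → ℂ) 1‖ ^ 3 := by field_simp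
  rw [eq_neg_of_add_eq_zero_right hsum, norm_neg, norm_one] at hle
  simp only [hτ] at hle
  linarith

end Cfsg.Agent.S4814
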