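import Mathlib
import Cfsg.Statements.S4825
import Cfsg.Agent.Lib.Block.SecondMain
import Cfsg.Agent.Lib.Char.Clifford
import Cfsg.Agent.Lib.Block.ClassMul
-- import your own Cfsg.Agent.* helpers here

set_option autoImplicit false
open Cfsg

namespace Cfsg.Agent.S4825

theorem count_facts {ι : Type*} [Fintype ι] {p : ℕ} (hp : p.Prime) (d e : ι → ℕ) (c : ℕ)
    (hd : ∀ i, e i ≠ 0 → d i = e i * c) (hsum : p ∣ ∑ i, e i * d i) :
    (Nat.card {i // ¬ p ∣ d i ∧ e i ≠ 0} = 0 ∨ 2 ≤ Nat.card {i // ¬ p ∣ d i ∧ e i ≠ 0}) ∧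
      (p ≤ 3 → p ∣ Nat.card {i // ¬ p ∣ d i ∧ e i ≠ 0}) := by
  classical
  haveI : Fact p.Prime := ⟨hp⟩
  have hcard : Nat.card {i // ¬ p ∣ d i ∧ e i ≠ 0} =
      (Finset.univ.filter fun i => ¬ p ∣ d i ∧ e i ≠ 0).card := by
    rw [Nat.card_eq_fintype_card, Fintype.card_subtype]
  rw [hcard]
  set S := Finset.univ.filter fun i => ¬ p ∣ d i ∧ e i ≠ 0 with hS
  have hmem : ∀ i ∈ S, ((e i : ℕ) : ZMod p) ≠ 0 ∧ ((c : ℕ) : ZMod p) ≠ 0 := by
    intro i hi
    obtain ⟨-, h1, h2⟩ := Finset.mem_filter.1 hi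
    rw [hd i h2] at h1
    rw [Ne, Ne, ZMod.natCast_eq_zero_iff, ZMod.natCast_eq_zero_iff]
    exact ⟨fun h => h1 (dvd_mul_of_dvd_left h _), fun h => h1 (dvd_mul_of_dvd_right h _)⟩
  have h0 : ∑ i ∈ S, ((e i : ZMod p) ^ 2 * (c : ZMod p)) = 0 := by
    have h : ((∑ i, e i * d i : ℕ) : ZMod p) = 0 := (ZMod.natCast_eq_zero_iff _ _).2 hsum
    rw [Nat.cast_sum] at h
    rw [← h]
    refine (Finset.sum_congr rfl fun i hi => ?_).trans
      (Finset.sum_subset (Finset.subset_univ S) fun i _ hi => ?_)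
    · rw [hd i (Finset.mem_filter.1 hi).2.2, Nat.cast_mul, Nat.cast_mul]; ring
    · by_cases he : e i = 0
      · simp [he]
      · have : p ∣ d i := by
          by_contra h'
          exact hi (Finset.mem_filter.2 ⟨Finset.mem_univ _, h', he⟩)
        rw [Nat.cast_mul, (ZMod.natCast_eq_zero_iff (d i) p).2 this, mul_zero]
  refine ⟨?_, fun hp3 => ?_⟩
  · by_contra hn
    obtain ⟨i, hi⟩ := Finset.card_eq_one.1 (show S.card = 1 by omega)
    have hm := hmem i (by simp [hi])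
    rw [hi, Finset.sum_singleton, mul_eq_zero] at h0
    exact h0.elim (fun h => hm.1 (pow_eq_zero_iff (two_ne_zero) |>.1 h)) hm.2
  · rcases S.eq_empty_or_nonempty with h | ⟨i, hi⟩
    · simp [h]
    · have hsq : ∀ j ∈ S, ((e j : ZMod p) ^ 2 * (c : ZMod p)) = (c : ZMod p) := by
        intro j hj
        have h1 := ZMod.pow_card_sub_one_eq_one (hmem j hj).1
        have : p = 2 ∨ p = 3 := by have := hp.two_le; omega
        rcases this with h2 | h2
        · have h' : (e j : ZMod p) = 1 := by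
            rw [show p - 1 = 1 by omega, pow_one] at h1
            exact h1
          rw [h', one_pow, one_mul]
        · rw [show p - 1 = 2 by omega] at h1
          rw [h1, one_mul]
      rw [Finset.sum_congr rfl hsq, Finset.sum_const, nsmul_eq_mul, mul_eq_zero] at h0
      exact (ZMod.natCast_eq_zero_iff _ _).1 (h0.resolve_right (hmem i hi).2)


/-- Let p be a prime, G a finite group with Sylow p-subgroup P, M a maximal ideal of the algebraic integers containing p, and B a p-block of G with defect group P. Let N be a normal subgroup of G not containing P and θ an irreducible character of N. Then the number of irreducible characters in B of degree prime to p lying over θ (having θ as a constituent on restriction to N) is either 0 or at least 2, and when p ≤ 3 it is divisible by p. -/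
theorem result {G : Type*} [Group G] [Fintype G] (p : ℕ) [Fact p.Prime] (P : Sylow p G) (M : Ideal Cfsg.AlgInt) (hM : Cfsg.IsPModular p M) (B : Set (Cfsg.IrrCharacter G)) (hB : Cfsg.IsPBlock M B) (hBP : Cfsg.IsDefectGroup p M B P) (N : Subgroup G) [N.Normal] [Fintype N] (hPN : ¬ (P : Subgroup G) ≤ N) (θ : Cfsg.IrrCharacter N) :
    (Nat.card {χ : Cfsg.IrrCharacter G // χ ∈ B ∧ ¬ p ∣ Cfsg.charDegree (χ : G → ℂ) ∧ Cfsg.classInner (fun n : N => (χ : G → ℂ) n) (θ : N → ℂ) ≠ 0} = 0 ∨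
      2 ≤ Nat.card {χ : Cfsg.IrrCharacter G // χ ∈ B ∧ ¬ p ∣ Cfsg.charDegree (χ : G → ℂ) ∧ Cfsg.classInner (fun n : N => (χ : G → ℂ) n) (θ : N → ℂ) ≠ 0}) ∧
    (p ≤ 3 → p ∣ Nat.card {χ : Cfsg.IrrCharacter G // χ ∈ B ∧ ¬ p ∣ Cfsg.charDegree (χ : G → ℂ) ∧ Cfsg.classInner (fun n : N => (χ : G → ℂ) n) (θ : N → ℂ) ≠ 0}) := by
  classical
  have hp : p.Prime := Fact.out
  have hBsub : ∀ χ : Cfsg.IrrCharacter G, Cfsg.IsCharacter G (χ : G → ℂ) := fun χ =>
    Cfsg.Agent.Char.IsIrr.isCharacter χ.2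
  choose e he using fun χ : Cfsg.IrrCharacter G =>
    Cfsg.Agent.Char.IsChar.classInner_nat (Cfsg.Agent.Char.IsChar.res (hBsub χ) N)
      (Cfsg.Agent.Char.IsIrr.isCharacter θ.2)
  obtain ⟨x, hxP, hxN⟩ := SetLike.not_le_iff_exists.1 hPN
  obtain ⟨k, hk⟩ := P.isPGroup' ⟨x, hxP⟩
  have hxk : x ^ p ^ k = 1 := congrArg Subtype.val hk
  obtain ⟨j, -, hxj⟩ := (Nat.dvd_prime_pow hp).1 (orderOf_dvd_of_pow_eq_one hxk)
  have hxx : Cfsg.IsPPart p x x :=
    ⟨1, mul_one x, by simp, ⟨j, hxj⟩, by simp [hp.ne_one]⟩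
  have hsec : ∀ n : N, ∑ χ ∈ Finset.univ.filter (· ∈ B),
      (χ : G → ℂ) x * (χ : G → ℂ) (n : G) = 0 := by
    intro n
    obtain ⟨a, w, haw, hcw, hak, hw, ha1, -⟩ :=
      Cfsg.Agent.Block.exists_pPart_zpowers (p := p) (n : G)⁻¹
    have haN : a ∈ N := (Subgroup.zpowers_le.2 (inv_mem n.2)) ha1
    have h := Cfsg.Agent.Block.section_orth hM (h := (n : G)⁻¹) hxx ⟨w, haw, hcw, hak, hw⟩
      (fun hc => hxN (by
        obtain ⟨t, ht⟩ := isConj_iff.1 hc.symm
        rw [← ht]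
        exact Subgroup.Normal.conj_mem inferInstance a haN t)) hB
    rw [Cfsg.Agent.Block.finsum_mem_block] at h
    simpa only [inv_inv] using h
  have hzero : ∑ χ ∈ Finset.univ.filter (· ∈ B), (e χ : ℂ) * (χ : G → ℂ) x = 0 := by
    simp only [← he, Cfsg.classInner, Finset.mul_sum, Finset.sum_mul]
    rw [Finset.sum_comm]
    refine Finset.sum_eq_zero fun n _ => ?_
    calc _ = (Nat.card N : ℂ)⁻¹ * (starRingEnd ℂ) ((θ : N → ℂ) n) *
          ∑ χ ∈ Finset.univ.filter (· ∈ B), (χ : G → ℂ) x * (χ : G → ℂ) (n : G) := by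
          rw [Finset.mul_sum]
          exact Finset.sum_congr rfl fun χ _ => by ring
      _ = 0 := by rw [hsec n, mul_zero]
  have hdvd : p ∣ ∑ χ ∈ Finset.univ.filter (· ∈ B), e χ * Cfsg.charDegree (χ : G → ℂ) := by
    rw [← Cfsg.Agent.Block.ideal_natCast_iff hM]
    have h : Cfsg.MemLocalIdeal M (∑ χ ∈ Finset.univ.filter (· ∈ B),
        (e χ : ℂ) * ((χ : G → ℂ) x - (χ : G → ℂ) 1)) :=
      Cfsg.Agent.Block.ideal_sum hM fun χ _ => Cfsg.Agent.Block.ideal_mul_left hM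
        (Cfsg.Agent.Block.ring_natCast hM _)
        (Cfsg.Agent.Block.value_pPart_congr hM (hBsub χ) (mul_one x) (Commute.one_right x) hxk
          (one_mem _))
    simp only [mul_sub, Finset.sum_sub_distrib, hzero, zero_sub] at h
    have h' := Cfsg.Agent.Block.ideal_neg h
    rw [neg_neg] at h'
    rw [Nat.cast_sum]
    simp only [Nat.cast_mul, ← Cfsg.Agent.Block.charDeg_spec']
    exact h'
  obtain ⟨a, ha⟩ : ∃ a : ℕ, ∀ χ : Cfsg.IrrCharacter G, e χ ≠ 0 →
      Cfsg.charDegree (χ : G → ℂ) = e χ * a := by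
    refine ⟨(Cfsg.Agent.Char.inertia N (θ : N → ℂ)).index * Cfsg.charDegree (θ : N → ℂ),
      fun χ hχ => ?_⟩
    have h := Cfsg.Agent.Char.clifford_one N χ.2 θ.2 (by
      rw [he χ]; exact_mod_cast hχ)
    rw [he χ, Cfsg.Agent.Block.charDeg_spec', Cfsg.Agent.Block.charDeg_spec'] at h
    rw [← mul_assoc]
    exact_mod_cast h
  have hsum : p ∣ ∑ i : {χ : Cfsg.IrrCharacter G // χ ∈ B},
      e i.1 * Cfsg.charDegree (i.1 : G → ℂ) := by
    rw [← Finset.sum_subtype (Finset.univ.filter (· ∈ B)) (by simp)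
      (fun χ => e χ * Cfsg.charDegree (χ : G → ℂ))]
    exact hdvd
  have key := count_facts hp (fun i : {χ : Cfsg.IrrCharacter G // χ ∈ B} =>
    Cfsg.charDegree (i.1 : G → ℂ)) (fun i => e i.1) a (fun i => ha i.1) hsum
  have hequiv : {χ : Cfsg.IrrCharacter G // χ ∈ B ∧ ¬ p ∣ Cfsg.charDegree (χ : G → ℂ) ∧
      Cfsg.classInner (fun n : N => (χ : G → ℂ) n) (θ : N → ℂ) ≠ 0} ≃
      {i : {χ : Cfsg.IrrCharacter G // χ ∈ B} //
        ¬ p ∣ Cfsg.charDegree (i.1 : G → ℂ) ∧ e i.1 ≠ 0} :=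
    (Equiv.subtypeEquivRight fun χ => by rw [he χ, Nat.cast_ne_zero]).trans
      (Equiv.subtypeSubtypeEquivSubtypeInter (fun χ : Cfsg.IrrCharacter G => χ ∈ B)
        (fun χ => ¬ p ∣ Cfsg.charDegree (χ : G → ℂ) ∧ e χ ≠ 0)).symm
  rw [Nat.card_congr hequiv]
  exact key

end Cfsg.Agent.S4825
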