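import Cfsg.Statements.S4838
import Mathlib
import Cfsg.Agent.Lib.Block.TwoClassLocal
-- import your own Cfsg.Agent.* helpers here

set_option autoImplicit false
open Cfsg

namespace Cfsg.Agent.S4838

/-- Let G be a finite group of order greater than 2 with an irreducible character χ nonzero on exactly two conjugacy classes, N the normal p-subgroup of elements where χ is nonzero, and P a Sylow p-subgroup of G. Then (a) for every x outside N the centralizer of x in G has the same order as the centralizer of xN in G/N; (b) the centre of P lies in N, and equals N exactly when P is normal in G; (c) N, viewed inside P, is a term of the upper central series of P. -/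
theorem result {G : Type*} [Group G] [Finite G] (hG : 2 < Nat.card G) (χ : Cfsg.IrrCharacter G) (hχ : Nat.card {C : ConjClasses G // ∃ g ∈ C.carrier, (χ : G → ℂ) g ≠ 0} = 2) (p : ℕ) [Fact p.Prime] (N : Subgroup G) [N.Normal] (hN : ∀ g : G, g ∈ N ↔ (χ : G → ℂ) g ≠ 0) (hNp : IsPGroup p N) (hN1 : N ≠ ⊥) (P : Sylow p G) :
    (∀ x : G, x ∉ N → Nat.card (Subgroup.centralizer ({x} : Set G)) = Nat.card (Subgroup.centralizer ({(x : G ⧸ N)} : Set (G ⧸ N)))) ∧
      ((Subgroup.center ↥(P : Subgroup G)).map (P : Subgroup G).subtype ≤ N ∧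
        ((Subgroup.center ↥(P : Subgroup G)).map (P : Subgroup G).subtype = N ↔ (P : Subgroup G).Normal)) ∧
      (∃ i : ℕ, Subgroup.upperCentralSeries ↥(P : Subgroup G) i = N.subgroupOf (P : Subgroup G)) := by
  classical
  have ha := fun y (hy : y ∉ N) =>
    Cfsg.Agent.Block.TwoClassLocal.card_centralizer_quotient hG χ hχ N hN hN1 hy
  have hNP : N ≤ (P : Subgroup G) := by
    obtain ⟨R, hR⟩ := hNp.exists_le_sylow
    obtain ⟨g, rfl⟩ := MulAction.exists_smul_eq G R P
    intro n hn
    have h1 : g⁻¹ * n * g ∈ (R : Subgroup G) := hR (by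
      simpa using Subgroup.Normal.conj_mem ‹N.Normal› n hn g⁻¹)
    show n ∈ ((g • R : Sylow p G) : Subgroup G)
    rw [Sylow.coe_subgroup_smul]
    exact ⟨g⁻¹ * n * g, h1, by simp [mul_assoc]⟩
  -- inside `P` centralisers of elements outside `N` are small
  have hsmall : ∀ y : ↥(P : Subgroup G), (y : G) ∉ N →
      Nat.card (Subgroup.centralizer ({y} : Set ↥(P : Subgroup G))) * Nat.card ↥N
        ≤ Nat.card ↥(P : Subgroup G) := by
    intro y hy
    have h1 : Nat.card (Subgroup.centralizer ({y} : Set ↥(P : Subgroup G))) ∣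
        Nat.card (Subgroup.centralizer ({(y : G)} : Set G)) := by
      have h := Subgroup.card_dvd_of_le (show (Subgroup.centralizer ({y} : Set ↥(P : Subgroup G))).map
          (P : Subgroup G).subtype ≤ Subgroup.centralizer ({(y : G)} : Set G) from by
        rintro _ ⟨z, hz, rfl⟩
        rw [Subgroup.mem_centralizer_singleton_iff]
        exact congrArg Subtype.val (Subgroup.mem_centralizer_singleton_iff.mp hz))
      rwa [Subgroup.card_map_of_injective (Subgroup.subtype_injective _)] at h
    rw [ha _ hy] at h1
    have h2 : Nat.card (Subgroup.centralizer ({y} : Set ↥(P : Subgroup G))) * Nat.card ↥N ∣ Nat.card G := by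
      rw [Subgroup.card_eq_card_quotient_mul_card_subgroup N]
      exact Nat.mul_dvd_mul_right (h1.trans (Subgroup.card_subgroup_dvd_card _)) _
    obtain ⟨i, hi⟩ := IsPGroup.iff_card.mp (P.isPGroup'.to_subgroup (Subgroup.centralizer ({y} : Set ↥(P : Subgroup G))))
    obtain ⟨j, hj⟩ := IsPGroup.iff_card.mp hNp
    rw [hi, hj, ← pow_add] at h2 ⊢
    rw [Sylow.card_eq_multiplicity]
    exact Nat.pow_le_pow_right (Fact.out : p.Prime).pos
      (((Fact.out : p.Prime).pow_dvd_iff_le_factorization Nat.card_pos.ne').mp h2)
  have hN2 : 1 < Nat.card ↥N := (Subgroup.one_lt_card_iff_ne_bot N).mpr hN1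
  have hZN : (Subgroup.center ↥(P : Subgroup G)).map (P : Subgroup G).subtype ≤ N := by
    rintro _ ⟨z, hz, rfl⟩
    by_contra hzN
    have h := hsmall z hzN
    have e : Subgroup.centralizer ({z} : Set ↥(P : Subgroup G)) = ⊤ := by
      rw [eq_top_iff]
      intro y _
      exact Subgroup.mem_centralizer_singleton_iff.mpr (Subgroup.mem_center_iff.mp hz y)
    rw [e, Subgroup.card_top] at h
    have : 0 < Nat.card ↥(P : Subgroup G) := Nat.card_pos
    nlinarith
  obtain ⟨M, hMn, hM1, hMmin, -, hMsupp, hMconj⟩ :=
    Cfsg.Agent.Block.TwoClass.minimal_normal hG χ hχ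
  obtain rfl : M = N := Subgroup.ext fun g => by rw [← hMsupp, hN]
  refine ⟨ha, ⟨hZN, ?_, ?_⟩, ?_⟩
  · intro hZ
    obtain ⟨x, hx, hx1⟩ : ∃ x ∈ M, x ≠ 1 := by
      obtain ⟨⟨a, haN⟩, ha1⟩ := (Subgroup.ne_bot_iff_exists_ne_one (H := M)).mp hM1
      exact ⟨a, haN, fun e => ha1 (Subtype.ext e)⟩
    have hcen : Subgroup.centralizer (M : Set G) = (P : Subgroup G) := by
      apply le_antisymm
      · intro g hg
        obtain ⟨C, hC⟩ := Cfsg.Agent.Block.TwoClassLocal.exists_sylow_centralizer hG χ hχ M hN hNp hx hx1
        have hPC : (P : Subgroup G) ≤ (C : Subgroup G) := by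
          intro y hy
          rw [← hC, Subgroup.mem_centralizer_singleton_iff]
          obtain ⟨z, hz, hzx⟩ := hZ ▸ hx
          rw [← hzx]
          exact congrArg Subtype.val (Subgroup.mem_center_iff.mp hz ⟨y, hy⟩)
        have hCP : (C : Subgroup G) = (P : Subgroup G) := P.is_maximal' C.isPGroup' hPC
        rw [← hCP, ← hC, Subgroup.mem_centralizer_singleton_iff]
        exact (Subgroup.mem_centralizer_iff.mp hg x hx).symm
      · intro y hy
        rw [Subgroup.mem_centralizer_iff]
        intro m hm
        obtain ⟨z, hz, hzx⟩ := hZ ▸ hm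
        rw [← hzx]
        exact (congrArg Subtype.val (Subgroup.mem_center_iff.mp hz ⟨y, hy⟩)).symm
    rw [← hcen]
    infer_instance
  · intro hPn
    haveI := hPn
    refine le_antisymm hZN (hMmin _ (ConjAct.normal_of_characteristic_of_normal) ?_)
    haveI : Nontrivial ↥(P : Subgroup G) :=
      (Subgroup.nontrivial_iff_ne_bot _).mpr (ne_bot_of_le_ne_bot hM1 hNP)
    haveI := P.isPGroup'.center_nontrivial
    rw [Ne, Subgroup.map_eq_bot_iff_of_injective _ (Subgroup.subtype_injective _), ← Ne,
      ← Subgroup.nontrivial_iff_ne_bot]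
    infer_instance
  · haveI : Group.IsNilpotent ↥(P : Subgroup G) := P.isPGroup'.isNilpotent
    by_contra hno
    push Not at hno
    have hle : ∀ i, Subgroup.upperCentralSeries ↥(P : Subgroup G) i ≤ M.subgroupOf (P : Subgroup G) := by
      intro i
      induction i with
      | zero => simp
      | succ i ih =>
        intro y hy
        by_contra hyN
        have hlt : Subgroup.upperCentralSeries ↥(P : Subgroup G) i < M.subgroupOf (P : Subgroup G) :=
          lt_of_le_of_ne ih (hno i)
        have h := hsmall y hyN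
        rw [Subgroup.mem_upperCentralSeries_succ_iff] at hy
        have h1 : (Subgroup.centralizer ({y} : Set ↥(P : Subgroup G))).index ≤
            Nat.card (Subgroup.upperCentralSeries ↥(P : Subgroup G) i) := by
          rw [← Cfsg.Agent.Char.card_conjClass]
          refine Nat.card_le_card_of_injective
            (fun z => ⟨z.1 * y⁻¹, ?_⟩) (fun a b e => ?_)
          · obtain ⟨c, hc⟩ := isConj_iff.mp z.2
            rw [← hc]
            have := Subgroup.inv_mem _ (hy c)
            simpa [commutatorElement_def, mul_assoc] using this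
          · exact Subtype.ext (mul_right_cancel (congrArg Subtype.val e))
        have h2 : Nat.card (Subgroup.upperCentralSeries ↥(P : Subgroup G) i) < Nat.card ↥M := by
          rw [← Nat.card_congr (Subgroup.subgroupOfEquivOfLe hNP).toEquiv]
          exact Set.Finite.card_lt_card (Set.toFinite _) hlt
        have h3 := Subgroup.index_mul_card (Subgroup.centralizer ({y} : Set ↥(P : Subgroup G)))
        have h4 : 0 < Nat.card (Subgroup.centralizer ({y} : Set ↥(P : Subgroup G))) := Nat.card_pos
        nlinarith
    obtain ⟨n, hn⟩ := Group.IsNilpotent.nilpotent ↥(P : Subgroup G)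
    exact hno n (le_antisymm (hle n) (hn ▸ le_top))

end Cfsg.Agent.S4838
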