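import Cfsg.Statements.S4839
import Cfsg.Agent.Lib.Block.TwoClassLocal
import Cfsg.Agent.Lib.Grp.TwoClassCore
import Cfsg.Agent.Lib.Recog.Frobenius
-- import your own Cfsg.Agent.* helpers here

set_option autoImplicit false
open Cfsg

namespace Cfsg.Agent.S4839

/-- Let G be a finite group of order greater than 2 with an irreducible character χ nonzero on exactly two conjugacy classes, and let N be the normal p-subgroup of elements where χ is nonzero. Then N is the whole p-core O_p(G) if and only if G is a doubly transitive Frobenius group with kernel N: G has a Frobenius complement H whose Frobenius kernel is N and whose order is one less than that of N. -/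
theorem result {G : Type*} [Group G] [Finite G] (hG : 2 < Nat.card G) (χ : Cfsg.IrrCharacter G) (hχ : Nat.card {C : ConjClasses G // ∃ g ∈ C.carrier, (χ : G → ℂ) g ≠ 0} = 2) (p : ℕ) [Fact p.Prime] (N : Subgroup G) [N.Normal] (hN : ∀ g : G, g ∈ N ↔ (χ : G → ℂ) g ≠ 0) (hNp : IsPGroup p N) (hN1 : N ≠ ⊥) :
    N = Cfsg.pCore p G ↔ ∃ H : Subgroup G, Cfsg.IsFrobeniusComplement H ∧ Cfsg.frobeniusKernel H = (N : Set G) ∧ Nat.card H + 1 = Nat.card N := by
  classical
  haveI hNn : N.Normal := inferInstance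
  have hp : p.Prime := Fact.out
  -- the structure of `N`
  obtain ⟨N', -, -, -, ⟨q, hq, hel⟩, hsupp, -⟩ :=
    Cfsg.Agent.Block.TwoClass.minimal_normal hG χ hχ
  obtain rfl : N' = N := Subgroup.ext fun g => by rw [← hsupp, hN]
  have hab : ∀ a ∈ N', ∀ b ∈ N', a * b = b * a := fun a ha b hb =>
    congrArg Subtype.val (hel.1.is_comm.comm (⟨a, ha⟩ : N') ⟨b, hb⟩)
  obtain ⟨x, hx, hx1⟩ : ∃ x ∈ N', x ≠ 1 := by
    obtain ⟨⟨a, ha⟩, ha1⟩ := (Subgroup.ne_bot_iff_exists_ne_one (H := N')).mp hN1
    exact ⟨a, ha, fun e => ha1 (Subtype.ext e)⟩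
  obtain ⟨hk, hck⟩ := Cfsg.Agent.Block.TwoClassLocal.card_class χ hχ N' hN hx hx1
  obtain ⟨j, hj⟩ := IsPGroup.iff_card.mp hNp
  have hj0 : j ≠ 0 := fun e => hN1 (Subgroup.card_eq_one.mp (by rw [hj, e, pow_zero]))
  have hpN : p ∣ Nat.card N' := hj ▸ dvd_pow_self p hj0
  constructor
  · intro hcore
    have hC : ∀ n ∈ N', n ≠ 1 → IsPGroup p (Subgroup.centralizer ({n} : Set G)) := by
      intro n hn hn1
      obtain ⟨P, hP⟩ :=
        Cfsg.Agent.Block.TwoClassLocal.exists_sylow_centralizer hG χ hχ N' hN hNp hn hn1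
      exact hP ▸ P.isPGroup'
    have hcent : ∀ y ∉ N', Nat.card (Subgroup.centralizer ({y} : Set G)) =
        Nat.card (Subgroup.centralizer ({(y : G ⧸ N')} : Set (G ⧸ N'))) := fun y hy =>
      Cfsg.Agent.Block.TwoClassLocal.card_centralizer_quotient hG χ hχ N' hN hN1 hy
    have hidx : ¬ p ∣ N'.index := by
      by_cases hp2 : p = 2
      · subst hp2
        have hq2 : q = 2 := by
          obtain ⟨y, hy⟩ := exists_prime_orderOf_dvd_card' (G := N') 2 hpN
          have h1 : orderOf y ∣ q := orderOf_dvd_of_pow_eq_one (Subtype.ext (hel.2 y y.2))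
          rw [hy] at h1
          exact ((Nat.prime_dvd_prime_iff_eq Nat.prime_two hq).mp h1).symm
        exact Cfsg.Agent.Grp.TwoClassCore.not_dvd_index_two hcore hN1 hNp hab
          (fun a ha => hq2 ▸ hel.2 a ha) hC hcent
      · refine Cfsg.Agent.Grp.TwoClassCore.not_dvd_index_odd hp2 hcore hN1 hNp hab hC ?_ hcent
        rw [show Nat.card N' - 1 = Nat.card {g : G // IsConj g x} by omega]
        exact ⟨_, ((mul_comm _ _).trans hck).symm⟩
    have hcop : (Nat.card N').Coprime N'.index :=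
      hj ▸ Nat.Coprime.pow_left j ((hp.coprime_iff_not_dvd).mpr hidx)
    -- the centraliser of `x` is `N'`
    obtain ⟨P, hP⟩ :=
      Cfsg.Agent.Block.TwoClassLocal.exists_sylow_centralizer hG χ hχ N' hN hNp hx hx1
    have hPcard : Nat.card (Subgroup.centralizer ({x} : Set G)) = Nat.card N' := by
      rw [hP, P.card_eq_multiplicity, hj, ← N'.card_mul_index,
        Nat.factorization_mul Nat.card_pos.ne' N'.index_ne_zero_of_finite, Finsupp.add_apply,
        Nat.factorization_eq_zero_of_not_dvd hidx, add_zero, hj, Nat.factorization_pow_self hp]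
    obtain ⟨H, hH⟩ := Subgroup.exists_right_complement'_of_coprime hcop
    have hHc : Nat.card H + 1 = Nat.card N' := by
      have h1 := hH.card_mul
      rw [hPcard] at hck
      have h2 : Nat.card H = Nat.card {g : G // IsConj g x} :=
        Nat.eq_of_mul_eq_mul_left Nat.card_pos (h1.trans hck.symm)
      omega
    have hfrob : IsFrobeniusComplement H := by
      refine ⟨fun h => ?_, fun h => ?_, fun g hg => ?_⟩
      · subst h
        have h1 := hH.card_mul
        rw [Subgroup.card_bot] at hHc h1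
        omega
      · subst h
        have h1 := hH.card_mul
        have h2 : 1 < Nat.card N' := (Nat.pos_of_ne_zero hj0 |> fun h => by
          rw [hj]; exact Nat.one_lt_pow hj0 hp.one_lt)
        rw [Subgroup.card_top] at h1
        exact absurd h1 (Nat.ne_of_gt ((Nat.lt_mul_iff_one_lt_left Nat.card_pos).mpr h2))
      · rw [eq_bot_iff]
        rintro h ⟨hhH, hhg⟩
        replace hhg : g⁻¹ * h * g ∈ H := (Cfsg.Agent.Frob.mem_smul_conj_iff g h).mp hhg
        by_contra hne
        rw [Subgroup.mem_bot] at hne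
        obtain ⟨⟨n, h₀⟩, hdec⟩ := hH.2 g
        have hdec' : (n : G) * h₀ = g := hdec
        have hn1 : (n : G) ≠ 1 := fun e => hg (by rw [← hdec', e, one_mul]; exact h₀.2)
        set k := g⁻¹ * h * g with hkdef
        have hk' : (n : G)⁻¹ * h * n ∈ H := by
          have : (n : G)⁻¹ * h * n = (h₀ : G) * k * (h₀ : G)⁻¹ := by
            rw [hkdef, ← hdec']; group
          rw [this]
          exact mul_mem (mul_mem h₀.2 hhg) (inv_mem h₀.2)
        have hcomm : h⁻¹ * ((n : G)⁻¹ * h * n) = 1 := by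
          have h1 : h⁻¹ * ((n : G)⁻¹ * h * n) ∈ N' := by
            rw [show h⁻¹ * ((n : G)⁻¹ * h * n) = h⁻¹ * (n : G)⁻¹ * h⁻¹⁻¹ * n by group]
            exact mul_mem (hNn.conj_mem _ (inv_mem n.2) _) n.2
          have h2 : h⁻¹ * ((n : G)⁻¹ * h * n) ∈ H := mul_mem (inv_mem hhH) hk'
          exact (Subgroup.mem_bot).mp (hH.disjoint.le_bot ⟨h1, h2⟩)
        have hcn : h ∈ Subgroup.centralizer ({(n : G)} : Set G) := by
          rw [Subgroup.mem_centralizer_singleton_iff]
          calc h * n = n * h * (h⁻¹ * ((n : G)⁻¹ * h * n)) := by group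
            _ = n * h := by rw [hcomm, mul_one]
        obtain ⟨i, hi⟩ := IsPGroup.iff_orderOf.mp (hC n n.2 hn1) ⟨h, hcn⟩
        rw [← Subgroup.orderOf_coe] at hi
        have h3 : (p ^ i).Coprime (Nat.card H) := by
          refine Nat.Coprime.pow_left i ((hp.coprime_iff_not_dvd).mpr fun hd => ?_)
          exact hp.not_dvd_one ((Nat.dvd_add_right hd).mp (hHc ▸ hpN))
        have h4 : orderOf h ∣ Nat.card H := by
          rw [← Subgroup.orderOf_mk h hhH]; exact orderOf_dvd_natCard _
        change orderOf h = p ^ i at hi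
        rw [← hi] at h3
        exact hne (orderOf_eq_one_iff.mp (Nat.eq_one_of_dvd_coprimes h3 dvd_rfl h4))
    refine ⟨H, hfrob, ?_, hHc⟩
    symm
    apply Set.eq_of_subset_of_ncard_le ?_ ?_ (Set.toFinite _)
    · intro n hn
      rw [Cfsg.Agent.Frob.mem_kernel_iff]
      refine (em (n = 1)).imp_right fun hn1 g hgH => hn1 ?_
      have h1 : g⁻¹ * n * g ∈ N' := by simpa using hNn.conj_mem n hn g⁻¹
      have h2 : g⁻¹ * n * g = 1 := (Subgroup.mem_bot).mp (hH.disjoint.le_bot ⟨h1, hgH⟩)
      have h3 := conj_eq_one_iff (a := g⁻¹) (b := n)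
      rw [inv_inv] at h3
      exact h3.mp h2
    · rw [← Nat.card_coe_set_eq, ← Nat.card_coe_set_eq, Cfsg.Agent.Frob.card_kernel hfrob,
        hH.index_eq_card]
      rfl
  · rintro ⟨H, hfrob, hker, hHc⟩
    have hidx : ¬ p ∣ N'.index := by
      rw [Cfsg.Agent.Frob.kernel_index hfrob hker.symm]
      intro hd
      exact hp.not_dvd_one ((Nat.dvd_add_right hd).mp (hHc ▸ hpN))
    let S : Sylow p G := hNp.toSylow hidx
    refine le_antisymm (Cfsg.Agent.Grp.TwoClassCore.le_pCore hNn hNp) (sSup_le ?_)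
    rintro K ⟨hKn, hKp⟩
    obtain ⟨T, hT⟩ := hKp.exists_le_sylow
    obtain ⟨g, hg⟩ := MulAction.exists_smul_eq G T S
    intro k hk
    have h1 : g * k * g⁻¹ ∈ (S : Subgroup G) := by
      rw [← hg, Sylow.coe_subgroup_smul]
      exact ⟨k, hT hk, by simp⟩
    have h2 : g⁻¹ * (g * k * g⁻¹) * g⁻¹⁻¹ ∈ N' := hNn.conj_mem _ h1 _
    simpa [mul_assoc] using h2

end Cfsg.Agent.S4839
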