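import Cfsg.Statements.S4843
import Cfsg.Agent.Lib.Char.Det
import Cfsg.Agent.Lib.Char.Galois
import Cfsg.Agent.Lib.Char.SmallDegreeCore
import Cfsg.Agent.Lib.Transfer.Cores
import Cfsg.Agent.Lib.Fus.GfitExtra

set_option autoImplicit false
open Cfsg

namespace Cfsg.Agent.S4843

open Cfsg.Agent.Char Cfsg.Agent.Block Cfsg.Agent.Char.SmallDeg
open scoped TensorProduct ComplexConjugate

universe u

variable {G : Type u} [Group G] [Finite G]

/-- Summing `(x^k, x⁻¹)` over a normal subgroup acts on the irreducible product as a scalar. -/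
theorem shift_identity (χ : Cfsg.IrrCharacter G) {k : ℕ} (hk : Nat.Coprime k (Nat.card G))
    (hirr : Cfsg.IsIrrCharacter G (fun g => (χ : G → ℂ) g * (χ : G → ℂ) (g ^ k)))
    (N : Subgroup G) [N.Normal] [Fintype N] :
    ∃ c : ℂ, ∀ y w : G, ∑ x : N, (χ : G → ℂ) ((x : G) ^ k * y) * (χ : G → ℂ) (((x : G)⁻¹ * w) ^ k) =
      c * ((χ : G → ℂ) y * (χ : G → ℂ) (w ^ k)) := by
  classical
  obtain ⟨χf, hχ⟩ := χ
  obtain ⟨m, ρ', hρ'irr, hρ'⟩ := IsIrr.pow_map hχ hk
  obtain ⟨n, ρ, hρirr, rfl⟩ := hχ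
  simp only at hirr ⊢
  have hval : ∀ g, ρ'.character g = ρ.character (g ^ k) := fun g => congrFun hρ' g
  haveI : (ρ.tprod ρ').IsIrreducible := by
    refine irreducible_of_character _ ?_
    rw [Representation.char_tensor]
    have e : (ρ.character * ρ'.character) = fun g => ρ.character g * ρ.character (g ^ k) :=
      funext fun g => by rw [Pi.mul_apply, hval]
    rw [e]; exact hirr
  set T : ((Fin n → ℂ) ⊗[ℂ] (Fin m → ℂ)) →ₗ[ℂ] ((Fin n → ℂ) ⊗[ℂ] (Fin m → ℂ)) :=
    ∑ x : N, TensorProduct.map (ρ ((x : G) ^ k)) (ρ' ((x : G)⁻¹)) with hT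
  have hcomm : ∀ g, T ∘ₗ (ρ.tprod ρ') g = (ρ.tprod ρ') g ∘ₗ T := by
    intro g
    let e : N ≃ N :=
      { toFun := fun x => ⟨g * (x : G) * g⁻¹, Subgroup.Normal.conj_mem inferInstance _ x.2 g⟩
        invFun := fun x => ⟨g⁻¹ * (x : G) * g, by
          simpa using Subgroup.Normal.conj_mem (inferInstance : N.Normal) _ x.2 g⁻¹⟩
        left_inv := fun x => Subtype.ext (by group)
        right_inv := fun x => Subtype.ext (by group) }
    rw [hT]
    refine LinearMap.ext fun v => ?_
    simp only [LinearMap.comp_apply, LinearMap.sum_apply, map_sum, Representation.tprod_apply]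
    refine (Fintype.sum_equiv e _ _ fun x => ?_).symm
    have e1 : ρ g ∘ₗ ρ ((x : G) ^ k) = ρ (((e x : N) : G) ^ k) ∘ₗ ρ g := by
      show ρ g * ρ ((x : G) ^ k) = ρ (((g * (x : G) * g⁻¹)) ^ k) * ρ g
      rw [← map_mul, ← map_mul]; congr 1; rw [conj_pow]; group
    have e2 : ρ' g ∘ₗ ρ' ((x : G)⁻¹) = ρ' (((e x : N) : G)⁻¹) ∘ₗ ρ' g := by
      show ρ' g * ρ' ((x : G)⁻¹) = ρ' ((g * (x : G) * g⁻¹)⁻¹) * ρ' g
      rw [← map_mul, ← map_mul]; congr 1; group
    rw [← LinearMap.comp_apply, ← LinearMap.comp_apply, ← TensorProduct.map_comp, ← TensorProduct.map_comp,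
      e1, e2]
  obtain ⟨c, hc⟩ := schur_scalar (ρ.tprod ρ') T hcomm
  refine ⟨c, fun y w => ?_⟩
  have h := congrArg (fun S => LinearMap.trace ℂ _ (S * TensorProduct.map (ρ y) (ρ' w))) hc
  simp only [hT, Finset.sum_mul, map_sum, Module.End.mul_eq_comp, ← TensorProduct.map_comp,
    LinearMap.trace_tensorProduct', LinearMap.smul_comp, LinearMap.id_comp, map_smul, smul_eq_mul] at h
  simp only [← hval]
  have e : ∀ (d : ℕ) (τ : Representation ℂ G (Fin d → ℂ)) (a b : G),
      LinearMap.trace ℂ _ (τ a ∘ₗ τ b) = τ.character (a * b) := fun d τ a b => by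
    rw [Representation.character, map_mul]; rfl
  simp only [e] at h
  exact h

/-- An element of a normal subgroup commuting with it, or where the values off its centre vanish, is
central. -/
theorem pow_central (χ : Cfsg.IrrCharacter G)
    (hfaith : ∀ g : G, (χ : G → ℂ) g = (χ : G → ℂ) 1 → g = 1) {k : ℕ} (hk : Nat.Coprime k (Nat.card G))
    (hirr : Cfsg.IsIrrCharacter G (fun g => (χ : G → ℂ) g * (χ : G → ℂ) (g ^ k)))
    (N : Subgroup G) [N.Normal] {a : G} (ha : a ∈ N)
    (hterm : ∀ x ∈ N, (χ : G → ℂ) (x ^ k * (a ^ k)⁻¹) * (χ : G → ℂ) ((x⁻¹ * a) ^ k) =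
      (Complex.normSq ((χ : G → ℂ) ((x⁻¹ * a) ^ k)) : ℂ)) : a ∈ Subgroup.center G := by
  classical
  haveI := Fintype.ofFinite G
  haveI := Fintype.ofFinite N
  obtain ⟨c, hc⟩ := shift_identity χ hk hirr N
  have hchar : Cfsg.IsCharacter G (χ : G → ℂ) := IsIrr.isCharacter χ.2
  have hinv : ∀ g : G, (χ : G → ℂ) g⁻¹ = conj ((χ : G → ℂ) g) := IsChar.apply_inv hchar
  set S : ℂ := ∑ x : N, (Complex.normSq ((χ : G → ℂ) ((x : G) ^ k)) : ℂ) with hS
  have h1 : S = c * ((χ : G → ℂ) 1 * (χ : G → ℂ) 1) := by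
    have h := hc 1 1
    simp only [mul_one, one_pow] at h
    rw [← h, hS]
    refine Finset.sum_congr rfl fun x _ => ?_
    rw [inv_pow, hinv, Complex.mul_conj]
  have h2 : S = c * (Complex.normSq ((χ : G → ℂ) (a ^ k)) : ℂ) := by
    have h := hc (a ^ k)⁻¹ a
    rw [Finset.sum_congr rfl (fun (x : N) _ => hterm (x : G) x.2), hinv, ← Complex.normSq_eq_conj_mul_self] at h
    rw [← h, hS]
    let e : N ≃ N := (Equiv.inv N).trans (Equiv.mulRight (⟨a, ha⟩ : N))
    exact (Fintype.sum_equiv e _ _ fun x => rfl).symm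
  obtain ⟨d, hd0, hd⟩ := IsIrr.one_eq_pos χ.2
  have hSre : 0 < S.re := by
    rw [hS, Complex.re_sum]
    refine Finset.sum_pos' (fun x _ => by simpa using Complex.normSq_nonneg _) ⟨1, Finset.mem_univ _, ?_⟩
    simp only [OneMemClass.coe_one, one_pow, Complex.ofReal_re, hd, Complex.normSq_natCast]
    positivity
  have hc0 : c ≠ 0 := fun h0 => by rw [h1, h0, zero_mul] at hSre; simp at hSre
  have hsq : Complex.normSq ((χ : G → ℂ) (a ^ k)) = (d : ℝ) * d := by
    have h3 := mul_left_cancel₀ hc0 (h2.symm.trans h1)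
    rw [hd] at h3
    exact_mod_cast h3
  have hnorm : ‖(χ : G → ℂ) (a ^ k)‖ = (Cfsg.charDegree (χ : G → ℂ) : ℝ) := by
    have hcd : (Cfsg.charDegree (χ : G → ℂ) : ℂ) = d := (charDeg_spec hchar).symm.trans hd
    have hcd' : Cfsg.charDegree (χ : G → ℂ) = d := by exact_mod_cast hcd
    rw [hcd', ← Real.sqrt_mul_self (norm_nonneg _), Complex.norm_mul_self_eq_normSq, hsq,
      Real.sqrt_mul_self (Nat.cast_nonneg _)]
  have hk' := center_of_norm hfaith hnorm
  obtain ⟨l, hl⟩ := exists_pow_eq_self_of_coprime (x := a) (n := k)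
    (hk.coprime_dvd_right (orderOf_dvd_natCard a))
  rw [← hl]
  exact Subgroup.pow_mem _ hk' l

/-- Let G be a finite group with a faithful irreducible character χ (taking the value χ(1) only at the identity) and let k be prime to the order of G, so that g ↦ χ(g^k) is a Galois conjugate of χ. If the pointwise product g ↦ χ(g)·χ(g^k) is again an irreducible character, then the Fitting subgroup of G equals its centre. -/
theorem result {G : Type*} [Group G] [Finite G] (χ : Cfsg.IrrCharacter G) (hfaith : ∀ g : G, (χ : G → ℂ) g = (χ : G → ℂ) 1 → g = 1) (k : ℕ) (hk : Nat.Coprime k (Nat.card G)) (hirr : Cfsg.IsIrrCharacter G (fun g => (χ : G → ℂ) g * (χ : G → ℂ) (g ^ k))) : Cfsg.fittingSubgroup G = Subgroup.center G := by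
  classical
  refine le_antisymm ?_ Cfsg.Agent.Fus.center_le_fitting
  have hinv : ∀ g : G, (χ : G → ℂ) g⁻¹ = conj ((χ : G → ℂ) g) := IsChar.apply_inv (IsIrr.isCharacter χ.2)
  have hgood : ∀ {x a : G}, x * a = a * x →
      (χ : G → ℂ) (x ^ k * (a ^ k)⁻¹) * (χ : G → ℂ) ((x⁻¹ * a) ^ k) =
        (Complex.normSq ((χ : G → ℂ) ((x⁻¹ * a) ^ k)) : ℂ) := by
    intro x a hxa
    have hxa' : Commute x a := hxa
    have e : x ^ k * (a ^ k)⁻¹ = ((x⁻¹ * a) ^ k)⁻¹ := by
      rw [(hxa'.inv_left).mul_pow, inv_pow, mul_inv_rev, inv_inv]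
      exact ((hxa'.pow_pow k k).inv_right).eq
    rw [e, hinv, ← Complex.normSq_eq_conj_mul_self]
  -- abelian normal subgroups are central
  have habel : ∀ A : Subgroup G, A.Normal → (∀ x ∈ A, ∀ y ∈ A, x * y = y * x) → A ≤ Subgroup.center G :=
    fun A _ hA a ha => pow_central χ hfaith hk hirr A ha fun x hx => hgood (hA x hx a ha)
  set F := Cfsg.fittingSubgroup G with hF
  haveI : F.Normal := Subgroup.sSup_normal _ fun _ h => h.1
  haveI hnil : Group.IsNilpotent F := Cfsg.Agent.Transfer.fittingSubgroup_isNilpotent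
  have hZ : ∀ x : F, x ∈ Subgroup.center F → (x : G) ∈ Subgroup.center G := by
    intro x hx
    refine habel ((Subgroup.center F).map F.subtype) inferInstance ?_ ⟨x, hx, rfl⟩
    rintro _ ⟨u, hu, rfl⟩ _ ⟨v, -, rfl⟩
    exact congrArg Subtype.val (Subgroup.mem_center_iff.mp hu v).symm
  -- commutators are central
  have hcl : commutator F ≤ Subgroup.center F := by
    set A := commutator F ⊓ Subgroup.upperCentralSeries F 2 with hAdef
    have hstep : ∀ x ∈ Subgroup.upperCentralSeries F 2, ∀ g : F, g * x * g⁻¹ * x⁻¹ ∈ Subgroup.center F := by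
      intro x hx g
      rw [← Subgroup.upperCentralSeries_one F]
      have h := Subgroup.inv_mem _ (Subgroup.mem_upperCentralSeries_succ_iff.mp hx g)
      simpa [commutatorElement_def, mul_assoc] using h
    have hAab : ∀ x ∈ A, ∀ y ∈ A, x * y = y * x := by
      intro x hx y hy
      have hker : commutator F ≤ Subgroup.centralizer {x} := by
        let f : F →* Subgroup.center F :=
          { toFun := fun g => ⟨g * x * g⁻¹ * x⁻¹, hstep x hx.2 g⟩
            map_one' := Subtype.ext (by simp)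
            map_mul' := fun g h => Subtype.ext (by
              show g * h * x * (g * h)⁻¹ * x⁻¹ = g * x * g⁻¹ * x⁻¹ * (h * x * h⁻¹ * x⁻¹)
              have hc := Subgroup.mem_center_iff.mp (hstep x hx.2 h) g
              calc g * h * x * (g * h)⁻¹ * x⁻¹ = g * (h * x * h⁻¹ * x⁻¹) * x * g⁻¹ * x⁻¹ := by group
                _ = (h * x * h⁻¹ * x⁻¹) * (g * x * g⁻¹ * x⁻¹) := by rw [hc]; group
                _ = g * x * g⁻¹ * x⁻¹ * (h * x * h⁻¹ * x⁻¹) :=
                    (Subgroup.mem_center_iff.mp (hstep x hx.2 h) _).symm) }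
        letI : CommGroup (Subgroup.center F) := { (inferInstance : Group (Subgroup.center F)) with
          mul_comm := fun u v => Subtype.ext (Subgroup.mem_center_iff.mp v.2 u) }
        refine le_trans (Abelianization.commutator_subset_ker f) fun g hg => ?_
        have e : g * x * g⁻¹ * x⁻¹ = 1 := congrArg Subtype.val (MonoidHom.mem_ker.mp hg)
        exact Subgroup.mem_centralizer_singleton_iff.mpr (mul_inv_eq_iff_eq_mul.mp (mul_inv_eq_one.mp e))
      exact (Subgroup.mem_centralizer_singleton_iff.mp (hker hy.1)).symm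
    have hA : A ≤ Subgroup.center F := by
      intro x hx
      have hxG := habel (A.map F.subtype) inferInstance (by
        rintro _ ⟨u, hu, rfl⟩ _ ⟨v, hv, rfl⟩
        exact congrArg Subtype.val (hAab u hu v hv)) ⟨x, hx, rfl⟩
      exact Subgroup.mem_center_iff.mpr fun g => Subtype.ext (Subgroup.mem_center_iff.mp hxG g)
    have hall : ∀ i, commutator F ⊓ Subgroup.upperCentralSeries F i ≤ Subgroup.center F := by
      intro i
      induction i with
      | zero => simp
      | succ i ih =>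
        intro x hx
        refine hA ⟨hx.1, Subgroup.mem_upperCentralSeries_succ_iff.mpr fun g => ?_⟩
        rw [Subgroup.upperCentralSeries_one]
        refine ih ⟨Subgroup.commutator_mem_commutator (Subgroup.mem_top _) (Subgroup.mem_top _), ?_⟩
        exact Subgroup.mem_upperCentralSeries_succ_iff.mp hx.2 g
    obtain ⟨n, hn⟩ := hnil.nilpotent
    intro x hx
    exact hall n ⟨hx, hn ▸ Subgroup.mem_top x⟩
  intro a ha
  refine pow_central χ hfaith hk hirr F ha fun x hx => ?_
  set u : F := ⟨x⁻¹ * a, mul_mem (inv_mem hx) ha⟩ with hu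
  by_cases hc : u ∈ Subgroup.center F
  · refine hgood ?_
    have := congrArg Subtype.val (Subgroup.mem_center_iff.mp hc ⟨x, hx⟩)
    simp only [hu, Subgroup.coe_mul, mul_inv_cancel_left] at this
    rw [mul_assoc] at this
    calc x * a = x * (x⁻¹ * (a * x)) := by rw [← this]
      _ = a * x := mul_inv_cancel_left _ _
  -- values off the centre vanish
  have hvan : ∀ v : F, v ∉ Subgroup.center F → (χ : G → ℂ) (v : G) = 0 := by
    intro v hv
    obtain ⟨g, hg⟩ : ∃ g : F, g * v ≠ v * g := by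
      by_contra h
      push Not at h
      exact hv (Subgroup.mem_center_iff.mpr h)
    set z := g * v * g⁻¹ * v⁻¹ with hz
    have hzc : (z : G) ∈ Subgroup.center G :=
      hZ z (hcl (Subgroup.commutator_mem_commutator (Subgroup.mem_top g) (Subgroup.mem_top v)))
    obtain ⟨ω, -, hω⟩ := IsIrr.scalar_of_center χ.2 hzc
    have h1 : (χ : G → ℂ) v = ω * (χ : G → ℂ) v := by
      rw [← hω]
      refine ((IsIrr.classFun χ.2) (v : G) (g : G)).symm.trans (congrArg _ ?_)
      simp [hz]
    by_contra hne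
    have hω1 : ω = 1 := (mul_eq_right₀ hne).mp h1.symm
    have hz1 : (z : G) = 1 := hfaith _ (by have := hω 1; rwa [mul_one, hω1, one_mul] at this)
    refine hg ?_
    have hz2 : z = 1 := Subtype.ext hz1
    rw [hz, mul_inv_eq_one, mul_inv_eq_iff_eq_mul] at hz2
    exact hz2
  have huk : u ^ k ∉ Subgroup.center F := by
    intro h
    obtain ⟨l, hl⟩ := exists_pow_eq_self_of_coprime (x := u) (n := k)
      (hk.coprime_dvd_right ((orderOf_dvd_natCard u).trans (Subgroup.card_subgroup_dvd_card F)))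
    exact hc (hl ▸ Subgroup.pow_mem _ h l)
  have h0 : (χ : G → ℂ) ((x⁻¹ * a) ^ k) = 0 := by
    have := hvan _ huk
    rwa [SubgroupClass.coe_pow] at this
  rw [h0, mul_zero, map_zero, Complex.ofReal_zero]

end Cfsg.Agent.S4843
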