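import Mathlib
import Cfsg.Statements.S4845
import Cfsg.Agent.Lib.Block.CharCenterPGroup
-- import your own Cfsg.Agent.* helpers here

set_option autoImplicit false
open Cfsg
open scoped commutatorElement

namespace Cfsg.Agent.S4845

open Cfsg.Agent.Block.PCen

universe u

variable {P : Type u} [Group P] [Finite P] {p : ℕ} [Fact p.Prime]

theorem backward (hP : IsPGroup p P) (hna : ¬ IsMulCommutative P)
    (hcyc : IsCyclic (Subgroup.center P)) (hcard : Nat.card (commutator P) = p)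
    (χ ψ : Cfsg.IrrCharacter P) (h1 : Cfsg.charDegree (χ : P → ℂ) ≠ 1)
    (hd : Cfsg.charDegree (χ : P → ℂ) = Cfsg.charDegree (ψ : P → ℂ)) :
    ∃ k : ℕ, Nat.Coprime k (Nat.card P) ∧ ∀ g : P, (ψ : P → ℂ) g = (χ : P → ℂ) (g ^ k) := by
  classical
  have hp : p.Prime := Fact.out
  haveI : Group.IsNilpotent P := hP.isNilpotent
  have hne : (commutator P : Subgroup P) ≠ ⊥ := fun h => by
    rw [h, Subgroup.card_bot] at hcard
    exact hp.one_lt.ne hcard
  have hD : ⁅(commutator P : Subgroup P), (⊤ : Subgroup P)⁆ = ⊥ := by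
    obtain ⟨K, -, hRK, -, hK⟩ := exists_step hP (N := commutator P) le_rfl
      (Cfsg.Agent.Transfer.MaxAbelianExponent.commutator_lt_of_normal hne)
    rw [hcard] at hK
    rw [Subgroup.card_eq_one.1 (Nat.eq_of_mul_eq_mul_right hp.pos (hK.trans (one_mul p).symm))] at hRK
    exact le_bot_iff.1 hRK
  have hcl : ∀ x y : P, ⁅x, y⁆ ∈ upC (⊥ : Subgroup P) := fun x y => mem_upC.2 fun z => hD.le
    (Subgroup.commutator_mem_commutator
      (Subgroup.commutator_mem_commutator (Subgroup.mem_top x) (Subgroup.mem_top y))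
      (Subgroup.mem_top z))
  have hcen : upC (⊥ : Subgroup P) = Subgroup.center P := le_antisymm
    (fun g hg => Subgroup.mem_center_iff.2 fun y =>
      (commutatorElement_eq_one_iff_mul_comm.1 (Subgroup.mem_bot.1 (mem_upC.1 hg y))).symm)
    (fun g hg => mem_upC.2 fun y => Subgroup.mem_bot.2
      (commutatorElement_eq_one_iff_mul_comm.2 (Subgroup.mem_center_iff.1 hg y).symm))
  haveI hcyc' : IsCyclic (upC (⊥ : Subgroup P)) := hcen ▸ hcyc
  have hfaith : ∀ φ : Cfsg.IrrCharacter P, Cfsg.charDegree (φ : P → ℂ) ≠ 1 →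
      ∀ g, g ∈ (⊥ : Subgroup P) ↔ (φ : P → ℂ) g = (φ : P → ℂ) 1 := by
    intro φ hφ g
    refine ⟨fun hg => by rw [Subgroup.mem_bot.1 hg], fun hg => ?_⟩
    let h := Cfsg.Agent.Char.IsIrr.isCharacter φ.2
    let M := Cfsg.Agent.Char.charKer h
    haveI : M.Normal := Cfsg.Agent.Char.charKer_normal h
    by_contra hgne
    have hM : M ≠ ⊥ := fun hb => hgne (hb ▸ (Cfsg.Agent.Char.mem_charKer h).2 hg)
    have hMZ := Cfsg.Agent.Grp.inf_center_ne_bot M hM
    obtain ⟨z, hz⟩ := exists_prime_orderOf_dvd_card' (G := (M ⊓ Subgroup.center P : Subgroup P)) p (by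
      obtain ⟨k, hk⟩ := IsPGroup.iff_card.1 (hP.to_subgroup (M ⊓ Subgroup.center P))
      rcases Nat.eq_zero_or_pos k with rfl | hk0
      · exact absurd (Subgroup.card_eq_one.1 hk) hMZ
      · exact hk ▸ dvd_pow_self p hk0.ne')
    rw [← Subgroup.orderOf_coe] at hz
    obtain ⟨hzM, hzZ⟩ := Subgroup.mem_inf.1 z.2
    have hsub : Subgroup.zpowers (z : P) ≤ Subgroup.center P := Subgroup.zpowers_le.2 hzZ
    have hsub' : (commutator P : Subgroup P) ≤ Subgroup.center P := by
      rw [← hcen, commutator_def, Subgroup.commutator_le]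
      exact fun x _ y _ => hcl x y
    haveI := Fintype.ofFinite P
    haveI : IsCyclic (Subgroup.center P) := hcyc
    have huniq : ∀ H : Subgroup P, H ≤ Subgroup.center P → Nat.card H = p →
        (H.subgroupOf (Subgroup.center P) : Set (Subgroup.center P)).toFinset =
          Finset.univ.filter (fun u : Subgroup.center P => u ^ p = 1) := by
      intro H hH hHc
      refine Finset.eq_of_subset_of_card_le (fun u hu => ?_) ?_
      · rw [Set.mem_toFinset] at hu
        refine Finset.mem_filter.2 ⟨Finset.mem_univ _, Subtype.ext ?_⟩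
        have h' : (⟨(u : P), hu⟩ : H) ^ p = 1 := hHc ▸ pow_card_eq_one'
        have h'' := congrArg Subtype.val h'
        simpa using h''
      · rw [Set.toFinset_card, ← Nat.card_eq_fintype_card]
        exact (IsCyclic.card_pow_eq_one_le (α := Subgroup.center P) hp.pos).trans (le_of_eq (by
          rw [← hHc]; exact (Nat.card_congr (Subgroup.subgroupOfEquivOfLe hH).toEquiv).symm))
    have heq := (huniq _ hsub' hcard).trans
      (huniq _ hsub (by rw [Nat.card_zpowers, hz])).symm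
    refine hφ ((degree_eq_one_iff φ).2 fun c hc => (Cfsg.Agent.Char.mem_charKer h).1 ?_)
    have hc' : (⟨c, hsub' hc⟩ : Subgroup.center P) ∈
        ((commutator P).subgroupOf (Subgroup.center P) : Set (Subgroup.center P)).toFinset :=
      Set.mem_toFinset.2 hc
    rw [heq, Set.mem_toFinset] at hc'
    exact Subgroup.zpowers_le.2 hzM hc'
  obtain ⟨lam, hlam⟩ := exists_lam χ fun g => ((hfaith χ h1) g).1
  obtain ⟨mu, hmu⟩ := exists_lam ψ fun g => ((hfaith ψ (hd ▸ h1)) g).1
  obtain ⟨z0, hz0⟩ := IsCyclic.exists_generator (α := upC (⊥ : Subgroup P))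
  have hord : orderOf z0 = Nat.card (upC (⊥ : Subgroup P)) := by
    rw [← Nat.card_zpowers, (Subgroup.eq_top_iff' _).2 hz0, Subgroup.card_top]
  have hinj : ∀ (φ : Cfsg.IrrCharacter P) (l : upC (⊥ : Subgroup P) →* ℂˣ),
      Cfsg.charDegree (φ : P → ℂ) ≠ 1 →
      (∀ (a : upC (⊥ : Subgroup P)) (h : P), (φ : P → ℂ) ((a : P) * h) = (l a : ℂ) * (φ : P → ℂ) h) →
      IsPrimitiveRoot (l z0 : ℂ) (Nat.card (upC (⊥ : Subgroup P))) := by
    intro φ l hφ hl
    have hlinj : Function.Injective l := (injective_iff_map_eq_one l).2 fun a ha => by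
      have h := hl a 1
      rw [ha, Units.val_one, one_mul, mul_one] at h
      exact Subtype.ext (Subgroup.mem_bot.1 ((hfaith φ hφ _).2 h))
    rw [← hord, ← orderOf_injective l hlinj z0, ← orderOf_units]
    exact IsPrimitiveRoot.orderOf _
  have hχ := hinj χ lam h1 hlam
  have hψ := hinj ψ mu (hd ▸ h1) hmu
  obtain ⟨k, -, hk⟩ := hχ.eq_pow_of_pow_eq_one hψ.pow_eq_one
  have hco : Nat.Coprime k (Nat.card (upC (⊥ : Subgroup P))) :=
    (hχ.pow_iff_coprime Nat.card_pos k).1 (hk ▸ hψ)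
  have hcoP : Nat.Coprime k (Nat.card P) := by
    obtain ⟨n, hn⟩ := IsPGroup.iff_card.1 hP
    rw [hn]
    refine Nat.Coprime.pow_right _ ((Nat.coprime_comm).1 (hp.coprime_iff_not_dvd.2 fun hpk => ?_))
    have hdvd : p ∣ Nat.card (upC (⊥ : Subgroup P)) := by
      rw [← hcard, hcen]
      refine Subgroup.card_dvd_of_le ?_
      rw [← hcen, commutator_def, Subgroup.commutator_le]
      exact fun x _ y _ => hcl x y
    exact hp.one_lt.ne' (Nat.eq_one_of_dvd_coprimes hco hpk hdvd)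
  refine ⟨k, hcoP, fun g => ?_⟩
  by_cases hg : g ∈ upC (⊥ : Subgroup P)
  · obtain ⟨i, hi⟩ := (mem_powers_iff_mem_zpowers.2 (hz0 ⟨g, hg⟩))
    simp only at hi
    have e1 := hmu ⟨g, hg⟩ 1
    have e2 := hlam (⟨g, hg⟩ ^ k) 1
    rw [mul_one] at e1 e2
    rw [SubmonoidClass.coe_pow] at e2
    simp only at e1 e2
    rw [e1, e2, Cfsg.Agent.Block.charDeg_spec', Cfsg.Agent.Block.charDeg_spec', hd, ← hi]
    simp only [map_pow, Units.val_pow_eq_pow_val, ← hk, ← pow_mul]
    rw [mul_comm i k]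
  · rw [eq_zero_of_notMem ψ (hfaith ψ (hd ▸ h1)) hcl hg,
      eq_zero_of_notMem χ (hfaith χ h1) hcl fun hgk => hg ?_]
    obtain ⟨j, hj⟩ := exists_pow_eq_self_of_coprime
      (Nat.Coprime.coprime_dvd_right (orderOf_dvd_natCard g) hcoP)
    exact hj ▸ pow_mem hgk j

theorem forward (hP : IsPGroup p P) (hna : ¬ IsMulCommutative P)
    (H : ∀ χ ψ : Cfsg.IrrCharacter P, Cfsg.charDegree (χ : P → ℂ) ≠ 1 →
      Cfsg.charDegree (χ : P → ℂ) = Cfsg.charDegree (ψ : P → ℂ) →
      ∃ k : ℕ, Nat.Coprime k (Nat.card P) ∧ ∀ g : P, (ψ : P → ℂ) g = (χ : P → ℂ) (g ^ k)) :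
    IsCyclic (Subgroup.center P) ∧ Nat.card (commutator P) = p := by
  classical
  have hp : p.Prime := Fact.out
  haveI : Group.IsNilpotent P := hP.isNilpotent
  obtain ⟨N', hN'⟩ : ∃ N' : Subgroup P, N' = commutator P := ⟨_, rfl⟩
  haveI hN'n : N'.Normal := hN' ▸ inferInstance
  have hcomm : ∀ x y : P, ⁅x, y⁆ ∈ N' := fun x y => by
    rw [hN']
    exact Subgroup.commutator_mem_commutator (Subgroup.mem_top x) (Subgroup.mem_top y)
  have hN'ne : N' ≠ ⊥ := fun hb => hna ⟨⟨fun a b => commutatorElement_eq_one_iff_mul_comm.1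
    (Subgroup.mem_bot.1 (hb ▸ hcomm a b))⟩⟩
  have hlin : ∀ χ : Cfsg.IrrCharacter P, Cfsg.charDegree (χ : P → ℂ) = 1 ↔
      ∀ g ∈ N', (χ : P → ℂ) g = (χ : P → ℂ) 1 := fun χ => hN' ▸ degree_eq_one_iff χ
  -- kernels lie in the derived subgroup
  have hker : ∀ χ : Cfsg.IrrCharacter P, Cfsg.charDegree (χ : P → ℂ) ≠ 1 →
      ∀ g, (χ : P → ℂ) g = (χ : P → ℂ) 1 → g ∈ N' := by
    intro χ hχ g hg
    rw [hN']
    refine (QuotientGroup.eq_one_iff g).1 (Cfsg.Agent.Char.eq_one_of_forall_linear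
      (G := Abelianization P) (fun a b => mul_comm a b) fun l => ?_)
    let l' : P →* ℂˣ := l.comp Abelianization.of
    let χ' : Cfsg.IrrCharacter P := ⟨_, Cfsg.Agent.Char.IsIrr.mul_linear χ.2 l'⟩
    have hd : Cfsg.charDegree (χ : P → ℂ) = Cfsg.charDegree (χ' : P → ℂ) := by
      apply Nat.cast_injective (R := ℂ)
      rw [← Cfsg.Agent.Block.charDeg_spec', ← Cfsg.Agent.Block.charDeg_spec']
      show _ = (l' 1 : ℂ) * _
      rw [map_one, Units.val_one, one_mul]
    obtain ⟨k, -, hk⟩ := H χ χ' hχ hd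
    have h := hk g
    have hgk : (χ : P → ℂ) (g ^ k) = (χ : P → ℂ) 1 := by
      have hmem := (Cfsg.Agent.Char.mem_charKer (Cfsg.Agent.Char.IsIrr.isCharacter χ.2)).2 hg
      exact (Cfsg.Agent.Char.mem_charKer _).1 (pow_mem hmem k)
    change (l' g : ℂ) * (χ : P → ℂ) g = _ at h
    rw [hgk, hg] at h
    obtain ⟨n, hn, hn1⟩ := Cfsg.Agent.Char.IsIrr.one_eq_pos χ.2
    have h' : (l' g : ℂ) = 1 := mul_right_cancel₀
      (by rw [hn1]; exact Nat.cast_ne_zero.2 hn.ne') (h.trans (one_mul _).symm)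
    exact Units.ext h'
  -- the kernel depends only on the degree
  have hsame : ∀ χ ψ : Cfsg.IrrCharacter P, Cfsg.charDegree (χ : P → ℂ) ≠ 1 →
      Cfsg.charDegree (χ : P → ℂ) = Cfsg.charDegree (ψ : P → ℂ) →
      ∀ g, (χ : P → ℂ) g = (χ : P → ℂ) 1 → (ψ : P → ℂ) g = (ψ : P → ℂ) 1 := by
    intro χ ψ hχ hd g hg
    obtain ⟨k, -, hk⟩ := H χ ψ hχ hd
    have hmem := (Cfsg.Agent.Char.mem_charKer (Cfsg.Agent.Char.IsIrr.isCharacter χ.2)).2 hg
    rw [hk, hk, one_pow]
    exact (Cfsg.Agent.Char.mem_charKer _).1 (pow_mem hmem k)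
  obtain ⟨D, hD⟩ : ∃ D : Subgroup P, D = ⁅N', (⊤ : Subgroup P)⁆ := ⟨_, rfl⟩
  haveI hDn : D.Normal := hD ▸ inferInstance
  have hDlt : D < N' := hD ▸ Cfsg.Agent.Transfer.MaxAbelianExponent.commutator_lt_of_normal hN'ne
  have hN'up : ∀ K : Subgroup P, ∀ [K.Normal], D ≤ K → N' ≤ upC K := fun K _ hDK c hc =>
    mem_upC.2 fun y => hDK (hD ▸ Subgroup.commutator_mem_commutator hc (Subgroup.mem_top y))
  have hexχ : ∀ (K : Subgroup P) [K.Normal], D ≤ K → K ≤ N' → Nat.card K * p = Nat.card N' →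
      ∃ χ : Cfsg.IrrCharacter P, Cfsg.charDegree (χ : P → ℂ) ≠ 1 ∧
        ∀ g, g ∈ K ↔ (χ : P → ℂ) g = (χ : P → ℂ) 1 := by
    intro K _ hDK hKN hKc
    obtain ⟨g, hgN, hgK⟩ : ∃ g ∈ N', g ∉ K := by
      refine SetLike.not_le_iff_exists.1 fun hle => ?_
      rw [le_antisymm hle hKN] at hKc
      have := Nat.card_pos (α := K)
      nlinarith [hp.two_le]
    obtain ⟨χ, hχK, hχg⟩ := exists_char_ker hgK
    have hne : Cfsg.charDegree (χ : P → ℂ) ≠ 1 := fun h => hχg ((hlin χ).1 h g hgN)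
    refine ⟨χ, hne, fun x => ⟨hχK x, fun hx => ?_⟩⟩
    let h := Cfsg.Agent.Char.IsIrr.isCharacter χ.2
    rcases step_cases hP hKN hKc (M := Cfsg.Agent.Char.charKer h)
      (fun z hz => (Cfsg.Agent.Char.mem_charKer h).2 (hχK z hz))
      (fun z hz => hker χ hne z ((Cfsg.Agent.Char.mem_charKer h).1 hz)) with e | e
    · exact e ▸ (Cfsg.Agent.Char.mem_charKer h).2 hx
    · exact absurd ((Cfsg.Agent.Char.mem_charKer h).1 (e ▸ hgN)) hχg
  have hpow : ∀ χ : Cfsg.IrrCharacter P, ∃ a : ℕ, Cfsg.charDegree (χ : P → ℂ) = p ^ a := by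
    intro χ
    obtain ⟨n, hn⟩ := IsPGroup.iff_card.1 hP
    obtain ⟨a, -, ha⟩ := (Nat.dvd_prime_pow hp).1 (hn ▸ Cfsg.Agent.Block.charDeg_dvd χ)
    exact ⟨a, ha⟩
  -- only one step below the derived subgroup
  have huniqK : ∀ (K K' : Subgroup P) [K.Normal] [K'.Normal], D ≤ K → K ≤ N' →
      Nat.card K * p = Nat.card N' → D ≤ K' → K' ≤ N' → Nat.card K' * p = Nat.card N' →
      K = K' := by
    let F : Subgroup P := N' ⊔ Subgroup.closure (Set.range fun x : P => x ^ p)
    have hbound : ∀ (K : Subgroup P) [K.Normal], D ≤ K → K ≤ N' →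
        Nat.card K * p = Nat.card N' → ∀ χ : Cfsg.IrrCharacter P,
        (∀ g, g ∈ K ↔ (χ : P → ℂ) g = (χ : P → ℂ) 1) →
        Cfsg.charDegree (χ : P → ℂ) ^ 2 * Nat.card F ≤ Nat.card P ∧
          Nat.card P ≤ Cfsg.charDegree (χ : P → ℂ) ^ 2 * (p * Nat.card F) := by
      intro K _ hDK hKN hKc χ hχ
      have hF : F ≤ upC K := sup_le (hN'up K hDK) ((Subgroup.closure_le _).2 (by
        rintro _ ⟨x, rfl⟩
        refine mem_upC.2 fun y => ?_
        rw [commutator_pow_congr (hN'up K hDK (hcomm x y))]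
        exact pow_mem_of_step hKN hKc (hcomm x y)))
      have heq := degree_sq_mul_eq χ hχ fun x y => hN'up K hDK (hcomm x y)
      obtain ⟨lam, hlam⟩ := exists_lam χ fun g => (hχ g).1
      haveI : Finite lam.range := Finite.of_surjective _ lam.rangeRestrict_surjective
      haveI : IsCyclic lam.range := subgroup_units_cyclic lam.range
      obtain ⟨⟨l0, a, rfl⟩, hgen⟩ := IsCyclic.exists_generator (α := lam.range)
      have hsurj : Function.Surjective
          (fun x : Fin p × F => (⟨(a : P) ^ (x.1 : ℕ) * (x.2 : P),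
            mul_mem (pow_mem a.2 _) (hF x.2.2)⟩ : upC K)) := by
        intro b
        obtain ⟨i, hi⟩ := Subgroup.mem_zpowers_iff.1 (hgen ⟨lam b, b, rfl⟩)
        have hi' : lam (a ^ i) = lam b := by rw [map_zpow]; exact congrArg Subtype.val hi
        have hbK : ((a ^ i)⁻¹ * b : upC K).1 ∈ K := by
          rw [hχ]
          have h := hlam ((a ^ i)⁻¹ * b) 1
          rw [map_mul, map_inv, hi', inv_mul_cancel, Units.val_one, one_mul, mul_one] at h
          exact h
        have hmod : i % (p : ℤ) = ((i % (p : ℤ)).toNat : ℕ) :=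
          (Int.toNat_of_nonneg (Int.emod_nonneg _ (by exact_mod_cast hp.ne_zero))).symm
        refine ⟨⟨⟨(i % (p : ℤ)).toNat, by
            have := Int.emod_lt_of_pos i (by exact_mod_cast hp.pos : (0 : ℤ) < p)
            omega⟩, ⟨((a : P) ^ p) ^ (i / (p : ℤ)) * ((a ^ i)⁻¹ * b : upC K).1,
          mul_mem (zpow_mem (Subgroup.mem_sup_right (Subgroup.subset_closure (Set.mem_range_self (f := fun z : P => z ^ p) (a : P)))) _)
            (Subgroup.mem_sup_left (hKN hbK))⟩⟩, Subtype.ext ?_⟩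
        show (a : P) ^ (i % (p : ℤ)).toNat *
          (((a : P) ^ p) ^ (i / (p : ℤ)) * ((a ^ i)⁻¹ * b : upC K).1) = b
        rw [← mul_assoc, ← zpow_natCast (a : P) (i % (p : ℤ)).toNat, ← hmod,
          ← zpow_natCast (a : P) p, ← zpow_mul, ← zpow_add, Int.emod_add_mul_ediv]
        simp
      have hle : Nat.card (upC K) ≤ p * Nat.card F := by
        refine (Nat.card_le_card_of_surjective _ hsurj).trans ?_
        rw [Nat.card_prod, Nat.card_fin]
      exact ⟨heq ▸ Nat.mul_le_mul_left _ (Subgroup.card_le_of_le hF),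
        heq ▸ Nat.mul_le_mul_left _ hle⟩
    intro K K' _ _ hDK hKN hKc hDK' hKN' hKc'
    obtain ⟨χ, hne, hχ⟩ := hexχ K hDK hKN hKc
    obtain ⟨ψ, hne', hψ⟩ := hexχ K' hDK' hKN' hKc'
    obtain ⟨h1, h2⟩ := hbound K hDK hKN hKc χ hχ
    obtain ⟨h1', h2'⟩ := hbound K' hDK' hKN' hKc' ψ hψ
    obtain ⟨a, ha⟩ := hpow χ
    obtain ⟨b, hb⟩ := hpow ψ
    have key : ∀ {a b : ℕ}, (p ^ a) ^ 2 * Nat.card F ≤ (p ^ b) ^ 2 * (p * Nat.card F) → a ≤ b := by
      intro a b h
      rw [← mul_assoc] at h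
      have h' := Nat.le_of_mul_le_mul_right h Nat.card_pos
      rw [← pow_mul, ← pow_mul, ← pow_succ, Nat.pow_le_pow_iff_right hp.one_lt] at h'
      omega
    rw [ha] at h1 h2
    rw [hb] at h1' h2'
    have hdeg : Cfsg.charDegree (χ : P → ℂ) = Cfsg.charDegree (ψ : P → ℂ) := by
      rw [ha, hb, le_antisymm (key (h1.trans h2')) (key (h1'.trans h2))]
    exact le_antisymm (fun g hg => (hψ g).2 (hsame χ ψ hne hdeg g ((hχ g).1 hg)))
      (fun g hg => (hχ g).2 (hsame ψ χ hne' hdeg.symm g ((hψ g).1 hg)))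
  obtain ⟨K, hKn, hDK, hKN, hKc⟩ := exists_step hP (N := N') hD.ge hDlt
  have hKlt : ¬ N' ≤ K := fun hle => by
    have := Subgroup.card_le_of_le hle
    rw [← hKc] at this
    have := Nat.card_pos (α := K)
    nlinarith [hp.two_le]
  obtain ⟨x, y, hxy⟩ : ∃ x y : P, ⁅x, y⁆ ∉ K := by
    by_contra h
    refine hKlt ?_
    rw [hN', commutator_def, Subgroup.commutator_le]
    exact fun x _ y _ => not_not.1 fun h' => h ⟨x, y, h'⟩
  have hgen : Subgroup.zpowers ⁅x, y⁆ ⊔ D = N' := by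
    refine (sup_le (Subgroup.zpowers_le.2 (hcomm x y)) hDlt.le).antisymm ?_
    by_contra hle
    obtain ⟨K', hK'n, hRK', hK'N, hK'c⟩ := exists_step hP (N := N')
      (R := Subgroup.zpowers ⁅x, y⁆ ⊔ D) (hD.ge.trans le_sup_right)
      (lt_of_le_of_ne (sup_le (Subgroup.zpowers_le.2 (hcomm x y)) hDlt.le) fun e => hle e.ge)
    refine hxy ?_
    rw [huniqK K K' hDK hKN hKc (le_sup_right.trans hRK') hK'N hK'c]
    exact hRK' (Subgroup.mem_sup_left (Subgroup.mem_zpowers _))
  obtain ⟨χ, hne, hχ⟩ := hexχ K hDK hKN hKc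
  obtain ⟨lam, hlam⟩ := exists_lam χ fun g => (hχ g).1
  have hlam1 : ∀ a : upC K, lam a = 1 → (a : P) ∈ K := fun a ha => (hχ _).2 (by
    have h := hlam a 1
    rw [ha, Units.val_one, one_mul, mul_one] at h
    exact h)
  have hcp : ⁅x, y⁆ ^ p ∈ D := by
    have core : ∀ (u v : P) (i : ℕ), (u ^ p) * ((v ^ p) ^ i)⁻¹ ∈ N' → ⁅u, v⁆ ^ p ∈ D := by
      intro u v i hi
      have h1 : ⁅u * (v ^ i)⁻¹, v⁆ = ⁅u, v⁆ := by
        rw [commutatorElement_def, commutatorElement_def]
        group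
      have h2 : (u * (v ^ i)⁻¹) ^ p ∈ N' := by
        rw [hN'] at hi ⊢
        rw [← Abelianization.ker_of, MonoidHom.mem_ker] at hi ⊢
        simp only [map_mul, map_inv, map_pow, mul_pow, inv_pow] at hi ⊢
        rw [← pow_mul, mul_comm i p, pow_mul]
        exact hi
      rw [← h1, ← commutator_pow_congr (hN'up D le_rfl (hcomm _ _)), hD]
      exact Subgroup.commutator_mem_commutator h2 (Subgroup.mem_top v)
    have hxA : ∀ z : P, z ^ p ∈ upC K := fun z => mem_upC.2 fun w => by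
      rw [commutator_pow_congr (hN'up K hDK (hcomm z w))]
      exact pow_mem_of_step hKN hKc (hcomm z w)
    have hfin : ∀ a : upC K, 0 < orderOf (lam a : ℂ) := fun a => by
      rw [orderOf_units]
      exact Nat.pos_of_ne_zero fun h0 => (isOfFinOrder_iff_pow_eq_one.2
        ⟨_, Nat.card_pos, by rw [← map_pow, pow_card_eq_one' (G := upC K), map_one]⟩).orderOf_pos.ne' h0
    have hrel : ∀ a b : upC K, orderOf (lam a : ℂ) ∣ orderOf (lam b : ℂ) →
        ∃ i : ℕ, (a : P) * ((b : P) ^ i)⁻¹ ∈ N' := by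
      intro a b hab
      haveI : NeZero (orderOf (lam b : ℂ)) := ⟨(hfin b).ne'⟩
      obtain ⟨i, -, hi⟩ := (IsPrimitiveRoot.orderOf (lam b : ℂ)).eq_pow_of_pow_eq_one
        (orderOf_dvd_iff_pow_eq_one.1 hab)
      refine ⟨i, hKN (hlam1 (a * (b ^ i)⁻¹) ?_)⟩
      rw [map_mul, map_inv, map_pow, mul_inv_eq_one]
      exact Units.ext (by rw [Units.val_pow_eq_pow_val, hi])
    obtain ⟨s, hs⟩ : ∃ s, orderOf (lam ⟨x ^ p, hxA x⟩ : ℂ) = p ^ s := by
      obtain ⟨n, hn⟩ := IsPGroup.iff_card.1 (hP.to_subgroup (upC K))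
      obtain ⟨s, -, hs⟩ := (Nat.dvd_prime_pow hp).1 (orderOf_dvd_of_pow_eq_one
        (show (lam ⟨x ^ p, hxA x⟩ : ℂ) ^ p ^ n = 1 by
          rw [← Units.val_pow_eq_pow_val, ← map_pow, ← hn, pow_card_eq_one', map_one, Units.val_one]))
      exact ⟨s, hs⟩
    obtain ⟨t, ht⟩ : ∃ t, orderOf (lam ⟨y ^ p, hxA y⟩ : ℂ) = p ^ t := by
      obtain ⟨n, hn⟩ := IsPGroup.iff_card.1 (hP.to_subgroup (upC K))
      obtain ⟨t, -, ht⟩ := (Nat.dvd_prime_pow hp).1 (orderOf_dvd_of_pow_eq_one
        (show (lam ⟨y ^ p, hxA y⟩ : ℂ) ^ p ^ n = 1 by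
          rw [← Units.val_pow_eq_pow_val, ← map_pow, ← hn, pow_card_eq_one', map_one, Units.val_one]))
      exact ⟨t, ht⟩
    rcases le_total s t with h | h
    · obtain ⟨i, hi⟩ := hrel ⟨x ^ p, hxA x⟩ ⟨y ^ p, hxA y⟩ (hs ▸ ht ▸ pow_dvd_pow p h)
      exact core x y i hi
    · obtain ⟨i, hi⟩ := hrel ⟨y ^ p, hxA y⟩ ⟨x ^ p, hxA x⟩ (hs ▸ ht ▸ pow_dvd_pow p h)
      have := core y x i hi
      rw [← commutatorElement_inv x y, inv_pow, inv_mem_iff] at this
      exact this
  -- the quotient has order `p`, so `K = D`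
  have hN'card : Nat.card N' ≤ p * Nat.card D := by
    have hsurj : Function.Surjective (fun z : Fin p × D =>
        (⟨⁅x, y⁆ ^ (z.1 : ℕ) * (z.2 : P), mul_mem (pow_mem (hcomm x y) _) (hDlt.le z.2.2)⟩ : N')) := by
      rintro ⟨g, hg⟩
      rw [← hgen, ← SetLike.mem_coe, Subgroup.mul_normal] at hg
      obtain ⟨u, hu, d, hd, rfl⟩ := hg
      obtain ⟨i, rfl⟩ := Subgroup.mem_zpowers_iff.1 hu
      have hmod : i % (p : ℤ) = ((i % (p : ℤ)).toNat : ℕ) :=
        (Int.toNat_of_nonneg (Int.emod_nonneg _ (by exact_mod_cast hp.ne_zero))).symm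
      refine ⟨⟨⟨(i % (p : ℤ)).toNat, by
          have := Int.emod_lt_of_pos i (by exact_mod_cast hp.pos : (0 : ℤ) < p)
          omega⟩, ⟨(⁅x, y⁆ ^ p) ^ (i / (p : ℤ)) * d, mul_mem (zpow_mem hcp _) hd⟩⟩, Subtype.ext ?_⟩
      show ⁅x, y⁆ ^ (i % (p : ℤ)).toNat * ((⁅x, y⁆ ^ p) ^ (i / (p : ℤ)) * d) = ⁅x, y⁆ ^ i * d
      rw [← mul_assoc, ← zpow_natCast ⁅x, y⁆ (i % (p : ℤ)).toNat, ← hmod,
        ← zpow_natCast ⁅x, y⁆ p, ← zpow_mul, ← zpow_add, Int.emod_add_mul_ediv]
    refine (Nat.card_le_card_of_surjective _ hsurj).trans ?_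
    rw [Nat.card_prod, Nat.card_fin]
  have hKD : K = D := by
    refine (Subgroup.eq_of_le_of_card_ge hDK ?_).symm
    rw [← hKc, mul_comm] at hN'card
    exact Nat.le_of_mul_le_mul_left hN'card hp.pos
  subst hKD
  have hDbot : K = ⊥ := by
    by_contra hDne
    obtain ⟨L, hLn, hRL, hLD, hLc⟩ := exists_step hP (N := K) le_rfl
      (Cfsg.Agent.Transfer.MaxAbelianExponent.commutator_lt_of_normal hDne)
    have hDL : K ≤ upC L := fun g hg => mem_upC.2 fun z => hRL
      (Subgroup.commutator_mem_commutator hg (Subgroup.mem_top z))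
    have hnotN' : ¬ N' ≤ upC L := fun hle => by
      have h' : K ≤ L := hD.le.trans (Subgroup.commutator_le.2 fun g hg z _ => mem_upC.1 (hle hg) z)
      have := Subgroup.card_le_of_le h'
      rw [← hLc] at this
      have := Nat.card_pos (α := L)
      nlinarith [hp.two_le]
    obtain ⟨g, hgD, hgL⟩ : ∃ g ∈ K, g ∉ L := by
      refine SetLike.not_le_iff_exists.1 fun hle => hnotN' ?_
      exact fun c hc => mem_upC.2 fun z =>
        hle (hD ▸ Subgroup.commutator_mem_commutator hc (Subgroup.mem_top z))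
    obtain ⟨χ', hχ'L, hχ'g⟩ := exists_char_ker hgL
    have hne' : Cfsg.charDegree (χ' : P → ℂ) ≠ 1 := fun h => hχ'g ((hlin χ').1 h g (hKN hgD))
    let h' := Cfsg.Agent.Char.IsIrr.isCharacter χ'.2
    have hLM : L ≤ Cfsg.Agent.Char.charKer h' := fun z hz =>
      (Cfsg.Agent.Char.mem_charKer h').2 (hχ'L z hz)
    have hMN : Cfsg.Agent.Char.charKer h' ≤ N' := fun z hz =>
      hker χ' hne' z ((Cfsg.Agent.Char.mem_charKer h').1 hz)
    haveI : (Cfsg.Agent.Char.charKer h').Normal := Cfsg.Agent.Char.charKer_normal h'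
    have hMD : Cfsg.Agent.Char.charKer h' ⊓ K = L := by
      refine (step_cases hP hLD hLc (le_inf hLM hLD) inf_le_right).resolve_right fun e => hχ'g ?_
      exact (Cfsg.Agent.Char.mem_charKer h').1 (inf_eq_right.1 e hgD)
    have hMle : Cfsg.Agent.Char.charKer h' ≤ K := by
      rcases step_cases hP hKN hKc (M := Cfsg.Agent.Char.charKer h' ⊔ K) le_sup_right
        (sup_le hMN hKN) with e | e
      · exact e ▸ le_sup_left
      · refine absurd (e ▸ sup_le (fun m hm => mem_upC.2 fun z => ?_) hDL) hnotN'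
        rw [← hMD, hD]
        refine Subgroup.mem_inf.2 ⟨?_, Subgroup.commutator_mem_commutator (hMN hm) (Subgroup.mem_top z)⟩
        exact Subgroup.commutator_le_left _ _ (Subgroup.commutator_mem_commutator hm (Subgroup.mem_top z))
    have hML : ∀ z, z ∈ L ↔ (χ' : P → ℂ) z = (χ' : P → ℂ) 1 := fun z => by
      rw [← hMD, inf_eq_left.2 hMle, Cfsg.Agent.Char.mem_charKer]
    obtain ⟨c, hc⟩ : ∃ c, c = ⁅x, y⁆ := ⟨_, rfl⟩
    have hcK : c ∈ upC K := hc ▸ hN'up K le_rfl (hcomm x y)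
    -- the centre modulo `K` is the derived subgroup
    have hA : ∀ a ∈ upC K, a ∈ N' := by
      intro a ha
      by_contra haN
      haveI := Fintype.ofFinite P
      have hlc : orderOf (lam ⟨c, hcK⟩) = p := by
        refine orderOf_eq_prime ?_ fun h1 => hxy (hc ▸ hlam1 _ h1)
        have hm : c ^ p ∈ K := hc ▸ hcp
        have h2 := hlam (⟨c, hcK⟩ ^ p) 1
        rw [SubmonoidClass.coe_pow, mul_one, (hχ _).1 hm] at h2
        obtain ⟨n, hn, hn1⟩ := Cfsg.Agent.Char.IsIrr.one_eq_pos χ.2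
        have h3 : (lam (⟨c, hcK⟩ ^ p) : ℂ) = 1 := mul_right_cancel₀
          (by rw [hn1]; exact Nat.cast_ne_zero.2 hn.ne') (h2.symm.trans (one_mul _).symm)
        rw [← map_pow]
        exact Units.ext h3
      have hroot : ∀ b : upC K, lam b ^ p = 1 → (b : P) ∈ N' := by
        intro b hb
        have hprim : IsPrimitiveRoot (lam ⟨c, hcK⟩ : ℂ) p := by
          have := IsPrimitiveRoot.orderOf (lam ⟨c, hcK⟩ : ℂ)
          rwa [orderOf_units, hlc] at this
        obtain ⟨i, -, hi⟩ := hprim.eq_pow_of_pow_eq_one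
          (show (lam b : ℂ) ^ p = 1 by rw [← Units.val_pow_eq_pow_val, hb, Units.val_one])
        have hmem := hlam1 (b * (⟨c, hcK⟩ ^ i)⁻¹) (by
          rw [map_mul, map_inv, map_pow, mul_inv_eq_one]
          exact Units.ext (by rw [Units.val_pow_eq_pow_val, hi]))
        have hm2 : (b : P) * (c ^ i)⁻¹ ∈ N' := hKN hmem
        exact (Subgroup.mul_mem_cancel_right N' (inv_mem (pow_mem (hc ▸ hcomm x y) i))).1 hm2
      obtain ⟨n, hn⟩ := IsPGroup.iff_card.1 (hP.to_subgroup (upC K))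
      obtain ⟨e, -, he⟩ := (Nat.dvd_prime_pow hp).1 (orderOf_dvd_of_pow_eq_one
        (show (lam ⟨a, ha⟩) ^ p ^ n = 1 by rw [← map_pow, ← hn, pow_card_eq_one', map_one]))
      have he2 : 2 ≤ e := by
        by_contra hlt
        refine haN (hroot ⟨a, ha⟩ (orderOf_dvd_iff_pow_eq_one.1 (he ▸ ?_)))
        calc p ^ e ∣ p ^ 1 := pow_dvd_pow p (by omega)
          _ = p := pow_one p
      obtain ⟨b, hb⟩ : ∃ b : upC K, b = ⟨a, ha⟩ ^ p ^ (e - 2) := ⟨_, rfl⟩
      have hbo : orderOf (lam b) = p ^ 2 := by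
        rw [hb, map_pow, orderOf_pow' _ (pow_ne_zero _ hp.ne_zero), he,
          Nat.gcd_eq_right (pow_dvd_pow p (by omega)), Nat.pow_div (by omega) hp.pos,
          show e - (e - 2) = 2 by omega]
      have hbN : (b : P) ^ p ∈ N' := hroot (b ^ p) (by
        rw [map_pow, ← pow_mul, ← sq, ← hbo, pow_orderOf_eq_one])
      have hbK : (b : P) ^ p ∉ K := by
        intro h
        have h2 := hlam (b ^ p) 1
        rw [SubmonoidClass.coe_pow, mul_one, (hχ _).1 h] at h2
        obtain ⟨n, hn, hn1⟩ := Cfsg.Agent.Char.IsIrr.one_eq_pos χ.2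
        have h3 : (lam (b ^ p) : ℂ) = 1 := mul_right_cancel₀
          (by rw [hn1]; exact Nat.cast_ne_zero.2 hn.ne') (h2.symm.trans (one_mul _).symm)
        have h4 : orderOf (lam b) ∣ p := orderOf_dvd_of_pow_eq_one (by
          rw [← map_pow]; exact Units.ext h3)
        rw [hbo] at h4
        have := Nat.le_of_dvd hp.pos h4
        nlinarith [hp.two_le]
      have hbL : (b : P) ^ p ∈ upC L := mem_upC.2 fun z => by
        rw [commutator_pow_congr (hDL (mem_upC.1 b.2 z))]
        exact pow_mem_of_step hLD hLc (mem_upC.1 b.2 z)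
      rcases step_cases hP hKN hKc (M := N' ⊓ upC L) (le_inf hKN hDL) inf_le_left with e' | e'
      · exact hbK (e'.le (Subgroup.mem_inf.2 ⟨hbN, hbL⟩))
      · exact hnotN' (inf_eq_left.1 e')
    have hAeq : upC K = N' := le_antisymm hA (hN'up K le_rfl)
    -- `C` centralizes the derived subgroup modulo `L`
    obtain ⟨C, -, hC, hCcard⟩ := card_le_of_comm (p := p) (S := (⊤ : Subgroup P)) hDL hLD hLc
      (c := c) fun g _ => by
        rw [← commutatorElement_inv c g, inv_mem_iff]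
        exact mem_upC.1 hcK g
    rw [Subgroup.card_top] at hCcard
    have hC' : ∀ g ∈ C, ∀ d ∈ N', QuotientGroup.mk' L ⁅g, d⁆ = 1 := by
      intro g hg
      let T : Subgroup P := (Subgroup.centralizer
        ({QuotientGroup.mk' L g} : Set (P ⧸ L))).comap (QuotientGroup.mk' L)
      have hT : N' ≤ T := by
        rw [← hgen]
        refine sup_le (Subgroup.zpowers_le.2 ?_) fun d hd => ?_
        · rw [Subgroup.mem_comap, Subgroup.mem_centralizer_singleton_iff]
          refine Eq.symm (commutatorElement_eq_one_iff_mul_comm.1 ?_)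
          rw [← map_commutatorElement, QuotientGroup.mk'_apply, QuotientGroup.eq_one_iff]
          exact hc ▸ hC g hg
        · rw [Subgroup.mem_comap, Subgroup.mem_centralizer_singleton_iff]
          exact (Subgroup.mem_center_iff.1 (hDL hd) (QuotientGroup.mk' L g)).symm
      intro d hd
      rw [map_commutatorElement, commutatorElement_eq_one_iff_mul_comm]
      exact (Subgroup.mem_centralizer_singleton_iff.1 (hT hd)).symm
    have hCC : ∀ u ∈ C, ∀ v ∈ C, ⁅u, v⁆ ∈ K := by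
      have h3 : ⁅⁅C.map (QuotientGroup.mk' L), C.map (QuotientGroup.mk' L)⁆,
          (⊤ : Subgroup (P ⧸ L))⁆ = ⊥ := by
        have hsmall : ⁅N'.map (QuotientGroup.mk' L), C.map (QuotientGroup.mk' L)⁆ = ⊥ := by
          rw [eq_bot_iff, Subgroup.commutator_le]
          rintro _ ⟨d, hd, rfl⟩ _ ⟨g, hg, rfl⟩
          rw [Subgroup.mem_bot, commutatorElement_eq_one_iff_mul_comm]
          have := hC' g hg d hd
          rw [map_commutatorElement, commutatorElement_eq_one_iff_mul_comm] at this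
          exact this.symm
        have hle : ∀ S T : Subgroup (P ⧸ L), ⁅S, T⁆ ≤ N'.map (QuotientGroup.mk' L) := fun S T =>
          Subgroup.commutator_le.2 fun s _ t _ => by
            obtain ⟨s, rfl⟩ := QuotientGroup.mk'_surjective L s
            obtain ⟨t, rfl⟩ := QuotientGroup.mk'_surjective L t
            exact ⟨_, hcomm s t, map_commutatorElement _ s t⟩
        exact Subgroup.commutator_commutator_eq_bot_of_rotate
          (le_bot_iff.1 (hsmall ▸ Subgroup.commutator_mono (hle _ _) le_rfl))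
          (le_bot_iff.1 (hsmall ▸ Subgroup.commutator_mono (hle _ _) le_rfl))
      intro u hu v hv
      have hm : ⁅u, v⁆ ∈ N' ⊓ upC L := by
        refine Subgroup.mem_inf.2 ⟨hcomm u v, mem_upC.2 fun z => ?_⟩
        rw [← QuotientGroup.eq_one_iff, ← QuotientGroup.mk'_apply, map_commutatorElement,
          map_commutatorElement, ← Subgroup.mem_bot, ← h3]
        exact Subgroup.commutator_mem_commutator (Subgroup.commutator_mem_commutator
          ⟨u, hu, rfl⟩ ⟨v, hv, rfl⟩) (Subgroup.mem_top _)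
      rcases step_cases hP hKN hKc (M := N' ⊓ upC L) (le_inf hKN hDL) inf_le_left with e' | e'
      · exact e'.le hm
      · exact absurd (inf_eq_left.1 e') hnotN'
    obtain ⟨w, hw⟩ : ∃ w, w ∉ C := by
      by_contra hall
      refine hnotN' fun d hd => mem_upC.2 fun z => ?_
      have h0 := hC' z (not_not.1 fun h => hall ⟨z, h⟩) d hd
      rw [QuotientGroup.mk'_apply, QuotientGroup.eq_one_iff] at h0
      rw [← commutatorElement_inv z d]
      exact inv_mem h0
    have hCtop : C ⊔ Subgroup.zpowers w = ⊤ := by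
      by_contra hne2
      obtain ⟨i, hi⟩ := IsPGroup.iff_card.1 (hP.to_subgroup C)
      obtain ⟨j, hj⟩ := IsPGroup.iff_card.1 (hP.to_subgroup (C ⊔ Subgroup.zpowers w))
      obtain ⟨n, hn⟩ := IsPGroup.iff_card.1 hP
      have hij : i < j := by
        by_contra hle
        refine hw ?_
        rw [Subgroup.eq_of_le_of_card_ge (le_sup_left : C ≤ C ⊔ Subgroup.zpowers w)
          (by rw [hi, hj]; exact Nat.pow_le_pow_right hp.pos (not_lt.1 hle))]
        exact Subgroup.mem_sup_right (Subgroup.mem_zpowers w)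
      have hjn : j < n := by
        by_contra hle
        exact hne2 (Subgroup.eq_top_of_le_card _
          (by rw [hn, hj]; exact Nat.pow_le_pow_right hp.pos (not_lt.1 hle)))
      rw [hn, hi, ← pow_succ', Nat.pow_le_pow_iff_right hp.one_lt] at hCcard
      omega
    obtain ⟨T, hTC, hT, hTcard⟩ := card_le_of_comm (p := p) (S := C) (hN'up K le_rfl) hKN hKc
      (c := w) fun g _ => hcomm g w
    have hTN : T ≤ N' := by
      intro g hg
      refine hA g (?_ : g ∈ (Subgroup.center (P ⧸ K)).comap (QuotientGroup.mk' K))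
      rw [Subgroup.mem_comap, Subgroup.mem_center_iff]
      intro q
      obtain ⟨q, rfl⟩ := QuotientGroup.mk'_surjective K q
      let T' : Subgroup P := (Subgroup.centralizer
        ({QuotientGroup.mk' K g} : Set (P ⧸ K))).comap (QuotientGroup.mk' K)
      have hall : (⊤ : Subgroup P) ≤ T' := by
        rw [← hCtop]
        refine sup_le (fun u hu => ?_) (Subgroup.zpowers_le.2 ?_)
        · rw [Subgroup.mem_comap, Subgroup.mem_centralizer_singleton_iff]
          refine commutatorElement_eq_one_iff_mul_comm.1 ?_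
          rw [← map_commutatorElement, QuotientGroup.mk'_apply, QuotientGroup.eq_one_iff]
          exact hCC u hu g (hTC hg)
        · rw [Subgroup.mem_comap, Subgroup.mem_centralizer_singleton_iff]
          refine Eq.symm (commutatorElement_eq_one_iff_mul_comm.1 ?_)
          rw [← map_commutatorElement, QuotientGroup.mk'_apply, QuotientGroup.eq_one_iff]
          exact hT g hg
      exact Subgroup.mem_centralizer_singleton_iff.1 (hall (Subgroup.mem_top q))
    have hPN : Nat.card P ≤ p ^ 2 * Nat.card N' :=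
      calc Nat.card P ≤ p * Nat.card C := hCcard
        _ ≤ p * (p * Nat.card T) := Nat.mul_le_mul_left _ hTcard
        _ ≤ p * (p * Nat.card N') :=
          Nat.mul_le_mul_left _ (Nat.mul_le_mul_left _ (Subgroup.card_le_of_le hTN))
        _ = p ^ 2 * Nat.card N' := by ring
    obtain ⟨a, ha⟩ := hpow χ
    obtain ⟨b, hb⟩ := hpow χ'
    have ha1 : 1 ≤ a := Nat.pos_of_ne_zero fun h0 => hne (by rw [ha, h0, pow_zero])
    have hb1 : 1 ≤ b := Nat.pos_of_ne_zero fun h0 => hne' (by rw [hb, h0, pow_zero])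
    have hale : a ≤ 1 := by
      have heq := degree_sq_mul_eq χ hχ fun u v => hN'up K le_rfl (hcomm u v)
      rw [hAeq, ha] at heq
      have h2 : (p ^ a) ^ 2 ≤ p ^ 2 :=
        Nat.le_of_mul_le_mul_right (heq.le.trans hPN) Nat.card_pos
      rw [← pow_mul, Nat.pow_le_pow_iff_right hp.one_lt] at h2
      omega
    have hble : b ≤ 1 := by
      have h1 := degree_sq_mul_le χ' fun z => (hML z).1
      rw [hb] at h1
      have h2 : (p ^ b) ^ 2 ≤ p ^ 3 :=
        Nat.le_of_mul_le_mul_right (c := Nat.card K)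
          (calc (p ^ b) ^ 2 * Nat.card K ≤ (p ^ b) ^ 2 * Nat.card (upC L) :=
                Nat.mul_le_mul_left _ (Subgroup.card_le_of_le hDL)
            _ ≤ Nat.card P := h1
            _ ≤ p ^ 2 * Nat.card N' := hPN
            _ = p ^ 3 * Nat.card K := by rw [← hKc]; ring) Nat.card_pos
      rw [← pow_mul, Nat.pow_le_pow_iff_right hp.one_lt] at h2
      omega
    have hdeg : Cfsg.charDegree (χ : P → ℂ) = Cfsg.charDegree (χ' : P → ℂ) := by
      rw [ha, hb, le_antisymm hale ha1, le_antisymm hble hb1]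
    exact hgL ((hML g).2 (hsame χ χ' hne hdeg g ((hχ g).1 hgD)))
  subst hDbot
  refine ⟨?_, ?_⟩
  · have hinj : Function.Injective lam := (injective_iff_map_eq_one lam).2 fun a ha =>
      Subtype.ext (Subgroup.mem_bot.1 (hlam1 a ha))
    haveI : IsCyclic (upC (⊥ : Subgroup P)) :=
      isCyclic_of_subgroup_isDomain ((Units.coeHom ℂ).comp lam) (Units.val_injective.comp hinj)
    refine isCyclic_of_injective (Subgroup.inclusion (H := Subgroup.center P)
      (K := upC (⊥ : Subgroup P)) fun g hg => mem_upC.2 fun z => Subgroup.mem_bot.2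
        (commutatorElement_eq_one_iff_mul_comm.2 (Subgroup.mem_center_iff.1 hg z).symm))
      (Subgroup.inclusion_injective _)
  · rw [← hN', ← hKc, Subgroup.card_bot, one_mul]

/-- Let p be a prime and P a finite non-commutative p-group. Then every two irreducible characters of P of the same degree greater than 1 are Galois conjugate (one is obtained from the other by composing with g ↦ g^k for some k prime to the order of P) if and only if the centre of P is cyclic and the derived subgroup of P has order p. -/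
theorem result {P : Type*} [Group P] [Finite P] (p : ℕ) [Fact p.Prime] (hP : IsPGroup p P) (hna : ¬ IsMulCommutative P) :
    (∀ χ ψ : Cfsg.IrrCharacter P, Cfsg.charDegree (χ : P → ℂ) ≠ 1 → Cfsg.charDegree (χ : P → ℂ) = Cfsg.charDegree (ψ : P → ℂ) → ∃ k : ℕ, Nat.Coprime k (Nat.card P) ∧ ∀ g : P, (ψ : P → ℂ) g = (χ : P → ℂ) (g ^ k)) ↔
      (IsCyclic (Subgroup.center P) ∧ Nat.card (commutator P) = p) := by
  refine ⟨fun H => forward hP hna H, fun h χ ψ h1 hd => backward hP hna h.1 h.2 χ ψ h1 hd⟩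

end Cfsg.Agent.S4845
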