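import Cfsg.Statements.S4850
import Cfsg.Agent.Lib.Block.OneVanish.SameOrder

set_option autoImplicit false
open Cfsg
open scoped commutatorElement

namespace Cfsg.Agent.S4850

/-- Let p be a prime and G a finite solvable group whose vanishing elements (elements at which some irreducible character is zero) of order divisible by p all have the same order, with at least one such element. Let P be a Sylow p-subgroup of G. Then the derived subgroup of P is subnormal in G and the image of P in G/O_p(G) is cyclic. -/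
theorem result {G : Type*} [Group G] [Finite G] [hs : Group.IsSolvable G] (p : ℕ) [Fact p.Prime] (b : ℕ) (hvo : {n : ℕ | p ∣ n ∧ ∃ (g : G) (χ : Cfsg.IrrCharacter G), orderOf g = n ∧ (χ : G → ℂ) g = 0} = {b}) (P : Sylow p G) :
    ((commutator ↥(P : Subgroup G)).map (P : Subgroup G).subtype).IsSubnormal ∧ IsCyclic ↥((P : Subgroup G).map (QuotientGroup.mk' (Cfsg.pCore p G))) := by
  classical
  cases nonempty_fintype G
  haveI := hs
  have hle := Cfsg.Agent.Block.OneVanish.same_order_main (b := b) (fun u hu => by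
    obtain ⟨⟨χ, hχ⟩, hpu⟩ := hu
    exact (hvo ▸ (⟨hpu, u, χ, rfl, hχ⟩ :
      orderOf u ∈ {n : ℕ | p ∣ n ∧ ∃ (g : G) (χ : Cfsg.IrrCharacter G),
        orderOf g = n ∧ (χ : G → ℂ) g = 0}) : orderOf u ∈ ({b} : Set ℕ))) P
  set π := QuotientGroup.mk' (Cfsg.pCore p G)
  set Pb := (P : Subgroup G).map π
  have hcyc : IsCyclic Pb := by
    obtain ⟨k, hk⟩ := IsPGroup.iff_card.1 (P.isPGroup'.map π)
    rcases Nat.eq_zero_or_pos k with rfl | hk0
    · haveI : Subsingleton Pb := (Nat.card_eq_one_iff_unique.1 (hk.trans (pow_zero p))).1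
      infer_instance
    · exact isCyclic_of_prime_card
        (le_antisymm hle (hk ▸ Nat.le_self_pow hk0.ne' p))
  refine ⟨?_, hcyc⟩
  set D := (commutator ↥(P : Subgroup G)).map (P : Subgroup G).subtype
  have hDle : D ≤ Cfsg.pCore p G := by
    refine (Subgroup.map_subtype_commutator _).trans_le ?_
    rw [Subgroup.commutator_le]
    intro a ha b hb
    rw [← QuotientGroup.eq_one_iff]
    show π ⁅a, b⁆ = 1
    rw [map_commutatorElement, commutatorElement_eq_one_iff_mul_comm]
    haveI := hcyc
    letI := IsCyclic.commGroup (α := Pb)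
    exact congrArg Subtype.val
      (mul_comm (⟨π a, Subgroup.mem_map_of_mem π ha⟩ : Pb) ⟨π b, Subgroup.mem_map_of_mem π hb⟩)
  refine Subgroup.IsSubnormal.trans hDle (Subgroup.Normal.isSubnormal ?_)
    (Subgroup.Normal.isSubnormal inferInstance)
  have hcP : Cfsg.pCore p G ≤ (P : Subgroup G) := Cfsg.Agent.Grp.pCore_le_sylow P
  refine ⟨fun x hx g => ?_⟩
  obtain ⟨c, hc, hcx⟩ := (Subgroup.mem_subgroupOf.1 hx)
  refine Subgroup.mem_subgroupOf.2 ⟨⟨(g : G), hcP g.2⟩ * c * ⟨(g : G), hcP g.2⟩⁻¹,
    (inferInstance : (commutator ↥(P : Subgroup G)).Normal).conj_mem c hc _, ?_⟩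
  simp only [map_mul, map_inv, Subgroup.coe_subtype]
  rw [show ((c : (P : Subgroup G)) : G) = (x : G) from hcx]
  rfl

end Cfsg.Agent.S4850
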