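import Cfsg.Statements.S4856
import Mathlib
import Cfsg.Agent.Lib.Char.Schur
import Cfsg.Agent.Lib.Char.Complete
import Cfsg.Agent.Lib.Block.Central
import Cfsg.Agent.Lib.Block.ClassMul
-- import your own Cfsg.Agent.* helpers here

set_option autoImplicit false
open Cfsg

namespace Cfsg.Agent.S4856

/-- For an element z of a finite group G, the number of pairs (x, y) of elements with x y x⁻¹ y⁻¹ = z equals the order of G times the sum over the irreducible characters χ of χ(z)/χ(1). -/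
theorem result {G : Type*} [Group G] [Finite G] (z : G) : (Nat.card {xy : G × G // xy.1 * xy.2 * xy.1⁻¹ * xy.2⁻¹ = z} : ℂ) = (Nat.card G : ℂ) * ∑ᶠ χ : Cfsg.IrrCharacter G, (χ : G → ℂ) z / (χ : G → ℂ) 1 := by
  classical
  cases nonempty_fintype G
  have hG : (Nat.card G : ℂ) ≠ 0 := Nat.cast_ne_zero.2 Nat.card_pos.ne'
  set N := Nat.card {xy : G × G // xy.1 * xy.2 * xy.1⁻¹ * xy.2⁻¹ = z}
  have hN : (N : ℂ) * (Nat.card G : ℂ) =
      ∑ y : G, ∑ x : G, ∑ χ : IrrCharacter G,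
        (χ : G → ℂ) 1 * (χ : G → ℂ) (x * y * x⁻¹ * (y⁻¹ * z⁻¹)) := by
    simp only [Cfsg.Agent.Char.regular_expansion]
    have e : ∀ x y : G, (x * y * x⁻¹ * (y⁻¹ * z⁻¹) = 1) ↔ x * y * x⁻¹ * y⁻¹ = z := fun x y => by
      rw [← mul_assoc, mul_inv_eq_one]
    simp only [e]
    rw [Finset.sum_comm, ← Fintype.sum_prod_type (f := fun p : G × G =>
      if p.1 * p.2 * p.1⁻¹ * p.2⁻¹ = z then (Nat.card G : ℂ) else 0), Finset.sum_ite, Finset.sum_const_zero,
      Finset.sum_const, add_zero, nsmul_eq_mul]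
    congr 1
    rw [show N = Fintype.card {xy : G × G // xy.1 * xy.2 * xy.1⁻¹ * xy.2⁻¹ = z} from Nat.card_eq_fintype_card,
      Fintype.card_subtype]
  have hχ : ∀ χ : IrrCharacter G, ∑ y : G, ∑ x : G,
      (χ : G → ℂ) 1 * (χ : G → ℂ) (x * y * x⁻¹ * (y⁻¹ * z⁻¹)) =
        (Nat.card G : ℂ) ^ 2 * ((χ : G → ℂ) z⁻¹ / (χ : G → ℂ) 1) := fun χ => by
    have h1 := Cfsg.Agent.Block.irr_one_ne_zero χ
    have h2 := Cfsg.Agent.Char.sum_mul_conj_shift χ.2 z⁻¹
    rw [← Equiv.sum_comp (Equiv.inv G)] at h2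
    simp only [Equiv.inv_apply, Cfsg.Agent.Char.IsIrr.apply_inv χ.2, Complex.conj_conj] at h2
    calc _ = ∑ y : G, (Nat.card G : ℂ) * ((χ : G → ℂ) y * (χ : G → ℂ) (y⁻¹ * z⁻¹)) := by
          refine Finset.sum_congr rfl fun y _ => ?_
          rw [← Finset.mul_sum, Cfsg.Agent.Char.sum_conj_apply χ.2]
          field_simp
      _ = _ := by rw [← Finset.mul_sum, h2, Cfsg.Agent.Char.IsIrr.apply_inv χ.2]; ring
  rw [Finset.sum_congr rfl fun y _ => Finset.sum_comm, Finset.sum_comm, Finset.sum_congr rfl fun χ _ => hχ χ,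
    ← Finset.mul_sum] at hN
  have hN' : (N : ℂ) = (Nat.card G : ℂ) * ∑ χ : IrrCharacter G, (χ : G → ℂ) z⁻¹ / (χ : G → ℂ) 1 :=
    mul_right_cancel₀ hG (hN.trans (by ring))
  have hc := congrArg (starRingEnd ℂ) hN'
  rw [map_natCast, map_mul, map_natCast, map_sum] at hc
  rw [hc, finsum_eq_sum_of_fintype]
  congr 1
  refine Finset.sum_congr rfl fun χ _ => ?_
  rw [map_div₀, Cfsg.Agent.Char.IsIrr.apply_inv χ.2, Complex.conj_conj,
    Cfsg.Agent.Block.charDeg_spec' χ, Complex.conj_natCast]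

end Cfsg.Agent.S4856
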