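import Cfsg.Statements.S4859
import Mathlib
import Cfsg.Agent.Lib.Block.SchurIndicator
import Cfsg.Agent.Lib.Char.Complete
-- import your own Cfsg.Agent.* helpers here

set_option autoImplicit false
open Cfsg

namespace Cfsg.Agent.S4859

/-- Let p be an odd prime, G a finite group and x an element of G whose order is a power of p (possibly 1) and whose centralizer has even order. Let y be a 2-element of the centralizer of x whose order is largest among the 2-elements of that centralizer. Then x * y is not a square in G, and some non-principal real-valued irreducible character of G does not vanish at x * y. -/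
theorem result {G : Type*} [Group G] [Finite G] (p : ℕ) [Fact p.Prime] (hp : p ≠ 2) (x : G) (hx : ∃ k : ℕ, orderOf x = p ^ k) (heven : Even (Nat.card (Subgroup.centralizer ({x} : Set G)))) (y : G) (hy : y ∈ Subgroup.centralizer ({x} : Set G)) (hy2 : ∃ k : ℕ, orderOf y = 2 ^ k) (hmax : ∀ z ∈ Subgroup.centralizer ({x} : Set G), (∃ k : ℕ, orderOf z = 2 ^ k) → orderOf z ≤ orderOf y) : (¬ ∃ u : G, u * u = x * y) ∧ ∃ χ : Cfsg.IrrCharacter G, ¬ ((χ : G → ℂ) = fun _ => (1 : ℂ)) ∧ (∀ g : G, ((χ : G → ℂ) g).im = 0) ∧ (χ : G → ℂ) (x * y) ≠ 0 := by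
  classical
  have hp' : p.Prime := Fact.out
  obtain ⟨k, hk⟩ := hx
  obtain ⟨l, hl⟩ := hy2
  have hxy : Commute x y := (Subgroup.mem_centralizer_singleton_iff.1 hy).symm
  have hl1 : 1 ≤ l := by
    obtain ⟨z, hz⟩ := exists_prime_orderOf_dvd_card' (G := Subgroup.centralizer ({x} : Set G)) 2 heven.two_dvd
    have h2 := hmax z z.2 ⟨1, by rw [Subgroup.orderOf_coe, hz, pow_one]⟩
    rw [Subgroup.orderOf_coe, hz, hl] at h2
    by_contra h0
    have : l = 0 := by omega
    subst this
    simp at h2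
  have hcop : (p ^ k).Coprime (2 ^ l) :=
    Nat.Coprime.pow _ _ ((Nat.coprime_primes hp' Nat.prime_two).2 hp)
  have hord : orderOf (x * y) = p ^ k * 2 ^ l := by
    rw [← hk, ← hl]
    exact hxy.orderOf_mul_eq_mul_orderOf_of_coprime (by rw [hk, hl]; exact hcop)
  have hns : ¬ ∃ u : G, u * u = x * y := by
    rintro ⟨u, hu⟩
    -- `u` commutes with `x`
    obtain ⟨m, hm1, hm2⟩ := Nat.chineseRemainder hcop 1 0
    have hxpow : (x * y) ^ m = x := by
      rw [hxy.mul_pow, ← pow_mod_orderOf x m, ← pow_mod_orderOf y m, hk, hl, hm1, hm2, Nat.zero_mod,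
        pow_zero, mul_one, ← hk, pow_mod_orderOf, pow_one]
    have hux : u * x = x * u := by
      rw [← hxpow, ← hu]
      exact ((Commute.refl u).mul_right (Commute.refl u)).pow_right m
    have hpos : 0 < orderOf u := orderOf_pos u
    have h1 := orderOf_pow' u (n := 2) (by norm_num)
    rw [pow_two, hu, hord] at h1
    have hev : 2 ∣ p ^ k * 2 ^ l := Dvd.dvd.mul_left (dvd_pow_self 2 (by omega)) _
    have hu2 : orderOf u = p ^ k * 2 ^ (l + 1) := by
      rcases Nat.even_or_odd (orderOf u) with he | ho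
      · rw [Nat.gcd_eq_right he.two_dvd] at h1
        rw [pow_succ, ← mul_assoc, h1, Nat.div_mul_cancel he.two_dvd]
      · rw [(Nat.coprime_two_right.2 ho).gcd_eq_one, Nat.div_one] at h1
        rw [← h1] at ho
        exact absurd (even_iff_two_dvd.2 hev) (Nat.not_even_iff_odd.2 ho)
    have hw : orderOf (u ^ (p ^ k)) = 2 ^ (l + 1) := by
      rw [orderOf_pow' u (pow_ne_zero _ hp'.ne_zero), hu2, Nat.gcd_eq_right (dvd_mul_right _ _),
        Nat.mul_div_cancel_left _ (pow_pos hp'.pos k)]
    have h3 := hmax (u ^ (p ^ k)) (pow_mem (Subgroup.mem_centralizer_singleton_iff.2 hux) _) ⟨_, hw⟩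
    rw [hw, hl, pow_succ] at h3
    have := Nat.two_pow_pos l
    omega
  refine ⟨hns, ?_⟩
  have := Fintype.ofFinite G
  have hsum : ∑ χ : Cfsg.IrrCharacter G,
      Cfsg.Agent.Block.FS.ind (χ : G → ℂ) * (starRingEnd ℂ) ((χ : G → ℂ) (x * y)) = 0 := by
    simp only [Cfsg.Agent.Block.FS.ind, Finset.mul_sum, Finset.sum_mul]
    rw [Finset.sum_comm]
    refine Finset.sum_eq_zero fun g _ => ?_
    rw [Finset.sum_congr rfl (fun χ _ => mul_assoc _ _ _), ← Finset.mul_sum,
      Cfsg.Agent.Char.sum_irr_mul_conj, if_neg, mul_zero]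
    intro hconj
    obtain ⟨c, hc⟩ := isConj_iff.1 hconj
    exact hns ⟨c * g * c⁻¹, by rw [← hc]; group⟩
  let one' : Cfsg.IrrCharacter G := ⟨fun _ => 1, Cfsg.Agent.Char.isIrr_one⟩
  by_contra hcon
  push Not at hcon
  rw [Finset.sum_eq_single one'] at hsum
  · simp [one', Cfsg.Agent.Block.FS.ind_one] at hsum
  · intro χ _ hχ
    rcases Cfsg.Agent.Block.FS.ind_eq χ with ⟨h0, -⟩ | ⟨-, hreal⟩
    · rw [h0, zero_mul]
    · have := hcon χ (fun e => hχ (Subtype.ext e)) (fun g => by
        rw [← Complex.conj_eq_iff_im]; exact hreal g)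
      rw [this, map_zero, mul_zero]
  · intro h; exact absurd (Finset.mem_univ _) h

end Cfsg.Agent.S4859
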