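import Cfsg.Statements.S4862
import Cfsg.Agent.Lib.Block.RealPPrime.Basic

set_option autoImplicit false
open Cfsg

namespace Cfsg.Agent.S4862

open Cfsg.Agent.Char Cfsg.Agent.Block.RealP

/-- Let p be an odd prime and G a finite group such that the subgroup generated by the p-elements of G is solvable and every real-valued irreducible complex character of G has degree prime to p. Let K be the subgroup generated by the 2-elements of G and P a Sylow p-subgroup of G. Then every normal subgroup M of G contained in K and in the derived subgroup of P is centralized by K. -/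
theorem result {G : Type*} [Group G] [Finite G] (p : ℕ) [Fact p.Prime] (hp : p ≠ 2) (hsolv : Group.IsSolvable ↥(Subgroup.closure {g : G | ∃ k : ℕ, orderOf g = p ^ k})) (hreal : ∀ χ : Cfsg.IrrCharacter G, (∀ g : G, ((χ : G → ℂ) g).im = 0) → ¬ p ∣ Cfsg.charDegree (χ : G → ℂ)) (P : Sylow p G) (M : Subgroup G) (hM : M.Normal) (hMK : M ≤ (Subgroup.closure {g : G | ∃ k : ℕ, orderOf g = 2 ^ k})) (hMP : M ≤ ⁅(P : Subgroup G), (P : Subgroup G)⁆) : (Subgroup.closure {g : G | ∃ k : ℕ, orderOf g = 2 ^ k}) ≤ Subgroup.centralizer (M : Set G) := by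
  classical
  rw [Subgroup.closure_le]
  rintro g ⟨k, hg⟩
  rw [SetLike.mem_coe, Subgroup.mem_centralizer_iff]
  intro a ha
  by_contra hne
  have hodd : Odd (Nat.card M) := by
    obtain ⟨n, hn⟩ := IsPGroup.iff_card.1 (P.isPGroup'.to_le (hMP.trans (Subgroup.commutator_le_self _)))
    rw [hn]
    exact ((Fact.out : p.Prime).odd_of_ne_two hp).pow
  set α : MulAut M := MulAut.conjNormal g with hα
  have hαk : α ^ 2 ^ k = 1 := by rw [hα, ← map_pow, ← hg, pow_orderOf_eq_one, map_one]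
  have hα1 : α ≠ 1 := by
    intro e
    apply hne
    have h1 := congrArg (fun β : MulAut M => ((β ⟨a, ha⟩ : M) : G)) e
    simp only [hα, MulAut.conjNormal_apply, MulAut.one_apply] at h1
    calc a * g = (g * a * g⁻¹) * g := by rw [h1]
      _ = g * a := by group
  obtain ⟨j, m, hm1, hm⟩ := exists_inverted hodd α hαk hα1
  have hmG : (m : G) ≠ 1 := fun e => hm1 (Subtype.ext e)
  have hmreal : IsConj (m : G) (m : G)⁻¹ := by
    refine isConj_iff.2 ⟨g ^ j, ?_⟩
    have h1 := congrArg Subtype.val hm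
    have h2 := MulAut.conjNormal_apply (H := M) (g ^ j) m
    rw [map_pow, ← hα] at h2
    rw [← h2]
    simpa using h1
  -- characters
  let RG := {χ : Cfsg.IrrCharacter G // ∀ x : G, ((χ : G → ℂ) x).im = 0}
  let RQ := {χ : Cfsg.IrrCharacter (G ⧸ M) // ∀ x : G ⧸ M, ((χ : (G ⧸ M) → ℂ) x).im = 0}
  have hchar : Nat.card RG ≤ Nat.card RQ := by
    have hf : ∀ χ : RG, ∃ ψ : RQ, ∀ x : G, (ψ.1 : (G ⧸ M) → ℂ) x = (χ.1 : G → ℂ) x := by
      intro χ
      obtain ⟨ψ, hψ, he⟩ := IsIrr.exists_factor_quotient χ.1.2 M fun x hx =>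
        ker_of_le_commutator p _ P.isPGroup' M hMP χ.1 (hreal χ.1 χ.2) hx
      refine ⟨⟨⟨ψ, hψ⟩, fun c => ?_⟩, he⟩
      obtain ⟨x, rfl⟩ := QuotientGroup.mk_surjective c
      show (ψ (x : G ⧸ M)).im = 0
      rw [he x]
      exact χ.2 x
    choose f hf using hf
    refine Nat.card_le_card_of_injective f fun χ χ' e => Subtype.ext (Subtype.ext (funext fun x => ?_))
    rw [← hf χ x, ← hf χ' x, e]
  -- classes
  let CG := {C : ConjClasses G // ∀ x : G, ConjClasses.mk x = C → IsConj x x⁻¹}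
  let CQ := {C : ConjClasses (G ⧸ M) // ∀ x : G ⧸ M, ConjClasses.mk x = C → IsConj x x⁻¹}
  have hreal' : ∀ {H : Type _} [Group H] {x : H}, IsConj x x⁻¹ → ∀ y : H,
      ConjClasses.mk y = ConjClasses.mk x → IsConj y y⁻¹ := by
    intro H _ x hx y hy
    obtain ⟨c, rfl⟩ := isConj_iff.1 (ConjClasses.mk_eq_mk_iff_isConj.1 hy).symm
    exact (isConj_iff.2 ⟨c, rfl⟩ : IsConj x (c * x * c⁻¹)).symm.trans
      (hx.trans (isConj_iff.2 ⟨c, by group⟩))
  have hmap : ∀ C : CG, ∀ y : G ⧸ M,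
      ConjClasses.mk y = ConjClasses.map (QuotientGroup.mk' M) C.1 → IsConj y y⁻¹ := by
    rintro ⟨C, hC⟩
    obtain ⟨x, rfl⟩ := C.exists_rep
    refine hreal' (x := ((x : G) : G ⧸ M)) ?_
    have h := (QuotientGroup.mk' M).map_isConj (hC x rfl)
    rw [map_inv] at h
    exact h
  let π : CG → CQ := fun C => ⟨_, hmap C⟩
  have hsurj : Function.Surjective π := by
    rintro ⟨C, hC⟩
    obtain ⟨c, rfl⟩ := C.exists_rep
    obtain ⟨x, rfl⟩ := QuotientGroup.mk_surjective c
    obtain ⟨y, hy, hyr⟩ := exists_real_lift M hodd x (hC _ rfl)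
    exact ⟨⟨ConjClasses.mk y, hreal' hyr⟩, Subtype.ext (congrArg ConjClasses.mk hy)⟩
  have hninj : ¬ Function.Injective π := by
    intro hinj
    have h1 := hinj (a₁ := ⟨ConjClasses.mk (m : G), hreal' hmreal⟩)
      (a₂ := ⟨ConjClasses.mk (1 : G), hreal' (by rw [inv_one])⟩) (Subtype.ext (congrArg ConjClasses.mk
        (show ((m : G) : G ⧸ M) = ((1 : G) : G ⧸ M) by
          rw [QuotientGroup.mk_one]; exact (QuotientGroup.eq_one_iff _).2 m.2)))
    have h2 : IsConj (m : G) 1 := ConjClasses.mk_eq_mk_iff_isConj.1 (congrArg Subtype.val h1)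
    exact hmG (isConj_one_left.1 h2)
  have hlt : Nat.card CQ < Nat.card CG :=
    lt_of_le_of_ne (Nat.card_le_card_of_surjective π hsurj) fun e => hninj
      ((Nat.bijective_iff_surjective_and_card π).2 ⟨hsurj, e.symm⟩).1
  have e1 : Nat.card RG = Nat.card CG := Cfsg.Agent.S0160.result (G := G)
  have e2 : Nat.card RQ = Nat.card CQ := Cfsg.Agent.S0160.result (G := G ⧸ M)
  omega

end Cfsg.Agent.S4862
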