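import Cfsg.Statements.S4866
import Mathlib
import Cfsg.Agent.Lib.Char.Perm
import Cfsg.Agent.Lib.Char.Quotient
-- import your own Cfsg.Agent.* helpers here

set_option autoImplicit false
open Cfsg

namespace Cfsg.Agent.S4866

/-- Let K be a normal subgroup of odd index in the finite group G. Then G has as many orbits on the real-valued irreducible complex characters of K (acting by conjugation) as it has orbits on the conjugacy classes of K that are real in K; equivalently, the number of G-orbits of real-valued irreducible characters of K equals the number of G-conjugacy classes of elements of K that are conjugate in K to their inverses. -/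
theorem result {G : Type*} [Group G] [Finite G] (K : Subgroup G) [K.Normal] (hodd : Odd K.index) : Nat.card (Quot (fun θ η : {θ : Cfsg.IrrCharacter ↥K // (∀ k : ↥K, ((θ : ↥K → ℂ) k).im = 0)} => ∃ g : G, ∀ k k' : ↥K, (k' : G) = g * (k : G) * g⁻¹ → (η.1 : ↥K → ℂ) k' = (θ.1 : ↥K → ℂ) k)) = Nat.card (Quot (fun x y : {x : ↥K // IsConj x x⁻¹} => ∃ g : G, (y.1 : G) = g * x.1 * g⁻¹)) := by
  classical
  letI actK : MulAction G K :=
    { smul := fun g k => MulAut.conjNormal g k
      one_smul := fun k => by show MulAut.conjNormal (1 : G) k = k; simp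
      mul_smul := fun g h k => by
        show MulAut.conjNormal (g * h) k = MulAut.conjNormal g (MulAut.conjNormal h k)
        simp [map_mul] }
  have hsmul : ∀ (g : G) (k : K), ((g • k : K) : G) = g * k * g⁻¹ := fun g k =>
    MulAut.conjNormal_apply g k
  -- real characters
  let RC := {θ : Cfsg.IrrCharacter ↥K // (∀ k : ↥K, ((θ : ↥K → ℂ) k).im = 0)}
  letI actI : MulAction G (Cfsg.IrrCharacter K) :=
    { smul := fun g θ => ⟨fun k => θ.1 (g⁻¹ • k),
        Cfsg.Agent.Char.IsIrr.comp_mulEquiv (MulAut.conjNormal g⁻¹) θ.2⟩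
      one_smul := fun θ => Subtype.ext (funext fun k => by
        show θ.1 ((1 : G)⁻¹ • k) = θ.1 k; simp)
      mul_smul := fun g h θ => Subtype.ext (funext fun k => by
        show θ.1 ((g * h)⁻¹ • k) = θ.1 (h⁻¹ • g⁻¹ • k); rw [mul_inv_rev, mul_smul]) }
  letI actRC : MulAction G RC :=
    { smul := fun g θ => ⟨g • θ.1, fun k => θ.2 (g⁻¹ • k)⟩
      one_smul := fun θ => Subtype.ext (one_smul G θ.1)
      mul_smul := fun g h θ => Subtype.ext (mul_smul g h θ.1) }
  -- classes
  let inv' : ConjClasses K → ConjClasses K := Quotient.map (fun x : K => x⁻¹) (fun a b hab => by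
    obtain ⟨c, hc⟩ := isConj_iff.1 hab
    exact isConj_iff.2 ⟨c, by rw [← hc]; group⟩)
  letI actC : MulAction G (ConjClasses K) :=
    { smul := fun g => ConjClasses.map (MulAut.conjNormal g : K ≃* K).toMonoidHom
      one_smul := fun C => by
        induction C using Quotient.inductionOn with
        | _ k => exact congrArg ConjClasses.mk (show (1 : G) • k = k from one_smul G k)
      mul_smul := fun g h C => by
        induction C using Quotient.inductionOn with
        | _ k => exact congrArg ConjClasses.mk (mul_smul g h k) }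
  have hmk : ∀ (g : G) (k : K), g • ConjClasses.mk k = ConjClasses.mk (g • k) := fun g k => rfl
  have hinv' : ∀ k : K, inv' (ConjClasses.mk k) = ConjClasses.mk k⁻¹ := fun k => rfl
  have hinvsmul : ∀ (g : G) (C : ConjClasses K), inv' (g • C) = g • inv' C := by
    intro g C
    induction C using Quotient.inductionOn with
    | _ k => exact congrArg ConjClasses.mk (map_inv (MulAut.conjNormal g : K ≃* K) k).symm
  have hinvinv : ∀ C, inv' (inv' C) = C := by
    intro C
    induction C using Quotient.inductionOn with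
    | _ k => exact congrArg ConjClasses.mk (inv_inv k)
  let RK := {C : ConjClasses K // inv' C = C}
  letI actRK : MulAction G RK :=
    { smul := fun g C => ⟨g • C.1, by rw [hinvsmul, C.2]⟩
      one_smul := fun C => Subtype.ext (one_smul G C.1)
      mul_smul := fun g h C => Subtype.ext (mul_smul g h C.1) }
  -- the two quotients are orbit spaces
  have e1 : Nat.card (Quot (fun θ η : RC => ∃ g : G, ∀ k k' : ↥K, (k' : G) = g * (k : G) * g⁻¹ →
      (η.1 : ↥K → ℂ) k' = (θ.1 : ↥K → ℂ) k)) = Nat.card (MulAction.orbitRel.Quotient G RC) := by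
    refine Nat.card_congr (Quot.congrRight fun θ η => ?_)
    show (∃ g : G, _) ↔ θ ∈ MulAction.orbit G η
    constructor
    · rintro ⟨g, hg⟩
      refine ⟨g⁻¹, Subtype.ext (Subtype.ext (funext fun k => ?_))⟩
      show η.1.1 ((g⁻¹)⁻¹ • k) = θ.1.1 k
      rw [inv_inv]
      exact hg k (g • k) (hsmul g k)
    · rintro ⟨g, rfl⟩
      refine ⟨g⁻¹, fun k k' hkk => ?_⟩
      show η.1.1 k' = η.1.1 (g⁻¹ • k)
      exact congrArg η.1.1 (Subtype.ext (hkk.trans (hsmul _ _).symm))
  have e2 : Nat.card (Quot (fun x y : {x : ↥K // IsConj x x⁻¹} => ∃ g : G, (y.1 : G) = g * x.1 * g⁻¹)) =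
      Nat.card (MulAction.orbitRel.Quotient G RK) := by
    let π : {x : ↥K // IsConj x x⁻¹} → RK := fun x => ⟨ConjClasses.mk x.1, by
      rw [hinv', ConjClasses.mk_eq_mk_iff_isConj]; exact x.2.symm⟩
    let f : Quot (fun x y : {x : ↥K // IsConj x x⁻¹} => ∃ g : G, (y.1 : G) = g * x.1 * g⁻¹) →
        MulAction.orbitRel.Quotient G RK :=
      Quot.lift (fun x => Quotient.mk'' (π x)) (by
        rintro x y ⟨g, hg⟩
        refine Quotient.sound' ⟨g⁻¹, Subtype.ext ?_⟩
        show g⁻¹ • ConjClasses.mk y.1 = ConjClasses.mk x.1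
        rw [hmk]
        congr 1
        apply Subtype.ext
        rw [hsmul, hg]
        group)
    refine Nat.card_eq_of_bijective f ⟨?_, ?_⟩
    · rintro ⟨x⟩ ⟨y⟩ hxy
      obtain ⟨g, hg⟩ := Quotient.exact' hxy
      have hg' : g • ConjClasses.mk y.1 = ConjClasses.mk x.1 := congrArg Subtype.val hg
      rw [hmk, ConjClasses.mk_eq_mk_iff_isConj, isConj_iff] at hg'
      obtain ⟨c, hc⟩ := hg'
      refine Quot.sound ⟨g⁻¹ * (c : G)⁻¹, ?_⟩
      have hc' : (c : G) * (g * y.1 * g⁻¹) * (c : G)⁻¹ = x.1 := by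
        rw [← hsmul]; exact congrArg Subtype.val hc
      rw [← hc']
      group
    · intro q
      induction q using Quotient.inductionOn' with
      | _ C =>
        obtain ⟨k, hk⟩ := C.1.exists_rep
        have hreal : IsConj k k⁻¹ := by
          have h := C.2
          rw [← hk, hinv', ConjClasses.mk_eq_mk_iff_isConj] at h
          exact h.symm
        exact ⟨Quot.mk _ ⟨k, hreal⟩, congrArg Quotient.mk'' (Subtype.ext hk)⟩
  rw [e1, e2]
  -- fixed points of every element
  obtain ⟨r, hr⟩ := hodd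
  have hpowK : ∀ g : G, g ^ K.index ∈ K := fun g => K.pow_index_mem g
  have hKI : ∀ g : G, g ∈ K → ∀ θ : Cfsg.IrrCharacter K, g • θ = θ := by
    intro g hg θ
    refine Subtype.ext (funext fun k => ?_)
    show θ.1 (g⁻¹ • k) = θ.1 k
    have h : g⁻¹ • k = (⟨g, hg⟩ : K)⁻¹ * k * (⟨g, hg⟩ : K) := Subtype.ext (by rw [hsmul]; simp)
    rw [h]
    have := Cfsg.Agent.Char.IsIrr.classFun θ.2 k (⟨g, hg⟩ : K)⁻¹
    simpa using this
  have hKC : ∀ g : G, g ∈ K → ∀ C : ConjClasses K, g • C = C := by
    intro g hg C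
    induction C using Quotient.inductionOn with
    | _ k =>
      refine (hmk g k).trans (ConjClasses.mk_eq_mk_iff_isConj.2 (isConj_iff.2 ⟨⟨g, hg⟩⁻¹, ?_⟩))
      exact Subtype.ext (by simp [hsmul, mul_assoc])
  have hstep : ∀ {X : Type _} [MulAction G X] (σ : X → X), (∀ (g : G) (x : X), σ (g • x) = g • σ x) →
      (∀ x, σ (σ x) = x) → (∀ g : G, g ∈ K → ∀ x : X, g • x = x) →
      ∀ (g : G) (x : X), σ (g • x) = x → g • x = x ∧ σ x = x := by
    intro X _ σ hσ hσ2 hKX g x hx
    have h1 : g • x = σ x := by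
      have h := congrArg σ hx
      rwa [hσ2] at h
    have h2 : (g * g) • x = x := by rw [mul_smul, h1, ← hσ, hx]
    have h3 : ∀ n : ℕ, (g * g) ^ n • x = x := fun n => by
      induction n with
      | zero => simp
      | succ n ih => rw [pow_succ, mul_smul, h2, ih]
    have h4 : g • x = x := by
      have h5 : (g * g) ^ (r + 1) = g ^ K.index * g := by
        rw [← pow_two, ← pow_mul, hr, ← pow_succ]; ring_nf
      have h6 := h3 (r + 1)
      rw [h5, mul_smul, hKX _ (hpowK g)] at h6
      exact h6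
    exact ⟨h4, h1 ▸ h4⟩
  let σI : Cfsg.IrrCharacter K → Cfsg.IrrCharacter K := fun θ =>
    ⟨fun k => (starRingEnd ℂ) (θ.1 k), Cfsg.Agent.Char.IsIrr.conj θ.2⟩
  have hreal : ∀ θ : Cfsg.IrrCharacter K, σI θ = θ ↔ ∀ k : ↥K, ((θ : ↥K → ℂ) k).im = 0 := by
    intro θ
    constructor
    · intro h k
      exact Complex.conj_eq_iff_im.1 (congrFun (congrArg Subtype.val h) k)
    · intro h
      exact Subtype.ext (funext fun k => Complex.conj_eq_iff_im.2 (h k))
  have hfix : ∀ g : G, Nat.card (MulAction.fixedBy RC g) = Nat.card (MulAction.fixedBy RK g) := by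
    intro g
    have c1 : Nat.card (MulAction.fixedBy RC g) =
        Nat.card {θ : Cfsg.IrrCharacter K // σI (g • θ) = θ} := by
      refine Nat.card_congr
        { toFun := fun θ => ⟨θ.1.1, ?_⟩
          invFun := fun θ => ⟨⟨θ.1, ?_⟩, ?_⟩
          left_inv := fun θ => rfl
          right_inv := fun θ => rfl }
      · rw [show g • θ.1.1 = θ.1.1 from congrArg Subtype.val θ.2]
        exact (hreal _).2 θ.1.2
      · exact (hreal _).1 (hstep σI (fun g θ => rfl)
          (fun θ => Subtype.ext (funext fun k => Complex.conj_conj _)) hKI g θ.1 θ.2).2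
      · exact Subtype.ext (hstep σI (fun g θ => rfl)
          (fun θ => Subtype.ext (funext fun k => Complex.conj_conj _)) hKI g θ.1 θ.2).1
    have c2 : Nat.card (MulAction.fixedBy RK g) =
        Nat.card {C : ConjClasses K // inv' (g⁻¹ • C) = C} := by
      refine Nat.card_congr
        { toFun := fun C => ⟨C.1.1, ?_⟩
          invFun := fun C => ⟨⟨C.1, ?_⟩, ?_⟩
          left_inv := fun C => rfl
          right_inv := fun C => rfl }
      · rw [show g⁻¹ • C.1.1 = C.1.1 from inv_smul_eq_iff.2 (congrArg Subtype.val C.2).symm]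
        exact C.1.2
      · exact (hstep inv' hinvsmul hinvinv hKC g⁻¹ C.1 C.2).2
      · exact Subtype.ext (inv_smul_eq_iff.1 (hstep inv' hinvsmul hinvinv hKC g⁻¹ C.1 C.2).1).symm
    rw [c1, c2]
    refine Cfsg.Agent.Char.brauer_perm (fun θ => σI (g • θ)) (fun C => inv' (g⁻¹ • C))
      fun χ a a' ha => ?_
    rw [hmk, hinv', ConjClasses.mk_eq_mk_iff_isConj] at ha
    obtain ⟨c, hc⟩ := isConj_iff.1 ha
    show (starRingEnd ℂ) (χ.1 (g⁻¹ • a)) = χ.1 a'
    rw [← Cfsg.Agent.Char.IsIrr.apply_inv χ.2, ← hc]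
    exact Cfsg.Agent.Char.IsIrr.classFun χ.2 a' c
  -- orbit counting
  have := Fintype.ofFinite G
  have := Fintype.ofFinite RC
  have := Fintype.ofFinite RK
  have := Fintype.ofFinite (MulAction.orbitRel.Quotient G RC)
  have := Fintype.ofFinite (MulAction.orbitRel.Quotient G RK)
  have b1 := MulAction.sum_card_fixedBy_eq_card_orbits_mul_card_group G RC
  have b2 := MulAction.sum_card_fixedBy_eq_card_orbits_mul_card_group G RK
  simp only [← Nat.card_eq_fintype_card, hfix] at b1 b2
  exact Nat.eq_of_mul_eq_mul_right Nat.card_pos (b1.symm.trans b2)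

end Cfsg.Agent.S4866
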