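import Cfsg.Statements.S4870
import Mathlib
import Cfsg.Agent.Lib.Char.CliffordCorr
import Cfsg.Agent.Lib.Char.Average
import Cfsg.Agent.Lib.Char.Complete
import Cfsg.Agent.Lib.Char.Induce
-- import your own Cfsg.Agent.* helpers here

set_option autoImplicit false
open Cfsg

namespace Cfsg.Agent.S4870

/-- Let G be a finite group with a non-abelian minimal normal subgroup N, and let φ be an irreducible complex character of N with stabilizer I in G (the elements g with φ(g n g⁻¹) = φ(n) for all n ∈ N) such that φ extends to an irreducible character of I. Put d = φ(1)·[G : I]. Then the number of linear characters of G is at most [G : I] times the number of irreducible characters of G of degree d. -/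
theorem result {G : Type*} [Group G] [Finite G] (N : Subgroup G) (hN : N.Normal) (hN1 : N ≠ ⊥) (hmin : ∀ M : Subgroup G, M.Normal → M ≤ N → M = ⊥ ∨ M = N) (hna : ¬ IsMulCommutative ↥N) (φ : Cfsg.IrrCharacter ↥N) (I : Subgroup G) (hI : ∀ g : G, g ∈ I ↔ ∀ n n' : ↥N, (n' : G) = g * (n : G) * g⁻¹ → (φ : ↥N → ℂ) n' = (φ : ↥N → ℂ) n) (hNI : N ≤ I) (hext : ∃ ψ : Cfsg.IrrCharacter ↥I, ∀ n : ↥N, (ψ : ↥I → ℂ) (Subgroup.inclusion hNI n) = (φ : ↥N → ℂ) n) : Nat.card {χ : Cfsg.IrrCharacter G // Cfsg.charDegree (χ : G → ℂ) = 1} ≤ I.index * Nat.card {χ : Cfsg.IrrCharacter G // Cfsg.charDegree (χ : G → ℂ) = Cfsg.charDegree (φ : ↥N → ℂ) * I.index} := by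
  classical
  haveI := hN
  haveI := Fintype.ofFinite G
  haveI := Fintype.ofFinite ↥N
  haveI := Fintype.ofFinite ↥I
  haveI := Fintype.ofFinite ↥(N.subgroupOf I)
  haveI : (N.subgroupOf I).Normal := Subgroup.Normal.subgroupOf inferInstance _
  obtain ⟨ψ, hψ⟩ := hext
  have hT : I = Cfsg.Agent.Char.inertia N (φ : ↥N → ℂ) := by
    ext g
    rw [hI, Cfsg.Agent.Char.mem_inertia, funext_iff]
    constructor
    · exact fun h n => h n _ rfl
    · intro h n n' e
      rw [← h n, Cfsg.Agent.Char.conjN_apply]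
      exact congrArg (φ : ↥N → ℂ) (Subtype.ext e)
  have hNG : ∀ n ∈ N, n ∈ commutator G := by
    rcases hmin ⁅N, N⁆ (Subgroup.commutator_normal N N) (Subgroup.commutator_le_right N N) with h | h
    · refine absurd ⟨⟨fun a b => ?_⟩⟩ hna
      have := Subgroup.commutator_mem_commutator a.2 b.2
      rw [h, Subgroup.mem_bot, commutatorElement_eq_one_iff_mul_comm] at this
      exact Subtype.ext this
    · intro n hn
      rw [← h] at hn
      exact Subgroup.commutator_mono le_top le_top hn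
  have hlinN : ∀ l : G →* ℂˣ, ∀ n ∈ N, l n = 1 := fun l n hn =>
    MonoidHom.mem_ker.mp (Abelianization.commutator_subset_ker l (hNG n hn))
  have hmk : ∀ l : G →* ℂˣ, Cfsg.IsIrrCharacter ↥I (fun i : ↥I => (l i : ℂ) * (ψ : ↥I → ℂ) i) :=
    fun l => Cfsg.Agent.Char.IsIrr.mul_linear ψ.2 (l.comp I.subtype)
  have hres : ∀ l : G →* ℂˣ, (fun n : ↥N => (fun i : ↥I => (l i : ℂ) * (ψ : ↥I → ℂ) i) ⟨(n : G), hNI n.2⟩)
      = (φ : ↥N → ℂ) := by
    intro l
    funext n
    show (l (n : G) : ℂ) * (ψ : ↥I → ℂ) _ = _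
    rw [hlinN l n n.2, Units.val_one, one_mul]
    exact hψ n
  have hne : ∀ l : G →* ℂˣ, Cfsg.classInner (fun n : ↥N => (fun i : ↥I => (l i : ℂ) * (ψ : ↥I → ℂ) i) ⟨(n : G), hNI n.2⟩) (φ : ↥N → ℂ) ≠ 0 := by
    intro l
    rw [hres l, Cfsg.Agent.Char.classInner_self_irr φ.2]
    exact one_ne_zero
  -- the map
  have hirr := fun l => Cfsg.Agent.Char.Corr.indFun_irr N φ.2 hT hNI (hmk l) (hne l)
  have hψ1 : (ψ : ↥I → ℂ) 1 = (φ : ↥N → ℂ) 1 := by
    rw [← hψ 1, map_one]
  have hdeg : ∀ l : G →* ℂˣ, Cfsg.charDegree (Cfsg.indFun I (fun i : ↥I => (l i : ℂ) * (ψ : ↥I → ℂ) i))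
      = Cfsg.charDegree (φ : ↥N → ℂ) * I.index := by
    intro l
    obtain ⟨a, -, ha⟩ := Cfsg.Agent.Char.IsIrr.one_eq_pos φ.2
    simp only [Cfsg.charDegree, Cfsg.Agent.Char.indFun_one_eq]
    rw [OneMemClass.coe_one, map_one, Units.val_one, one_mul, hψ1, ha, ← Nat.cast_mul, Complex.natCast_re, Complex.natCast_re, Nat.floor_natCast, Nat.floor_natCast, mul_comm]
  -- equal images agree on `I`
  have hinj : ∀ l l' : G →* ℂˣ, Cfsg.indFun I (fun i : ↥I => (l i : ℂ) * (ψ : ↥I → ℂ) i) =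
      Cfsg.indFun I (fun i : ↥I => (l' i : ℂ) * (ψ : ↥I → ℂ) i) → ∀ i : ↥I, (l i : ℂ) = (l' i : ℂ) := by
    intro l l' h
    have he := (hirr l').2 _ (hmk l) (hne l) h
    set N' := N.subgroupOf I
    have hθ : Cfsg.IsIrrCharacter ↥N' (fun n : ↥N' => (ψ : ↥I → ℂ) n) := by
      have h2 := Cfsg.Agent.Char.IsIrr.comp_mulEquiv (Subgroup.subgroupOfEquivOfLe hNI) φ.2
      refine (funext fun n => ?_ : (fun n : ↥N' => (ψ : ↥I → ℂ) n) = _) ▸ h2
      rw [← hψ]
      rfl
    let A : ↥I → ℂ := Cfsg.Agent.Char.avgN N' ((ψ : ↥I → ℂ) * fun g => (starRingEnd ℂ) ((ψ : ↥I → ℂ) g))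
    have hA := Cfsg.Agent.Char.gallagher N' ψ.2 ψ.2 hθ (by
      rw [Cfsg.Agent.Char.classInner_self_irr hθ]; exact one_ne_zero)
    have hA1 : A 1 = 1 := by
      show Cfsg.Agent.Char.avgN N' _ 1 = 1
      rw [Cfsg.Agent.Char.avgN_one_eq]
      have := Cfsg.Agent.Char.classInner_self_irr hθ
      simp only [Cfsg.classInner] at this ⊢
      simpa using this
    obtain ⟨m, hm⟩ := Cfsg.Agent.Char.linearHom_of_isCharacter
      (Cfsg.Agent.Char.IsIrr.isCharacter hA.1) hA1
    intro i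
    by_contra hne'
    have hz : ∀ n : ↥N', (ψ : ↥I → ℂ) ((n : ↥I) * i) = 0 := by
      intro n
      have h3 := congrFun he ((n : ↥I) * i)
      simp only [Subgroup.coe_mul, map_mul] at h3
      have h4 : ∀ f : G →* ℂˣ, f ((n : ↥I) : G) = 1 := fun f => hlinN f _ n.2
      rw [h4 l, h4 l', one_mul, one_mul] at h3
      by_contra h5
      exact hne' (mul_right_cancel₀ h5 h3)
    have hAi : A i = 0 := by
      show Cfsg.Agent.Char.avgN N' _ i = 0
      simp [Cfsg.Agent.Char.avgN, hz]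
    exact Units.ne_zero (m i) ((congrFun hm i).symm.trans hAi)
  -- homs trivial on `I`
  have hker : Nat.card {l : G →* ℂˣ // ∀ i : ↥I, l i = 1} ≤ I.index := by
    haveI := Fintype.ofFinite (G ⧸ I)
    let v : {l : G →* ℂˣ // ∀ i : ↥I, l i = 1} → ((G ⧸ I) → ℂ) := fun l q =>
      Quotient.liftOn' q (fun g => (l.1 g : ℂ)) (fun a b hab => by
        rw [QuotientGroup.leftRel_apply] at hab
        have := l.2 ⟨_, hab⟩
        simp only [map_mul, map_inv, inv_mul_eq_one] at this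
        rw [this])
    let F : ((G ⧸ I) → ℂ) →ₗ[ℂ] (G → ℂ) := LinearMap.funLeft ℂ ℂ (QuotientGroup.mk)
    have hli : LinearIndependent ℂ v := by
      refine LinearIndependent.of_comp F ?_
      have h := (linearIndependent_monoidHom G ℂ).comp
        (fun l : {l : G →* ℂˣ // ∀ i : ↥I, l i = 1} => (Units.coeHom ℂ).comp l.1)
        (fun a b hab => Subtype.ext (MonoidHom.ext fun g => Units.ext (DFunLike.congr_fun hab g)))
      exact h
    haveI : Finite {l : G →* ℂˣ // ∀ i : ↥I, l i = 1} := hli.finite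
    haveI := Fintype.ofFinite {l : G →* ℂˣ // ∀ i : ↥I, l i = 1}
    have := hli.fintype_card_le_finrank
    rw [Module.finrank_pi, ← Nat.card_eq_fintype_card, ← Nat.card_eq_fintype_card] at this
    exact this
  -- counting
  have hL : ∀ χ : {χ : Cfsg.IrrCharacter G // Cfsg.charDegree (χ : G → ℂ) = 1},
      ∃ l : G →* ℂˣ, (χ.1 : G → ℂ) = fun g => (l g : ℂ) := by
    intro χ
    refine Cfsg.Agent.Char.linearHom_of_isCharacter (Cfsg.Agent.Char.IsIrr.isCharacter χ.1.2) ?_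
    obtain ⟨a, -, ha⟩ := Cfsg.Agent.Char.IsIrr.one_eq_pos χ.1.2
    have := χ.2
    simp only [Cfsg.charDegree, ha] at this
    simp at this
    rw [ha, this, Nat.cast_one]
  choose L hL' using hL
  let F : {χ : Cfsg.IrrCharacter G // Cfsg.charDegree (χ : G → ℂ) = 1} →
      {χ : Cfsg.IrrCharacter G // Cfsg.charDegree (χ : G → ℂ) = Cfsg.charDegree (φ : ↥N → ℂ) * I.index} :=
    fun χ => ⟨⟨_, (hirr (L χ)).1⟩, hdeg (L χ)⟩
  haveI := Fintype.ofFinite (Cfsg.IrrCharacter G)
  haveI : Finite {l : G →* ℂˣ // ∀ i : ↥I, l i = 1} := by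
    refine Finite.of_injective (fun l : {l : G →* ℂˣ // ∀ i : ↥I, l i = 1} =>
      (⟨_, Cfsg.Agent.Char.isIrr_linear l.1⟩ : Cfsg.IrrCharacter G)) (fun a b hab => ?_)
    exact Subtype.ext (MonoidHom.ext fun g => Units.ext (congrFun (congrArg Subtype.val hab) g))
  rw [Nat.card_eq_fintype_card, Nat.card_eq_fintype_card]
  refine (Finset.card_le_mul_card_image (f := F) Finset.univ I.index fun y _ => ?_).trans
    (Nat.mul_le_mul_left _ (Finset.card_le_univ _))
  rw [← Fintype.card_subtype, ← Nat.card_eq_fintype_card]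
  by_cases hy : ∃ x, F x = y
  · obtain ⟨x₀, hx₀⟩ := hy
    refine le_trans (Nat.card_le_card_of_injective
      (fun x : {x // F x = y} => (⟨(L x.1) * (L x₀)⁻¹, fun i => Units.ext (by
        have h := hinj _ _ (congrArg (fun z => (z.1 : G → ℂ)) (x.2.trans hx₀.symm)) i
        rw [MonoidHom.mul_apply, MonoidHom.inv_apply, Units.ext h, mul_inv_cancel])⟩ :
          {l : G →* ℂˣ // ∀ i : ↥I, l i = 1})) (fun a b hab => ?_)) hker
    have h : L a.1 = L b.1 := mul_right_cancel (congrArg Subtype.val hab)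
    exact Subtype.ext (Subtype.ext (Subtype.ext (by rw [hL', hL', h])))
  · haveI : IsEmpty {x // F x = y} := ⟨fun x => hy ⟨x.1, x.2⟩⟩
    rw [Nat.card_of_isEmpty]
    exact Nat.zero_le _

end Cfsg.Agent.S4870
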