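import Mathlib
import Cfsg.Statements.S4872
import Cfsg.Agent.Lib.Char.Average
import Cfsg.Agent.Lib.Block.TwoOrth.Core

set_option autoImplicit false
open Cfsg
open scoped ComplexConjugate

namespace Cfsg.Agent.S4872

open Cfsg.Agent.Char Cfsg.Agent.Block Cfsg.Agent.Block.TwoOrth

theorem main {G : Type*} [Group G] [Fintype G] (N : Subgroup G) [N.Normal] [Fintype N]
    (h2 : IsPGroup 2 (G ⧸ N)) {θ : N → ℂ} (hθ : IsIrrCharacter N θ) {d : ℕ} (hd : θ 1 = d)
    (hdef : 2 ^ (Nat.card N).factorization 2 ∣ d)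
    (hconj : ∃ g : G, conjN N g θ = fun n => conj (θ n)) :
    ∃ χ : IrrCharacter G, FS.ind (χ : G → ℂ) = 1 ∧
      classInner (fun n : N => (χ : G → ℂ) n) θ = 1 := by
  classical
  haveI : Fact (Nat.Prime 2) := ⟨Nat.prime_two⟩
  have hcc : ∀ g, conjN N g (fun n => conj (θ n)) = fun n => conj (conjN N g θ n) := fun g => rfl
  let S : Subgroup G :=
    { carrier := {g | conjN N g θ = θ ∨ conjN N g θ = fun n => conj (θ n)}
      one_mem' := Or.inl (conjN_one N θ)
      mul_mem' := by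
        intro a b ha hb
        show conjN N (a * b) θ = θ ∨ conjN N (a * b) θ = _
        rw [conjN_mul]
        rcases ha with ha | ha <;> rw [ha]
        · exact hb
        · rw [hcc]
          rcases hb with hb | hb <;> rw [hb]
          · exact Or.inr rfl
          · exact Or.inl (funext fun n => Complex.conj_conj _)
      inv_mem' := by
        intro a ha
        rcases ha with ha | ha
        · left
          conv_lhs => rw [← ha]
          exact conjN_inv_cancel N a θ
        · right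
          have h' : θ = fun n => conj (conjN N a⁻¹ θ n) := by
            rw [← hcc, ← ha, conjN_inv_cancel]
          funext n
          rw [show θ n = conj (conjN N a⁻¹ θ n) from congrFun h' n, Complex.conj_conj] }
  obtain ⟨g₀, hg₀⟩ := hconj
  have hg₀S : g₀ ∈ S := Or.inr hg₀
  have hNS : N ≤ S := fun m hm => Or.inl (conjN_mem N (IsIrr.classFun hθ) hm)
  haveI : Fintype S := Fintype.ofFinite S
  haveI : (N.subgroupOf S).Normal := Subgroup.Normal.subgroupOf inferInstance _
  haveI : Fintype (N.subgroupOf S) := Fintype.ofFinite _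
  set θ' : N.subgroupOf S → ℂ := fun x => θ ⟨((x : S) : G), x.2⟩ with hθ'def
  have hθ' : IsIrrCharacter (N.subgroupOf S) θ' :=
    IsIrr.comp_mulEquiv (Subgroup.subgroupOfEquivOfLe hNS) hθ
  have hcard : Nat.card (N.subgroupOf S) = Nat.card N :=
    Nat.card_congr (Subgroup.subgroupOfEquivOfLe hNS).toEquiv
  have h2S : IsPGroup 2 (S ⧸ N.subgroupOf S) := by
    obtain ⟨a, ha⟩ := IsPGroup.iff_card.mp h2
    have hd' : N.relIndex S ∣ 2 ^ a := ha ▸ Subgroup.relIndex_dvd_index_of_normal N S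
    obtain ⟨i, -, hi⟩ := (Nat.dvd_prime_pow Nat.prime_two).mp hd'
    exact IsPGroup.of_card (n := i) hi
  obtain ⟨ψ, hψ, hψr, hψθ, y, s, Q, hQy, hsy, hsQ, hs2, z, hz, m, hm, hmult⟩ :=
    core (N.subgroupOf S) h2S hθ' (d := d) (by
      show θ _ = _
      rw [← hd]; rfl) (hcard ▸ hdef)
      ⟨⟨g₀, hg₀S⟩, funext fun n => congrFun hg₀ ⟨((n : S) : G), n.2⟩⟩
      (fun g => by
        rcases g.2 with h | h
        · exact Or.inl (funext fun n => congrFun h ⟨((n : S) : G), n.2⟩)
        · exact Or.inr (funext fun n => congrFun h ⟨((n : S) : G), n.2⟩))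
  have hψN : classInner (fun n : N => ψ ⟨(n : G), hNS n.2⟩) θ = 1 := by
    rw [← Corr.classInner_subgroupOf N hNS]; exact hψθ
  obtain ⟨χ, hχ⟩ := IsChar.exists_constituent' (isCharacter_indFun S (IsIrr.isCharacter hψ)) (by
    rw [indFun_one_eq]
    exact mul_ne_zero (Nat.cast_ne_zero.mpr Subgroup.index_ne_zero_of_finite) (IsIrr.one_ne_zero hψ))
  have hχψ : classInner (fun x : S => (χ : G → ℂ) x) ψ ≠ 0 := by
    rw [← classInner_conj_symm, Ne, map_eq_zero, ← classInner_indFun S ψ (IsIrr.classFun χ.2)]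
    exact hχ
  obtain ⟨a, ha, hdec⟩ :=
    IsChar.exists_decomp_inner (IsChar.res (IsIrr.isCharacter χ.2) S)
  obtain ⟨e, he⟩ := IsChar.classInner_nat (IsChar.res (IsIrr.isCharacter χ.2) N)
    (IsIrr.isCharacter hθ)
  have hepos : e ≠ 0 := by
    have h1 : (fun n : N => (χ : G → ℂ) n) = ∑ φ : IrrCharacter S,
        (a φ : ℂ) • fun n : N => (φ : S → ℂ) ⟨(n : G), hNS n.2⟩ := by
      funext n
      have := congrFun hdec ⟨(n : G), hNS n.2⟩
      rw [sum_irr_apply] at this
      rw [this]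
      simp
    have hnat : ∀ φ : IrrCharacter S, ∃ c : ℕ,
        classInner (fun n : N => (φ : S → ℂ) ⟨(n : G), hNS n.2⟩) θ = c := fun φ =>
      IsChar.classInner_nat (IsChar.comp (Subgroup.inclusion hNS) (IsIrr.isCharacter φ.2))
        (IsIrr.isCharacter hθ)
    choose c hc using hnat
    have h2 : (e : ℂ) = ((∑ φ : IrrCharacter S, a φ * c φ : ℕ) : ℂ) := by
      rw [← he, h1, classInner_sum_left, Nat.cast_sum]
      exact Finset.sum_congr rfl fun φ _ => by rw [classInner_smul_left, hc, Nat.cast_mul]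
    intro he0
    rw [he0, Nat.cast_inj] at h2
    have h3 := (Finset.sum_eq_zero_iff.mp h2.symm) ⟨ψ, hψ⟩ (Finset.mem_univ _)
    have hc1 : c ⟨ψ, hψ⟩ = 1 := by
      have := (hc ⟨ψ, hψ⟩).symm.trans hψN
      exact_mod_cast this
    rw [hc1, mul_one] at h3
    exact hχψ (by rw [ha ⟨ψ, hψ⟩, h3, Nat.cast_zero])
  have heC : classInner (fun n : N => (χ : G → ℂ) n) θ ≠ 0 := by
    rw [he]; exact Nat.cast_ne_zero.mpr hepos
  -- degrees
  set I := inertia N θ with hI
  have hIS : I ≤ S := fun g hg => Or.inl hg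
  have hinS : inertia (N.subgroupOf S) θ' = I.subgroupOf S := by
    ext g
    rw [Subgroup.mem_subgroupOf, mem_inertia, mem_inertia]
    constructor
    · intro h
      funext n
      exact congrFun h ⟨⟨(n : G), hNS n.2⟩, n.2⟩
    · intro h
      funext n
      exact congrFun h ⟨((n : S) : G), n.2⟩
  have hψ1 : ψ 1 = ((I.relIndex S * d : ℕ) : ℂ) := by
    rw [clifford_one (N.subgroupOf S) hψ hθ' (by rw [hψθ]; exact one_ne_zero), hψθ, hinS, one_mul,
      show θ' 1 = (d : ℂ) from hd, Nat.cast_mul]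
    rfl
  have hχ1 : (χ : G → ℂ) 1 = ((e * I.index * d : ℕ) : ℂ) := by
    rw [clifford_one N χ.2 hθ heC, he, hd]
    push_cast
    ring
  have hind1 : indFun S ψ 1 = ((I.index * d : ℕ) : ℂ) := by
    rw [indFun_one_eq, hψ1, ← Nat.cast_mul, ← Subgroup.relIndex_mul_index hIS]
    congr 1
    ring
  have hd0 : 0 < d := by
    rcases Nat.eq_zero_or_pos d with h | h
    · exact absurd (by rw [hd, h, Nat.cast_zero]) (IsIrr.one_ne_zero hθ)
    · exact h
  have hle := degree_le_of_constituent (isCharacter_indFun S (IsIrr.isCharacter hψ)) χ.2 hχ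
    hind1 hχ1
  have he1 : e = 1 := by
    have hpos : 0 < I.index * d :=
      Nat.mul_pos (Nat.pos_of_ne_zero Subgroup.index_ne_zero_of_finite) hd0
    rw [mul_assoc] at hle
    by_contra hne
    have h2' : 2 * (I.index * d) ≤ e * (I.index * d) := Nat.mul_le_mul_right _ (by omega)
    omega
  have hEq : indFun S ψ = (χ : G → ℂ) :=
    eq_of_constituent_degree (isCharacter_indFun S (IsIrr.isCharacter hψ)) χ.2 hχ (by
      rw [hind1, hχ1, he1, one_mul])
  refine ⟨χ, ?_, by rw [he, he1, Nat.cast_one]⟩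
  have hreal : ∀ g, conj ((χ : G → ℂ) g) = (χ : G → ℂ) g := fun g => by
    rw [← hEq, ← indFun_conj, funext hψr]
  rcases FS.ind_eq χ with ⟨-, h⟩ | ⟨h | h, -⟩
  · exact absurd hreal h
  · exact h
  exfalso
  have hone : classInner (fun x : S => (χ : G → ℂ) x) ψ = 1 := by
    rw [← classInner_conj_symm, ← classInner_indFun S ψ (IsIrr.classFun χ.2), hEq,
      classInner_self_irr χ.2, map_one]
  obtain ⟨r, hr, hr'⟩ := mult_even χ h hψ hψr hone y s Q hQy hsy hsQ hs2 z hz
  rw [hmult, Nat.cast_inj] at hr'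
  exact Nat.not_even_iff_odd.mpr hm (hr' ▸ hr)

/-- Let N be a normal subgroup of the finite group G with G/N a 2-group, and let φ be an irreducible complex character of N of 2-defect zero (the 2-part of #N divides φ(1)) whose complex conjugate is G-conjugate to φ. Then some irreducible character of G with Frobenius–Schur indicator +1 contains φ with multiplicity exactly one on restriction to N. -/
theorem result {G : Type*} [Group G] [Finite G] (N : Subgroup G) [N.Normal] (h2 : IsPGroup 2 (G ⧸ N)) (φ : Cfsg.IrrCharacter ↥N) (hdef : 2 ^ (Nat.card ↥N).factorization 2 ∣ Cfsg.charDegree (φ : ↥N → ℂ)) (hconj : ∃ g : G, ∀ n n' : ↥N, (n' : G) = g * (n : G) * g⁻¹ → (φ : ↥N → ℂ) n' = (starRingEnd ℂ) ((φ : ↥N → ℂ) n)) : ∃ χ : Cfsg.IrrCharacter G, (Nat.card G : ℂ)⁻¹ * ∑ᶠ g : G, (χ : G → ℂ) (g * g) = 1 ∧ (Nat.card ↥N : ℂ)⁻¹ * ∑ᶠ n : ↥N, (χ : G → ℂ) n * (starRingEnd ℂ) ((φ : ↥N → ℂ) n) = 1 := by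
  classical
  haveI := Fintype.ofFinite G
  haveI := Fintype.ofFinite N
  obtain ⟨g, hg⟩ := hconj
  obtain ⟨χ, hν, hm⟩ := main N h2 φ.2 (Block.charDeg_spec' φ) hdef
    ⟨g, funext fun n => hg n _ rfl⟩
  refine ⟨χ, ?_, ?_⟩
  · rw [finsum_eq_sum_of_fintype]; exact hν
  · rw [finsum_eq_sum_of_fintype]; exact hm

end Cfsg.Agent.S4872
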