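import Cfsg.Statements.S4873
import Mathlib
import Cfsg.Agent.Lib.Block.RealOver
import Cfsg.Agent.Lib.Char.Induce
-- import your own Cfsg.Agent.* helpers here

set_option autoImplicit false
open Cfsg

namespace Cfsg.Agent.S4873

/-- Let N be a normal subgroup of odd index in the finite group G. Then every irreducible complex character of N with Frobenius–Schur indicator +1 lies under exactly one irreducible character of G with Frobenius–Schur indicator +1. -/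
theorem result {G : Type*} [Group G] [Finite G] (N : Subgroup G) [N.Normal] (hodd : Odd N.index) (φ : Cfsg.IrrCharacter ↥N) (hφ : (Nat.card ↥N : ℂ)⁻¹ * ∑ᶠ g : ↥N, (φ : ↥N → ℂ) (g * g) = 1) : ∃! χ : Cfsg.IrrCharacter G, (Nat.card G : ℂ)⁻¹ * ∑ᶠ g : G, (χ : G → ℂ) (g * g) = 1 ∧ (∑ᶠ n : ↥N, (χ : G → ℂ) n * (starRingEnd ℂ) ((φ : ↥N → ℂ) n)) ≠ 0 := by
  classical
  haveI := Fintype.ofFinite G
  haveI := Fintype.ofFinite ↥N
  rw [finsum_eq_sum_of_fintype] at hφ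
  have hnN : (Nat.card ↥N : ℂ) ≠ 0 := Nat.cast_ne_zero.mpr Nat.card_pos.ne'
  have hreal : ∀ n, (starRingEnd ℂ) ((φ : ↥N → ℂ) n) = (φ : ↥N → ℂ) n := by
    rcases Cfsg.Agent.Block.FS.ind_eq φ with ⟨h, -⟩ | ⟨-, h⟩
    · rw [Cfsg.Agent.Block.FS.ind, hφ] at h
      exact absurd h one_ne_zero
    · exact h
  obtain ⟨χ, hχ⟩ := Cfsg.Agent.Block.FS.existsUnique_real_over N hodd φ.2 hreal
  obtain ⟨hχr, hχm⟩ := (hχ χ).mpr rfl
  -- the indicator of the induced character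
  have hind : Cfsg.Agent.Block.FS.ind (Cfsg.indFun N (φ : ↥N → ℂ)) = 1 := by
    have hsq : ∀ g : G, g * g ∈ N ↔ g ∈ N := by
      intro g
      refine ⟨fun h => Cfsg.Agent.Block.FS.mem_of_conj_inv N hodd (y := 1) ?_, fun h => N.mul_mem h h⟩
      simpa using N.inv_mem h
    have hx : ∀ x : G, ∑ g : G, Cfsg.extendByZero N (φ : ↥N → ℂ) (x⁻¹ * (g * g) * x)
        = ∑ n : ↥N, (φ : ↥N → ℂ) (n * n) := by
      intro x
      have e : ∑ g : G, Cfsg.extendByZero N (φ : ↥N → ℂ) (x⁻¹ * (g * g) * x)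
          = ∑ g : G, Cfsg.extendByZero N (φ : ↥N → ℂ) (g * g) :=
        Fintype.sum_equiv (MulAut.conj x⁻¹).toEquiv _ _ fun g => by simp [mul_assoc]
      rw [e, ← Finset.sum_filter_add_sum_filter_not Finset.univ (fun g : G => g ∈ N),
        Finset.sum_eq_zero (s := Finset.univ.filter fun g : G => ¬ g ∈ N) (fun g hg =>
          Cfsg.Agent.Char.extendByZero_not_mem _ (mt (hsq g).mp (Finset.mem_filter.mp hg).2)),
        add_zero]
      refine Finset.sum_bij' (fun g hg => (⟨g, (Finset.mem_filter.mp hg).2⟩ : ↥N)) (fun n _ => (n : G))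
          (by simp) (by simp) (fun _ _ => rfl) (fun _ _ => rfl) ?_
      intro g hg
      rw [Cfsg.Agent.Char.extendByZero_of_mem _ (N.mul_mem (Finset.mem_filter.mp hg).2 (Finset.mem_filter.mp hg).2)]
      rfl
    simp only [Cfsg.Agent.Block.FS.ind, Cfsg.indFun, ← Finset.mul_sum]
    rw [Finset.sum_comm, Finset.sum_congr rfl fun x _ => hx x, Finset.sum_const, Finset.card_univ,
      nsmul_eq_mul, ← Nat.card_eq_fintype_card]
    have hnG : (Nat.card G : ℂ) ≠ 0 := Nat.cast_ne_zero.mpr Nat.card_pos.ne'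
    rw [← hφ]
    field_simp
  rw [Cfsg.Agent.Char.classFunction_expansion (Cfsg.Agent.Char.indFun_classFun N (φ : ↥N → ℂ))] at hind
  have hexp : (∑ ψ : Cfsg.IrrCharacter G, Cfsg.classInner (Cfsg.indFun N (φ : ↥N → ℂ)) (ψ : G → ℂ) • (ψ : G → ℂ))
      = fun g => ∑ ψ : Cfsg.IrrCharacter G, Cfsg.classInner (Cfsg.indFun N (φ : ↥N → ℂ)) (ψ : G → ℂ) * (ψ : G → ℂ) g :=
    funext fun g => Cfsg.Agent.Char.sum_irr_apply _ g
  rw [hexp, Cfsg.Agent.Block.FS.ind_sum] at hind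
  have hzero : ∀ ψ : Cfsg.IrrCharacter G, ψ ≠ χ →
      Cfsg.classInner (Cfsg.indFun N (φ : ↥N → ℂ)) (ψ : G → ℂ) * Cfsg.Agent.Block.FS.ind (ψ : G → ℂ) = 0 := by
    intro ψ hψ
    by_cases hm : Cfsg.classInner (fun n : ↥N => (ψ : G → ℂ) n) (φ : ↥N → ℂ) = 0
    · rw [Cfsg.Agent.Char.classInner_indFun N _ (Cfsg.Agent.Char.IsIrr.classFun ψ.2),
        ← Cfsg.Agent.Char.classInner_conj_symm, hm, map_zero, zero_mul]
    · rcases Cfsg.Agent.Block.FS.ind_eq ψ with ⟨h, -⟩ | ⟨-, h⟩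
      · rw [h, mul_zero]
      · exact absurd ((hχ ψ).mp ⟨h, hm⟩) hψ
  rw [Finset.sum_eq_single χ (fun ψ _ h => hzero ψ h) (fun h => absurd (Finset.mem_univ χ) h)] at hind
  obtain ⟨m, hm⟩ := Cfsg.Agent.Char.IsChar.classInner_nat
    (Cfsg.Agent.Char.isCharacter_indFun N (Cfsg.Agent.Char.IsIrr.isCharacter φ.2))
    (Cfsg.Agent.Char.IsIrr.isCharacter χ.2)
  rw [hm] at hind
  have hνχ : Cfsg.Agent.Block.FS.ind (χ : G → ℂ) = 1 := by
    rcases Cfsg.Agent.Block.FS.ind_eq χ with ⟨h, -⟩ | ⟨h | h, -⟩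
    · rw [h, mul_zero] at hind
      exact absurd hind zero_ne_one
    · exact h
    · exfalso
      rw [h, mul_neg, mul_one, neg_eq_iff_eq_neg] at hind
      have := congrArg Complex.re hind
      simp at this
      linarith [(Nat.cast_nonneg m : (0 : ℝ) ≤ m)]
  refine ⟨χ, ⟨?_, ?_⟩, ?_⟩
  · rw [finsum_eq_sum_of_fintype]; exact hνχ
  · intro h
    rw [finsum_eq_sum_of_fintype] at h
    exact hχm (by simp [Cfsg.classInner, h])
  · rintro ψ ⟨h1, h2⟩
    rw [finsum_eq_sum_of_fintype] at h1 h2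
    refine (hχ ψ).mp ⟨?_, ?_⟩
    · rcases Cfsg.Agent.Block.FS.ind_eq ψ with ⟨h, -⟩ | ⟨-, h⟩
      · rw [Cfsg.Agent.Block.FS.ind, h1] at h
        exact absurd h one_ne_zero
      · exact h
    · simp only [Cfsg.classInner]
      exact mul_ne_zero (inv_ne_zero hnN) h2

end Cfsg.Agent.S4873
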