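import Cfsg.Statements.S4888
import Cfsg.Agent.Lib.Block.Principal
import Cfsg.Agent.Lib.Block.Height
import Cfsg.Agent.Lib.Transfer.Tate
import Cfsg.Agent.Lib.Transfer.NormalComplement
import Cfsg.Agent.Lib.Grp.Frattini
import Cfsg.Agent.Lib.Char.Quotient
import Cfsg.Agent.Lib.Char.CoprimeDegree
import Mathlib
-- import your own Cfsg.Agent.* helpers here

set_option autoImplicit false
open Cfsg

namespace Cfsg.Agent.S4888

/-- Let G be a finite group, p a prime and M a maximal ideal of the algebraic integers containing p. Then all height-zero irreducible characters of the principal p-block of G (equivalently, all its characters of degree prime to p) have the same degree if and only if G has a normal p-complement. -/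
theorem result {G : Type*} [Group G] [Finite G] (p : ℕ) [Fact p.Prime] (M : Ideal Cfsg.AlgInt) (hM : Cfsg.IsPModular p M) : (∃ d : ℕ, ∀ χ : Cfsg.IrrCharacter G, χ ∈ (Cfsg.principalBlock M G) → Cfsg.blockHeight p (Cfsg.principalBlock M G) (χ : G → ℂ) = 0 → Cfsg.charDegree (χ : G → ℂ) = d) ↔ Cfsg.HasNormalPComplement p G := by
  classical
  haveI := Fintype.ofFinite G
  have hp : p.Prime := Fact.out
  set B := Cfsg.principalBlock M G with hBdef
  have hB : Cfsg.IsPBlock M B := Cfsg.Agent.Block.isPBlock_principalBlock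
  have htriv : Cfsg.Agent.Block.trivialIrr G ∈ B := Cfsg.Agent.Block.trivial_mem_principalBlock hM
  have htriv1 : Cfsg.charDegree (Cfsg.Agent.Block.trivialIrr G : G → ℂ) = 1 :=
    Cfsg.Agent.Block.charDeg_trivial
  have hmin : sInf ((fun χ : Cfsg.IrrCharacter G => (Cfsg.charDegree (χ : G → ℂ)).factorization p) '' B) = 0 :=
    Nat.sInf_eq_zero.2 (Or.inl ⟨Cfsg.Agent.Block.trivialIrr G, htriv, by simp [htriv1]⟩)
  have hh : ∀ χ : Cfsg.IrrCharacter G, Cfsg.blockHeight p B (χ : G → ℂ) =
      (Cfsg.charDegree (χ : G → ℂ)).factorization p := fun χ => by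
    rw [Cfsg.blockHeight, hmin, Nat.sub_zero]
  constructor
  · rintro ⟨d, hd⟩
    have hd1 : d = 1 := by
      rw [← hd _ htriv (by rw [hh, htriv1]; simp), htriv1]
    subst hd1
    obtain ⟨P⟩ : Nonempty (Sylow p G) := inferInstance
    haveI := Fintype.ofFinite (P : Subgroup G)
    -- the coefficient at the identity is a unit
    have ha1 : ¬ Cfsg.MemLocalIdeal M (Cfsg.blockCoeff B 1) := by
      intro h1
      cases nonempty_fintype (ConjClasses G)
      refine Cfsg.Agent.Block.ideal_one hM ?_
      rw [← Cfsg.Agent.Block.sum_blockCoeff_centralChar htriv]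
      refine Cfsg.Agent.Block.ideal_sum hM fun C _ => ?_
      have hω : Cfsg.centralChar (Cfsg.Agent.Block.trivialIrr G : G → ℂ) C.out =
          ((Subgroup.centralizer ({C.out} : Set G)).index : ℂ) := by
        simp [Cfsg.centralChar, Cfsg.Agent.Block.trivialIrr]
      by_cases hC : p ∣ (Subgroup.centralizer ({C.out} : Set G)).index
      · rw [hω]
        exact Cfsg.Agent.Block.ideal_mul_left hM (Cfsg.Agent.Block.blockCoeff_ring hM hB _)
          ((Cfsg.Agent.Block.ideal_natCast_iff hM _).2 hC)
      refine Cfsg.Agent.Block.ideal_mul_right hM ?_ (Cfsg.Agent.Block.centralChar_ring hM _ _)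
      by_cases hs : p ∣ orderOf C.out
      · rw [Cfsg.Agent.Block.blockCoeff_singular hM hB hs]
        exact Cfsg.Agent.Block.ideal_zero hM
      refine (Cfsg.Agent.Block.ideal_congr hM (y := Cfsg.blockCoeff B 1) ?_).2 h1
      obtain ⟨n, hn⟩ := Cfsg.Agent.Block.blockCoeff_mul_index hM hB P
      have e1 := hn C.out hs
      have e2 := hn 1 (by simpa using hp.not_dvd_one)
      rw [Cfsg.Agent.Block.finsum_mem_block] at e1 e2
      have hP0 : ((P : Subgroup G).index : ℂ) ≠ 0 :=
        Nat.cast_ne_zero.mpr Subgroup.index_ne_zero_of_finite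
      have e3 : Cfsg.blockCoeff B C.out - Cfsg.blockCoeff B 1 = ((P : Subgroup G).index : ℂ)⁻¹ *
          (((P : Subgroup G).index : ℂ) * Cfsg.blockCoeff B C.out -
            ((P : Subgroup G).index : ℂ) * Cfsg.blockCoeff B 1) := by field_simp
      rw [e3, e1, e2, ← Finset.sum_sub_distrib]
      refine Cfsg.Agent.Block.ideal_mul_left hM (Cfsg.Agent.Block.ring_inv_natCast hM P.not_dvd_index)
        (Cfsg.Agent.Block.ideal_sum hM fun η hη => ?_)
      rw [← mul_sub]
      refine Cfsg.Agent.Block.ideal_mul_left hM (Cfsg.Agent.Block.ring_natCast hM _) ?_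
      have hcf : Cfsg.blockDefect p B ≤
          (Nat.card (Subgroup.centralizer ({(C.out)⁻¹} : Set G))).factorization p := by
        rw [Cfsg.Agent.Block.centralizer_inv]
        refine (Cfsg.Agent.Block.blockDefect_le B).trans (le_of_eq ?_)
        rw [← (Subgroup.centralizer ({C.out} : Set G)).card_mul_index,
          Nat.factorization_mul Nat.card_pos.ne' Subgroup.index_ne_zero_of_finite, Finsupp.add_apply,
          Nat.factorization_eq_zero_of_not_dvd hC, add_zero]
      have hv := Cfsg.Agent.Block.value_proportional hM hB htriv (Finset.mem_filter.1 hη).2 hcf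
      rw [htriv1] at hv
      simpa [Cfsg.Agent.Block.trivialIrr, ← Cfsg.Agent.Block.charDeg_spec'] using hv
    -- every linear character of `P` extends
    have hext : ∀ l : (P : Subgroup G) →* ℂˣ, ∃ L : G →* ℂˣ, ∀ u : (P : Subgroup G), L u = l u := by
      intro l
      by_contra hno
      push Not at hno
      set c : Cfsg.IrrCharacter G → ℂ := fun χ =>
        Cfsg.classInner (fun u : (P : Subgroup G) => (χ : G → ℂ) u) (fun u => (l u : ℂ)) with hcdef
      have hsum : ((P : Subgroup G).index : ℂ) * Cfsg.blockCoeff B 1 =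
          ∑ χ ∈ Finset.univ.filter (· ∈ B), c χ * (χ : G → ℂ) 1 := by
        have hPc : (Nat.card (P : Subgroup G) : ℂ) ≠ 0 := Nat.cast_ne_zero.2 Nat.card_pos.ne'
        have hG : (Nat.card G : ℂ) = (Nat.card (P : Subgroup G) : ℂ) * ((P : Subgroup G).index : ℂ) := by
          exact_mod_cast (Subgroup.card_mul_index _).symm
        have hi : ((P : Subgroup G).index : ℂ) ≠ 0 :=
          Nat.cast_ne_zero.mpr Subgroup.index_ne_zero_of_finite
        simp only [hcdef, Cfsg.classInner, Finset.sum_mul, Finset.mul_sum]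
        rw [Finset.sum_comm, Finset.sum_eq_single (1 : (P : Subgroup G))]
        · rw [Cfsg.blockCoeff, Cfsg.Agent.Block.finsum_mem_block, hG, Finset.mul_sum, Finset.mul_sum]
          refine Finset.sum_congr rfl fun χ _ => ?_
          simp only [map_one, Units.val_one, mul_one, Subgroup.coe_one]
          rw [Cfsg.Agent.Block.charDeg_spec' χ, Complex.conj_natCast]
          field_simp
        · intro u _ hu
          have hus : p ∣ orderOf (u : G) := by
            obtain ⟨k, hk⟩ := P.isPGroup' u
            rw [Subgroup.orderOf_coe]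
            obtain ⟨j, -, hj⟩ := (Nat.dvd_prime_pow hp).1 (orderOf_dvd_of_pow_eq_one hk)
            rcases j with _ | j
            · exact absurd (orderOf_eq_one_iff.1 (hj.trans (pow_zero p))) hu
            · exact hj ▸ dvd_pow_self p j.succ_ne_zero
          have h := congrArg (starRingEnd ℂ) (Cfsg.Agent.Block.weak_orth hM hB
            (x := 1) (by simpa using hp.not_dvd_one) hus)
          rw [Cfsg.Agent.Block.finsum_mem_block B, map_sum, map_zero] at h
          have h' : (Nat.card (P : Subgroup G) : ℂ)⁻¹ * (starRingEnd ℂ) (l u : ℂ) *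
              ∑ χ ∈ Finset.univ.filter (· ∈ B), (starRingEnd ℂ) ((χ : G → ℂ) 1 * (starRingEnd ℂ) ((χ : G → ℂ) u)) = 0 := by
            rw [h, mul_zero]
          rw [Finset.mul_sum] at h'
          rw [← h']
          refine Finset.sum_congr rfl fun χ _ => ?_
          rw [map_mul, Complex.conj_conj, Cfsg.Agent.Block.charDeg_spec' χ, Complex.conj_natCast]
          ring
        · exact fun h => absurd (Finset.mem_univ _) h
      refine ha1 ?_
      rw [← inv_mul_cancel_left₀ (a := ((P : Subgroup G).index : ℂ))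
        (Nat.cast_ne_zero.mpr Subgroup.index_ne_zero_of_finite) (Cfsg.blockCoeff B 1), hsum]
      refine Cfsg.Agent.Block.ideal_mul_left hM (Cfsg.Agent.Block.ring_inv_natCast hM P.not_dvd_index)
        (Cfsg.Agent.Block.ideal_sum hM fun χ hχ => ?_)
      obtain ⟨m, hm⟩ := Cfsg.Agent.Char.IsChar.classInner_nat
        (Cfsg.Agent.Char.IsChar.res (Cfsg.Agent.Block.irr_isChar χ) (P : Subgroup G))
        (Cfsg.Agent.Char.IsIrr.isCharacter (Cfsg.Agent.Char.isIrr_linear l))
      have hm' : c χ = (m : ℂ) := hm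
      rw [hm', Cfsg.Agent.Block.charDeg_spec' χ]
      by_cases hpd : p ∣ Cfsg.charDegree (χ : G → ℂ)
      · exact Cfsg.Agent.Block.ideal_mul_left hM (Cfsg.Agent.Block.ring_natCast hM _)
          ((Cfsg.Agent.Block.ideal_natCast_iff hM _).2 hpd)
      · have hlin : Cfsg.charDegree (χ : G → ℂ) = 1 := hd χ (Finset.mem_filter.1 hχ).2
          (by rw [hh]; exact Nat.factorization_eq_zero_of_not_dvd hpd)
        obtain ⟨L, hL⟩ := Cfsg.Agent.Char.linearHom_of_isCharacter (Cfsg.Agent.Block.irr_isChar χ)
          (by rw [Cfsg.Agent.Block.charDeg_spec' χ, hlin, Nat.cast_one])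
        have hm0 : m = 0 := by
          by_contra hm0
          obtain ⟨u, hu⟩ := hno L
          refine hu ?_
          have hne : Cfsg.classInner (fun u : (P : Subgroup G) => (χ : G → ℂ) u) (fun u => (l u : ℂ)) ≠ 0 := by
            rw [hm]; exact Nat.cast_ne_zero.2 hm0
          by_contra hne'
          refine hne (Cfsg.Agent.Char.classInner_irr_ne ?_ (Cfsg.Agent.Char.isIrr_linear l) fun he => hne' ?_)
          · have e : (fun v : (P : Subgroup G) => (χ : G → ℂ) v) =
                fun v => (((L.comp (P : Subgroup G).subtype) v : ℂˣ) : ℂ) := funext fun v => by simp [hL]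
            rw [e]
            exact Cfsg.Agent.Char.isIrr_linear _
          · have := congrFun he u
            refine Units.ext ?_
            simpa [hL] using this
        rw [hm0, Nat.cast_zero, zero_mul]
        exact Cfsg.Agent.Block.ideal_zero hM
    -- Tate
    set e := (Nat.card G).factorization p
    set m := Nat.card G / p ^ e with hm
    set φ : G →* Abelianization G := (powMonoidHom m).comp Abelianization.of with hφ
    have hker : ∀ g, g ∈ φ.ker ↔ (Abelianization.of g) ^ m = 1 := fun g => by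
      rw [MonoidHom.mem_ker]; rfl
    have hme : m * p ^ e = Nat.card G := Nat.div_mul_cancel (Nat.ordProj_dvd _ _)
    have hmp : ¬ p ∣ m := Nat.not_dvd_ordCompl hp Nat.card_pos.ne'
    have hidx : ∃ k, φ.ker.index = p ^ k := by
      rw [Subgroup.index_ker]
      refine IsPGroup.iff_card.1 fun a => ⟨e, ?_⟩
      obtain ⟨g, hg⟩ := a.2
      refine Subtype.ext ?_
      rw [SubmonoidClass.coe_pow, ← hg, ← map_pow, OneMemClass.coe_one]
      show (Abelianization.of (g ^ p ^ e)) ^ m = 1
      rw [← map_pow, ← pow_mul, mul_comm, hme, pow_card_eq_one', map_one]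
    have hcond : φ.ker ⊓ (P : Subgroup G) ≤ (frattini (P : Subgroup G)).map (P : Subgroup G).subtype := by
      rintro u ⟨huk, huP⟩
      refine ⟨⟨u, huP⟩, Cfsg.Agent.Grp.pGroup_commutator_le_frattini P.isPGroup' ?_, rfl⟩
      have hab : Abelianization.of u = 1 := by
        obtain ⟨k, hk⟩ := P.isPGroup' ⟨u, huP⟩
        have h1 : orderOf (Abelianization.of u) ∣ p ^ k := orderOf_dvd_of_pow_eq_one (by
          rw [← map_pow, show u ^ p ^ k = 1 from congrArg Subtype.val hk, map_one])
        have h2 : orderOf (Abelianization.of u) ∣ m := orderOf_dvd_of_pow_eq_one ((hker u).1 huk)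
        exact orderOf_eq_one_iff.1 (Nat.eq_one_of_dvd_coprimes
          (Nat.Coprime.pow_left k (hp.coprime_iff_not_dvd.2 hmp)) h1 h2)
      have hab' : (Abelianization.of (⟨u, huP⟩ : (P : Subgroup G))) = 1 := by
        refine Cfsg.Agent.Char.eq_one_of_forall_linear mul_comm fun l₀ => ?_
        obtain ⟨L, hL⟩ := hext (l₀.comp Abelianization.of)
        have := hL ⟨u, huP⟩
        rw [MonoidHom.comp_apply] at this
        rw [← this]
        rw [← Abelianization.lift_apply_of L u, hab, map_one]
      exact (QuotientGroup.eq_one_iff _).1 hab'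
    obtain ⟨K, hKn, hKp, k, hk⟩ := Cfsg.Agent.Transfer.hasNormalPComplement_iff_exists.1
      (Cfsg.Agent.Transfer.hasNormalPComplement_of_inf_le_frattini P φ.ker hcond)
    refine Cfsg.Agent.Transfer.hasNormalPComplement_iff_exists.2 ⟨K.map φ.ker.subtype, ?_, ?_, ?_⟩
    · refine ⟨fun x hx g => ?_⟩
      obtain ⟨y, hy, rfl⟩ := hx
      have hN : (φ.ker).Normal := inferInstance
      refine ⟨⟨g * y * g⁻¹, hN.conj_mem _ y.2 g⟩,
        Cfsg.Agent.Block.regular_mem_of_index_pPow (K := K) hk ?_, rfl⟩
      intro hdvd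
      rw [← Subgroup.orderOf_coe] at hdvd
      change p ∣ orderOf (g * (y : G) * g⁻¹) at hdvd
      rw [← MulAut.conj_apply, MulEquiv.orderOf_eq, Subgroup.orderOf_coe] at hdvd
      exact hKp (hdvd.trans ((Subgroup.orderOf_mk y hy).symm.dvd.trans (orderOf_dvd_natCard _)))
    · rwa [Subgroup.card_map_of_injective φ.ker.subtype_injective]
    · obtain ⟨j, hj⟩ := hidx
      exact ⟨k + j, by rw [Subgroup.index_map_subtype, hk, hj, pow_add]⟩
  · intro h
    obtain ⟨K, hKn, hKp, k, hk⟩ := Cfsg.Agent.Transfer.hasNormalPComplement_iff_exists.1 h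
    refine ⟨1, fun χ hχ h0 => ?_⟩
    obtain ⟨ψ, hψ, hval⟩ := Cfsg.Agent.Char.IsIrr.exists_factor_quotient χ.2 K
      (fun u hu => Cfsg.Agent.Block.principal_ker_of_coprime hM hKp hχ hu)
    have hdeg : Cfsg.charDegree (χ : G → ℂ) = Cfsg.charDegree ψ := by
      simp only [Cfsg.charDegree]; rw [← hval 1]; rfl
    haveI := Fintype.ofFinite (G ⧸ K)
    have hdvd := Cfsg.Agent.Char.CopDeg.degree_dvd_card' (⟨ψ, hψ⟩ : Cfsg.IrrCharacter (G ⧸ K))
    rw [← Subgroup.index_eq_card, hk] at hdvd
    obtain ⟨j, -, hj⟩ := (Nat.dvd_prime_pow hp).1 hdvd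
    rw [hh, hdeg, hj, Nat.Prime.factorization_pow hp, Finsupp.single_eq_same] at h0
    rw [hdeg, hj, h0, pow_zero]

end Cfsg.Agent.S4888
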