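import Cfsg.Statements.S4889
import Cfsg.Agent.Lib.Char.EqualDegreeInertia
import Cfsg.Agent.Lib.Char.PairNilpotent
import Cfsg.Agent.Lib.Char.NilpotentMain
import Cfsg.Agent.Lib.Char.RegularPartGen

set_option autoImplicit false
open Cfsg

namespace Cfsg.Agent.S4889

/-- Let G be a finite group, p a prime, M a maximal ideal of the algebraic integers containing p, and B a p-block of G that has an abelian defect group and in which every irreducible character has height zero. Then all irreducible characters of B have the same degree if and only if B is a nilpotent block. -/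
theorem result {G : Type*} [Group G] [Finite G] (p : ℕ) [Fact p.Prime] (M : Ideal Cfsg.AlgInt) (hM : Cfsg.IsPModular p M) (B : Set (Cfsg.IrrCharacter G)) (hB : Cfsg.IsPBlock M B) (D : Subgroup G) (hD : Cfsg.IsDefectGroup p M B D) (hDab : IsMulCommutative ↥D) (h0 : ∀ χ : Cfsg.IrrCharacter G, χ ∈ B → Cfsg.blockHeight p B (χ : G → ℂ) = 0) : (∃ d : ℕ, ∀ χ : Cfsg.IrrCharacter G, χ ∈ B → Cfsg.charDegree (χ : G → ℂ) = d) ↔ Cfsg.IsNilpotentBlock p M B := by
  open Cfsg.Agent.Block Cfsg.Agent.Char Cfsg.Agent.Char.BP in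
  classical
  letI := Fintype.ofFinite G
  have hab : ∀ x ∈ D, ∀ y ∈ D, x * y = y * x := fun x hx y hy =>
    congrArg Subtype.val (mul_comm' (⟨x, hx⟩ : D) ⟨y, hy⟩)
  have hone1 : IsPRegular p (1 : G) := by
    rw [IsPRegular, orderOf_one]
    exact (Fact.out : p.Prime).not_dvd_one
  constructor
  · rintro ⟨d, hd⟩
    obtain ⟨e, he⟩ := (exists_pair_iff hM hB (IsDefectGroup.isPGroup hD)).2 (defectGroup_not_brZero hM hB hD)
    have hmax : IsMx p M B (⟨D, e⟩ : BrauerPairIdx G) := max_of_defect hM he hD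
    rw [nilpotent_iff_inertial hM hmax hab]
    exact EqDeg.inertia_trivial hM hmax hab hd
  · intro hnil
    obtain ⟨hl, -⟩ := Spec.rank_of_nilpotent hM hnil
    obtain ⟨φ, dd, -, hdd, hs⟩ := Contrib.exists_rank_one hM hB hl
    obtain ⟨Φ, -⟩ := Spec.exists_height_equiv hM hnil hD
    have hcard : Nat.card B = p ^ blockDefect p B := by
      rw [← card_defectGroup hM hB hD, Nat.card_congr Φ, Cfsg.Agent.Char.card_irrCharacter]
      exact (Nat.card_eq_of_bijective _ ⟨fun x y h => by
        obtain ⟨c, hc⟩ := isConj_iff.1 (ConjClasses.mk_eq_mk_iff_isConj.1 h)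
        rw [← hc, mul_comm' c x, mul_inv_cancel_right], ConjClasses.mk_surjective⟩).symm
    have hone : ∀ χ ∈ B, dd χ = 1 := by
      have hpos : ∀ χ ∈ B, 1 ≤ dd χ := fun χ hχ => by
        rw [Nat.one_le_iff_ne_zero]
        intro h0
        have h1 := hdd χ hχ 1 hone1
        rw [h0, Nat.cast_zero, zero_mul] at h1
        exact irr_one_ne_zero χ h1
      rw [finsum_mem_eq_finite_toFinset_sum _ (Set.toFinite B), ← hcard, Nat.card_eq_card_finite_toFinset (Set.toFinite B)] at hs
      intro χ hχ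
      by_contra hne
      have h2 : ∑ ψ ∈ (Set.toFinite B).toFinset, 1 < ∑ ψ ∈ (Set.toFinite B).toFinset, dd ψ ^ 2 := by
        refine Finset.sum_lt_sum (fun ψ hψ => Nat.one_le_pow _ _ (hpos ψ ((Set.toFinite B).mem_toFinset.1 hψ)))
          ⟨χ, (Set.toFinite B).mem_toFinset.2 hχ, ?_⟩
        exact Nat.one_lt_pow two_ne_zero (lt_of_le_of_ne (hpos χ hχ) (Ne.symm hne))
      rw [hs, Finset.sum_const, smul_eq_mul, mul_one] at h2
      exact lt_irrefl _ h2
    obtain ⟨χ₀, hχ₀⟩ := pblock_nonempty hM hB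
    refine ⟨charDegree (χ₀ : G → ℂ), fun χ hχ => ?_⟩
    have h1 := hdd χ hχ 1 hone1
    have h2 := hdd χ₀ hχ₀ 1 hone1
    rw [hone _ hχ, Nat.cast_one, one_mul] at h1
    rw [hone _ hχ₀, Nat.cast_one, one_mul] at h2
    unfold charDegree
    rw [h1, h2]

end Cfsg.Agent.S4889
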