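import Cfsg.Statements.S4890
import Cfsg.Agent.Lib.Char.NormalDefectNilpotent
import Cfsg.Agent.Lib.Char.NilpotentMain
import Cfsg.Agent.Lib.Char.CoprimeDegree

set_option autoImplicit false
open Cfsg

namespace Cfsg.Agent.S4890

/-- Let G be a finite group, p a prime, M a maximal ideal of the algebraic integers containing p, and B a p-block of G with a defect group that is normal in G. Then all height-zero irreducible characters of B have the same degree if and only if B is a nilpotent block. -/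
theorem result {G : Type*} [Group G] [Finite G] (p : ℕ) [Fact p.Prime] (M : Ideal Cfsg.AlgInt) (hM : Cfsg.IsPModular p M) (B : Set (Cfsg.IrrCharacter G)) (hB : Cfsg.IsPBlock M B) (D : Subgroup G) (hD : Cfsg.IsDefectGroup p M B D) (hDn : D.Normal) : (∃ d : ℕ, ∀ χ : Cfsg.IrrCharacter G, χ ∈ B → Cfsg.blockHeight p B (χ : G → ℂ) = 0 → Cfsg.charDegree (χ : G → ℂ) = d) ↔ Cfsg.IsNilpotentBlock p M B := by
  open Cfsg.Agent.Block Cfsg.Agent.Char in
  classical
  letI := Fintype.ofFinite G
  constructor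
  · rintro ⟨d, hd⟩
    haveI := hDn
    exact EqDeg.nilpotent_of_equal_heightZero hM hB hD hd
  · intro hnil
    obtain ⟨χ, hχ, h0⟩ := exists_height_zero hM hnil.1
    obtain ⟨S, rfl⟩ := Spec.exists_srcData hM hnil
      (fun H _ b hb => by letI := Fintype.ofFinite H; exact Spec.rankOne_of_nilpotent hM H b hb) hχ h0 hD
    letI := Fintype.ofFinite S.P
    have hp := IsDefectGroup.isPGroup hD
    obtain ⟨lam, -, hdeg⟩ := Spec.exists_irr hM S hnil.1 hχ h0 hp
    refine ⟨charDegree (χ : G → ℂ), fun η hη hη0 => ?_⟩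
    have h1 := hdeg ⟨η, hη⟩
    obtain ⟨k, hk⟩ := IsPGroup.iff_card.1 hp
    obtain ⟨i, -, hi⟩ := (Nat.dvd_prime_pow (Fact.out : p.Prime)).1
      (hk ▸ CopDeg.degree_dvd_card' (lam ⟨η, hη⟩) : charDegree (lam ⟨η, hη⟩ : S.P → ℂ) ∣ p ^ k)
    have h2 := (blockHeight_zero_iff hM hnil.1 hη).1 hη0
    have h3 := (blockHeight_zero_iff hM hnil.1 hχ).1 h0
    simp only at h1
    rw [h1, hi, Nat.factorization_mul (pow_ne_zero _ (Fact.out : p.Prime).ne_zero) (charDeg_pos χ).ne',
      Finsupp.add_apply, (Fact.out : p.Prime).factorization_pow, Finsupp.single_eq_same] at h2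
    obtain rfl : i = 0 := by omega
    rw [h1, hi, pow_zero, one_mul]

end Cfsg.Agent.S4890
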