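import Cfsg.Statements.S4892
import Cfsg.Agent.Lib.Block.RelAlperin.Rational

set_option autoImplicit false
set_option linter.style.haveILetI false

open Cfsg Cfsg.Agent Cfsg.Agent.Block Cfsg.Agent.Block.RelAlperin
open scoped ComplexConjugate

namespace Cfsg.Agent.S4892

/-- Let p be an odd prime, M a maximal ideal of the algebraic integers containing p, N a normal subgroup of the finite group G, and θ an irreducible character of N that is G-invariant, of degree prime to p, p-rational (values in the field generated over ℚ by a root of unity of order prime to p) and lies in the principal p-block of N. Let Q be a Sylow p-subgroup of N and suppose the index of N·C_G(Q) in G is a power of p. Then θ extends to a p-rational irreducible character of G lying in the principal p-block of G. -/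
theorem result {G : Type*} [Group G] [Finite G] (p : ℕ) [Fact p.Prime] (hp : p ≠ 2) (M : Ideal Cfsg.AlgInt) (hM : Cfsg.IsPModular p M) (N : Subgroup G) [N.Normal] (θ : Cfsg.IrrCharacter ↥N) (hinv : ∀ g : G, ∀ n n' : ↥N, (n' : G) = g * (n : G) * g⁻¹ → (θ : ↥N → ℂ) n' = (θ : ↥N → ℂ) n) (hdeg : ¬ p ∣ Cfsg.charDegree (θ : ↥N → ℂ)) (hrat : ∃ m : ℕ, ¬ p ∣ m ∧ ∀ n : ↥N, (θ : ↥N → ℂ) n ∈ IntermediateField.adjoin ℚ ({Complex.exp (2 * Real.pi * Complex.I / m)} : Set ℂ)) (hB : θ ∈ Cfsg.principalBlock M ↥N) (Q : Sylow p ↥N) (hidx : ∃ a : ℕ, (N ⊔ Subgroup.centralizer (((Q : Subgroup ↥N).map N.subtype : Subgroup G) : Set G)).index = p ^ a) : ∃ χ : Cfsg.IrrCharacter G, χ ∈ (Cfsg.principalBlock M G) ∧ (∃ n : ℕ, ¬ p ∣ n ∧ ∀ g : G, (χ : G → ℂ) g ∈ IntermediateField.adjoin ℚ ({Complex.exp (2 * Real.pi * Complex.I / n)} : Set ℂ)) ∧ ∀ n : ↥N, (χ : G → ℂ) n = (θ : ↥N → ℂ) n := by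
  classical
  haveI := Fintype.ofFinite G
  haveI := Fintype.ofFinite N
  letI := resInst hM
  haveI := resField_charP hM
  haveI := ExpChar.prime (R := ResField hM) (Fact.out : p.Prime)
  have hN : N.Normal := inferInstance
  obtain ⟨m, hm, hval⟩ := hrat
  obtain ⟨a, hT0⟩ := hidx
  change (N ⊔ cP Q).index = p ^ a at hT0
  set C := cP Q with hC
  set T₀ := N ⊔ C with hT₀
  set e := ordCompl[p] (Nat.card G) with he'
  set pA := ordProj[p] (Nat.card G) with hpA'
  have he : ¬ p ∣ e := Nat.not_dvd_ordCompl Fact.out Nat.card_pos.ne'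
  have hee : pA * e = Nat.card G := Nat.ordProj_mul_ordCompl_eq_self _ _
  have hedvd : e ∣ Nat.card G := ⟨pA, by rw [← hee, mul_comm]⟩
  have hpe : Nat.Coprime p e := (Fact.out : p.Prime).coprime_iff_not_dvd.2 he
  have hpAe : Nat.Coprime pA e := hpe.pow_left _
  have hm0 : m ≠ 0 := fun h => hm (h ▸ dvd_zero p)
  have hinv' : ∀ (g : G) (n : N), (θ : N → ℂ) ⟨g * n * g⁻¹, hN.conj_mem (n : G) n.2 g⟩ =
      (θ : N → ℂ) n := fun g n => hinv g n _ rfl
  obtain ⟨d, hd⟩ : ∃ d : ℕ, (θ : N → ℂ) 1 = d := by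
    obtain ⟨n, ρ, -, -, hn, -⟩ := Char.IsIrr.exists_rep θ.2
    exact ⟨n, hn⟩
  have hdp : ¬ p ∣ d := by
    intro h
    apply hdeg
    rw [charDegree, hd, Complex.natCast_re, Nat.floor_natCast]
    exact h
  -- divisors of the order prime to `p`
  have hdvd_e : ∀ n, n ∣ Nat.card G → ¬ p ∣ n → n ∣ e := by
    intro n h1 h2
    rw [← hee] at h1
    refine Nat.Coprime.dvd_of_dvd_mul_left (Nat.Coprime.pow_right _ ?_) h1
    exact ((Fact.out : p.Prime).coprime_iff_not_dvd.2 h2).symm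
  -- `θ` is fixed by the admissible exponents
  have hθfix : ∀ k : ℕ, k.Coprime (Nat.card G) → k ≡ 1 [MOD e] → ∀ n : N,
      (θ : N → ℂ) (n ^ k) = (θ : N → ℂ) n := by
    intro k hk hk1 n
    refine fixed_of_mem_adjoin (Char.IsIrr.isCharacter θ.2) hm0 Nat.card_pos
      (Subgroup.card_subgroup_dvd_card N) ?_ hk hk1 hval n
    exact hdvd_e _ (Nat.gcd_dvd_left _ m) fun h => hm (h.trans (Nat.gcd_dvd_right _ m))
  -- the determinant of `θ`
  have hdete : ∀ n : N, detChar (θ : N → ℂ) n ^ e = 1 := by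
    intro n
    obtain ⟨k, hk1, hk2⟩ := Nat.chineseRemainder hpAe.symm 1 2
    have hkc : k.Coprime (Nat.card G) := by
      rw [← hee]
      refine Nat.Coprime.mul_right ?_ ?_
      · rw [Nat.coprime_iff_gcd_eq_one, hk2.gcd_eq, ← Nat.coprime_iff_gcd_eq_one]
        exact Nat.Coprime.pow_right _ ((Nat.coprime_primes Nat.prime_two Fact.out).2 (Ne.symm hp))
      · rw [Nat.coprime_iff_gcd_eq_one, hk1.gcd_eq]; exact Nat.gcd_one_left e
    obtain ⟨δ, hδ⟩ := Char.isCharacter_detChar θ.2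
    have h1 := detChar_pow θ.2 (hkc.coprime_dvd_right (Subgroup.card_subgroup_dvd_card N)) n
    rw [show (fun x : N => (θ : N → ℂ) (x ^ k)) = (θ : N → ℂ) from funext (hθfix k hkc hk1)] at h1
    rw [congrFun hδ n, ← Units.val_pow_eq_pow_val, Units.val_inj] at h1
    rw [congrFun hδ n, ← Units.val_pow_eq_pow_val, Units.val_eq_one, ← orderOf_dvd_iff_pow_eq_one]
    refine hdvd_e _ ((orderOf_map_dvd δ n).trans ((orderOf_dvd_natCard n).trans
      (Subgroup.card_subgroup_dvd_card N))) fun hpn => ?_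
    by_cases hpA : p ∣ pA
    · have h2 : k ≡ 1 [MOD orderOf (δ n)] :=
        (isOfFinOrder_iff_pow_eq_one.2 ⟨Nat.card N, Nat.card_pos, by
          rw [← map_pow, pow_card_eq_one', map_one]⟩).pow_eq_pow_iff_modEq.1 (by rw [pow_one]; exact h1.symm)
      have h3 : 2 ≡ 1 [MOD p] := ((hk2.of_dvd hpA).symm).trans (h2.of_dvd hpn)
      exact (Fact.out : p.Prime).ne_one (Nat.dvd_one.1 ((Nat.modEq_iff_dvd' one_le_two).1 h3.symm))
    · have h4 : p ∣ Nat.card G := hpn.trans ((orderOf_map_dvd δ n).trans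
        ((orderOf_dvd_natCard n).trans (Subgroup.card_subgroup_dvd_card N)))
      rw [← hee, (Fact.out : p.Prime).dvd_mul] at h4
      exact h4.elim hpA he
  -- an extension
  obtain ⟨ψ₀, hψ₀, hres₀⟩ := Char.Ext.exists_extension_of_witness θ.2 hinv' hd fun q hq => by
    haveI := Fact.mk hq
    by_cases hqp : q = p
    · subst hqp
      refine Or.inl ⟨hdp, fun h => he (h.trans (orderOf_dvd_of_pow_eq_one (funext fun n => ?_)))⟩
      exact hdete n
    · refine witness_sylow hM N Q θ hB d hqp fun h => hqp ?_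
      rw [← hC, ← hT₀, hT0] at h
      exact (Nat.prime_dvd_prime_iff_eq hq Fact.out).1 (hq.dvd_of_dvd_pow h)
  obtain ⟨δ₀, hδ₀⟩ := Char.isCharacter_detChar hψ₀
  have hψ₀1 : ψ₀ 1 = d := by rw [← hd]; exact hres₀ 1
  have hδN : ∀ n : N, δ₀ (n : G) ^ e = 1 := fun n => Units.ext (by
    rw [Units.val_pow_eq_pow_val, Units.val_one, ← congrFun hδ₀ (n : G)]
    rw [← show detChar (θ : N → ℂ) n = detChar ψ₀ (n : G) from
      Char.detChar_comp hψ₀ N.subtype θ.2 hres₀ n]
    exact hdete n)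
  -- adjust the determinant
  obtain ⟨t, ht⟩ : ∃ t : ℕ, pA ∣ d * e * t + 1 := by
    haveI : NeZero pA := ⟨(Nat.ordProj_pos _ _).ne'⟩
    have hcop : Nat.Coprime (d * e) pA := Nat.Coprime.mul_left
      (Nat.Coprime.pow_right _ (((Fact.out : p.Prime).coprime_iff_not_dvd.2 hdp).symm)) hpAe.symm
    refine ⟨(-((ZMod.unitOfCoprime _ hcop)⁻¹ : (ZMod pA)ˣ) : ZMod pA).val, ?_⟩
    rw [← ZMod.natCast_eq_zero_iff, Nat.cast_add, Nat.cast_mul, ZMod.natCast_zmod_val,
      Nat.cast_one, mul_neg, ← ZMod.coe_unitOfCoprime _ hcop, Units.mul_inv, neg_add_cancel]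
  let μ : G →* ℂˣ := δ₀ ^ (e * t)
  have hμN : ∀ n : N, μ (n : G) = 1 := fun n => by
    show (δ₀ ^ (e * t)) (n : G) = 1
    rw [MonoidHom.pow_apply, pow_mul, hδN, one_pow]
  let ψ : IrrCharacter G := ⟨_, Char.IsIrr.mul_linear hψ₀ μ⟩
  have hψval : ∀ g, (ψ : G → ℂ) g = (μ g : ℂ) * ψ₀ g := fun g => rfl
  have hres : ∀ n : N, (ψ : G → ℂ) n = (θ : N → ℂ) n := fun n => by
    rw [hψval, hμN, Units.val_one, one_mul, hres₀]
  have hψ1 : (ψ : G → ℂ) 1 = d := by rw [← hd]; exact hres 1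
  have hdetψ : ∀ g, detChar (ψ : G → ℂ) g ^ e = 1 := by
    intro g
    have h1 : detChar (ψ : G → ℂ) g = ((δ₀ g) ^ (d * e * t + 1) : ℂˣ) := by
      show detChar (fun g => (μ g : ℂ) * ψ₀ g) g = _
      rw [Char.detChar_mul_linear hψ₀ hψ₀1 μ]
      dsimp only
      rw [congrFun hδ₀ g]
      show (((δ₀ ^ (e * t)) g : ℂˣ) : ℂ) ^ d * _ = _
      rw [MonoidHom.pow_apply, Units.val_pow_eq_pow_val, Units.val_pow_eq_pow_val, ← pow_mul,
        ← pow_succ]
      congr 1
      ring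
    obtain ⟨s, hs⟩ := ht
    rw [h1, ← Units.val_pow_eq_pow_val, Units.val_eq_one, ← pow_mul, hs,
      show pA * s * e = pA * e * s by ring, hee, pow_mul, ← map_pow, pow_card_eq_one', map_one,
      one_pow]
  have hirr : IsIrrCharacter N (fun n : N => (ψ : G → ℂ) n) := by
    rw [show (fun n : N => (ψ : G → ℂ) n) = (θ : N → ℂ) from funext hres]
    exact θ.2
  have hD : Data M N ψ := ⟨hirr, by convert hB using 1; exact Subtype.ext (funext hres)⟩
  -- the reduced values on `C(Q)`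
  have hf1 : fval hM ψ (1 : G) = 1 := by
    rw [fval, div_self (by rw [hψ1]; exact Nat.cast_ne_zero.2 fun h => hdp (h ▸ dvd_zero p)),
      red_one]
  have hfe : ∀ c ∈ C, fval hM ψ c ^ e = 1 := by
    intro c hc
    let f : C →* ResField hM :=
      { toFun := fun x => fval hM ψ (x : G)
        map_one' := hf1
        map_mul' := fun x y => fval_mul hM hD Q x.2 y.2 }
    refine iterateFrobenius_inj (ResField hM) p ((Nat.card G).factorization p) ?_
    rw [iterateFrobenius_def, iterateFrobenius_def, one_pow, ← pow_mul, mul_comm, hee]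
    show f ⟨c, hc⟩ ^ Nat.card G = 1
    rw [← map_pow, show (⟨c, hc⟩ : C) ^ Nat.card G = 1 from Subtype.ext (by simp), map_one]
  have hfk : ∀ (k : ℕ), k ≡ 1 [MOD e] → ∀ c ∈ C, fval hM ψ (c ^ k) = fval hM ψ c := by
    intro k hk1 c hc
    have h : ∀ j : ℕ, fval hM ψ (c ^ j) = fval hM ψ c ^ j := by
      intro j
      induction j with
      | zero => rw [pow_zero, pow_zero, hf1]
      | succ i ih => rw [pow_succ, fval_mul hM hD Q (pow_mem hc i) hc, ih, pow_succ]
    rw [h, pow_eq_pow_mod k (hfe c hc), hk1, ← pow_eq_pow_mod 1 (hfe c hc), pow_one]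
  -- `ψ` is fixed by the admissible exponents
  have hψfix : ∀ k : ℕ, k.Coprime (Nat.card G) → k ≡ 1 [MOD e] → ∀ g : G,
      (ψ : G → ℂ) (g ^ k) = (ψ : G → ℂ) g := by
    intro k hk hk1
    set ψk : G → ℂ := fun g => (ψ : G → ℂ) (g ^ k) with hψk
    have hψkirr : IsIrrCharacter G ψk := Char.IsIrr.pow_map ψ.2 hk
    have hkres : (fun n : N => ψk (n : G)) = (θ : N → ℂ) := funext fun n => by
      show (ψ : G → ℂ) ((n : G) ^ k) = _
      rw [← SubmonoidClass.coe_pow, hres, hθfix k hk hk1]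
    obtain ⟨hL, hmul⟩ := Char.gallagher (N := N) ψ.2 hψkirr hirr (by
      rw [hkres, show (fun n : N => (ψ : G → ℂ) n) = (θ : N → ℂ) from funext hres,
        Char.classInner_self_irr θ.2]
      exact one_ne_zero)
    set L := Char.avgN N (ψk * fun g => conj ((ψ : G → ℂ) g)) with hLdef
    have hk1' : ψk 1 = d := by show (ψ : G → ℂ) (1 ^ k) = _; rw [one_pow, hψ1]
    have hd0 : (d : ℂ) ≠ 0 := Nat.cast_ne_zero.2 fun h => hdp (h ▸ dvd_zero p)
    have hL1 : L 1 = 1 := mul_left_cancel₀ hd0 (by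
      have := congrFun hmul 1
      simp only [Pi.mul_apply] at this
      rw [hψ1, hk1'] at this
      rw [this, mul_one])
    obtain ⟨l, hl⟩ := Char.linearHom_of_isCharacter (Char.IsIrr.isCharacter hL) hL1
    have hψkl : ψk = fun g => (l g : ℂ) * (ψ : G → ℂ) g := by
      rw [← hmul, hl]
      funext g
      exact mul_comm _ _
    have hlN : ∀ n ∈ N, l n = 1 := fun n hn => Units.ext (by
      rw [← congrFun hl n, Units.val_one, ← hL1, ← mul_one n]
      exact Char.avgN_mul_left N _ ⟨n, hn⟩ 1)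
    have hld : ∀ g, l g ^ d = 1 := fun g => Units.ext (by
      have h1 := detChar_pow ψ.2 hk g
      rw [show (fun x => (ψ : G → ℂ) (x ^ k)) = fun g => (l g : ℂ) * (ψ : G → ℂ) g from hψkl,
        Char.detChar_mul_linear ψ.2 hψ1 l] at h1
      have h2 : detChar (ψ : G → ℂ) g ^ k = detChar (ψ : G → ℂ) g := by
        rw [pow_eq_pow_mod k (hdetψ g), hk1, ← pow_eq_pow_mod 1 (hdetψ g), pow_one]
      rw [h2, mul_eq_right₀ (fun h0 => by
        have := hdetψ g
        rw [h0, zero_pow (show e ≠ 0 from fun h' => he (by rw [h']; exact dvd_zero p))] at this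
        exact zero_ne_one this)] at h1
      rw [Units.val_pow_eq_pow_val, h1, Units.val_one])
    have hle : ∀ g, l g ^ e = 1 := fun g => orderOf_dvd_iff_pow_eq_one.1
      (hdvd_e _ ((orderOf_map_dvd l g).trans (orderOf_dvd_natCard g))
        fun h => hdp (h.trans (orderOf_dvd_of_pow_eq_one (hld g))))
    have hlC : ∀ c ∈ C, l c = 1 := fun c hc => Units.ext (by
      refine root_red_injective hM he (by rw [← Units.val_pow_eq_pow_val, hle, Units.val_one])
        (by rw [Units.val_one, one_pow]) ?_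
      have he0 : 0 < e := Nat.pos_of_ne_zero fun h => he (h ▸ dvd_zero p)
      have h1 : fval hM ψ (c ^ k) = red hM (l c : ℂ) * fval hM ψ c := by
        unfold fval
        rw [show (ψ : G → ℂ) (c ^ k) = (l c : ℂ) * (ψ : G → ℂ) c from congrFun hψkl c, mul_div_assoc,
          red_mul hM (ring_of_integral hM (IsIntegral.of_pow he0 (by
            rw [← Units.val_pow_eq_pow_val, hle, Units.val_one]; exact isIntegral_one)))
            (mu_ring hM hD Q (good_of_mem hc))]
      rw [hfk k hk1 c hc] at h1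
      rw [Units.val_one, red_one]
      refine (mul_eq_right₀ ?_).1 h1.symm
      intro h0
      have := hfe c hc
      rw [h0, zero_pow he0.ne'] at this
      exact zero_ne_one this)
    intro g
    have hker : T₀ ≤ l.ker := sup_le (fun n hn => hlN n hn) fun c hc => hlC c hc
    have hpow : l g ^ p ^ a = 1 := by
      rw [← hT0]
      obtain ⟨s, hs⟩ := Subgroup.index_dvd_of_le hker
      rw [hs, pow_mul, ← map_pow, show l (g ^ l.ker.index) = 1 from l.ker.pow_index_mem g, one_pow]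
    have h1 : l g = 1 := by
      rw [← orderOf_eq_one_iff]
      refine Nat.eq_one_of_dvd_coprimes ?_ (orderOf_dvd_of_pow_eq_one hpow)
        (orderOf_dvd_of_pow_eq_one (hld g))
      exact Nat.Coprime.pow_left _ ((Fact.out : p.Prime).coprime_iff_not_dvd.2 hdp)
    rw [show (ψ : G → ℂ) (g ^ k) = (l g : ℂ) * (ψ : G → ℂ) g from congrFun hψkl g, h1,
      Units.val_one, one_mul]
  -- the twist on `N C(Q)`
  have hQconj : ∀ g : G, ∃ n ∈ N, ∀ c, c ∈ C → (n⁻¹ * g) * c * (n⁻¹ * g)⁻¹ ∈ C := by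
    intro g
    obtain ⟨n, hn⟩ := MulAction.exists_smul_eq N ((MulAut.conjNormal g : MulAut N) • Q) Q
    refine ⟨((n⁻¹ : N) : G), (n⁻¹).2, fun c hc => mem_cP.2 fun u hu => ?_⟩
    rw [← Subgroup.coe_inv, inv_inv]
    set h := (n : G) * g with hh
    have hu' : (⟨h⁻¹ * (u : G) * h, by
        have := hN.conj_mem (u : G) u.2 h⁻¹
        rwa [inv_inv] at this⟩ : N) ∈ (Q : Subgroup N) := by
      rw [← hn, Sylow.coe_subgroup_smul, Sylow.pointwise_smul_def,
        Subgroup.mem_pointwise_smul_iff_inv_smul_mem,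
        Subgroup.mem_pointwise_smul_iff_inv_smul_mem] at hu
      convert hu using 1
      refine Subtype.ext ?_
      simp [hh, mul_assoc]
    have h1 := mem_cP.1 hc _ hu'
    simp only at h1
    calc (u : G) * (h * c * h⁻¹) = h * (h⁻¹ * (u : G) * h * c) * h⁻¹ := by group
      _ = h * (c * (h⁻¹ * (u : G) * h)) * h⁻¹ := by rw [h1]
      _ = h * c * h⁻¹ * u := by group
  haveI hT₀n : T₀.Normal := by
    refine ⟨fun x hx g => ?_⟩
    obtain ⟨y, hy, c, hc, rfl⟩ := Subgroup.mem_sup_of_normal_left.1 hx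
    obtain ⟨n, hn, hnc⟩ := hQconj g
    have e1 : g * (y * c) * g⁻¹ = g * y * g⁻¹ * (n * (n⁻¹ * g * c * (n⁻¹ * g)⁻¹) * n⁻¹) := by group
    rw [e1]
    exact mul_mem (Subgroup.mem_sup_left (hN.conj_mem y hy g))
      (mul_mem (mul_mem (Subgroup.mem_sup_left hn) (Subgroup.mem_sup_right (hnc c hc)))
        (inv_mem (Subgroup.mem_sup_left hn)))
  have he0 : 0 < e := Nat.pos_of_ne_zero fun h => he (h ▸ dvd_zero p)
  choose r hr hrN using fun x : T₀ => show ∃ c ∈ C, c⁻¹ * (x : G) ∈ N by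
    obtain ⟨n, hn, c, hc, hx⟩ := Subgroup.mem_sup_of_normal_left.1 x.2
    refine ⟨c, hc, ?_⟩
    have := hN.conj_mem n hn c⁻¹
    rw [← hx]
    rwa [inv_inv, mul_assoc] at this
  choose L hLe hLred using fun x : T₀ => exists_root_red hM he (fval hM ψ (r x) ^ (e - 1))
    (by rw [← pow_mul, mul_comm, pow_mul, hfe _ (hr x), one_pow])
  have hLeq : ∀ (x : T₀), ∀ c ∈ C, c⁻¹ * (x : G) ∈ N → red hM (L x) = fval hM ψ c ^ (e - 1) := by
    intro x c hc hcN
    rw [hLred, fval_congr hM hD Q hc (hr x)]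
    rw [← QuotientGroup.eq_one_iff, QuotientGroup.mk_mul, QuotientGroup.mk_inv,
      QuotientGroup.eq.2 hcN, QuotientGroup.eq.2 (hrN x), inv_mul_cancel]
  have hLint : ∀ x, MemLocalRing M (L x) := fun x => ring_of_integral hM
    (IsIntegral.of_pow he0 (by rw [hLe]; exact isIntegral_one))
  have hLmul : ∀ x y, L (x * y) = L x * L y := by
    intro x y
    refine root_red_injective hM he (hLe _) (by rw [mul_pow, hLe, hLe, one_mul]) ?_
    rw [red_mul hM (hLint x) (hLint y), hLred x, hLred y, ← mul_pow, ← fval_mul hM hD Q (hr x) (hr y)]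
    refine hLeq _ _ (mul_mem (hr x) (hr y)) ?_
    rw [← QuotientGroup.eq_one_iff, Subgroup.coe_mul, QuotientGroup.mk_mul, QuotientGroup.mk_inv,
      QuotientGroup.mk_mul, QuotientGroup.mk_mul, QuotientGroup.eq.2 (hrN x),
      QuotientGroup.eq.2 (hrN y), inv_mul_cancel]
  have hL1 : ∀ x : T₀, (x : G) ∈ N → L x = 1 := fun x hx =>
    root_red_injective hM he (hLe x) (one_pow e) (by
      rw [hLeq x 1 (one_mem _) (by simpa using hx), hf1, one_pow, red_one])
  let l₀ : T₀ →* ℂˣ := MonoidHom.toHomUnits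
    { toFun := L, map_one' := hL1 1 (by simp), map_mul' := hLmul }
  have hl₀ : ∀ x, (l₀ x : ℂ) = L x := fun x => rfl
  have hLinv : ∀ (g : G) (x : T₀), L ⟨g * x * g⁻¹, hT₀n.conj_mem (x : G) x.2 g⟩ = L x := by
    intro g x
    refine root_red_injective hM he (hLe _) (hLe _) ?_
    obtain ⟨n, hn, hnc⟩ := hQconj g
    rw [hLred x, hLeq _ _ (hnc _ (hr x)) ?_, fval_conj]
    rw [← QuotientGroup.eq_one_iff]
    simp [(QuotientGroup.eq_one_iff n).2 hn, ← QuotientGroup.eq.2 (hrN x)]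
    group
  haveI := Fintype.ofFinite T₀
  obtain ⟨ζ, hζ, hζres⟩ := Char.Ext.exists_extension_of_witness (N := T₀) (θ := fun x => (l₀ x : ℂ))
    (Char.isIrr_linear l₀) hLinv (d := 1) (by simp) fun q hq => by
      by_cases hqp : q = p
      · subst hqp
        refine Or.inl ⟨hq.not_dvd_one, fun h => he (h.trans (orderOf_dvd_of_pow_eq_one ?_))⟩
        rw [Char.detChar_linear]
        funext x
        exact (congrArg (· ^ e) (hl₀ x)).trans (hLe x)
      · refine Char.Ext.witness_self (Char.isIrr_linear l₀) 1 fun h => hqp ?_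
        rw [hT0] at h
        exact (Nat.prime_dvd_prime_iff_eq hq Fact.out).1 (hq.dvd_of_dvd_pow h)
  obtain ⟨l₁, hl₁⟩ := Char.linearHom_of_isCharacter (Char.IsIrr.isCharacter hζ) (by
    rw [← Subgroup.coe_one T₀, hζres, map_one, Units.val_one])
  have hl₁res : ∀ x : T₀, (l₁ x : ℂ) = L x := fun x => by
    rw [← congrFun hl₁ (x : G), hζres, hl₀]
  have ho : orderOf (fun x : T₀ => (l₁ x : ℂ)) ∣ e := orderOf_dvd_of_pow_eq_one (funext fun x => by
    rw [Pi.pow_apply, Pi.one_apply, hl₁res, hLe])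
  obtain ⟨l, hlres, hlord⟩ := Char.Ext.exists_linear_adjust (N := T₀) l₁ rfl (by
    rw [hT0]; exact Nat.Coprime.coprime_dvd_right ho (hpe.pow_left a))
  have hle : ∀ g, l g ^ e = 1 := fun g => by
    obtain ⟨s, hs⟩ := ho
    have h1 : l g ^ orderOf l = 1 := by
      rw [← MonoidHom.pow_apply, pow_orderOf_eq_one, MonoidHom.one_apply]
    rw [hs, ← hlord, pow_mul, h1, one_pow]
  have hleC : ∀ g, (l g : ℂ) ^ e = 1 := fun g => by
    rw [← Units.val_pow_eq_pow_val, hle, Units.val_one]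
  have hlr : ∀ g : G, MemLocalRing M (l g : ℂ) := fun g => ring_of_integral hM
    (IsIntegral.of_pow he0 (by rw [hleC]; exact isIntegral_one))
  have hlT : ∀ x : T₀, (l x : ℂ) = L x := fun x => by rw [hlres, hl₁res]
  have hl : ∀ c ∈ cP Q, red hM (l c : ℂ) * fval hM ψ c = 1 := by
    intro c hc
    rw [hlT ⟨c, Subgroup.mem_sup_right hc⟩,
      hLeq ⟨c, Subgroup.mem_sup_right hc⟩ c hc (by simp), ← pow_succ,
      Nat.sub_add_cancel he0, hfe c hc]
  let χ : IrrCharacter G := ⟨_, Char.IsIrr.mul_linear ψ.2 l⟩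
  refine ⟨χ, ?_, ⟨e, he, fun g => ?_⟩, fun n => ?_⟩
  · have hJirr : IsIrrCharacter (⊤ : Subgroup G) (fun y : (⊤ : Subgroup G) => (χ : G → ℂ) y) :=
      Char.IsIrr.comp_mulEquiv Subgroup.topEquiv χ.2
    have hξ := twist_principal hM hD Q l hlr hl χ (fun _ => rfl) ⊤ le_top ⟨_, hJirr⟩ (fun _ => rfl)
    refine mem_blockOf.2 fun g => ?_
    have h := mem_blockOf.1 hξ ⟨g, Subgroup.mem_top g⟩
    have hidx : (Subgroup.centralizer ({(⟨g, Subgroup.mem_top g⟩ : (⊤ : Subgroup G))} : Set _)).index =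
        (Subgroup.centralizer ({g} : Set G)).index := by
      rw [← index_centralizer_map Subgroup.topEquiv.symm g]
      rfl
    simp only [centralChar, hidx] at h
    exact h
  · refine mem_adjoin_of_fixed (Char.IsIrr.isCharacter χ.2) hedvd g fun k hk hk1 => ?_
    show (l (g ^ k) : ℂ) * (ψ : G → ℂ) (g ^ k) = (l g : ℂ) * (ψ : G → ℂ) g
    rw [hψfix k hk hk1, map_pow, Units.val_pow_eq_pow_val, pow_eq_pow_mod k (hleC g), hk1,
      ← pow_eq_pow_mod 1 (hleC g), pow_one]
  · show (l (n : G) : ℂ) * (ψ : G → ℂ) n = _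
    rw [hlT ⟨n, Subgroup.mem_sup_left n.2⟩, hL1 _ n.2, one_mul, hres]

end Cfsg.Agent.S4892
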