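import Cfsg.Statements.S4903
import Cfsg.Agent.Lib.Block.Deg16.Main

set_option autoImplicit false
open Cfsg

namespace Cfsg.Agent.S4903

/-- Let G be a finite group with a faithful irreducible complex character of degree 16, p a prime with p ≥ 19, and P a Sylow p-subgroup of G. Then P is normal in G, or p = 31 and the quotient of G by its centre is isomorphic to PSL(2,31). -/
theorem result {G : Type*} [Group G] [Finite G] (χ : Cfsg.IrrCharacter G) (hdeg : Cfsg.charDegree (χ : G → ℂ) = 16) (hfaith : ∀ g : G, (χ : G → ℂ) g = (χ : G → ℂ) 1 → g = 1) (p : ℕ) [Fact p.Prime] (hp : 19 ≤ p) (P : Sylow p G) : (P : Subgroup G).Normal ∨ (p = 31 ∧ Nonempty (G ⧸ Subgroup.center G ≃* Matrix.ProjectiveSpecialLinearGroup (Fin 2) (ZMod 31))) := by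
  classical
  obtain ⟨n, ρ, hirr, hχ⟩ := χ.2
  have hn : n = 16 := by
    have h1 := Block.charDeg_spec' χ
    rw [hdeg, ← hχ, Representation.char_one, Module.finrank_fin_fun] at h1
    exact_mod_cast h1
  subst hn
  have hinj : Function.Injective ρ := (injective_iff_map_eq_one ρ).2 fun g hg => hfaith g (by
    rw [← hχ, Representation.char_one, Char.character_eq_finrank_iff, hg]
    rfl)
  have hI : Block.Deg16.Irr ρ ⊤ ⊤ := by
    refine ⟨fun _ _ _ _ => Submodule.mem_top, fun h => ?_, fun W hW _ => ?_⟩
    · have h1 : (1 : Fin 16 → ℂ) = 0 := (Submodule.mem_bot ℂ).1 (h ▸ Submodule.mem_top)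
      exact one_ne_zero h1
    · haveI : IsSimpleOrder (Subrepresentation ρ) := hirr
      rcases eq_bot_or_eq_top
        (⟨W, fun g w hw => hW g (Subgroup.mem_top g) w hw⟩ : Subrepresentation ρ) with h | h
      · exact Or.inl (congrArg Subrepresentation.toSubmodule h)
      · exact Or.inr (congrArg Subrepresentation.toSubmodule h)
  exact Block.Deg16.main p hp ρ hinj hI P

end Cfsg.Agent.S4903
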