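import Cfsg.Statements.S4911
import Mathlib
import Cfsg.Agent.Lib.Char.GlaubermanSolvable
import Cfsg.Agent.Lib.Char.Perm
import Cfsg.Agent.Lib.Char.Complete
import Cfsg.Agent.Lib.Char.ModP
-- import your own Cfsg.Agent.* helpers here

set_option autoImplicit false
open Cfsg Cfsg.Agent.Char

namespace Cfsg.Agent.S4911

set_option maxHeartbeats 1600000 in
theorem result {G : Type*} [Group G] [Finite G] (p : ℕ) [Fact p.Prime] (P K : Subgroup G) (hP : IsPGroup p ↥P) (hK : ¬ p ∣ Nat.card ↥K) (hPK : P ≤ Subgroup.normalizer (K : Set G)) : Nat.card {θ : Cfsg.IrrCharacter ↥K // (∀ k : ↥K, ((θ : ↥K → ℂ) k).im = 0) ∧ (∀ x ∈ P, ∀ k k' : ↥K, (k' : G) = x * (k : G) * x⁻¹ → (θ : ↥K → ℂ) k' = (θ : ↥K → ℂ) k)} = Nat.card {c : ConjClasses ↥K // (∀ k : ↥K, ConjClasses.mk k = c → IsConj k k⁻¹) ∧ ∀ k : ↥K, ConjClasses.mk k = c → ∀ x ∈ P, ∀ k' : ↥K, (k' : G) = x * (k : G) * x⁻¹ → ConjClasses.mk k' = c} ∧ ((∀ θ : Cfsg.IrrCharacter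 ↥K, (∀ k : ↥K, ((θ : ↥K → ℂ) k).im = 0) → (∀ x ∈ P, ∀ k k' : ↥K, (k' : G) = x * (k : G) * x⁻¹ → (θ : ↥K → ℂ) k' = (θ : ↥K → ℂ) k)) → ∀ k : ↥K, IsConj k k⁻¹ → ∃ k' : ↥K, IsConj k k' ∧ ∀ x ∈ P, x * (k' : G) * x⁻¹ = (k' : G)) := by
  classical
  haveI := Fintype.ofFinite ↥K
  obtain ⟨M, hM⟩ := Cfsg.Agent.Char.exists_isPModular p Fact.out
  have hn : ∀ s ∈ P, ∀ g ∈ K, s * g * s⁻¹ ∈ K := fun s hs g hg =>
    (Subgroup.mem_normalizer_iff.mp (hPK hs) g).mp hg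
  have hA : IsPGroup p (Glaub.conjHom K P hn).range :=
    hP.of_surjective _ (Glaub.conjHom K P hn).rangeRestrict_surjective
  have hcop : Nat.Coprime (Nat.card ↥K) p :=
    ((Fact.out : p.Prime).coprime_iff_not_dvd.mpr hK).symm
  haveI := Fintype.ofFinite (Glaub.fix (Glaub.conjHom K P hn).range)
  set A := (Glaub.conjHom K P hn).range with hAdef
  have hreal : ∀ {X : Type _} [Group X] [Finite X] (χ : Cfsg.IrrCharacter X),
      (∀ x, ((χ : X → ℂ) x).im = 0) ↔ ∀ x, (starRingEnd ℂ) ((χ : X → ℂ) x) = (χ : X → ℂ) x := by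
    intro X _ _ χ
    exact forall_congr' fun x => Complex.conj_eq_iff_im.symm
  -- real characters and real classes
  have hcount : ∀ (X : Subgroup ↥K), Nat.card {χ : Cfsg.IrrCharacter ↥X // ∀ x, ((χ : ↥X → ℂ) x).im = 0}
      = Nat.card {c : ConjClasses ↥X // ∀ x : ↥X, ConjClasses.mk x = c → IsConj x x⁻¹} := by
    intro X
    let f : Cfsg.IrrCharacter ↥X → Cfsg.IrrCharacter ↥X := fun χ =>
      ⟨fun x => (starRingEnd ℂ) ((χ : ↥X → ℂ) x), Cfsg.Agent.Char.IsIrr.conj χ.2⟩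
    let φ : ConjClasses ↥X → ConjClasses ↥X := Quotient.map' (fun x : ↥X => x⁻¹) (fun a b h => by
      obtain ⟨c, hc⟩ := isConj_iff.mp h
      exact isConj_iff.mpr ⟨c, by rw [← hc]; group⟩)
    have hb := Cfsg.Agent.Char.brauer_perm f φ (fun χ g g' h => by
      have h1 : IsConj g' g⁻¹ := ConjClasses.mk_eq_mk_iff_isConj.mp h
      obtain ⟨c, hc⟩ := isConj_iff.mp h1
      show (starRingEnd ℂ) ((χ : ↥X → ℂ) g) = _
      rw [← Cfsg.Agent.Char.IsIrr.apply_inv χ.2, ← hc, (Cfsg.Agent.Char.IsIrr.classFun χ.2) g' c])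
    calc Nat.card {χ : Cfsg.IrrCharacter ↥X // ∀ x, ((χ : ↥X → ℂ) x).im = 0}
        = Nat.card {χ // f χ = χ} := Nat.card_congr (Equiv.subtypeEquivRight fun χ => by
          rw [hreal, Subtype.ext_iff, funext_iff])
      _ = Nat.card {c // φ c = c} := hb
      _ = _ := Nat.card_congr (Equiv.subtypeEquivRight fun c => by
          obtain ⟨x, rfl⟩ := c.exists_rep
          constructor
          · intro h y hy
            have h1 : IsConj x⁻¹ x := ConjClasses.mk_eq_mk_iff_isConj.mp h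
            have h2 : IsConj y x := ConjClasses.mk_eq_mk_iff_isConj.mp hy
            refine h2.trans (h1.symm.trans ?_)
            obtain ⟨d, hd⟩ := isConj_iff.mp h2
            exact (isConj_iff.mpr ⟨d, by rw [← hd]; group⟩).symm
          · intro h
            exact ConjClasses.mk_eq_mk_iff_isConj.mpr (h x rfl).symm)
  -- conjugation respects the correspondence
  let cK : Cfsg.IrrCharacter ↥K → Cfsg.IrrCharacter ↥K := fun χ =>
    ⟨fun x => (starRingEnd ℂ) ((χ : ↥K → ℂ) x), Cfsg.Agent.Char.IsIrr.conj χ.2⟩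
  let cC : Cfsg.IrrCharacter ↥(Glaub.fix A) → Cfsg.IrrCharacter ↥(Glaub.fix A) := fun χ =>
    ⟨fun x => (starRingEnd ℂ) ((χ : ↥(Glaub.fix A) → ℂ) x), Cfsg.Agent.Char.IsIrr.conj χ.2⟩
  have hmult : ∀ χ β, Glaub.mult (Glaub.fix A) (cK χ : ↥K → ℂ) (cC β : ↥(Glaub.fix A) → ℂ) =
      Glaub.mult (Glaub.fix A) (χ : ↥K → ℂ) (β : ↥(Glaub.fix A) → ℂ) := by
    intro χ β
    have h1 := Glaub.mult_spec (Glaub.fix A) (Cfsg.Agent.Block.irr_isChar (cK χ))
      (Cfsg.Agent.Block.irr_isChar (cC β))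
    have h2 := Glaub.mult_spec (Glaub.fix A) (Cfsg.Agent.Block.irr_isChar χ)
      (Cfsg.Agent.Block.irr_isChar β)
    have h3 : Cfsg.classInner (fun c : ↥(Glaub.fix A) => (cK χ : ↥K → ℂ) c) (cC β : ↥(Glaub.fix A) → ℂ)
        = (starRingEnd ℂ) (Cfsg.classInner (fun c : ↥(Glaub.fix A) => (χ : ↥K → ℂ) c) (β : ↥(Glaub.fix A) → ℂ)) := by
      simp only [Cfsg.classInner, cK, cC, map_mul, map_sum, map_inv₀, map_natCast]
    rw [h1, h2, map_natCast] at h3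
    exact_mod_cast h3
  have hinv : ∀ χ : Cfsg.IrrCharacter ↥K, Glaub.Inv A (χ : ↥K → ℂ) → Glaub.Inv A (cK χ : ↥K → ℂ) :=
    fun χ h a ha g => congrArg (starRingEnd ℂ) (h a ha g)
  have hchar : Nat.card {χ : Cfsg.IrrCharacter ↥K // (∀ k, ((χ : ↥K → ℂ) k).im = 0) ∧ Glaub.Inv A (χ : ↥K → ℂ)}
      = Nat.card {β : Cfsg.IrrCharacter ↥(Glaub.fix A) // ∀ x, ((β : ↥(Glaub.fix A) → ℂ) x).im = 0} := by
    have hex : ∀ χ : {χ : Cfsg.IrrCharacter ↥K // (∀ k, ((χ : ↥K → ℂ) k).im = 0) ∧ Glaub.Inv A (χ : ↥K → ℂ)},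
        ∃ β : {β : Cfsg.IrrCharacter ↥(Glaub.fix A) // ∀ x, ((β : ↥(Glaub.fix A) → ℂ) x).im = 0},
          Glaub.Corr p χ.1 β.1 := by
      rintro ⟨χ, hr, hi⟩
      obtain ⟨β, hβ⟩ := Glaub.exists_corr hM hA hcop hi
      refine ⟨⟨β, ?_⟩, hβ⟩
      have e : cK χ = χ := Subtype.ext (funext ((hreal χ).mp hr))
      have hc : Glaub.Corr p χ (cC β) := by
        unfold Glaub.Corr
        rw [← e, hmult]
        exact hβ
      exact (hreal β).mpr (fun x => congrFun (congrArg Subtype.val (Glaub.corr_unique hM hA hcop hi hc hβ)) x)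
    choose F hF using hex
    refine Nat.card_eq_of_bijective F ⟨fun a b h => ?_, fun β => ?_⟩
    · have h2 := hF b
      rw [← h] at h2
      exact Subtype.ext (Glaub.corr_inj hM hA hcop a.2.2 b.2.2 (hF a) h2)
    · obtain ⟨χ, hi, hχ⟩ := Glaub.surj_corr hM hA hcop β.1
      have e : cC β.1 = β.1 := Subtype.ext (funext ((hreal β.1).mp β.2))
      have hc : Glaub.Corr p (cK χ) β.1 := by
        unfold Glaub.Corr
        rw [← e, hmult]
        exact hχ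
      have e2 := Glaub.corr_inj hM hA hcop (hinv χ hi) hi hc hχ
      have hr2 : ∀ x, ((χ : ↥K → ℂ) x).im = 0 :=
        (hreal χ).mpr (fun x => congrFun (congrArg Subtype.val e2) x)
      have h5 := hF ⟨χ, hr2, hi⟩
      exact ⟨⟨χ, hr2, hi⟩, Subtype.ext (Glaub.corr_unique hM hA hcop hi h5 hχ)⟩
  -- classes
  have hfixiff : ∀ c : ConjClasses ↥K,
      (∀ k : ↥K, ConjClasses.mk k = c → ∀ x ∈ P, ∀ k' : ↥K, (k' : G) = x * (k : G) * x⁻¹ → ConjClasses.mk k' = c)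
        ↔ ∃ C, ConjClasses.map (Glaub.fix A).subtype C = c := by
    intro c
    rw [← Glaub.class_map_fixed hA hcop c]
    constructor
    · rintro h t ⟨s, rfl⟩
      obtain ⟨k, rfl⟩ := c.exists_rep
      exact h k rfl s s.2 _ rfl
    · intro h k hk x hx k' hk'
      subst hk
      have := h _ ⟨⟨x, hx⟩, rfl⟩
      rw [← this]
      exact congrArg ConjClasses.mk (Subtype.ext hk')
  have hclass : Nat.card {c : ConjClasses ↥(Glaub.fix A) // ∀ x, ConjClasses.mk x = c → IsConj x x⁻¹}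
      = Nat.card {c : ConjClasses ↥K // (∀ k : ↥K, ConjClasses.mk k = c → IsConj k k⁻¹) ∧ ∀ k : ↥K, ConjClasses.mk k = c → ∀ x ∈ P, ∀ k' : ↥K, (k' : G) = x * (k : G) * x⁻¹ → ConjClasses.mk k' = c} := by
    have hinj := Glaub.class_map_inj hA hcop
    have hr : ∀ C : ConjClasses ↥(Glaub.fix A), (∀ x, ConjClasses.mk x = C → IsConj x x⁻¹) ↔
        ∀ k : ↥K, ConjClasses.mk k = ConjClasses.map (Glaub.fix A).subtype C → IsConj k k⁻¹ := by
      intro C
      obtain ⟨x, rfl⟩ := C.exists_rep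
      constructor
      · intro h k hk
        have h1 : IsConj k (x : ↥K) := ConjClasses.mk_eq_mk_iff_isConj.mp hk
        have h2 : IsConj (x : ↥K) (x : ↥K)⁻¹ := (Glaub.fix A).subtype.map_isConj (h x rfl)
        refine h1.trans (h2.trans ?_)
        obtain ⟨d, hd⟩ := isConj_iff.mp h1
        exact (isConj_iff.mpr ⟨d, by rw [← hd]; group⟩).symm
      · intro h y hy
        refine ConjClasses.mk_eq_mk_iff_isConj.mp (hinj ?_)
        have h1 := h (y : ↥K) (congrArg (ConjClasses.map (Glaub.fix A).subtype) hy)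
        exact ConjClasses.mk_eq_mk_iff_isConj.mpr h1
    refine Nat.card_eq_of_bijective
      (fun C => ⟨ConjClasses.map (Glaub.fix A).subtype C.1, (hr C.1).mp C.2, (hfixiff _).mpr ⟨C.1, rfl⟩⟩)
      ⟨fun a b h => Subtype.ext (hinj (congrArg Subtype.val h)), fun c => ?_⟩
    obtain ⟨C, hC⟩ := (hfixiff _).mp c.2.2
    exact ⟨⟨C, (hr C).mpr (hC ▸ c.2.1)⟩, Subtype.ext hC⟩
  have hmain : Nat.card {θ : Cfsg.IrrCharacter ↥K // (∀ k : ↥K, ((θ : ↥K → ℂ) k).im = 0) ∧ (∀ x ∈ P, ∀ k k' : ↥K, (k' : G) = x * (k : G) * x⁻¹ → (θ : ↥K → ℂ) k' = (θ : ↥K → ℂ) k)}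
      = Nat.card {c : ConjClasses ↥K // (∀ k : ↥K, ConjClasses.mk k = c → IsConj k k⁻¹) ∧ ∀ k : ↥K, ConjClasses.mk k = c → ∀ x ∈ P, ∀ k' : ↥K, (k' : G) = x * (k : G) * x⁻¹ → ConjClasses.mk k' = c} := by
    rw [← hclass, ← hcount, ← hchar]
    exact Nat.card_congr (Equiv.subtypeEquivRight fun θ =>
      and_congr_right fun _ => (Glaub.inv_conjHom_iff K P hn _).symm)
  refine ⟨hmain, fun hall k hk => ?_⟩
  haveI : Finite (ConjClasses ↥K) := inferInstance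
  have h1 : Nat.card {c : ConjClasses ↥K // ∀ k : ↥K, ConjClasses.mk k = c → IsConj k k⁻¹}
      = Nat.card {θ : Cfsg.IrrCharacter ↥K // ∀ k : ↥K, ((θ : ↥K → ℂ) k).im = 0} := by
    let e : ↥(⊤ : Subgroup ↥K) ≃* ↥K := Subgroup.topEquiv
    let f : Cfsg.IrrCharacter ↥K → Cfsg.IrrCharacter ↥K := cK
    let φ : ConjClasses ↥K → ConjClasses ↥K := Quotient.map' (fun x : ↥K => x⁻¹) (fun a b h => by
      obtain ⟨c, hc⟩ := isConj_iff.mp h
      exact isConj_iff.mpr ⟨c, by rw [← hc]; group⟩)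
    have hb := Cfsg.Agent.Char.brauer_perm f φ (fun χ g g' h => by
      have h1 : IsConj g' g⁻¹ := ConjClasses.mk_eq_mk_iff_isConj.mp h
      obtain ⟨c, hc⟩ := isConj_iff.mp h1
      show (starRingEnd ℂ) ((χ : ↥K → ℂ) g) = _
      rw [← Cfsg.Agent.Char.IsIrr.apply_inv χ.2, ← hc, (Cfsg.Agent.Char.IsIrr.classFun χ.2) g' c])
    calc Nat.card {c : ConjClasses ↥K // ∀ k : ↥K, ConjClasses.mk k = c → IsConj k k⁻¹}
        = Nat.card {c // φ c = c} := Nat.card_congr (Equiv.subtypeEquivRight fun c => by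
          obtain ⟨x, rfl⟩ := c.exists_rep
          constructor
          · intro h
            exact ConjClasses.mk_eq_mk_iff_isConj.mpr (h x rfl).symm
          · intro h y hy
            have h1 : IsConj x⁻¹ x := ConjClasses.mk_eq_mk_iff_isConj.mp h
            have h2 : IsConj y x := ConjClasses.mk_eq_mk_iff_isConj.mp hy
            refine h2.trans (h1.symm.trans ?_)
            obtain ⟨d, hd⟩ := isConj_iff.mp h2
            exact (isConj_iff.mpr ⟨d, by rw [← hd]; group⟩).symm)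
      _ = Nat.card {χ // f χ = χ} := hb.symm
      _ = _ := Nat.card_congr (Equiv.subtypeEquivRight fun χ => by
          rw [hreal, Subtype.ext_iff, funext_iff])
  have h2 : Nat.card {θ : Cfsg.IrrCharacter ↥K // ∀ k : ↥K, ((θ : ↥K → ℂ) k).im = 0}
      = Nat.card {θ : Cfsg.IrrCharacter ↥K // (∀ k : ↥K, ((θ : ↥K → ℂ) k).im = 0) ∧ (∀ x ∈ P, ∀ k k' : ↥K, (k' : G) = x * (k : G) * x⁻¹ → (θ : ↥K → ℂ) k' = (θ : ↥K → ℂ) k)} :=
    Nat.card_congr (Equiv.subtypeEquivRight fun θ => ⟨fun h => ⟨h, hall θ h⟩, And.left⟩)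
  have hkc : ∀ k' : ↥K, ConjClasses.mk k' = ConjClasses.mk k → IsConj k' k'⁻¹ := fun k' hk' => by
    have h3 : IsConj k' k := ConjClasses.mk_eq_mk_iff_isConj.mp hk'
    refine h3.trans (hk.trans ?_)
    obtain ⟨d, hd⟩ := isConj_iff.mp h3
    exact (isConj_iff.mpr ⟨d, by rw [← hd]; group⟩).symm
  let inc : {c : ConjClasses ↥K // (∀ k : ↥K, ConjClasses.mk k = c → IsConj k k⁻¹) ∧ ∀ k : ↥K, ConjClasses.mk k = c → ∀ x ∈ P, ∀ k' : ↥K, (k' : G) = x * (k : G) * x⁻¹ → ConjClasses.mk k' = c} → {c : ConjClasses ↥K // ∀ k : ↥K, ConjClasses.mk k = c → IsConj k k⁻¹} :=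
    fun c => ⟨c.1, c.2.1⟩
  have hbij : Function.Bijective inc :=
    (Nat.bijective_iff_injective_and_card inc).mpr
      ⟨fun a b h => Subtype.ext (congrArg Subtype.val h :), (hmain.symm.trans (h2.symm.trans h1.symm))⟩
  obtain ⟨c, hc⟩ := hbij.2 ⟨ConjClasses.mk k, hkc⟩
  obtain ⟨C, hC⟩ := (hfixiff c.1).mp c.2.2
  obtain ⟨x, rfl⟩ := C.exists_rep
  have h4 : ConjClasses.mk (x : ↥K) = ConjClasses.mk k := hC.trans (congrArg Subtype.val hc :)
  refine ⟨(x : ↥K), (ConjClasses.mk_eq_mk_iff_isConj.mp h4).symm, fun s hs => ?_⟩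
  exact congrArg Subtype.val (x.2 _ ⟨⟨s, hs⟩, rfl⟩)

end Cfsg.Agent.S4911
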