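import Cfsg.Agent.Lib.Block.RelGlaubermanMain
import Cfsg.Agent.Lib.Block.SylowDefectCount
import Cfsg.Statements.S4914
-- import your own Cfsg.Agent.* helpers here

set_option autoImplicit false
open Cfsg

namespace Cfsg.Agent.S4914

/-- Let P and K be subgroups of a finite group G with P a p-group normalizing K, and suppose K has a normal Sylow p-subgroup Q. Let C be the subgroup of those k ∈ K whose commutator with every element of P lies in Q (so that C/Q is the fixed-point subgroup of P on K/Q). Then there is a bijection f from the P-invariant irreducible complex characters of K onto the P-invariant irreducible complex characters of C such that, for every P-invariant irreducible character χ of K, the multiplicity of f(χ) in the restriction of χ to C is a natural number congruent to 1 or to −1 modulo p, every other P-invariant irreducible character of C occurs in that restriction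 with multiplicity divisible by p, and the degrees of χ and f(χ) are congruent modulo p up to sign. -/
theorem result {G : Type*} [Group G] [Finite G] (p : ℕ) [Fact p.Prime] (P K Q C : Subgroup G) (hP : IsPGroup p ↥P) (hPK : P ≤ Subgroup.normalizer (K : Set G)) (hQK : Q ≤ K) (hQn : ∀ k ∈ K, ∀ q ∈ Q, k * q * k⁻¹ ∈ Q) (hQp : ∃ a : ℕ, Nat.card ↥Q = p ^ a) (hQsyl : ¬ p ∣ Q.relIndex K) (hCK : C ≤ K) (hC : ∀ k : G, k ∈ C ↔ (k ∈ K ∧ ∀ x ∈ P, x * k * x⁻¹ * k⁻¹ ∈ Q)) : ∃ f : {χ : Cfsg.IrrCharacter ↥K // (∀ x ∈ P, ∀ k k' : ↥K, (k' : G) = x * (k : G) * x⁻¹ → (χ : ↥K → ℂ) k' = (χ : ↥K → ℂ) k)} → {ξ : Cfsg.IrrCharacter ↥C // (∀ x ∈ P, ∀ k k' : ↥C, (k' : G) = x * (k : G) * x⁻¹ → (ξ : ↥C → ℂ) k' = (ξ : ↥C → ℂ) k)}, Function.Bijective f ∧ ∀ χ, (∀ ξ : {ξ : Cfsg.IrrCharacter ↥C // (∀ x ∈ P, ∀ k k' : ↥C, (k' : G) = x * (k : G) * x⁻¹ → (ξ : ↥C → ℂ) k' = (ξ : ↥C → ℂ) k)}, ∃ m : ℕ, (Nat.card ↥C : ℂ)⁻¹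 * ∑ᶠ c : ↥C, (χ.1 : ↥K → ℂ) (Subgroup.inclusion hCK c) * (starRingEnd ℂ) ((ξ.1 : ↥C → ℂ) c) = (m : ℂ) ∧ (ξ = f χ → ((m : ZMod p) = 1 ∨ (m : ZMod p) = -1)) ∧ (ξ ≠ f χ → p ∣ m)) ∧ ((Cfsg.charDegree ((f χ).1 : ↥C → ℂ) : ZMod p) = (Cfsg.charDegree (χ.1 : ↥K → ℂ) : ZMod p) ∨ (Cfsg.charDegree ((f χ).1 : ↥C → ℂ) : ZMod p) = -(Cfsg.charDegree (χ.1 : ↥K → ℂ) : ZMod p)) := by
  classical
  have hPKmem : ∀ x : ↥P, ∀ k ∈ K, ((MulAut.conj).comp P.subtype) x k ∈ K := fun x k hk =>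
    (Subgroup.mem_normalizer_iff.mp (hPK x.2) k).mp hk
  let φK : ↥P →* MulAut ↥K := Cfsg.Agent.Block.RelGal.restrictAut _ K hPKmem
  let QK : Subgroup ↥K := Q.subgroupOf K
  haveI hQKn : QK.Normal := ⟨fun q hq k => hQn k k.2 q hq⟩
  have hQKp : IsPGroup p ↥QK := by
    obtain ⟨a, ha⟩ := hQp
    exact (IsPGroup.of_card ha).of_equiv (Subgroup.subgroupOfEquivOfLe hQK).symm
  have hQinv : ∀ x : ↥P, ∀ q ∈ Q, (x : G) * q * (x : G)⁻¹ ∈ Q := by
    intro x q hq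
    have h := Cfsg.Agent.Block.le_of_isPGroup_normal_sylow hQKp hQsyl
      (hQKp.map (φK x).toMonoidHom) (Subgroup.mem_map_of_mem _ (show (⟨q, hQK hq⟩ : ↥K) ∈ QK from hq))
    exact h
  have hCinv : ∀ x : ↥P, ∀ k ∈ C, ((MulAut.conj).comp P.subtype) x k ∈ C := by
    intro x k hk
    obtain ⟨hkK, hkQ⟩ := (hC k).mp hk
    refine (hC _).mpr ⟨hPKmem x k hkK, fun z hz => ?_⟩
    have h := hQinv x _ (hkQ ((x : G)⁻¹ * z * x) (P.mul_mem (P.mul_mem (P.inv_mem x.2) hz) x.2))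
    show z * ((x : G) * k * (x : G)⁻¹) * z⁻¹ * ((x : G) * k * (x : G)⁻¹)⁻¹ ∈ Q
    refine cast ?_ h
    congr 1
    group
  let φC : ↥P →* MulAut ↥C := Cfsg.Agent.Block.RelGal.restrictAut _ C hCinv
  have hQC : ∀ q : ↥QK, ((q : ↥K) : G) ∈ C := fun q =>
    (hC _).mpr ⟨(q : ↥K).2, fun x hx => Q.mul_mem (hQinv ⟨x, hx⟩ _ q.2) (Q.inv_mem q.2)⟩
  let j : ↥QK →* ↥C := (K.subtype.comp QK.subtype).codRestrict C hQC
  have S : Cfsg.Agent.Block.RelGal.Sys p φK φC (Subgroup.inclusion hCK) QK j :=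
    { inj := Subgroup.inclusion_injective hCK
      equiv := fun x c => rfl
      norm := hQKn
      ιj := fun q => rfl
      range_iff := fun k => by
        constructor
        · rintro ⟨c, rfl⟩ x
          exact ((hC c).mp c.2).2 x x.2
        · intro h
          exact ⟨⟨k, (hC k).mpr ⟨k.2, fun x hx => h ⟨x, hx⟩⟩⟩, rfl⟩
      pGroup := hP
      qGroup := hQKp
      idx := hQsyl }
  haveI : Fintype ↥K := Fintype.ofFinite _
  haveI : Fintype ↥C := Fintype.ofFinite _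
  haveI : Fintype ↥QK := Fintype.ofFinite _
  have invK : ∀ χ : Cfsg.IrrCharacter ↥K,
      (∀ x ∈ P, ∀ k k' : ↥K, (k' : G) = x * (k : G) * x⁻¹ → (χ : ↥K → ℂ) k' = (χ : ↥K → ℂ) k) ↔
        Cfsg.Agent.Block.RelGal.InvF φK (χ : ↥K → ℂ) :=
    fun χ => ⟨fun h x k => h x x.2 k (φK x k) rfl, fun h x hx k k' e => by
      rw [show k' = φK ⟨x, hx⟩ k from Subtype.ext e]; exact h _ _⟩
  have invC : ∀ ξ : Cfsg.IrrCharacter ↥C,
      (∀ x ∈ P, ∀ k k' : ↥C, (k' : G) = x * (k : G) * x⁻¹ → (ξ : ↥C → ℂ) k' = (ξ : ↥C → ℂ) k) ↔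
        Cfsg.Agent.Block.RelGal.InvF φC (ξ : ↥C → ℂ) :=
    fun χ => ⟨fun h x k => h x x.2 k (φC x k) rfl, fun h x hx k k' e => by
      rw [show k' = φC ⟨x, hx⟩ k from Subtype.ext e]; exact h _ _⟩
  choose f hfi hfs using fun χ : {χ : Cfsg.IrrCharacter ↥K // (∀ x ∈ P, ∀ k k' : ↥K,
      (k' : G) = x * (k : G) * x⁻¹ → (χ : ↥K → ℂ) k' = (χ : ↥K → ℂ) k)} =>
    S.corr_exists χ.1 ((invK _).mp χ.2)
  refine ⟨fun χ => ⟨f χ, (invC _).mpr (hfi χ)⟩, ⟨fun χ χ' h => Subtype.ext ?_, fun ξ => ?_⟩,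
    fun χ => ⟨fun ξ => ?_, ?_⟩⟩
  · have e : f χ = f χ' := congrArg Subtype.val h
    exact S.corr_inj ((invK _).mp χ.2) ((invK _).mp χ'.2) (hfi χ) (hfs χ).corr (e ▸ (hfs χ').corr)
  · obtain ⟨χ, hχi, hχs⟩ := S.corr_surj ξ.1 ((invC _).mp ξ.2)
    refine ⟨⟨χ, (invK _).mpr hχi⟩, Subtype.ext ?_⟩
    exact S.corr_unique hχi (hfi _) ((invC _).mp ξ.2) (hfs ⟨χ, (invK _).mpr hχi⟩).corr hχs.corr
  · obtain ⟨m, hm⟩ := Cfsg.Agent.Char.IsChar.classInner_nat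
      (Cfsg.Agent.Char.IsChar.comp (Subgroup.inclusion hCK)
        (Cfsg.Agent.Char.IsIrr.isCharacter χ.1.2)) (Cfsg.Agent.Char.IsIrr.isCharacter ξ.1.2)
    refine ⟨m, by rw [finsum_eq_sum_of_fintype]; exact hm, fun e => ?_, fun hne => ?_⟩
    · subst e
      obtain ⟨n, hn, hsgn⟩ := hfs χ
      rw [Nat.cast_injective (hm.symm.trans hn)]
      exact hsgn
    · by_contra hd
      exact hne (Subtype.ext (S.corr_unique ((invK _).mp χ.2) ((invC _).mp ξ.2) (hfi χ)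
        ⟨m, hm, hd⟩ (hfs χ).corr))
  · have deg : ∀ {H : Type _} [Group H] [Finite H] (η : Cfsg.IrrCharacter H),
        (η : H → ℂ) 1 = (Cfsg.charDegree (η : H → ℂ) : ℂ) := by
      intro H _ _ η
      obtain ⟨d, -, hd⟩ := Cfsg.Agent.Char.IsIrr.one_eq_pos η.2
      rw [Cfsg.charDegree, hd, Complex.natCast_re, Nat.floor_natCast]
    exact S.degree_congr ((invK _).mp χ.2) (hfi χ) (hfs χ) (deg χ.1) (deg (f χ))

end Cfsg.Agent.S4914
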