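import Mathlib
import Cfsg.Statements.S4923
import Cfsg.Agent.Lib.Char.Galois
import Cfsg.Agent.Lib.Char.Complete
import Cfsg.Agent.Lib.Recog.MaxClassFacts
import Cfsg.Agent.Lib.Transfer.MaxClass
-- import your own Cfsg.Agent.* helpers here

set_option autoImplicit false
open Cfsg
open scoped commutatorElement

namespace Cfsg.Agent.S4923

universe u

open IntermediateField in
theorem fixed_mem {ι : Type*} {N : ℕ} (hN : 0 < N) (s : ι → ℕ → ℂ) (z : ℕ → ℂ)
    (hs : ∀ i, ∃ (d : ℕ) (c : Fin d → ℂ), (∀ l, c l ^ N = 1) ∧ ∀ j, s i j = ∑ l, c l ^ j)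
    (hz : ∃ (d : ℕ) (c : Fin d → ℂ), (∀ l, c l ^ N = 1) ∧ ∀ j, z j = ∑ l, c l ^ j)
    (hfix : ∀ j : ℕ, j.Coprime N → (∀ i, s i j = s i 1) → z j = z 1) :
    z 1 ∈ adjoin ℚ (Set.range fun i => s i 1) := by
  haveI : NeZero N := ⟨hN.ne'⟩
  obtain ⟨ζ, hζ⟩ : ∃ ζ : ℂ, IsPrimitiveRoot ζ N := ⟨_, Complex.isPrimitiveRoot_exp N hN.ne'⟩
  let K : IntermediateField ℚ ℂ := adjoin ℚ {ζ}
  haveI : IsCyclotomicExtension {N} ℚ K := by
    change IsCyclotomicExtension {N} ℚ (adjoin ℚ {ζ}).toSubalgebra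
    rw [adjoin_simple_toSubalgebra_of_isAlgebraic
      (hζ.isIntegral hN).tower_top.isAlgebraic]
    exact hζ.adjoin_isCyclotomicExtension ℚ
  haveI := IsCyclotomicExtension.finiteDimensional {N} ℚ K
  haveI := IsCyclotomicExtension.isGalois {N} ℚ K
  have hroot : ∀ w : ℂ, w ^ N = 1 → w ∈ K := fun w hw => by
    obtain ⟨j, -, hj⟩ := hζ.eq_pow_of_pow_eq_one hw
    exact hj ▸ pow_mem (mem_adjoin_simple_self ℚ ζ) j
  have hmem : ∀ f : ℕ → ℂ,
      (∃ (d : ℕ) (c : Fin d → ℂ), (∀ l, c l ^ N = 1) ∧ ∀ j, f j = ∑ l, c l ^ j) → f 1 ∈ K := by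
    rintro f ⟨d, c, hc, hf⟩
    rw [hf]
    exact sum_mem fun l _ => by rw [pow_one]; exact hroot _ (hc l)
  have hτ : ∀ τ : K ≃ₐ[ℚ] K, ∃ k : ℕ, k.Coprime N ∧ ∀ (f : ℕ → ℂ)
      (hf : ∃ (d : ℕ) (c : Fin d → ℂ), (∀ l, c l ^ N = 1) ∧ ∀ j, f j = ∑ l, c l ^ j),
      ((τ ⟨f 1, hmem f hf⟩ : K) : ℂ) = f k := by
    intro τ
    have hζK : IsPrimitiveRoot (IsCyclotomicExtension.zeta N ℚ K) N :=
      IsCyclotomicExtension.zeta_spec N ℚ K
    refine ⟨(hζK.autToPow ℚ τ : ZMod N).val, ZMod.val_coe_unit_coprime _, fun f hf => ?_⟩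
    obtain ⟨d, c, hc, hfc⟩ := hf
    have hτ' : ∀ w : K, w ^ N = 1 → τ w = w ^ (hζK.autToPow ℚ τ : ZMod N).val := by
      intro w hw
      obtain ⟨i, -, rfl⟩ := hζK.eq_pow_of_pow_eq_one hw
      rw [map_pow, ← hζK.autToPow_spec ℚ τ, ← pow_mul, ← pow_mul, mul_comm]
    have e : (⟨f 1, hmem f ⟨d, c, hc, hfc⟩⟩ : K) = ∑ l, (⟨c l, hroot _ (hc l)⟩ : K) := by
      apply Subtype.val_injective
      show f 1 = K.val (∑ l, (⟨c l, hroot _ (hc l)⟩ : K))
      rw [map_sum, hfc]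
      exact Finset.sum_congr rfl fun l _ => pow_one _
    rw [e, map_sum, hfc]
    show K.val (∑ l, τ ⟨c l, hroot _ (hc l)⟩) = _
    rw [map_sum]
    refine Finset.sum_congr rfl fun l _ => ?_
    rw [hτ' _ (Subtype.ext (hc l)), map_pow]
    rfl
  let F' : IntermediateField ℚ K :=
    adjoin ℚ (Set.range fun i => (⟨s i 1, hmem _ (hs i)⟩ : K))
  have hzF : (⟨z 1, hmem _ hz⟩ : K) ∈ F' := by
    rw [← IsGalois.fixedField_fixingSubgroup F']
    rintro ⟨τ, hτF⟩
    obtain ⟨k, hk, hkf⟩ := hτ τ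
    refine Subtype.ext ?_
    show ((τ ⟨z 1, hmem _ hz⟩ : K) : ℂ) = z 1
    rw [hkf z hz]
    refine hfix k hk fun i => ?_
    rw [← hkf (s i) (hs i)]
    exact congrArg Subtype.val
      ((IntermediateField.mem_fixingSubgroup_iff F' τ).1 hτF _ (subset_adjoin ℚ _ ⟨i, rfl⟩))
  have hcoe : ∀ w : K, w ∈ F' → (w : ℂ) ∈ adjoin ℚ (Set.range fun i => s i 1) := by
    intro w hw
    induction hw using adjoin_induction with
    | mem x hx => obtain ⟨i, rfl⟩ := hx; exact subset_adjoin ℚ _ ⟨i, rfl⟩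
    | algebraMap r =>
      rw [eq_ratCast]
      show K.val (r : K) ∈ _
      rw [map_ratCast, ← eq_ratCast (algebraMap ℚ ℂ) r]
      exact IntermediateField.algebraMap_mem _ r
    | add a b _ _ ha hb => exact add_mem ha hb
    | inv a _ ha => exact inv_mem ha
    | mul a b _ _ ha hb => exact mul_mem ha hb
  exact hcoe _ hzF

theorem fix_adjoin (σ : ℂ ≃+* ℂ) (S : Set ℂ) (h : ∀ x ∈ S, σ x = x) {y : ℂ}
    (hy : y ∈ IntermediateField.adjoin ℚ S) : σ y = y := by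
  induction hy using IntermediateField.adjoin_induction with
  | mem x hx => exact h x hx
  | algebraMap r => exact map_ratCast σ r
  | add a b _ _ ha hb => rw [map_add, ha, hb]
  | inv a _ ha => rw [map_inv₀, ha]
  | mul a b _ _ ha hb => rw [map_mul, ha, hb]

/-- The exponents `-1` and `-1 + 2 ^ (m - 1)` modulo `2 ^ m`. -/
theorem k_facts {m k : ℕ} (hm : 2 ≤ m) (hk : k = 2 ^ m - 1 ∨ k = 2 ^ (m - 1) - 1) :
    Odd k ∧ 2 ^ m ∣ 2 * (k + 1) ∧ k * k ≡ 1 [MOD 2 ^ m] ∧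
      (3 ≤ m → ∃ q, k - 1 = 2 * q ∧ Odd q) := by
  obtain ⟨l, rfl⟩ : ∃ l, m = l + 2 := ⟨m - 2, by omega⟩
  have h1 : 1 ≤ 2 ^ l := Nat.one_le_two_pow
  have e1 : 2 ^ (l + 2) = 4 * 2 ^ l := by ring
  have e2 : 2 ^ (l + 2 - 1) = 2 * 2 ^ l := by rw [show l + 2 - 1 = l + 1 from rfl]; ring
  rw [e1, e2] at hk
  have hodd : 3 ≤ l + 2 → Even (2 ^ l) := fun h => Nat.even_pow.2 ⟨even_two, by omega⟩
  rcases hk with rfl | rfl
  · refine ⟨⟨2 * 2 ^ l - 1, by omega⟩, ⟨2, by rw [e1]; omega⟩,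
      ((Nat.modEq_iff_dvd' (Nat.mul_pos (by omega) (by omega))).2 ?_).symm,
      fun h => ⟨2 * 2 ^ l - 1, by omega, ⟨2 ^ l - 1, by omega⟩⟩⟩
    refine ⟨4 * 2 ^ l - 2, ?_⟩
    rw [e1]
    zify [show 1 ≤ (4 * 2 ^ l - 1) * (4 * 2 ^ l - 1) from Nat.mul_pos (by omega) (by omega),
      show 1 ≤ 4 * 2 ^ l by omega, show 2 ≤ 4 * 2 ^ l by omega]
    ring
  · refine ⟨⟨2 ^ l - 1, by omega⟩, ⟨1, by rw [e1]; omega⟩,
      ((Nat.modEq_iff_dvd' (Nat.mul_pos (by omega) (by omega))).2 ?_).symm,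
      fun h => ⟨2 ^ l - 1, by omega, Nat.Even.sub_odd h1 (hodd h) odd_one⟩⟩
    refine ⟨2 ^ l - 1, ?_⟩
    rw [e1]
    zify [show 1 ≤ (2 * 2 ^ l - 1) * (2 * 2 ^ l - 1) from Nat.mul_pos (by omega) (by omega),
      show 1 ≤ 2 * 2 ^ l by omega, h1]
    ring

theorem root_pair {ζ : ℂ} {m k : ℕ} (hζ : ζ ^ 2 ^ m = 1) (hk : 2 ^ m ∣ 2 * (k + 1)) {j : ℕ}
    (hj : Odd j) (h : ζ ^ j + (ζ ^ k) ^ j = ζ + ζ ^ k) : ζ ^ j = ζ ∨ ζ ^ j = ζ ^ k := by
  obtain ⟨t, rfl⟩ := hj
  have hε : (ζ ^ (k + 1)) ^ 2 = 1 := by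
    obtain ⟨c, hc⟩ := hk
    rw [← pow_mul, mul_comm, hc, pow_mul, hζ, one_pow]
  have hprod : ζ ^ (2 * t + 1) * (ζ ^ k) ^ (2 * t + 1) = ζ * ζ ^ k := by
    rw [← mul_pow, ← pow_succ', pow_succ, pow_mul, hε, one_pow, one_mul]
  have : (ζ ^ (2 * t + 1) - ζ) * (ζ ^ (2 * t + 1) - ζ ^ k) = 0 := by
    linear_combination (ζ ^ (2 * t + 1)) * h - hprod
  rcases mul_eq_zero.1 this with h' | h'
  · exact Or.inl (sub_eq_zero.1 h')
  · exact Or.inr (sub_eq_zero.1 h')

variable {G : Type u} [Group G]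

theorem conj_pow_pow {x g : G} {j : ℕ} (h : x * g * x⁻¹ = g ^ j) :
    ∀ l : ℕ, x ^ l * g * (x ^ l)⁻¹ = g ^ (j ^ l) := by
  intro l
  induction l with
  | zero => simp
  | succ l ih =>
    rw [pow_succ' x, mul_inv_rev, show x * x ^ l * g * ((x ^ l)⁻¹ * x⁻¹) =
      x * (x ^ l * g * (x ^ l)⁻¹) * x⁻¹ by group, ih, ← conj_pow, h, ← pow_mul, pow_succ' j]

theorem two_part_conj [Finite G] {x g : G} {m j : ℕ} (hm : 1 ≤ m) (hg : g ^ 2 ^ m = 1)
    (hj : Odd j) (h : x * g * x⁻¹ = g ^ j) :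
    ∃ y : G, IsPGroup 2 (Subgroup.zpowers y) ∧ y * g * y⁻¹ = g ^ j := by
  obtain ⟨a, q, hq, ho⟩ := Nat.exists_eq_two_pow_mul_odd (orderOf_pos x).ne'
  have hco : Nat.Coprime (2 ^ (a + m)) q :=
    Nat.Coprime.pow_left _ (Nat.coprime_two_left.2 hq)
  obtain ⟨l, hl1, hl0⟩ := Nat.chineseRemainder hco 1 0
  have hl : 1 ≤ l := by
    rcases Nat.eq_zero_or_pos l with rfl | hl
    · have := (Nat.modEq_iff_dvd' (Nat.zero_le 1)).1 hl1
      simp at this
      omega
    · exact hl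
  refine ⟨x ^ l, IsPGroup.of_card (n := (orderOf (x ^ l)).factorization 2) ?_, ?_⟩
  · obtain ⟨b, hb⟩ := Nat.modEq_zero_iff_dvd.1 hl0
    have hd : orderOf (x ^ l) ∣ 2 ^ a := orderOf_dvd_of_pow_eq_one (by
      rw [← pow_mul, hb, show q * b * 2 ^ a = (2 ^ a * q) * b by ring, ← ho, pow_mul,
        pow_orderOf_eq_one, one_pow])
    obtain ⟨c, -, hc⟩ := (Nat.dvd_prime_pow Nat.prime_two).1 hd
    rw [Nat.card_zpowers, hc, Nat.prime_two.factorization_pow, Finsupp.single_eq_same]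
  · rw [conj_pow_pow h]
    refine pow_eq_pow_iff_modEq.2 (Nat.ModEq.of_dvd (orderOf_dvd_of_pow_eq_one hg) ?_)
    obtain ⟨c, hc⟩ := (Nat.modEq_iff_dvd' hl).1 hl1.symm
    obtain ⟨e, he⟩ : Nat.totient (2 ^ m) ∣ l - 1 := by
      rw [Nat.totient_prime_pow Nat.prime_two hm, hc]
      exact Dvd.dvd.mul_right (by
        rw [show (2 - 1 : ℕ) = 1 from rfl, mul_one]
        exact pow_dvd_pow 2 (by omega)) _
    rw [show l = (l - 1) + 1 by omega, pow_succ, he, pow_mul]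
    simpa using ((Nat.ModEq.pow_totient (Nat.Coprime.pow_right m
      (Nat.coprime_two_right.2 hj))).pow e).mul_right j

theorem index_commutator_equiv {A B : Type*} [Group A] [Group B] (f : A ≃* B) :
    (commutator A).index = (commutator B).index := by
  have : (commutator A).map f.toMonoidHom = commutator B := by
    rw [commutator_def, commutator_def, Subgroup.map_commutator,
      Subgroup.map_top_of_surjective _ f.surjective]
  rw [← this]
  exact (Subgroup.index_map_of_bijective f.bijective _).symm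

theorem forward [Finite G] (P : Sylow 2 G) {m : ℕ} (hm : 2 ≤ m)
    (hP : Nat.card P = 2 ^ (m + 1)) {ζ : ℂ} (hζ : IsPrimitiveRoot ζ (2 ^ m))
    (hi : (commutator ↥P).index = 4) :
    ∃ g : G, g ∈ (P : Subgroup G) ∧ 2 ∣ (Subgroup.centralizer ({g} : Set G)).index ∧
      ∃ k, (k = 2 ^ m - 1 ∨ k = 2 ^ (m - 1) - 1) ∧
        IntermediateField.adjoin ℚ {z : ℂ | ∃ χ : Cfsg.IrrCharacter G, (χ : G → ℂ) g = z} =
          IntermediateField.adjoin ℚ ({ζ + ζ ^ k} : Set ℂ) := by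
  haveI : Fact (Nat.Prime 2) := ⟨Nat.prime_two⟩
  obtain ⟨a, b, hab, hs⟩ := Cfsg.Agent.MaxClass.exists_shape (S := P) (n := m + 1) (by omega) hP hi
  rw [Nat.add_sub_cancel] at hab hs
  obtain ⟨k, hk, hbk⟩ : ∃ k, (k = 2 ^ m - 1 ∨ k = 2 ^ (m - 1) - 1) ∧ b * a * b⁻¹ = a ^ k := by
    have hinv : a⁻¹ = a ^ (2 ^ m - 1) := inv_eq_of_mul_eq_one_right (by
      rw [← pow_succ', Nat.sub_add_cancel Nat.one_le_two_pow, ← hab.ord, pow_orderOf_eq_one])
    rcases hs with ⟨-, hc⟩ | ⟨-, hc⟩ | ⟨-, -, hc⟩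
    · exact ⟨_, Or.inl rfl, hc.trans hinv⟩
    · exact ⟨_, Or.inl rfl, hc.trans hinv⟩
    · exact ⟨_, Or.inr rfl, hc⟩
  obtain ⟨hkodd, hk2, hkk, -⟩ := k_facts hm hk
  set g : G := (a : G) with hgdef
  have hord : orderOf g = 2 ^ m := by rw [hgdef, Subgroup.orderOf_coe, hab.ord]
  have hg1 : g ^ 2 ^ m = 1 := hord ▸ pow_orderOf_eq_one g
  have hbg : (b : G) * g * (b : G)⁻¹ = g ^ k := by
    simpa using congrArg Subtype.val hbk
  have hgk2 : g ^ (k * k) = g := by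
    conv_rhs => rw [← pow_one g]
    exact pow_eq_pow_iff_modEq.2 (hord ▸ hkk)
  have htr : ∀ i j : ℕ, ζ ^ i = ζ ^ j ↔ g ^ i = g ^ j := fun i j => by
    rw [(isOfFinOrder_of_finite g).pow_eq_pow_iff_modEq, hord,
      (isOfFinOrder_iff_pow_eq_one.2 ⟨_, Nat.two_pow_pos m, hζ.pow_eq_one⟩).pow_eq_pow_iff_modEq,
      ← hζ.eq_orderOf]
  refine ⟨g, a.2, ?_, k, hk, ?_⟩
  · -- a central element of a Sylow subgroup has order at most two
    by_contra hodd
    have hdvd : 2 ^ (m + 1) ∣ Nat.card (Subgroup.centralizer ({g} : Set G)) := by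
      have h1 : 2 ^ (m + 1) ∣ Nat.card G := hP ▸ Subgroup.card_subgroup_dvd_card (P : Subgroup G)
      rw [← Subgroup.card_mul_index (Subgroup.centralizer ({g} : Set G))] at h1
      exact (Nat.Coprime.pow_left _ (Nat.prime_two.coprime_iff_not_dvd.2 hodd)).dvd_of_dvd_mul_right h1
    obtain ⟨K, hK⟩ := Sylow.exists_subgroup_card_pow_prime 2 hdvd
    set K' := K.map (Subgroup.centralizer ({g} : Set G)).subtype with hK'
    have hKle : K' ≤ Subgroup.centralizer ({g} : Set G) := Subgroup.map_subtype_le K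
    have hKcard : Nat.card K' = 2 ^ (m + 1) := by
      rw [hK', Subgroup.card_map_of_injective (Subgroup.subtype_injective _), hK]
    have hgc : ∀ u ∈ K', u * g = g * u := fun u hu => Subgroup.mem_centralizer_singleton_iff.1 (hKle hu)
    have hsup : IsPGroup 2 (K' ⊔ Subgroup.zpowers g : Subgroup G) := by
      refine (IsPGroup.of_card hKcard).to_sup_of_normal_right'
        (IsPGroup.of_card (n := m) (by rw [Nat.card_zpowers, hord])) fun u hu => ?_
      refine Subgroup.centralizer_le_normalizer _ (Subgroup.mem_centralizer_iff.2 fun z hz => ?_)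
      obtain ⟨i, rfl⟩ := Subgroup.mem_zpowers_iff.1 hz
      exact ((show Commute g u from (hgc u hu).symm).zpow_left i).eq
    obtain ⟨Q, hQ⟩ := hsup.exists_le_sylow
    have hQcard : Nat.card Q = 2 ^ (m + 1) := by
      rw [← hP]; exact Nat.card_congr (Q.equiv P).toEquiv
    have hQK : K' = (Q : Subgroup G) :=
      Subgroup.eq_of_le_of_card_ge (le_sup_left.trans hQ) (le_of_eq (hQcard.trans hKcard.symm))
    have hgQ : g ∈ (Q : Subgroup G) := hQ (Subgroup.mem_sup_right (Subgroup.mem_zpowers g))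
    have hz : (Q.equiv P) ⟨g, hgQ⟩ ∈ Subgroup.center P := by
      refine Subgroup.mem_center_iff.2 fun u => ?_
      obtain ⟨u, rfl⟩ := (Q.equiv P).surjective u
      rw [← map_mul, ← map_mul]
      exact congrArg _ (Subtype.ext (hgc u (hQK.ge u.2)))
    have hdv := orderOf_dvd_natCard (⟨_, hz⟩ : Subgroup.center P)
    rw [hab.card_center hm hs, ← Subgroup.orderOf_coe, MulEquiv.orderOf_eq,
      Subgroup.orderOf_mk, hord] at hdv
    have : 2 ^ 2 ≤ 2 := (Nat.pow_le_pow_right two_pos hm).trans (Nat.le_of_dvd two_pos hdv)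
    omega
  · have hsroot : ∃ (d : ℕ) (c : Fin d → ℂ), (∀ l, c l ^ 2 ^ m = 1) ∧
        ∀ j, ζ ^ j + (ζ ^ k) ^ j = ∑ l, c l ^ j :=
      ⟨2, ![ζ, ζ ^ k], fun l => by
        fin_cases l
        · exact hζ.pow_eq_one
        · show (ζ ^ k) ^ 2 ^ m = 1
          rw [← pow_mul, mul_comm, pow_mul, hζ.pow_eq_one, one_pow],
        fun j => by simp [Fin.sum_univ_two]⟩
    have hχroot : ∀ χ : Cfsg.IrrCharacter G, ∃ (d : ℕ) (c : Fin d → ℂ), (∀ l, c l ^ 2 ^ m = 1) ∧
        ∀ j, (χ : G → ℂ) (g ^ j) = ∑ l, c l ^ j := by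
      intro χ
      obtain ⟨d, ρ, hρ⟩ := Cfsg.Agent.Char.IsIrr.isCharacter χ.2
      obtain ⟨bs, c, -, hc, hck⟩ := Cfsg.Agent.Char.exists_rep_eigenbasis ρ g
      exact ⟨_, c, fun l => by rw [← hord]; exact hc l, fun j => by rw [← hck, ← hρ]⟩
    have hauto : ∀ j : ℕ, Odd j → (IsConj g (g ^ j) ↔ g ^ j = g ^ 1 ∨ g ^ j = g ^ k) := by
      intro j hj
      refine ⟨fun hc => ?_, fun hc => ?_⟩
      · obtain ⟨x, hx⟩ := isConj_iff.1 hc
        obtain ⟨y, hy, hyg⟩ := two_part_conj (by omega) hg1 hj hx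
        set N := Subgroup.normalizer ((Subgroup.zpowers g : Subgroup G) : Set G) with hN
        have hnorm : ∀ (t : G) (i : ℕ), Odd i → t * g * t⁻¹ = g ^ i → t ∈ N := by
          intro t i hi ht
          obtain ⟨i', hi'⟩ : ∃ i' : ℕ, (g ^ i) ^ i' = g := by
            obtain ⟨i', hi'⟩ := Nat.exists_mul_mod_eq_one_of_coprime
              (Nat.Coprime.pow_right m (Nat.coprime_two_right.2 hi))
              (Nat.one_lt_two_pow (by omega))
            exact ⟨i', by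
              rw [← pow_mul]
              conv_rhs => rw [← pow_one g]
              rw [← pow_mod_orderOf, hord, hi'.2]⟩
          have : (Subgroup.zpowers g).map (MulAut.conj t).toMonoidHom = Subgroup.zpowers g := by
            rw [MonoidHom.map_zpowers]
            show Subgroup.zpowers (t * g * t⁻¹) = _
            rw [ht]
            exact le_antisymm (Subgroup.zpowers_le.2 (pow_mem (Subgroup.mem_zpowers g) i))
              (Subgroup.zpowers_le.2 (by
                have h' := pow_mem (Subgroup.mem_zpowers (g ^ i)) i'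
                rwa [hi'] at h'))
          exact Subgroup.mem_normalizer_iff_map_conj_eq.2 this
        have hPN : (P : Subgroup G) ≤ N := by
          intro u hu
          obtain ⟨i, hi⟩ | ⟨i, hi⟩ := hab.cases ⟨u, hu⟩
          · refine hnorm u 1 odd_one ?_
            have hu' : u = g ^ i := by simpa [hgdef] using congrArg Subtype.val hi
            rw [hu', pow_one]
            group
          · refine hnorm u k hkodd ?_
            have hu' : u = (b : G) * g ^ i := by simpa [hgdef] using congrArg Subtype.val hi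
            rw [hu', ← hbg]
            group
        have hyN : y ∈ N := hnorm y j hj hyg
        obtain ⟨Q, hQ⟩ :=
          (IsPGroup.comap_subtype hy (K := N)).exists_le_sylow
        obtain ⟨t, ht⟩ := MulAction.exists_smul_eq N Q (P.subtype hPN)
        have hu : (t : G) * y * (t : G)⁻¹ ∈ (P : Subgroup G) := by
          have hm' : t * ⟨y, hyN⟩ * t⁻¹ ∈ t • Q :=
            Subgroup.smul_mem_pointwise_smul _ (MulAut.conj t) _
              (hQ (Subgroup.mem_zpowers y))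
          rw [ht] at hm'
          exact hm'
        obtain ⟨i, hi⟩ : ∃ i : ℤ, (t : G)⁻¹ * g * t = g ^ i := by
          obtain ⟨i, hi⟩ := Subgroup.mem_zpowers_iff.1
            ((Subgroup.mem_normalizer_iff''.1 t.2 g).1 (Subgroup.mem_zpowers g))
          exact ⟨i, hi.symm⟩
        have hconj : ((t : G) * y * (t : G)⁻¹) * g * ((t : G) * y * (t : G)⁻¹)⁻¹ = g ^ j := by
          have h1 : (t : G) * g ^ i * (t : G)⁻¹ = g := by rw [← hi]; group
          calc ((t : G) * y * (t : G)⁻¹) * g * ((t : G) * y * (t : G)⁻¹)⁻¹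
              = (t : G) * (y * ((t : G)⁻¹ * g * t) * y⁻¹) * (t : G)⁻¹ := by group
            _ = (t : G) * (g ^ i) ^ j * (t : G)⁻¹ := by
                rw [hi, ← conj_zpow, hyg, ← zpow_natCast, ← zpow_mul, mul_comm, zpow_mul,
                  zpow_natCast]
            _ = g ^ j := by rw [← conj_pow, h1]
        obtain ⟨l, hl⟩ | ⟨l, hl⟩ := hab.cases ⟨_, hu⟩
        · left
          have hu' : (t : G) * y * (t : G)⁻¹ = g ^ l := by
            simpa [hgdef] using congrArg Subtype.val hl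
          rw [← hconj, hu', pow_one]
          group
        · right
          have hu' : (t : G) * y * (t : G)⁻¹ = (b : G) * g ^ l := by
            simpa [hgdef] using congrArg Subtype.val hl
          rw [← hconj, hu', ← hbg]
          group
      · rcases hc with h | h
        · rw [h, pow_one]
        · rw [h]; exact isConj_iff.2 ⟨b, hbg⟩
    have hodd_of : ∀ j : ℕ, j.Coprime (2 ^ m) → Odd j := fun j hj =>
      Nat.coprime_two_right.1 ((Nat.coprime_pow_right_iff (by omega) _ _).1 hj)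
    apply le_antisymm
    · rw [IntermediateField.adjoin_le_iff]
      rintro _ ⟨χ, rfl⟩
      have h := fixed_mem (ι := Unit) (N := 2 ^ m) (Nat.two_pow_pos m)
        (fun _ j => ζ ^ j + (ζ ^ k) ^ j) (fun j => (χ : G → ℂ) (g ^ j)) (fun _ => hsroot)
        (hχroot χ) fun j hj hs' => by
          have hp := root_pair hζ.pow_eq_one hk2 (hodd_of j hj) (by simpa using hs' ())
          refine ((Cfsg.Agent.Char.isConj_iff_irr _ _).1 ?_ χ).symm
          rw [pow_one]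
          refine (hauto j (hodd_of j hj)).2 ?_
          rw [← htr, ← htr, pow_one]
          exact hp
      simpa [Set.range_const] using h
    · rw [IntermediateField.adjoin_le_iff, Set.singleton_subset_iff]
      have h := fixed_mem (N := 2 ^ m) (Nat.two_pow_pos m)
        (fun (χ : Cfsg.IrrCharacter G) j => (χ : G → ℂ) (g ^ j)) (fun j => ζ ^ j + (ζ ^ k) ^ j)
        hχroot hsroot fun j hj hs' => by
          have hc : IsConj g (g ^ j) :=
            (Cfsg.Agent.Char.isConj_iff_irr _ _).2 fun χ => by simpa using (hs' χ).symm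
          have h1 := (hauto j (hodd_of j hj)).1 hc
          rw [← htr, ← htr] at h1
          rcases h1 with h1 | h1
          · rw [← pow_mul ζ k j, mul_comm k j, pow_mul, h1]
            simp
          · have hkk' : ζ ^ (k * k) = ζ ^ 1 := (htr _ _).2 (by rw [hgk2, pow_one])
            rw [← pow_mul ζ k j, mul_comm k j, pow_mul, h1, ← pow_mul, hkk']
            simp [add_comm]
      simpa [Set.range, pow_one] using h

theorem backward [Finite G] (P : Sylow 2 G) {m : ℕ} (hm : 3 ≤ m)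
    (hP : Nat.card P = 2 ^ (m + 1)) {ζ : ℂ} (hζ : IsPrimitiveRoot ζ (2 ^ m))
    (hna : ¬ IsMulCommutative (P : Subgroup G)) {g : G} (hg : g ∈ (P : Subgroup G))
    {k : ℕ} (hk : k = 2 ^ m - 1 ∨ k = 2 ^ (m - 1) - 1)
    (hE : IntermediateField.adjoin ℚ {z : ℂ | ∃ χ : Cfsg.IrrCharacter G, (χ : G → ℂ) g = z} =
          IntermediateField.adjoin ℚ ({ζ + ζ ^ k} : Set ℂ)) :
    (commutator ↥P).index ∣ 4 := by
  haveI : Fact (Nat.Prime 2) := ⟨Nat.prime_two⟩
  obtain ⟨hkodd, hk2, hkk, hkq⟩ := k_facts (by omega) hk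
  obtain ⟨q, hq, hqodd⟩ := hkq hm
  obtain ⟨l, rfl⟩ : ∃ l, m = l + 3 := ⟨m - 3, by omega⟩
  have hk1 : 1 ≤ k := hkodd.pos
  have hdvd : orderOf g ∣ 2 ^ (l + 3 + 1) := by
    have h := orderOf_dvd_natCard (⟨g, hg⟩ : (P : Subgroup G))
    rw [Subgroup.orderOf_mk] at h
    exact hP ▸ h
  obtain ⟨i, hi, hig⟩ := (Nat.dvd_prime_pow Nat.prime_two).1 hdvd
  have hle : i ≤ l + 3 := by
    by_contra hlt
    refine hna ?_
    have heq : Subgroup.zpowers g = (P : Subgroup G) :=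
      Subgroup.eq_of_le_of_card_ge (Subgroup.zpowers_le.2 hg)
        (le_of_eq (by rw [hP, Nat.card_zpowers, hig, show i = l + 3 + 1 by omega]))
    rw [← heq]
    infer_instance
  have hgm : g ^ 2 ^ (l + 3) = 1 :=
    orderOf_dvd_iff_pow_eq_one.1 (hig ▸ pow_dvd_pow 2 hle)
  have hfixed : ∀ j : ℕ, j.Coprime (2 ^ (l + 3)) → ∀ τ : ℂ ≃+* ℂ,
      (∀ z : ℂ, z ^ 2 ^ (l + 3) = 1 → τ z = z ^ j) → ∀ χ : Cfsg.IrrCharacter G,
      τ ((χ : G → ℂ) g) = (χ : G → ℂ) (g ^ j) := fun j _ τ hτ χ =>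
    Cfsg.Agent.Char.ringAut_character_eq_pow (Cfsg.Agent.Char.IsIrr.isCharacter χ.2) τ hτ
      (hig ▸ pow_dvd_pow 2 hle)
  have hnegone : ζ ^ 2 ^ (l + 2) = -1 := by
    refine IsPrimitiveRoot.eq_neg_one_of_two_right (hζ.pow (Nat.two_pow_pos _) ?_)
    rw [← pow_succ]
  have hne : ζ + ζ ^ k ≠ 0 := fun h => by
    have h1 : ζ ^ (k - 1) = ζ ^ 2 ^ (l + 2) := by
      have h2 : ζ * (1 + ζ ^ (k - 1)) = 0 := by
        rw [mul_add, ← pow_succ', Nat.sub_add_cancel hk1, mul_one, h]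
      rw [hnegone]
      linear_combination (mul_eq_zero.1 h2).resolve_left (hζ.ne_zero (by simp))
    have hmod : k - 1 ≡ 2 ^ (l + 2) [MOD 2 ^ (l + 3)] := by
      have := (isOfFinOrder_iff_pow_eq_one.2 ⟨_, Nat.two_pow_pos _,
        hζ.pow_eq_one⟩).pow_eq_pow_iff_modEq.1 h1
      rwa [← hζ.eq_orderOf] at this
    have h4 : k - 1 ≡ 0 [MOD 4] := (hmod.of_dvd ⟨2 ^ (l + 1), by ring⟩).trans
      (Nat.modEq_zero_iff_dvd.2 ⟨2 ^ l, by ring⟩)
    obtain ⟨c, hc⟩ := Nat.modEq_zero_iff_dvd.1 h4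
    obtain ⟨r, rfl⟩ := hqodd
    omega
  have hio : i = l + 3 := by
    by_contra hne'
    have hcj : Nat.Coprime (1 + 2 ^ (l + 2)) (2 ^ (l + 3)) :=
      Nat.Coprime.pow_right _ (Nat.coprime_two_right.2
        ⟨2 ^ (l + 1), by rw [pow_succ' 2 (l + 1), Nat.add_comm]⟩)
    obtain ⟨τ, hτ⟩ := Cfsg.Agent.Char.exists_ringAut_pow (2 ^ (l + 3)) (1 + 2 ^ (l + 2))
      (Nat.two_pow_pos _) hcj
    have hgj : g ^ (1 + 2 ^ (l + 2)) = g := by
      rw [pow_add, pow_one, orderOf_dvd_iff_pow_eq_one.1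
        (hig ▸ pow_dvd_pow 2 (show i ≤ l + 2 by omega)), mul_one]
    have hs : τ (ζ + ζ ^ k) = ζ + ζ ^ k := by
      refine fix_adjoin τ {z : ℂ | ∃ χ : Cfsg.IrrCharacter G, (χ : G → ℂ) g = z} ?_ ?_
      swap
      · rw [hE]
        exact IntermediateField.mem_adjoin_simple_self ℚ (ζ + ζ ^ k)
      rintro _ ⟨χ, rfl⟩
      rw [hfixed (1 + 2 ^ (l + 2)) hcj τ hτ χ, hgj]
    rw [map_add, map_pow, hτ ζ hζ.pow_eq_one, pow_add, pow_one, hnegone, mul_neg_one,
      hkodd.neg_pow] at hs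
    exact hne (by linear_combination -(1 / 2 : ℂ) * hs)
  subst hio
  obtain ⟨τ, hτ⟩ := Cfsg.Agent.Char.exists_ringAut_pow (2 ^ (l + 3)) k
    (Nat.two_pow_pos _) (Nat.Coprime.pow_right _ (Nat.coprime_two_right.2 hkodd))
  have hkk' : ζ ^ (k * k) = ζ := by
    conv_rhs => rw [← pow_one ζ]
    exact (isOfFinOrder_iff_pow_eq_one.2 ⟨_, Nat.two_pow_pos _,
      hζ.pow_eq_one⟩).pow_eq_pow_iff_modEq.2 (hζ.eq_orderOf ▸ hkk)
  have hs : τ (ζ + ζ ^ k) = ζ + ζ ^ k := by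
    rw [map_add, map_pow, hτ ζ hζ.pow_eq_one, ← pow_mul, hkk', add_comm]
  have hconj : IsConj g (g ^ k) := (Cfsg.Agent.Char.isConj_iff_irr _ _).2 fun χ => by
    rw [← hfixed k (Nat.Coprime.pow_right _ (Nat.coprime_two_right.2 hkodd)) τ hτ]
    have hmem : (χ : G → ℂ) g ∈ IntermediateField.adjoin ℚ ({ζ + ζ ^ k} : Set ℂ) := by
      rw [← hE]
      exact IntermediateField.subset_adjoin ℚ _ ⟨χ, rfl⟩
    refine (fix_adjoin τ _ ?_ hmem).symm
    rintro _ rfl
    exact hs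
  obtain ⟨x, hx⟩ := isConj_iff.1 hconj
  obtain ⟨y, hy, hyg⟩ := two_part_conj (by omega) hgm hkodd hx
  have hgk2 : g ^ (k * k) = g := by
    conv_rhs => rw [← pow_one g]
    exact pow_eq_pow_iff_modEq.2 (hig ▸ hkk)
  have hmap : (Subgroup.zpowers g).map (MulAut.conj y).toMonoidHom = Subgroup.zpowers g := by
    rw [MonoidHom.map_zpowers]
    show Subgroup.zpowers (y * g * y⁻¹) = _
    rw [hyg]
    exact le_antisymm (Subgroup.zpowers_le.2 (pow_mem (Subgroup.mem_zpowers g) k))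
      (Subgroup.zpowers_le.2 (Subgroup.mem_zpowers_iff.2 ⟨k, by
        rw [zpow_natCast, ← pow_mul, hgk2]⟩))
  have hsup : IsPGroup 2 (Subgroup.zpowers y ⊔ Subgroup.zpowers g : Subgroup G) :=
    hy.to_sup_of_normal_right' (IsPGroup.of_card (n := l + 3) (by rw [Nat.card_zpowers, hig]))
      (Subgroup.zpowers_le.2 (Subgroup.mem_normalizer_iff_map_conj_eq.2 hmap))
  obtain ⟨Q, hQ⟩ := hsup.exists_le_sylow
  let gQ : Q := ⟨g, hQ (Subgroup.mem_sup_right (Subgroup.mem_zpowers g))⟩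
  let yQ : Q := ⟨y, hQ (Subgroup.mem_sup_left (Subgroup.mem_zpowers y))⟩
  have hc : ⁅yQ, gQ⁆ = gQ ^ (k - 1) := Subtype.ext (by
    show ⁅y, g⁆ = g ^ (k - 1)
    rw [commutatorElement_def, hyg, mul_inv_eq_iff_eq_mul, ← pow_succ,
      Nat.sub_add_cancel hk1])
  have hoc : orderOf (gQ ^ (k - 1)) = 2 ^ (l + 2) := by
    rw [orderOf_pow, show orderOf gQ = 2 ^ (l + 3) by
      rw [Subgroup.orderOf_mk, hig], hq, pow_succ' 2 (l + 2), Nat.gcd_mul_left,
      (Nat.Coprime.pow_left (l + 2) (Nat.coprime_two_left.2 hqodd)).gcd_eq_one, mul_one,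
      Nat.mul_div_cancel_left _ two_pos]
  have hcard : 2 ^ (l + 2) ∣ Nat.card (commutator Q) := by
    rw [← hoc, ← hc]
    exact Subgroup.orderOf_dvd_natCard _
      (Subgroup.commutator_mem_commutator (Subgroup.mem_top _) (Subgroup.mem_top _))
  refine (dvd_of_eq (index_commutator_equiv (P.equiv Q))).trans ?_
  obtain ⟨c, hc'⟩ := hcard
  have hmul := Subgroup.card_mul_index (commutator Q)
  rw [Nat.card_congr (Q.equiv P).toEquiv, hP, hc'] at hmul
  have e : 2 ^ (l + 3 + 1) = 2 ^ (l + 2) * 4 := by ring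
  rw [e, mul_assoc] at hmul
  exact ⟨c, by rw [← Nat.eq_of_mul_eq_mul_left (Nat.two_pow_pos _) hmul, mul_comm]⟩

/-- Let G be a finite group with Sylow 2-subgroup P of order 2^n ≥ 8, and let ζ be a primitive 2^(n−1)-th root of unity in ℂ. Then the commutator subgroup of P has index 4 in P if and only if there is an element g of P whose conjugacy class in G has even size and such that the field generated over ℚ by the values at g of all irreducible complex characters of G equals ℚ(ζ + ζ⁻¹) or ℚ(ζ − ζ⁻¹). -/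
theorem result {G : Type*} [Group G] [Finite G] (P : Sylow 2 G) (n : ℕ) (hn : 3 ≤ n) (hP : Nat.card P = 2 ^ n) (ζ : ℂ) (hζ : IsPrimitiveRoot ζ (2 ^ (n - 1))) :
    (commutator ↥P).index = 4 ↔
      ∃ g : G, g ∈ (P : Subgroup G) ∧ 2 ∣ (Subgroup.centralizer ({g} : Set G)).index ∧
        (IntermediateField.adjoin ℚ {z : ℂ | ∃ χ : Cfsg.IrrCharacter G, (χ : G → ℂ) g = z} = IntermediateField.adjoin ℚ ({ζ + ζ⁻¹} : Set ℂ) ∨
          IntermediateField.adjoin ℚ {z : ℂ | ∃ χ : Cfsg.IrrCharacter G, (χ : G → ℂ) g = z} = IntermediateField.adjoin ℚ ({ζ - ζ⁻¹} : Set ℂ)) := by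
  haveI : Fact (Nat.Prime 2) := ⟨Nat.prime_two⟩
  obtain ⟨m, rfl⟩ : ∃ m, n = m + 1 := ⟨n - 1, by omega⟩
  rw [Nat.add_sub_cancel] at hζ
  have hm : 2 ≤ m := by omega
  have hhalf : ζ ^ 2 ^ (m - 1) = -1 := by
    refine IsPrimitiveRoot.eq_neg_one_of_two_right (hζ.pow (Nat.two_pow_pos _) ?_)
    rw [← pow_succ, Nat.sub_add_cancel (by omega : 1 ≤ m)]
  have hs1 : ζ + ζ ^ (2 ^ m - 1) = ζ + ζ⁻¹ := by
    rw [show ζ ^ (2 ^ m - 1) = ζ⁻¹ from eq_inv_of_mul_eq_one_left (by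
      rw [← pow_succ, Nat.sub_add_cancel Nat.one_le_two_pow, hζ.pow_eq_one])]
  have hs2 : ζ + ζ ^ (2 ^ (m - 1) - 1) = ζ - ζ⁻¹ := by
    have hz : ζ ≠ 0 := hζ.ne_zero (by simp)
    have h : ζ ^ (2 ^ (m - 1) - 1) * ζ = -1 := by
      rw [← pow_succ, Nat.sub_add_cancel Nat.one_le_two_pow, hhalf]
    rw [show ζ ^ (2 ^ (m - 1) - 1) = -ζ⁻¹ by
      rw [← mul_inv_cancel_right₀ hz (ζ ^ (2 ^ (m - 1) - 1)), h, neg_one_mul], sub_eq_add_neg]
  constructor
  · intro hi
    obtain ⟨g, hg, heven, k, hk, hE⟩ := forward P hm hP hζ hi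
    refine ⟨g, hg, heven, ?_⟩
    rcases hk with rfl | rfl
    · exact Or.inl (by rw [hE, hs1])
    · exact Or.inr (by rw [hE, hs2])
  · rintro ⟨g, hg, heven, hE⟩
    have hna : ¬ IsMulCommutative (P : Subgroup G) := fun hab => by
      have hle : (P : Subgroup G) ≤ Subgroup.centralizer ({g} : Set G) := fun u hu =>
        Subgroup.mem_centralizer_singleton_iff.2
          (congrArg Subtype.val (hab.is_comm.comm (⟨u, hu⟩ : (P : Subgroup G)) ⟨g, hg⟩))
      exact P.not_dvd_index (heven.trans (Subgroup.index_dvd_of_le hle))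
    obtain ⟨j, hj2, hjn, hj⟩ := Cfsg.Agent.Transfer.MaxClass.commutator_index_ge (G := P) (p := 2) hP (by omega)
    replace hj : (commutator ↥P).index = 2 ^ j := hj
    have hd : (commutator ↥P).index ∣ 4 := by
      rcases Nat.lt_or_ge m 3 with hm3 | hm3
      · rcases Nat.lt_or_ge j 3 with h | h
        · rw [hj, show j = 2 by omega]
          norm_num
        · exfalso
          have hcard := Subgroup.card_mul_index (commutator ↥P)
          rw [hj, show Nat.card ↥P = 2 ^ (m + 1) from hP, show j = m + 1 by omega] at hcard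
          have h1 : Nat.card (commutator ↥P) = 1 :=
            Nat.eq_of_mul_eq_mul_right (Nat.two_pow_pos _) (by rw [hcard, one_mul])
          rw [Subgroup.card_eq_one] at h1
          refine hna ⟨⟨fun u v => ?_⟩⟩
          have : ⁅u, v⁆ ∈ commutator ↥P :=
            Subgroup.commutator_mem_commutator (Subgroup.mem_top _) (Subgroup.mem_top _)
          rw [h1, Subgroup.mem_bot, commutatorElement_eq_one_iff_mul_comm] at this
          exact this
      · rcases hE with hE | hE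
        · rw [← hs1] at hE
          exact backward P hm3 hP hζ hna hg (Or.inl rfl) hE
        · rw [← hs2] at hE
          exact backward P hm3 hP hζ hna hg (Or.inr rfl) hE
    rw [hj] at hd ⊢
    have : j ≤ 2 := (Nat.pow_dvd_pow_iff_le_right (by norm_num : 1 < 2)).1 (hd : 2 ^ j ∣ 2 ^ 2)
    rw [show j = 2 by omega]
    norm_num

end Cfsg.Agent.S4923
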