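import Cfsg.Statements.S4931
import Cfsg.Agent.Lib.Char.PSolvableIto
import Cfsg.Agent.Lib.Transfer.NormalComplement
import Cfsg.Agent.Lib.Transfer.Tate
import Cfsg.Agent.Lib.Grp.Frattini
import Cfsg.Agent.Lib.Block.Codegree

set_option autoImplicit false
open Cfsg

namespace Cfsg.Agent.S4931

open scoped commutatorElement

universe u

variable {G : Type u} [Group G] [Finite G] {p : ℕ} [Fact p.Prime]

/-- If the characters of degree prime to `p` extend, the normal closure of a subgroup `E` between
`P'` and `N` meets `N` in `E`. -/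
theorem normalClosure_inf_le (N : Subgroup G) (PN E : Subgroup N) [PN.Normal] [E.Normal]
    (hidx : ¬ p ∣ PN.index) (hDE : ⁅PN, PN⁆ ≤ E)
    (hext : ∀ θ : IrrCharacter N, ¬ p ∣ charDegree (θ : N → ℂ) →
      ∃ χ : IrrCharacter G, ∀ x : N, (χ : G → ℂ) x = (θ : N → ℂ) x)
    (x : N) (hx : (x : G) ∈ Subgroup.normalClosure ((E.map N.subtype : Subgroup G) : Set G)) :
    x ∈ E := by
  have hab : ∀ a ∈ PN.map (QuotientGroup.mk' E), ∀ b ∈ PN.map (QuotientGroup.mk' E),
      a * b = b * a := by
    rintro - ⟨a, ha, rfl⟩ - ⟨b, hb, rfl⟩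
    rw [← commutatorElement_eq_one_iff_mul_comm, ← map_commutatorElement]
    exact (QuotientGroup.eq_one_iff _).2 (hDE (Subgroup.commutator_mem_commutator ha hb))
  haveI : (PN.map (QuotientGroup.mk' E)).Normal :=
    Subgroup.Normal.map inferInstance _ (QuotientGroup.mk'_surjective E)
  have hidx' : ¬ p ∣ (PN.map (QuotientGroup.mk' E)).index := fun h =>
    hidx (h.trans (PN.index_map_dvd (QuotientGroup.mk'_surjective E)))
  haveI : Finite (N ⧸ E) := inferInstance
  rw [← QuotientGroup.eq_one_iff, ← isConj_one_left, Char.isConj_iff_irr]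
  intro ψ
  let θ : IrrCharacter N :=
    ⟨_, Char.IsIrr.comp_surjective (QuotientGroup.mk' E) (QuotientGroup.mk'_surjective E) ψ.2⟩
  have hθ : ¬ p ∣ charDegree (θ : N → ℂ) := by
    have h := Char.PIto.not_dvd_of_abelian (PN.map (QuotientGroup.mk' E)) hab hidx' ψ
    simpa [charDegree, θ] using h
  obtain ⟨χ, hχ⟩ := hext θ hθ
  have hker : E.map N.subtype ≤ Block.irrKer χ := by
    rintro - ⟨e, he, rfl⟩
    rw [Block.mem_irrKer, Subgroup.coe_subtype, hχ, ← OneMemClass.coe_one N, hχ]
    show (ψ : N ⧸ E → ℂ) (e : N ⧸ E) = (ψ : N ⧸ E → ℂ) ((1 : N) : N ⧸ E)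
    rw [(QuotientGroup.eq_one_iff e).2 he, QuotientGroup.mk_one]
  have hxk := Block.mem_irrKer.1 (Subgroup.normalClosure_le_normal hker hx)
  rw [hχ, ← OneMemClass.coe_one N, hχ] at hxk
  exact hxk

/-- Burnside's criterion in the quotient, followed by Tate's theorem. -/
theorem hasNormalPComplement_of_abelian_quotient (P : Sylow p G) (L : Subgroup G) [L.Normal]
    (hN : Subgroup.normalizer ((P : Subgroup G) : Set G) = (P : Subgroup G))
    (hD : ⁅(P : Subgroup G), (P : Subgroup G)⁆ ≤ L)
    (hL : L ⊓ (P : Subgroup G) ≤ (frattini P).map (P : Subgroup G).subtype) :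
    HasNormalPComplement p G := by
  have hsurj := QuotientGroup.mk'_surjective L
  set Q : Sylow p (G ⧸ L) := P.mapSurjective hsurj with hQdef
  have hQ : (Q : Subgroup (G ⧸ L)) = (P : Subgroup G).map (QuotientGroup.mk' L) := rfl
  have hab : ∀ a ∈ (Q : Subgroup (G ⧸ L)), ∀ b ∈ (Q : Subgroup (G ⧸ L)), a * b = b * a := by
    rw [hQ]
    rintro - ⟨a, ha, rfl⟩ - ⟨b, hb, rfl⟩
    rw [← commutatorElement_eq_one_iff_mul_comm, ← map_commutatorElement]
    exact (QuotientGroup.eq_one_iff _).2 (hD (Subgroup.commutator_mem_commutator ha hb))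
  have hnorm : Subgroup.normalizer ((Q : Subgroup (G ⧸ L)) : Set (G ⧸ L)) ≤
      (Q : Subgroup (G ⧸ L)) := by
    intro y hy
    set C := (Subgroup.normalizer ((Q : Subgroup (G ⧸ L)) : Set (G ⧸ L))).comap
      (QuotientGroup.mk' L) with hC
    set R := ((Q : Subgroup (G ⧸ L))).comap (QuotientGroup.mk' L) with hR
    have hRC : R ≤ C := Subgroup.comap_mono Subgroup.le_normalizer
    haveI : (R.subgroupOf C).Normal := by
      rw [hC, hR, Subgroup.comap_normalizer_eq_of_surjective _ hsurj]
      exact Subgroup.normal_in_normalizer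
    have hPR : (P : Subgroup G) ≤ R := by rw [hR, hQ]; exact Subgroup.le_comap_map _ _
    set S : Sylow p C := P.subtype (hPR.trans hRC) with hS
    obtain ⟨g, rfl⟩ := hsurj y
    have htop : Subgroup.normalizer ((S : Subgroup C) : Set C) ⊔ R.subgroupOf C = ⊤ := by
      have hSR : (S : Subgroup C) ≤ R.subgroupOf C := fun s hs => hPR hs
      exact Sylow.normalizer_sup_eq_top' S hSR
    have hg : (⟨g, hy⟩ : C) ∈ Subgroup.normalizer ((S : Subgroup C) : Set C) ⊔ R.subgroupOf C :=
      htop ▸ Subgroup.mem_top _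
    obtain ⟨n, hn, r, hr, hnr⟩ := Subgroup.mem_sup_of_normal_right.1 hg
    have hnP : (n : G) ∈ (P : Subgroup G) := by
      rw [← hN]
      refine Subgroup.mem_normalizer_iff.2 fun a => ⟨fun ha => ?_, fun ha => ?_⟩
      · exact (Subgroup.mem_normalizer_iff.1 hn ⟨a, hRC (hPR ha)⟩).1 ha
      · have haC : a ∈ C := by
          have h1 := C.mul_mem (C.mul_mem (C.inv_mem n.2) (hRC (hPR ha))) n.2
          rwa [show (n : G)⁻¹ * ((n : G) * a * (n : G)⁻¹) * n = a by group] at h1
        exact (Subgroup.mem_normalizer_iff.1 hn ⟨a, haC⟩).2 ha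
    rw [show g = (n : G) * (r : G) from (congrArg Subtype.val hnr).symm, map_mul]
    exact mul_mem (hPR hnP) hr
  have hle : Subgroup.normalizer ((Q : Subgroup (G ⧸ L)) : Set (G ⧸ L)) ≤
      Subgroup.centralizer ((Q : Subgroup (G ⧸ L)) : Set (G ⧸ L)) := fun a ha =>
    Subgroup.mem_centralizer_iff.2 fun b hb => hab b hb a (hnorm ha)
  have hcompl : HasNormalPComplement p (G ⧸ L) :=
    ⟨Q, _, MonoidHom.normal_ker _, MonoidHom.ker_transferSylow_isComplement' Q hle⟩
  have hres : pResidual p G ⊓ (P : Subgroup G) ≤ (frattini P).map (P : Subgroup G).subtype := by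
    refine le_trans ?_ hL
    intro x hx
    refine Subgroup.mem_inf.2 ⟨?_, hx.2⟩
    have h1 : QuotientGroup.mk' L x ∈ pResidual p (G ⧸ L) ⊓ (Q : Subgroup (G ⧸ L)) :=
      ⟨Transfer.pResidual_map_le _ ⟨x, hx.1, rfl⟩, by rw [hQ]; exact ⟨x, hx.2, rfl⟩⟩
    rw [Transfer.pResidual_inf_sylow_eq_bot Q hcompl, Subgroup.mem_bot] at h1
    exact (QuotientGroup.eq_one_iff x).1 h1
  have hK := Transfer.hasNormalPComplement_of_inf_le_frattini P (pResidual p G) hres
  rw [Transfer.hasNormalPComplement_iff_not_dvd] at hK ⊢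
  have hle2 : pResidual p G ≤ (pResidual p (pResidual p G)).map (pResidual p G).subtype := by
    refine (Subgroup.closure_le _).2 fun g hg => ?_
    exact ⟨⟨g, Transfer.mem_pResidual_of_coprime hg⟩,
      Transfer.mem_pResidual_of_coprime (by rwa [Subgroup.orderOf_mk]), rfl⟩
  intro h
  refine hK (h.trans ((Subgroup.card_dvd_of_le hle2).trans ?_))
  rw [Subgroup.card_map_of_injective (Subgroup.subtype_injective _)]

/-- Let G be a finite group, p a prime and P a Sylow p-subgroup of G with normalizer N. Then every irreducible complex character of N of degree not divisible by p is the restriction of an irreducible character of G if and only if there is a normal subgroup K of G with KN = G and K ∩ N = 1. -/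
theorem result {G : Type*} [Group G] [Finite G] (p : ℕ) [Fact p.Prime] (P : Sylow p G) :
    (∀ θ : Cfsg.IrrCharacter ↥(Subgroup.normalizer ((P : Subgroup G) : Set G)), ¬ p ∣ Cfsg.charDegree (θ : ↥(Subgroup.normalizer ((P : Subgroup G) : Set G)) → ℂ) →
        ∃ χ : Cfsg.IrrCharacter G, ∀ x : ↥(Subgroup.normalizer ((P : Subgroup G) : Set G)), (χ : G → ℂ) x = (θ : ↥(Subgroup.normalizer ((P : Subgroup G) : Set G)) → ℂ) x) ↔
      ∃ K : Subgroup G, K.Normal ∧ K ⊔ Subgroup.normalizer ((P : Subgroup G) : Set G) = ⊤ ∧ K ⊓ Subgroup.normalizer ((P : Subgroup G) : Set G) = ⊥ := by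
  classical
  set N := Subgroup.normalizer ((P : Subgroup G) : Set G) with hNdef
  constructor
  · intro hext
    set PN : Subgroup N := (P : Subgroup G).subgroupOf N with hPN
    haveI : PN.Normal := Subgroup.normal_in_normalizer
    have hidx : ¬ p ∣ PN.index := fun h =>
      P.not_dvd_index (h.trans (by
        rw [← Subgroup.relIndex_mul_index (Subgroup.le_normalizer : (P : Subgroup G) ≤ N)]
        exact Dvd.intro _ rfl))
    have hmapP : PN.map N.subtype = (P : Subgroup G) :=
      Subgroup.map_subgroupOf_eq_of_le Subgroup.le_normalizer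
    have hmapD : ((⁅PN, PN⁆ : Subgroup N)).map N.subtype = ⁅(P : Subgroup G), (P : Subgroup G)⁆ := by
      rw [Subgroup.map_commutator, hmapP]
    set M := Subgroup.normalClosure ((P : Subgroup G) : Set G) with hM
    set L := Subgroup.normalClosure ((⁅(P : Subgroup G), (P : Subgroup G)⁆ : Subgroup G) : Set G)
      with hLdef
    have hPM : (P : Subgroup G) ≤ M := Subgroup.le_normalClosure
    have hMN : ∀ x : G, x ∈ M → x ∈ N → x ∈ (P : Subgroup G) := by
      intro x hx hxN
      have h := normalClosure_inf_le N PN PN hidx (Subgroup.commutator_le_left PN PN) hext ⟨x, hxN⟩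
        (by rw [hmapP]; exact hx)
      exact h
    have hLN : ∀ x : G, x ∈ L → x ∈ N → x ∈ ⁅(P : Subgroup G), (P : Subgroup G)⁆ := by
      intro x hx hxN
      have h := normalClosure_inf_le N PN ⁅PN, PN⁆ hidx le_rfl hext ⟨x, hxN⟩
        (by rw [hmapD]; exact hx)
      rw [← hmapD]
      exact ⟨⟨x, hxN⟩, h, rfl⟩
    set S : Sylow p M := P.subtype hPM with hS
    have hcompl : HasNormalPComplement p M := by
      haveI : (L.subgroupOf M).Normal := Subgroup.normal_subgroupOf
      refine hasNormalPComplement_of_abelian_quotient S (L.subgroupOf M) ?_ ?_ ?_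
      · refine le_antisymm (fun n hn => ?_) Subgroup.le_normalizer
        refine hMN n n.2 (Subgroup.mem_normalizer_iff.2 fun a => ⟨fun ha => ?_, fun ha => ?_⟩)
        · exact (Subgroup.mem_normalizer_iff.1 hn ⟨a, hPM ha⟩).1 ha
        · have haM : a ∈ M := by
            have h1 := M.mul_mem (M.mul_mem (M.inv_mem n.2) (hPM ha)) n.2
            rwa [show (n : G)⁻¹ * ((n : G) * a * (n : G)⁻¹) * n = a by group] at h1
          exact (Subgroup.mem_normalizer_iff.1 hn ⟨a, haM⟩).2 ha
      · rw [← Subgroup.map_le_map_iff_of_injective (f := M.subtype) M.subtype_injective,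
          Subgroup.map_commutator]
        have hSP : (S : Subgroup M).map M.subtype = (P : Subgroup G) :=
          Subgroup.map_subgroupOf_eq_of_le hPM
        rw [hSP, Subgroup.subgroupOf_map_subtype]
        exact le_inf Subgroup.le_normalClosure ((Subgroup.commutator_le_self _).trans hPM)
      · intro x hx
        have hxD := hLN x hx.1 (Subgroup.le_normalizer hx.2)
        have h1 : ⁅(P : Subgroup G), (P : Subgroup G)⁆ ≤
            ((frattini S).map (S : Subgroup M).subtype).map M.subtype := by
          have h2 := Subgroup.map_mono (f := M.subtype)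
            (Subgroup.map_mono (f := (S : Subgroup M).subtype)
              (Grp.pGroup_commutator_le_frattini S.isPGroup'))
          rwa [Subgroup.map_subtype_commutator, Subgroup.map_commutator,
            show (S : Subgroup M).map M.subtype = (P : Subgroup G) from
              Subgroup.map_subgroupOf_eq_of_le hPM] at h2
        obtain ⟨y, hy, hyx⟩ := h1 hxD
        rwa [← Subtype.ext hyx]
    haveI : (pResidual p M).Characteristic := Transfer.pResidual_characteristic p M
    refine ⟨(pResidual p M).map M.subtype, inferInstance, ?_, ?_⟩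
    · rw [eq_top_iff, ← Sylow.normalizer_sup_eq_top S]
      refine sup_le ?_ ?_
      · rw [show (S : Subgroup M).map M.subtype = (P : Subgroup G) from
          Subgroup.map_subgroupOf_eq_of_le hPM]
        exact le_sup_right
      · have h1 : (⊤ : Subgroup M) ≤ pResidual p M ⊔ (S : Subgroup M) := by
          rw [sup_comm, Transfer.sylow_sup_pResidual]
        have h2 := Subgroup.map_mono (f := M.subtype) h1
        rw [← MonoidHom.range_eq_map, Subgroup.range_subtype, Subgroup.map_sup,
          show (S : Subgroup M).map M.subtype = (P : Subgroup G) from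
            Subgroup.map_subgroupOf_eq_of_le hPM] at h2
        exact h2.trans (sup_le_sup_left Subgroup.le_normalizer _)
    · rw [eq_bot_iff]
      rintro x ⟨⟨y, hy, rfl⟩, hxN⟩
      have h1 : y ∈ pResidual p M ⊓ (S : Subgroup M) := ⟨hy, hMN y y.2 hxN⟩
      rw [Transfer.pResidual_inf_sylow_eq_bot S hcompl, Subgroup.mem_bot] at h1
      rw [h1]
      rfl
  · rintro ⟨K, hK, hsup, hinf⟩ θ -
    let f : N →* G ⧸ K := (QuotientGroup.mk' K).comp N.subtype
    have hf : Function.Bijective f := by
      constructor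
      · rw [← MonoidHom.ker_eq_bot_iff, eq_bot_iff]
        intro x hx
        have h1 : (x : G) ∈ K ⊓ N := ⟨(QuotientGroup.eq_one_iff (x : G)).1 hx, x.2⟩
        rw [hinf, Subgroup.mem_bot] at h1
        exact Subgroup.mem_bot.2 (Subtype.ext h1)
      · intro y
        obtain ⟨g, rfl⟩ := QuotientGroup.mk'_surjective K y
        obtain ⟨k, hk, n, hn, rfl⟩ := Subgroup.mem_sup_of_normal_left.1
          (hsup ▸ Subgroup.mem_top g)
        refine ⟨⟨n, hn⟩, ?_⟩
        show QuotientGroup.mk' K n = _
        rw [map_mul, show QuotientGroup.mk' K k = 1 from (QuotientGroup.eq_one_iff k).2 hk, one_mul]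
    let e : N ≃* G ⧸ K := MulEquiv.ofBijective f hf
    refine ⟨⟨_, Char.IsIrr.comp_surjective (e.symm.toMonoidHom.comp (QuotientGroup.mk' K))
      (e.symm.surjective.comp (QuotientGroup.mk'_surjective K)) θ.2⟩, fun x => ?_⟩
    show (θ : N → ℂ) (e.symm (QuotientGroup.mk' K (x : G))) = (θ : N → ℂ) x
    exact congrArg _ (e.symm_apply_apply x)

end Cfsg.Agent.S4931
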