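import Cfsg.Statements.S4930
import Cfsg.Agent.S4931
import Cfsg.Agent.Lib.Char.PPrimeDegree

set_option autoImplicit false
open Cfsg

namespace Cfsg.Agent.S4930

open Cfsg.Agent.Char Cfsg.Agent.Block

universe u

variable {G : Type u} [Group G] [Finite G] {p : ℕ} [Fact p.Prime]

/-- With a normal abelian Sylow subgroup modulo `P'`, the squares of the degrees prime to `p` add up
to the index of `P'`. -/
theorem sum_sq_normalizer (P : Sylow p G) [hP : (P : Subgroup G).Normal] [Fintype G] :
    ∑ θ ∈ (Finset.univ : Finset (IrrCharacter G)).filter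
        (fun θ : IrrCharacter G => ¬ p ∣ charDegree (θ : G → ℂ)), charDegree (θ : G → ℂ) ^ 2 =
      ⁅(P : Subgroup G), (P : Subgroup G)⁆.index := by
  classical
  set D := ⁅(P : Subgroup G), (P : Subgroup G)⁆ with hD
  let ι : IrrCharacter (G ⧸ D) → IrrCharacter G := fun ψ =>
    ⟨_, IsIrr.comp_surjective (QuotientGroup.mk' D) (QuotientGroup.mk'_surjective D) ψ.2⟩
  have hdeg : ∀ ψ, charDegree (ι ψ : G → ℂ) = charDegree (ψ : G ⧸ D → ℂ) := fun ψ => by
    simp [ι, charDegree]
  have hab : ∀ a ∈ (P : Subgroup G).map (QuotientGroup.mk' D),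
      ∀ b ∈ (P : Subgroup G).map (QuotientGroup.mk' D), a * b = b * a := by
    rintro - ⟨a, ha, rfl⟩ - ⟨b, hb, rfl⟩
    rw [← commutatorElement_eq_one_iff_mul_comm, ← map_commutatorElement]
    exact (QuotientGroup.eq_one_iff _).2 (Subgroup.commutator_mem_commutator ha hb)
  haveI : ((P : Subgroup G).map (QuotientGroup.mk' D)).Normal :=
    Subgroup.Normal.map inferInstance _ (QuotientGroup.mk'_surjective D)
  have hidx : ¬ p ∣ ((P : Subgroup G).map (QuotientGroup.mk' D)).index := fun h =>
    P.not_dvd_index (h.trans ((P : Subgroup G).index_map_dvd (QuotientGroup.mk'_surjective D)))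
  haveI := Fintype.ofFinite (G ⧸ D)
  have hbij : ∑ ψ : IrrCharacter (G ⧸ D), charDegree (ψ : G ⧸ D → ℂ) ^ 2 =
      ∑ θ ∈ (Finset.univ : Finset (IrrCharacter G)).filter
        (fun θ : IrrCharacter G => ¬ p ∣ charDegree (θ : G → ℂ)), charDegree (θ : G → ℂ) ^ 2 := by
    refine Finset.sum_bij (fun ψ _ => ι ψ) (fun ψ _ => ?_) (fun a _ b _ h => ?_) (fun θ hθ => ?_)
      (fun ψ _ => by rw [hdeg])
    · rw [Finset.mem_filter, hdeg]
      exact ⟨Finset.mem_univ _, Char.PIto.not_dvd_of_abelian _ hab hidx ψ⟩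
    · refine Subtype.ext (funext fun x => ?_)
      obtain ⟨g, rfl⟩ := QuotientGroup.mk'_surjective D x
      exact congrFun (congrArg Subtype.val h) g
    · rw [Finset.mem_filter] at hθ
      obtain ⟨ψ, hψ, hψθ⟩ := IsIrr.exists_factor_quotient θ.2 D
        (PPrime.kills_core P ⊥ D le_sup_right θ hθ.2 (by simp))
      exact ⟨⟨ψ, hψ⟩, Finset.mem_univ _, Subtype.ext (funext hψθ)⟩
  rw [← hbij, Subgroup.index_eq_card]
  have h := sum_degree_sq (G := G ⧸ D)
  simp only [charDeg_spec'] at h
  exact_mod_cast h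


/-- Let G be a finite group, P a Sylow 2-subgroup of G with normalizer N, and P′ the commutator subgroup of P. Then the sum of the squares of the degrees of the irreducible complex characters of G of odd degree is at least the index of P′ in N (the order of N divided by the order of P′), and equality holds if and only if N has a normal complement in G: a normal subgroup K of G with K ∩ N = 1 and KN = G. -/
theorem result {G : Type*} [Group G] [Finite G] (P : Sylow 2 G) :
    Nat.card (Subgroup.normalizer ((P : Subgroup G) : Set G)) ≤ Nat.card (commutator ↥P) * (∑ᶠ χ : {χ : Cfsg.IrrCharacter G // ¬ 2 ∣ Cfsg.charDegree (χ : G → ℂ)}, Cfsg.charDegree (χ.1 : G → ℂ) ^ 2) ∧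
    (Nat.card (Subgroup.normalizer ((P : Subgroup G) : Set G)) = Nat.card (commutator ↥P) * (∑ᶠ χ : {χ : Cfsg.IrrCharacter G // ¬ 2 ∣ Cfsg.charDegree (χ : G → ℂ)}, Cfsg.charDegree (χ.1 : G → ℂ) ^ 2) ↔
      ∃ K : Subgroup G, K.Normal ∧ K ⊓ Subgroup.normalizer ((P : Subgroup G) : Set G) = ⊥ ∧ K ⊔ Subgroup.normalizer ((P : Subgroup G) : Set G) = ⊤) := by
  classical
  haveI := Fintype.ofFinite G
  set N := Subgroup.normalizer ((P : Subgroup G) : Set G) with hNdef
  haveI := Fintype.ofFinite N
  set PN : Sylow 2 N := P.subtype Subgroup.le_normalizer with hPN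
  haveI : (PN : Subgroup N).Normal := Subgroup.normal_in_normalizer
  set T := (Finset.univ : Finset (IrrCharacter N)).filter
    (fun θ : IrrCharacter N => ¬ 2 ∣ charDegree (θ : N → ℂ)) with hT
  set S := (Finset.univ : Finset (IrrCharacter G)).filter
    (fun χ : IrrCharacter G => ¬ 2 ∣ charDegree (χ : G → ℂ)) with hS
  have hsum : (∑ᶠ χ : {χ : IrrCharacter G // ¬ 2 ∣ charDegree (χ : G → ℂ)},
      charDegree (χ.1 : G → ℂ) ^ 2) = ∑ χ ∈ S, charDegree (χ : G → ℂ) ^ 2 := by
    rw [finsum_eq_sum_of_fintype]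
    exact (Finset.sum_subtype S (by simp [hS]) fun χ : IrrCharacter G => charDegree (χ : G → ℂ) ^ 2).symm
  have hcardN : Nat.card N =
      Nat.card (commutator (P : Subgroup G)) * ∑ θ ∈ T, charDegree (θ : N → ℂ) ^ 2 := by
    rw [hT, sum_sq_normalizer PN, ← Subgroup.card_mul_index ⁅(PN : Subgroup N), (PN : Subgroup N)⁆]
    congr 1
    rw [← Subgroup.card_map_of_injective (f := N.subtype) N.subtype_injective,
      Subgroup.map_commutator, show (PN : Subgroup N).map N.subtype = (P : Subgroup G) from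
        Subgroup.map_subgroupOf_eq_of_le Subgroup.le_normalizer,
      ← Subgroup.map_subtype_commutator,
      Subgroup.card_map_of_injective (Subgroup.subtype_injective _)]
  have hidxN : ¬ 2 ∣ N.index := fun h =>
    P.not_dvd_index (h.trans (Subgroup.index_dvd_of_le Subgroup.le_normalizer))
  -- every `θ` lies below a character of odd degree
  have hup : ∀ θ ∈ T, ∃ χ ∈ S, classInner (fun x : N => (χ : G → ℂ) x) (θ : N → ℂ) ≠ 0 := by
    intro θ hθ
    rw [hT, Finset.mem_filter] at hθ
    have hd : indFun N (θ : N → ℂ) 1 = ((N.index * charDegree (θ : N → ℂ) : ℕ) : ℂ) := by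
      rw [indFun_one_eq, charDeg_spec' θ, Nat.cast_mul]
    obtain ⟨χ, hχc, hχp⟩ := PPrime.exists_constituent_pPrime
      (isCharacter_indFun N (irr_isChar θ)) hd
      (fun h => ((Nat.prime_two).dvd_mul.mp h).elim hidxN hθ.2)
    rw [classInner_indFun N _ (irr_classFun χ), ← classInner_conj_symm, Ne, map_eq_zero] at hχc
    exact ⟨χ, Finset.mem_filter.2 ⟨Finset.mem_univ _, hχp⟩, hχc⟩
  choose f hfS hfc using hup
  set F : IrrCharacter N → IrrCharacter G := fun θ =>
    if h : θ ∈ T then f θ h else trivialIrr G with hF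
  have hFS : ∀ θ ∈ T, F θ ∈ S := fun θ h => by simp only [hF, dif_pos h]; exact hfS θ h
  have hFc : ∀ θ ∈ T, classInner (fun x : N => ((F θ : IrrCharacter G) : G → ℂ) x) (θ : N → ℂ) ≠ 0 :=
    fun θ h => by simp only [hF, dif_pos h]; exact hfc θ h
  -- degrees below a fixed character
  have hfib : ∀ χ : IrrCharacter G, ∃ a : IrrCharacter N → ℕ,
      ((fun x : N => (χ : G → ℂ) x) = ∑ φ : IrrCharacter N, (a φ : ℂ) • (φ : N → ℂ)) ∧
      charDegree (χ : G → ℂ) = ∑ φ : IrrCharacter N, a φ * charDegree (φ : N → ℂ) ∧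
      ∀ θ ∈ T, F θ = χ → 1 ≤ a θ := by
    intro χ
    obtain ⟨a, ha, hdec⟩ := IsChar.exists_decomp_inner (IsChar.res (irr_isChar χ) N)
    refine ⟨a, hdec, ?_, fun θ hθ hθχ => Nat.one_le_iff_ne_zero.2 fun h0 => hFc θ hθ ?_⟩
    · have := congrFun hdec 1
      rw [sum_irr_apply] at this
      simp only [charDeg_spec'] at this
      rw [OneMemClass.coe_one, charDeg_spec'] at this
      exact_mod_cast this
    · rw [hθχ, ha, h0, Nat.cast_zero]
  have hlin : ∀ χ : IrrCharacter G,
      ∑ θ ∈ T.filter (fun θ => F θ = χ), charDegree (θ : N → ℂ) ≤ charDegree (χ : G → ℂ) := by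
    intro χ
    obtain ⟨a, -, hd, ha⟩ := hfib χ
    rw [hd]
    refine le_trans (Finset.sum_le_sum fun θ hθ => ?_)
      (Finset.sum_le_univ_sum_of_nonneg fun φ => Nat.zero_le _)
    rw [Finset.mem_filter] at hθ
    exact Nat.le_mul_of_pos_left _ (ha θ hθ.1 hθ.2)
  have hfs : ∀ χ : IrrCharacter G,
      ∑ θ ∈ T.filter (fun θ => F θ = χ), charDegree (θ : N → ℂ) ^ 2 ≤
        charDegree (χ : G → ℂ) ^ 2 := fun χ =>
    (Finset.sum_sq_le_sq_sum_of_nonneg fun _ _ => Nat.zero_le _).trans
      (Nat.pow_le_pow_left (hlin χ) 2)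
  have hle : ∑ θ ∈ T, charDegree (θ : N → ℂ) ^ 2 ≤ ∑ χ ∈ S, charDegree (χ : G → ℂ) ^ 2 := by
    rw [← Finset.sum_fiberwise_of_maps_to hFS]
    exact Finset.sum_le_sum fun χ _ => hfs χ
  rw [hsum, hcardN, show Nat.card (commutator (↥P)) = Nat.card (commutator (P : Subgroup G)) from rfl]
  refine ⟨Nat.mul_le_mul_left _ hle, ?_⟩
  rw [Nat.mul_left_cancel_iff Nat.card_pos]
  constructor
  · intro heq
    have hextend : ∀ θ : IrrCharacter N, ¬ 2 ∣ charDegree (θ : N → ℂ) →
        ∃ χ : IrrCharacter G, ∀ x : N, (χ : G → ℂ) x = (θ : N → ℂ) x := by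
      intro θ hθ
      have hθT : θ ∈ T := Finset.mem_filter.2 ⟨Finset.mem_univ _, hθ⟩
      set χ := F θ with hχ
      obtain ⟨a, hdec, hd, ha⟩ := hfib χ
      have heach : ∑ φ ∈ T.filter (fun φ => F φ = χ), charDegree (φ : N → ℂ) ^ 2 =
          charDegree (χ : G → ℂ) ^ 2 := by
        have h1 : ∑ χ ∈ S, ∑ φ ∈ T.filter (fun φ => F φ = χ), charDegree (φ : N → ℂ) ^ 2 =
            ∑ χ ∈ S, charDegree (χ : G → ℂ) ^ 2 := by
          rw [Finset.sum_fiberwise_of_maps_to hFS]; exact heq
        exact (Finset.sum_eq_sum_iff_of_le fun χ _ => hfs χ).1 h1 χ (hFS θ hθT)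
      have hmem : θ ∈ T.filter (fun φ => F φ = χ) := Finset.mem_filter.2 ⟨hθT, rfl⟩
      have hdeq : charDegree (θ : N → ℂ) = charDegree (χ : G → ℂ) := by
        by_contra hne
        have h1 := hlin χ
        have hlt : charDegree (θ : N → ℂ) < charDegree (χ : G → ℂ) :=
          lt_of_le_of_ne ((Finset.single_le_sum (f := fun φ : IrrCharacter N => charDegree (φ : N → ℂ))
            (fun φ _ => Nat.zero_le _) hmem).trans h1) hne
        have hmax : ∀ φ ∈ T.filter (fun φ => F φ = χ),
            charDegree (φ : N → ℂ) ≤ charDegree (χ : G → ℂ) - 1 := by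
          intro φ hφ
          rcases eq_or_ne φ θ with rfl | hφθ
          · omega
          · have h2 : charDegree (φ : N → ℂ) + charDegree (θ : N → ℂ) ≤
                charDegree (χ : G → ℂ) := by
              rw [← Finset.sum_pair (f := fun φ : IrrCharacter N => charDegree (φ : N → ℂ)) hφθ]
              refine (Finset.sum_le_sum_of_subset ?_).trans h1
              simp [Finset.insert_subset_iff, hφ, hmem]
            have := charDeg_pos θ
            omega
        have h3 : ∑ φ ∈ T.filter (fun φ => F φ = χ), charDegree (φ : N → ℂ) ^ 2 ≤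
            (charDegree (χ : G → ℂ) - 1) * charDegree (χ : G → ℂ) := by
          refine le_trans ?_ (Nat.mul_le_mul_left _ h1)
          rw [Finset.mul_sum]
          exact Finset.sum_le_sum fun φ hφ => by
            rw [sq]; exact Nat.mul_le_mul_right _ (hmax φ hφ)
        rw [heach, sq] at h3
        have h4 := Nat.le_of_mul_le_mul_right h3 (charDeg_pos χ)
        have := charDeg_pos χ
        omega
      have h1 : ∀ φ : IrrCharacter N, φ ≠ θ → a φ = 0 ∧ a θ = 1 := by
        intro φ hφ
        have h2 : a φ * charDegree (φ : N → ℂ) + a θ * charDegree (θ : N → ℂ) ≤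
            charDegree (χ : G → ℂ) := by
          rw [hd, ← Finset.sum_pair (f := fun φ : IrrCharacter N => a φ * charDegree (φ : N → ℂ)) hφ]
          exact Finset.sum_le_univ_sum_of_nonneg fun _ => Nat.zero_le _
        have h3 := ha θ hθT rfl
        have h4 : charDegree (χ : G → ℂ) ≤ a θ * charDegree (θ : N → ℂ) := by
          rw [← hdeq]; exact Nat.le_mul_of_pos_left _ h3
        have h5 := charDeg_pos φ
        have h6 : a φ * charDegree (φ : N → ℂ) = 0 := by omega
        have h7 : a θ * charDegree (θ : N → ℂ) = charDegree (θ : N → ℂ) := by omega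
        exact ⟨(mul_eq_zero.1 h6).resolve_right h5.ne',
          (Nat.mul_eq_right (charDeg_pos θ).ne').1 h7⟩
      have haθ : a θ = 1 := by
        have h3 := ha θ hθT rfl
        have h4 : a θ * charDegree (θ : N → ℂ) ≤ charDegree (θ : N → ℂ) := by
          conv_rhs => rw [hdeq, hd]
          exact Finset.single_le_sum (fun φ _ => Nat.zero_le (a φ * charDegree (φ : N → ℂ)))
            (Finset.mem_univ θ)
        have := Nat.le_of_mul_le_mul_right (h4.trans_eq (one_mul _).symm) (charDeg_pos θ)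
        omega
      refine ⟨χ, fun x => ?_⟩
      have h2 := congrFun hdec x
      rw [sum_irr_apply] at h2
      rw [h2, Finset.sum_eq_single θ (fun φ _ hφ => by rw [(h1 φ hφ).1, Nat.cast_zero, zero_mul])
        (fun h => absurd (Finset.mem_univ θ) h), haθ, Nat.cast_one, one_mul]
    obtain ⟨K, hK, hKN, hKN'⟩ := (Cfsg.Agent.S4931.result 2 P).1 hextend
    exact ⟨K, hK, hKN', hKN⟩
  · rintro ⟨K, hK, hinf, hsup⟩
    have hcompl : K.IsComplement' N := Subgroup.isComplement'_of_disjoint_and_mul_eq_univ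
      (disjoint_iff.2 hinf) (by rw [← Subgroup.normal_mul, hsup, Subgroup.coe_top])
    have hKp : ¬ 2 ∣ Nat.card K := by rwa [← hcompl.index_eq_card]
    have hKC : K ⊓ Subgroup.centralizer ((P : Subgroup G) : Set G) = ⊥ :=
      eq_bot_iff.2 ((inf_le_inf_left _ (Subgroup.centralizer_le_normalizer _)).trans hinf.le)
    let π : G →* N := hcompl.symm.QuotientMulEquiv.toMonoidHom.comp (QuotientGroup.mk' K)
    refine le_antisymm hle ?_
    have hπ : Function.Surjective π :=
      hcompl.symm.QuotientMulEquiv.surjective.comp (QuotientGroup.mk'_surjective K)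
    have hfac : ∀ χ ∈ S, ∃ θ ∈ T, ∀ g, (θ : N → ℂ) (π g) = (χ : G → ℂ) g := by
      intro χ hχ
      rw [hS, Finset.mem_filter] at hχ
      have hk := PPrime.kills_coreless P K hKp hKC χ hχ.2
      obtain ⟨θ, hθ, hθχ⟩ := IsIrr.exists_factor χ.2 π hπ fun k hk' => by
        refine hk k ((QuotientGroup.eq_one_iff k).1 ?_)
        exact hcompl.symm.QuotientMulEquiv.injective ((MonoidHom.mem_ker.1 hk').trans (map_one _).symm)
      refine ⟨⟨θ, hθ⟩, Finset.mem_filter.2 ⟨Finset.mem_univ _, ?_⟩, hθχ⟩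
      have h1 : θ 1 = (χ : G → ℂ) 1 := by rw [← hθχ 1, map_one]
      show ¬ 2 ∣ charDegree θ
      rw [charDegree, h1]
      exact hχ.2
    choose g hgT hgv using hfac
    calc ∑ χ ∈ S, charDegree (χ : G → ℂ) ^ 2
        = ∑ θ ∈ S.attach.image (fun χ => g χ.1 χ.2), charDegree (θ : N → ℂ) ^ 2 := by
          rw [Finset.sum_image (fun a _ b _ h => Subtype.ext (Subtype.ext (funext fun x => by
            rw [← hgv a.1 a.2 x, ← hgv b.1 b.2 x]; exact congrFun (congrArg Subtype.val h) _))),
            ← Finset.sum_attach]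
          refine Finset.sum_congr rfl fun χ _ => ?_
          rw [charDegree, charDegree, ← hgv χ.1 χ.2 1, map_one]
      _ ≤ ∑ θ ∈ T, charDegree (θ : N → ℂ) ^ 2 := by
          refine Finset.sum_le_sum_of_subset fun θ hθ => ?_
          obtain ⟨χ, -, rfl⟩ := Finset.mem_image.1 hθ
          exact hgT _ _

end Cfsg.Agent.S4930
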