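import Cfsg.Statements.S4937
import Cfsg.Agent.Lib.Block.RelAlperin.Extension
import Cfsg.Agent.Lib.Block.Roots

set_option autoImplicit false
open Cfsg

namespace Cfsg.Agent.S4937

/-- Let G be a finite group, p a prime, M a maximal ideal of the algebraic integers containing p, N a normal subgroup of G and P a Sylow p-subgroup of N such that G = N·C_G(P). Let θ be an irreducible character in the principal p-block of N that is the restriction of some irreducible character of G. Then θ is the restriction of an irreducible character χ of G lying in the principal p-block of G such that, for every subgroup J of G containing N, the restriction of χ to J is an irreducible character of J lying in the principal p-block of J. -/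
theorem result {G : Type*} [Group G] [Finite G] (p : ℕ) [Fact p.Prime] (M : Ideal Cfsg.AlgInt) (hM : Cfsg.IsPModular p M) (N : Subgroup G) [N.Normal] (P : Sylow p ↥N)
    (hcov : N ⊔ Subgroup.centralizer (((P : Subgroup ↥N).map N.subtype : Subgroup G) : Set G) = ⊤)
    (θ : Cfsg.IrrCharacter ↥N) (hθ : θ ∈ Cfsg.principalBlock M ↥N)
    (hext : ∃ ψ : Cfsg.IrrCharacter G, ∀ x : ↥N, (ψ : G → ℂ) x = (θ : ↥N → ℂ) x) :
    ∃ χ : Cfsg.IrrCharacter G, χ ∈ Cfsg.principalBlock M G ∧ (∀ x : ↥N, (χ : G → ℂ) x = (θ : ↥N → ℂ) x) ∧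
      ∀ J : Subgroup G, N ≤ J → ∃ ξ : Cfsg.IrrCharacter ↥J, ξ ∈ Cfsg.principalBlock M ↥J ∧ ∀ y : ↥J, (ξ : ↥J → ℂ) y = (χ : G → ℂ) y := by
  classical
  haveI := Fintype.ofFinite G
  haveI := Fintype.ofFinite N
  obtain ⟨ψ, hψ⟩ := hext
  have hirr : IsIrrCharacter N (fun n : N => (ψ : G → ℂ) n) := by
    rw [show (fun n : N => (ψ : G → ℂ) n) = (θ : N → ℂ) from funext hψ]
    exact θ.2
  have hD : Cfsg.Agent.Block.RelAlperin.Data M N ψ :=
    ⟨hirr, by convert hθ using 1; exact Subtype.ext (funext hψ)⟩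
  obtain ⟨l, hlN, hlr, hl⟩ := Cfsg.Agent.Block.RelAlperin.exists_twist hM hD P hcov
  let χ : IrrCharacter G :=
    ⟨fun g => (l g : ℂ) * (ψ : G → ℂ) g, Cfsg.Agent.Char.IsIrr.mul_linear ψ.2 l⟩
  have hres : ∀ x : N, (χ : G → ℂ) x = (θ : N → ℂ) x := fun x => by
    show (l (x : G) : ℂ) * (ψ : G → ℂ) x = _
    rw [hlN _ x.2, Units.val_one, one_mul, hψ]
  have hJ : ∀ J : Subgroup G, N ≤ J → ∃ ξ : IrrCharacter J,
      ξ ∈ principalBlock M J ∧ ∀ y : J, (ξ : J → ℂ) y = (χ : G → ℂ) y := by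
    intro J hNJ
    haveI := Fintype.ofFinite J
    have hJirr : IsIrrCharacter J (fun y : J => (χ : G → ℂ) y) := by
      refine Cfsg.Agent.Block.RelGal.irr_of_res_irr (Subgroup.inclusion hNJ)
        (Cfsg.Agent.Char.IsChar.res (Cfsg.Agent.Block.irr_isChar χ) J) ?_
      rw [show (fun n : N => (χ : G → ℂ) (Subgroup.inclusion hNJ n : J)) = (θ : N → ℂ) from
        funext hres]
      exact θ.2
    exact ⟨⟨_, hJirr⟩, Cfsg.Agent.Block.RelAlperin.twist_principal hM hD P l hlr hl χ
      (fun _ => rfl) J hNJ ⟨_, hJirr⟩ (fun _ => rfl), fun _ => rfl⟩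
  refine ⟨χ, ?_, hres, hJ⟩
  obtain ⟨ξ, hξ, hξv⟩ := hJ ⊤ le_top
  refine Cfsg.Agent.Block.mem_blockOf.2 fun g => ?_
  have h := Cfsg.Agent.Block.mem_blockOf.1 hξ ⟨g, Subgroup.mem_top g⟩
  have hidx : (Subgroup.centralizer ({(⟨g, Subgroup.mem_top g⟩ : (⊤ : Subgroup G))} : Set _)).index =
      (Subgroup.centralizer ({g} : Set G)).index := by
    rw [← Cfsg.Agent.Block.index_centralizer_map Subgroup.topEquiv.symm g]
    rfl
  simp only [centralChar, hidx, hξv] at h
  exact h

end Cfsg.Agent.S4937
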