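import Cfsg.Statements.S4949
import Cfsg.Agent.Lib.Char.SymChar.AltHeight

set_option autoImplicit false
open Cfsg

namespace Cfsg.Agent.S4949

/-- Let n be a natural number, p a prime, M a maximal ideal of the algebraic integers containing p, B a p-block of the alternating group of degree n and D a defect group of B. Then either B contains an irreducible character of height 1 and D has an irreducible complex character of degree p, or every irreducible character of B has height zero and D is commutative (so the least positive height in B and the least positive exponent of a character degree of D are both 1 or both absent). -/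
theorem result (n : ℕ) (p : ℕ) [Fact p.Prime] (M : Ideal Cfsg.AlgInt) (hM : Cfsg.IsPModular p M) (B : Set (Cfsg.IrrCharacter ↥(alternatingGroup (Fin n)))) (hB : Cfsg.IsPBlock M B) (D : Subgroup ↥(alternatingGroup (Fin n))) (hD : Cfsg.IsDefectGroup p M B D) :
    ((∃ χ : Cfsg.IrrCharacter ↥(alternatingGroup (Fin n)), χ ∈ B ∧ Cfsg.blockHeight p B (χ : ↥(alternatingGroup (Fin n)) → ℂ) = 1) ∧ (∃ φ : Cfsg.IrrCharacter ↥D, Cfsg.charDegree (φ : ↥D → ℂ) = p)) ∨
    ((∀ χ : Cfsg.IrrCharacter ↥(alternatingGroup (Fin n)), χ ∈ B → Cfsg.blockHeight p B (χ : ↥(alternatingGroup (Fin n)) → ℂ) = 0) ∧ IsMulCommutative D) := by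
  classical
  open Cfsg.Agent.Char.SymChar in
  · have hp : p.Prime := Fact.out
    haveI : NeZero p := ⟨hp.ne_zero⟩
    obtain ⟨B', hcov⟩ := exists_cover hM hB
    obtain ⟨m, W, hm⟩ := exists_common_core hM hcov.hB
    have hm' : HasCore p B' m W := hm
    rcases Nat.eq_zero_or_pos W with rfl | hW
    · refine Or.inr ?_
      have hbot : D = ⊥ := by
        rcases subsingleton_or_nontrivial (Fin n) with h | h
        · exact (Subgroup.eq_bot_iff_forall D).2 fun x _ =>
            Subtype.ext (Subsingleton.elim (x : Equiv.Perm (Fin n)) 1)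
        · exact hcov.defect_zero hM hm hD
      have hd : blockDefect p B = 0 := by
        have h1 := Cfsg.Agent.Block.card_defectGroup hM hB hD
        rw [hbot, Subgroup.card_bot, eq_comm, Nat.pow_eq_one] at h1
        exact h1.resolve_left hp.ne_one
      refine ⟨fun χ hχ => ?_, ?_⟩
      · rw [Cfsg.Agent.Block.blockHeight_eq hM hB hχ, hd, zero_add, Nat.sub_eq_zero_iff_le]
        exact (Nat.factorization_le_iff_dvd (Cfsg.Agent.Block.charDeg_pos χ).ne' Nat.card_pos.ne').2
          (Cfsg.Agent.Block.charDeg_dvd χ) p
      · subst hbot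
        exact ⟨⟨fun a b => Subsingleton.elim _ _⟩⟩
    obtain ⟨T⟩ : Nonempty (Sylow p (Equiv.Perm (Fin W))) := inferInstance
    obtain ⟨⟨e⟩, hh⟩ := hcov.positive hM hm' hW hD T
    by_cases hbig : p ≤ W ∧ (p = 2 → 3 ≤ W)
    · refine Or.inl ⟨?_, ?_⟩
      · obtain ⟨χ, hχ, h1, h2⟩ := hm'.exists_height_one hM hcov.hB hbig.1 hbig.2
        obtain ⟨ψ, hψ⟩ := exists_under χ
        obtain ⟨g, hg⟩ : ψ ∈ Cfsg.Agent.Block.conjUnion (Alt n) B :=
          hcov.under_eq hM ▸ ⟨χ, hχ, hψ⟩
        refine ⟨_, hg, ?_⟩
        obtain ⟨ha, hb⟩ := hh _ hg χ hχ (Cfsg.Agent.Block.constituent_of_conj (Alt n) g hψ)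
        by_cases htw : twist χ = χ
        · rw [hb htw, h1, if_neg fun h => h2 h htw]
        · rw [ha htw, h1]
      · refine degree_transfer e.toMonoidHom e.surjective ?_
        by_cases hp2 : p = 2
        · by_cases hW3 : W = 3
          · exact exists_degree_wrA_small hbig.1 (fun _ => hW3) T
          · refine degree_transfer (MonoidHom.mk' (fun π : wrA p (T : Subgroup (Equiv.Perm (Fin W))) => base (π : wr p (T : Subgroup (Equiv.Perm (Fin W))))) fun _ _ => base_mul _ _)
              (fun s => ⟨⟨mkWr s 0, mkWr_zero_mem T.isPGroup' s⟩, (mkWr_spec s 0).1⟩) ?_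
            refine sylow_degree ?_ T
            rw [Fintype.card_fin, hp2]
            have := hbig.2 hp2
            omega
        · refine degree_transfer (wrA p _).subtype (fun x => ?_) (wr_degree hbig.1 T)
          exact ⟨⟨x, by rw [wrA_eq_top hp2 T.isPGroup']; trivial⟩, rfl⟩
    refine Or.inr ⟨fun ψ hψ => ?_, ?_⟩
    · obtain ⟨χ, hχ, hov⟩ := hcov.exists_over hM hψ
      obtain ⟨ha, hb⟩ := hh ψ hψ χ hχ hov
      by_cases h0 : blockHeight p B' (χ : Equiv.Perm (Fin n) → ℂ) = 0
      · by_cases htw : twist χ = χ
        · rw [hb htw, h0, Nat.zero_sub]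
        · rw [ha htw, h0]
      · by_cases hWp : W < p
        · exact absurd (hm'.height_eq_zero hM hcov.hB hWp hχ) h0
        obtain rfl : p = 2 := by
          by_contra hne
          exact hbig ⟨not_lt.1 hWp, fun h => absurd h hne⟩
        obtain rfl : W = 2 := by
          rcases eq_or_ne W 2 with h | h
          · exact h
          · exact absurd ⟨not_lt.1 hWp, fun _ => by omega⟩ hbig
        have htw := HasCore.twist_eq_of_two hM hcov.hB hm' hχ h0
        obtain ⟨a, -, -, -, hsum⟩ := hm'.height_add hM hcov.hB hχ
        rw [show Nat.factorial 2 = 2 from rfl, Nat.prime_two.factorization_self] at hsum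
        rw [hb htw, if_pos rfl]
        omega
    · have hcomm : ∀ x y : wrA p (T : Subgroup (Equiv.Perm (Fin W))), x * y = y * x := by
        by_cases hWp : W < p
        · have hTb : ∀ t : (T : Subgroup (Equiv.Perm (Fin W))), t = 1 := by
            have h1 : (T : Subgroup (Equiv.Perm (Fin W))) = ⊥ := by
              refine Subgroup.eq_bot_of_card_eq _ ?_
              rw [T.card_eq_multiplicity, Nat.card_perm, Nat.card_fin,
                Nat.factorization_eq_zero_of_not_dvd fun hd =>
                  absurd ((Nat.Prime.dvd_factorial hp).1 hd) (not_le.2 hWp), pow_zero]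
            intro t
            exact Subtype.ext (Subgroup.mem_bot.1 (h1 ▸ t.2))
          intro x y
          refine Subtype.ext (wr_ext ((hTb _).trans (hTb _).symm) (funext fun i => ?_))
          rw [Subgroup.coe_mul, Subgroup.coe_mul, shift_mul, shift_mul, hTb (base _),
            hTb (base (x : wr p _))]
          exact add_comm _ _
        obtain rfl : p = 2 := by
          by_contra hne
          exact hbig ⟨not_lt.1 hWp, fun h => absurd h hne⟩
        obtain rfl : W = 2 := by
          rcases eq_or_ne W 2 with h | h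
          · exact h
          · exact absurd ⟨not_lt.1 hWp, fun _ => by omega⟩ hbig
        have hc := card_wrA (p := 2) hW T.isPGroup'
        rw [card_wr, T.card_eq_multiplicity, Nat.card_perm, Nat.card_fin,
          show Nat.factorial 2 = 2 from rfl, Nat.prime_two.factorization_self, if_pos rfl] at hc
        exact IsPGroup.commutative_of_card_eq_prime_sq (p := 2) (by omega)
      exact ⟨⟨fun x y => e.injective (by rw [map_mul, map_mul, hcomm])⟩⟩

end Cfsg.Agent.S4949
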