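import Cfsg.Statements.S4964
import Mathlib
import Cfsg.Agent.Lib.Block.QuotientBlocks
import Cfsg.Agent.Lib.Fus.SupersolubleMetacyclic
import Cfsg.Agent.Lib.Grp.Frattini
-- import your own Cfsg.Agent.* helpers here

set_option autoImplicit false
open Cfsg

namespace Cfsg.Agent.S4964

/-- Let D be a normal p-subgroup of the finite group G, let D′ be its commutator subgroup (normal in G), and fix a maximal ideal M of the algebraic integers containing p. Then (i) two irreducible characters of G ⧸ D′ lie in the same p-block if and only if their inflations to G do, and (ii) every p-block of G contains the inflation of some irreducible character of G ⧸ D′; so inflation induces a bijection between the p-blocks of G ⧸ D′ and the p-blocks of G. -/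
theorem result {G : Type*} [Group G] [Finite G] (p : ℕ) [Fact p.Prime] (M : Ideal Cfsg.AlgInt) (hM : Cfsg.IsPModular p M) (D : Subgroup G) [D.Normal] (hD : IsPGroup p D) : (∀ χ ψ : Cfsg.IrrCharacter (G ⧸ ⁅D, D⁆), Cfsg.SameBlock M (χ : G ⧸ ⁅D, D⁆ → ℂ) (ψ : G ⧸ ⁅D, D⁆ → ℂ) ↔ Cfsg.SameBlock M ((χ : G ⧸ ⁅D, D⁆ → ℂ) ∘ QuotientGroup.mk) ((ψ : G ⧸ ⁅D, D⁆ → ℂ) ∘ QuotientGroup.mk)) ∧ ∀ B : Set (Cfsg.IrrCharacter G), Cfsg.IsPBlock M B → ∃ χ : Cfsg.IrrCharacter (G ⧸ ⁅D, D⁆), ∃ θ ∈ B, (θ : G → ℂ) = (χ : G ⧸ ⁅D, D⁆ → ℂ) ∘ QuotientGroup.mk := by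
  haveI : (⁅D, D⁆ : Subgroup G).Normal := inferInstance
  have hle : ⁅D, D⁆ ≤ D := Subgroup.commutator_le_self D
  have hN : IsPGroup p (⁅D, D⁆ : Subgroup G) := hD.to_le hle
  refine ⟨Agent.Block.sameBlock_inflate _ hM hN ?_, fun B hB => Agent.Block.exists_inflated _ hM hN hB⟩
  intro g hg hgN χ
  haveI : (D.map (QuotientGroup.mk' ⁅D, D⁆)).Normal :=
    Subgroup.Normal.map inferInstance _ (QuotientGroup.mk'_surjective _)
  refine Agent.Block.centralChar_ideal_of_normal hM (hD.map (QuotientGroup.mk' ⁅D, D⁆)) (fun hc => hgN ?_) χ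
  have hfix : ∀ d : D, g * (d : G) * g⁻¹ = d := by
    let β : MulAut D := MulAut.conjNormal g
    have hβ : β ^ orderOf g = 1 := by
      rw [← map_pow, pow_orderOf_eq_one, map_one]
    have h1 : β = 1 := Agent.Fus.SuperMeta.eq_one_of_coprime_frattini hD
      (((Fact.out : p.Prime).coprime_iff_not_dvd.mpr hg).symm) hβ fun d => by
      refine Agent.Grp.pGroup_commutator_le_frattini hD ?_
      have h2 : ((d⁻¹ * β d : D) : G) ∈ (⁅D, D⁆ : Subgroup G) := by
        show (d : G)⁻¹ * (g * (d : G) * g⁻¹) ∈ (⁅D, D⁆ : Subgroup G)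
        rw [← QuotientGroup.eq_one_iff]
        have h3 := Subgroup.mem_centralizer_iff.mp hc _ ⟨(d : G), d.2, rfl⟩
        simp only [QuotientGroup.mk'_apply] at h3
        simp only [QuotientGroup.mk_mul, QuotientGroup.mk_inv, ← h3]
        group
      rw [← Subgroup.map_subtype_commutator] at h2
      obtain ⟨y, hy, e⟩ := h2
      exact (Subtype.ext e : y = d⁻¹ * β d) ▸ hy
    intro d
    have h2 := congrArg (fun a : MulAut D => ((a d : D) : G)) h1
    exact h2
  refine Subgroup.mem_centralizer_iff.mpr fun n hn => ?_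
  exact (mul_inv_eq_iff_eq_mul.mp (hfix ⟨n, hle hn⟩)).symm

end Cfsg.Agent.S4964
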