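import Mathlib
import Cfsg.Statements.S4967
-- import your own Cfsg.Agent.* helpers here

set_option autoImplicit false
open Cfsg

namespace Cfsg.Agent.S4967

section Field

variable {F K : Type*} [Field F] [Fintype F] [Field K] [Finite K] [Algebra F K]

theorem algHom_eq_pow (φ : K →ₐ[F] K) :
    ∃ i < Module.finrank F K, ∀ x : K, φ x = x ^ Fintype.card F ^ i := by
  obtain ⟨⟨i, hi⟩, h⟩ := (FiniteField.bijective_frobeniusAlgHom_pow F K).2 φ
  refine ⟨i, hi, fun x => ?_⟩
  rw [← h]
  simp only [AlgHom.coe_pow, FiniteField.coe_frobeniusAlgHom, pow_iterate]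

theorem key_fwd (hn : 2 ≤ Module.finrank F K) (s : Set K) (hs : Algebra.adjoin F s = ⊤)
    (φ : K →ₐ[F] K) (hφ : ∀ h ∈ s, h * φ h = 1) :
    Even (Module.finrank F K) ∧
      ∀ h ∈ s, h ^ (Fintype.card F ^ (Module.finrank F K / 2) + 1) = 1 := by
  obtain ⟨i, hi, hpow⟩ := algHom_eq_pow φ
  have hinv : ∀ h ∈ s, φ h = h⁻¹ := fun h hh => eq_inv_of_mul_eq_one_right (hφ h hh)
  have hφφ : φ.comp φ = AlgHom.id F K := by
    refine AlgHom.ext_of_adjoin_eq_top hs fun x hx => ?_
    show φ (φ x) = x
    rw [hinv x hx, map_inv₀, hinv x hx, inv_inv]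
  have hi0 : i ≠ 0 := by
    rintro rfl
    have hb : Algebra.adjoin F s ≤ ⊥ := Algebra.adjoin_le fun h hh => by
      have h1 := hφ h hh
      rw [hpow h, pow_zero, pow_one, mul_self_eq_one_iff] at h1
      rcases h1 with rfl | rfl
      · exact one_mem (⊥ : Subalgebra F K)
      · exact neg_mem (one_mem (⊥ : Subalgebra F K))
    rw [hs, top_le_iff] at hb
    have : Module.finrank F K = 1 := Subalgebra.bot_eq_top_iff_finrank_eq_one.1 hb
    omega
  have h2i : Module.finrank F K = 2 * i := by
    have hid : FiniteField.frobeniusAlgHom F K ^ (2 * i) = 1 := AlgHom.ext fun x => by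
      have := AlgHom.congr_fun hφφ x
      rw [AlgHom.comp_apply, hpow (φ x), hpow x, AlgHom.id_apply, ← pow_mul, ← pow_add] at this
      simp only [AlgHom.coe_pow, FiniteField.coe_frobeniusAlgHom, pow_iterate, AlgHom.one_apply]
      rw [two_mul]
      exact this
    have hd := orderOf_dvd_of_pow_eq_one hid
    rw [FiniteField.orderOf_frobeniusAlgHom] at hd
    obtain ⟨c, hc⟩ := hd
    rcases c with _ | _ | c
    · omega
    · omega
    · exfalso
      have : Module.finrank F K * 2 ≤ Module.finrank F K * (c + 1 + 1) :=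
        Nat.mul_le_mul_left _ (by omega)
      omega
  refine ⟨⟨i, by omega⟩, fun h hh => ?_⟩
  rw [h2i, Nat.mul_div_cancel_left i two_pos, pow_succ', ← hpow h]
  exact hφ h hh

theorem key_bwd (s : Set K) (m : ℕ) (hm : ∀ h ∈ s, h ^ (Fintype.card F ^ m + 1) = 1) :
    ∃ B : K →ₗ[F] K →ₗ[F] F, B.Nondegenerate ∧ ∀ h ∈ s, ∀ x y, B (h * x) (h * y) = B x y := by
  obtain ⟨τ, hτ⟩ := exists_ne (0 : K →ₗ[F] F)
  obtain ⟨c, hc⟩ : ∃ c, τ c ≠ 0 := by
    by_contra h
    exact hτ (LinearMap.ext fun c => not_not.1 fun hc => h ⟨c, hc⟩)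
  let σ : K →ₐ[F] K := FiniteField.frobeniusAlgHom F K ^ m
  have hσ : ∀ x, σ x = x ^ Fintype.card F ^ m := fun x => by
    simp [σ, AlgHom.coe_pow, FiniteField.coe_frobeniusAlgHom, pow_iterate]
  have hbij : Function.Bijective σ := σ.bijective
  let B : K →ₗ[F] K →ₗ[F] F :=
    LinearMap.mk₂ F (fun x y => τ (x * σ y)) (fun a b y => by simp [add_mul])
      (fun r a y => by simp) (fun x a b => by simp [mul_add]) (fun r x a => by simp)
  refine ⟨B, ⟨fun x hx => ?_, fun y hy => ?_⟩, fun h hh x y => ?_⟩
  · by_contra h0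
    obtain ⟨y, hy⟩ := hbij.2 (x⁻¹ * c)
    have := hx y
    simp only [B, LinearMap.mk₂_apply, hy, mul_inv_cancel_left₀ h0] at this
    exact hc this
  · by_contra h0
    have h1 : σ y ≠ 0 := fun h => h0 (hbij.1 (h.trans (map_zero σ).symm))
    have := hy (c * (σ y)⁻¹)
    simp only [B, LinearMap.mk₂_apply, inv_mul_cancel_right₀ h1] at this
    exact hc this
  · have : h * σ h = 1 := by rw [hσ, ← pow_succ']; exact hm h hh
    simp only [B, LinearMap.mk₂_apply, map_mul]
    rw [mul_mul_mul_comm, this, one_mul]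

theorem exists_algHom (s : Set K) (hs : Algebra.adjoin F s = ⊤) (hunit : ∀ h ∈ s, h ≠ 0)
    (B : K →ₗ[F] K →ₗ[F] F) (hB : B.Nondegenerate)
    (hinv : ∀ h ∈ s, ∀ x y, B (h * x) (h * y) = B x y) :
    ∃ φ : K →ₐ[F] K, ∀ h ∈ s, h * φ h = 1 := by
  let τ : K →ₗ[F] F := B 1
  have hτ : τ ≠ 0 := fun h => one_ne_zero (hB.1 1 fun y => by
    show τ y = 0
    rw [h]; rfl)
  obtain ⟨c, hc⟩ : ∃ c, τ c ≠ 0 := by
    by_contra h
    exact hτ (LinearMap.ext fun c => not_not.1 fun hc => h ⟨c, hc⟩)
  let L : K →ₗ[F] K →ₗ[F] F :=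
    LinearMap.mk₂ F (fun x y => τ (x * y)) (fun a b y => by simp [add_mul])
      (fun r a y => by simp) (fun x a b => by simp [mul_add]) (fun r x a => by simp)
  have hL : Function.Injective L := (injective_iff_map_eq_zero L).2 fun x hx => by
    by_contra h0
    have := LinearMap.congr_fun hx (x⁻¹ * c)
    simp only [L, LinearMap.mk₂_apply, mul_inv_cancel_left₀ h0, LinearMap.zero_apply] at this
    exact hc this
  let e : K ≃ₗ[F] (K →ₗ[F] F) :=
    LinearEquiv.ofInjectiveOfFinrankEq L hL (by rw [Module.finrank_linearMap_self])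
  let φ : K →ₗ[F] K := e.symm.toLinearMap.comp B
  have hspec : ∀ a y, τ (φ a * y) = B a y := fun a y =>
    LinearMap.congr_fun (e.apply_symm_apply (B a)) y
  have huniq : ∀ a x, (∀ y, τ (x * y) = B a y) → φ a = x := fun a x h =>
    hL (LinearMap.ext fun y => (hspec a y).trans (h y).symm)
  have h1 : φ 1 = 1 := huniq 1 1 fun y => by rw [one_mul]
  have hh : ∀ h ∈ s, ∀ a, φ (h * a) = h⁻¹ * φ a := fun h hh a => huniq _ _ fun y => by
    have h0 := hunit h hh
    rw [mul_assoc, mul_left_comm, hspec, ← hinv h hh a (h⁻¹ * y), mul_inv_cancel_left₀ h0]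
  let T : Subalgebra F K :=
    { carrier := {x | ∀ a, φ (x * a) = φ x * φ a}
      mul_mem' := fun {x y} hx hy a => by rw [mul_assoc, hx, hy, hx y, mul_assoc]
      one_mem' := fun a => by rw [h1, one_mul, one_mul]
      add_mem' := fun {x y} hx hy a => by rw [add_mul, map_add, hx, hy, map_add, add_mul]
      zero_mem' := fun a => by simp
      algebraMap_mem' := fun r a => by
        rw [Algebra.algebraMap_eq_smul_one, smul_mul_assoc, one_mul, map_smul, map_smul, h1,
          smul_mul_assoc, one_mul] }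
  have hT : Algebra.adjoin F s ≤ T := Algebra.adjoin_le fun h hhs a => by
    have := hh h hhs 1
    rw [mul_one, h1, mul_one] at this
    rw [hh h hhs, this]
  rw [hs] at hT
  refine ⟨AlgHom.ofLinearMap φ h1 fun x y => hT Algebra.mem_top y, fun h hhs => ?_⟩
  show h * φ h = 1
  have := hh h hhs 1
  rw [mul_one, h1, mul_one] at this
  rw [this, mul_inv_cancel₀ (hunit h hhs)]

end Field

/-- Let F be a finite field with r elements and of characteristic p, H a finite abelian group of order prime to p, and V a faithful irreducible representation of H over F of dimension n (faithful: distinct elements act differently; irreducible: the only H-invariant subspaces are 0 and V). Call V self-dual when it carries a nondegenerate H-invariant bilinear form. If n = 1 and V is self-dual then H has order at most 2. If n ≥ 2 then V is self-dual if and only if n is even and the order of H divides r^(n/2) + 1. -/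
theorem result {F : Type*} [Field F] [Fintype F] (p : ℕ) [Fact p.Prime] [CharP F p] {H : Type*} [CommGroup H] [Finite H] (hcop : ¬ p ∣ Nat.card H) {V : Type*} [AddCommGroup V] [Module F V] [FiniteDimensional F V] (ρ : Representation F H V) (hfaith : Function.Injective ρ) (hirr : ∀ U : Submodule F V, (∀ h : H, ∀ u ∈ U, ρ h u ∈ U) → U = ⊥ ∨ U = ⊤) : (Module.finrank F V = 1 → (∃ B : LinearMap.BilinForm F V, B.Nondegenerate ∧ ∀ h : H, ∀ x y : V, B (ρ h x) (ρ h y) = B x y) → Nat.card H ≤ 2) ∧ (2 ≤ Module.finrank F V → ((∃ B : LinearMap.BilinForm F V, B.Nondegenerate ∧ ∀ h : H, ∀ x y : V, B (ρ h x) (ρ h y) = B x y) ↔ (Even (Module.finrank F V) ∧ Nat.card H ∣ Fintype.card F ^ (Module.finrank F V / 2) + 1))) := by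
  classical
  refine ⟨fun hn ⟨B, hB, hinv⟩ => ?_, fun hn => ?_⟩
  · obtain ⟨v, hv⟩ := Module.finrank_pos_iff_exists_ne_zero.1 (by omega : 0 < Module.finrank F V)
    choose c hc using fun h : H => exists_smul_eq_of_finrank_eq_one hn hv (ρ h v)
    have hBv : B v v ≠ 0 := fun h0 => hv (hB.1 v fun y => by
      obtain ⟨a, rfl⟩ := exists_smul_eq_of_finrank_eq_one hn hv y
      simp [h0])
    have hc2 : ∀ h, c h = 1 ∨ c h = -1 := fun h => by
      have h1 := hinv h v v
      rw [← hc h] at h1
      simp only [map_smul, LinearMap.smul_apply, smul_eq_mul] at h1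
      have : (c h * c h - 1) * B v v = 0 := by linear_combination h1
      rcases mul_eq_zero.1 this with h2 | h2
      · exact mul_self_eq_one_iff.1 (sub_eq_zero.1 h2)
      · exact absurd h2 hBv
    have hinj : Function.Injective c := fun a b hab => hfaith (LinearMap.ext fun y => by
      obtain ⟨r, rfl⟩ := exists_smul_eq_of_finrank_eq_one hn hv y
      rw [map_smul, map_smul, ← hc a, ← hc b, hab])
    haveI := Fintype.ofFinite H
    calc Nat.card H = (Finset.univ.image c).card := by
          rw [Finset.card_image_of_injective _ hinj, Finset.card_univ, Nat.card_eq_fintype_card]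
      _ ≤ ({1, -1} : Finset F).card := Finset.card_le_card fun x hx => by
          obtain ⟨h, -, rfl⟩ := Finset.mem_image.1 hx
          simpa using hc2 h
      _ ≤ 2 := Finset.card_le_two
  obtain ⟨v, hv⟩ := Module.finrank_pos_iff_exists_ne_zero.1 (by omega : 0 < Module.finrank F V)
  have hcomm : ∀ a ∈ Set.range ρ, ∀ b ∈ Set.range ρ, a * b = b * a := by
    rintro _ ⟨a, rfl⟩ _ ⟨b, rfl⟩
    rw [← map_mul, ← map_mul, mul_comm]
  let A := Algebra.adjoin F (Set.range ρ)
  haveI : IsMulCommutative A := Algebra.isMulCommutative_adjoin F hcomm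
  have hcA : ∀ (a : A) (h : H) (x : V), (a : Module.End F V) (ρ h x) = ρ h ((a : Module.End F V) x) := by
    intro a h x
    have := congrArg Subtype.val
      (IsMulCommutative.is_comm.comm a ⟨ρ h, Algebra.subset_adjoin ⟨h, rfl⟩⟩)
    exact LinearMap.congr_fun this x
  have hA0 : ∀ (a : A) (x : V), (a : Module.End F V) x = 0 → x ≠ 0 → a = 0 := by
    intro a x hax hx
    rcases hirr (LinearMap.ker (a : Module.End F V))
      (fun h u hu => by
        rw [LinearMap.mem_ker] at hu ⊢
        rw [hcA, hu, map_zero]) with h | h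
    · exact absurd ((Submodule.eq_bot_iff _).1 h x hax) hx
    · exact Subtype.ext (LinearMap.ext fun y => LinearMap.mem_ker.1 (h ▸ Submodule.mem_top))
  letI : CommRing A := Algebra.adjoinCommRingOfComm F hcomm
  haveI : Nontrivial A := ⟨⟨0, 1, fun h => hv (by
    have := LinearMap.congr_fun (congrArg Subtype.val h) v
    simpa using this.symm)⟩⟩
  haveI : NoZeroDivisors A := ⟨fun {a b} hab => by
    by_contra hne
    rw [not_or] at hne
    have h1 : ∀ x, (b : Module.End F V) x ≠ 0 → False := fun x hx => hne.1 (hA0 a _ (by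
      have := LinearMap.congr_fun (congrArg Subtype.val hab) x
      simpa using this) hx)
    exact hne.2 (Subtype.ext (LinearMap.ext fun x => by
      by_contra hx
      exact h1 x hx))⟩
  haveI : IsDomain A := NoZeroDivisors.to_isDomain A
  haveI : Finite V := Module.finite_of_finite F
  haveI : Finite A := Finite.of_injective (fun a : A => ⇑(a : Module.End F V))
    (DFunLike.coe_injective.comp Subtype.val_injective)
  haveI := Fintype.ofFinite A
  letI : Field A := Fintype.fieldOfDomain A
  let ev : A →ₗ[F] V :=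
    { toFun := fun a => (a : Module.End F V) v
      map_add' := fun a b => rfl
      map_smul' := fun r a => rfl }
  have hev : Function.Bijective ev := by
    refine ⟨(injective_iff_map_eq_zero ev).2 fun a ha => hA0 a v ha hv, ?_⟩
    rw [← LinearMap.range_eq_top]
    refine (hirr (LinearMap.range ev) fun h u hu => ?_).resolve_left fun hb => hv ?_
    · obtain ⟨a, rfl⟩ := LinearMap.mem_range.1 hu
      exact ⟨⟨ρ h, Algebra.subset_adjoin ⟨h, rfl⟩⟩ * a, rfl⟩
    · exact (Submodule.eq_bot_iff _).1 hb v ⟨1, rfl⟩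
  let e : A ≃ₗ[F] V := LinearEquiv.ofBijective ev hev
  let f : H →* A :=
    { toFun := fun h => ⟨ρ h, Algebra.subset_adjoin ⟨h, rfl⟩⟩
      map_one' := Subtype.ext (map_one ρ)
      map_mul' := fun a b => Subtype.ext (map_mul ρ a b) }
  have hf : Function.Injective f := fun a b hab => hfaith (congrArg Subtype.val hab)
  have he : ∀ h a, e (f h * a) = ρ h (e a) := fun h a => rfl
  have hrank : Module.finrank F A = Module.finrank F V := e.finrank_eq
  have hs : Algebra.adjoin F (Set.range f) = (⊤ : Subalgebra F A) := by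
    refine Algebra.eq_top_iff.2 ?_
    rintro ⟨x, hx⟩
    induction hx using Algebra.adjoin_induction with
    | mem y hy => obtain ⟨h, rfl⟩ := hy; exact Algebra.subset_adjoin ⟨h, rfl⟩
    | algebraMap r => exact algebraMap_mem _ r
    | add y z hy hz h1 h2 => exact add_mem h1 h2
    | mul y z hy hz h1 h2 => exact mul_mem h1 h2
  constructor
  · rintro ⟨B, hB, hinv⟩
    let B' : A →ₗ[F] A →ₗ[F] F := B.compl₁₂ e.toLinearMap e.toLinearMap
    have hB' : B'.Nondegenerate := ⟨fun x hx => e.injective (by
        rw [map_zero]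
        refine hB.1 _ fun y => ?_
        obtain ⟨y, rfl⟩ := e.surjective y
        exact hx y),
      fun y hy => e.injective (by
        rw [map_zero]
        refine hB.2 _ fun x => ?_
        obtain ⟨x, rfl⟩ := e.surjective x
        exact hy x)⟩
    have hu : ∀ h ∈ Set.range f, h ≠ 0 := by
      rintro _ ⟨h, rfl⟩ h0
      have := congrArg (· * f h⁻¹) h0
      simp only [← map_mul, mul_inv_cancel, map_one, zero_mul] at this
      exact one_ne_zero this
    obtain ⟨φ, hφ⟩ := exists_algHom (Set.range f) hs hu B' hB' (by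
      rintro _ ⟨h, rfl⟩ x y
      show B (e (f h * x)) (e (f h * y)) = B (e x) (e y)
      rw [he, he, hinv])
    obtain ⟨heven, hexp⟩ := key_fwd (by omega) (Set.range f) hs φ hφ
    rw [hrank] at heven hexp
    refine ⟨heven, ?_⟩
    haveI : IsCyclic H := isCyclic_of_subgroup_isDomain f hf
    rw [← IsCyclic.exponent_eq_card]
    exact Monoid.exponent_dvd_of_forall_pow_eq_one fun h => hf (by
      rw [map_pow, map_one]
      exact hexp _ ⟨h, rfl⟩)
  · rintro ⟨-, hdvd⟩
    obtain ⟨B', hB', hinv⟩ := key_bwd (F := F) (Set.range f) (Module.finrank F V / 2) (by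
      rintro _ ⟨h, rfl⟩
      obtain ⟨k, hk⟩ := hdvd
      rw [hk, ← map_pow, pow_mul, pow_card_eq_one', one_pow, map_one])
    refine ⟨B'.compl₁₂ e.symm.toLinearMap e.symm.toLinearMap,
      ⟨fun x hx => e.symm.injective (by
        rw [map_zero]
        refine hB'.1 _ fun y => ?_
        have := hx (e y)
        simpa using this),
      fun y hy => e.symm.injective (by
        rw [map_zero]
        refine hB'.2 _ fun x => ?_
        have := hy (e x)
        simpa using this)⟩, fun h x y => ?_⟩
    have hes : ∀ z, e.symm (ρ h z) = f h * e.symm z := fun z => e.injective (by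
      rw [e.apply_symm_apply, he, e.apply_symm_apply])
    simp only [LinearMap.compl₁₂_apply, LinearEquiv.coe_coe, hes]
    exact hinv _ ⟨h, rfl⟩ _ _

end Cfsg.Agent.S4967
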