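import Cfsg.Agent.Lib.Char.Contrib
import Cfsg.Statements.S4989
-- import your own Cfsg.Agent.* helpers here

set_option autoImplicit false
open Cfsg

namespace Cfsg.Agent.S4989

/-- Let H be a subgroup of the finite group G and χ an irreducible complex character of G. Then the inner product of the restriction of χ to H with itself, (1/#H)·Σ_{h ∈ H} |χ(h)|², is at most 1 + #(Z ∖ H)/#H, where Z is the set of zeros of χ in G. -/
theorem result {G : Type*} [Group G] [Finite G] (H : Subgroup G) (χ : Cfsg.IrrCharacter G) : (Nat.card ↥H : ℝ)⁻¹ * ∑ᶠ h : ↥H, ‖(χ : G → ℂ) h‖ ^ 2 ≤ 1 + (Set.ncard ({x : G | (χ : G → ℂ) x = 0} \ (H : Set G)) : ℝ) / (Nat.card ↥H : ℝ) := by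
  classical
  cases nonempty_fintype G
  cases nonempty_fintype H
  obtain ⟨n, ρ, hρ⟩ := Cfsg.Agent.Block.irr_isChar χ
  choose b c _ hc hk using fun x : G => Cfsg.Agent.Char.exists_rep_eigenbasis ρ x
  set f : G → ℂ := (χ : G → ℂ) with hf
  set S := Finset.univ.filter (fun x : G => x ∉ H ∧ f x ≠ 0) with hS
  set Z := Finset.univ.filter (fun x : G => x ∉ H ∧ f x = 0) with hZ
  -- the product of the values is a nonzero rational algebraic integer
  have hsum : ∀ j : ℕ, ∑ w ∈ S.pi (fun x => (Finset.univ : Finset (Fin _))),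
      (∏ x ∈ S.attach, c x.1 (w x.1 x.2)) ^ j = ∏ x ∈ S, f (x ^ j) := by
    intro j
    simp only [← Finset.prod_pow]
    rw [← Finset.prod_sum (f := fun x i => c x i ^ j)]
    exact Finset.prod_congr rfl fun x _ => by rw [show f = ρ.character from hρ.symm]; exact (hk x j).symm
  obtain ⟨r, hr⟩ := Cfsg.Agent.Char.exists_rat_of_fixed (Nat.card_pos (α := G))
    (S.pi (fun x => (Finset.univ : Finset (Fin _))))
    (fun w => ∏ x ∈ S.attach, c x.1 (w x.1 x.2))
    (fun w _ => by
      rw [← Finset.prod_pow]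
      refine Finset.prod_eq_one fun x _ => ?_
      obtain ⟨k, hk'⟩ := orderOf_dvd_natCard x.1
      rw [hk', pow_mul, hc, one_pow])
    (fun j hj => by
      have h1 := hsum 1
      simp only [pow_one] at h1
      rw [hsum j, h1]
      obtain ⟨σ, hσ⟩ := Cfsg.Agent.Char.exists_galois (G := G) j hj
      have hσf : ∀ x, σ (f x) = f (x ^ j) := fun x => hσ _ (Cfsg.Agent.Block.irr_isChar χ) x
      refine Finset.prod_equiv (powCoprime hj.symm) (fun x => ?_) (fun x _ => rfl)
      simp only [hS, Finset.mem_filter, Finset.mem_univ, true_and, powCoprime, Equiv.coe_fn_mk]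
      rw [← hσf, map_ne_zero_iff σ σ.injective]
      refine and_congr_left fun _ => not_congr ⟨fun h => pow_mem h j, fun h => ?_⟩
      have h2 := (powCoprime hj.symm).symm_apply_apply x
      rw [← h2]
      simp only [powCoprime, Equiv.coe_fn_symm_mk]
      exact zpow_mem h _)
  have hprod : ∏ x ∈ S, f x = (r : ℂ) := by
    have h1 := hsum 1
    simp only [pow_one] at h1
    rw [← h1, hr]
  obtain ⟨z, hz⟩ := Cfsg.Agent.Char.int_of_isIntegral_rat (q := r) (by
    rw [← hprod]
    exact IsIntegral.prod _ fun x _ => Cfsg.Agent.Char.IsChar.isIntegral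
      (Cfsg.Agent.Block.irr_isChar χ) x)
  have hge : (1 : ℝ) ≤ ∏ x ∈ S, ‖f x‖ ^ 2 := by
    rw [Finset.prod_pow, ← norm_prod, hprod, hz, Complex.norm_intCast]
    have hz0 : z ≠ 0 := fun h => by
      rw [h, Int.cast_zero] at hz
      exact (Finset.prod_ne_zero_iff.2 fun x hx => (Finset.mem_filter.1 hx).2.2) (hprod.trans hz)
    have : (1 : ℝ) ≤ |(z : ℝ)| := by exact_mod_cast Int.one_le_abs hz0
    exact one_le_pow₀ this
  have hamgm : (S.card : ℝ) ≤ ∑ x ∈ S, ‖f x‖ ^ 2 := by
    rcases S.eq_empty_or_nonempty with he | hne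
    · simp [he]
    have hpos : (0 : ℝ) < S.card := by exact_mod_cast hne.card_pos
    have h1 := Real.geom_mean_le_arith_mean S (fun _ => 1) (fun x => ‖f x‖ ^ 2)
      (fun _ _ => zero_le_one) (by simpa using hne.card_pos) (fun _ _ => by positivity)
    simp only [Finset.sum_const, nsmul_eq_mul, mul_one, one_mul, Real.rpow_one] at h1
    have h2 : (1 : ℝ) ≤ (∏ x ∈ S, ‖f x‖ ^ 2) ^ ((S.card : ℝ)⁻¹) :=
      Real.one_le_rpow hge (by positivity)
    have h3 := h2.trans h1
    rwa [le_div_iff₀ hpos, one_mul] at h3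
  have htot : ∑ x : G, ‖f x‖ ^ 2 = (Nat.card G : ℝ) := by
    have h := Cfsg.Agent.Char.classInner_self_irr χ.2
    rw [Cfsg.classInner, inv_mul_eq_iff_eq_mul₀ (Nat.cast_ne_zero.mpr Nat.card_pos.ne'), mul_one] at h
    have h' : ((∑ x : G, ‖f x‖ ^ 2 : ℝ) : ℂ) = ((Nat.card G : ℝ) : ℂ) := by
      push_cast
      rw [← h]
      exact Finset.sum_congr rfl fun x _ => (Complex.mul_conj' (f x)).symm
    exact_mod_cast h'
  have hsplit : ∑ x : G, ‖f x‖ ^ 2 = ∑ x : H, ‖f x‖ ^ 2 + ∑ x ∈ S, ‖f x‖ ^ 2 := by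
    rw [← Finset.sum_filter_add_sum_filter_not Finset.univ (fun x => x ∈ H)]
    congr 1
    · exact Finset.sum_subtype _ (fun x => by simp) (fun x => ‖f x‖ ^ 2)
    · refine (Finset.sum_subset (fun x hx => ?_) fun x hx hxS => ?_).symm
      · simp only [hS, Finset.mem_filter, Finset.mem_univ, true_and] at hx ⊢; exact hx.1
      · simp only [hS, Finset.mem_filter, Finset.mem_univ, true_and] at hx hxS
        simp [not_not.1 fun h => hxS ⟨hx, h⟩]
  have hcard : (Nat.card G : ℝ) = Nat.card H + S.card + Z.card := by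
    have h1 : S.card + Z.card = (Finset.univ.filter fun x : G => x ∉ H).card := by
      rw [← Finset.card_union_of_disjoint (by
        simp only [hS, hZ, Finset.disjoint_left, Finset.mem_filter]; intros; tauto)]
      congr 1
      ext x; simp only [hS, hZ, Finset.mem_union, Finset.mem_filter, Finset.mem_univ, true_and]; tauto
    have h2 := Finset.card_filter_add_card_filter_not (s := (Finset.univ : Finset G)) (fun x => x ∈ H)
    rw [← h1, ← Fintype.card_subtype, Finset.card_univ, ← Nat.card_eq_fintype_card,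
      ← Nat.card_eq_fintype_card] at h2
    have h3 : Nat.card H + S.card + Z.card = Nat.card G := by rw [← h2]; ring
    exact_mod_cast h3.symm
  have hncard : Set.ncard ({x : G | (χ : G → ℂ) x = 0} \ (H : Set G)) = Z.card := by
    rw [← Set.ncard_coe_finset]
    congr 1
    ext x
    simp only [hZ, hf, Set.mem_diff, Set.mem_setOf_eq, SetLike.mem_coe, Finset.coe_filter,
      Finset.mem_univ, true_and]
    tauto
  rw [hncard, finsum_eq_sum_of_fintype, inv_mul_le_iff₀ (by exact_mod_cast Nat.card_pos)]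
  rw [mul_add, mul_one, mul_div_cancel₀ _ (by exact_mod_cast Nat.card_pos.ne')]
  show ∑ x : H, ‖f x‖ ^ 2 ≤ _
  linarith

end Cfsg.Agent.S4989
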