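import Cfsg.Statements.S4993
import Cfsg.Agent.Lib.Block.PrimClass.Main
import Cfsg.Agent.Lib.Grp.Cores

set_option autoImplicit false
open Cfsg

namespace Cfsg.Agent.S4993

/-- Let G be a group of odd order whose order has exactly two prime divisors and whose quotient by its Fitting subgroup is nilpotent (G is metanilpotent), and let χ be a primitive irreducible complex character of G (not induced from a character of any proper subgroup). Then χ(1) divides the size of some conjugacy class of G. -/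
theorem result {G : Type*} [Group G] [Fintype G] (hodd : Odd (Nat.card G)) (h2 : (Nat.card G).primeFactors.card = 2) [hF : (Cfsg.fittingSubgroup G).Normal] (hmeta : Group.IsNilpotent (G ⧸ Cfsg.fittingSubgroup G)) (χ : Cfsg.IrrCharacter G) (hprim : ¬ ∃ (H : Subgroup G), H ≠ ⊤ ∧ ∃ θ : ↥H → ℂ, Cfsg.IsCharacter ↥H θ ∧ Cfsg.indFun H θ = (χ : G → ℂ)) : ∃ g : G, Cfsg.charDegree (χ : G → ℂ) ∣ (Subgroup.centralizer ({g} : Set G)).index := by
  classical
  obtain ⟨p, q, hpq, hs⟩ := Finset.card_eq_two.1 h2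
  have hp : p.Prime ∧ _ := Nat.mem_primeFactors.1 (hs ▸ Finset.mem_insert_self p _)
  have hq : q.Prime ∧ _ :=
    Nat.mem_primeFactors.1 (hs ▸ Finset.mem_insert_of_mem (Finset.mem_singleton_self q))
  haveI := Fact.mk hp.1
  haveI := Fact.mk hq.1
  haveI : Group.IsNilpotent ↥(Cfsg.fittingSubgroup G) := Cfsg.Agent.Grp.fittingSubgroup_isNilpotent
  obtain ⟨d, hd⟩ := Cfsg.Agent.Char.IsChar.one_eq_nat (Cfsg.Agent.Char.IsIrr.isCharacter χ.2)
  have hdeg : Cfsg.charDegree (χ : G → ℂ) = d := by
    rw [Cfsg.charDegree, hd, Complex.natCast_re, Nat.floor_natCast]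
  rw [hdeg]
  exact Cfsg.Agent.Block.PrimClass.dvd_class χ.2
    (fun H hH θ hθ h => hprim ⟨H, hH, θ, hθ, h⟩) (Cfsg.fittingSubgroup G) hmeta hpq
    (fun r hr hdvd => by
      have := Nat.mem_primeFactors.2 ⟨hr, hdvd, Nat.card_pos.ne'⟩
      rw [hs] at this
      simpa using this) hd

end Cfsg.Agent.S4993
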