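import Cfsg.Statements.S4996
import Mathlib
import Cfsg.Agent.Lib.Char.Average
import Cfsg.Agent.Lib.Char.Galois
import Cfsg.Agent.Lib.Char.Integral
import Cfsg.Agent.Lib.Block.ClassMul
-- import your own Cfsg.Agent.* helpers here

set_option autoImplicit false
open Cfsg

namespace Cfsg.Agent.S4996

universe u

open Cfsg.Agent.Char in
/-- Burnside: a character of mean value one with nonnegative nonzero values is one. -/
theorem eq_one_of_pos {G : Type u} [Group G] [Fintype G] {μ : G → ℂ} (hμ : IsCharacter G μ)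
    (hreal : ∀ g, ∃ r : ℝ, 0 < r ∧ μ g = (r : ℂ)) (hsum : ∑ g : G, μ g = (Nat.card G : ℂ)) : μ 1 = 1 := by
  classical
  obtain ⟨n, ρ, rfl⟩ := hμ
  choose b c hb hc hk using fun g => exists_rep_eigenbasis ρ g
  have hval : ∀ g, ρ.character g = ∑ i, c g i := fun g => by simpa using hk g 1
  have hprod : ∀ k : ℕ, ∏ g : G, ρ.character (g ^ k) =
      ∑ f ∈ Fintype.piFinset (fun _ : G => (Finset.univ : Finset (Fin (Module.finrank ℂ (Fin n → ℂ))))), (∏ g, c g (f g)) ^ k := fun k => by
    rw [Finset.prod_congr rfl fun g _ => hk g k, Finset.prod_univ_sum]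
    exact Finset.sum_congr rfl fun f _ => (Finset.prod_pow _ k _)
  have hp1 := hprod 1
  simp only [pow_one] at hp1
  obtain ⟨q, hq⟩ := exists_rat_of_fixed (Nat.card_pos (α := G))
    (Fintype.piFinset (fun _ : G => (Finset.univ : Finset (Fin (Module.finrank ℂ (Fin n → ℂ)))))) (fun f => ∏ g, c g (f g))
    (fun f _ => by
      rw [← Finset.prod_pow]
      refine Finset.prod_eq_one fun g _ => ?_
      obtain ⟨m, hm⟩ := orderOf_dvd_natCard g
      rw [hm, pow_mul, hc g, one_pow])
    (fun k hkc => by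
      rw [← hprod, ← hp1]
      exact Fintype.prod_equiv (powCoprime hkc.symm) _ _ fun g => rfl)
  rw [← hp1] at hq
  have hint : IsIntegral ℤ (∏ g : G, ρ.character g) := IsIntegral.prod _ fun g _ => isIntegral_character ρ g
  rw [hq] at hint
  obtain ⟨z, hz⟩ := int_of_isIntegral_rat hint
  rw [hz] at hq
  choose r hr hrμ using hreal
  have hprodr : ∏ g : G, r g = (z : ℝ) := by
    have : ((∏ g : G, r g : ℝ) : ℂ) = ((z : ℝ) : ℂ) := by
      push_cast
      rw [← hq]
      exact Finset.prod_congr rfl fun g _ => (hrμ g).symm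
    exact_mod_cast this
  have hz1 : (1 : ℝ) ≤ ∏ g : G, r g := by
    rw [hprodr]
    have : (0 : ℝ) < (z : ℝ) := hprodr ▸ Finset.prod_pos fun g _ => hr g
    exact_mod_cast this
  have hsumr : ∑ g : G, r g = (Nat.card G : ℝ) := by
    have : ((∑ g : G, r g : ℝ) : ℂ) = ((Nat.card G : ℝ) : ℂ) := by
      push_cast
      rw [← hsum]
      exact Finset.sum_congr rfl fun g _ => (hrμ g).symm
    exact_mod_cast this
  have hlog : ∀ g : G, Real.log (r g) ≤ r g - 1 := fun g => Real.log_le_sub_one_of_pos (hr g)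
  have h0 : ∑ g : G, (r g - 1 - Real.log (r g)) ≤ 0 := by
    rw [Finset.sum_sub_distrib, Finset.sum_sub_distrib, hsumr, Finset.sum_const, Finset.card_univ,
      ← Nat.card_eq_fintype_card, nsmul_eq_mul, mul_one, sub_self, zero_sub, ← Real.log_prod fun g _ => (hr g).ne']
    exact neg_nonpos.2 (Real.log_nonneg hz1)
  have h1 : r 1 - 1 - Real.log (r 1) ≤ 0 :=
    (Finset.single_le_sum (fun g _ => sub_nonneg.2 (hlog g)) (Finset.mem_univ 1)).trans h0
  have hr1 : r 1 = 1 := by
    by_contra hne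
    have := Real.log_lt_sub_one_of_pos (hr 1) hne
    linarith
  rw [hrμ 1, hr1, Complex.ofReal_one]


/-- Let N be a normal subgroup of the finite group G and χ an irreducible complex character of G. Then the restriction of χ to N is not irreducible if and only if χ vanishes on some whole coset Nx of N in G. -/
theorem result {G : Type*} [Group G] [Finite G] (N : Subgroup G) [N.Normal] (χ : Cfsg.IrrCharacter G) : ¬ Cfsg.IsIrrCharacter ↥N (fun n : ↥N => (χ : G → ℂ) n) ↔ ∃ x : G, ∀ n : ↥N, (χ : G → ℂ) ((n : G) * x) = 0 := by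
  classical
  cases nonempty_fintype G
  open Cfsg.Agent.Char in
  set μ := avgN N (fun g => (χ : G → ℂ) g * (starRingEnd ℂ) ((χ : G → ℂ) g)) with hμdef
  have hχc := Cfsg.Agent.Char.IsIrr.isCharacter χ.2
  have hμ : IsCharacter G μ := Cfsg.Agent.Char.IsChar.avgN N (Cfsg.Agent.Char.IsChar.mul hχc (Cfsg.Agent.Char.IsChar.conj hχc))
  have hN : (Nat.card N : ℂ) ≠ 0 := Nat.cast_ne_zero.2 Nat.card_pos.ne'
  have hval : ∀ g, μ g = (((Nat.card N : ℝ)⁻¹ * ∑ n : N, ‖(χ : G → ℂ) ((n : G) * g)‖ ^ 2 : ℝ) : ℂ) := fun g => by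
    simp only [μ, Cfsg.Agent.Char.avgN, Complex.mul_conj, Complex.normSq_eq_norm_sq]
    push_cast
    rfl
  have hzero : ∀ g, μ g = 0 ↔ ∀ n : N, (χ : G → ℂ) ((n : G) * g) = 0 := fun g => by
    rw [hval, Complex.ofReal_eq_zero, mul_eq_zero, or_iff_right (inv_ne_zero (Nat.cast_ne_zero.2 Nat.card_pos.ne')),
      Finset.sum_eq_zero_iff_of_nonneg fun n _ => sq_nonneg _]
    simp
  have hμ1 : μ 1 = classInner (fun n : N => (χ : G → ℂ) n) (fun n : N => (χ : G → ℂ) n) := by
    simp [μ, Cfsg.Agent.Char.avgN, classInner]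
  have hsum : ∑ g : G, μ g = (Nat.card G : ℂ) := by
    have h1 : classInner (fun g => (χ : G → ℂ) g * (starRingEnd ℂ) ((χ : G → ℂ) g)) (fun _ => (1 : ℂ)) = 1 := by
      have := Cfsg.Agent.Char.classInner_self_irr χ.2
      simp only [classInner] at this ⊢
      simpa using this
    have h2 := Cfsg.Agent.Char.classInner_avgN N (fun g => (χ : G → ℂ) g * (starRingEnd ℂ) ((χ : G → ℂ) g)) (fun _ => (1 : ℂ))
    have h3 : Cfsg.Agent.Char.avgN N (fun _ : G => (1 : ℂ)) = fun _ => 1 := funext fun g => by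
      simp [Cfsg.Agent.Char.avgN, Nat.card_eq_fintype_card]
    rw [h3, h1] at h2
    simp only [classInner, map_one, mul_one] at h2
    rw [inv_mul_eq_iff_eq_mul₀ (Nat.cast_ne_zero.2 Nat.card_pos.ne'), mul_one] at h2
    exact h2
  have hresc : IsCharacter N (fun n : N => (χ : G → ℂ) n) := Cfsg.Agent.Char.IsChar.comp N.subtype hχc
  constructor
  · intro hred
    by_contra hno
    push Not at hno
    have hpos : ∀ g, ∃ r : ℝ, 0 < r ∧ μ g = (r : ℂ) := fun g => by
      refine ⟨_, ?_, hval g⟩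
      obtain ⟨n, hn⟩ := hno g
      have hne : μ g ≠ 0 := fun h => hn ((hzero g).1 h n)
      refine lt_of_le_of_ne (by positivity) fun e => hne ?_
      rw [hval, ← e, Complex.ofReal_zero]
    exact hred (Cfsg.Agent.Char.IsChar.irr_of_norm_one hresc (hμ1.symm.trans (eq_one_of_pos hμ hpos hsum)))
  · rintro ⟨x, hx⟩ hirr
    have h1 : μ 1 = 1 := hμ1.trans (Cfsg.Agent.Char.classInner_self_irr hirr)
    obtain ⟨l, hl⟩ := Cfsg.Agent.Char.linearHom_of_isCharacter hμ h1
    have := (hzero x).2 hx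
    rw [hl] at this
    exact Units.ne_zero _ this

end Cfsg.Agent.S4996
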