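import Cfsg.Statements.S4997
import Cfsg.Agent.Lib.Block.OneVanish.Main

set_option autoImplicit false
open Cfsg

namespace Cfsg.Agent.S4997

/-- Let p be an odd prime and G a finite solvable group with exactly one conjugacy class consisting of vanishing elements (elements at which some irreducible complex character is zero) of order divisible by p. Let P be a Sylow p-subgroup of G. Then the order of P is at most p times the order of the largest normal p-subgroup of G. -/
theorem result {G : Type*} [Group G] [Finite G] (hsolv : Group.IsSolvable G) (p : ℕ) [Fact p.Prime] (hp : p ≠ 2) (h1 : Set.ncard {C : ConjClasses G | (∀ g ∈ C.carrier, ∃ χ : Cfsg.IrrCharacter G, (χ : G → ℂ) g = 0) ∧ ∃ g ∈ C.carrier, p ∣ orderOf g} = 1) (P : Sylow p G) : Nat.card ↥(P : Subgroup G) ≤ p * Nat.card ↥(Cfsg.pCore p G) := by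
  classical
  cases nonempty_fintype G
  haveI := hsolv
  obtain ⟨C0, hC0⟩ := Set.ncard_eq_one.1 h1
  have hmem : ∀ u : G, Cfsg.Agent.Block.OneVanish.IsVP p u → ConjClasses.mk u = C0 := by
    rintro u ⟨⟨χ, hχ⟩, hu⟩
    refine Set.eq_of_mem_singleton (hC0 ▸ ⟨fun g hg => ⟨χ, ?_⟩, u, ?_, hu⟩)
    · obtain ⟨c, rfl⟩ := isConj_iff.1
        (ConjClasses.mk_eq_mk_iff_isConj.1 (ConjClasses.mem_carrier_iff_mk_eq.1 hg).symm)
      rw [Cfsg.Agent.Char.IsIrr.classFun χ.2, hχ]
    · exact ConjClasses.mem_carrier_iff_mk_eq.2 rfl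
  exact Cfsg.Agent.Block.OneVanish.main
    (fun u v hu hv => ConjClasses.mk_eq_mk_iff_isConj.1 ((hmem u hu).trans (hmem v hv).symm)) P

end Cfsg.Agent.S4997
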