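import Cfsg.Statements.S5005
import Cfsg.Agent.Lib.Block.Mathieu.Involutions
import Cfsg.Agent.Lib.Block.Mathieu.DefectZero22

set_option autoImplicit false
open Cfsg

namespace Cfsg.Agent.S5005

open Cfsg.Agent.Spor.Golay Cfsg.Agent.Spor.Golay.Census Cfsg.Agent.Block.Mathieu

/-- All irreducible complex characters of the Mathieu group `M₂₂` lie in a single 2-block: any two of them lie in the same block relative to every maximal ideal of the algebraic integers containing 2. -/
theorem result (M : Ideal Cfsg.AlgInt) (hM : Cfsg.IsPModular 2 M)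
    (χ ψ : Cfsg.IrrCharacter ↥Cfsg.Spor.M22) : Cfsg.SameBlock M (χ : ↥Cfsg.Spor.M22 → ℂ) (ψ : ↥Cfsg.Spor.M22 → ℂ) := by
  refine Block.SingleBlock.sameBlock (p := 2) hM (fun z hz => ⟨z, IsConj.refl z, ?_⟩)
    (no_defect_zero22 hM) χ ψ
  obtain ⟨-, h0, h23⟩ := mem22_iff.mp z.2
  exact constrained_eight Spor.M22 le24 z hz ⟨pt 0, h0⟩ fun e he hfix =>
    mem22_iff.mpr ⟨he, hfix _ h0, hfix _ h23⟩

end Cfsg.Agent.S5005
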