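import Cfsg.Statements.S5006
import Cfsg.Agent.Lib.Block.Mathieu.Involutions
import Cfsg.Agent.Lib.Block.Mathieu.DefectZero24

set_option autoImplicit false
open Cfsg

namespace Cfsg.Agent.S5006

open Cfsg.Agent.Spor.Golay Cfsg.Agent.Spor.Golay.Census Cfsg.Agent.Block.Mathieu

/-- All irreducible complex characters of the Mathieu group `M₂₄` lie in a single 2-block: any two of them lie in the same block relative to every maximal ideal of the algebraic integers containing 2. -/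
theorem result (M : Ideal Cfsg.AlgInt) (hM : Cfsg.IsPModular 2 M)
    (χ ψ : Cfsg.IrrCharacter ↥Cfsg.M24) : Cfsg.SameBlock M (χ : ↥Cfsg.M24 → ℂ) (ψ : ↥Cfsg.M24 → ℂ) := by
  refine Block.SingleBlock.sameBlock (p := 2) hM (fun z hz => ?_) (no_defect_zero24 hM) χ ψ
  by_cases hne : ∃ p, (z : Equiv.Perm GolayPt) p = p
  · exact ⟨z, IsConj.refl z, constrained_eight M24 le_rfl z hz hne fun e he _ => he⟩
  · have hz' : orderOf (z : Equiv.Perm GolayPt) = 2 := by rw [Subgroup.orderOf_coe, hz]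
    obtain ⟨k, hk, ⟨h8, -⟩ | ⟨-, hkz⟩⟩ := two_classes z.2 hz'
    · exfalso
      obtain ⟨p, hp⟩ := Finset.card_pos.mp (by rw [h8]; norm_num :
        0 < (Finset.univ.filter fun p => (z : Equiv.Perm GolayPt) p = p).card)
      exact hne ⟨p, (Finset.mem_filter.mp hp).2⟩
    · rw [repB_ok.1] at hkz
      refine ⟨⟨k, hk⟩ * z * ⟨k, hk⟩⁻¹, isConj_iff.mpr ⟨⟨k, hk⟩, rfl⟩, constrained_free _ ?_⟩
      simpa only [Subgroup.coe_mul, InvMemClass.coe_inv] using hkz

end Cfsg.Agent.S5006
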