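import Cfsg.Statements.S5011
import Mathlib
-- import your own Cfsg.Agent.* helpers here

set_option autoImplicit false
open Cfsg

namespace Cfsg.Agent.S5011

/-- Let G be a finite non-abelian simple group and ρ an irreducible complex representation of G on a space of dimension greater than one (irreducible in the sense that the only subspaces invariant under every ρ(x) are 0 and the whole space). Then for every non-identity element g of G, the centralizer of g does not act irreducibly: there is a non-zero proper subspace invariant under ρ(c) for every c commuting with g. -/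
theorem result {G : Type*} [Group G] [Finite G] [IsSimpleGroup G]
    (hG : ¬ IsMulCommutative G) {V : Type*} [AddCommGroup V] [Module ℂ V] [FiniteDimensional ℂ V]
    (ρ : Representation ℂ G V)
    (hirr : ∀ W : Submodule ℂ V, (∀ x : G, ∀ v ∈ W, ρ x v ∈ W) → W = ⊥ ∨ W = ⊤)
    (hdim : 1 < Module.finrank ℂ V) (g : G) (hg : g ≠ 1) :
    ∃ W : Submodule ℂ V, W ≠ ⊥ ∧ W ≠ ⊤ ∧ ∀ c ∈ Subgroup.centralizer ({g} : Set G), ∀ v ∈ W, ρ c v ∈ W := by
  by_contra hcon
  push Not at hcon
  -- the representation is faithful
  have hfaith : ∀ z : G, ρ z = 1 → z = 1 := by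
    intro z hz
    let φ : G →* (V →ₗ[ℂ] V) := ρ
    rcases IsSimpleGroup.eq_bot_or_eq_top_of_normal φ.ker inferInstance with hk | hk
    · exact Subgroup.mem_bot.1 (hk ▸ (MonoidHom.mem_ker.2 hz : z ∈ φ.ker))
    · exfalso
      have hne : Nontrivial V := Module.nontrivial_of_finrank_pos (R := ℂ) (by omega)
      obtain ⟨v, hv⟩ := exists_ne (0 : V)
      rcases hirr (Submodule.span ℂ {v}) (fun x w hw => by
        have : ρ x = 1 := MonoidHom.mem_ker.1 (hk ▸ Subgroup.mem_top x : x ∈ φ.ker)
        rw [this]; exact hw) with h | h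
      · exact hv (Submodule.span_singleton_eq_bot.1 h)
      · have h1 := finrank_span_singleton (K := ℂ) hv
        rw [h, finrank_top] at h1
        omega
  have hne : Nontrivial V := Module.nontrivial_of_finrank_pos (R := ℂ) (by omega)
  obtain ⟨μ, hμ⟩ := Module.End.exists_eigenvalue (ρ g)
  have hμ' : Module.End.eigenspace (ρ g) μ = ⊤ := by
    by_contra htop
    obtain ⟨c, hc, v, hv, hv'⟩ := hcon _ hμ htop
    apply hv'
    rw [Module.End.mem_eigenspace_iff] at hv ⊢
    rw [← Module.End.mul_apply, ← map_mul, Subgroup.mem_centralizer_singleton_iff.1 hc |>.symm,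
      map_mul, Module.End.mul_apply, hv, map_smul]
  apply hg
  have hz : g ∈ Subgroup.center G := by
    rw [Subgroup.mem_center_iff]
    intro x
    have h1 : ∀ v, ρ g v = μ • v := fun v =>
      Module.End.mem_eigenspace_iff.1 (hμ' ▸ Submodule.mem_top)
    have h2 : ρ (x * g) = ρ (g * x) := by
      refine LinearMap.ext fun v => ?_
      simp [map_mul, Module.End.mul_apply, h1]
    have h3 := hfaith ((g * x)⁻¹ * (x * g)) (by
      rw [map_mul, h2, ← map_mul, inv_mul_cancel, map_one])
    exact (inv_mul_eq_one.1 h3).symm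
  rcases IsSimpleGroup.eq_bot_or_eq_top_of_normal (Subgroup.center G) inferInstance with h | h
  · rw [h] at hz; exact Subgroup.mem_bot.1 hz
  · exfalso
    refine hG ⟨⟨fun a b => ?_⟩⟩
    have : b ∈ Subgroup.center G := h ▸ Subgroup.mem_top b
    exact Subgroup.mem_center_iff.1 this a

end Cfsg.Agent.S5011
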