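import Cfsg.Statements.S5014
import Cfsg.Agent.Lib.Fus.RankOne
-- import your own Cfsg.Agent.* helpers here

set_option autoImplicit false
open Cfsg

namespace Cfsg.Agent.S5014

/-- Let X = ⟨A, B⟩ be a rank one group with unipotent subgroups A and B and let Ω be the set of conjugates of A under X. Then Ω has at least three members, X acts doubly transitively on Ω by conjugation (any two ordered pairs of distinct members are carried to one another by a single element of X), and A acts regularly on Ω with A removed: for C, D in Ω different from A there is exactly one element of A conjugating C to D. -/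
theorem result {G : Type*} [Group G] {A B : Subgroup G} (h : Cfsg.IsRankOnePair A B) :
    (∃ C₁ ∈ Cfsg.unipotentSubgroups A B, ∃ C₂ ∈ Cfsg.unipotentSubgroups A B, ∃ C₃ ∈ Cfsg.unipotentSubgroups A B,
      C₁ ≠ C₂ ∧ C₁ ≠ C₃ ∧ C₂ ≠ C₃) ∧
    (∀ C₁ ∈ Cfsg.unipotentSubgroups A B, ∀ C₂ ∈ Cfsg.unipotentSubgroups A B, ∀ D₁ ∈ Cfsg.unipotentSubgroups A B,
      ∀ D₂ ∈ Cfsg.unipotentSubgroups A B, C₁ ≠ C₂ → D₁ ≠ D₂ →
        ∃ x ∈ A ⊔ B, Cfsg.conjBy C₁ x = D₁ ∧ Cfsg.conjBy C₂ x = D₂) ∧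
    (∀ C ∈ Cfsg.unipotentSubgroups A B, ∀ D ∈ Cfsg.unipotentSubgroups A B, C ≠ A → D ≠ A →
      ∃! a : G, a ∈ A ∧ Cfsg.conjBy C a = D) := by
  obtain ⟨a₀, ha₀, ha₀1⟩ := Cfsg.Agent.Fus.RankOne.exists_one_ne h
  have hB := Cfsg.Agent.Fus.RankOne.right_mem h
  refine ⟨⟨A, Cfsg.Agent.Fus.RankOne.self_mem A B, B, hB, conjBy B a₀,
    (Cfsg.Agent.Fus.RankOne.mem_iff h).2 (Or.inr ⟨a₀, ha₀, rfl⟩), h.ne,
    (Cfsg.Agent.Fus.RankOne.conj_ne h ha₀).symm,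
    fun e => ha₀1 (Cfsg.Agent.Fus.RankOne.eq_one_of_conjBy_eq h ha₀ e.symm)⟩, ?_, ?_⟩
  · intro C₁ h1 C₂ h2 D₁ h3 D₂ h4 hC hD
    obtain ⟨x, hx, x1, x2⟩ := Cfsg.Agent.Fus.RankOne.exists_to_base h h1 h2 hC
    obtain ⟨y, hy, y1, y2⟩ := Cfsg.Agent.Fus.RankOne.exists_to_base h h3 h4 hD
    refine ⟨y⁻¹ * x, mul_mem ((A ⊔ B).inv_mem hy) hx, ?_, ?_⟩
    · rw [← Cfsg.Agent.Fus.conjBy_conjBy, x1, ← y1, Cfsg.Agent.Fus.conjBy_conjBy, inv_mul_cancel,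
        Cfsg.Agent.Fus.conjBy_one]
    · rw [← Cfsg.Agent.Fus.conjBy_conjBy, x2, ← y2, Cfsg.Agent.Fus.conjBy_conjBy, inv_mul_cancel,
        Cfsg.Agent.Fus.conjBy_one]
  · intro C hC D hD hCA hDA
    obtain ⟨a, ha, rfl⟩ := Cfsg.Agent.Fus.RankOne.exists_of_ne h hC hCA
    obtain ⟨a', ha', rfl⟩ := Cfsg.Agent.Fus.RankOne.exists_of_ne h hD hDA
    refine ⟨a' * a⁻¹, ⟨A.mul_mem ha' (A.inv_mem ha), by
      rw [Cfsg.Agent.Fus.conjBy_conjBy, inv_mul_cancel_right]⟩, ?_⟩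
    rintro x ⟨hx, e⟩
    rw [Cfsg.Agent.Fus.conjBy_conjBy] at e
    exact eq_mul_inv_of_mul_eq (Cfsg.Agent.Fus.RankOne.inj_conj h (A.mul_mem hx ha) ha' e)

end Cfsg.Agent.S5014
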