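import Cfsg.Statements.S5015
import Cfsg.Agent.Lib.Fus.RankOne
-- import your own Cfsg.Agent.* helpers here

set_option autoImplicit false
open Cfsg

namespace Cfsg.Agent.S5015

/-- Let a group Y act doubly transitively on a set Ω with at least three points, and suppose that the stabilizer of a point α contains a nilpotent subgroup A, normalized by that stabilizer, which acts regularly on the points other than α. Then for any y in Y moving α, the subgroups A and y A y⁻¹ are the unipotent subgroups of a rank one group, and the normal closure of A in Y (the subgroup generated by all conjugates of A) is generated by A and y A y⁻¹ alone. -/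
theorem result {Y Ω : Type*} [Group Y] [MulAction Y Ω]
    (h2 : MulAction.IsMultiplyPretransitive Y Ω 2) (hΩ : 3 ≤ ENat.card Ω) (α : Ω) (A : Subgroup Y)
    (hA : A ≤ MulAction.stabilizer Y α) (hAn : ∀ y ∈ MulAction.stabilizer Y α, Cfsg.conjBy A y = A)
    (hnil : Group.IsNilpotent A) (hreg : ∀ β γ : Ω, β ≠ α → γ ≠ α → ∃! a : Y, a ∈ A ∧ a • β = γ)
    (y : Y) (hy : y ∉ MulAction.stabilizer Y α) :
    Cfsg.IsRankOnePair A (Cfsg.conjBy A y) ∧ Subgroup.normalClosure (A : Set Y) = A ⊔ Cfsg.conjBy A y := by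
  classical
  have key : ∀ g g' : Y, g • α = g' • α → conjBy A g = conjBy A g' := by
    intro g g' e
    have hs : g'⁻¹ * g ∈ MulAction.stabilizer Y α := by
      rw [MulAction.mem_stabilizer_iff, mul_smul, e, inv_smul_smul]
    have := hAn _ hs
    rw [← Cfsg.Agent.Fus.conjBy_conjBy, Cfsg.Agent.Fus.conjBy_eq_iff, inv_inv] at this
    exact this
  have hβα : y • α ≠ α := fun e => hy e
  have hfixA : ∀ a ∈ A, a • α = α := fun a ha => hA ha
  have hfixB : ∀ b ∈ conjBy A y, b • (y • α) = y • α := by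
    rintro _ ⟨a, ha, rfl⟩
    show (y * a * y⁻¹) • (y • α) = y • α
    rw [mul_smul, inv_smul_smul, mul_smul, hfixA a ha]
  have hregB : ∀ γ δ : Ω, γ ≠ y • α → δ ≠ y • α → ∃ b ∈ conjBy A y, b • γ = δ := by
    intro γ δ hγ hδ
    obtain ⟨a, ⟨ha, e⟩, -⟩ := hreg (y⁻¹ • γ) (y⁻¹ • δ)
      (fun e => hγ (by rw [← e, smul_inv_smul])) (fun e => hδ (by rw [← e, smul_inv_smul]))
    exact ⟨y * a * y⁻¹, ⟨a, ha, rfl⟩, by rw [mul_smul, mul_smul, e, smul_inv_smul]⟩
  have hAfree : ∀ a ∈ A, ∀ γ, γ ≠ α → a • γ = γ → a = 1 := by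
    intro a ha γ hγ e
    obtain ⟨a₀, -, hu⟩ := hreg γ γ hγ hγ
    exact (hu a ⟨ha, e⟩).trans (hu 1 ⟨A.one_mem, one_smul _ _⟩).symm
  have hcond : ∀ a ∈ A, a ≠ 1 → ∃ b ∈ conjBy A y, b ≠ 1 ∧ b • α = a • (y • α) := by
    intro a ha ha1
    have hne : a • (y • α) ≠ y • α := fun e => ha1 (hAfree a ha _ hβα e)
    obtain ⟨b, hb, e⟩ := hregB α (a • (y • α)) (Ne.symm hβα) hne
    refine ⟨b, hb, fun h => hβα ?_, e⟩
    rw [h, one_smul] at e
    nth_rewrite 1 [← hfixA a ha] at e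
    exact (MulAction.injective a e).symm
  have hne : A ≠ conjBy A y := by
    intro e
    haveI : Nontrivial Ω := ⟨⟨_, _, hβα⟩⟩
    obtain ⟨γ, hγ1, hγ2⟩ : ∃ γ : Ω, γ ≠ α ∧ γ ≠ y • α := by
      by_contra! hcon
      have hsub : (Set.univ : Set Ω) ⊆ {α, y • α} := fun γ _ => by
        by_cases hγ : γ = α
        · exact Or.inl hγ
        · exact Or.inr (hcon γ hγ)
      have h3 := le_trans hΩ ((Set.encard_univ Ω).symm.le.trans (Set.encard_le_encard hsub))
      have h4 : ({α, y • α} : Set Ω).encard ≤ 2 := by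
        refine (Set.encard_insert_le _ _).trans ?_
        rw [Set.encard_singleton]; rfl
      exact absurd (h3.trans h4) (by norm_num)
    obtain ⟨a, ⟨ha, e1⟩, -⟩ := hreg (y • α) γ hβα hγ1
    exact hγ2 (by rw [← e1, hfixB a (e ▸ ha)])
  refine ⟨⟨hne, hnil, ?_, ?_, ?_⟩, le_antisymm ?_ ?_⟩
  · exact Group.isNilpotent_congr (Subgroup.equivMapOfInjective A _ (MulAut.conj y).injective)
      |>.1 hnil
  · intro a ha ha1
    obtain ⟨b, hb, hb1, e⟩ := hcond a⁻¹ (A.inv_mem ha) (inv_ne_one.2 ha1)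
    refine ⟨b⁻¹, Subgroup.inv_mem _ hb, inv_ne_one.2 hb1, ?_⟩
    rw [inv_inv, Cfsg.Agent.Fus.conjBy_conjBy]
    exact key _ _ (by rw [mul_smul]; exact e)
  · intro b hb hb1
    have hbb : b⁻¹ • α ≠ α := fun e => hb1 (by
      obtain ⟨a, ha, rfl⟩ := hb
      have h1 : a⁻¹ • (y⁻¹ • α) = y⁻¹ • α := by
        have := congrArg (y⁻¹ • ·) e
        simpa [← mul_smul, mul_assoc] using this
      have := hAfree a⁻¹ (A.inv_mem ha) _ (fun h => hβα (by
        nth_rewrite 1 [← h]; rw [smul_inv_smul])) h1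
      simp [inv_eq_one.1 this])
    obtain ⟨a, ⟨ha, e⟩, -⟩ := hreg (y • α) (b⁻¹ • α) hβα hbb
    have ha1 : a ≠ 1 := fun h => by
      rw [h, one_smul] at e
      have := hfixB b⁻¹ (Subgroup.inv_mem _ hb)
      nth_rewrite 2 [e] at this
      exact hβα (MulAction.injective _ this)
    refine ⟨a⁻¹, A.inv_mem ha, inv_ne_one.2 ha1, ?_⟩
    rw [inv_inv, Cfsg.Agent.Fus.conjBy_conjBy]
    exact key _ _ (by rw [mul_smul]; exact e)
  · rw [Subgroup.normalClosure, Subgroup.closure_le]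
    intro x hx
    obtain ⟨a, ha, hax⟩ := Group.mem_conjugatesOfSet_iff.1 hx
    obtain ⟨g, rfl⟩ := _root_.isConj_iff.1 hax
    by_cases hg : g • α = α
    · exact Subgroup.mem_sup_left ((hAn g hg).le ⟨a, ha, rfl⟩)
    · obtain ⟨c, ⟨hc, e⟩, -⟩ := hreg (y • α) (g • α) hβα hg
      have h1 : g * a * g⁻¹ ∈ conjBy A (c * y) :=
        key g (c * y) (by rw [mul_smul, e]) ▸ ⟨a, ha, rfl⟩
      rw [← Cfsg.Agent.Fus.conjBy_conjBy, Cfsg.Agent.Fus.mem_conjBy] at h1
      have h2 := mul_mem (mul_mem (Subgroup.mem_sup_left (T := conjBy A y) hc)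
        (Subgroup.mem_sup_right h1)) (Subgroup.mem_sup_left (A.inv_mem hc))
      simpa [mul_assoc] using h2
  · refine sup_le Subgroup.subset_normalClosure ?_
    rintro _ ⟨a, ha, rfl⟩
    exact Subgroup.normalClosure_normal.conj_mem a (Subgroup.subset_normalClosure ha) y

end Cfsg.Agent.S5015
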