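import Cfsg.Statements.S5023
import Cfsg.Agent.Lib.Fus.RankOneQuadratic
-- import your own Cfsg.Agent.* helpers here

set_option autoImplicit false
open Cfsg

namespace Cfsg.Agent.S5023

/-- Let X be a rank one group with unipotent subgroups A and B that acts faithfully on an abelian group V (written additively) with A acting quadratically: a' • (a • v − v) = a • v − v for all a, a' in A and v in V. Then A is either torsion-free or an elementary abelian p-group for some prime p. -/
theorem result {X : Type*} [Group X] {A B : Subgroup X} (h : Cfsg.IsRankOneGroup X A B)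
    {V : Type*} [AddCommGroup V] [DistribMulAction X V] (hf : ∀ x : X, (∀ v : V, x • v = v) → x = 1)
    (hq : ∀ a ∈ A, ∀ a' ∈ A, ∀ v : V, a' • (a • v - v) = a • v - v) :
    (∀ a ∈ A, a ≠ 1 → ¬ IsOfFinOrder a) ∨ ∃ p : ℕ, p.Prime ∧ Cfsg.IsElementaryAbelian p A := by
  by_cases ht : ∀ a ∈ A, a ≠ 1 → ¬ IsOfFinOrder a
  · exact Or.inl ht
  push Not at ht
  obtain ⟨a, ha, ha1, hfin⟩ := ht
  obtain ⟨p, hp, hdvd⟩ := Nat.exists_prime_and_dvd (fun e => ha1 (orderOf_eq_one_iff.1 e))
  obtain ⟨n, hn⟩ := hdvd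
  have hn0 : n ≠ 0 := fun e => by
    rw [e, mul_zero] at hn
    exact hfin.orderOf_pos.ne' hn
  have ho : orderOf (a ^ n) = p := by
    rw [orderOf_pow' a hn0, hn, Nat.gcd_eq_right (Dvd.intro_left p rfl),
      Nat.mul_div_cancel _ (Nat.pos_of_ne_zero hn0)]
  exact Or.inr ⟨p, hp, Agent.Fus.RankOne.isMulCommutative_of_quadratic hf hq,
    fun b hb => Agent.Fus.RankOne.torsionFree_or_elementary h hf hq (A.pow_mem ha n) hp ho hb⟩

end Cfsg.Agent.S5023
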