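import Cfsg.Statements.S5024
import Cfsg.Agent.Lib.Fus.RootSets
-- import your own Cfsg.Agent.* helpers here

set_option autoImplicit false
open Cfsg

namespace Cfsg.Agent.S5024

/-- Let S be a set of abstract root subgroups of G, A and C members of S, B a rank one partner of A in S and D a rank one partner of C in S. If the rank one group ⟨A, B⟩ is contained in ⟨C, D⟩ then the two coincide, and C and D are conjugates of A inside ⟨A, B⟩. -/
theorem result {G : Type*} [Group G] {S : Set (Subgroup G)} (hS : Cfsg.IsRootSubgroupSet S)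
    {A B C D : Subgroup G} (hA : A ∈ S) (hC : C ∈ S) (hB : B ∈ Cfsg.rankOnePartners S A) (hD : D ∈ Cfsg.rankOnePartners S C)
    (hle : A ⊔ B ≤ C ⊔ D) : A ⊔ B = C ⊔ D ∧ C ∈ Cfsg.unipotentSubgroups A B ∧ D ∈ Cfsg.unipotentSubgroups A B := by
  have hY := hD.2
  have hconjS : ∀ C' ∈ unipotentSubgroups C D, C' ∈ S := by
    rintro _ ⟨x, -, rfl⟩
    exact hS.conj_mem C hC x
  -- a member inside `C ⊔ D` not centralizing it forms a rank one pair with some conjugate of `C`
  have hkey : ∀ E ∈ S, E ≤ C ⊔ D → (∃ e ∈ E, ∃ y ∈ C ⊔ D, e * y ≠ y * e) →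
      E ∈ unipotentSubgroups C D := by
    intro E hE hEY hnc
    by_contra hnot
    obtain ⟨e, he, y, hy, hey⟩ := hnc
    have he1 : e ≠ 1 := fun h => hey (by simp [h])
    refine hey (Cfsg.Agent.Fus.RankOne.commute_of_forall_normalizes hY (fun C' hC' => ?_) y hy)
    rcases hS.pair E hE C' (hconjS C' hC') with h | h | h
    · exact Cfsg.Agent.Fus.mem_normalizer_iff_conjBy.1 (Subgroup.centralizer_le_normalizer _
        (Subgroup.commutator_eq_bot_iff_le_centralizer.1 h he))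
    · refine absurd ?_ hnot
      obtain ⟨c, hc, -, ec⟩ := Cfsg.Agent.Fus.RankOne.exists_partner h he he1
      rw [eq_comm, Cfsg.Agent.Fus.conjBy_eq_iff, Cfsg.Agent.Fus.conjBy_conjBy] at ec
      obtain ⟨x, hx, rfl⟩ := hC'
      have hCY : ∀ c ∈ conjBy C x, c ∈ C ⊔ D := by
        rintro _ ⟨d, hd, rfl⟩
        exact mul_mem (mul_mem hx (Subgroup.mem_sup_left hd)) ((C ⊔ D).inv_mem hx)
      rw [ec]
      exact Cfsg.Agent.Fus.RankOne.conj_mem ⟨x, hx, rfl⟩
        (mul_mem ((C ⊔ D).inv_mem (hCY c hc)) (hEY he))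
    · by_contra hne
      exact Cfsg.Agent.Fus.RankOne.commutator_ne_bot hY
        (Cfsg.Agent.Fus.RankOne.conj_mem hC' (hEY he)) hC' hne
        (Cfsg.Agent.Fus.RootCommutatorCase.commutator_conjBy_eq_bot hS (hconjS C' hC') h he)
  obtain ⟨a, ha, ha1⟩ := Cfsg.Agent.Fus.RankOne.exists_one_ne hB.2
  obtain ⟨b, hb, hb1⟩ := Cfsg.Agent.Fus.RankOne.exists_one_ne (RankOnePair_symm hB.2)
  have hab := Cfsg.Agent.Fus.RankOne.not_commute_elements hB.2 ha ha1 hb hb1
  have hAm := hkey A hA (le_sup_left.trans hle)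
    ⟨a, ha, b, hle (Subgroup.mem_sup_right hb), hab⟩
  have hBm := hkey B hB.1 (le_sup_right.trans hle)
    ⟨b, hb, a, hle (Subgroup.mem_sup_left ha), fun h => hab h.symm⟩
  have heq := Cfsg.Agent.Fus.RankOne.sup_eq hY hAm hBm hB.2.ne
  have hback : ∀ C' ∈ unipotentSubgroups C D, C' ∈ unipotentSubgroups A B := by
    rintro _ ⟨x, hx, rfl⟩
    obtain ⟨y, hy, rfl⟩ := hAm
    exact ⟨x * y⁻¹, heq ▸ mul_mem hx ((C ⊔ D).inv_mem hy), by
      rw [Cfsg.Agent.Fus.conjBy_conjBy, inv_mul_cancel_right]⟩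
  exact ⟨heq, hback C (Cfsg.Agent.Fus.RankOne.self_mem C D),
    hback D (Cfsg.Agent.Fus.RankOne.right_mem hY)⟩

end Cfsg.Agent.S5024
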