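import Cfsg.Statements.S5026
import Cfsg.Agent.Lib.Fus.RootSets
-- import your own Cfsg.Agent.* helpers here

set_option autoImplicit false
open Cfsg

namespace Cfsg.Agent.S5026

/-- Let S be a degenerate set of abstract root subgroups of G (a set of abstract transvection groups) and let a, b be commuting non-identity elements of members of S with a b ≠ 1. Then the members of S centralizing a b are exactly those centralizing both a and b. -/
theorem result {G : Type*} [Group G] {S : Set (Subgroup G)} (hS : Cfsg.IsRootSubgroupSet S) (hdeg : Cfsg.IsDegenerateRootSet S)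
    {a b : G} (ha : a ∈ Cfsg.rootElements S) (hb : b ∈ Cfsg.rootElements S) (hab : a * b = b * a) (hab1 : a * b ≠ 1) :
    Cfsg.centralizingMembers S (Subgroup.zpowers (a * b)) =
      Cfsg.centralizingMembers S (Subgroup.zpowers a) ∩ Cfsg.centralizingMembers S (Subgroup.zpowers b) := by
  obtain ⟨ha1, A, hA, haA⟩ := ha
  obtain ⟨hb1, B, hB, hbB⟩ := hb
  have hrank : ∀ {A B : Subgroup G}, A ∈ S → B ∈ S → ∀ x ∈ A, x ≠ 1 → ∀ y ∈ B, y ≠ 1 →
      x * y = y * x → ⁅A, B⁆ = ⊥ := by
    intro A B hA hB x hx hx1 y hy hy1 hxy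
    rcases hS.pair A hA B hB with h | h | h
    · exact h
    · exact absurd hxy (Cfsg.Agent.Fus.RankOne.not_commute_elements h hx hx1 hy hy1)
    · exact absurd h (hdeg A hA B hB)
  have hcA := hrank hA hB a haA ha1 b hbB hb1 hab
  have hmem : ∀ {x : G} {C : Subgroup G},
      C ≤ Subgroup.centralizer ((Subgroup.zpowers x : Subgroup G) : Set G) ↔
        ∀ c ∈ C, x * c = c * x := by
    intro x C
    rw [← Subgroup.commutator_eq_bot_iff_le_centralizer]
    refine ⟨fun h c hc => (Cfsg.Agent.Fus.commute_of_commutator_eq_bot h hc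
      (Subgroup.mem_zpowers x)).symm, fun h => ?_⟩
    rw [Subgroup.commutator_eq_bot_iff_le_centralizer]
    intro c hc
    refine Subgroup.mem_centralizer_iff.2 ?_
    rintro _ ⟨i, rfl⟩
    exact (show Commute x c from h c hc).zpow_left i
  ext C
  simp only [centralizingMembers, Set.mem_ofPred_eq, Set.mem_inter_iff, hmem]
  constructor
  · rintro ⟨hC, hc⟩
    have hAC : ∀ c ∈ C, a * c = c * a := by
      by_contra! hcon
      obtain ⟨c₀, hc₀, hne⟩ := hcon
      have hxa : ∀ c ∈ C, b⁻¹ * c * b⁻¹⁻¹ = a * c * a⁻¹ := by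
        intro c hc'
        calc b⁻¹ * c * b⁻¹⁻¹ = b⁻¹ * (c * (b * a)) * a⁻¹ := by group
          _ = b⁻¹ * ((b * a) * c) * a⁻¹ := by rw [← hab, hc c hc']
          _ = a * c * a⁻¹ := by group
      have hAC' : IsRankOnePair A C := by
        rcases hS.pair A hA C hC with h | h | h
        · exact absurd (Cfsg.Agent.Fus.commute_of_commutator_eq_bot h haA hc₀) hne
        · exact h
        · exact absurd h (hdeg A hA C hC)
      have hBA := Cfsg.Agent.Fus.eq_of_conjBy_eq hS hA hC hB hAC' (B.inv_mem hbB)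
        (inv_ne_one.2 hb1) haA ha1 hxa (by rw [Subgroup.commutator_comm]; exact hcA)
      have habA : a * b ∈ A := A.mul_mem haA (hBA ▸ hbB)
      obtain ⟨c, hc', hc1⟩ :=
        Cfsg.Agent.Fus.RankOne.exists_one_ne (RankOnePair_symm hAC')
      exact Cfsg.Agent.Fus.RankOne.not_commute_elements hAC' habA hab1 hc' hc1 (hc c hc')
    refine ⟨⟨hC, hAC⟩, hC, fun c hc' => ?_⟩
    have h1 := hc c hc'
    calc b * c = a⁻¹ * (a * b * c) := by group
      _ = a⁻¹ * (c * (a * b)) := by rw [h1]
      _ = a⁻¹ * ((c * a) * b) := by group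
      _ = a⁻¹ * ((a * c) * b) := by rw [hAC c hc']
      _ = c * b := by group
  · rintro ⟨⟨hC, h1⟩, -, h2⟩
    exact ⟨hC, fun c hc => ((show Commute a c from h1 c hc).mul_left (h2 c hc)).eq⟩

end Cfsg.Agent.S5026
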