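import Cfsg.Statements.S5027
import Cfsg.Agent.Lib.Fus.RootSets
-- import your own Cfsg.Agent.* helpers here

set_option autoImplicit false
open Cfsg

namespace Cfsg.Agent.S5027

/-- Let S be a set of abstract root subgroups of G such that every member of S has a rank one partner in S (the graph of rank one pairs on S has no isolated vertex). Then the second centre of G equals its centre. -/
theorem result {G : Type*} [Group G] {S : Set (Subgroup G)} (hS : Cfsg.IsRootSubgroupSet S)
    (hF : ∀ A ∈ S, ¬ Cfsg.IsIsolatedIn (Cfsg.FAdj S) S A) : Subgroup.upperCentralSeries G 2 = Subgroup.center G := by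
  refine le_antisymm ?_ ?_
  · intro x hx
    rw [Subgroup.mem_upperCentralSeries_succ_iff, ] at hx
    simp only [Subgroup.upperCentralSeries_one] at hx
    rw [Subgroup.mem_center_iff]
    suffices (⊤ : Subgroup G) ≤ Subgroup.centralizer {x} from fun g =>
      Subgroup.mem_centralizer_singleton_iff.1 (this (Subgroup.mem_top g))
    rw [← hS.generates, iSup₂_le_iff]
    intro A hA a ha
    obtain ⟨B, hB, hAB⟩ := Cfsg.Agent.Fus.not_isIsolatedIn (hF A hA) hA
    rw [Subgroup.mem_centralizer_singleton_iff]
    by_cases ha1 : a = 1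
    · simp [ha1]
    have hz : x * a * x⁻¹ * a⁻¹ = 1 := by
      refine Cfsg.Agent.Fus.eq_one_of_mul_mem hS hA hB hAB (hS.conj_mem A hA x)
        (fun y _ => (Subgroup.mem_center_iff.1 (hx a) y).symm) ha ha1
        (by rw [inv_mul_cancel_right]; exact ⟨a, ha, rfl⟩) ?_
      rw [inv_mul_cancel_right, Ne, conj_eq_one_iff]
      exact ha1
    rw [mul_inv_eq_one, mul_inv_eq_iff_eq_mul] at hz
    exact hz.symm
  · rw [← Subgroup.upperCentralSeries_one]
    exact Subgroup.upperCentralSeries_mono G one_le_two

end Cfsg.Agent.S5027
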