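import Cfsg.Statements.S5028
import Cfsg.Agent.Lib.Fus.RootSets
-- import your own Cfsg.Agent.* helpers here

set_option autoImplicit false
open Cfsg

namespace Cfsg.Agent.S5028

/-- Let S be a set of abstract root subgroups of G and A a member of S having a rank one partner in S. Then A meets every other member of S trivially. -/
theorem result {G : Type*} [Group G] {S : Set (Subgroup G)} (hS : Cfsg.IsRootSubgroupSet S)
    {A : Subgroup G} (hA : ¬ Cfsg.IsIsolatedIn (Cfsg.FAdj S) S A) (hAS : A ∈ S) : ∀ B ∈ S, A ⊓ B = ⊥ ∨ A = B := by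
  intro B hB
  refine or_iff_not_imp_left.2 fun hne => ?_
  obtain ⟨a, ha⟩ := (A ⊓ B).ne_bot_iff_exists_ne_one.1 hne
  have ha1 : (a : G) ≠ 1 := fun e => ha (Subtype.ext e)
  obtain ⟨C, hC, hAC⟩ := Cfsg.Agent.Fus.not_isIsolatedIn hA hAS
  have hcom : ⁅B, A⁆ = ⊥ := Cfsg.Agent.Fus.commutator_eq_bot_of_centralize hS hB hAS
    (Subgroup.mem_inf.1 a.2).2 ha1 fun a' ha' =>
      Cfsg.Agent.Fus.IsRootSubgroupSet.commute hS hAS (Subgroup.mem_inf.1 a.2).1 ha'
  exact (Cfsg.Agent.Fus.eq_of_conjBy_eq hS hAS hC hB hAC (Subgroup.mem_inf.1 a.2).2 ha1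
    (Subgroup.mem_inf.1 a.2).1 ha1 (fun c _ => rfl) hcom).symm

end Cfsg.Agent.S5028
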