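import Cfsg.Statements.S5029
import Cfsg.Agent.Lib.Fus.RootLines
-- import your own Cfsg.Agent.* helpers here

set_option autoImplicit false
open Cfsg

namespace Cfsg.Agent.S5029

/-- Let S be a set of abstract root subgroups of G, A ∈ S having a rank one partner in S, and B ∈ S with C = ⁅A, B⁆ ∈ S. Then the members of S contained in AC are the conjugates of A by elements of B together with C, they partition AC, the members of S inside AC partition AC so that A is a line partner of C, and for every non-identity a ∈ A the map b ↦ a⁻¹ b⁻¹ a b is an isomorphism from B onto C. -/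
theorem result {G : Type*} [Group G] {S : Set (Subgroup G)} (hS : Cfsg.IsRootSubgroupSet S)
    {A B : Subgroup G} (hA : ¬ Cfsg.IsIsolatedIn (Cfsg.FAdj S) S A) (hAS : A ∈ S) (hB : B ∈ S) (hC : ⁅A, B⁆ ∈ S) :
    Cfsg.membersIn S (A ⊔ ⁅A, B⁆) = (fun b : G => Cfsg.conjBy A b) '' (B : Set G) ∪ {⁅A, B⁆} ∧
    Cfsg.IsSubgroupPartition (A ⊔ ⁅A, B⁆) (Cfsg.membersIn S (A ⊔ ⁅A, B⁆)) ∧
    A ∈ Cfsg.linePartners S ⁅A, B⁆ ∧
    ∀ a ∈ A, a ≠ 1 → ∃ φ : ↥B ≃* ↥⁅A, B⁆, ∀ b : ↥B, (φ b : G) = a⁻¹ * (b : G)⁻¹ * a * b := by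
  have h := Fus.rootCommutatorCase_of_mem hS hAS hB hC
  have hi := Fus.lineInj_of_not_isolated hS hA hAS h
  have hmem := Fus.membersIn_line hS hA hAS h
  have hpart := Fus.line_partition hS hB h hi
  have hsup : ⁅A, B⁆ ⊔ A = A ⊔ ⁅A, B⁆ := sup_comm _ _
  refine ⟨hmem, hmem.symm ▸ hpart, ⟨⟨hAS, Fus.RootCommutatorCase.ne_left hS h, ?_⟩, ?_⟩, ?_⟩
  · exact Subgroup.commutator_eq_bot_iff_le_centralizer.2 fun c hc =>
      Subgroup.mem_centralizer_iff.2 fun a ha => Fus.RootCommutatorCase.commute_left h ha hc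
  · rw [hsup, hmem]
    exact hpart
  · intro a ha ha1
    have hmemC : ∀ b : ↥B, a⁻¹ * (b : G)⁻¹ * a * b ∈ ⁅A, B⁆ := fun b => by
      have := Subgroup.commutator_mem_commutator (A.inv_mem ha) (B.inv_mem b.2)
      rwa [commutatorElement_def, inv_inv, inv_inv] at this
    let f : ↥B →* ↥⁅A, B⁆ := MonoidHom.mk' (fun b => ⟨a⁻¹ * (b : G)⁻¹ * a * b, hmemC b⟩)
      fun x y => Subtype.ext (by
        show a⁻¹ * ((x : G) * y)⁻¹ * a * ((x : G) * y) =
          a⁻¹ * (x : G)⁻¹ * a * x * (a⁻¹ * (y : G)⁻¹ * a * y)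
        have e1 : a⁻¹ * ((x : G) * y)⁻¹ * a * ((x : G) * y) =
            a⁻¹ * (y : G)⁻¹ * a * ((a⁻¹ * (x : G)⁻¹ * a * x) * y) := by group
        rw [e1, ← Fus.RootCommutatorCase.commute_right h y.2 (hmemC x), ← mul_assoc]
        exact Fus.IsRootSubgroupSet.commute hS hC (hmemC y) (hmemC x))
    refine ⟨MulEquiv.ofBijective f ⟨(injective_iff_map_eq_one f).2 fun b hb => ?_, fun c => ?_⟩,
      fun b => rfl⟩
    · have e : a⁻¹ * (b : G)⁻¹ * a * b = 1 := congrArg Subtype.val hb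
      have hab : a * (b : G) = (b : G) * a := by
        calc a * (b : G) = (b : G) * a * (a⁻¹ * (b : G)⁻¹ * a * b) := by group
          _ = (b : G) * a := by rw [e, mul_one]
      exact Subtype.ext ((hi a ha b b.2 hab).resolve_left ha1)
    · obtain ⟨b, hb, e⟩ := Fus.RootCommutatorCase.exists_left h (A.inv_mem ha)
        (inv_ne_one.2 ha1) c.2
      refine ⟨⟨b⁻¹, B.inv_mem hb⟩, Subtype.ext ?_⟩
      show a⁻¹ * b⁻¹⁻¹ * a * b⁻¹ = c
      rw [← e, commutatorElement_def, inv_inv, inv_inv]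

end Cfsg.Agent.S5029
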