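import Cfsg.Statements.S5043
import Cfsg.Agent.Lib.Fus.SLRootGroups
-- import your own Cfsg.Agent.* helpers here

set_option autoImplicit false
open Matrix
open Cfsg

namespace Cfsg.Agent.S5043

/-- Let k be a field and n a natural number. In SL_{n+3}(k) (so in every dimension at least 3) the conjugates of the root subgroup of elementary transvections 1 + c E₁₂ (c ∈ k) — that is, the groups of transvections attached to an incident point–hyperplane pair — form a non-degenerate class of abstract k-root subgroups of SL_{n+3}(k) whose graph of rank one pairs is connected. -/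
theorem result (k : Type*) [Field k] (n : ℕ) :
    Cfsg.IsRootSubgroupClass {A : Subgroup (Matrix.SpecialLinearGroup (Fin (n + 3)) k) |
        ∃ g : Matrix.SpecialLinearGroup (Fin (n + 3)) k,
          A = Cfsg.conjBy (Subgroup.closure {t : Matrix.SpecialLinearGroup (Fin (n + 3)) k |
            ∃ c : k, (t : Matrix (Fin (n + 3)) (Fin (n + 3)) k) = Matrix.transvection 0 1 c}) g} ∧
    Cfsg.IsNondegenerateRootSet {A : Subgroup (Matrix.SpecialLinearGroup (Fin (n + 3)) k) |
        ∃ g : Matrix.SpecialLinearGroup (Fin (n + 3)) k,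
          A = Cfsg.conjBy (Subgroup.closure {t : Matrix.SpecialLinearGroup (Fin (n + 3)) k |
            ∃ c : k, (t : Matrix (Fin (n + 3)) (Fin (n + 3)) k) = Matrix.transvection 0 1 c}) g} ∧
    Cfsg.IsKRootSubgroupSet k {A : Subgroup (Matrix.SpecialLinearGroup (Fin (n + 3)) k) |
        ∃ g : Matrix.SpecialLinearGroup (Fin (n + 3)) k,
          A = Cfsg.conjBy (Subgroup.closure {t : Matrix.SpecialLinearGroup (Fin (n + 3)) k |
            ∃ c : k, (t : Matrix (Fin (n + 3)) (Fin (n + 3)) k) = Matrix.transvection 0 1 c}) g} ∧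
    Cfsg.IsConnectedFamily (Cfsg.FAdj {A : Subgroup (Matrix.SpecialLinearGroup (Fin (n + 3)) k) |
        ∃ g : Matrix.SpecialLinearGroup (Fin (n + 3)) k,
          A = Cfsg.conjBy (Subgroup.closure {t : Matrix.SpecialLinearGroup (Fin (n + 3)) k |
            ∃ c : k, (t : Matrix (Fin (n + 3)) (Fin (n + 3)) k) = Matrix.transvection 0 1 c}) g})
      {A : Subgroup (Matrix.SpecialLinearGroup (Fin (n + 3)) k) |
        ∃ g : Matrix.SpecialLinearGroup (Fin (n + 3)) k,
          A = Cfsg.conjBy (Subgroup.closure {t : Matrix.SpecialLinearGroup (Fin (n + 3)) k |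
            ∃ c : k, (t : Matrix (Fin (n + 3)) (Fin (n + 3)) k) = Matrix.transvection 0 1 c}) g} := by
  have e := Fus.SLRoot.setOf_conj_eq (F := k) (n := n)
  rw [show {A : Subgroup (Matrix.SpecialLinearGroup (Fin (n + 3)) k) |
      ∃ g : Matrix.SpecialLinearGroup (Fin (n + 3)) k, A = conjBy (Subgroup.closure
        {t : Matrix.SpecialLinearGroup (Fin (n + 3)) k | ∃ c : k,
          (t : Matrix (Fin (n + 3)) (Fin (n + 3)) k) = Matrix.transvection 0 1 c}) g} = _ from e]
  have hS := Fus.SLRoot.isRootSubgroupSet (F := k) (n := n)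
  refine ⟨⟨hS, ?_⟩, Fus.SLRoot.nondegenerate, ?_, Fus.SLRoot.connected⟩
  · rw [← e]
    refine ⟨⟨_, 1, rfl⟩, ?_⟩
    rintro A ⟨g, rfl⟩ B ⟨h, rfl⟩
    exact ⟨h * g⁻¹, by rw [Fus.conjBy_conjBy, inv_mul_cancel_right]⟩
  · exact Fus.TV.isKRootSubgroupSet Fus.SLRoot.incl Fus.SLRoot.incl_injective
      (fun p hp => Fus.SLRoot.isLine hp.1 hp.2.1 hp.2.2)
      (fun p hp q hq hα _ => ⟨(q.1, p.2), ⟨hq.1, hp.2.1, hα⟩, rfl⟩) hS

end Cfsg.Agent.S5043
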