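import Cfsg.Statements.S5051
import Cfsg.Agent.Lib.Fus.OddTransp.ClassPair
import Cfsg.Agent.Lib.Fus.OddTransp.ClassGroup
import Cfsg.Agent.Lib.Grp.TwoClassCore

set_option autoImplicit false
open Cfsg

namespace Cfsg.Agent.S5051

open Subgroup Cfsg.Agent.Fus.OddTransp Cfsg.Agent.Fus.OTLine in
theorem pairHyp_quotient {G : Type*} [Group G] [Finite G] {D : Set G} (hD : Cfsg.IsOddTranspositionSet D) {d x : G}
    (hd : d ∈ D) (hx : x ∈ D) (hdx : ¬ Commute d x) :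
    ∃ (D' : Set (↥(closure (Cl D d ∪ {x})) ⧸ Cfsg.pCore 2 ↥(closure (Cl D d ∪ {x})))) (d' x' : _),
      PairHyp D' d' x' := by
  obtain ⟨X, hX⟩ : ∃ X, X = closure (Cl D d ∪ {x}) := ⟨_, rfl⟩
  rw [← hX]
  have hsub : Cl D d ∪ {x} ⊆ (X : Set G) := hX ▸ subset_closure
  have hdX : d ∈ X := hsub (Or.inl (self_mem_cl hd))
  have hxX : x ∈ X := hsub (Or.inr rfl)
  let π := QuotientGroup.mk' (Cfsg.pCore 2 ↥X)
  have hπ : Function.Surjective π := QuotientGroup.mk'_surjective _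
  have hlift : ∀ a b : ↥X, (a : G) ∈ D → (b : G) ∈ D → Commute (π a) (π b) → Commute (a : G) b := by
    intro a b ha hb hc
    rcases commute_or_odd hD ha hb with e | ho
    · exact e
    have ha2 : a * a = 1 := Subtype.ext (Invol.mul_self_of_orderOf_two (hD.1.orderOf_eq _ ha))
    have hb2 : b * b = 1 := Subtype.ext (Invol.mul_self_of_orderOf_two (hD.1.orderOf_eq _ hb))
    have h1 : π ((a * b) ^ 2) = 1 := by
      rw [pow_two, map_mul, map_mul, hc.symm.mul_mul_mul_comm, ← map_mul, ← map_mul, ← map_mul, ha2, hb2, one_mul,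
        map_one]
    rw [QuotientGroup.mk'_apply, QuotientGroup.eq_one_iff] at h1
    obtain ⟨k, hk⟩ := (Grp.pCore_isPGroup (p := 2) (G := ↥X)) ⟨_, h1⟩
    have h2 : (((a : G) * b) ^ 2) ^ (2 ^ k) = 1 := by simpa using congrArg (fun w : ↥(Cfsg.pCore 2 ↥X) => ((w : ↥X) : G)) hk
    rw [← pow_mul, ← pow_succ', ← orderOf_dvd_iff_pow_eq_one, Nat.dvd_prime_pow Nat.prime_two] at h2
    obtain ⟨j, -, hj⟩ := h2
    cases j with
    | zero =>
      rw [pow_zero, orderOf_eq_one_iff, mul_eq_one_iff_eq_inv,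
        Invol.inv_of_orderOf_two (hD.1.orderOf_eq _ hb)] at hj
      exact hj ▸ Commute.refl _
    | succ j =>
      exact absurd ho (Nat.not_odd_iff_even.2 (by rw [hj, pow_succ]; exact even_two.mul_left _))
  have hnc : ∀ (e : G) (he : e ∈ X), e ∈ Cl D d → ¬ Commute (π ⟨e, he⟩) (π ⟨x, hxX⟩) := fun e he hec hc =>
    hdx ((hec.2 x hx).2 (hlift ⟨e, he⟩ ⟨x, hxX⟩ hec.1 hx hc).symm).symm
  obtain ⟨D', hD'⟩ : ∃ D' : Set (↥X ⧸ Cfsg.pCore 2 ↥X), D' = {q | q ≠ 1 ∧ ∃ y : ↥X, (y : G) ∈ D ∧ π y = q} :=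
    ⟨_, rfl⟩
  have hne : ∀ (e : G) (he : e ∈ X), e ∈ Cl D d → π ⟨e, he⟩ ≠ 1 := fun e he hec h1 =>
    hnc e he hec (h1 ▸ Commute.one_left _)
  have hxne : π ⟨x, hxX⟩ ≠ 1 := fun h1 => hnc d hdX (self_mem_cl hd) (h1 ▸ Commute.one_right _)
  have hclmem : ∀ (e : G) (he : e ∈ X), e ∈ Cl D d → π ⟨e, he⟩ ∈ Cl D' (π ⟨d, hdX⟩) := by
    intro e he hec
    refine ⟨hD' ▸ ⟨hne e he hec, _, hec.1, rfl⟩, fun q hq => ?_⟩
    rw [hD'] at hq
    obtain ⟨-, y, hy, rfl⟩ := hq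
    have key : ∀ (u : ↥X), (u : G) ∈ D → (Commute (π y) (π u) ↔ Commute (y : G) u) := fun u hu =>
      ⟨hlift y u hy hu, fun hc => (show Commute y u from Subtype.ext hc.eq).map π⟩
    rw [key ⟨d, hdX⟩ hd, key ⟨e, he⟩ hec.1]
    exact hec.2 _ hy
  refine ⟨D', π ⟨d, hdX⟩, π ⟨x, hxX⟩, ?_, ?_, ?_, ?_, ?_, hD' ▸ ⟨hxne, _, hx, rfl⟩,
    hnc d hdX (self_mem_cl hd), ?_⟩
  · rw [hD']
    rintro _ ⟨hq, y, hy, rfl⟩
    exact Invol.orderOf_two_iff.2
      ⟨by rw [← map_mul, show y * y = 1 from Subtype.ext (Invol.mul_self_of_orderOf_two (hD.1.orderOf_eq _ hy)), map_one], hq⟩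
  · rw [hD']
    rintro _ ⟨hq, y, hy, rfl⟩ g
    obtain ⟨g, rfl⟩ := hπ g
    exact ⟨fun e => hq (conj_eq_one_iff.1 e), g * y * g⁻¹, hD.1.conj_mem _ hy _, by simp⟩
  · rw [hD']
    rintro _ ⟨-, y, hy, rfl⟩ _ ⟨-, y', hy', rfl⟩
    rcases commute_or_odd hD hy hy' with e | e
    · exact Or.inl ((show Commute y y' from Subtype.ext e.eq).map π)
    · refine Or.inr (e.of_dvd_nat ?_)
      rw [← map_mul, ← Subgroup.coe_mul, Subgroup.orderOf_coe]
      exact orderOf_map_dvd _ _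
  · exact Grp.TwoClassCore.pCore_quotient_eq_bot _ Grp.pCore_isPGroup rfl
  · exact hD' ▸ ⟨hne d hdX (self_mem_cl hd), _, hd, rfl⟩
  · have h2 : closure (Subtype.val ⁻¹' (Cl D d ∪ {x}) : Set ↥X) = ⊤ := by
      subst hX
      exact Subgroup.closure_closure_coe_preimage
    rw [eq_top_iff, ← Subgroup.map_top_of_surjective π hπ, ← h2, MonoidHom.map_closure]
    refine closure_mono ?_
    rintro _ ⟨⟨y, hy⟩, hy', rfl⟩
    rcases hy' with hyd | hyx
    · exact Or.inl (hclmem y hy hyd)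
    · obtain rfl : y = x := hyx
      exact Or.inr rfl

/-- Let G be a finite group generated by a set D of odd transpositions, d ∈ D, x ∈ D with dx of odd order greater than 1, and X the subgroup generated by x together with the members of D having the same commuting members as d. Then X/O₂(X) is isomorphic to L₂(q) or Sz(q) for a power q > 2 of 2, or is a dihedral group. -/
theorem result {G : Type*} [Group G] [Finite G] {D : Set G} (hD : Cfsg.IsOddTranspositionSet D) {d x : G} (hd : d ∈ D)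
    (hx : x ∈ Cfsg.oddPartners D d) :
    (∃ (F : Type) (_ : Field F) (_ : Fintype F), CharP F 2 ∧ 4 ≤ Fintype.card F ∧
      Nonempty ((↥(Subgroup.closure (Cfsg.sameCommutingClass D d ∪ {x})) ⧸
        Cfsg.pCore 2 ↥(Subgroup.closure (Cfsg.sameCommutingClass D d ∪ {x}))) ≃* Matrix.ProjectiveSpecialLinearGroup (Fin 2) F)) ∨
    Cfsg.Lie.IsoSuzuki ((↥(Subgroup.closure (Cfsg.sameCommutingClass D d ∪ {x})) ⧸
        Cfsg.pCore 2 ↥(Subgroup.closure (Cfsg.sameCommutingClass D d ∪ {x})))) ∨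
    (∃ n : ℕ, Nonempty ((↥(Subgroup.closure (Cfsg.sameCommutingClass D d ∪ {x})) ⧸
        Cfsg.pCore 2 ↥(Subgroup.closure (Cfsg.sameCommutingClass D d ∪ {x}))) ≃* DihedralGroup n)) := by
  obtain ⟨hxD, hne, hodd⟩ := hx
  have hdx : ¬ Commute d x := fun hcx => by
    have hd1 := Invol.mul_self_of_orderOf_two (hD.1.orderOf_eq d hd)
    have hx1 := Invol.mul_self_of_orderOf_two (hD.1.orderOf_eq x hxD)
    have h2 : (d * x) ^ 2 = 1 := by rw [hcx.mul_pow, pow_two, pow_two, hd1, hx1, one_mul]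
    rcases (Nat.dvd_prime Nat.prime_two).1 (orderOf_dvd_of_pow_eq_one h2) with e | e
    · exact hne (mul_left_cancel (a := d) ((orderOf_eq_one_iff.1 e).trans hd1.symm))
    · exact Nat.not_even_iff_odd.2 hodd (by rw [e]; exact even_two)
  rw [Fus.OddTransp.sameCommutingClass_eq_cl]
  obtain ⟨D', d', x', h⟩ := pairHyp_quotient hD hd hxD hdx
  exact h.cases

end Cfsg.Agent.S5051
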