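import Cfsg.Statements.S5052
import Cfsg.Agent.Lib.Fus.OddTransp.ClassGroup
import Cfsg.Agent.Lib.Fus.OddTransp.LineMain

set_option autoImplicit false
open Cfsg

namespace Cfsg.Agent.S5052

/-- Let G be a finite group with O₂(G) = 1 and trivial centre, generated by a class D of odd transpositions whose commuting graph is connected, with some product of two different commuting members again in D. Then for each d ∈ D the members of D with the same commuting members as d, together with 1, form a subgroup E(d); and for every x ∈ D with dx of odd order greater than 1, the subgroup generated by E(d) and x is isomorphic to L₂(q) where q is the order of E(d). -/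
theorem result {G : Type*} [Group G] [Finite G] {D : Set G} (hD : Cfsg.IsOddTranspositionSet D) (hcl : Cfsg.IsRootInvolutionClass D)
    (hO : Cfsg.pCore 2 G = ⊥) (hZ : Subgroup.center G = ⊥) (hDD : (D ∩ Cfsg.commutingProducts D).Nonempty)
    (hc : Cfsg.IsConnectedSet (Cfsg.CommAdj D) D) {d : G} (hd : d ∈ D) :
    (Cfsg.sameCommutingSubgroup D d : Set G) = Cfsg.sameCommutingClass D d ∪ {1} ∧
    ∀ x ∈ Cfsg.oddPartners D d, ∃ (F : Type) (_ : Field F) (_ : Fintype F),
      Fintype.card F = Nat.card ↥(Cfsg.sameCommutingSubgroup D d) ∧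
      Nonempty (↥(Subgroup.closure (Cfsg.sameCommutingClass D d ∪ {x})) ≃* Matrix.ProjectiveSpecialLinearGroup (Fin 2) F) := by
  have h := Fus.OddTransp.setup_of_class hD hcl hDD
  have hc0 := Fus.OddTransp.core_eq_bot hD.1.generates hO hZ
  have hconn := Fus.OddTransp.connected_of_commAdj hc
  refine ⟨Fus.OddTransp.coe_sameCommutingSubgroup hD hcl hO hZ hDD hc hd, fun x hx => ?_⟩
  obtain ⟨hxD, hne, hodd⟩ := hx
  have hdx : ¬ Commute d x := fun hcx => by
    have hd1 := Invol.mul_self_of_orderOf_two (hD.1.orderOf_eq d hd)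
    have hx1 := Invol.mul_self_of_orderOf_two (hD.1.orderOf_eq x hxD)
    have h2 : (d * x) ^ 2 = 1 := by rw [hcx.mul_pow, pow_two, pow_two, hd1, hx1, one_mul]
    rcases (Nat.dvd_prime Nat.prime_two).1 (orderOf_dvd_of_pow_eq_one h2) with e | e
    · exact hne (mul_left_cancel (a := d) ((orderOf_eq_one_iff.1 e).trans hd1.symm))
    · exact Nat.not_even_iff_odd.2 hodd (by rw [e]; exact even_two)
  obtain ⟨F, i1, i2, -, hq, e⟩ := Fus.OTLine.line_psl h hc0 hconn hd hxD hdx
  have hset : ((Cfsg.sameCommutingSubgroup D d : Subgroup G) : Set G) = Fus.OddTransp.Cl D d ∪ {1} := by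
    rw [Fus.OddTransp.coe_sameCommutingSubgroup hD hcl hO hZ hDD hc hd, Fus.OddTransp.sameCommutingClass_eq_cl]
  refine ⟨F, i1, i2, ?_, ?_⟩
  · rw [hq, ← SetLike.coe_sort_coe, Nat.card_coe_set_eq, hset, Set.union_singleton,
      Set.ncard_insert_of_notMem (fun e => h.ne_one e.1 rfl) (Set.toFinite _)]
  · rwa [Fus.OddTransp.sameCommutingClass_eq_cl]

end Cfsg.Agent.S5052
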