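import Cfsg.Statements.S5057
import Cfsg.Agent.Lib.Fus.AltSixInvolutions
-- import your own Cfsg.Agent.* helpers here

set_option autoImplicit false
open Cfsg

namespace Cfsg.Agent.S5057

/-- The involutions of the alternating group of degree 6 form a class of root involutions (a single conjugacy class of involutions generating the group, any two of which commute, have product of odd order, or have product of order 4 whose square is again an involution of the class), and the product of any two of them has order at most 5. -/
theorem result :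
    Cfsg.IsRootInvolutionClass {g : ↥(alternatingGroup (Fin 6)) | orderOf g = 2} ∧
    ∀ d ∈ {g : ↥(alternatingGroup (Fin 6)) | orderOf g = 2}, ∀ e ∈ {g : ↥(alternatingGroup (Fin 6)) | orderOf g = 2},
      orderOf (d * e) ≤ 5 := by
  have h4 : ∀ d e : ↥(alternatingGroup (Fin 6)), orderOf d = 2 → orderOf e = 2 →
      (d * e) * (d * e) = 1 ∨ (d * e) ^ 3 = 1 ∨ (d * e) ^ 4 = 1 ∨ (d * e) ^ 5 = 1 :=
    fun d e hd he => Fus.AltSix.pow_small hd he
  have hsimple : IsSimpleGroup ↥(alternatingGroup (Fin 6)) :=
    alternatingGroup.isSimpleGroup (by simp)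
  refine ⟨⟨⟨fun d hd => hd, ?_, fun d hd g => ?_, fun d hd e he => ?_⟩, ⟨Fus.AltSix.baseA,
    Fus.AltSix.orderOf_baseA⟩, fun a ha b hb => ?_⟩, fun d hd e he => ?_⟩
  · have hn : (Subgroup.closure {g : ↥(alternatingGroup (Fin 6)) | orderOf g = 2}).Normal := by
      refine ⟨fun n hn g => ?_⟩
      have : (Subgroup.closure {g : ↥(alternatingGroup (Fin 6)) | orderOf g = 2}).map
          (MulAut.conj g).toMonoidHom ≤ Subgroup.closure {g | orderOf g = 2} := by
        rw [MonoidHom.map_closure]
        refine Subgroup.closure_mono ?_
        rintro _ ⟨w, hw, rfl⟩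
        exact (orderOf_injective (MulAut.conj g).toMonoidHom (MulAut.conj g).injective w).trans hw
      exact this ⟨n, hn, rfl⟩
    refine (hsimple.eq_bot_or_eq_top_of_normal _ hn).resolve_left fun h => ?_
    have : Fus.AltSix.baseA = 1 := Subgroup.closure_eq_bot_iff.1 h Fus.AltSix.orderOf_baseA
    have h2 := Fus.AltSix.orderOf_baseA
    rw [this, orderOf_one] at h2
    omega
  · exact (orderOf_injective (MulAut.conj g).toMonoidHom (MulAut.conj g).injective d).trans hd
  · rcases h4 d e hd he with h | h | h | h
    · left
      have hd' : d * d = 1 := by rw [← pow_two, ← (show orderOf d = 2 from hd), pow_orderOf_eq_one]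
      have he' : e * e = 1 := by rw [← pow_two, ← (show orderOf e = 2 from he), pow_orderOf_eq_one]
      calc d * e = d * e * (d * e * (d * e))⁻¹ := by rw [h, inv_one, mul_one]
        _ = e⁻¹ * d⁻¹ := by group
        _ = e * d := by rw [inv_eq_of_mul_eq_one_right hd', inv_eq_of_mul_eq_one_right he']
    · right; left
      exact (by decide : Odd 3).of_dvd_nat (orderOf_dvd_of_pow_eq_one h)
    · have hdvd := orderOf_dvd_of_pow_eq_one h
      obtain ⟨j, hj, hj'⟩ := (Nat.dvd_prime_pow Nat.prime_two).1 (show orderOf (d * e) ∣ 2 ^ 2 from hdvd)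
      interval_cases j
      · exact Or.inr (Or.inl (by rw [hj']; decide))
      · left
        have hd' : d * d = 1 := by rw [← pow_two, ← (show orderOf d = 2 from hd), pow_orderOf_eq_one]
        have he' : e * e = 1 := by rw [← pow_two, ← (show orderOf e = 2 from he), pow_orderOf_eq_one]
        have h2 : d * e * (d * e) = 1 := by
          have := pow_orderOf_eq_one (d * e)
          rwa [hj', pow_one, pow_two] at this
        calc d * e = d * e * (d * e * (d * e))⁻¹ := by rw [h2, inv_one, mul_one]
          _ = e⁻¹ * d⁻¹ := by group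
          _ = e * d := by rw [inv_eq_of_mul_eq_one_right hd', inv_eq_of_mul_eq_one_right he']
      · refine Or.inr (Or.inr ⟨hj', ?_⟩)
        show orderOf ((d * e) ^ 2) = 2
        rw [orderOf_pow' _ two_ne_zero, hj']
        rfl
    · right; left
      exact (by decide : Odd 5).of_dvd_nat (orderOf_dvd_of_pow_eq_one h)
  · obtain ⟨g, hg⟩ := isConj_iff.1 (Fus.AltSix.isConj_of_two ha hb)
    exact ⟨g, hg.symm⟩
  · rcases h4 d e hd he with h | h | h | h
    · exact (orderOf_le_of_pow_eq_one (n := 2) (by norm_num) (by rw [pow_two]; exact h)).trans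
        (by norm_num)
    all_goals exact (orderOf_le_of_pow_eq_one (by norm_num) h).trans (by norm_num)

end Cfsg.Agent.S5057
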