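import Cfsg.Statements.S5063
import Cfsg.Agent.Lib.Fus.QuadPairDecomp
-- import your own Cfsg.Agent.* helpers here

set_option autoImplicit false
universe u
open Cfsg

namespace Cfsg.Agent.S5063

/-- Let k be a field of characteristic not 2 with k not of order 3, M a finite-dimensional k-vector space and G ≤ GL(M) such that (G, M) is a quadratic pair (M irreducible for G, and G generated by its quadratically acting elements σ whose scalar family 1 + c(σ − 1), c ∈ k, lies in G). Write 𝒬_d for the quadratic elements of G of minimal commutator rank, E(σ) for the subgroup generated by the members of 𝒬_d with the same fixed space and commutator space as σ, and Σ for the set of these subgroups. Then G is a central product of finitely many quasisimple normal subgroups G₁, …, G_s (pairwise commuting and together generating G), each generated by the quadratic elements of G it contains, and every quadratic element of G lies in one of them. -/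
theorem result {k : Type u} [Field k] (hk2 : ringChar k ≠ 2) (hk3 : Nat.card k ≠ 3)
    {M : Type u} [AddCommGroup M] [Module k M] [FiniteDimensional k M]
    {G : Subgroup (LinearMap.GeneralLinearGroup k M)} (hG : Cfsg.IsQuadraticPair G) :
    ∃ (s : ℕ) (Gi : Fin s → Subgroup (LinearMap.GeneralLinearGroup k M)),
      (∀ i, Gi i ≤ G ∧ ∀ g ∈ G, Cfsg.conjBy (Gi i) g = Gi i) ∧ (∀ i j, i ≠ j → ⁅Gi i, Gi j⁆ = ⊥) ∧ (⨆ i, Gi i) = G ∧
      (∀ i, Cfsg.IsQuasisimple ↥(Gi i) ∧ Subgroup.closure (Cfsg.quadraticElements G ∩ (Gi i : Set (LinearMap.GeneralLinearGroup k M))) = Gi i) ∧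
      Cfsg.quadraticElements G ⊆ ⋃ i, (Gi i : Set (LinearMap.GeneralLinearGroup k M)) := by
  classical
  obtain ⟨S, hfin, h1, h2, h3, h4⟩ :=
    Fus.QPair.decomposition hk2 hk3 _ G rfl (Fus.QPair.normalFree hG) hG.2
  have := hfin.fintype
  let e := (Fintype.equivFin S).symm
  refine ⟨Fintype.card S, fun i => (e i : Subgroup (LinearMap.GeneralLinearGroup k M)), fun i => ?_,
    fun i j hij => h2 _ (e i).2 _ (e j).2 fun he => hij (e.injective (Subtype.ext he)), ?_, fun i => ?_, ?_⟩
  · exact ⟨(h1 _ (e i).2).1, (h1 _ (e i).2).2.1⟩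
  · refine le_antisymm (iSup_le fun i => (h1 _ (e i).2).1) (h3.ge.trans (iSup₂_le fun N hN => ?_))
    exact le_iSup_of_le (e.symm ⟨N, hN⟩) (by simp)
  · exact ⟨(h1 _ (e i).2).2.2.1, (h1 _ (e i).2).2.2.2⟩
  · intro ρ hρ
    obtain ⟨N, hN, hρN⟩ := Set.mem_iUnion₂.1 (h4 hρ)
    exact Set.mem_iUnion.2 ⟨e.symm ⟨N, hN⟩, by simpa using hρN⟩

end Cfsg.Agent.S5063
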