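import Cfsg.Statements.S5064
import Cfsg.Agent.Lib.Fus.QuadPairMinimal
-- import your own Cfsg.Agent.* helpers here

set_option autoImplicit false
universe u
open Cfsg

namespace Cfsg.Agent.S5064

/-- Let k be a field of characteristic not 2 with k not of order 3, M a finite-dimensional k-vector space and G ≤ GL(M) such that (G, M) is a quadratic pair (M irreducible for G, and G generated by its quadratically acting elements σ whose scalar family 1 + c(σ − 1), c ∈ k, lies in G). Write 𝒬_d for the quadratic elements of G of minimal commutator rank, E(σ) for the subgroup generated by the members of 𝒬_d with the same fixed space and commutator space as σ, and Σ for the set of these subgroups. If σ, τ ∈ 𝒬_d and the subgroup H generated by their two scalar families does not act unipotently on M, then H is isomorphic to SL₂ over a simple algebraic extension k(λ) of k. -/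
theorem result {k : Type u} [Field k] (hk2 : ringChar k ≠ 2) (hk3 : Nat.card k ≠ 3)
    {M : Type u} [AddCommGroup M] [Module k M] [FiniteDimensional k M]
    {G : Subgroup (LinearMap.GeneralLinearGroup k M)} (hG : Cfsg.IsQuadraticPair G)
    {σ τ : LinearMap.GeneralLinearGroup k M} (hσ : σ ∈ Cfsg.minimalQuadraticElements G) (hτ : τ ∈ Cfsg.minimalQuadraticElements G)
    (hH : ¬ Cfsg.IsUnipotentOn (Subgroup.closure (Cfsg.scalarFamily σ ∪ Cfsg.scalarFamily τ))) :
    ∃ (K : Type u) (_ : Field K) (_ : Algebra k K) (lam : K), IsAlgebraic k lam ∧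
      IntermediateField.adjoin k ({lam} : Set K) = ⊤ ∧
      Nonempty (↥(Subgroup.closure (Cfsg.scalarFamily σ ∪ Cfsg.scalarFamily τ)) ≃* Matrix.SpecialLinearGroup (Fin 2) K) := by
  obtain ⟨⟨hσG, ⟨hs, -⟩, hσsc⟩, hσmin⟩ := hσ
  obtain ⟨⟨hτG, ⟨ht, -⟩, hτsc⟩, hτmin⟩ := hτ
  rw [← Fus.QPair.famGroup_eq] at hH ⊢
  have hz : ¬ IsNilpotent (Fus.QPair.zz ((σ : M →ₗ[k] M) - 1) ((τ : M →ₗ[k] M) - 1)) :=
    fun hz => hH (Fus.QPair.isUnipotentOn_famGroup hs ht hz)
  obtain ⟨E, q, h⟩ := Fus.QPair.exists_split hz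
  have hle : Fus.QPair.famGroup ((σ : M →ₗ[k] M) - 1) ((τ : M →ₗ[k] M) - 1) ≤ G := by
    rw [Fus.QPair.famGroup_eq, Subgroup.closure_le]
    exact Set.union_subset hσsc hτsc
  obtain ⟨hEs, hdom⟩ := Fus.QPair.minimal_s hs ht h hk2 hk3 hle hσmin
  have h' : Fus.QPair.IsSplit (Fus.QPair.zz ((τ : M →ₗ[k] M) - 1) ((σ : M →ₗ[k] M) - 1)) E q := by
    rw [Fus.QPair.zz_symm]; exact h
  have hle' : Fus.QPair.famGroup ((τ : M →ₗ[k] M) - 1) ((σ : M →ₗ[k] M) - 1) ≤ G := by
    rw [Fus.QPair.famGroup_eq, Subgroup.closure_le]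
    exact Set.union_subset hτsc hσsc
  obtain ⟨hEt, -⟩ := Fus.QPair.minimal_s ht hs h' hk2 hk3 hle' hτmin
  have hq : Fact (Irreducible q) := ⟨Fus.QPair.irreducible_of_domain h hdom⟩
  have hint : IsIntegral k (AdjoinRoot.root q) := AdjoinRoot.isIntegral_root h.q_ne
  refine ⟨AdjoinRoot q, inferInstance, inferInstance, AdjoinRoot.root q, hint.isAlgebraic, ?_, ⟨?_⟩⟩
  · refine top_le_iff.1 fun x _ => IntermediateField.algebra_adjoin_le_adjoin k _ ?_
    rw [AdjoinRoot.adjoinRoot_eq_top]; trivial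
  · exact ((MonoidHom.ofInjective (Fus.QPair.phi_injective hs ht h)).trans
      (MulEquiv.subgroupCongr (Fus.QPair.phi_range hs ht h hk2 hk3 hEs hEt))).symm

end Cfsg.Agent.S5064
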