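import Cfsg.Statements.S5067
import Cfsg.Agent.Lib.Fus.RankOne
-- import your own Cfsg.Agent.* helpers here

set_option autoImplicit false
open Cfsg

namespace Cfsg.Agent.S5067

open scoped commutatorElement

/-- Let P be a non-abelian nilpotent p-group (every element of p-power order; P possibly infinite) generated by two abelian subgroups E and F. Then the normal closure of E in P, and likewise that of F, has nilpotency class strictly smaller than that of P. -/
theorem result {P : Type*} [Group P] {p : ℕ} [Fact p.Prime] (hP : IsPGroup p P) [Group.IsNilpotent P]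
    (hna : ¬ IsMulCommutative P) {E F : Subgroup P} (hE : IsMulCommutative ↥E) (hF : IsMulCommutative ↥F) (hgen : E ⊔ F = ⊤) :
    Group.nilpotencyClass ↥(Subgroup.normalClosure (E : Set P)) < Group.nilpotencyClass P ∧
    Group.nilpotencyClass ↥(Subgroup.normalClosure (F : Set P)) < Group.nilpotencyClass P := by
  classical
  have key : ∀ E : Subgroup P, IsMulCommutative ↥E →
      Group.nilpotencyClass ↥(Subgroup.normalClosure (E : Set P)) < Group.nilpotencyClass P := by
    intro E hE
    obtain ⟨c, hc⟩ : ∃ c, Group.nilpotencyClass P = c + 2 := by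
      have : ¬ Group.nilpotencyClass P ≤ 1 := fun h =>
        hna (Group.IsNilpotent.nilpotencyClass_le_one_iff.1 h)
      exact ⟨Group.nilpotencyClass P - 2, by omega⟩
    set D := (⊤ : Subgroup P).lowerCentralSeries 1 with hD
    have hDcom : ∀ a b : P, a * b * a⁻¹ * b⁻¹ ∈ D := fun a b =>
      Subgroup.commutator_mem_commutator (Subgroup.mem_top a) (Subgroup.mem_top b)
    have hNle : Subgroup.normalClosure (E : Set P) ≤ E ⊔ D := by
      have hn : (E ⊔ D).Normal := ⟨fun x hx g => by
        have h1 := mul_mem (Subgroup.mem_sup_right (S := E) (hDcom g x)) hx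
        rwa [inv_mul_cancel_right] at h1⟩
      haveI := hn
      exact Subgroup.normalClosure_le_normal (fun x hx => Subgroup.mem_sup_left hx)
    set L := (⊤ : Subgroup P).lowerCentralSeries 2 with hL
    have h1 : ⁅E ⊔ D, E ⊔ D⁆ ≤ L := by
      have hcen : ∀ x ∈ D, ∀ y : P,
          QuotientGroup.mk' L x * QuotientGroup.mk' L y =
            QuotientGroup.mk' L y * QuotientGroup.mk' L x := by
        intro x hx y
        rw [← commutatorElement_eq_one_iff_mul_comm, ← map_commutatorElement]
        exact (QuotientGroup.eq_one_iff _).2
          (Subgroup.commutator_mem_commutator hx (Subgroup.mem_top y))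
      rw [← QuotientGroup.ker_mk' L, ← Subgroup.map_eq_bot_iff, Subgroup.map_commutator,
        Subgroup.commutator_eq_bot_iff_le_centralizer, Subgroup.map_le_iff_le_comap]
      refine sup_le ?_ fun x hx => ?_
      · intro e he
        rw [Subgroup.mem_comap, Subgroup.mem_centralizer_iff]
        rintro _ ⟨y, hy, rfl⟩
        have : (E ⊔ D : Subgroup P) ≤
            (Subgroup.centralizer {QuotientGroup.mk' L e}).comap (QuotientGroup.mk' L) := by
          refine sup_le (fun e' he' => ?_) fun d hd => ?_
          · rw [Subgroup.mem_comap, Subgroup.mem_centralizer_singleton_iff, ← map_mul, ← map_mul]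
            exact congrArg (QuotientGroup.mk' L)
              (congrArg Subtype.val (mul_comm' (⟨e', he'⟩ : E) ⟨e, he⟩))
          · rw [Subgroup.mem_comap, Subgroup.mem_centralizer_singleton_iff]
            exact hcen d hd e
        exact Subgroup.mem_centralizer_singleton_iff.1 (this hy)
      · rw [Subgroup.mem_comap, Subgroup.mem_centralizer_iff]
        rintro _ ⟨y, -, rfl⟩
        exact (hcen x hx y).symm
    have h2 : ∀ i, (Subgroup.normalClosure (E : Set P)).lowerCentralSeries (i + 1) ≤
        (⊤ : Subgroup P).lowerCentralSeries (i + 2) := by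
      intro i
      induction i with
      | zero => exact (Subgroup.commutator_mono hNle hNle).trans h1
      | succ i ih => exact Subgroup.commutator_mono ih le_top
    rw [hc]
    refine Nat.lt_succ_of_le (Subgroup.lowerCentralSeries_eq_bot_iff_nilpotencyClass_le.1 ?_)
    refine Subgroup.map_injective (Subgroup.subtype_injective _) ?_
    rw [Subgroup.top_subtype_lowerCentralSeries, Subgroup.map_bot, eq_bot_iff]
    refine (h2 c).trans ?_
    rw [Subgroup.lowerCentralSeries_eq_bot_iff_nilpotencyClass_le.2 hc.le]
  exact ⟨key E hE, key F hF⟩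

end Cfsg.Agent.S5067
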