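import Cfsg.Statements.S5069
import Cfsg.Agent.Lib.Fus.QuadPairDecomp
-- import your own Cfsg.Agent.* helpers here

set_option autoImplicit false
universe u
open Cfsg

namespace Cfsg.Agent.S5069

/-- Let k be a field of characteristic not 2 with k not of order 3, M a finite-dimensional k-vector space and G ≤ GL(M) such that (G, M) is a quadratic pair (M irreducible for G, and G generated by its quadratically acting elements σ whose scalar family 1 + c(σ − 1), c ∈ k, lies in G). Write 𝒬_d for the quadratic elements of G of minimal commutator rank, E(σ) for the subgroup generated by the members of 𝒬_d with the same fixed space and commutator space as σ, and Σ for the set of these subgroups. Then Σ is a disjoint union of finitely many parts Σ₁, …, Σ_r such that the subgroups G_i generated by the Σ_i commute pairwise, each G_i is quasisimple, and inside G_i the members of Σ_i form a class of abstract root subgroups in which every rank one pair A, B contains subgroups A₀ ≤ A, B₀ ≤ B generating an image of SL₂(k₁)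 with central kernel on unitriangular subgroups for some field k₁ with at least four elements. -/
theorem result {k : Type u} [Field k] (hk2 : ringChar k ≠ 2) (hk3 : Nat.card k ≠ 3)
    {M : Type u} [AddCommGroup M] [Module k M] [FiniteDimensional k M]
    {G : Subgroup (LinearMap.GeneralLinearGroup k M)} (hG : Cfsg.IsQuadraticPair G) :
    ∃ (r : ℕ) (part : Fin r → Set (Subgroup (LinearMap.GeneralLinearGroup k M))),
      (⋃ i, part i) = Cfsg.quadraticRootSubgroups G ∧ (∀ i j, i ≠ j → Disjoint (part i) (part j)) ∧ (∀ i, (part i).Nonempty) ∧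
      (∀ i j, i ≠ j → ⁅(⨆ A ∈ part i, A), (⨆ A ∈ part j, A)⁆ = ⊥) ∧
      (∀ i, Cfsg.IsQuasisimple ↥(⨆ A ∈ part i, A) ∧
        Cfsg.IsRootSubgroupClass ((fun A : Subgroup (LinearMap.GeneralLinearGroup k M) => A.subgroupOf (⨆ B ∈ part i, B)) '' (part i)) ∧
        ∀ A ∈ part i, ∀ B ∈ Cfsg.rankOnePartners (part i) A, ∃ A₀ B₀ : Subgroup (LinearMap.GeneralLinearGroup k M), A₀ ≤ A ∧ B₀ ≤ B ∧
          ∃ (k₁ : Type u) (_ : Field k₁), 3 < ENat.card k₁ ∧ Cfsg.IsPSL2PairOver k₁ A₀ B₀) := by
  have hfree := Fus.QPair.normalFree hG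
  obtain ⟨r, P, h1, h2, h3, h4⟩ := Fus.QPair.root_partition hk2 hk3 hfree
  refine ⟨r, P, h1, h2, fun i => ?_, h4, fun i => ?_⟩
  · obtain ⟨A, hA, e⟩ := h3 i
    exact ⟨A, e ▸ Fus.QPair.mem_part hA Relation.ReflTransGen.refl⟩
  · obtain ⟨A, hA, e⟩ := h3 i
    rw [e]
    refine ⟨Fus.QPair.partGroup_quasisimple hk2 hk3 hfree.unip hA, Fus.QPair.part_class hk2 hk3 hfree.unip hA, ?_⟩
    rintro B hB C ⟨hC, hBC⟩
    obtain ⟨σ, hσ, rfl⟩ := hB.1
    obtain ⟨τ, hτ, rfl⟩ := hC.1
    exact Fus.QPair.exists_subPair hk2 hk3 hσ hτ (Fus.QPair.opposite_of_rankOne hk2 hk3 hfree.unip hσ hτ hBC)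

end Cfsg.Agent.S5069
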