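import Cfsg.Statements.S5082
import Cfsg.Agent.Lib.Fus.Alperin
-- import your own Cfsg.Agent.* helpers here

set_option autoImplicit false
open Cfsg

namespace Cfsg.Agent.S5082

/-- Alperin–Goldschmidt fusion Theorem for fusion systems: a saturated fusion system F over a finite p-group S is generated by the automorphism groups Aut_F(P) for P = S and for P essential — every fusion system over S whose automorphism groups of these subgroups contain those of F contains every map of F. -/
theorem result {Ω : Type*} [Group Ω] {S : Subgroup Ω} [Finite S] (p : ℕ) [Fact p.Prime] (hS : IsPGroup p S) (F : Cfsg.FusionSystem S) (hF : F.IsSaturated p) (E : Cfsg.FusionSystem S) (hE : ∀ P : Subgroup Ω, (P = S ∨ F.IsEssential p P) → F.autGroup P ≤ E.autGroup P) : F ≤ E := by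
  intro P φ hφ
  have hm : Cfsg.Agent.Fus.IsMap E P (Cfsg.Agent.Fus.toFun φ) := by
    refine Cfsg.Agent.Fus.alperin hS hF (fun R f => Cfsg.Agent.Fus.IsMap E R f)
      (fun R f g h e => h.congr e) (fun R T f g _ _ hfT h1 h2 => h1.comp h2 hfT)
      (fun R T f _ hRT h => h.res hRT) (fun α hα => ?_) (fun R hR α hα => ?_)
      (Cfsg.Agent.Fus.isMap_toFun hφ)
    · exact (Cfsg.Agent.Fus.mem_autGroup le_rfl).1 (hE S (Or.inl rfl) hα)
    · exact (Cfsg.Agent.Fus.mem_autGroup hR.1.1).1 (hE R (Or.inr hR) hα)
  exact Cfsg.Agent.Fus.mem_hom_of_isMap hm fun x => (Cfsg.Agent.Fus.toFun_coe φ x).symm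

end Cfsg.Agent.S5082
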