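import Cfsg.Statements.S5083
import Cfsg.Agent.Lib.Fus.NormalCrit
-- import your own Cfsg.Agent.* helpers here

set_option autoImplicit false
open Cfsg

namespace Cfsg.Agent.S5083

/-- If F is a saturated fusion system over a finite p-group S in which Aut_F(P) is a p-group for every P ≤ S, then F is the inner fusion system of S (all its maps are conjugations by elements of S). -/
theorem result {Ω : Type*} [Group Ω] {S : Subgroup Ω} [Finite S] (p : ℕ) [Fact p.Prime] (hS : IsPGroup p S) (F : Cfsg.FusionSystem S) (hF : F.IsSaturated p) (h : ∀ P : Subgroup Ω, P ≤ S → IsPGroup p (F.autGroup P)) : F = Cfsg.innerFusionSystem S := by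
  refine Cfsg.Agent.Fus.eq_of_le_of_le (fun P φ hφ => ?_) fun P φ hφ => ?_
  · have hm : Cfsg.Agent.Fus.IsMap (innerFusionSystem S) P (Cfsg.Agent.Fus.toFun φ) := by
      refine Cfsg.Agent.Fus.alperin hS hF
        (fun R f => Cfsg.Agent.Fus.IsMap (innerFusionSystem S) R f)
        (fun R f g h e => h.congr e) (fun R T f g _ _ hfT h1 h2 => h1.comp h2 hfT)
        (fun R T f _ hRT h => h.res hRT) (fun α hα => ?_) (fun R hR => ?_)
        (Cfsg.Agent.Fus.isMap_toFun hφ)
      · have hfn : F.IsFullyNormalized S :=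
          ⟨le_rfl, fun Q hQ => by
            obtain rfl : Q = S := Subgroup.eq_of_le_of_card_ge
              (Cfsg.Agent.Fus.isConj_le_right hQ) (Cfsg.Agent.Fus.isConj_card hQ).ge
            exact le_rfl⟩
        obtain ⟨-, R, hR⟩ := Cfsg.Agent.Fus.fullyAutomized_of_fullyNormalized hS hF hfn
        have hmem : (⟨α, hα⟩ : F.autGroup S) ∈ (R : Subgroup (F.autGroup S)) := by
          rw [← R.is_maximal' ((h S le_rfl).to_subgroup ⊤) le_top]
          trivial
        rw [hR] at hmem
        exact (Cfsg.Agent.Fus.mem_autGroup le_rfl).1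
          (Cfsg.Agent.Fus.autInducedBy_le_autGroup _ le_rfl hmem)
      · obtain ⟨hc, hn, hnorm, E, -, hEtop, P', hE⟩ := hR
        haveI := hnorm
        haveI := Cfsg.Agent.Fus.finite_of_le hn.1
        refine absurd (top_le_iff.1 fun x _ => ?_) hEtop
        by_cases hx : x = 1
        · exact hx ▸ E.one_mem
        refine Cfsg.Agent.Fus.normalizer_le_of_kGeneratedCore P'.2 hE
          (Q := Subgroup.zpowers x) ?_ (by rwa [Ne, Subgroup.zpowers_eq_bot])
          (Subgroup.le_normalizer (Subgroup.mem_zpowers x))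
        rw [← P'.is_maximal' (((h R hn.1).to_quotient _).to_subgroup ⊤) le_top]
        exact le_top
    exact Cfsg.Agent.Fus.mem_hom_of_isMap hm fun x => (Cfsg.Agent.Fus.toFun_coe φ x).symm
  · obtain ⟨hP, g, hg, e⟩ := hφ
    exact Cfsg.Agent.Fus.mem_hom_of_isMap (Cfsg.Agent.Fus.isMap_conj F hP hg) e

end Cfsg.Agent.S5083
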