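import Cfsg.Statements.S5084
import Cfsg.Agent.Lib.Fus.NormalCrit
-- import your own Cfsg.Agent.* helpers here

set_option autoImplicit false
open Cfsg

namespace Cfsg.Agent.S5084

/-- In a saturated fusion system over a finite p-group S, a subgroup Q is central in the system if and only if Q ≤ S and no element of Q is conjugate in the system to any element other than itself. -/
theorem result {Ω : Type*} [Group Ω] {S : Subgroup Ω} [Finite S] (p : ℕ) [Fact p.Prime] (hS : IsPGroup p S) (F : Cfsg.FusionSystem S) (hF : F.IsSaturated p) (Q : Subgroup Ω) : F.IsCentral Q ↔ (Q ≤ S ∧ ∀ x ∈ Q, ∀ y : Ω, F.IsConjElt x y → y = x) := by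
  rw [Cfsg.Agent.Fus.isCentral_iff]
  constructor
  · rintro ⟨hQS, h⟩
    refine ⟨hQS, fun x hx y hy => ?_⟩
    obtain ⟨φ, hφ, rfl⟩ := hy
    obtain ⟨g, -, h1, h2⟩ := h _ _ (Cfsg.Agent.Fus.isMap_toFun hφ)
    rw [← Cfsg.Agent.Fus.toFun_coe φ ⟨x, Subgroup.mem_zpowers x⟩,
      ← h1 x (Subgroup.mem_zpowers x)]
    exact h2 x hx
  · rintro ⟨hQS, h⟩
    have hfix : ∀ (R : Subgroup Ω) (f : Ω → Ω), Cfsg.Agent.Fus.IsMap F R f → ∀ x ∈ Q, x ∈ R →
        f x = x := by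
      intro R f hf x hx hxR
      obtain ⟨φ, hφ, e⟩ := (hf.res (Subgroup.zpowers_le.2 hxR)).exists_hom
      exact (e ⟨x, Subgroup.mem_zpowers x⟩).symm.trans (h x hx _ ⟨φ, hφ, rfl⟩)
    have hcen : ∀ x ∈ Q, ∀ s ∈ S, s * x * s⁻¹ = x := fun x hx s hs =>
      hfix S _ (Cfsg.Agent.Fus.isMap_conj F le_rfl hs) x hx (hQS hx)
    refine ⟨hQS, fun P f hf => ?_⟩
    refine Cfsg.Agent.Fus.alperin hS hF (fun P f => ∃ g, Cfsg.Agent.Fus.IsMap F (P ⊔ Q) g ∧
      (∀ x ∈ P, g x = f x) ∧ ∀ x ∈ Q, g x = x) ?_ ?_ ?_ ?_ ?_ hf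
    · rintro P f f' ⟨g, hg, h1, h2⟩ e
      exact ⟨g, hg, fun x hx => (h1 x hx).trans (e x hx), h2⟩
    · rintro P R f f' hf hf' hfR ⟨g, hg, h1, h2⟩ ⟨g', hg', h1', h2'⟩
      have hle : Cfsg.Agent.Fus.fimg g (P ⊔ Q) ≤ R ⊔ Q := by
        rw [hg.fimg_sup]
        exact sup_le ((Cfsg.Agent.Fus.fimg_le fun x hx => (h1 x hx).symm ▸ hfR x hx).trans
          le_sup_left) ((Cfsg.Agent.Fus.fimg_le fun x hx => (h2 x hx).symm ▸ hx).trans le_sup_right)
      refine ⟨fun x => g' (g x), hg.comp hg' fun x hx => hle (Cfsg.Agent.Fus.apply_mem_fimg g hx),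
        fun x hx => ?_, fun x hx => ?_⟩
      · show g' (g x) = f' (f x)
        rw [h1 x hx, h1' _ (hfR x hx)]
      · show g' (g x) = x
        rw [h2 x hx, h2' x hx]
    · rintro P R f hf hPR ⟨g, hg, h1, h2⟩
      exact ⟨g, hg.res (sup_le_sup_right hPR Q), fun x hx => h1 x (hPR hx), h2⟩
    · intro α hα
      have hm := (Cfsg.Agent.Fus.mem_autGroup le_rfl).1 hα
      exact ⟨Cfsg.Agent.Fus.autFun α, by rwa [sup_eq_left.2 hQS], fun x hx => rfl,
        fun x hx => hfix S _ hm x hx (hQS hx)⟩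
    · intro R hR α hα
      have hm := (Cfsg.Agent.Fus.mem_autGroup hR.1.1).1 hα
      have hQR : Q ≤ R := fun x hx => Cfsg.Agent.Fus.centralizerIn_le_of_centric hR.1
        (Cfsg.Agent.Fus.mem_centralizerIn.2 ⟨hQS hx, fun y hy => by
          calc y * x = (y * x * y⁻¹) * y := by group
            _ = x * y := by rw [hcen x hx y (hR.1.1 hy)]⟩)
      exact ⟨Cfsg.Agent.Fus.autFun α, by rwa [sup_eq_left.2 hQR], fun x hx => rfl,
        fun x hx => hfix R _ hm x hx (hQR hx)⟩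

end Cfsg.Agent.S5084
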