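import Cfsg.Statements.S5087
import Cfsg.Agent.Lib.Fus.NormalCrit
-- import your own Cfsg.Agent.* helpers here

set_option autoImplicit false
open Cfsg

namespace Cfsg.Agent.S5087

/-- In a saturated fusion system over a finite p-group S, a subgroup Q is normal in the system if and only if every subgroup P that equals S or is essential contains Q and every element of Aut_F(P) maps Q onto itself. -/
theorem result {Ω : Type*} [Group Ω] {S : Subgroup Ω} [Finite S] (p : ℕ) [Fact p.Prime] (hS : IsPGroup p S) (F : Cfsg.FusionSystem S) (hF : F.IsSaturated p) (Q : Subgroup Ω) : F.IsNormal Q ↔ ∀ P : Subgroup Ω, (P = S ∨ F.IsEssential p P) → (Q ≤ P ∧ ∀ α ∈ F.autGroup P, (Q.subgroupOf P).map α.toMonoidHom = Q.subgroupOf P) := by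
  classical
  constructor
  · intro hQ P hP
    have hQP : Q ≤ P := by
      rcases hP with rfl | hP
      · exact hQ.1
      · exact Cfsg.Agent.Fus.le_of_isNormal hS hQ hP.1
          (Cfsg.Agent.Fus.radical_of_essential hS hP)
    have hPS : P ≤ S := by
      rcases hP with rfl | hP
      exacts [le_rfl, hP.1.1]
    haveI := Cfsg.Agent.Fus.finite_of_le hPS
    refine ⟨hQP, fun α hα => ?_⟩
    refine Subgroup.eq_of_le_of_card_ge ?_
      (Subgroup.card_map_of_injective (f := α.toMonoidHom) α.injective).ge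
    rintro _ ⟨x, hx, rfl⟩
    rw [Subgroup.mem_subgroupOf]
    show ((α x : P) : Ω) ∈ Q
    rw [← Cfsg.Agent.Fus.autFun_coe α x]
    exact Cfsg.Agent.Fus.StronglyClosed.apply_mem (Cfsg.Agent.Fus.stronglyClosed_of_isNormal hQ)
      (((Cfsg.Agent.Fus.mem_autGroup hPS).1 hα).res hQP) le_rfl hx
  · intro h
    have key : ∀ P, (P = S ∨ F.IsEssential p P) → ∀ α ∈ F.autGroup P, ∀ x ∈ Q,
        Cfsg.Agent.Fus.autFun α x ∈ Q := by
      intro P hP α hα x hx
      obtain ⟨hQP, hinv⟩ := h P hP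
      rw [show Cfsg.Agent.Fus.autFun α x = ((α ⟨x, hQP hx⟩ : P) : Ω) from
        Cfsg.Agent.Fus.autFun_coe α ⟨x, hQP hx⟩]
      exact (hinv α hα).le ⟨⟨x, hQP hx⟩, hx, rfl⟩
    exact Cfsg.Agent.Fus.isNormal_of_essential hS hF (h S (Or.inl rfl)).1 (key S (Or.inl rfl))
      fun P hP => ⟨(h P (Or.inr hP)).1, key P (Or.inr hP)⟩

end Cfsg.Agent.S5087
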