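import Cfsg.Statements.S5094
import Cfsg.Agent.Lib.Fus.ZStarCenter
-- import your own Cfsg.Agent.* helpers here

set_option autoImplicit false
open Cfsg

namespace Cfsg.Agent.S5094

/-- Glauberman's Z*-Theorem in fusion language: for a finite group G with Sylow 2-subgroup S, the centre of the fusion system of G on S is the set of elements of S whose image in G/O(G) is central, O(G) being the largest normal subgroup of odd order. -/
theorem result {G : Type*} [Group G] [Finite G] (S : Sylow 2 G) : (Cfsg.groupFusionSystem (S : Subgroup G)).center = (S : Subgroup G) ⊓ (Subgroup.center (G ⧸ Cfsg.oddCore G)).comap (QuotientGroup.mk' (Cfsg.oddCore G)) := by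
  ext z
  rw [Cfsg.Agent.Fus.mem_center_group_iff, Subgroup.mem_inf, Subgroup.mem_comap,
    Subgroup.mem_center_iff]
  refine and_congr_right fun _ => ⟨fun h q => ?_, fun h g => ?_⟩
  · induction q using QuotientGroup.induction_on with
    | _ g =>
      have h1 := (QuotientGroup.eq_one_iff (N := oddCore G) _).2 (h g)
      rw [QuotientGroup.mk_mul, QuotientGroup.mk_mul, QuotientGroup.mk_mul, QuotientGroup.mk_inv,
        QuotientGroup.mk_inv, mul_inv_eq_one, mul_inv_eq_iff_eq_mul] at h1
      exact h1.symm
  · refine (QuotientGroup.eq_one_iff (N := oddCore G) _).1 ?_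
    have h1 : (g : G ⧸ oddCore G) * (z : G ⧸ oddCore G) = z * g := h (g : G ⧸ oddCore G)
    rw [QuotientGroup.mk_mul, QuotientGroup.mk_mul, QuotientGroup.mk_mul, QuotientGroup.mk_inv,
      QuotientGroup.mk_inv, mul_inv_eq_one, mul_inv_eq_iff_eq_mul]
    exact h1.symm

end Cfsg.Agent.S5094
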