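import Cfsg.Statements.S5102
import Cfsg.Agent.Lib.Fus.Normal
-- import your own Cfsg.Agent.* helpers here

set_option autoImplicit false
open Cfsg

namespace Cfsg.Agent.S5102

/-- A normal p-subgroup of a finite group G is normal in the fusion system of G on a Sylow p-subgroup. -/
theorem result {G : Type*} [Group G] [Finite G] (p : ℕ) [Fact p.Prime] (S : Sylow p G) (R : Subgroup G) [R.Normal] (hR : IsPGroup p R) : (Cfsg.groupFusionSystem (S : Subgroup G)).IsNormal R := by
  have hRS : R ≤ (S : Subgroup G) := by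
    obtain ⟨T, hT⟩ := hR.exists_le_sylow
    obtain ⟨g, hg⟩ := MulAction.exists_smul_eq G T S
    intro x hx
    rw [← hg]
    exact ⟨g⁻¹ * x * g, hT (by simpa using Subgroup.Normal.conj_mem inferInstance x hx g⁻¹),
      by simp [mul_assoc]⟩
  refine Fus.isNormal_iff.2 ⟨hRS, fun P f hf => ?_⟩
  obtain ⟨φ, ⟨hP, hφ, g, hg⟩, e⟩ := hf.exists_hom
  have hval : ∀ x ∈ P ⊔ R, g * x * g⁻¹ ∈ (S : Subgroup G) := by
    have h : P ⊔ R ≤ (S : Subgroup G).comap (MulAut.conj g).toMonoidHom := by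
      refine sup_le (fun x hx => ?_) fun x hx => hRS (Subgroup.Normal.conj_mem inferInstance x hx g)
      show g * x * g⁻¹ ∈ (S : Subgroup G)
      rw [← hg ⟨x, hx⟩]
      exact hφ _
    exact h
  refine ⟨fun x => g * x * g⁻¹, ⟨Cfsg.conjHom (P ⊔ R) g,
    ⟨sup_le hP hRS, fun x => hval x x.2, g, fun x => rfl⟩, fun x => rfl⟩,
    fun x hx => ((hg ⟨x, hx⟩).symm.trans (e ⟨x, hx⟩)), ?_⟩
  ext y
  rw [Fus.mem_fimg_conj]
  exact ⟨fun h => by simpa [mul_assoc] using Subgroup.Normal.conj_mem inferInstance _ h g,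
    fun h => by simpa using Subgroup.Normal.conj_mem inferInstance y h g⁻¹⟩

end Cfsg.Agent.S5102
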