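import Cfsg.Statements.S5106
import Cfsg.Agent.Lib.Fus.NormalCrit
-- import your own Cfsg.Agent.* helpers here

set_option autoImplicit false
open Cfsg

namespace Cfsg.Agent.S5106

/-- In a saturated fusion system over a finite p-group S, a subgroup R ≤ S is normal in the system if and only if every map of the system whose source is a subgroup of R is the restriction of an element of Aut_F(R). -/
theorem result {Ω : Type*} [Group Ω] {S : Subgroup Ω} [Finite S] (p : ℕ) [Fact p.Prime] (hS : IsPGroup p S) (F : Cfsg.FusionSystem S) (hF : F.IsSaturated p) (R : Subgroup Ω) (hRS : R ≤ S) : F.IsNormal R ↔ ∀ (P : Subgroup Ω) (hPR : P ≤ R) (φ : P →* Ω), φ ∈ F.Hom P → ∃ α ∈ F.autGroup R, ∀ x : P, ((α (Subgroup.inclusion hPR x) : R) : Ω) = φ x := by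
  constructor
  · intro hR P hPR φ hφ
    obtain ⟨g, hg, h1, h2⟩ := (Cfsg.Agent.Fus.isNormal_iff.1 hR).2 P _
      (Cfsg.Agent.Fus.isMap_toFun hφ)
    obtain ⟨α, hα, e⟩ := (hg.res le_sup_right).exists_aut h2
    refine ⟨α, hα, fun x => ?_⟩
    rw [← Cfsg.Agent.Fus.autFun_coe α (Subgroup.inclusion hPR x),
      e _ (Subgroup.inclusion hPR x).2]
    show g x = φ x
    rw [h1 x x.2, Cfsg.Agent.Fus.toFun_coe]
  · intro h
    have hclosed : ∀ U, U ≤ R → (U.subgroupOf R).Characteristic → F.StronglyClosed U := by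
      intro U hU hc
      refine Cfsg.Agent.Fus.stronglyClosed_of_forall (hU.trans hRS) fun T hT f hf x hx => ?_
      obtain ⟨φ, hφ, e⟩ := hf.exists_hom
      obtain ⟨α, hα, eα⟩ := h T (hT.trans hU) φ hφ
      have hm := (Cfsg.Agent.Fus.mem_autGroup hRS).1 hα
      rw [← e ⟨x, hx⟩, ← eα ⟨x, hx⟩, ← Cfsg.Agent.Fus.autFun_coe]
      exact (hm.fimg_characteristic (Cfsg.Agent.Fus.fimg_autFun α) hU hc).le
        (Cfsg.Agent.Fus.apply_mem_fimg _ (hT hx))
    obtain ⟨n, Qs, h0, rfl, hmono, hQ⟩ :=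
      Cfsg.Agent.Fus.exists_chain_of_characteristic_closed hS hRS hclosed
    exact Cfsg.Agent.Fus.isNormal_of_chain hS hF Qs h0 hmono hQ

end Cfsg.Agent.S5106
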