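import Cfsg.Statements.S5107
import Cfsg.Agent.Lib.Fus.NormalCrit
import Cfsg.Agent.Lib.Fus.GroupSystem
-- import your own Cfsg.Agent.* helpers here

set_option autoImplicit false
open Cfsg

namespace Cfsg.Agent.S5107

/-- If a Sylow p-subgroup S of a finite group G has nilpotency class at most two and its centre is strongly closed in S with respect to G, then every map of the fusion system of G on S is conjugation by an element of N_G(S), and S is the largest subgroup normal in that fusion system. -/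
theorem result {G : Type*} [Group G] [Finite G] (p : ℕ) [Fact p.Prime] (S : Sylow p G) (hcl : ⁅(S : Subgroup G), (S : Subgroup G)⁆ ≤ (S : Subgroup G) ⊓ Subgroup.centralizer ((S : Subgroup G) : Set G)) (hZ : Cfsg.IsStronglyClosed ((S : Subgroup G) ⊓ Subgroup.centralizer ((S : Subgroup G) : Set G)) (S : Subgroup G)) : (∀ (P : Subgroup G) (φ : P →* G), φ ∈ (Cfsg.groupFusionSystem (S : Subgroup G)).Hom P → ∃ g ∈ Subgroup.normalizer ((S : Subgroup G) : Set G), ∀ x : P, φ x = g * (x : G) * g⁻¹) ∧ (Cfsg.groupFusionSystem (S : Subgroup G)).core = S := by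
  have hZS : (S : Subgroup G) ⊓ Subgroup.centralizer ((S : Subgroup G) : Set G) ≤ S := inf_le_left
  have hN : (groupFusionSystem (S : Subgroup G)).IsNormal (S : Subgroup G) := by
    refine Cfsg.Agent.Fus.isNormal_of_chain S.2 (Cfsg.Agent.Fus.isSaturated_group S)
      ![⊥, (S : Subgroup G) ⊓ Subgroup.centralizer ((S : Subgroup G) : Set G), (S : Subgroup G)]
      rfl ?_ fun i => ?_
    · exact Fin.monotone_iff_le_succ.2 fun i => by
        fin_cases i
        exacts [bot_le, hZS]
    · fin_cases i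
      · refine ⟨Cfsg.Agent.Fus.stronglyClosed_of_forall hZS fun T hT f hf x hx => ?_, ?_⟩
        · obtain ⟨-, g, hg⟩ := Cfsg.Agent.Fus.isMap_group.1 hf
          rw [(hg x hx).1]
          exact hZ.2 x (hT hx) g (hg x hx).2
        · show ⁅(S : Subgroup G), (S : Subgroup G) ⊓ _⁆ ≤ ⊥
          refine Subgroup.commutator_le.2 fun a ha b hb => Subgroup.mem_bot.2 ?_
          rw [commutatorElement_eq_one_iff_mul_comm]
          exact Subgroup.mem_centralizer_iff.1 hb.2 a ha
      · exact ⟨⟨le_rfl, fun R hR φ hφ x => ((groupFusionSystem (S : Subgroup G)).le_of_mem hφ).2 x⟩,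
          hcl⟩
  refine ⟨fun P φ hφ => ?_, le_antisymm (Cfsg.Agent.Fus.isNormal_core _).1
    (Cfsg.Agent.Fus.le_core hN)⟩
  have hPS := ((groupFusionSystem (S : Subgroup G)).le_of_mem hφ).1
  obtain ⟨g, hg, h1, h2⟩ := (Cfsg.Agent.Fus.isNormal_iff.1 hN).2 P _
    (Cfsg.Agent.Fus.isMap_toFun hφ)
  obtain ⟨-, k, hk⟩ := Cfsg.Agent.Fus.isMap_group.1 hg
  refine ⟨k, ?_, fun x => ?_⟩
  · refine Subgroup.mem_normalizer_iff.2 fun n => ⟨fun hn => ?_, fun hn => ?_⟩
    · exact (hk n (Subgroup.mem_sup_right hn)).2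
    · rw [← h2] at hn
      obtain ⟨y, hy, hye⟩ := (hg.res le_sup_right).mem_fimg_iff.1 hn
      rw [(hk y (Subgroup.mem_sup_right hy)).1] at hye
      rwa [← mul_left_cancel (mul_right_cancel hye)]
  · rw [← (hk x (Subgroup.mem_sup_left x.2)).1, h1 x x.2, Cfsg.Agent.Fus.toFun_coe]

end Cfsg.Agent.S5107
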