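import Cfsg.Statements.S5112
import Cfsg.Agent.Lib.Fus.DihedralAut
-- import your own Cfsg.Agent.* helpers here

set_option autoImplicit false
open Cfsg

namespace Cfsg.Agent.S5112

/-- If S is a dihedral or generalized quaternion 2-group of order at least 16, then in every saturated fusion system over S (at the prime 2) the automorphism group Aut_F(S) consists of the inner automorphisms of S. -/
theorem result {Ω : Type*} [Group Ω] {S : Subgroup Ω} [Finite S] (n : ℕ) (hn : 4 ≤ n) (hshape : Nonempty (S ≃* DihedralGroup (2 ^ (n - 1))) ∨ Nonempty (S ≃* QuaternionGroup (2 ^ (n - 2)))) (F : Cfsg.FusionSystem S) (hF : F.IsSaturated 2) : F.autGroup S = Cfsg.Inn S := by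
  have haut : IsPGroup 2 (MulAut S) := by
    rcases hshape with ⟨⟨e⟩⟩ | ⟨⟨e⟩⟩
    · exact Fus.isPGroup_mulAut_congr e (Fus.isPGroup_mulAut_dihedralGroup (by omega))
    · exact Fus.isPGroup_mulAut_congr e (Fus.isPGroup_mulAut_quaternionGroup (by omega))
  have hS : IsPGroup 2 S := by
    rcases hshape with ⟨⟨e⟩⟩ | ⟨⟨e⟩⟩
    · refine IsPGroup.of_card_dvd_pow (n := n) ?_
      rw [Nat.card_congr e.toEquiv, DihedralGroup.nat_card, ← pow_succ', show n - 1 + 1 = n by omega]
    · refine IsPGroup.of_card_dvd_pow (n := n) ?_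
      rw [Nat.card_congr e.toEquiv, Nat.card_eq_fintype_card, QuaternionGroup.card,
        show 4 = 2 ^ 2 from rfl, ← pow_add, show 2 + (n - 2) = n by omega]
  exact Fus.autGroup_self_eq_inn hF hS haut

end Cfsg.Agent.S5112
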