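import Cfsg.Statements.S5119
import Cfsg.Agent.Lib.Fus.InvariantIff
import Cfsg.Agent.Lib.Fus.Normal
-- import your own Cfsg.Agent.* helpers here

set_option autoImplicit false
open Cfsg

namespace Cfsg.Agent.S5119

/-- Let F be a saturated fusion system over a finite p-group S and E a subsystem of F over a subgroup T that is strongly closed in F. Then E is invariant in F (invariance under Aut_F(T) plus the Frattini condition) if and only if the strong invariance condition holds: for P ≤ Q ≤ T, every map φ of E from P into Q and every map ψ of F with source Q, the transported map ψ φ ψ⁻¹ on ψ(P) is a map of E. -/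
theorem result {Ω : Type*} [Group Ω] {S : Subgroup Ω} [Finite S] (p : ℕ) [Fact p.Prime] (hS : IsPGroup p S) (F : Cfsg.FusionSystem S) (hF : F.IsSaturated p) {T : Subgroup Ω} (E : Cfsg.FusionSystem T) (hE : E.IsSubsystemOf F) (hT : F.StronglyClosed T) : E.IsInvariantIn F ↔ ∀ (P Q : Subgroup Ω) (hPQ : P ≤ Q) (_ : Q ≤ T) (φ : P →* Ω) (_ : φ ∈ E.Hom P) (hφQ : ∀ x : P, φ x ∈ Q) (ψ : Q →* Ω) (_ : ψ ∈ F.Hom Q), ∃ χ ∈ E.Hom ((P.subgroupOf Q).map ψ), ∀ (x : P) (hx : ψ (Subgroup.inclusion hPQ x) ∈ (P.subgroupOf Q).map ψ), χ ⟨ψ (Subgroup.inclusion hPQ x), hx⟩ = ψ ⟨φ x, hφQ x⟩ := by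
  constructor
  · intro hinv P Q hPQ hQT φ hφ hφQ ψ hψ
    have hf := Fus.isMap_toFun hφ
    have hu := Fus.isMap_toFun hψ
    obtain ⟨α, hα, u₀, hu₀, he⟩ := Fus.frattini_of_isInvariantIn hinv hQT hu
    obtain ⟨g, hg, hg1, hg2, -⟩ := (hu₀.res hPQ).exists_inv
    have hmid : Fus.IsMap E (Fus.fimg u₀ P) (fun y => u₀ (Fus.toFun φ (g y))) :=
      (hg.comp hf fun y hy => (hg2 y hy).1).comp hu₀ fun y hy => by
        have := hφQ ⟨g y, (hg2 y hy).1⟩
        rwa [← Fus.toFun_coe φ] at this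
    obtain ⟨k, hk, hke⟩ := Fus.invariant_isMap hinv hmid hα
    have heq : (P.subgroupOf Q).map ψ = Fus.fimg (Fus.autFun α) (Fus.fimg u₀ P) := by
      rw [hu.map_subgroupOf hPQ fun x => (Fus.toFun_coe ψ x).symm, ← (hu₀.res hPQ).fimg_comp,
        Fus.fimg_congr fun x hx => he x (hPQ hx)]
    obtain ⟨χ, hχ, hχe⟩ := hk.exists_hom
    rw [heq]
    refine ⟨χ, hχ, fun x hx => ?_⟩
    rw [hχe, ← Fus.toFun_coe ψ ⟨φ x, hφQ x⟩, he _ (hφQ x)]
    show k (ψ (Subgroup.inclusion hPQ x)) = _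
    rw [← Fus.toFun_coe ψ (Subgroup.inclusion hPQ x)]
    show k (Fus.toFun ψ (x : Ω)) = _
    rw [he _ (hPQ x.2), hke _ (Fus.apply_mem_fimg u₀ x.2), hg1 _ x.2, Fus.toFun_coe]
  · intro h
    have hstrong : Fus.StrongInv F E := by
      intro P Q f u hPQ hQT hf hfQ hu
      obtain ⟨φ, hφ, e⟩ := hf.exists_hom
      obtain ⟨ψ, hψ, e'⟩ := hu.exists_hom
      obtain ⟨χ, hχ, hχe⟩ := h P Q hPQ hQT φ hφ (fun x => (e x).symm ▸ hfQ x x.2) ψ hψ
      have heq := hu.map_subgroupOf hPQ e'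
      refine ⟨Fus.toFun χ, heq ▸ Fus.isMap_toFun hχ, fun x hx => ?_⟩
      have hm : ψ (Subgroup.inclusion hPQ ⟨x, hx⟩) ∈ (P.subgroupOf Q).map ψ :=
        ⟨_, hx, rfl⟩
      have h1 := hχe ⟨x, hx⟩ hm
      rw [← Fus.toFun_apply χ hm, e', e'] at h1
      simp only [Subgroup.coe_inclusion] at h1
      rw [h1, e]
    refine ⟨hE, hT, fun P hPT φ hφ α hα => ?_, fun P hPT φ hφ => ?_⟩
    · have hαm := (Fus.mem_autGroup hT.1).1 hα
      obtain ⟨k, hk, hke⟩ := Fus.strongInv_aut hstrong hT.1 (Fus.isMap_toFun hφ) hα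
      obtain ⟨χ, hχ, hχe⟩ := hk.exists_hom
      rw [hαm.map_subgroupOf hPT fun x => (Fus.autFun_coe α x).symm]
      refine ⟨χ, hχ, fun x hφx hαx => ?_⟩
      rw [hχe, ← Fus.autFun_coe α ⟨x, hPT x.2⟩, hke _ x.2, Fus.toFun_coe]
      exact Fus.autFun_coe α ⟨_, hφx⟩
    · obtain ⟨α, hα, f₀, hf₀, he⟩ := Fus.dec_of_strongInv hS hF hstrong hT hPT (Fus.isMap_toFun hφ)
      obtain ⟨φ₀, hφ₀, e⟩ := hf₀.exists_hom
      refine ⟨α, hα, φ₀, hφ₀, fun x hx => ?_⟩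
      rw [← Fus.toFun_coe φ x, he _ x.2, ← e]
      exact Fus.autFun_coe α ⟨_, hx⟩

end Cfsg.Agent.S5119
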