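import Cfsg.Statements.S5123
import Cfsg.Agent.Lib.Fus.GroupLocal
-- import your own Cfsg.Agent.* helpers here

set_option autoImplicit false
open Cfsg

namespace Cfsg.Agent.S5123

/-- Let G be a finite group with Sylow p-subgroup S, P, Q ≤ S and g ∈ G with gPg⁻¹ = Q, and suppose N_S(Q) is a Sylow p-subgroup of N_G(Q). Let N be the set of x ∈ N_S(P) with gxg⁻¹ ∈ N_S(Q)C_G(Q). Then some h ∈ C_G(Q) satisfies (hg)N(hg)⁻¹ ≤ S. -/
theorem result {G : Type*} [Group G] [Finite G] (p : ℕ) [Fact p.Prime] (S : Sylow p G) (P Q : Subgroup G) (hP : P ≤ S) (hQ : Q ≤ S) (g : G) (hg : P.map (MulAut.conj g).toMonoidHom = Q) (hN : (∃ R : Sylow p ↥(Subgroup.normalizer (Q : Set G)), (R : Subgroup ↥(Subgroup.normalizer (Q : Set G))) = (Cfsg.FusionSystem.normalizerIn (S : Subgroup G) Q).subgroupOf (Subgroup.normalizer (Q : Set G)))) : ∃ h ∈ Subgroup.centralizer (Q : Set G), ((Cfsg.FusionSystem.normalizerIn (S : Subgroup G) P)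 ⊓ (Cfsg.FusionSystem.normalizerIn (S : Subgroup G) Q ⊔ Subgroup.centralizer (Q : Set G)).comap (MulAut.conj g).toMonoidHom).map (MulAut.conj (h * g)).toMonoidHom ≤ S := by
  have hFN := (Fus.isFullyNormalized_group_iff S hQ).2 ⟨inf_le_right, hN⟩
  rw [Fus.groupFusionSystem_eq] at hFN
  have hrec := Fus.receptive_ofSubgroup (Fus.isSylowOf_top S) hFN
  have hgQ : ∀ x ∈ P, g * x * g⁻¹ ∈ Q := fun x hx => hg ▸ ⟨x, hx, rfl⟩
  have hf : Fus.IsMap (Cfsg.fusionSystemOfSubgroup ⊤ (S : Subgroup G) le_top) P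
      (fun x => g * x * g⁻¹) :=
    Fus.isMap_ofSubgroup.2 ⟨hP, g, Subgroup.mem_top g, fun x hx => ⟨rfl, hQ (hgQ x hx)⟩⟩
  have hfQ : Fus.fimg (fun x => g * x * g⁻¹) P = Q := (Fus.fimg_conj_eq_map g).trans hg
  obtain ⟨f, hf1, hf2⟩ := Fus.receptive_extend hrec hf hfQ
    (N := Cfsg.FusionSystem.normalizerIn (S : Subgroup G) P ⊓
      (Cfsg.FusionSystem.normalizerIn (S : Subgroup G) Q ⊔
        Subgroup.centralizer (Q : Set G)).comap (MulAut.conj g).toMonoidHom) (by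
      rintro n ⟨hn, hn2⟩
      refine ⟨hn, ?_⟩
      have hle : Cfsg.FusionSystem.normalizerIn (S : Subgroup G) Q ≤
          Subgroup.normalizer ((Subgroup.centralizer (Q : Set G) : Subgroup G) : Set G) := by
        intro a ha
        exact Fus.mem_normalizer_centralizer ha.2
      have h3 : g * n * g⁻¹ ∈ ((Cfsg.FusionSystem.normalizerIn (S : Subgroup G) Q ⊔
        Subgroup.centralizer (Q : Set G) : Subgroup G) : Set G) := hn2
      rw [Subgroup.coe_mul_of_left_le_normalizer_right _ _ hle] at h3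
      obtain ⟨a, ha, c, hc, hac⟩ := h3
      refine ⟨a, ha.1, fun x hx => ?_⟩
      have h4 := Subgroup.mem_centralizer_iff.1 hc _ (hgQ x hx)
      simp only at hac
      calc g * (n * x * n⁻¹) * g⁻¹ = (g * n * g⁻¹) * (g * x * g⁻¹) * (g * n * g⁻¹)⁻¹ := by group
        _ = a * (c * (g * x * g⁻¹) * c⁻¹) * a⁻¹ := by rw [← hac]; group
        _ = a * (g * x * g⁻¹) * a⁻¹ := by rw [← h4, mul_inv_cancel_right])
    (fun x hx => ⟨Fus.le_normalizerIn hP hx,
      Subgroup.mem_sup_left (Fus.le_normalizerIn hQ (hgQ x hx))⟩)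
  obtain ⟨-, k, -, hk⟩ := Fus.isMap_ofSubgroup.1 hf1
  have hPN : P ≤ Cfsg.FusionSystem.normalizerIn (S : Subgroup G) P ⊓
      (Cfsg.FusionSystem.normalizerIn (S : Subgroup G) Q ⊔
        Subgroup.centralizer (Q : Set G)).comap (MulAut.conj g).toMonoidHom := fun x hx =>
    ⟨Fus.le_normalizerIn hP hx, Subgroup.mem_sup_left (Fus.le_normalizerIn hQ (hgQ x hx))⟩
  refine ⟨k * g⁻¹, ?_, ?_⟩
  · refine Subgroup.mem_centralizer_iff.2 fun y hy => ?_
    have hy1 : y ∈ P.map (MulAut.conj g).toMonoidHom := hg.symm ▸ hy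
    obtain ⟨x, hx, hxy⟩ := hy1
    have hxy : g * x * g⁻¹ = y := hxy
    have h1 : k * x * k⁻¹ = g * x * g⁻¹ := (hk x (hPN hx)).1.symm.trans (hf2 x hx)
    rw [← hxy]
    calc g * x * g⁻¹ * (k * g⁻¹) = k * x * k⁻¹ * (k * g⁻¹) := by rw [h1]
      _ = k * g⁻¹ * (g * x * g⁻¹) := by group
  · rintro _ ⟨x, hx, rfl⟩
    show k * g⁻¹ * g * x * (k * g⁻¹ * g)⁻¹ ∈ (S : Subgroup G)
    rw [inv_mul_cancel_right]
    exact (hk x hx).2

end Cfsg.Agent.S5123
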