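import Cfsg.Statements.S5124
import Cfsg.Agent.Lib.Fus.NormalCrit
import Cfsg.Agent.Lib.Invol.PResidual
-- import your own Cfsg.Agent.* helpers here

set_option autoImplicit false
open Cfsg

namespace Cfsg.Agent.S5124

/-- In a saturated fusion system over a finite p-group S the hyperfocal subgroup is strongly closed in the system. -/
theorem result {Ω : Type*} [Group Ω] {S : Subgroup Ω} [Finite S] (p : ℕ) [Fact p.Prime] (hS : IsPGroup p S) (F : Cfsg.FusionSystem S) (hF : F.IsSaturated p) : F.StronglyClosed (F.hyperfocalSubgroup p) := by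
  classical
  have hHS : F.hyperfocalSubgroup p ≤ S := by
    refine (Subgroup.closure_le _).2 ?_
    rintro _ ⟨P, α, x, hPS, -, rfl⟩
    exact S.mul_mem (S.inv_mem (hPS x.2)) (hPS (SetLike.coe_mem _))
  have hconj : ∀ s ∈ S, ∀ y ∈ F.hyperfocalSubgroup p, s * y * s⁻¹ ∈ F.hyperfocalSubgroup p := by
    intro s hs y hy
    refine (show F.hyperfocalSubgroup p ≤
      (F.hyperfocalSubgroup p).comap (MulAut.conj s).toMonoidHom from ?_) hy
    refine (Subgroup.closure_le _).2 ?_
    rintro _ ⟨P, α, x, hPS, hα, rfl⟩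
    show s * ((x : Ω)⁻¹ * ((α : MulAut P) x : P)) * s⁻¹ ∈ F.hyperfocalSubgroup p
    revert x
    induction hα using Subgroup.closure_induction with
    | one =>
      intro x
      simp
    | mul a b _ _ iha ihb =>
      intro x
      have := mul_mem (ihb x) (iha ((b : MulAut P) x))
      rw [Subgroup.coe_mul, MulAut.mul_apply]
      convert this using 1
      group
    | inv a _ iha =>
      intro x
      have := inv_mem (iha ((a : MulAut P)⁻¹ x))
      rw [MulAut.apply_inv_self] at this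
      rw [Subgroup.coe_inv]
      convert this using 1
      group
    | mem a ha =>
      intro x
      let e := P.equivMapOfInjective (MulAut.conj s).toMonoidHom (MulAut.conj s).injective
      have hle : P.map (MulAut.conj s).toMonoidHom ≤ S := by
        rintro _ ⟨z, hz, rfl⟩
        exact S.mul_mem (S.mul_mem hs (hPS hz)) (S.inv_mem hs)
      have he : ∀ z, ((e z : ↥(P.map (MulAut.conj s).toMonoidHom)) : Ω) = s * z * s⁻¹ :=
        fun z => rfl
      let a' := MulAut.congr e (a : MulAut P)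
      have ha' : a' ∈ F.autGroup (P.map (MulAut.conj s).toMonoidHom) := by
        rw [Cfsg.Agent.Fus.mem_autGroup hle]
        refine (((Cfsg.Agent.Fus.isMap_conj F hle (S.inv_mem hs)).comp
          ((Cfsg.Agent.Fus.mem_autGroup hPS).1 a.2) ?_).comp
            (Cfsg.Agent.Fus.isMap_conj F hPS hs) ?_).congr ?_
        · rintro _ ⟨z, hz, rfl⟩
          simpa [mul_assoc] using hz
        · rintro _ ⟨z, hz, rfl⟩
          exact Cfsg.Agent.Fus.autFun_mem _ (by simpa [mul_assoc] using hz)
        · intro w hw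
          obtain ⟨z, hzw⟩ := e.surjective ⟨w, hw⟩
          have hwz : w = s * (z : Ω) * s⁻¹ := (congrArg Subtype.val hzw).symm
          rw [show Cfsg.Agent.Fus.autFun a' w = (a' ⟨w, hw⟩ : Ω) from
            Cfsg.Agent.Fus.autFun_coe a' ⟨w, hw⟩, ← hzw]
          show s * Cfsg.Agent.Fus.autFun (a : MulAut P) (s⁻¹ * w * s⁻¹⁻¹) * s⁻¹ =
            ((e ((a : MulAut P) (e.symm (e z))) : _) : Ω)
          rw [e.symm_apply_apply, he, hwz,
            show s⁻¹ * (s * (z : Ω) * s⁻¹) * s⁻¹⁻¹ = z by group, Cfsg.Agent.Fus.autFun_coe]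
      refine Subgroup.subset_closure ⟨_, ⟨a', ha'⟩, e x, hle, Subgroup.subset_closure ?_, ?_⟩
      · show (orderOf (⟨a', ha'⟩ : F.autGroup (P.map (MulAut.conj s).toMonoidHom))).Coprime p
        rw [← Subgroup.orderOf_coe,
          show orderOf a' = orderOf (a : MulAut P) from MulEquiv.orderOf_eq (MulAut.congr e) _,
          Subgroup.orderOf_coe]
        exact ha
      · show _ = ((e x : _) : Ω)⁻¹ * ((e ((a : MulAut P) (e.symm (e x))) : _) : Ω)
        rw [e.symm_apply_apply, he, he]
        group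
  refine Cfsg.Agent.Fus.stronglyClosed_of_forall hHS fun R hR f hf x hx => ?_
  refine Cfsg.Agent.Fus.alperin hS hF
    (fun P f => ∀ x ∈ P, x ∈ F.hyperfocalSubgroup p → f x ∈ F.hyperfocalSubgroup p)
    (fun P f g h e x hx hH => e x hx ▸ h x hx hH)
    (fun P Q f g _ _ hfQ h1 h2 x hx hH => h2 _ (hfQ x hx) (h1 x hx hH))
    (fun P Q f _ hPQ h x hx hH => h x (hPQ hx) hH) ?_ ?_ hf x hx (hR hx)
  all_goals
    have key : ∀ P, F.IsFullyNormalized P → ∀ α ∈ F.autGroup P, ∀ x ∈ P,
        x ∈ F.hyperfocalSubgroup p →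
        Cfsg.Agent.Fus.autFun α x ∈ F.hyperfocalSubgroup p := by
      intro P hP α hα x hx hxH
      haveI := Cfsg.Agent.Fus.finite_of_le hP.1
      obtain ⟨-, T, hT⟩ := Cfsg.Agent.Fus.fullyAutomized_of_fullyNormalized hS hF hP
      have hmem : (⟨α, hα⟩ : F.autGroup P) ∈
          pResidual p (F.autGroup P) ⊔ (T : Subgroup (F.autGroup P)) := by
        rw [Cfsg.Agent.Invol.pResidual_sup_sylow]; trivial
      obtain ⟨r, hr, t, ht, hrt⟩ := Subgroup.mem_sup_of_normal_left.1 hmem
      rw [hT] at ht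
      obtain ⟨g, hg, hgt⟩ := Cfsg.Agent.Fus.mem_autInducedBy.1 ht
      have h1 : (((t : MulAut P) ⟨x, hx⟩ : P) : Ω) ∈ F.hyperfocalSubgroup p := by
        exact (hgt ⟨x, hx⟩).symm ▸ hconj g hg x hxH
      have h2 := mul_mem h1 (Subgroup.subset_closure ⟨P, r, (t : MulAut P) ⟨x, hx⟩, hP.1, hr, rfl⟩ :
        _ ∈ F.hyperfocalSubgroup p)
      rw [mul_inv_cancel_left] at h2
      rw [show Cfsg.Agent.Fus.autFun α x = ((α ⟨x, hx⟩ : P) : Ω) from
        Cfsg.Agent.Fus.autFun_coe α ⟨x, hx⟩, show α = (r : MulAut P) * t from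
        (congrArg Subtype.val hrt).symm]
      exact h2
  · exact key S ⟨le_rfl, fun Q hQ => by
      obtain rfl : Q = S := Subgroup.eq_of_le_of_card_ge
        (Cfsg.Agent.Fus.isConj_le_right hQ) (Cfsg.Agent.Fus.isConj_card hQ).ge
      exact le_rfl⟩
  · exact fun P hP => key P hP.2.1

end Cfsg.Agent.S5124
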