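import Cfsg.Statements.S5125
import Cfsg.Agent.Lib.Fus.NormalCrit
-- import your own Cfsg.Agent.* helpers here

set_option autoImplicit false
open Cfsg

namespace Cfsg.Agent.S5125

/-- Let F be a saturated fusion system over a finite p-group S and Q a subgroup strongly closed in F. If Q has a subgroup Q₁ that is normal in F, with Q/Q₁ abelian and Aut_F(Q₁) a p-group, then Q is normal in F. -/
theorem result {Ω : Type*} [Group Ω] {S : Subgroup Ω} [Finite S] (p : ℕ) [Fact p.Prime] (hS : IsPGroup p S) (F : Cfsg.FusionSystem S) (hF : F.IsSaturated p) (Q Q₁ : Subgroup Ω) (hQ : F.StronglyClosed Q) (hQ₁Q : Q₁ ≤ Q) (hQ₁ : F.IsNormal Q₁) (hab : ⁅Q, Q⁆ ≤ Q₁) (hAut : IsPGroup p ↥(F.autGroup Q₁)) : F.IsNormal Q := by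
  classical
  refine Cfsg.Agent.Fus.isNormal_of_stronglyClosed hS hF hQ fun P hPc hPr => ?_
  have hPS := hPc.1
  have hQ₁P := Cfsg.Agent.Fus.le_of_isNormal hS hQ₁ hPc hPr
  have hQ₁c := Cfsg.Agent.Fus.stronglyClosed_of_isNormal hQ₁
  haveI := Cfsg.Agent.Fus.finite_of_le hQ₁.1
  refine Cfsg.Agent.Fus.le_of_chain_stab hS hPc hPr hQ.1
    (fun s hs q hq => Cfsg.Agent.Fus.StronglyClosed.conj_mem' hQ hs hq) 1
    (fun i => if i = 0 then Q₁ else Q) ?_ ?_ ?_ ?_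
  · intro β hβ i _ x hx
    split_ifs at hx ⊢
    exacts [Cfsg.Agent.Fus.StronglyClosed.aut_apply_mem hQ₁c hPS hβ hx,
      Cfsg.Agent.Fus.StronglyClosed.aut_apply_mem hQ hPS hβ hx]
  · intro β hβ m hm hβm x hx
    rw [if_pos rfl] at hx
    have hr := ((Cfsg.Agent.Fus.mem_autGroup hPS).1 hβ).res hQ₁P
    obtain ⟨γ, hγ, e⟩ := hr.exists_aut (Subgroup.eq_of_le_of_card_ge
      (Cfsg.Agent.Fus.fimg_le fun y hy => Cfsg.Agent.Fus.StronglyClosed.apply_mem hQ₁c hr le_rfl hy)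
      hr.card_fimg.ge)
    have e' : ∀ k : ℕ, ∀ y (hy : y ∈ Q₁),
        Cfsg.Agent.Fus.autFun (γ ^ k) y = Cfsg.Agent.Fus.autFun (β ^ k) y := by
      intro k
      induction k with
      | zero =>
        intro y hy
        rw [pow_zero, pow_zero, Cfsg.Agent.Fus.autFun_one hy, Cfsg.Agent.Fus.autFun_one (hQ₁P hy)]
      | succ k ih =>
        intro y hy
        rw [pow_succ, pow_succ, Cfsg.Agent.Fus.autFun_mul _ _ hy,
          Cfsg.Agent.Fus.autFun_mul _ _ (hQ₁P hy), ← e y hy,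
          ih _ (Cfsg.Agent.Fus.autFun_mem γ hy)]
    have hγm : γ ^ m = 1 := Cfsg.Agent.Fus.mulAut_ext fun y hy => by
      rw [e' m y hy, hβm, Cfsg.Agent.Fus.autFun_one hy, Cfsg.Agent.Fus.autFun_one (hQ₁P hy)]
    obtain ⟨k, hk⟩ := hAut ⟨γ, hγ⟩
    have hγ1 : γ = 1 := orderOf_eq_one_iff.1 (Nat.eq_one_of_dvd_coprimes
      (Nat.Coprime.pow_right k hm).symm (orderOf_dvd_of_pow_eq_one (congrArg Subtype.val hk))
      (orderOf_dvd_of_pow_eq_one hγm))
    refine Subtype.ext ?_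
    rw [← Cfsg.Agent.Fus.autFun_coe β x, ← e x hx, hγ1, Cfsg.Agent.Fus.autFun_one hx]
  · intro q hq _ x hx
    rw [if_neg one_ne_zero, show x⁻¹ * (q * x * q⁻¹) = x⁻¹ * q * x * q⁻¹ by group]
    have hc := Cfsg.Agent.Fus.StronglyClosed.conj_mem' hQ (S.inv_mem (hPS hx)) hq
    rw [inv_inv] at hc
    exact Q.mul_mem hc (Q.inv_mem hq)
  · intro i hi q hq _ x hx hxA
    obtain rfl : i = 0 := by omega
    rw [Nat.zero_add, if_neg one_ne_zero] at hxA
    rw [if_pos rfl]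
    refine hab ?_
    rw [show x⁻¹ * (q * x * q⁻¹) = x⁻¹ * q * x⁻¹⁻¹ * q⁻¹ by group, ← commutatorElement_def]
    exact Subgroup.commutator_mem_commutator (Q.inv_mem hxA) hq

end Cfsg.Agent.S5125
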