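import Cfsg.Statements.S5126
import Cfsg.Agent.Lib.Fus.ModelBasic
-- import your own Cfsg.Agent.* helpers here

set_option autoImplicit false
open Cfsg

namespace Cfsg.Agent.S5126

/-- In a saturated fusion system over a finite p-group S, the normalizer system of a fully normalized, centric, radical subgroup R is constrained, and in every model of that normalizer system the largest normal p-subgroup is the image of R. -/
theorem result {Ω : Type*} [Group Ω] {S : Subgroup Ω} [Finite S] (p : ℕ) [Fact p.Prime] (hS : IsPGroup p S) (F : Cfsg.FusionSystem S) (hF : F.IsSaturated p) (R : Subgroup Ω) (hRn : F.IsFullyNormalized R) (hRc : F.IsCentric R) (hRr : F.IsRadical p R) (E : Cfsg.FusionSystem (Cfsg.FusionSystem.normalizerIn S R)) (hE : F.IsNormalizerSystem R E) {G : Type*} [Group G] (ι : ↥(Cfsg.FusionSystem.normalizerIn S R) →* G) : E.IsConstrained p ∧ (E.IsModel p G ι → (Cfsg.pCore p G : Subgroup G) = (R.subgroupOf (Cfsg.FusionSystem.normalizerIn S R)).map ι) := by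
  have hRS := hRn.1
  have hRN := Fus.le_normalizerIn hRS
  haveI : Finite ↥(FusionSystem.normalizerIn S R) := Fus.finite_of_le (S := S) inf_le_left
  have hN : IsPGroup p ↥(FusionSystem.normalizerIn S R) := hS.to_le inf_le_left
  have hR := Fus.isNormal_of_isNormalizerSystem hRS hE
  have hsat : E.IsSaturated p := by
    rw [Fus.isNormalizerSystem_unique hE (Fus.isNormalizerSystem_normalizerSystem F hRS)]
    exact Fus.isSaturated_normalizerSystem hS hF hRn
  have hc : FusionSystem.centralizerIn (FusionSystem.normalizerIn S R) R ≤ R := fun x hx =>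
    hRc.2 R (Fus.isConj_refl F hRS) ⟨hx.1.1, hx.2⟩
  refine ⟨⟨hsat, R, hR, Fus.isCentric_of_normal hR hc⟩, fun hG => ?_⟩
  obtain ⟨hfin, h, ⟨T, hT⟩, -⟩ := id hG
  have he : Fus.modelCore p ι = R := le_antisymm
    (Fus.le_of_radical hS hRS hRr hRc hE hR (Fus.isNormal_modelCore h hT))
    (Fus.le_modelCore hN hG hR)
  rw [← Fus.map_modelCore hT, he]

end Cfsg.Agent.S5126
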