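import Cfsg.Statements.S5133
import Cfsg.Agent.Lib.Fus.FactorSat
-- import your own Cfsg.Agent.* helpers here

set_option autoImplicit false
open Cfsg

namespace Cfsg.Agent.S5133

/-- Let F be a saturated fusion system over a finite p-group S, F' a fusion system over S', and α : S → S' a surjective morphism of fusion systems from F to F' (α maps S onto S' and every map of F' with source P' ≤ S' is induced along α by a map of F on the full preimage of P'). Then F' is saturated. -/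
theorem result {Ω : Type*} [Group Ω] {S : Subgroup Ω} [Finite S] (p : ℕ) [Fact p.Prime] (hS : IsPGroup p S) (F : Cfsg.FusionSystem S) (hF : F.IsSaturated p) {Ω' : Type*} [Group Ω'] {S' : Subgroup Ω'} (F' : Cfsg.FusionSystem S') (α : S →* Ω') (hα : F.IsSurjectiveMorphism F' α) : F'.IsSaturated p := by
  obtain ⟨hmor, hrange, hlift⟩ := hα
  have hT : F.StronglyClosed ((α.ker).map S.subtype) := by
    refine ⟨Subgroup.map_subtype_le _, fun R hR φ hφ x => ?_⟩
    have hRS := (F.le_of_mem hφ).1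
    have hφS := (F.le_of_mem hφ).2
    obtain ⟨φ', -, hP, hφS', hP', h⟩ := hmor.2 R φ hφ
    obtain ⟨y, hy, hyx⟩ := hR x.2
    have h1 : α ⟨(x : Ω), hP x.2⟩ = 1 := by
      rw [show (⟨(x : Ω), hP x.2⟩ : S) = y from Subtype.ext hyx.symm]
      exact hy
    refine ⟨⟨φ x, hφS x⟩, ?_, rfl⟩
    show α _ = 1
    rw [← h x, show (⟨_, hP' x⟩ : FusionSystem.imageAlong α R) = 1 from Subtype.ext h1, map_one]
  refine Fus.isSaturated_factor hS hF hT (θ := α) ⟨Subgroup.map_subtype_le _, fun s => ?_, hrange, ?_⟩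
  · exact ⟨fun h => ⟨s, h, rfl⟩, fun ⟨y, hy, e⟩ => Subtype.ext e ▸ hy⟩
  · intro P' φ'
    constructor
    · intro h
      exact ⟨(F'.le_of_mem h).1, hlift P' (F'.le_of_mem h).1 φ' h⟩
    · rintro ⟨hP', φ, hφ, hPS, hφS, hmem, h⟩
      obtain ⟨φ'', hφ'', hP₂, hφS₂, hmem₂, h₂⟩ := hmor.2 _ φ hφ
      have himg : FusionSystem.imageAlong α (FusionSystem.preimageAlong α P') = P' :=
        Fus.imageAlong_preimageAlong (hrange.symm ▸ hP')
      have key : ∀ (Q' : Subgroup Ω') (χ : Q' →* Ω'), χ ∈ F'.Hom Q' → Q' = P' →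
          (∀ x : FusionSystem.preimageAlong α P', ∀ hx : α ⟨x, hPS x.2⟩ ∈ Q',
            χ ⟨_, hx⟩ = α ⟨φ x, hφS x⟩) → φ' ∈ F'.Hom P' := by
        rintro Q' χ hχ rfl hχe
        convert hχ using 1
        ext ⟨y, hy⟩
        obtain ⟨x, rfl⟩ := (hrange.symm ▸ hP' : Q' ≤ α.range) hy
        exact (h ⟨x, x, hy, rfl⟩).trans (hχe ⟨x, x, hy, rfl⟩ hy).symm
      exact key _ φ'' hφ'' himg fun x hx => h₂ x

end Cfsg.Agent.S5133
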