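import Cfsg.Statements.S5135
import Cfsg.Agent.Lib.Fus.GroupSystem
-- import your own Cfsg.Agent.* helpers here

set_option autoImplicit false
open Cfsg

namespace Cfsg.Agent.S5135

open Cfsg.FusionSystem

/-- Let G be a finite group, S a Sylow p-subgroup and H a normal subgroup of G. Then the fusion system of G/H on the image SH/H of S is the factor system of the fusion system of G on S modulo S ∩ H, read through the quotient map restricted to S: for each subgroup P' of SH/H, the conjugation maps by elements of G/H defined on P' with values in SH/H are exactly the homomorphisms induced by the conjugation maps by elements of G defined on the full preimage of P' in S with values in S. -/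
theorem result {G : Type*} [Group G] [Finite G] (p : ℕ) [Fact p.Prime] (S : Sylow p G) (H : Subgroup G) [H.Normal] : (Cfsg.groupFusionSystem (S : Subgroup G)).IsFactorSystem ((S : Subgroup G) ⊓ H) ((QuotientGroup.mk' H).comp (S : Subgroup G).subtype) (Cfsg.groupFusionSystem ((S : Subgroup G).map (QuotientGroup.mk' H))) := by
  classical
  set θ := (QuotientGroup.mk' H).comp (S : Subgroup G).subtype with hθ
  refine ⟨inf_le_left, fun s => ?_, ?_, ?_⟩
  · show QuotientGroup.mk' H (s : G) = 1 ↔ _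
    rw [QuotientGroup.mk'_apply, QuotientGroup.eq_one_iff]
    exact ⟨fun h => ⟨s.2, h⟩, fun h => h.2⟩
  · rw [hθ, MonoidHom.range_comp, Subgroup.range_subtype]
  intro P' φ'
  have hmem : ∀ x : preimageAlong θ P', ∃ hx : (x : G) ∈ (S : Subgroup G),
      QuotientGroup.mk' H (x : G) ∈ P' := fun x => by
    obtain ⟨_, s, hs, rfl⟩ := x
    exact ⟨s.2, hs⟩
  have hpre : preimageAlong θ P' ≤ (S : Subgroup G) := Subgroup.map_subtype_le _
  constructor
  · rintro ⟨hP', hval, γ, hγ⟩
    obtain ⟨g₀, rfl⟩ := QuotientGroup.mk'_surjective H γ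
    refine ⟨hP', ?_⟩
    have hle : (preimageAlong θ P').map (MulAut.conj g₀).toMonoidHom ≤
        (S : Subgroup G) ⊔ H := by
      rintro _ ⟨x, hx, rfl⟩
      obtain ⟨hxS, hxP⟩ := hmem ⟨x, hx⟩
      obtain ⟨s, hs, hsx⟩ := hval ⟨_, hxP⟩
      rw [hγ ⟨_, hxP⟩, ← map_inv, ← map_mul, ← map_mul] at hsx
      have h1 : s⁻¹ * (g₀ * x * g₀⁻¹) ∈ H := (QuotientGroup.eq).1 hsx
      show g₀ * x * g₀⁻¹ ∈ _
      rw [← mul_inv_cancel_left s (g₀ * x * g₀⁻¹)]
      exact mul_mem (Subgroup.mem_sup_left hs) (Subgroup.mem_sup_right h1)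
    have hsyl : Cfsg.Agent.Fus.IsSylowOf p (S : Subgroup G) ((S : Subgroup G) ⊔ H) :=
      Cfsg.Agent.Fus.IsSylowOf.of_card_le le_sup_left S.2 fun A _ hAp hle =>
        (Subgroup.eq_of_le_of_card_ge hle
          ((Cfsg.Agent.Fus.isSylowOf_top S).card_le hAp le_top)).ge
    obtain ⟨k, hk, hkS⟩ := hsyl.exists_conj_le ((S.2.to_le hpre).map _) hle
    rw [← SetLike.mem_coe, Subgroup.mul_normal] at hk
    obtain ⟨s, hs, m, hm, rfl⟩ := hk
    have hg : ∀ x : preimageAlong θ P', m * g₀ * x * (m * g₀)⁻¹ ∈ (S : Subgroup G) := by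
      intro x
      have h1 := hkS ⟨_, ⟨x, x.2, rfl⟩, rfl⟩
      have h2 := mul_mem (mul_mem (inv_mem hs) h1) hs
      convert h2 using 1
      simp [mul_assoc]
    refine ⟨conjHom _ (m * g₀), ⟨hpre, hg, m * g₀, fun x => rfl⟩, hpre, hg,
      fun x => (hmem x).2, fun x => ?_⟩
    rw [hγ]
    show _ = QuotientGroup.mk' H (m * g₀ * x * (m * g₀)⁻¹)
    have hm1 : QuotientGroup.mk' H m = 1 := (QuotientGroup.eq_one_iff m).2 hm
    rw [map_mul, map_mul, map_inv, map_mul, hm1, one_mul]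
    rfl
  · rintro ⟨hP', φ, ⟨-, hφS, g, hg⟩, hP, hφS', hmem', h⟩
    have key : ∀ y : P', ∃ x : preimageAlong θ P', (y : G ⧸ H) = QuotientGroup.mk' H (x : G) := by
      rintro ⟨y, hy⟩
      obtain ⟨s, hs, rfl⟩ := hP' hy
      exact ⟨⟨s, ⟨⟨s, hs⟩, hy, rfl⟩⟩, rfl⟩
    refine ⟨hP', fun y => ?_, QuotientGroup.mk' H g, fun y => ?_⟩
    · obtain ⟨x, hx⟩ := key y
      have h1 := h x
      rw [show (⟨θ ⟨x, hP x.2⟩, hmem' x⟩ : P') = y from Subtype.ext hx.symm] at h1
      rw [h1]
      exact ⟨φ x, hφS x, rfl⟩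
    · obtain ⟨x, hx⟩ := key y
      have h1 := h x
      rw [show (⟨θ ⟨x, hP x.2⟩, hmem' x⟩ : P') = y from Subtype.ext hx.symm] at h1
      rw [h1, hx]
      show QuotientGroup.mk' H (φ x) = _
      rw [hg x, map_mul, map_mul, map_inv]

end Cfsg.Agent.S5135
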