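import Cfsg.Statements.S5138
import Cfsg.Agent.Lib.Fus.CommGeneral
-- import your own Cfsg.Agent.* helpers here

set_option autoImplicit false
open Cfsg

namespace Cfsg.Agent.S5138

/-- Let F be a saturated fusion system over a finite p-group S and E₁, E₂ normal subsystems over T₁, T₂ with [T₁, T₂] = 1. Then there is a normal subsystem of F over T₁T₂ which, if moreover T₁ ∩ T₂ lies in the centre of E₁ and in the centre of E₂, is a central product of E₁ and E₂ (the factor system of a direct product of E₁ and E₂ modulo a subgroup of its centre meeting both factors trivially). -/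
theorem result {Ω : Type*} [Group Ω] {S : Subgroup Ω} [Finite S] (p : ℕ) [Fact p.Prime] (hS : IsPGroup p S) (F : Cfsg.FusionSystem S) (hF : F.IsSaturated p) {T₁ T₂ : Subgroup Ω} (E₁ : Cfsg.FusionSystem T₁) (E₂ : Cfsg.FusionSystem T₂) (hE₁ : E₁.IsNormalIn F p) (hE₂ : E₂.IsNormalIn F p) (hc : ⁅T₁, T₂⁆ = ⊥) : ∃ D : Cfsg.FusionSystem (T₁ ⊔ T₂), D.IsNormalIn F p ∧ (T₁ ⊓ T₂ ≤ E₁.center → T₁ ⊓ T₂ ≤ E₂.center → Cfsg.FusionSystem.IsCentralProductOf E₁ E₂ D) := by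
  have hcomm : ∀ a ∈ T₁, ∀ b ∈ T₂, a * b = b * a := fun a ha b hb => by
    have h := Subgroup.commutator_mem_commutator ha hb
    rw [hc, Subgroup.mem_bot, commutatorElement_eq_one_iff_mul_comm] at h
    exact h
  by_cases h : T₁ ⊓ T₂ ≤ E₁.center ∧ T₁ ⊓ T₂ ≤ E₂.center
  · have d : Cfsg.Agent.Fus.Comm.Factors F p E₁ E₂ := ⟨hS, hF, hE₁, hE₂, hcomm, h.1, h.2⟩
    obtain ⟨D, hD⟩ := d.exists_product
    exact ⟨D, d.normal hD, fun _ _ => hD⟩
  · have d : Cfsg.Agent.Fus.Comm.Pair F p T₁ T₂ :=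
      ⟨hS, hF, hE₁.1.2.2.2.1, hE₂.1.2.2.2.1, hcomm⟩
    obtain ⟨E₁', h₁, z₁⟩ := Cfsg.Agent.Fus.Comm.exists_central_sub d hE₁
    obtain ⟨E₂', h₂, z₂⟩ := Cfsg.Agent.Fus.Comm.exists_central_sub d.symm hE₂
    have d' : Cfsg.Agent.Fus.Comm.Factors F p E₁' E₂' :=
      ⟨hS, hF, h₁, h₂, hcomm, z₁, inf_comm T₂ T₁ ▸ z₂⟩
    obtain ⟨D, hD⟩ := d'.exists_product
    exact ⟨D, d'.normal hD, fun a b => absurd ⟨a, b⟩ h⟩

end Cfsg.Agent.S5138
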