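import Cfsg.Statements.S5153
import Cfsg.Agent.Lib.Fus.Saturation
import Cfsg.Agent.Lib.Fus.Normal
-- import your own Cfsg.Agent.* helpers here

set_option autoImplicit false
open Cfsg

namespace Cfsg.Agent.S5153

/-- Let F be a saturated fusion system over a finite p-group S and E a subnormal subsystem of F over T. Then every subgroup of T that is fully normalized in F is fully normalized in E. -/
theorem result {Ω : Type*} [Group Ω] {S : Subgroup Ω} [Finite S] (p : ℕ) [Fact p.Prime] (hS : IsPGroup p S) (F : Cfsg.FusionSystem S) (hF : F.IsSaturated p) {T : Subgroup Ω} (E : Cfsg.FusionSystem T) (hE : E.IsSubnormalIn F p) (P : Subgroup Ω) (hPT : P ≤ T) (hP : F.IsFullyNormalized P) : E.IsFullyNormalized P := by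
  have key : ∀ {T U : Subgroup Ω} {E : Cfsg.FusionSystem T} {D : Cfsg.FusionSystem U} {q : ℕ},
      E.IsSubnormalIn D q → q = p → Finite U → IsPGroup p U → D.IsSaturated p → T ≤ U ∧
        ∀ P : Subgroup Ω, P ≤ T → D.IsFullyNormalized P → E.IsFullyNormalized P := by
    intro T U E D q h
    induction h with
    | refl => exact fun _ _ _ _ => ⟨le_rfl, fun P _ hP => hP⟩
    | step h hn ih =>
      rename_i V U' E D F' q'
      intro hq hfin hU hsat
      subst hq
      obtain ⟨⟨hD, -, hsub, hVU, -⟩, -⟩ := hn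
      have hVle : V ≤ U' := hVU.1
      haveI := hfin
      obtain ⟨hTV, hrest⟩ := ih rfl (Fus.finite_of_le hVle) (hU.to_le hVle) hD
      refine ⟨hTV.trans hVle, fun P hPT hP => hrest P hPT ?_⟩
      have hPV := hPT.trans hTV
      refine ⟨hPV, fun Q hQ => ?_⟩
      have hc : F'.IsConj P Q := let ⟨φ, hφ, e⟩ := hQ; ⟨φ, hsub P hφ, e⟩
      have hQV : Q ≤ V := Fus.isConj_le_right hQ
      obtain ⟨f, hf, -, hfN⟩ := Fus.exists_map_to_fullyNormalized hU hsat hP (Fus.isConj_symm hc)
      have hle : Cfsg.FusionSystem.normalizerIn V Q ≤ Cfsg.FusionSystem.normalizerIn U' Q :=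
        inf_le_inf_right _ hVle
      have hf' := hf.res hle
      rw [← hf'.card_fimg]
      haveI := Fus.finite_of_le (S := U') hVle
      haveI : Finite ↥(Cfsg.FusionSystem.normalizerIn V P) :=
        Fus.finite_of_le (S := V) inf_le_left
      refine Subgroup.card_le_of_le (Fus.fimg_le fun c hc => ⟨?_, (hfN c (hle hc)).2⟩)
      exact Fus.StronglyClosed.apply_mem hVU hf' inf_le_left hc
  exact (key hE rfl inferInstance hS hF).2 P hPT hP

end Cfsg.Agent.S5153
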