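import Cfsg.Statements.S5160
import Cfsg.Agent.Lib.Fus.Invariant
import Cfsg.Agent.Lib.Fus.GroupSystem
-- import your own Cfsg.Agent.* helpers here

set_option autoImplicit false
open Cfsg

namespace Cfsg.Agent.S5160

/-- Let G be a finite group with nontrivial Sylow p-subgroup S and F its fusion system on S. Suppose (a) no nontrivial proper subgroup of S is strongly closed in F, and (b) the automorphisms of S induced by G are generated by those induced, for R running over the fully normalized radical centric subgroups of F, by the subgroup of N_G(R) generated by its elements of p-power order. Then F is simple. -/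
theorem result {G : Type*} [Group G] [Finite G] (p : ℕ) [Fact p.Prime] (S : Sylow p G) (hS1 : (S : Subgroup G) ≠ ⊥) (ha : ∀ T : Subgroup G, (Cfsg.groupFusionSystem (S : Subgroup G)).StronglyClosed T → T = ⊥ ∨ T = (S : Subgroup G)) (hb : Cfsg.autInducedBy ⊤ (S : Subgroup G) = ⨆ (R : Subgroup G) (_ : (Cfsg.groupFusionSystem (S : Subgroup G)).IsFullyNormalized R ∧ (Cfsg.groupFusionSystem (S : Subgroup G)).IsRadical p R ∧ (Cfsg.groupFusionSystem (S : Subgroup G)).IsCentric R), Cfsg.autInducedBy (Subgroup.closure {g : G | g ∈ Subgroup.normalizer (R : Set G) ∧ ∃ k : ℕ, orderOf g = p ^ k}) (S : Subgroup G)) : (Cfsg.groupFusionSystem (S : Subgroup G)).IsSimple p := by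
  have hsat := Fus.isSaturated_group S
  refine ⟨hsat, hS1, fun T E hE => ?_⟩
  obtain ⟨⟨hEsat, -, hEi⟩, -⟩ := hE
  rcases ha T hEi.2.1 with h | h
  · exact Or.inl h
  subst h
  refine Or.inr ⟨rfl, Fus.hom_eq_of_isInvariantIn hEi ?_⟩
  have hautG : ∀ P : Subgroup G, P ≤ (S : Subgroup G) →
      (Cfsg.groupFusionSystem (S : Subgroup G)).autGroup P = Cfsg.autInducedBy ⊤ P := by
    intro P hP
    rw [Fus.groupFusionSystem_eq]
    exact Fus.autGroup_ofSubgroup hP
  rw [hautG _ le_rfl, hb]
  refine iSup₂_le ?_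
  rintro R ⟨hRn, -, hRc⟩ α hα
  obtain ⟨g, hg, hgα⟩ := Fus.mem_autInducedBy.1 hα
  let X : Subgroup G := ((E.autGroup R).comap R.normalizerMonoidHom).map
    (Subgroup.normalizer (R : Set G)).subtype
  have hle : Subgroup.closure {g : G | g ∈ Subgroup.normalizer (R : Set G) ∧
      ∃ k : ℕ, orderOf g = p ^ k} ≤ X := by
    refine (Subgroup.closure_le _).2 fun x ⟨hx, k, hk⟩ => ?_
    refine ⟨⟨x, hx⟩, ?_, rfl⟩
    refine Fus.mem_autGroup_of_isPGroup hEi hRc.1
      (Fus.fullyAutomized_of_fullyNormalized S.2 hsat hRn)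
      (Fus.autInducedBy_le_autGroup E hRc.1) (k := k) ?_ ?_
    · rw [hautG R hRc.1]
      exact Fus.mem_autInducedBy.2 ⟨x, Subgroup.mem_top x, fun y => rfl⟩
    · rw [← map_pow]
      convert map_one R.normalizerMonoidHom
      exact Subtype.ext (by rw [SubgroupClass.coe_pow, ← hk]; exact pow_orderOf_eq_one x)
  obtain ⟨⟨x, hxn⟩, hx, hxg⟩ := hle hg
  have hxg : x = g := hxg
  subst hxg
  have hm : Fus.IsMap (Cfsg.groupFusionSystem (S : Subgroup G)) (S : Subgroup G)
      (Fus.autFun α) := by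
    refine (Fus.mem_autGroup le_rfl).1 ?_
    rw [hautG _ le_rfl]
    exact Fus.autInducedBy_mono le_top _ hα
  have hRmap : Fus.IsMap E R (Fus.autFun α) := by
    refine ((Fus.mem_autGroup hRc.1).1 hx).congr fun y hy => ?_
    rw [show y = ((⟨y, hRc.1 hy⟩ : (S : Subgroup G)) : G) from rfl, Fus.autFun_coe α, hgα]
    exact (Fus.autFun_coe _ ⟨y, hy⟩).trans rfl
  exact (Fus.mem_autGroup le_rfl).2
    (Fus.isMap_of_centric_restrict S.2 hsat hEi.1 hEsat hm hRc hRmap)

end Cfsg.Agent.S5160
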