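import Cfsg.Statements.S5162
import Cfsg.Agent.Lib.Fus.LayerProduct
import Cfsg.Agent.Lib.Fus.LayerDichotomy
-- import your own Cfsg.Agent.* helpers here

set_option autoImplicit false
open Cfsg

namespace Cfsg.Agent.S5162

/-- Let F be a saturated fusion system over a finite p-group S that is a central product of two saturated subsystems F₁ (over S₁) and F₂ (over S₂) inside S. Then every component of F is a component of F₁ or a component of F₂. -/
theorem result {Ω : Type*} [Group Ω] {S : Subgroup Ω} [Finite S] (p : ℕ) [Fact p.Prime] (hS : IsPGroup p S) (F : Cfsg.FusionSystem S) (hF : F.IsSaturated p) {S₁ S₂ : Subgroup Ω} (F₁ : Cfsg.FusionSystem S₁) (F₂ : Cfsg.FusionSystem S₂) (h₁ : F₁.IsSaturated p) (h₂ : F₂.IsSaturated p) (h₁F : F₁.IsSubsystemOf F) (h₂F : F₂.IsSubsystemOf F) (hc : Cfsg.FusionSystem.IsCentralProductOf F₁ F₂ F) {T : Subgroup Ω} (C : Cfsg.FusionSystem T) (hC : C.IsComponentIn F p) : C.IsComponentIn F₁ p ∨ C.IsComponentIn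 F₂ p := by
  have d := Fus.Layer.central_of_product hS hF h₁ h₂ hc
  have hn₁ := d.normal
  have hn₂ := d.symm.normal
  have hle := Fus.CompFree.subnormal_le hC.1
  have key : ∀ {T' : Subgroup Ω} (E : FusionSystem T'), E.IsNormalIn F p → C.IsSubsystemOf E →
      C.IsComponentIn E p := fun E hE hCE =>
    ⟨Fus.Layer.subnormal_of_le hC.1 Fact.out ‹_› hS hF hC.2 E hE
      ((E.le_of_mem (hCE _ (Fus.subtype_mem C le_rfl))).1), hC.2⟩
  obtain h | ⟨hc₁, -⟩ := Fus.Layer.dichotomy hC.1 Fact.out ‹_› hS hF hC.2 F₁ hn₁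
  · exact Or.inl (key F₁ hn₁ h)
  obtain h | ⟨hc₂, -⟩ := Fus.Layer.dichotomy hC.1 Fact.out ‹_› hS hF hC.2 F₂ hn₂
  · exact Or.inr (key F₂ hn₂ h)
  haveI : Finite T := Fus.finite_of_le hle
  refine absurd ⟨⟨fun a b => Subtype.ext ?_⟩⟩ (S5148.result p (hS.to_le hle) C hC.2)
  obtain ⟨x, hx, y, hy, e⟩ := Fus.mem_sup_dest (A := S₁) (B := S₂) (fun x hx =>
      Fus.mem_normalizer_of_forall
        (fun y hy => by rw [d.comm x hx y hy, mul_inv_cancel_right]; exact hy)
        fun y hy => by rw [d.comm x⁻¹ (S₁.inv_mem hx) y hy, inv_mul_cancel_right]; exact hy)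
    (d.sup_eq.le (hle b.2))
  show (a : Ω) * b = b * a
  rw [← e, ← mul_assoc, hc₁ a a.2 x hx, mul_assoc, hc₂ a a.2 y hy, mul_assoc]

end Cfsg.Agent.S5162
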