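import Cfsg.Statements.S5179
import Cfsg.Agent.Lib.Fus.TransvectionSPE
import Cfsg.Agent.Lib.Fus.AbelianIndexPEss
-- import your own Cfsg.Agent.* helpers here

set_option autoImplicit false
universe u
open Cfsg
open scoped commutatorElement

namespace Cfsg.Agent.S5179

/-- Let p be an odd prime, S a finite p-group of order at least p⁶ containing an extraspecial subgroup Q of index p, and F a saturated fusion system over S whose largest subgroup normal in F is trivial. Then no proper subgroup of Q is essential in F: an essential subgroup of F contained in Q equals Q. -/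
theorem result {Ω : Type u} [Group Ω] {S : Subgroup Ω} [Finite S] (p : ℕ) [Fact p.Prime] (hp : Odd p) (hS : IsPGroup p S)
    (Q : Subgroup Ω) (hQS : Q ≤ S) (hQ : Cfsg.IsExtraspecial p ↥Q) (hQi : (Q.subgroupOf S).index = p)
    (h6 : p ^ 6 ≤ Nat.card S)
    (F : Cfsg.FusionSystem S) (hF : F.IsSaturated p) (hO : F.core = ⊥)
    (E : Subgroup Ω) (hEQ : E ≤ Q) (hE : F.IsEssential p E) : E = Q := by
  classical
  have hpp : p.Prime := Fact.out
  have hES : E ≤ S := hE.1.1
  haveI := Fus.finite_of_le hES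
  haveI := Fus.finite_of_le hQS
  haveI : Finite (MulAut E) :=
    Finite.of_injective (fun e : MulAut E => (e : E → E)) DFunLike.coe_injective
  have hQcard : p ^ 5 ≤ Nat.card Q := by
    have h := (Q.subgroupOf S).index_mul_card
    rw [hQi, Nat.card_congr (Subgroup.subgroupOfEquivOfLe hQS).toEquiv] at h
    rw [← h] at h6
    exact Nat.le_of_mul_le_mul_left (by rw [← pow_succ']; exact h6) hpp.pos
  obtain ⟨⟨-, -, hcQ⟩, hZc⟩ := hQ
  set ZQ := (Subgroup.center ↥Q).map Q.subtype with hZQ
  have hZQc : Nat.card ZQ = p := (Subgroup.card_map_of_injective Q.subtype_injective).trans hZc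
  haveI : Finite ZQ := Nat.finite_of_card_ne_zero (by rw [hZQc]; exact hpp.ne_zero)
  have hZQcomm : ∀ w ∈ ZQ, ∀ q ∈ Q, q * w = w * q := by
    rintro _ ⟨w, hw, rfl⟩ q hq
    exact congrArg Subtype.val (Subgroup.mem_center_iff.1 hw ⟨q, hq⟩)
  have hZE : ZQ ≤ E := by
    intro w hw
    have hwQ : w ∈ Q := Subgroup.map_subtype_le _ hw
    exact Fus.centralizerIn_le_of_centric hE.1
      (Fus.mem_centralizerIn.2 ⟨hQS hwQ, fun e he => hZQcomm w hw e (hEQ he)⟩)
  have hcommQ : ∀ a ∈ Q, ∀ b ∈ Q, a * b * a⁻¹ * b⁻¹ ∈ ZQ := fun a ha b hb => by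
    refine ⟨⟨a, ha⟩ * ⟨b, hb⟩ * ⟨a, ha⟩⁻¹ * ⟨b, hb⟩⁻¹, ?_, rfl⟩
    rw [← hcQ]
    exact Subgroup.commutator_mem_commutator (Subgroup.mem_top _) (Subgroup.mem_top _)
  have hQN : ∀ q ∈ Q, q ∈ Subgroup.normalizer (E : Set Ω) := by
    intro q hq
    have key : ∀ q' ∈ Q, ∀ e ∈ E, q' * e * q'⁻¹ ∈ E := fun q' hq' e he => by
      have := mul_mem (hZE (hcommQ q' hq' e (hEQ he))) he
      simpa using this
    exact Fus.mem_normalizer_of_forall (key q hq) fun e he => by
      simpa using key q⁻¹ (inv_mem hq) e he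
  by_contra hne
  obtain ⟨q, hqQ, hqE⟩ := SetLike.exists_of_lt (lt_of_le_of_ne hEQ hne)
  by_cases hab : ∀ a b : E, a * b = b * a
  · obtain ⟨⟨z, hz⟩, hz1⟩ : ∃ z : ZQ, z ≠ 1 := by
      by_contra hh
      push Not at hh
      have : Nat.card ZQ = 1 := Nat.card_eq_one_iff_unique.2
        ⟨⟨fun a b => by rw [hh a, hh b]⟩, ⟨1⟩⟩
      rw [hZQc] at this
      exact hpp.ne_one this
    have hzp : z ^ p = 1 := by
      have h := congrArg Subtype.val (pow_card_eq_one' (x := (⟨z, hz⟩ : ZQ)))
      rwa [hZQc] at h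
    have hzgen : Subgroup.zpowers z = ZQ := by
      refine Subgroup.eq_of_le_of_card_ge (Subgroup.zpowers_le.2 hz) ?_
      rw [hZQc, Nat.card_zpowers,
        orderOf_eq_prime hzp (fun e => hz1 (Subtype.ext e))]
    let f : ↥Q →* F.autGroup E := (Fus.TorusExt.cj F hES).comp
      (Subgroup.inclusion (show Q ≤ FusionSystem.normalizerIn S E from fun q hq => ⟨hQS hq, hQN q hq⟩))
    have hker : f.ker = E.subgroupOf Q := by
      ext y
      rw [MonoidHom.mem_ker, Subgroup.mem_subgroupOf]
      constructor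
      · intro hy
        refine Fus.centralizerIn_le_of_centric hE.1
          (Fus.mem_centralizerIn.2 ⟨hQS y.2, fun e he => ?_⟩)
        have h := congrArg (fun a : F.autGroup E => (((a : MulAut E) ⟨e, he⟩ : E) : Ω)) hy
        exact (mul_inv_eq_iff_eq_mul.1 (show (y : Ω) * e * (y : Ω)⁻¹ = e from h)).symm
      · intro hy
        refine Subtype.ext (MulEquiv.ext fun e => Subtype.ext ?_)
        show (y : Ω) * e * (y : Ω)⁻¹ = e
        rw [show (y : Ω) * e = e * y from congrArg Subtype.val (hab ⟨y, hy⟩ e), mul_inv_cancel_right]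
    have hidx : p < (E.subgroupOf Q).index := by
      obtain ⟨r, hr⟩ := (hS.to_le hQS).index (E.subgroupOf Q)
      rw [hr]
      by_contra hle
      have hr1 : r ≤ 1 := (Nat.pow_le_pow_iff_right hpp.one_lt).1
        (show p ^ r ≤ p ^ 1 by rw [pow_one]; omega)
      -- the elements of `E` centralized by `q` are central in `Q`
      let g : E →* ZQ :=
        { toFun := fun e => ⟨q * e * q⁻¹ * (e : Ω)⁻¹, hcommQ q hqQ e (hEQ e.2)⟩
          map_one' := Subtype.ext (by simp)
          map_mul' := fun a b => Subtype.ext (by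
            show q * ((a : Ω) * b) * q⁻¹ * ((a : Ω) * b)⁻¹ =
              (q * a * q⁻¹ * (a : Ω)⁻¹) * (q * b * q⁻¹ * (b : Ω)⁻¹)
            have h := hZQcomm _ (hcommQ q hqQ b (hEQ b.2)) _ (hEQ a.2)
            calc q * ((a : Ω) * b) * q⁻¹ * ((a : Ω) * b)⁻¹
                = (q * a * q⁻¹) * (q * b * q⁻¹ * (b : Ω)⁻¹) * (a : Ω)⁻¹ := by group
              _ = (q * a * q⁻¹ * (a : Ω)⁻¹) * ((a : Ω) * (q * b * q⁻¹ * (b : Ω)⁻¹)) * (a : Ω)⁻¹ := by
                  group
              _ = _ := by rw [h, ← mul_assoc, mul_inv_cancel_right]) }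
      have hsub : g.ker.map E.subtype ≤ ZQ := by
        rintro _ ⟨e, he, rfl⟩
        have hqe : q * e = (e : Ω) * q := by
          have h := congrArg Subtype.val (MonoidHom.mem_ker.1 he)
          exact mul_inv_eq_iff_eq_mul.1 (mul_inv_eq_one.1 h)
        refine ⟨⟨e, hEQ e.2⟩, Subgroup.mem_center_iff.2 fun y => ?_, rfl⟩
        have hy : (y : Ω) ∈ Subgroup.centralizer ({(e : Ω)} : Set Ω) := by
          set C := (Subgroup.centralizer ({(e : Ω)} : Set Ω)).subgroupOf Q with hC
          have hEC : E.subgroupOf Q < C := by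
            refine lt_of_le_of_ne (fun v hv => Subgroup.mem_subgroupOf.2
              (Subgroup.mem_centralizer_singleton_iff.2 ?_)) fun h => hqE ?_
            · exact (congrArg Subtype.val (hab ⟨v, Subgroup.mem_subgroupOf.1 hv⟩ e))
            · have : (⟨q, hqQ⟩ : Q) ∈ E.subgroupOf Q := h ▸ Subgroup.mem_subgroupOf.2
                (Subgroup.mem_centralizer_singleton_iff.2 hqe)
              exact Subgroup.mem_subgroupOf.1 this
          have h1 := Subgroup.index_strictAnti hEC
          obtain ⟨k, hk⟩ := (hS.to_le hQS).index C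
          rw [hr, hk] at h1
          have := (Nat.pow_lt_pow_iff_right hpp.one_lt).1 h1
          have htop : C = ⊤ := Subgroup.index_eq_one.1 (by rw [hk, show k = 0 by omega, pow_zero])
          exact Subgroup.mem_subgroupOf.1 (htop.ge (Subgroup.mem_top y))
        exact Subtype.ext (Subgroup.mem_centralizer_singleton_iff.1 hy)
      have hcE : Nat.card E ≤ p * p := by
        rw [← g.ker.index_mul_card, Subgroup.index_ker]
        refine Nat.mul_le_mul ((Subgroup.card_le_card_group _).trans hZQc.le) ?_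
        rw [← Subgroup.card_map_of_injective E.subtype_injective, ← hZQc]
        exact Subgroup.card_le_of_le hsub
      have h := (E.subgroupOf Q).index_mul_card
      rw [hr, Nat.card_congr (Subgroup.subgroupOfEquivOfLe hEQ).toEquiv] at h
      have h2 : p ^ r * Nat.card E ≤ p * (p * p) :=
        Nat.mul_le_mul ((Nat.pow_le_pow_right hpp.pos hr1).trans (pow_one p).le) hcE
      have h3 : p ^ 3 < p ^ 5 := Nat.pow_lt_pow_right hpp.one_lt (by omega)
      rw [h, show p * (p * p) = p ^ 3 by ring] at h2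
      omega
    rw [← hker, Subgroup.index_ker] at hidx
    refine Fus.essential_transvection_false (T := f.range) (z := ⟨z, hZE hz⟩) hE hab ?_ hidx
      (Subtype.ext hzp) ?_
    · rw [MonoidHom.range_eq_map]
      exact ((hS.to_le hQS).to_subgroup _).map f
    · rintro _ ⟨y, rfl⟩
      refine ⟨Subtype.ext ?_, fun v => ?_⟩
      · show (y : Ω) * z * (y : Ω)⁻¹ = z
        rw [hZQcomm z hz y y.2, mul_inv_cancel_right]
      · obtain ⟨i, hi⟩ : ∃ i : ℤ, z ^ i = (y : Ω) * v * (y : Ω)⁻¹ * (v : Ω)⁻¹ :=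
          Subgroup.mem_zpowers_iff.1 (hzgen.ge (hcommQ y y.2 v (hEQ v.2)))
        exact ⟨i, Subtype.ext (show (y : Ω) * v * (y : Ω)⁻¹ = _ by
          rw [Subgroup.coe_mul, SubgroupClass.coe_zpow]
          simp only [hi, inv_mul_cancel_right])⟩
  · set U := (commutator ↥E).map E.subtype with hU
    have hUne : U ≠ ⊥ := by
      intro h
      rw [hU, Subgroup.map_eq_bot_iff_of_injective _ E.subtype_injective] at h
      refine hab fun a b => ?_
      have hm : ⁅a, b⁆ ∈ commutator ↥E :=
        Subgroup.commutator_mem_commutator (Subgroup.mem_top a) (Subgroup.mem_top b)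
      rw [h, Subgroup.mem_bot] at hm
      exact commutatorElement_eq_one_iff_mul_comm.1 hm
    have hUZ : U ≤ ZQ := by
      rw [hU, Subgroup.map_le_iff_le_comap, commutator_def, Subgroup.commutator_le]
      exact fun a _ b _ => hcommQ a (hEQ a.2) b (hEQ b.2)
    have hUeq : U = ZQ := by
      refine Subgroup.eq_of_le_of_card_ge hUZ ?_
      rw [hZQc]
      haveI := Fus.finite_of_le ((Subgroup.map_subtype_le _).trans hES : U ≤ S)
      obtain ⟨k, hk⟩ := (hS.to_le ((Subgroup.map_subtype_le _).trans hES : U ≤ S)).exists_card_eq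
      rw [hk]
      refine Nat.le_self_pow (fun h0 => hUne ?_) p
      rw [h0, pow_zero] at hk
      exact Subgroup.card_eq_one.1 hk
    refine hqE (Fus.mem_of_series hS hE (U := U) ?_ (hQS hqQ) (hQN q hqQ) ?_ ?_)
    · rintro α - u ⟨v, hv, rfl⟩ -
      refine ⟨α v, ?_, (Fus.autFun_coe α v).symm⟩
      exact ((inferInstance : (commutator ↥E).Characteristic).fixed α).ge hv
    · intro u hu _
      rw [hUeq] at hu
      rw [hZQcomm u hu q hqQ, mul_inv_cancel_right]
    · intro y hy
      rw [hUeq, ← mul_assoc, ← mul_assoc]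
      have h := hcommQ y⁻¹ (inv_mem (hEQ hy)) q hqQ
      simpa [mul_assoc] using h

end Cfsg.Agent.S5179
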