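import Cfsg.Statements.S5181
import Cfsg.Agent.Lib.Invol.EssNormal.Cyclic
import Cfsg.Agent.Lib.Invol.EssNormal.SylowSp

set_option autoImplicit false
universe u
open Cfsg
open scoped commutatorElement

namespace Cfsg.Agent.S5181

/-- Let p be an odd prime, S a finite p-group of sectional p-rank exactly 3, and F a saturated fusion system over S whose largest subgroup normal in F is trivial. Then either S is isomorphic to a Sylow p-subgroup of Sp(4,p), or some essential subgroup of F is not normal in S. -/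
theorem result {Ω : Type u} [Group Ω] {S : Subgroup Ω} [Finite S] (p : ℕ) [Fact p.Prime] (hp : Odd p) (hS : IsPGroup p S) (hsr : Cfsg.SectionalPRankLE p 3 ↥S ∧ ¬ Cfsg.SectionalPRankLE p 2 ↥S)
    (F : Cfsg.FusionSystem S) (hF : F.IsSaturated p) (hO : F.core = ⊥) :
    (∃ P : Sylow p ↥(Matrix.symplecticGroup (Fin 2) (ZMod p)),
        Nonempty (↥S ≃* ↥(P : Subgroup ↥(Matrix.symplecticGroup (Fin 2) (ZMod p))))) ∨
      ∃ E : Subgroup Ω, F.IsEssential p E ∧ ¬ S ≤ Subgroup.normalizer (E : Set Ω) := by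
  by_cases hne : ∃ E : Subgroup Ω, F.IsEssential p E ∧ ¬ S ≤ Subgroup.normalizer (E : Set Ω)
  · exact Or.inr hne
  push Not at hne
  have h2 : p ≠ 2 := fun h => by rw [h] at hp; exact absurd hp (by decide)
  have H : Agent.Invol.EssNormal.Hyp F p :=
    ⟨hS, hF, h2, Agent.Invol.EssNormal.r3_of_sectional hsr.1, hne,
      fun Q hQ => le_bot_iff.1 (hO ▸ Agent.Fus.le_core hQ)⟩
  obtain ⟨A, s, e, hAS, hAn, hAc, hAp, hA3, hS4, hs, hsA, hsp, he, hne2, hfix⟩ := H.main hsr.2
  have hmem : ∀ a ∈ A, ⁅s, a⁆ ∈ A := fun a ha => by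
    rw [commutatorElement_def]
    exact A.mul_mem (hAn s hs a ha) (A.inv_mem ha)
  have hb := hmem e he
  have hc := hmem _ hb
  have D : Agent.Invol.EssNormal.Data p s e :=
    ⟨hsp, hAp e he, hAp _ hb, hAp _ hc, hAc e he _ hb, hAc e he _ hc, hAc _ hb _ hc, hfix, hne2⟩
  have hgen : Subgroup.closure {s, e} = S := by
    refine Subgroup.eq_of_le_of_card_ge ((Subgroup.closure_le _).2 ?_) ?_
    · rintro y (rfl | rfl)
      exacts [hs, hAS he]
    · rw [D.card_closure, hS4]
  obtain ⟨P, ⟨φ⟩⟩ := Agent.Invol.EssNormal.exists_sylow_sp_equiv p h2 D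
  exact Or.inl ⟨P, ⟨(MulEquiv.subgroupCongr hgen.symm).trans φ⟩⟩

end Cfsg.Agent.S5181
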