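import Cfsg.Statements.S5182
import Cfsg.Agent.Lib.Invol.EssNormal.PearlExists

set_option autoImplicit false
universe u
open Cfsg

namespace Cfsg.Agent.S5182

/-- Let p ≥ 5 be a prime, S a finite p-group of sectional p-rank exactly 3, and F a saturated fusion system over S whose largest subgroup normal in F is trivial. Then F has an essential subgroup that is either elementary abelian of order p² or extraspecial of order p³ and exponent p. -/
theorem result {Ω : Type u} [Group Ω] {S : Subgroup Ω} [Finite S] (p : ℕ) [Fact p.Prime] (hp : 5 ≤ p) (hS : IsPGroup p S) (hsr : Cfsg.SectionalPRankLE p 3 ↥S ∧ ¬ Cfsg.SectionalPRankLE p 2 ↥S)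
    (F : Cfsg.FusionSystem S) (hF : F.IsSaturated p) (hO : F.core = ⊥) :
    ∃ E : Subgroup Ω, (F.IsEssential p E ∧ ((Cfsg.IsElementaryAbelian p E ∧ Nat.card E = p ^ 2) ∨
        (Cfsg.IsExtraspecial p ↥E ∧ Nat.card E = p ^ 3 ∧ ∀ x ∈ E, x ^ p = 1))) := by
  by_cases hne : ∃ E : Subgroup Ω, F.IsEssential p E ∧ ¬ S ≤ Subgroup.normalizer (E : Set Ω)
  · obtain ⟨E, hE, hnn⟩ := hne
    exact ⟨E, hE, Agent.Invol.EssNormal.pearl_of_nonnormal hS hp hsr.1 hF hE hnn⟩
  push Not at hne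
  have H : Agent.Invol.EssNormal.Hyp F p :=
    ⟨hS, hF, by omega, Agent.Invol.EssNormal.r3_of_sectional hsr.1, hne,
      fun Q hQ => le_bot_iff.1 (hO ▸ Agent.Fus.le_core hQ)⟩
  obtain ⟨E, hE, h⟩ := H.exists_pearl hsr.2
  exact ⟨E, hE, h⟩

end Cfsg.Agent.S5182
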