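import Cfsg.Statements.S5189
import Cfsg.Agent.Lib.Invol.TwoEss.Fusion
import Cfsg.Agent.Lib.Invol.EssNormal.SylowSp

set_option autoImplicit false
set_option linter.style.haveILetI false
universe u
open Cfsg
open scoped commutatorElement

namespace Cfsg.Agent.S5189

open Cfsg.Agent.Invol Cfsg.Agent.Fus

/-- The configuration with `E₁` elementary abelian. -/
theorem of_out {Ω : Type u} [Group Ω] {S : Subgroup Ω} [Finite S] {p : ℕ} [Fact p.Prime]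
    (hS : IsPGroup p S) (h2 : p ≠ 2) {F : Cfsg.FusionSystem S} {E₁ E₂ : Subgroup Ω}
    (hE₁ : F.IsEssential p E₁) (hE₂ : F.IsEssential p E₂)
    {A₁ : Subgroup (MulAut (E₁.subgroupOf S))} {A₂ : Subgroup (MulAut (E₂.subgroupOf S))}
    (P₁ : TwoEss.Par p (E₁.subgroupOf S) A₁) (P₂ : TwoEss.Par p (E₂.subgroupOf S) A₂)
    (h : TwoEss.Out p (E₁.subgroupOf S) A₁ (E₂.subgroupOf S)) :
    (∃ P : Sylow p ↥(Matrix.symplecticGroup (Fin 2) (ZMod p)),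
        Nonempty (↥S ≃* ↥(P : Subgroup ↥(Matrix.symplecticGroup (Fin 2) (ZMod p))))) ∧
      Cfsg.IsExtraspecial p ↥E₂ ∧ Nat.card E₂ = p ^ 3 ∧ (∀ x ∈ E₂, x ^ p = 1) ∧
        Cfsg.IsElementaryAbelian p E₁ ∧ Nat.card E₁ = p ^ 3 := by
  have hE₁S := hE₁.1.1
  have hE₂S := hE₂.1.1
  obtain ⟨s, hs, hsE, hsp, e, he, hne2, hfix⟩ := h.witness
  have hc₁ : Nat.card E₁ = p ^ 3 :=
    (Nat.card_congr (Subgroup.subgroupOfEquivOfLe hE₁S).toEquiv).symm.trans h.card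
  have hS4 : Nat.card S = p ^ 4 := by
    rw [← (E₁.subgroupOf S).index_mul_card, P₁.idx, h.card]; ring
  have hc₂ : Nat.card E₂ = p ^ 3 := by
    have h1 := (E₂.subgroupOf S).index_mul_card
    rw [P₂.idx, Nat.card_congr (Subgroup.subgroupOfEquivOfLe hE₂S).toEquiv, hS4, pow_succ' p 3]
      at h1
    exact Nat.eq_of_mul_eq_mul_left (Fact.out : p.Prime).pos h1
  have hcomm₁ : ∀ a ∈ E₁, ∀ b ∈ E₁, Commute a b := fun a ha b hb =>
    congrArg Subtype.val (h.comm ⟨a, hE₁S ha⟩ ha ⟨b, hE₁S hb⟩ hb).eq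
  have hexp₁ : ∀ a ∈ E₁, a ^ p = 1 := fun a ha =>
    congrArg Subtype.val (h.exp ⟨a, hE₁S ha⟩ ha)
  obtain ⟨hext, hexp₂⟩ : Cfsg.IsExtraspecial p ↥E₂ ∧ ∀ x ∈ E₂, x ^ p = 1 := by
    rcases Fus.essential_card_cube hS hE₂ hc₂ with hel | ⟨-, hx⟩ | ⟨hp2, -⟩
    · refine absurd (commutatorElement_eq_one_iff_mul_comm.2 (Subtype.ext ?_)) hne2
      exact congrArg (fun x : E₂ => (x : Ω))
        (hel.1.is_comm.comm (⟨(s : Ω), hs⟩ : E₂) ⟨((⁅s, e⁆ : S) : Ω), P₂.comm_mem s e⟩)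
    · exact hx
    · exact absurd hp2 h2
  have hb := P₁.comm_mem s e
  have hc := P₁.comm_mem s ⁅s, e⁆
  have hv : ∀ a b : S, ((⁅a, b⁆ : S) : Ω) = ⁅(a : Ω), (b : Ω)⁆ := fun a b =>
    map_commutatorElement S.subtype a b
  have D : EssNormal.Data p (s : Ω) (e : Ω) := by
    refine ⟨congrArg Subtype.val hsp, hexp₁ _ he, ?_, ?_, ?_, ?_, ?_, ?_, ?_⟩ <;> rw [← hv]
    · exact hexp₁ _ hb
    · rw [← hv]; exact hexp₁ _ hc
    · exact hcomm₁ _ he _ hb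
    · rw [← hv]; exact hcomm₁ _ he _ hc
    · rw [← hv]; exact hcomm₁ _ hb _ hc
    · rw [← hv, ← hv]; exact congrArg Subtype.val hfix
    · rw [← hv]; exact fun h => hne2 (Subtype.ext h)
  have hgen : Subgroup.closure {(s : Ω), (e : Ω)} = S := by
    refine Subgroup.eq_of_le_of_card_ge ((Subgroup.closure_le _).2 ?_) ?_
    · rintro y (rfl | rfl)
      exacts [s.2, e.2]
    · rw [D.card_closure, hS4]
  obtain ⟨P, ⟨φ⟩⟩ := EssNormal.exists_sylow_sp_equiv p h2 D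
  exact ⟨⟨P, ⟨(MulEquiv.subgroupCongr hgen.symm).trans φ⟩⟩, hext, hc₂, hexp₂,
    ⟨⟨⟨fun a b => Subtype.ext (hcomm₁ a a.2 b b.2).eq⟩⟩, hexp₁⟩, hc₁⟩

/-- Let p be an odd prime, S a finite p-group of sectional p-rank exactly 3, and F a saturated fusion system over S whose largest subgroup normal in F is trivial. Suppose S has two distinct essential subgroups E₁, E₂ each of which is invariant under every F-automorphism of S. Then S is isomorphic to a Sylow p-subgroup of Sp(4,p), and one of E₁, E₂ is extraspecial of order p³ and exponent p while the other is elementary abelian of order p³. -/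
theorem result {Ω : Type u} [Group Ω] {S : Subgroup Ω} [Finite S] (p : ℕ) [Fact p.Prime] (hp : Odd p) (hS : IsPGroup p S)
    (hsr : Cfsg.SectionalPRankLE p 3 ↥S ∧ ¬ Cfsg.SectionalPRankLE p 2 ↥S)
    (F : Cfsg.FusionSystem S) (hF : F.IsSaturated p) (hO : F.core = ⊥)
    (E₁ E₂ : Subgroup Ω) (hne : E₁ ≠ E₂) (hE₁ : F.IsEssential p E₁) (hE₂ : F.IsEssential p E₂)
    (hc₁ : (∀ φ : MulAut ↥S, φ ∈ F.autGroup S → (E₁.subgroupOf S).map φ.toMonoidHom = E₁.subgroupOf S))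
    (hc₂ : (∀ φ : MulAut ↥S, φ ∈ F.autGroup S → (E₂.subgroupOf S).map φ.toMonoidHom = E₂.subgroupOf S)) :
    (∃ P : Sylow p ↥(Matrix.symplecticGroup (Fin 2) (ZMod p)),
        Nonempty (↥S ≃* ↥(P : Subgroup ↥(Matrix.symplecticGroup (Fin 2) (ZMod p))))) ∧
      ((Cfsg.IsExtraspecial p ↥E₁ ∧ Nat.card E₁ = p ^ 3 ∧ (∀ x ∈ E₁, x ^ p = 1) ∧
          Cfsg.IsElementaryAbelian p E₂ ∧ Nat.card E₂ = p ^ 3) ∨
        (Cfsg.IsExtraspecial p ↥E₂ ∧ Nat.card E₂ = p ^ 3 ∧ (∀ x ∈ E₂, x ^ p = 1) ∧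
          Cfsg.IsElementaryAbelian p E₁ ∧ Nat.card E₁ = p ^ 3)) := by
  have h2 : p ≠ 2 := fun h => by rw [h] at hp; exact absurd hp (by decide)
  have hR := EssNormal.r3_of_sectional hsr.1
  obtain ⟨A₁, S₁⟩ := TwoEss.exists_side hS h2 hR hF hE₁ hc₁
  obtain ⟨A₂, S₂⟩ := TwoEss.exists_side hS h2 hR hF hE₂ hc₂
  have hne' : E₁.subgroupOf S ≠ E₂.subgroupOf S := fun h => hne (by
    rw [← Subgroup.map_subgroupOf_eq_of_le hE₁.1.1, h, Subgroup.map_subgroupOf_eq_of_le hE₂.1.1])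
  have C : TwoEss.Ctx p S := ⟨hS, h2, fun A B _ hBA hcm hpw =>
    EssThree.rank3_of_sectional hsr.1 A B hBA hcm hpw⟩
  obtain ⟨T, hTD, hT₁, hT₂, hmax⟩ := TwoEss.exists_maximal_inv A₁ A₂
  have hTbot : T = ⊥ := by
    by_contra hT
    have hcl := TwoEss.class_two S₁ S₂ hne' C hT hTD hT₁ hT₂ hmax
    have hnrm : ∀ E, F.IsEssential p E → S ≤ Subgroup.normalizer (E : Set Ω) := fun E hE => by
      have key : ∀ t ∈ S, ∀ x ∈ E, t * x * t⁻¹ ∈ E := fun t ht x hx => by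
        have hc : ⁅t, x⁆ ∈ E := TwoEss.center_le hE
          (S.mul_mem (S.mul_mem (S.mul_mem ht (hE.1.1 hx)) (S.inv_mem ht)) (S.inv_mem (hE.1.1 hx)))
          fun y hy => congrArg Subtype.val (hcl ⟨t, ht⟩ ⟨x, hE.1.1 hx⟩ ⟨y, hE.1.1 hy⟩).eq
        have := E.mul_mem hc hx
        rwa [commutatorElement_def, inv_mul_cancel_right] at this
      exact fun s hs => mem_normalizer_of_forall (key s hs) fun x hx => by
        have := key _ (S.inv_mem hs) x hx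
        rwa [inv_inv] at this
    have H : EssNormal.Hyp F p :=
      ⟨hS, hF, h2, hR, hnrm, fun Q hQ => le_bot_iff.1 (hO ▸ Fus.le_core hQ)⟩
    obtain ⟨A, s, e, hAS, -, -, -, -, -, hs, -, -, he, hne2, -⟩ := H.main hsr.2
    exact hne2 (commutatorElement_eq_one_iff_mul_comm.2
      (congrArg Subtype.val (hcl ⟨s, hs⟩ ⟨e, hAS he⟩ ⟨s, hs⟩).eq.symm))
  rcases TwoEss.amalgam S₁ S₂ hne' C
    (fun Q hQ h1 h2' => le_bot_iff.1 (hTbot ▸ hmax Q hQ h1 h2' (hTbot ▸ bot_le))) with h | h | h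
  · refine absurd (EssNormal.sectional_two_of_card hS h fun hab => ?_) hsr.2
    exact (OrdFive.lt_of_essential hS hF hE₁).not_ge fun g hg =>
      TwoEss.center_le hE₁ hg fun y hy => hab g hg y (hE₁.1.1 hy)
  · obtain ⟨hP, h1, h2', h3, h4, h5⟩ := of_out hS h2 hE₁ hE₂ S₁.toPar S₂.toPar h
    exact ⟨hP, Or.inr ⟨h1, h2', h3, h4, h5⟩⟩
  · obtain ⟨hP, h1, h2', h3, h4, h5⟩ := of_out hS h2 hE₂ hE₁ S₂.toPar S₁.toPar h
    exact ⟨hP, Or.inl ⟨h1, h2', h3, h4, h5⟩⟩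

end Cfsg.Agent.S5189
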