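import Cfsg.Statements.S5191
import Cfsg.Agent.Lib.Fus.GroupLocal
-- import your own Cfsg.Agent.* helpers here

set_option autoImplicit false
open Cfsg

namespace Cfsg.Agent.S5191

/-- Fusion in a finite group G and in its quotient by O_{p'}(G) agree. Let S be a Sylow p-subgroup of G, N = O_{p'}(G) and P ≤ S. If an element of G/N conjugates the image of P into the image of S, then some element g of G conjugates P into S and induces the same map on P modulo N. (Together with the injectivity of S → G/N this says that g ↦ gN induces an isomorphism of the fusion system of G on S with that of G/N on SN/N.) -/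
theorem result {G : Type*} [Group G] [Finite G] {p : ℕ} [Fact p.Prime]
    [hN : (Cfsg.pPrimeCore p G).Normal] (S : Sylow p G) (P : Subgroup G) (hP : P ≤ (S : Subgroup G))
    (γ : G ⧸ Cfsg.pPrimeCore p G)
    (hγ : ∀ x ∈ P, γ * QuotientGroup.mk x * γ⁻¹ ∈ ((S : Subgroup G).map (QuotientGroup.mk' (Cfsg.pPrimeCore p G)))) :
    ∃ g : G, ∀ x ∈ P, g * x * g⁻¹ ∈ S ∧
      (QuotientGroup.mk (g * x * g⁻¹) : G ⧸ Cfsg.pPrimeCore p G) = γ * QuotientGroup.mk x * γ⁻¹ := by
  obtain ⟨g₀, rfl⟩ := QuotientGroup.mk_surjective γ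
  set N := Cfsg.pPrimeCore p G with hNdef
  have hle : P.map (MulAut.conj g₀).toMonoidHom ≤ (S : Subgroup G) ⊔ N := by
    rintro _ ⟨x, hx, rfl⟩
    obtain ⟨s, hs, hsx⟩ := hγ x hx
    have h1 : s⁻¹ * (g₀ * x * g₀⁻¹) ∈ N := by
      rw [← QuotientGroup.eq]
      exact hsx
    show g₀ * x * g₀⁻¹ ∈ (S : Subgroup G) ⊔ N
    rw [← mul_inv_cancel_left s (g₀ * x * g₀⁻¹)]
    exact mul_mem (Subgroup.mem_sup_left hs) (Subgroup.mem_sup_right h1)
  have hsyl : Fus.IsSylowOf p (S : Subgroup G) ((S : Subgroup G) ⊔ N) :=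
    Fus.IsSylowOf.of_card_le le_sup_left S.2 fun A _ hAp hle =>
      (Subgroup.eq_of_le_of_card_ge hle ((Fus.isSylowOf_top S).card_le hAp le_top)).ge
  obtain ⟨k, hk, hkS⟩ := hsyl.exists_conj_le ((S.2.to_le hP).map _) hle
  rw [← SetLike.mem_coe, Subgroup.mul_normal] at hk
  obtain ⟨s, hs, m, hm, rfl⟩ := hk
  refine ⟨m * g₀, fun x hx => ⟨?_, ?_⟩⟩
  · have h1 := hkS ⟨_, ⟨x, hx, rfl⟩, rfl⟩
    have h2 := mul_mem (mul_mem (inv_mem hs) h1) hs
    show m * g₀ * x * (m * g₀)⁻¹ ∈ (S : Subgroup G)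
    convert h2 using 1
    simp [mul_assoc]
  · have : (QuotientGroup.mk m : G ⧸ Cfsg.pPrimeCore p G) = 1 := (QuotientGroup.eq_one_iff m).2 hm
    simp [this]

end Cfsg.Agent.S5191
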