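import Cfsg.Statements.S5193
import Cfsg.Agent.Lib.Fus.ThompsonCenter
-- import your own Cfsg.Agent.* helpers here

set_option autoImplicit false
open Cfsg

namespace Cfsg.Agent.S5193

/-- Glauberman's Theorem for fusion systems. Let F be a saturated fusion system over a finite p-group S, let J(S) be the subgroup generated by the abelian subgroups of S of largest order, and let N be the normalizer fusion system of J(S) in F (a fusion system over N_S(J(S)) = S). Then every p-th power of an element of Z(S) that lies in the centre of N lies in the centre of F; and if p is odd, or if the symmetric group of degree 4 is not involved in any model of the normalizer system of a fully normalized F-centric subgroup (F is S₄-free), then the centre of N equals the centre of F. -/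
theorem result {Ω : Type*} [Group Ω] {S : Subgroup Ω} [Finite S] (p : ℕ) [Fact p.Prime] (hS : IsPGroup p S) (F : Cfsg.FusionSystem S) (hF : F.IsSaturated p) (N : Cfsg.FusionSystem (Cfsg.FusionSystem.normalizerIn S (Cfsg.thompsonSubgroupAOf S))) (hN : F.IsNormalizerSystem (Cfsg.thompsonSubgroupAOf S) N) : Subgroup.closure ((fun z : Ω => z ^ p) '' ((S ⊓ Subgroup.centralizer (S : Set Ω) : Subgroup Ω) : Set Ω)) ⊓ N.center ≤ F.center ∧ (p ≠ 2 ∨ F.IsSectionFree p (Equiv.Perm (Fin 4)) → N.center = F.center) := by
  obtain ⟨hX, hfix⟩ := Fus.fixesExt_center_normalizer hN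
  refine ⟨?_, fun hp => le_antisymm
    (Fus.le_center (Fus.isCentral_of_thompson_all hS hF hp hX hfix))
    (Fus.center_le_center_normalizer hN)⟩
  set Z := (S ⊓ Subgroup.centralizer (S : Set Ω) : Subgroup Ω) with hZ
  set P₁ := Subgroup.closure ((fun z : Ω => z ^ p) '' (Z : Set Ω)) with hP₁
  have hP₁Z : P₁ ≤ Z := (Subgroup.closure_le _).2 fun _ ⟨w, hw, e⟩ => e ▸ Z.pow_mem hw p
  refine Fus.le_center (Fus.isCentral_iff.2 ⟨inf_le_right.trans (hX.trans inf_le_left),
    fun P f hf => ?_⟩)
  refine Fus.forall_of_thompson_powers hS hF (Fus.isMapProp_fixesExt (P₁ ⊓ N.center))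
    (W₀ := Z) le_rfl (fun P f hf hJ hfJ => ?_) (fun P f hf hle hfx => ?_) hf
  · obtain ⟨g, hg, hg1, hg2⟩ := hfix P f hf hJ hfJ
    exact ⟨g, hg.res (sup_le_sup_left inf_le_right P), hg1, fun x hx => hg2 x hx.2⟩
  · have hpc : P₁ ⊓ N.center ≤ powerClosure p 1 Z := inf_le_left.trans
      ((Subgroup.closure_le _).2 fun _ ⟨w, hw, e⟩ =>
        Subgroup.subset_closure ⟨w, hw, by rw [pow_one]; exact e.symm⟩)
    exact ⟨f, hf.res (sup_le le_rfl (hpc.trans hle)), fun x _ => rfl, fun x hx => hfx x (hpc hx)⟩

end Cfsg.Agent.S5193
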