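import Cfsg.Statements.S5194
import Cfsg.Agent.Lib.Fus.ThompsonCenter
-- import your own Cfsg.Agent.* helpers here

set_option autoImplicit false
open Cfsg

namespace Cfsg.Agent.S5194

/-- Thompson's normal p-complement Theorem for fusion systems. Let F be a saturated fusion system over a finite p-group S such that p is odd or F is S₄-free (the symmetric group of degree 4 is not involved in any model of the normalizer system of a fully normalized F-centric subgroup), and let J(S) be the subgroup generated by the abelian subgroups of S of largest order. If the centralizer fusion system of Z(S) in F is the inner fusion system of C_S(Z(S)) = S and the normalizer fusion system of J(S) in F is the inner fusion system of N_S(J(S)) = S, then F is the inner fusion system of S. -/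
theorem result {Ω : Type*} [Group Ω] {S : Subgroup Ω} [Finite S] (p : ℕ) [Fact p.Prime] (hS : IsPGroup p S) (F : Cfsg.FusionSystem S) (hF : F.IsSaturated p) (hp : p ≠ 2 ∨ F.IsSectionFree p (Equiv.Perm (Fin 4))) (hC : ∀ C : Cfsg.FusionSystem (Cfsg.FusionSystem.centralizerIn S (S ⊓ Subgroup.centralizer (S : Set Ω))), F.IsCentralizerSystem (S ⊓ Subgroup.centralizer (S : Set Ω)) C → ∀ P : Subgroup Ω, C.Hom P = (Cfsg.innerFusionSystem (Cfsg.FusionSystem.centralizerIn S (S ⊓ Subgroup.centralizer (S : Set Ω)))).Hom P) (hN : ∀ N : Cfsg.FusionSystem (Cfsg.FusionSystem.normalizerIn S (Cfsg.thompsonSubgroupAOf S)), F.IsNormalizerSystem (Cfsg.thompsonSubgroupAOf S) N → ∀ P : Subgroup Ω, N.Hom P = (Cfsg.innerFusionSystem (Cfsg.FusionSystem.normalizerIn S (Cfsg.thompsonSubgroupAOf S))).Hom P) : ∀ P : Subgroup Ω, F.Hom P = (Cfsg.innerFusionSystem S).Hom P := by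
  set Z := (S ⊓ Subgroup.centralizer (S : Set Ω) : Subgroup Ω) with hZ
  have hJS := Fus.thompsonA_le S
  have hNJ : FusionSystem.normalizerIn S (thompsonSubgroupAOf S) = S := Fus.normalizerIn_thompsonA F
  have hfix : ∀ P f, Fus.IsMap F P f → thompsonSubgroupAOf S ≤ P →
      Fus.fimg f (thompsonSubgroupAOf S) = thompsonSubgroupAOf S → Fus.FixesExt F Z P f := by
    intro P f hf hJ hfJ
    obtain ⟨s, hs, e⟩ := Fus.inner_normalizer_of_hom hJS (hNJ.ge.trans inf_le_right) hN hf hJ hfJ
    refine ⟨fun x => s * x * s⁻¹, Fus.isMap_conj F (sup_le hf.source_le inf_le_left) hs,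
      fun x hx => (e x hx).symm, fun z hz => ?_⟩
    show s * z * s⁻¹ = z
    rw [Subgroup.mem_centralizer_iff.1 hz.2 s hs, mul_inv_cancel_right]
  obtain ⟨hZS, hZc⟩ := Fus.isCentral_iff.1 (Fus.isCentral_of_thompson_all hS hF hp le_rfl hfix)
  have hCS : FusionSystem.centralizerIn S Z = S :=
    le_antisymm inf_le_left fun s hs => Fus.mem_centralizerIn.2 ⟨hs, fun z hz =>
      (Subgroup.mem_centralizer_iff.1 hz.2 s hs).symm⟩
  intro P
  refine Fus.isInner_iff.1 (fun Q f hf => ?_) P
  obtain ⟨g, hg, hg1, hg2⟩ := hZc Q f hf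
  obtain ⟨φ, hφ, e⟩ := hf.exists_hom
  have hm : φ ∈ (Fus.centralizerSystem F Z hZS).Hom Q := by
    rw [Fus.isCentralizerSystem_centralizerSystem F hZS Q]
    exact Fus.mem_centralizerHom.2 ⟨hf.source_le.trans hCS.ge,
      fun x => hCS.ge ((F.le_of_mem hφ).2 x), g, hg, fun x => (hg1 x x.2).trans (e x).symm, hg2⟩
  rw [hC _ (Fus.isCentralizerSystem_centralizerSystem F hZS) Q] at hm
  obtain ⟨-, s, hs, hse⟩ := hm
  exact ⟨s, hCS.le hs, fun x hx => (e ⟨x, hx⟩).symm.trans (hse ⟨x, hx⟩)⟩

end Cfsg.Agent.S5194
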