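import Cfsg.Statements.S5196
import Cfsg.Agent.Lib.Fus.FunctorCenter
-- import your own Cfsg.Agent.* helpers here

set_option autoImplicit false
universe u
open Cfsg

namespace Cfsg.Agent.S5196

/-- Let p be an odd prime and W a positive characteristic p-functor: W assigns to every finite p-group Q (in a fixed universe) a subgroup W(Q), nontrivial when Q is, carried to W(R) by every isomorphism Q ≅ R; assume also Z(Q) ≤ W(Q) for every finite p-group Q. Suppose W satisfies the local condition: for every finite group G with Sylow p-subgroup P, O_p(G) ∩ Z(G) = O_p(G) ∩ Z(N_G(W(P))). Then W controls weak closure of elements in every saturated fusion system F over a finite p-group S: the centre of the normalizer fusion system of W(S) in F equals the centre of F. (For p = 2 no functor satisfies the local condition, so p is taken odd.) -/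
theorem result {p : ℕ} [Fact p.Prime] (hp : p ≠ 2) (W : ∀ (Q : Type u) [Group Q], Subgroup Q) (hW1 : ∀ (Q : Type u) [Group Q] [Finite Q], IsPGroup p Q → Nontrivial Q → W Q ≠ ⊥) (hW2 : ∀ (Q R : Type u) [Group Q] [Group R] [Finite Q], IsPGroup p Q → ∀ φ : Q ≃* R, (W Q).map φ.toMonoidHom = W R) (hWZ : ∀ (Q : Type u) [Group Q] [Finite Q], IsPGroup p Q → Subgroup.center Q ≤ W Q) (hC : ∀ (G : Type u) [Group G] [Finite G] (P : Sylow p G), Cfsg.pCore p G ⊓ Subgroup.center G = Cfsg.pCore p G ⊓ (Subgroup.center ↥(Subgroup.normalizer (((W ↥(P : Subgroup G)).map (P : Subgroup G).subtype : Subgroup G) : Set G))).map (Subgroup.normalizer (((W ↥(P : Subgroup G)).map (P : Subgroup G).subtype : Subgroup G) : Set G)).subtype) {Ω : Type u} [Group Ω] {S : Subgroup Ω} [Finite S] (hS : IsPGroup p S) (F : Cfsg.FusionSystem S) (hF : F.IsSaturated p) (N : Cfsg.FusionSystem (Cfsg.FusionSystem.normalizerIn S ((W ↥S).map S.subtype))) (hN : F.IsNormalizerSystem ((W ↥S).map S.subtype) N)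 : N.center = F.center := by
  classical
  have hWS : ((W ↥S).map S.subtype) ≤ S := Subgroup.map_subtype_le _
  have hbot : Fus.wMod W S ⊥ = ((W ↥S).map S.subtype) := Fus.wMod_bot W hW2 hS
  have := Fus.finite_of_le hWS
  have hSW : S ≤ FusionSystem.normalizerIn S ((W ↥S).map S.subtype) := Fus.le_normalizerIn_of_char hWS fun s hs x hx => by
    have hsn : S ≤ Subgroup.normalizer ((⊥ : Subgroup Ω) : Set Ω) := by
      rw [Subgroup.normalizer_eq_top]; exact le_top
    rw [← hbot] at hx ⊢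
    exact Fus.wMod_invariant W hW2 hS (Fus.isMap_conj F le_rfl hs)
      (Fus.fimg_eq_self_of_source_top (Fus.isMap_conj F le_rfl hs)) bot_le hsn
      (le_antisymm (Fus.fimg_le fun y hy => by
        rw [Subgroup.mem_bot] at hy ⊢; simp [hy]) bot_le) hx
  have : Finite ↥(FusionSystem.normalizerIn S ((W ↥S).map S.subtype)) := Fus.finite_of_le (S := S) inf_le_left
  refine le_antisymm (Fus.le_center ?_) (Fus.le_center ?_)
  · have hc := Fus.isCentral_center N
    have hcS : N.center ≤ S := hc.1.trans inf_le_left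
    refine Fus.isCentral_of_fixesElt hS hF (fun x hx => ⟨hcS hx,
      Subgroup.mem_centralizer_iff.2 fun s hs => ?_⟩) fun z hz P f hf => ?_
    · obtain ⟨g, -, hg1, hg2⟩ := (Fus.isCentral_iff.1 hc).2 _ _
        (Fus.isMap_conj N le_rfl (hSW hs))
      have h1 : g x = x := hg2 x hx
      have h2 : g x = s * x * s⁻¹ := hg1 x (hc.1 hx)
      rw [h2] at h1
      calc s * x = s * x * s⁻¹ * s := by group
        _ = x * s := by rw [h1]
    -- the local step
    refine Fus.functorInduction hS hF (Fus.isMapProp_fixesElt z) (Fus.wMod W) (Fus.wMod_le W)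
      (fun R X hR hXR hn => by
        have := Fus.finite_of_le hR
        exact Fus.lt_wMod W hW1 (hS.to_le hR) hXR hn)
      (fun R X hR hXR hn g hg hgR hgX x hx => by
        have := Fus.finite_of_le hR
        exact Fus.wMod_invariant W hW2 (hS.to_le hR) hg hgR hXR hn hgX hx) (W₀ := ⊥) bot_le ?_ ?_ hf
    · intro R E X hR hEF hEs _ hX hXp hcc _ hY P₁ f₁ hf₁ hzP
      have := Fus.finite_of_le hR
      have hRp := hS.to_le hR
      have hU := Fus.isNormal_core E
      have hzR : z ∈ R := hf₁.source_le hzP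
      have hzc : ∀ s ∈ R, s * z = z * s := fun s hs => by
        obtain ⟨g, -, hg1, hg2⟩ := (Fus.isCentral_iff.1 hc).2 _ _
          (Fus.isMap_conj N le_rfl (hSW (hR hs)))
        have h1 : s * z * s⁻¹ = z := (hg1 z (hc.1 hz)).symm.trans (hg2 z hz)
        calc s * z = s * z * s⁻¹ * s := by group
          _ = z * s := by rw [h1]
      have hzU : z ∈ E.core := hcc (Fus.mem_centralizerIn.2 ⟨hzR, fun y hy => hzc y (hU.1 hy)⟩)
      obtain ⟨M⟩ := Fus.exists_modelQuot hRp hEs hX hcc
      set Y := Fus.wMod W R X with hYdef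
      have hzc' : M.π (M.ι ⟨z, hzR⟩) ∈ Subgroup.center M.Q := by
        have hzO : M.π (M.ι ⟨z, hzR⟩) ∈ pCore p M.Q := M.pCore_eq ▸ ⟨⟨z, hzR⟩, hzU, rfl⟩
        have h := hC M.Q M.P
        refine (h.ge ?_).2
        refine ⟨hzO, ?_⟩
        rw [M.map_wMod W hRp hW2 hX]
        set Nn := Subgroup.normalizer
          ((((Fus.wMod W R X).subgroupOf R).map (M.π.comp M.ι) : Subgroup M.Q) : Set M.Q) with hNn
        have hcomm : ∀ n ∈ Nn, n * M.π (M.ι ⟨z, hzR⟩) = M.π (M.ι ⟨z, hzR⟩) * n := by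
          intro n hn
          obtain ⟨l, rfl⟩ := M.surj n
          have hYl : ∀ y : R, (y : Ω) ∈ Y → ∃ y' : R, (y' : Ω) ∈ Y ∧ M.ι y' = l * M.ι y * l⁻¹ := by
            intro y hy
            obtain ⟨y₁, hy₁, e⟩ := (Subgroup.mem_normalizer_iff.1 hn _).1 ⟨y, hy, rfl⟩
            have e : M.π (M.ι y₁) = M.π (l * M.ι y * l⁻¹) := by
              rw [map_mul, map_mul, map_inv]; exact e
            obtain ⟨x, hx, e'⟩ : (M.ι y₁)⁻¹ * (l * M.ι y * l⁻¹) ∈ (X.subgroupOf R).map M.ι := by
              rw [← M.ker_π, MonoidHom.mem_ker, map_mul, map_inv, e, inv_mul_cancel]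
            exact ⟨y₁ * x, Y.mul_mem hy₁ (Fus.le_wMod W hX.1 (Fus.le_normalizer_of_isNormal hX) hx),
              by rw [map_mul, e', mul_inv_cancel_left]⟩
          have hUl : ∀ y : R, (y : Ω) ∈ E.core →
              ∃ y' : R, (y' : Ω) ∈ E.core ∧ M.ι y' = l * M.ι y * l⁻¹ := fun y hy => by
            obtain ⟨y', hy', e⟩ := M.core_normal.conj_mem (M.ι y) ⟨y, hy, rfl⟩ l
            exact ⟨y', hy', e⟩
          have hle : E.core ⊔ Y ≤ R := sup_le hU.1 (Fus.wMod_le W R X)
          obtain ⟨g, hg, hge⟩ := Fus.exists_isMap_of_conj M.realized hle l fun y hy => by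
            have hK : E.core ⊔ Y ≤
                ((M.ι.range.comap ((MulAut.conj l).toMonoidHom.comp M.ι))).map R.subtype :=
              sup_le (fun y hy => ⟨⟨y, hU.1 hy⟩, (hUl ⟨y, hU.1 hy⟩ hy).elim
                  fun a ha => ⟨a, ha.2⟩, rfl⟩)
                fun y hy => ⟨⟨y, Fus.wMod_le W R X hy⟩, (hYl ⟨y, Fus.wMod_le W R X hy⟩ hy).elim
                  fun a ha => ⟨a, ha.2⟩, rfl⟩
            obtain ⟨s, hs, e⟩ := hK hy
            rw [show y = s from Subtype.ext e.symm]
            exact hs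
          have hgY : Fus.fimg g Y = Y := by
            have := Fus.finite_of_le (Fus.wMod_le W R X)
            refine Subgroup.eq_of_le_of_card_ge (Fus.fimg_le fun y hy => ?_)
              (hg.res le_sup_right).card_fimg.ge
            obtain ⟨y₂, he, hι⟩ := hge ⟨y, Fus.wMod_le W R X hy⟩ (Subgroup.mem_sup_right hy)
            obtain ⟨y', hy', e⟩ := hYl ⟨y, Fus.wMod_le W R X hy⟩ hy
            rw [show g y = y' by rw [← M.realized.1 (hι.trans e.symm)]; exact he.symm]
            exact hy'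
          have hgz : g z = z := hY _ g hg le_sup_right hgY (Subgroup.mem_sup_left hzU)
          obtain ⟨y₂, he, hι⟩ := hge ⟨z, hzR⟩ (Subgroup.mem_sup_left hzU)
          rw [show y₂ = ⟨z, hzR⟩ from Subtype.ext (he.trans hgz)] at hι
          rw [← map_mul, ← map_mul]
          congr 1
          conv_rhs => rw [hι]
          group
        have hzN : M.π (M.ι ⟨z, hzR⟩) ∈ Nn := by
          refine Subgroup.centralizer_le_normalizer _ (Subgroup.mem_centralizer_iff.2 ?_)
          rintro _ ⟨y, -, rfl⟩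
          show M.π (M.ι y) * M.π (M.ι ⟨z, hzR⟩) = M.π (M.ι ⟨z, hzR⟩) * M.π (M.ι y)
          rw [← map_mul, ← map_mul, ← map_mul, ← map_mul,
            show y * ⟨z, hzR⟩ = ⟨z, hzR⟩ * y from Subtype.ext (hzc y y.2)]
        exact ⟨⟨_, hzN⟩, Subgroup.mem_center_iff.2 fun n => Subtype.ext (hcomm n n.2), rfl⟩
      obtain ⟨g, hg, hg1, hgU⟩ := (Fus.isNormal_iff.1 hU).2 P₁ f₁ hf₁
      obtain ⟨α, hα, hαe⟩ := (hg.res le_sup_right).exists_aut hgU
      rw [← hg1 z hzP, ← hαe z hzU]
      refine Fus.fixes_of_mod hRp hEs hU hX (Fus.le_core hX) hXp ⊤ hzU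
        (Subgroup.mem_centralizer_iff.2 fun s hs => hzc s hs) (fun κ _ => ?_) ⟨α, hα⟩ trivial
      have hκm := (Fus.mem_autGroup hU.1).1 κ.2
      obtain ⟨l, hl⟩ := Fus.exists_conj_of_isMap M.realized hκm
      have h1 := congrArg M.π (hl ⟨z, hzR⟩ hzU)
      rw [map_mul, map_mul, map_inv, Subgroup.mem_center_iff.1 hzc', mul_inv_cancel_right] at h1
      set κz : R := ⟨Fus.autFun (κ : MulAut ↥E.core) z, hκm.apply_mem hzU⟩ with hκz
      show (((⟨z, hzR⟩ : R)⁻¹ * κz : R) : Ω) ∈ X
      rw [← M.ker_comp _ hX.1, map_mul, map_inv, map_mul, map_inv, h1, inv_mul_cancel]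
    · intro P₁ f₁ hf₁ hWP hfW hzP
      rw [hbot] at hWP hfW
      have hm : Fus.IsMap N P₁ f₁ := by
        obtain ⟨φ, hφ, e⟩ := hf₁.exists_hom
        refine ⟨φ, ?_, e⟩
        rw [hN]
        exact Fus.mem_normalizerHom.2 ⟨hf₁.source_le.trans hSW,
          fun x => e x ▸ hSW (hf₁.apply_mem x.2), f₁, by rw [sup_eq_left.2 hWP]; exact hf₁,
          fun x => (e x).symm, hfW⟩
      obtain ⟨g, -, hg1, hg2⟩ := (Fus.isCentral_iff.1 hc).2 _ _ hm
      exact (hg1 z hzP).symm.trans (hg2 z hz)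
  · have hc := Fus.isCentral_center F
    refine Fus.isCentral_iff.2 ⟨hc.1.trans hSW, fun P f hf => ?_⟩
    obtain ⟨φ, hφ, e⟩ := hf.exists_hom
    rw [hN] at hφ
    obtain ⟨hP, hfP, k, hk, hk1, hk2⟩ := Fus.mem_normalizerHom.1 hφ
    obtain ⟨g, hg, hg1, hg2⟩ := (Fus.isCentral_iff.1 hc).2 _ k hk
    have hgW : Fus.fimg g ((W ↥S).map S.subtype) = ((W ↥S).map S.subtype) :=
      (Fus.fimg_congr fun x hx => hg1 x (Subgroup.mem_sup_right hx)).trans hk2
    have hm : P ⊔ F.center ≤ P ⊔ ((W ↥S).map S.subtype) ⊔ F.center := sup_le_sup_right le_sup_left _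
    obtain ⟨ψ, hψ, eψ⟩ := (hg.res hm).exists_hom
    refine ⟨g, ⟨ψ, ?_, eψ⟩, fun x hx => ?_, hg2⟩
    · rw [hN]
      refine Fus.mem_normalizerHom.2 ⟨sup_le hP (hc.1.trans hSW),
        fun x => hSW (eψ x ▸ hg.apply_mem (hm x.2)), g,
        hg.res (sup_le hm (le_sup_right.trans le_sup_left)), fun x => (eψ x).symm, hgW⟩
    · rw [hg1 x (Subgroup.mem_sup_left hx), hk1 ⟨x, hx⟩, e]

end Cfsg.Agent.S5196
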