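import Cfsg.Statements.S5197
import Cfsg.Agent.Lib.Fus.FunctorTransfer
-- import your own Cfsg.Agent.* helpers here

set_option autoImplicit false
universe u
open Cfsg

namespace Cfsg.Agent.S5197

/-- Let p be a prime and W a positive characteristic p-functor: W assigns to every finite p-group Q (in a fixed universe) a subgroup W(Q), nontrivial when Q is, carried to W(R) by every isomorphism Q ≅ R. Suppose W satisfies the local condition: for every finite group G with Sylow p-subgroup P such that C_G(O_p(G)) ≤ O_p(G), one has O_p(G) ∩ [G, G] = O_p(G) ∩ [N, N] for N = N_G(W(P)). Then W controls transfer in every saturated fusion system F over a finite p-group S: the focal subgroup of F equals the focal subgroup of the normalizer fusion system of W(S) in F. -/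
theorem result {p : ℕ} [Fact p.Prime] (W : ∀ (Q : Type u) [Group Q], Subgroup Q) (hW1 : ∀ (Q : Type u) [Group Q] [Finite Q], IsPGroup p Q → Nontrivial Q → W Q ≠ ⊥) (hW2 : ∀ (Q R : Type u) [Group Q] [Group R] [Finite Q], IsPGroup p Q → ∀ φ : Q ≃* R, (W Q).map φ.toMonoidHom = W R) (hT : ∀ (G : Type u) [Group G] [Finite G] (P : Sylow p G), Subgroup.centralizer ((Cfsg.pCore p G : Subgroup G) : Set G) ≤ Cfsg.pCore p G → Cfsg.pCore p G ⊓ commutator G = Cfsg.pCore p G ⊓ (commutator ↥(Subgroup.normalizer (((W ↥(P : Subgroup G)).map (P : Subgroup G).subtype : Subgroup G) : Set G))).map (Subgroup.normalizer (((W ↥(P : Subgroup G)).map (P : Subgroup G).subtype : Subgroup G) : Set G)).subtype) {Ω : Type u} [Group Ω] {S : Subgroup Ω} [Finite S] (hS : IsPGroup p S) (F : Cfsg.FusionSystem S) (hF : F.IsSaturated p) (N : Cfsg.FusionSystem (Cfsg.FusionSystem.normalizerIn S ((W ↥S).map S.subtype))) (hN : F.IsNormalizerSystem ((W ↥S).map S.subtype) N) : N.focalSubgroup = F.focalSubgroup := by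
  have hW : Fus.TransferFunctor W p := ⟨hW1, hW2, hT⟩
  have hWS : Fus.wSub W S ≤ S := Fus.wSub_le S
  obtain rfl : N = Fus.normalizerSystem F ((W ↥S).map S.subtype) hWS :=
    Fus.isNormalizerSystem_unique hN (Fus.isNormalizerSystem_normalizerSystem F hWS)
  have hSn : S ≤ FusionSystem.normalizerIn S ((W ↥S).map S.subtype) := le_inf le_rfl
    (Subgroup.le_normalizer.trans (Fus.normalizer_le_normalizer_wSub hW hS))
  refine le_antisymm (Fus.focalSubgroup_le_iff.2 fun P f hf x hx => ?_) ?_
  · exact (hf.mono (Fus.normalizerSystem_isSubsystemOf hWS)).focal_mem hx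
  refine (Fus.focal_le_wMoves hW _ Ω S F hS hF rfl).trans ((Subgroup.closure_le _).2 ?_)
  rintro _ ⟨P, f, x, hf, hP, hfW, hx, rfl⟩
  have hm : Fus.IsMap (Fus.normalizerSystem F ((W ↥S).map S.subtype) hWS) P f :=
    (Fus.isMap_normalizerSystem hWS).2 ⟨hf.source_le.trans hSn,
      fun y hy => hSn (hf.apply_mem hy), f, hf.res (sup_le le_rfl hP), fun _ _ => rfl, hfW⟩
  exact hm.focal_mem hx

end Cfsg.Agent.S5197
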