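import Cfsg.Statements.S5206
import Cfsg.Agent.Lib.Fus.QdWitness
-- import your own Cfsg.Agent.* helpers here

set_option autoImplicit false
universe u
open Cfsg

namespace Cfsg.Agent.S5206

/-- Let p be an odd prime, G a finite group and P a Sylow p-subgroup of G. Then the fusion system of G on P is Qd(p)-free (Qd(p), the natural semidirect product of an elementary abelian group of order p² by SL₂(p), is not involved in any model of the normalizer system of a fully normalized centric subgroup) if and only if Qd(p) is not involved in G. -/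
theorem result {G : Type u} [Group G] [Finite G] {p : ℕ} [Fact p.Prime] (hp : p ≠ 2) (P : Sylow p G) : (Cfsg.groupFusionSystem (P : Subgroup G)).IsSectionFree p ↥(Cfsg.qd p) ↔ ¬ Cfsg.Involves ↥(Cfsg.qd p) G := by
  haveI : Finite ↥(P : Subgroup G) := inferInstance
  have hr : (groupFusionSystem (P : Subgroup G)).IsRealizedBy (P : Subgroup G).subtype :=
    ⟨Subtype.val_injective, fun Q hQ φ hφ => ⟨fun h => h.2.2, fun ⟨g, hg⟩ => ⟨hQ, hφ, g, hg⟩⟩⟩
  rw [Fus.isSectionFree_qd_iff P.2 (Fus.isSaturated_group P),
    Fus.involves_iff_qdWitness P.2 hr P (Subgroup.range_subtype _).symm]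

end Cfsg.Agent.S5206
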