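import Cfsg.Statements.S5214
import Cfsg.Agent.Lib.Fus.SuzukiTwo
import Cfsg.Agent.Lib.Fus.NormalCrit
-- import your own Cfsg.Agent.* helpers here

set_option autoImplicit false
open Cfsg
open scoped commutatorElement

namespace Cfsg.Agent.S5214

/-- Let S be a Suzuki 2-group (a finite nonabelian 2-group with more than one involution admitting a cyclic group of automorphisms permuting its involutions regularly). Then S is normal in every saturated fusion system over S (such a group is resistant). -/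
theorem result {Ω : Type*} [Group Ω] {S : Subgroup Ω} [Finite S] (hS : IsPGroup 2 S) (F : Cfsg.FusionSystem S) (hF : F.IsSaturated 2) (hsz : Cfsg.IsSuzukiTwoGroup ↥S) : F.IsNormal S := by
  haveI : Fact (Nat.Prime 2) := ⟨Nat.prime_two⟩
  obtain ⟨hc, -, -, hcm⟩ := Cfsg.Agent.Fus.Suzuki.structure_of_isSuzuki ↥S hsz
  let Z : Subgroup Ω :=
    { carrier := {x | x ∈ S ∧ x * x = 1}
      one_mem' := ⟨S.one_mem, one_mul 1⟩
      mul_mem' := fun {a b} ha hb => ⟨S.mul_mem ha.1 hb.1, by
        have h : b * a = a * b := congrArg Subtype.val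
          (Subgroup.mem_center_iff.1 (hc ⟨a, ha.1⟩ (Subtype.ext ha.2)) ⟨b, hb.1⟩)
        rw [mul_assoc, ← mul_assoc b a, h, ← mul_assoc, ← mul_assoc, ha.2, one_mul, hb.2]⟩
      inv_mem' := fun {a} ha => ⟨S.inv_mem ha.1, by rw [← mul_inv_rev, ha.2, inv_one]⟩ }
  have hZS : Z ≤ S := fun x hx => hx.1
  have hSc : F.StronglyClosed S := ⟨le_rfl, fun R _ φ hφ x => (F.le_of_mem hφ).2 x⟩
  have hZc : F.StronglyClosed Z := ⟨hZS, fun R hR φ hφ x => ⟨(F.le_of_mem hφ).2 x, by
    rw [← map_mul, show x * x = 1 from Subtype.ext (hR x.2).2, map_one]⟩⟩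
  have key := Cfsg.Agent.Fus.isNormal_of_chain (F := F) hS hF (n := 2) ![⊥, Z, S] rfl
    (by
      intro i j hij
      fin_cases i <;> fin_cases j <;> simp at hij ⊢ <;> exact hZS)
    (by
      intro i
      fin_cases i
      · refine ⟨hZc, (Subgroup.commutator_le).2 fun g hg z hz => ?_⟩
        have h : g * z = z * g := congrArg Subtype.val
          (Subgroup.mem_center_iff.1 (hc ⟨z, hz.1⟩ (Subtype.ext hz.2)) ⟨g, hg⟩)
        show ⁅g, z⁆ ∈ (⊥ : Subgroup Ω)
        rw [Subgroup.mem_bot, commutatorElement_eq_one_iff_mul_comm, h]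
      · refine ⟨hSc, (Subgroup.commutator_le).2 fun g hg h hh => ?_⟩
        show ⁅g, h⁆ ∈ Z
        rw [commutatorElement_def]
        exact ⟨S.mul_mem (S.mul_mem (S.mul_mem hg hh) (S.inv_mem hg)) (S.inv_mem hh),
          congrArg Subtype.val (hcm ⟨g, hg⟩ ⟨h, hh⟩)⟩)
  exact key

end Cfsg.Agent.S5214
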