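import Cfsg.Prelude
import Cfsg.Agent.Lib.Invol.RealizeDihQuat
import Cfsg.Agent.Lib.Invol.RealizeQEight
import Cfsg.Agent.Lib.Invol.RealizeModelSD
import Cfsg.Agent.Lib.Invol.RealizeWreathed
-- import your own Cfsg.Agent.* helpers here

set_option autoImplicit false
open Cfsg

open scoped Pointwise commutatorElement

namespace Cfsg.Agent.S5248

/-- Let S be a finite 2-group that is dihedral of order at least 8, generalized quaternion of order at least 8, semidihedral, or wreathed, and let F be a saturated fusion system over S. Then F has at most two F-conjugacy classes of F-essential subgroups (among any three essential subgroups two are joined by a map of F), and F is realizable: it is the fusion system of a finite group on a Sylow 2-subgroup. -/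
theorem result {Ω : Type*} [Group Ω] {S : Subgroup Ω} [Finite S] (hS : IsPGroup 2 S) (F : Cfsg.FusionSystem S) (hF : F.IsSaturated 2) (hshape : ((∃ m : ℕ, 4 ≤ m ∧ Nonempty (↥S ≃* DihedralGroup m)) ∨ (∃ m : ℕ, 2 ≤ m ∧ Nonempty (↥S ≃* QuaternionGroup m)) ∨ Cfsg.IsQuasiDihedral ↥S ∨ Cfsg.IsWreathed ↥S)) : (∀ E₁ E₂ E₃ : Subgroup Ω, F.IsEssential 2 E₁ → F.IsEssential 2 E₂ → F.IsEssential 2 E₃ → (∃ φ ∈ F.Hom E₁, φ.range = E₂) ∨ (∃ φ ∈ F.Hom E₁, φ.range = E₃) ∨ (∃ φ ∈ F.Hom E₂, φ.range = E₃)) ∧ F.IsRealizable 2 := by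
  haveI : Fact (Nat.Prime 2) := ⟨Nat.prime_two⟩
  obtain ⟨N, hN⟩ := IsPGroup.iff_card.1 hS
  rcases hshape with ⟨m, hm, ⟨e⟩⟩ | ⟨m, hm, ⟨e⟩⟩ | hqd | hw
  · have hcard : Nat.card (DihedralGroup m) = 2 ^ N := (Nat.card_congr e.toEquiv).symm.trans hN
    rw [DihedralGroup.nat_card] at hcard
    obtain ⟨k, -, rfl⟩ := (Nat.dvd_prime_pow Nat.prime_two).1 (Dvd.intro_left 2 hcard)
    have hk : 2 ≤ k := by
      rcases k with _ | _ | k
      · simp at hm
      · simp at hm
      · omega
    exact Cfsg.Agent.Invol.TwoFrame.main_dihedral hS hk e F hF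
  · haveI : NeZero m := ⟨by omega⟩
    have hcard : Nat.card (QuaternionGroup m) = 2 ^ N := (Nat.card_congr e.toEquiv).symm.trans hN
    rw [Nat.card_eq_fintype_card, QuaternionGroup.card] at hcard
    obtain ⟨k, -, rfl⟩ := (Nat.dvd_prime_pow Nat.prime_two).1 (Dvd.intro_left 4 hcard)
    rcases k with _ | _ | k
    · simp at hm
    · let e' : ↥S ≃* QuaternionGroup 2 := e
      refine Cfsg.Agent.Invol.TwoFrame.main_q8 hS e' ?_ ?_ F hF
      · rw [Nat.card_congr (MulAut.congr e').toEquiv]
        exact Cfsg.Agent.Invol.TwoFrame.card_mulAut_q8_le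
      · rw [Cfsg.Agent.Invol.TwoFrame.card_inn_congr e']
        refine le_antisymm ?_ Cfsg.Agent.Invol.TwoFrame.four_le_inn_q8
        let f := (MulAut.conj : QuaternionGroup 2 →* MulAut (QuaternionGroup 2))
        have h1 := f.ker.card_mul_index
        rw [Subgroup.index_ker, Nat.card_eq_fintype_card (α := QuaternionGroup 2),
          QuaternionGroup.card] at h1
        have h2 : 2 ≤ Nat.card f.ker := by
          have hmem : ∀ q : QuaternionGroup 2, QuaternionGroup.a 2 * q * (QuaternionGroup.a 2)⁻¹ = q := by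
            decide
          let g : Fin 2 → f.ker := ![1, ⟨QuaternionGroup.a 2, MulEquiv.ext hmem⟩]
          have hne : (QuaternionGroup.a 2 : QuaternionGroup 2) ≠ 1 := by decide
          have hg : Function.Injective g := by
            intro a b hab
            fin_cases a <;> fin_cases b <;> first
              | rfl
              | exact absurd (congrArg Subtype.val hab) hne
              | exact absurd (congrArg Subtype.val hab).symm hne
          simpa using Nat.card_le_card_of_injective g hg
        show Nat.card f.range ≤ 4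
        nlinarith
    · exact Cfsg.Agent.Invol.TwoFrame.main_quat hS (by omega) e F hF
  · exact Cfsg.Agent.Invol.TwoFrame.main_semidihedral hS hqd F hF
  · exact Cfsg.Agent.Invol.TwoFrame.main_wreathed hS hw F hF

end Cfsg.Agent.S5248
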