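import Cfsg.Statements.S5217
import Cfsg.Agent.Lib.Fus.Bicyclic.Transfer

set_option autoImplicit false
open Cfsg

namespace Cfsg.Agent.S5217

/-- Let S be a finite bicyclic 2-group (S = ⟨x⟩⟨y⟩) that is not metacyclic. Then S supports a saturated fusion system other than its inner fusion system if and only if the commutator subgroup of S is cyclic. -/
theorem result {Ω : Type*} [Group Ω] {S : Subgroup Ω} [Finite S] (hS : IsPGroup 2 S) (hb : ∃ x y : ↥S, ∀ g : ↥S, ∃ i j : ℤ, g = x ^ i * y ^ j) (hm : ¬ Cfsg.IsMetacyclic ↥S) : (∃ F : Cfsg.FusionSystem S, F.IsSaturated 2 ∧ ¬ ∀ P : Subgroup Ω, F.Hom P = (Cfsg.innerFusionSystem S).Hom P) ↔ IsCyclic ↥(commutator ↥S) := by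
  obtain ⟨x, y, h⟩ := hb
  constructor
  · rintro ⟨F, hF, hne⟩
    exact Cfsg.Agent.Fus.Bicyclic.cyclic_of_noninner hS h hm hF hne
  · exact fun hc => Cfsg.Agent.Fus.Bicyclic.exists_noninner hS h hm hc

end Cfsg.Agent.S5217
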