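import Cfsg.Statements.S5219
import Cfsg.Agent.Lib.Fus.ClassBound
-- import your own Cfsg.Agent.* helpers here

set_option autoImplicit false
open Cfsg

namespace Cfsg.Agent.S5219

/-- Let p be a prime, n a natural number, S a nontrivial finite p-group of nilpotence class at most n(p−1)+1, and F a saturated fusion system over S with no nontrivial normal subgroup (O_p(F) = 1). Then S has exponent dividing p^(n²(p−1)+n). -/
theorem result {Ω : Type*} [Group Ω] {S : Subgroup Ω} [Finite S] (p : ℕ) [Fact p.Prime] (hS : IsPGroup p S) (F : Cfsg.FusionSystem S) (hF : F.IsSaturated p) (n : ℕ) (hS1 : S ≠ ⊥) (hcl : Subgroup.lowerCentralSeries S (n * (p - 1) + 1) = ⊥) (hcore : F.core = ⊥) : Monoid.exponent ↥S ∣ p ^ (n ^ 2 * (p - 1) + n) := by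
  have hN := Agent.Fus.isNormal_powerClosure_center hS hF hcl
  have hW : Cfsg.powerClosure p n (S ⊓ Subgroup.centralizer (S : Set Ω)) = ⊥ :=
    le_bot_iff.1 (hcore ▸ Agent.Fus.le_core hN)
  have hz : ∀ z ∈ Subgroup.center S, z ^ p ^ n = 1 := by
    intro z hz
    have hmem : (z : Ω) ^ p ^ n ∈ Cfsg.powerClosure p n (S ⊓ Subgroup.centralizer (S : Set Ω)) :=
      Subgroup.subset_closure (show (z : Ω) ^ p ^ n ∈
        {y : Ω | ∃ x ∈ S ⊓ Subgroup.centralizer (S : Set Ω), y = x ^ p ^ n} from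
        ⟨z, ⟨z.2, Subgroup.mem_centralizer_iff.2 fun y hy =>
          congrArg Subtype.val (Subgroup.mem_center_iff.1 hz ⟨y, hy⟩)⟩, rfl⟩)
    rw [hW, Subgroup.mem_bot] at hmem
    exact Subtype.ext hmem
  have htop : Subgroup.lowerCentralSeries (⊤ : Subgroup S) (n * (p - 1) + 1) = ⊥ := by
    rw [← Subgroup.map_eq_bot_iff_of_injective _ S.subtype_injective,
      Subgroup.top_subtype_lowerCentralSeries]
    exact hcl
  refine Monoid.exponent_dvd_of_forall_pow_eq_one fun x => ?_
  have := Agent.Fus.pow_eq_one_of_center htop hz x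
  rw [← pow_mul] at this
  rwa [show n ^ 2 * (p - 1) + n = n * (n * (p - 1) + 1) by ring]

end Cfsg.Agent.S5219
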