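import Cfsg.Statements.S5220
import Cfsg.Agent.Lib.Fus.JInduction
-- import your own Cfsg.Agent.* helpers here

set_option autoImplicit false
open Cfsg

namespace Cfsg.Agent.S5220

/-- Let F be a saturated fusion system over a nontrivial finite p-group S, let J(S) be the subgroup generated by the abelian subgroups of S of largest order, and let V be the subgroup generated by the p-th powers of the elements of Z(S). Then F is generated by the centralizer fusion system of V and the normalizer fusion system of J(S): every fusion system over S containing the maps of both contains every map of F. -/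
theorem result {Ω : Type*} [Group Ω] {S : Subgroup Ω} [Finite S] (p : ℕ) [Fact p.Prime] (hS : IsPGroup p S) (F : Cfsg.FusionSystem S) (hF : F.IsSaturated p) (hS1 : S ≠ ⊥) (C : Cfsg.FusionSystem (Cfsg.FusionSystem.centralizerIn S (Cfsg.powerClosure p 1 (S ⊓ Subgroup.centralizer (S : Set Ω))))) (hC : F.IsCentralizerSystem (Cfsg.powerClosure p 1 (S ⊓ Subgroup.centralizer (S : Set Ω))) C) (N : Cfsg.FusionSystem (Cfsg.FusionSystem.normalizerIn S (Cfsg.thompsonSubgroupAOf S))) (hN : F.IsNormalizerSystem (Cfsg.thompsonSubgroupAOf S) N) (E : Cfsg.FusionSystem S) (hCE : C.IsSubsystemOf E) (hNE : N.IsSubsystemOf E) : F.IsSubsystemOf E := by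
  intro P φ hφ
  have key : ∀ P f, Fus.IsMap F P f → Fus.IsMap E P f := by
    intro P f hf
    have hJS : thompsonSubgroupAOf S ≤ S := Fus.thompsonA_le S
    have hNJ : S ≤ FusionSystem.normalizerIn S (thompsonSubgroupAOf S) := fun s hs => by
      have key : ∀ {s : Ω}, s ∈ S → ∀ x ∈ thompsonSubgroupAOf S, s * x * s⁻¹ ∈
          thompsonSubgroupAOf S := fun {s} hs x hx => by
        have hm := Fus.isMap_conj F le_rfl hs
        have h1 := hm.map_thompsonA (R := S) hJS fun y hy => hm.apply_mem (hJS hy)
        exact h1.le (Fus.apply_mem_fimg _ hx)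
      exact ⟨hs, Fus.mem_normalizer_of_forall (key hs) fun x hx => by
        simpa using key (inv_mem hs) x hx⟩
    set V := powerClosure p 1 (S ⊓ Subgroup.centralizer (S : Set Ω)) with hV
    have hVc : V ≤ S ⊓ Subgroup.centralizer (S : Set Ω) := (Subgroup.closure_le _).2
      fun y ⟨x, hx, e⟩ => e ▸ (pow_mem hx _)
    have hCS : S ≤ FusionSystem.centralizerIn S V := fun s hs => Fus.mem_centralizerIn.2
      ⟨hs, fun v hv => (Subgroup.mem_centralizer_iff.1 (hVc hv).2 s hs).symm⟩
    refine Fus.forall_of_thompson_powers hS hF (D := fun P f => Fus.IsMap E P f)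
      ⟨fun P f g h e => h.congr e, fun P Q f g _ _ h h1 h2 => h1.comp h2 h,
        fun P Q f _ h1 h2 => h2.res h1⟩ le_rfl ?_ ?_ hf
    · intro P f hf hJP hfJ
      obtain ⟨φ, hφ, e⟩ := hf.exists_hom
      refine ⟨φ, hNE P ?_, e⟩
      rw [hN P]
      exact Fus.mem_normalizerHom.2 ⟨hf.source_le.trans hNJ,
        fun x => e x ▸ hNJ (hf.apply_mem x.2), f, by rw [sup_eq_left.2 hJP]; exact hf,
        fun x => (e x).symm, hfJ⟩
    · intro P f hf hVP hfV
      obtain ⟨φ, hφ, e⟩ := hf.exists_hom
      refine ⟨φ, hCE P ?_, e⟩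
      rw [hC P]
      exact Fus.mem_centralizerHom.2 ⟨hf.source_le.trans hCS,
        fun x => e x ▸ hCS (hf.apply_mem x.2), f, by rw [sup_eq_left.2 hVP]; exact hf,
        fun x => (e x).symm, hfV⟩
  exact Fus.mem_hom_iff.2 (key _ _ (Fus.mem_hom_iff.1 hφ))

end Cfsg.Agent.S5220
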