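import Cfsg.Statements.S5222
import Cfsg.Agent.Lib.Fus.HyperfocalApp
-- import your own Cfsg.Agent.* helpers here

set_option autoImplicit false
open Cfsg

namespace Cfsg.Agent.S5222

/-- Let F be a saturated fusion system over a finite p-group S whose normalizer fusion system of S is the inner fusion system of S (Aut_F(S) is a p-group). Then for every subgroup Q of S with [S, S] ≤ Q ≤ Φ(S), the normalizer fusion system of Q in F is the inner fusion system of N_S(Q) = S. -/
theorem result {Ω : Type*} [Group Ω] {S : Subgroup Ω} [Finite S] (p : ℕ) [Fact p.Prime] (hS : IsPGroup p S) (F : Cfsg.FusionSystem S) (hF : F.IsSaturated p) (hN : ∀ N : Cfsg.FusionSystem (Cfsg.FusionSystem.normalizerIn S S), F.IsNormalizerSystem S N → ∀ P : Subgroup Ω, N.Hom P = (Cfsg.innerFusionSystem (Cfsg.FusionSystem.normalizerIn S S)).Hom P) (Q : Subgroup Ω) (h1 : (commutator ↥S).map S.subtype ≤ Q) (h2 : Q ≤ (frattini ↥S).map S.subtype) : ∀ N : Cfsg.FusionSystem (Cfsg.FusionSystem.normalizerIn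 S Q), F.IsNormalizerSystem Q N → ∀ P : Subgroup Ω, N.Hom P = (Cfsg.innerFusionSystem (Cfsg.FusionSystem.normalizerIn S Q)).Hom P := by
  rw [Subgroup.map_subtype_commutator] at h1
  have hQS : Q ≤ S := h2.trans (Subgroup.map_subtype_le _)
  have hR : FusionSystem.normalizerIn S Q = S := by
    refine le_antisymm inf_le_left fun s hs => ⟨hs, ?_⟩
    have key : ∀ t ∈ S, ∀ z ∈ Q, t * z * t⁻¹ ∈ Q := fun t ht z hz => by
      have h3 := mul_mem (h1 (Subgroup.commutator_mem_commutator ht (hQS hz))) hz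
      simpa [commutatorElement_def] using h3
    exact Cfsg.Agent.Fus.mem_normalizer_of_forall (key s hs) fun x hx => by
      simpa using key _ (S.inv_mem hs) x hx
  have hQn : F.IsFullyNormalized Q :=
    ⟨hQS, fun R _ => by rw [hR]; exact Subgroup.card_le_of_le inf_le_left⟩
  intro N hNs
  rw [Cfsg.Agent.Fus.isNormalizerSystem_unique hNs
    (Cfsg.Agent.Fus.isNormalizerSystem_normalizerSystem F hQS)]
  refine Cfsg.Agent.Fus.isInner_iff.1 (Cfsg.Agent.Fus.isInner_of_normal_between hS hF h1 h2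
    (fun α hα => Cfsg.Agent.Fus.top_inner_of_normalizer hN hα) hR _
    (Cfsg.Agent.Fus.isSaturated_normalizerSystem hS hF hQn)
    (Cfsg.Agent.Fus.normalizerSystem_isSubsystemOf hQS) ?_)
  refine Cfsg.Agent.Fus.isNormal_iff.2 ⟨hR.symm ▸ hQS, fun P f hf => ?_⟩
  obtain ⟨-, -, g, hg, hg1, hg2⟩ := (Cfsg.Agent.Fus.isMap_normalizerSystem hQS).1 hf
  refine ⟨g, (Cfsg.Agent.Fus.isMap_normalizerSystem hQS).2 ⟨?_, fun x hx => ?_, g, ?_,
    fun x _ => rfl, hg2⟩, hg1, hg2⟩
  · exact hg.source_le.trans hR.ge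
  · exact hR.ge (hg.apply_mem hx)
  · rwa [sup_assoc, sup_idem]

end Cfsg.Agent.S5222
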