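import Cfsg.Statements.S5223
import Cfsg.Agent.Lib.Fus.NormalCrit
import Cfsg.Agent.S5083
-- import your own Cfsg.Agent.* helpers here

set_option autoImplicit false
open Cfsg

namespace Cfsg.Agent.S5223

/-- Let F be a saturated fusion system over a finite p-group S. Suppose there are subgroups Q₀ = S, Q₁, …, Qₙ = 1 (not required to be nested) such that for each i < n the focal subgroup of Qᵢ (generated by the elements x⁻¹φ(x), x ∈ Qᵢ, φ a map of F defined on the cyclic group generated by x) lies in Qᵢ₊₁. Then F is the inner fusion system of S. -/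
theorem result {Ω : Type*} [Group Ω] {S : Subgroup Ω} [Finite S] (p : ℕ) [Fact p.Prime] (hS : IsPGroup p S) (F : Cfsg.FusionSystem S) (hF : F.IsSaturated p) (n : ℕ) (Q : Fin (n + 1) → Subgroup Ω) (hQ0 : Q 0 = S) (hQn : Q (Fin.last n) = ⊥) (hstep : ∀ i : Fin n, Subgroup.closure {y : Ω | ∃ x ∈ Q i.castSucc, ∃ φ ∈ F.Hom (Subgroup.zpowers x), y = x⁻¹ * φ ⟨x, Subgroup.mem_zpowers x⟩} ≤ Q i.succ) : ∀ P : Subgroup Ω, F.Hom P = (Cfsg.innerFusionSystem S).Hom P := by
  classical
  haveI hall : ∀ P : Subgroup Ω, P ≤ S → IsPGroup p (F.autGroup P) := by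
    intro P hPS α
    haveI := Cfsg.Agent.Fus.finite_of_le hPS
    obtain ⟨k, m, hm, hord⟩ := Nat.exists_eq_pow_mul_and_not_dvd
      (orderOf_pos α).ne' p (Fact.out : p.Prime).ne_one
    refine ⟨k, ?_⟩
    set β := α ^ p ^ k with hβ
    have hβm : (β : MulAut P) ^ m = 1 := by
      rw [← SubgroupClass.coe_pow, hβ, ← pow_mul, ← hord, pow_orderOf_eq_one]
      rfl
    have hmc : m.Coprime p := ((Fact.out : p.Prime).coprime_iff_not_dvd.2 hm).symm
    have hfix : ∀ i, ∀ x : P, (x : Ω) ∈ Q i → (β : MulAut P) x = x := by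
      intro i
      induction i using Fin.reverseInduction with
      | last =>
        intro x hx
        rw [hQn, Subgroup.mem_bot, OneMemClass.coe_eq_one] at hx
        rw [hx, map_one]
      | cast i ih =>
        intro x hx
        refine Cfsg.Agent.Fus.fix_step hS hPS _ hmc hβm (ih _ ?_)
        obtain ⟨φ, hφ, e⟩ := (((Cfsg.Agent.Fus.mem_autGroup hPS).1 β.2).res
          (Subgroup.zpowers_le.2 x.2)).exists_hom
        refine hstep i (Subgroup.subset_closure ⟨x, hx, φ, hφ, ?_⟩)
        rw [e ⟨x, Subgroup.mem_zpowers _⟩, Subgroup.coe_mul, Subgroup.coe_inv]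
        exact congrArg _ (Cfsg.Agent.Fus.autFun_coe (β : MulAut P) x).symm
    exact Subtype.ext (MulEquiv.ext fun x => hfix 0 x (by rw [hQ0]; exact hPS x.2))
  intro P
  rw [Cfsg.Agent.S5083.result p hS F hF hall]

end Cfsg.Agent.S5223
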