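import Cfsg.Statements.S5225
import Cfsg.Agent.Lib.Fus.Yoshida
-- import your own Cfsg.Agent.* helpers here

set_option autoImplicit false
open Cfsg

namespace Cfsg.Agent.S5225

/-- Yoshida's Theorem for fusion systems. Let F be a saturated fusion system over a finite p-group S and N the normalizer fusion system of S in F. If the focal subgroups of F and N differ (N does not control transfer in F), then S has a quotient isomorphic to the wreath product C_p ≀ C_p (realised as a Sylow p-subgroup of the symmetric group of degree p²). -/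
theorem result {Ω : Type*} [Group Ω] {S : Subgroup Ω} [Finite S] (p : ℕ) [Fact p.Prime] (hS : IsPGroup p S) (F : Cfsg.FusionSystem S) (hF : F.IsSaturated p) (N : Cfsg.FusionSystem (Cfsg.FusionSystem.normalizerIn S S)) (hN : F.IsNormalizerSystem S N) (hne : N.focalSubgroup ≠ F.focalSubgroup) : ∃ (W : Sylow p (Equiv.Perm (Fin (p ^ 2)))) (f : ↥S →* ↥(W : Subgroup (Equiv.Perm (Fin (p ^ 2))))), Function.Surjective f := by
  have hSS : FusionSystem.normalizerIn S S = S := Fus.normalizerIn_self S
  have hsub : N.IsSubsystemOf F := fun P φ hφ => by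
    rw [hN P] at hφ
    exact hφ.1
  have hle : N.focalSubgroup ≤ F.focalSubgroup :=
    Fus.focalSubgroup_le_iff.2 fun P f hf z hz => (Fus.IsMap.mono hsub hf).focal_mem hz
  refine Fus.yoshida hS hF ?_ hle (fun h => hne (le_antisymm hle h)) fun f hf z hz => ?_
  · have h := Fus.commutator_le_focal N
    exact (Subgroup.commutator_mono hSS.ge hSS.ge).trans h
  · obtain ⟨φ, hφ, he⟩ := hf.exists_hom
    have hmem : φ ∈ N.Hom S := by
      rw [hN S]
      refine ⟨hφ, hSS.ge, fun x => hSS.ge ((F.le_of_mem hφ).2 x), ?_⟩
      have hss : S ⊔ S = S := sup_idem S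
      refine ⟨φ.comp (Subgroup.inclusion hss.le), Fus.mem_hom_of_isMap ((Fus.isMap_toFun hφ).res hss.le)
        (fun x => (Fus.toFun_coe φ (Subgroup.inclusion hss.le x)).symm), fun x => rfl, ?_⟩
      refine le_antisymm ?_ fun y hy => ?_
      · rintro _ ⟨x, -, rfl⟩
        exact (F.le_of_mem hφ).2 _
      · have hbij : Function.Surjective (fun x : S => (⟨φ x, (F.le_of_mem hφ).2 x⟩ : S)) :=
          Finite.injective_iff_surjective.1 fun a b hab =>
            F.injective_of_mem hφ (congrArg Subtype.val hab)
        obtain ⟨x, hx⟩ := hbij ⟨y, hy⟩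
        exact ⟨Subgroup.inclusion hss.ge x, Subgroup.mem_subgroupOf.2 x.2,
          congrArg Subtype.val hx⟩
    have h := (Fus.isMap_toFun hmem).focal_mem hz
    rw [Fus.toFun_apply φ hz, he ⟨z, hz⟩] at h
    exact h

end Cfsg.Agent.S5225
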