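import Cfsg.Statements.S5226
import Cfsg.Agent.Lib.Fus.NormalCrit
-- import your own Cfsg.Agent.* helpers here

set_option autoImplicit false
open Cfsg

namespace Cfsg.Agent.S5226

/-- Let F be a saturated fusion system over a finite p-group S and Q a subgroup of S. Then Q is normal in F (F equals the normalizer system of Q) if and only if Q is strongly closed in F and admits a central series 1 = Q₀ ≤ Q₁ ≤ ⋯ ≤ Qₙ = Q ([Qᵢ₊₁, Q] ≤ Qᵢ) all of whose proper terms are weakly closed in F. -/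
theorem result {Ω : Type*} [Group Ω] {S : Subgroup Ω} [Finite S] (p : ℕ) [Fact p.Prime] (hS : IsPGroup p S) (F : Cfsg.FusionSystem S) (hF : F.IsSaturated p) (Q : Subgroup Ω) : F.IsNormal Q ↔ F.StronglyClosed Q ∧ ∃ (n : ℕ) (C : Fin (n + 1) → Subgroup Ω), C 0 = ⊥ ∧ C (Fin.last n) = Q ∧ Monotone C ∧ (∀ i : Fin n, ⁅C i.succ, Q⁆ ≤ C i.castSucc) ∧ ∀ i : Fin n, F.WeaklyClosed (C i.castSucc) := by
  classical
  have hwc : ∀ {A : Subgroup Ω}, F.StronglyClosed A → F.WeaklyClosed A := by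
    intro A hA
    refine ⟨hA.1, fun φ hφ => ?_⟩
    haveI := Cfsg.Agent.Fus.finite_of_le hA.1
    refine Subgroup.eq_of_le_of_card_ge ?_ ?_
    · rintro _ ⟨x, rfl⟩
      exact hA.2 A le_rfl φ hφ x
    · exact (Nat.card_congr (MonoidHom.ofInjective (F.injective_of_mem hφ)).toEquiv).le
  constructor
  · intro hQ
    obtain ⟨n, Qs, h0, hn, hmono, h⟩ := Cfsg.Agent.Fus.chain_of_isNormal hS hQ
    refine ⟨Cfsg.Agent.Fus.stronglyClosed_of_isNormal hQ, n, Qs, h0, hn, hmono,
      fun i => Subgroup.commutator_comm Q (Qs i.succ) ▸ (h i).2, fun i => ?_⟩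
    rcases eq_or_ne i.castSucc 0 with e | e
    · rw [e, h0]
      exact hwc (Cfsg.Agent.Fus.stronglyClosed_of_isNormal (Cfsg.Agent.Fus.isNormal_bot F))
    · obtain ⟨j, hj⟩ := Fin.eq_succ_of_ne_zero e
      rw [hj]
      exact hwc (h j).1
  · rintro ⟨hQ, n, C, h0, rfl, hmono, hcomm, hweak⟩
    refine Cfsg.Agent.Fus.isNormal_of_stronglyClosed hS hF hQ fun P hPc hPr => ?_
    have hPS := hPc.1
    have hCQ : ∀ i, C i ≤ C (Fin.last n) := fun i => hmono (Fin.le_last i)
    have hconj : ∀ i, ∀ s ∈ S, ∀ q ∈ C i, s * q * s⁻¹ ∈ C i := by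
      intro i s hs q hq
      induction i using Fin.lastCases with
      | last => exact Cfsg.Agent.Fus.StronglyClosed.conj_mem' hQ hs hq
      | cast j =>
        rw [← (hweak j).2 _ (F.conj_mem (hweak j).1 hs)]
        exact ⟨⟨q, hq⟩, rfl⟩
    suffices ∀ (i : ℕ) (hi : i < n + 1), C ⟨i, hi⟩ ≤ P from this n n.lt_succ_self
    intro i
    induction i using Nat.strong_induction_on with
    | _ i ih =>
      intro hi
      rcases Nat.eq_zero_or_pos i with rfl | hpos
      · rw [show (⟨0, hi⟩ : Fin (n + 1)) = 0 from rfl, h0]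
        exact bot_le
      obtain ⟨A, hA1, hA2⟩ : ∃ A : ℕ → Subgroup Ω, (∀ j (hj : j < i), A j = C ⟨j, by omega⟩) ∧
          A i = C (Fin.last n) :=
        ⟨fun j => if hj : j < i then C ⟨j, by omega⟩ else C (Fin.last n),
          fun j hj => dif_pos hj, dif_neg (lt_irrefl i)⟩
      refine Cfsg.Agent.Fus.le_of_chain_stab hS hPc hPr ((hCQ _).trans hQ.1) (hconj _) i A
        ?_ ?_ ?_ ?_
      · intro β hβ j hj x hx
        rcases hj.eq_or_lt with rfl | hj
        · rw [hA2] at hx ⊢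
          exact Cfsg.Agent.Fus.StronglyClosed.aut_apply_mem hQ hPS hβ hx
        · rw [hA1 j hj] at hx ⊢
          have hw : F.WeaklyClosed (C ⟨j, by omega⟩) := hweak ⟨j, by omega⟩
          have hjP := ih j hj (by omega)
          obtain ⟨φ, hφ, e⟩ := (((Cfsg.Agent.Fus.mem_autGroup hPS).1 hβ).res hjP).exists_hom
          rw [← Cfsg.Agent.Fus.autFun_coe, ← e ⟨x, hx⟩]
          exact (hw.2 φ hφ).le ⟨⟨x, hx⟩, rfl⟩
      · intro β _ m _ _ x hx
        rw [hA1 0 hpos, show (⟨0, _⟩ : Fin (n + 1)) = 0 from rfl, h0, Subgroup.mem_bot,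
          OneMemClass.coe_eq_one] at hx
        rw [hx, map_one]
      · intro q hq _ x hx
        rw [hA2, show x⁻¹ * (q * x * q⁻¹) = x⁻¹ * q * x⁻¹⁻¹ * q⁻¹ by group]
        exact mul_mem (hconj _ _ (S.inv_mem (hPS hx)) _ (hCQ _ hq)) (inv_mem (hCQ _ hq))
      · intro j hj q hq _ x hx hxA
        rw [hA1 j hj, show x⁻¹ * (q * x * q⁻¹) = x⁻¹ * q * x⁻¹⁻¹ * q⁻¹ by group,
          ← commutatorElement_def]
        have hc := hcomm ⟨j, by omega⟩
        rcases Nat.lt_or_ge (j + 1) i with hj1 | hj1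
        · rw [hA1 _ hj1] at hxA
          exact hc (Subgroup.commutator_mem_commutator (inv_mem hxA) (hCQ _ hq))
        · obtain rfl : i = j + 1 := by omega
          rw [hA2] at hxA
          refine hc ?_
          rw [Subgroup.commutator_comm]
          exact Subgroup.commutator_mem_commutator (inv_mem hxA) hq

end Cfsg.Agent.S5226
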