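import Cfsg.Statements.S5238
import Cfsg.Agent.Lib.Fus.PearlClass
-- import your own Cfsg.Agent.* helpers here

set_option autoImplicit false
open Cfsg

namespace Cfsg.Agent.S5238

/-- Let p be an odd prime and F a saturated fusion system over a finite p-group S having a pearl: an F-essential subgroup E that is elementary abelian of order p² or nonabelian of order p³. Then S has maximal nilpotency class (if S has order pⁿ with n ≥ 3, the term of index n − 2 of its lower central series, counting S itself as the term of index 0, is nontrivial), and every subgroup of S can be generated by at most p elements (the sectional rank of S is at most p). -/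
theorem result {Ω : Type*} [Group Ω] {S : Subgroup Ω} [Finite S] (p : ℕ) [Fact p.Prime] (hS : IsPGroup p S) (F : Cfsg.FusionSystem S) (hF : F.IsSaturated p) (hp : p ≠ 2) (E : Subgroup Ω) (hE : F.IsEssential p E) (hpearl : (Nat.card E = p ^ 2 ∧ ∀ x ∈ E, x ^ p = 1 ∧ IsMulCommutative ↥E) ∨ (Nat.card E = p ^ 3 ∧ ¬ IsMulCommutative ↥E)) : (∀ n : ℕ, Nat.card S = p ^ n → 3 ≤ n → Subgroup.lowerCentralSeries S (n - 2) ≠ ⊥) ∧ ∀ H : Subgroup Ω, H ≤ S → ∃ T : Finset Ω, T.card ≤ p ∧ Subgroup.closure (T : Set Ω) = H := by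
  classical
  have hpp : p.Prime := Fact.out
  have hp3 : 3 ≤ p := by have := hpp.two_le; omega
  haveI := Fus.finite_of_le hE.1.1
  obtain ⟨n, hn⟩ := IsPGroup.iff_card.1 hS
  have hcent : ∀ s : S, (∀ e : Ω, e ∈ E → e * s = s * e) → (s : Ω) ∈ E := fun s h =>
    Fus.centralizerIn_le_of_centric hE.1 (Fus.mem_centralizerIn.2 ⟨s.2, h⟩)
  set B := E.subgroupOf S with hBdef
  have hBcard : Nat.card B = Nat.card E :=
    Nat.card_congr (Subgroup.subgroupOfEquivOfLe hE.1.1).toEquiv
  have hC : Subgroup.centralizer (B : Set S) ≤ B := fun s hs => by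
    refine Subgroup.mem_subgroupOf.2 (hcent s fun e he => ?_)
    exact congrArg Subtype.val
      (Subgroup.mem_centralizer_iff.1 hs ⟨e, hE.1.1 he⟩ (Subgroup.mem_subgroupOf.2 he))
  have key : ∀ m, Nat.card S = p ^ m → 3 ≤ m → ∃ x : S, Fus.MC.Pearl S p m x := by
    intro m hm h3
    rcases hpearl with ⟨hc, hprop⟩ | ⟨hc, hna⟩
    · have hBc : Nat.card B = p ^ 2 := hBcard.trans hc
      refine Fus.MC.exists_pearl_sq hm h3 hBc (fun a ha => Subtype.ext ?_)
        (le_antisymm hC fun a ha => Subgroup.mem_centralizer_iff.2 fun b hb => ?_)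
      · exact (hprop a (Subgroup.mem_subgroupOf.1 ha)).1
      · exact congrArg Subtype.val
          (IsPGroup.commutative_of_card_eq_prime_sq hBc ⟨b, hb⟩ ⟨a, ha⟩)
    · have hBna : ¬ IsMulCommutative B := fun h => hna ⟨⟨fun a b => by
        have := congrArg (fun v : B => ((v : S) : Ω))
          (h.is_comm.comm ⟨⟨a, hE.1.1 a.2⟩, Subgroup.mem_subgroupOf.2 a.2⟩
            ⟨⟨b, hE.1.1 b.2⟩, Subgroup.mem_subgroupOf.2 b.2⟩)
        exact Subtype.ext this⟩⟩
      have hexp : ∀ x ∈ E, x ^ p = 1 := by
        rcases Fus.essential_card_cube hS hE hc with h | ⟨-, -, h⟩ | ⟨h2, -⟩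
        · exact absurd h.1 hna
        · exact h
        · exact absurd h2 hp
      exact Fus.MC.exists_pearl_cube hm (hBcard.trans hc) hBna
        (fun a ha => Subtype.ext (hexp a (Subgroup.mem_subgroupOf.1 ha))) hC
  refine ⟨fun m hm h3 => ?_, fun H hH => ?_⟩
  · obtain ⟨x, hx⟩ := key m hm h3
    intro h
    haveI : Group.IsNilpotent S := hS.isNilpotent
    have h' : (⊤ : Subgroup S).lowerCentralSeries (m - 2) = ⊥ := by
      rw [← Subgroup.map_eq_bot_iff_of_injective _ S.subtype_injective,
        Subgroup.top_subtype_lowerCentralSeries]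
      exact h
    have := Subgroup.lowerCentralSeries_eq_bot_iff_nilpotencyClass_le.1 h'
    have := hx.cls
    omega
  · suffices h : ∃ T : Finset S, T.card ≤ p ∧ Subgroup.closure (T : Set S) = H.subgroupOf S by
      obtain ⟨T, h1, h2⟩ := h
      refine ⟨T.image S.subtype, Finset.card_image_le.trans h1, ?_⟩
      rw [Finset.coe_image, ← MonoidHom.map_closure, h2, Subgroup.map_subgroupOf_eq_of_le hH]
    by_cases h3 : 3 ≤ n
    · obtain ⟨x, hx⟩ := key n hn h3
      exact Fus.MC.exists_gen hx _
    · -- order at most `p ^ 2`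
      have hsmall : Nat.card (H.subgroupOf S) ≤ p ^ 2 :=
        ((Subgroup.card_le_card_group _).trans hn.le).trans
          (Nat.pow_le_pow_right hpp.pos (by omega))
      have hpK : IsPGroup p (H.subgroupOf S) := hS.to_subgroup _
      obtain ⟨e, he⟩ := IsPGroup.iff_card.1 hpK
      have he2 : e ≤ 2 := by
        rw [he] at hsmall
        exact (Nat.pow_le_pow_iff_right hpp.one_lt).1 hsmall
      by_cases hcyc : ∃ a : S, Subgroup.zpowers a = H.subgroupOf S
      · obtain ⟨a, ha⟩ := hcyc
        exact ⟨{a}, by simp only [Finset.card_singleton]; omega,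
          by rw [Finset.coe_singleton, ← ha, Subgroup.zpowers_eq_closure]⟩
      push Not at hcyc
      obtain ⟨a, ha, ha1⟩ : ∃ a, a ∈ H.subgroupOf S ∧ a ≠ 1 := by
        by_contra hno
        push Not at hno
        refine hcyc 1 ?_
        rw [Subgroup.zpowers_one_eq_bot, eq_comm, Subgroup.eq_bot_iff_forall]
        exact hno
      obtain ⟨b, hb, hba⟩ := SetLike.not_le_iff_exists.1
        (show ¬ H.subgroupOf S ≤ Subgroup.zpowers a from fun hle =>
          hcyc a (le_antisymm (Subgroup.zpowers_le.2 ha) hle))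
      refine ⟨{a, b}, Finset.card_le_two.trans hpp.two_le, ?_⟩
      have hle : Subgroup.closure ((({a, b} : Finset S)) : Set S) ≤ H.subgroupOf S := by
        rw [Subgroup.closure_le]; simp [Set.insert_subset_iff, ha, hb]
      refine Subgroup.eq_of_le_of_card_ge hle ?_
      set K := Subgroup.closure ((({a, b} : Finset S)) : Set S) with hK
      have hzK : Subgroup.zpowers a ≤ K := Subgroup.zpowers_le.2 (Subgroup.subset_closure (by simp))
      obtain ⟨k, hk, hke⟩ := (Nat.dvd_prime_pow hpp).1 (he ▸ Subgroup.card_dvd_of_le hle)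
      obtain ⟨i, hi, hie⟩ := (Nat.dvd_prime_pow hpp).1 (hke ▸ Subgroup.card_dvd_of_le hzK)
      have hi0 : i ≠ 0 := by
        rintro rfl
        rw [pow_zero, Nat.card_zpowers, orderOf_eq_one_iff] at hie
        exact ha1 hie
      have hlt : Nat.card (Subgroup.zpowers a) < Nat.card K := by
        refine lt_of_le_of_ne (Subgroup.card_le_of_le hzK) fun eq => hba ?_
        rw [Subgroup.eq_of_le_of_card_ge hzK eq.ge]
        exact Subgroup.subset_closure (by simp)
      rw [hie, hke] at hlt
      have := (Nat.pow_lt_pow_iff_right hpp.one_lt).1 hlt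
      rw [he, hke]
      exact Nat.pow_le_pow_right hpp.pos (by omega)

end Cfsg.Agent.S5238
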