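import Cfsg.Statements.S5239
import Cfsg.Agent.Lib.Fus.MaxClassThree
import Cfsg.Agent.Lib.Fus.PearlClass
import Cfsg.Agent.Lib.Fus.PearlCube
-- import your own Cfsg.Agent.* helpers here

set_option autoImplicit false
open Cfsg

namespace Cfsg.Agent.S5239

/-- Let F be a saturated fusion system over a finite 3-group S having a pearl: an F-essential subgroup E that is elementary abelian of order 9 or nonabelian of order 27. Then either S is extraspecial of order 27 and exponent 3, or S has order at least 81 and every subgroup of S can be generated by at most two elements, or S is isomorphic to the wreath product C₃ ≀ C₃ (a Sylow 3-subgroup of the symmetric group of degree 9). -/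
theorem result {Ω : Type*} [Group Ω] {S : Subgroup Ω} [Finite S] (hS : IsPGroup 3 S) (F : Cfsg.FusionSystem S) (hF : F.IsSaturated 3) [Fact (Nat.Prime 3)] (E : Subgroup Ω) (hE : F.IsEssential 3 E) (hpearl : (Nat.card E = 9 ∧ ∀ x ∈ E, x ^ 3 = 1 ∧ IsMulCommutative ↥E) ∨ (Nat.card E = 27 ∧ ¬ IsMulCommutative ↥E)) : (Cfsg.IsExtraspecial 3 ↥S ∧ Nat.card S = 27 ∧ Monoid.exponent ↥S = 3) ∨ (81 ≤ Nat.card S ∧ ∀ H : Subgroup Ω, H ≤ S → ∃ T : Finset Ω, T.card ≤ 2 ∧ Subgroup.closure (T : Set Ω) = H) ∨ (∃ W : Sylow 3 (Equiv.Perm (Fin 9)), Nonempty (↥S ≃* ↥(W : Subgroup (Equiv.Perm (Fin 9))))) := by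
  classical
  have h2 : (3 : ℕ) ≠ 2 := by norm_num
  haveI := Fus.finite_of_le hE.1.1
  obtain ⟨n, hn⟩ := IsPGroup.iff_card.1 hS
  set B := E.subgroupOf S with hBdef
  have hBcard : Nat.card B = Nat.card E :=
    Nat.card_congr (Subgroup.subgroupOfEquivOfLe hE.1.1).toEquiv
  have hC : Subgroup.centralizer (B : Set S) ≤ B := fun s hs => by
    refine Subgroup.mem_subgroupOf.2 (Fus.centralizerIn_le_of_centric hE.1
      (Fus.mem_centralizerIn.2 ⟨s.2, fun e he => ?_⟩))
    exact congrArg Subtype.val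
      (Subgroup.mem_centralizer_iff.1 hs ⟨e, hE.1.1 he⟩ (Subgroup.mem_subgroupOf.2 he))
  -- the order is at least `27`, and order `27` is extraspecial of exponent `3`
  have hsmall : 3 ≤ n ∧
      (n = 3 → IsExtraspecial 3 ↥S ∧ Nat.card S = 27 ∧ Monoid.exponent ↥S = 3) := by
    rcases hpearl with ⟨hc, -⟩ | ⟨hc, hna⟩
    · obtain ⟨hne, h27⟩ := Fus.pearl_sq_proper hS hF h2 hE (hc.trans (by norm_num))
      refine ⟨?_, fun h => ?_⟩
      · have hlt : Nat.card B < Nat.card S := by
          refine lt_of_le_of_ne (Subgroup.card_le_card_group _) fun eq => hne ?_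
          refine le_antisymm hE.1.1 ?_
          exact Subgroup.subgroupOf_eq_top.1 (Subgroup.eq_top_of_card_eq _ eq)
        rw [hBcard, hc, hn, show (9 : ℕ) = 3 ^ 2 by norm_num] at hlt
        exact (Nat.pow_lt_pow_iff_right (by norm_num : 1 < 3)).1 hlt
      · subst h
        exact ⟨(h27 hn).1, hn.trans (by norm_num), (h27 hn).2⟩
    · refine ⟨?_, fun h => ?_⟩
      · have hle : Nat.card B ≤ Nat.card S := Subgroup.card_le_card_group _
        rw [hBcard, hc, hn, show (27 : ℕ) = 3 ^ 3 by norm_num] at hle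
        exact (Nat.pow_le_pow_iff_right (by norm_num : 1 < 3)).1 hle
      · subst h
        have hES : E = S := by
          refine le_antisymm hE.1.1
            (Subgroup.subgroupOf_eq_top.1 (Subgroup.eq_top_of_card_eq _ ?_))
          rw [← hBdef, hBcard, hc, hn]; norm_num
        subst hES
        rcases Fus.essential_card_cube hS hE (hc.trans (by norm_num)) with h | ⟨-, hX, hexp⟩ | ⟨hp2, -⟩
        · exact absurd h.1 hna
        · refine ⟨hX, hc, ?_⟩
          haveI : Nontrivial ↥E := Finite.one_lt_card_iff_nontrivial.1 (by rw [hc]; norm_num)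
          rcases (Nat.dvd_prime Nat.prime_three).1
            (Monoid.exponent_dvd_of_forall_pow_eq_one (G := ↥E)
              (fun v => Subtype.ext (hexp v v.2))) with h | h
          · obtain ⟨v, hv⟩ := exists_ne (1 : ↥E)
            exact absurd (by simpa [h] using Monoid.pow_exponent_eq_one v) hv
          · exact h
        · exact absurd hp2 h2
  obtain ⟨h3, hthree⟩ := hsmall
  rcases (by omega : n = 3 ∨ 4 ≤ n) with h | h4
  · exact Or.inl (hthree h)
  obtain ⟨x, hx⟩ : ∃ x : S, Fus.MC.Pearl S 3 n x := by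
    rcases hpearl with ⟨hc, hprop⟩ | ⟨hc, hna⟩
    · have hBc : Nat.card B = 3 ^ 2 := hBcard.trans (hc.trans (by norm_num))
      refine Fus.MC.exists_pearl_sq hn h3 hBc (fun a ha => Subtype.ext ?_)
        (le_antisymm hC fun a ha => Subgroup.mem_centralizer_iff.2 fun b hb => ?_)
      · exact (hprop a (Subgroup.mem_subgroupOf.1 ha)).1
      · exact congrArg Subtype.val
          ((IsPGroup.isMulCommutative_of_card_eq_prime_sq hBc).is_comm.comm ⟨b, hb⟩ ⟨a, ha⟩)
    · have hBna : ¬ IsMulCommutative B := fun h => hna ⟨⟨fun a b => by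
        have := congrArg (fun v : B => ((v : S) : Ω))
          (h.is_comm.comm ⟨⟨a, hE.1.1 a.2⟩, Subgroup.mem_subgroupOf.2 a.2⟩
            ⟨⟨b, hE.1.1 b.2⟩, Subgroup.mem_subgroupOf.2 b.2⟩)
        exact Subtype.ext this⟩⟩
      have hexp : ∀ x ∈ E, x ^ 3 = 1 := by
        rcases Fus.essential_card_cube hS hE (hc.trans (by norm_num)) with h | ⟨-, -, h⟩ | ⟨hp2, -⟩
        · exact absurd h.1 hna
        · exact h
        · exact absurd hp2 h2
      exact Fus.MC.exists_pearl_cube hn (hBcard.trans (hc.trans (by norm_num))) hBna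
        (fun a ha => Subtype.ext (hexp a (Subgroup.mem_subgroupOf.1 ha))) hC
  have h81 : 81 ≤ Nat.card S := by
    rw [hn]
    calc 81 = 3 ^ 4 := by norm_num
      _ ≤ 3 ^ n := Nat.pow_le_pow_right (by norm_num) h4
  have hlift : (∀ H : Subgroup S, ∃ T : Finset S, T.card ≤ 2 ∧ Subgroup.closure (T : Set S) = H) →
      ∀ H : Subgroup Ω, H ≤ S → ∃ T : Finset Ω, T.card ≤ 2 ∧ Subgroup.closure (T : Set Ω) = H := by
    intro hall H hH
    obtain ⟨T, ht1, ht2⟩ := hall (H.subgroupOf S)
    refine ⟨T.image S.subtype, Finset.card_image_le.trans ht1, ?_⟩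
    rw [Finset.coe_image, ← MonoidHom.map_closure, ht2, Subgroup.map_subgroupOf_eq_of_le hH]
  rcases (by omega : n = 4 ∨ 5 ≤ n) with h | h5
  · subst h
    by_cases hall : ∀ H : Subgroup S, ∃ T : Finset S, T.card ≤ 2 ∧ Subgroup.closure (T : Set S) = H
    · exact Or.inr (Or.inl ⟨h81, hlift hall⟩)
    refine Or.inr (Or.inr ?_)
    push Not at hall
    obtain ⟨H, hH⟩ := hall
    have hbad : ¬ (frattini H).index ≤ 3 ^ 2 := fun hle => by
      obtain ⟨T, ht1, ht2⟩ := Fus.MC.exists_gen_of_top (Fus.MC.two_gen (hS.to_subgroup H) hle)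
      exact hH T ht1 ht2
    have hne : H ≠ ⊤ := by
      rintro rfl
      have hle : (frattini S).index ≤ 3 ^ 2 := by
        refine le_trans (Nat.le_of_dvd ?_ (Subgroup.index_dvd_of_le ?_))
          (Fus.MC.lc_index hx (k := 1) le_rfl (by omega)).le
        · exact Nat.pos_of_ne_zero Subgroup.index_ne_zero_of_finite
        · rw [Fus.MC.lc, Subgroup.top_lowerCentralSeries_one]
          exact Grp.pGroup_commutator_le_frattini hS
      obtain ⟨T, ht1, ht2⟩ := Fus.MC.two_gen hS hle
      exact hH T ht1 ht2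
    obtain ⟨e, he1, he⟩ := (Nat.dvd_prime_pow Nat.prime_three).1
      (hn ▸ H.card_subgroup_dvd_card)
    have he4 : e ≠ 4 := fun eq => hne (Subgroup.eq_top_of_card_eq _ (by rw [he, hn, eq]))
    have hmul := (frattini H).index_mul_card
    have hdvd := (frattini H).index_dvd_card
    rw [he] at hdvd hmul
    obtain ⟨f, hf1, hf⟩ := (Nat.dvd_prime_pow Nat.prime_three).1 hdvd
    rw [hf] at hbad hmul
    have hf2 : 2 < f := by
      by_contra hc
      exact hbad (Nat.pow_le_pow_right (by norm_num) (by omega))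
    have he3 : e = 3 := by omega
    have hf3 : f = 3 := by omega
    subst he3; subst hf3
    have hbot : frattini H = ⊥ := Subgroup.card_eq_one.1
      (Nat.eq_of_mul_eq_mul_left (by norm_num : 0 < 3 ^ 3) (hmul.trans (mul_one _).symm))
    have hexp : ∀ a ∈ H, a ^ 3 = 1 := fun a ha => by
      have h := Grp.pGroup_pow_mem_frattini (hS.to_subgroup H) ⟨a, ha⟩
      rw [hbot, Subgroup.mem_bot] at h
      exact congrArg Subtype.val h
    have hcomm : ∀ a ∈ H, ∀ b ∈ H, a * b = b * a := fun a ha b hb => by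
      have h := Grp.pGroup_commutator_le_frattini (hS.to_subgroup H)
        (Subgroup.commutator_mem_commutator (Subgroup.mem_top ⟨a, ha⟩) (Subgroup.mem_top ⟨b, hb⟩))
      rw [hbot, Subgroup.mem_bot, commutatorElement_eq_one_iff_mul_comm] at h
      exact congrArg Subtype.val h
    exact Fus.MC.wreath hx rfl (he.trans (by norm_num)) hcomm hexp
  · exact Or.inr (Or.inl ⟨h81, hlift (Fus.MC.exists_gen_two hx h5)⟩)

end Cfsg.Agent.S5239
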