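import Cfsg.Statements.S5241
import Cfsg.Agent.Lib.Fus.QdWitness
-- import your own Cfsg.Agent.* helpers here

set_option autoImplicit false
open Cfsg

namespace Cfsg.Agent.S5241

/-- Let F be a saturated fusion system over a finite p-group S, Q a subgroup of S normal in F (so F is the normalizer system of Q), and suppose F is Qd(p)-free (Qd(p) is not involved in any model of the normalizer system of a fully normalized centric subgroup). Then every factor system F/Q is Qd(p)-free. -/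
theorem result {Ω : Type*} [Group Ω] {S : Subgroup Ω} [Finite S] (p : ℕ) [Fact p.Prime] (hS : IsPGroup p S) (F : Cfsg.FusionSystem S) (hF : F.IsSaturated p) (Q : Subgroup Ω) (hQ : F.IsNormal Q) (hfree : F.IsSectionFree p ↥(Cfsg.qd p)) {Ω' : Type*} [Group Ω'] {S' : Subgroup Ω'} (θ : ↥S →* Ω') (E : Cfsg.FusionSystem S') (hE : F.IsFactorSystem Q θ E) : E.IsSectionFree p ↥(Cfsg.qd p) := by
  obtain ⟨hQS, hker, hrange, hhom⟩ := hE
  subst hrange
  haveI : Finite ↥θ.range := Finite.of_surjective θ.rangeRestrict θ.rangeRestrict_surjective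
  refine Fus.isSectionFree_of_not_qdWitness
    (hS.of_surjective θ.rangeRestrict θ.rangeRestrict_surjective) fun hw => ?_
  obtain ⟨V', hV', φ, hφ, hA⟩ := hw
  refine (Fus.isSectionFree_qd_iff hS hF).1 hfree ?_
  set V := FusionSystem.preimageAlong θ V' with hV
  have hVS : V ≤ S := Subgroup.map_subtype_le _
  have hmem : ∀ v : V, θ ⟨v, hVS v.2⟩ ∈ V' := by
    rintro ⟨_, y, hy, rfl⟩
    exact hy
  let π : V →* V' := (θ.comp (Subgroup.inclusion hVS)).codRestrict V' hmem
  have hπ : Function.Surjective π := by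
    rintro ⟨y, hy⟩
    obtain ⟨x, rfl⟩ := hV' hy
    exact ⟨⟨x, x, hy, rfl⟩, rfl⟩
  refine ⟨V, hVS, φ.comp π, hφ.comp hπ, fun g => ?_⟩
  obtain ⟨α, hα, hαg⟩ := hA g
  obtain ⟨ψ, hψ, e⟩ := ((Fus.mem_autGroup hV').1 hα).exists_hom
  obtain ⟨-, χ, hχ, _, hχS, _, hχe⟩ := (hhom V' ψ).1 hψ
  have hχe' : ∀ v : V, θ ⟨χ v, hχS v⟩ = ((α (π v) : V') : _) := fun v =>
    ((hχe v).symm.trans (e _)).trans (Fus.autFun_coe α (π v))
  have hrc : χ.range = V := by
    haveI := Fus.finite_of_le hVS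
    refine Subgroup.eq_of_le_of_card_ge ?_
      (Nat.card_congr (MonoidHom.ofInjective (F.injective_of_mem hχ)).toEquiv).le
    rintro _ ⟨v, rfl⟩
    exact ⟨⟨χ v, hχS v⟩, show θ _ ∈ V' from hχe' v ▸ (α (π v)).2, rfl⟩
  let β : MulAut V :=
    (MonoidHom.ofInjective (F.injective_of_mem hχ)).trans (MulEquiv.subgroupCongr hrc)
  refine ⟨β, Subgroup.subset_closure (show V.subtype.comp β.toMonoidHom ∈ F.Hom V from ?_),
    fun v => ?_⟩
  · exact hχ
  · show φ (π (β v)) = _
    rw [show π (β v) = α (π v) from Subtype.ext (hχe' v)]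
    exact hαg (π v)

end Cfsg.Agent.S5241
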