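import Cfsg.Statements.S5244
import Cfsg.Agent.Lib.Fus.AbelianIndexP
-- import your own Cfsg.Agent.* helpers here

set_option autoImplicit false
open Cfsg

namespace Cfsg.Agent.S5244

/-- Let p be an odd prime, S a finite nonabelian p-group with a unique abelian subgroup A of index p, and F a saturated fusion system over S with no nontrivial normal subgroup (O_p(F) = 1) in which A is not F-essential. Then some subgroup Z(S)⟨x⟩ with x ∈ S outside A is F-essential, the centre Z(S) is contained in the commutator subgroup of S, and S has maximal nilpotency class (if S has order pⁿ with n ≥ 3, the term of index n − 2 of its lower central series, counting S itself as the term of index 0, is nontrivial). -/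
theorem result {Ω : Type*} [Group Ω] {S : Subgroup Ω} [Finite S] (p : ℕ) [Fact p.Prime] (hS : IsPGroup p S) (F : Cfsg.FusionSystem S) (hF : F.IsSaturated p) (hp : p ≠ 2) (hna : ¬ IsMulCommutative ↥S) (A : Subgroup Ω) (hA : A ≤ S ∧ IsMulCommutative ↥A ∧ (A.subgroupOf S).index = p) (huniq : ∀ B : Subgroup Ω, B ≤ S → IsMulCommutative ↥B → (B.subgroupOf S).index = p → B = A) (hcore : F.core = ⊥) (hAe : ¬ F.IsEssential p A) : (∃ x ∈ S, x ∉ A ∧ F.IsEssential p ((S ⊓ Subgroup.centralizer (S : Set Ω)) ⊔ Subgroup.zpowers x)) ∧ (S ⊓ Subgroup.centralizer (S : Set Ω)) ≤ (commutator ↥S).map S.subtype ∧ ∀ n : ℕ, Nat.card S = p ^ n → 3 ≤ n → Subgroup.lowerCentralSeries S (n - 2) ≠ ⊥ := by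
  obtain ⟨hAS, hAc, hidx⟩ := hA
  have hcomm : ∀ a ∈ A, ∀ b ∈ A, a * b = b * a := fun a ha b hb =>
    congrArg Subtype.val (hAc.is_comm.comm (⟨a, ha⟩ : A) ⟨b, hb⟩)
  have hna' : ¬ ∀ a ∈ S, ∀ b ∈ S, a * b = b * a := fun h =>
    hna ⟨⟨fun a b => Subtype.ext (h a a.2 b b.2)⟩⟩
  have hinv : ∀ γ : MulAut S, ∀ a ∈ A, Cfsg.Agent.Fus.autFun γ a ∈ A := by
    intro γ a ha
    let B : Subgroup Ω := ((A.subgroupOf S).map γ.toMonoidHom).map S.subtype
    have hB : B.subgroupOf S = (A.subgroupOf S).map γ.toMonoidHom :=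
      Subgroup.comap_map_eq_self_of_injective S.subtype_injective _
    have e : B = A := by
      refine huniq B (Subgroup.map_subtype_le _) ⟨⟨?_⟩⟩ ?_
      · rintro ⟨_, _, ⟨u, hu, rfl⟩, rfl⟩ ⟨_, _, ⟨v, hv, rfl⟩, rfl⟩
        refine Subtype.ext ?_
        have h : u * v = v * u := Subtype.ext (hcomm u (Subgroup.mem_subgroupOf.1 hu) v
          (Subgroup.mem_subgroupOf.1 hv))
        have h' := congrArg (fun w : S => ((γ w : S) : Ω)) h
        simpa [map_mul] using h'
      · rw [hB]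
        exact (Subgroup.index_map_equiv _ γ).trans hidx
    rw [← e]
    exact ⟨γ ⟨a, hAS ha⟩, ⟨⟨a, hAS ha⟩, Subgroup.mem_subgroupOf.2 ha, rfl⟩,
      (Cfsg.Agent.Fus.autFun_coe γ ⟨a, hAS ha⟩).symm⟩
  obtain ⟨h1, h2, h3⟩ := Cfsg.Agent.Fus.abelianIndexP_not_essential hS hF hp hna'
    (Cfsg.Agent.Fus.aiFrame_of_index hS hna' hAS hcomm hidx) hinv hcore hAe
  refine ⟨h1, h2, fun n hn => ?_⟩
  have hcard : Nat.card A * p = Nat.card S := by
    rw [← Nat.card_congr (Subgroup.subgroupOfEquivOfLe hAS).toEquiv, ← hidx]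
    exact (A.subgroupOf S).card_mul_index
  by_cases h : 3 ≤ n
  · exact fun _ => h3 n hn hcard h
  · exact fun h' => absurd h' h

end Cfsg.Agent.S5244
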