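import Cfsg.Statements.S5249
import Cfsg.Agent.Lib.Fus.ZJFunctor
import Cfsg.Agent.Lib.Grp.QuadraticGroup
-- import your own Cfsg.Agent.* helpers here

set_option autoImplicit false
open Cfsg

namespace Cfsg.Agent.S5249

/-- Let p be an odd prime, G a finite group in which Qd(p) (the natural semidirect product of an elementary abelian group of order p² by SL₂(p)) is not involved, and P a Sylow p-subgroup of G. Then the fusion system of G on P is a solvable fusion system. -/
theorem result {G : Type*} [Group G] [Finite G] {p : ℕ} [Fact p.Prime] (hp : p ≠ 2) (hqd : ¬ Cfsg.Involves ↥(Cfsg.qd p) G) (P : Sylow p G) : (Cfsg.groupFusionSystem (P : Subgroup G)).IsSolvableSystem := by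
  haveI : Finite ↥(P : Subgroup G) := inferInstance
  refine Fus.isSolvableSystem_of_free hp (fun L _ _ N _ h hN => Grp.Quad.isPStableOn_of_free hp h N hN)
    P.2 (Fus.isSaturated_group P) fun hw => hqd ?_
  have hr : (groupFusionSystem (P : Subgroup G)).IsRealizedBy (P : Subgroup G).subtype :=
    ⟨Subtype.val_injective, fun Q hQ φ hφ => ⟨fun h => h.2.2, fun ⟨g, hg⟩ => ⟨hQ, hφ, g, hg⟩⟩⟩
  exact (Fus.involves_iff_qdWitness P.2 hr P (Subgroup.range_subtype _).symm).2 hw

end Cfsg.Agent.S5249
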