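import Cfsg.Statements.S5251
import Cfsg.Agent.Lib.Fus.InvariantClass
-- import your own Cfsg.Agent.* helpers here

set_option autoImplicit false
open Cfsg

namespace Cfsg.Agent.S5251

/-- Let F be a saturated fusion system over a finite p-group S, E a normal subsystem of F over T, and P an F-centric subgroup of S such that P ∩ T is not E-centric. Then some F-conjugate P* of P satisfies Out_S(P*) ∩ O_p(Out_F(P*)) ≠ 1: there is an element of N_S(P*) outside P* whose conjugation action on P* lies in O_p(Aut_F(P*)). In particular P is not both centric and radical in F. -/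
theorem result {Ω : Type*} [Group Ω] {S : Subgroup Ω} [Finite S] (p : ℕ) [Fact p.Prime] (hS : IsPGroup p S) (F : Cfsg.FusionSystem S) (hF : F.IsSaturated p) {T : Subgroup Ω} (E : Cfsg.FusionSystem T) (hE : E.IsNormalIn F p) (P : Subgroup Ω) (hP : F.IsCentric P) (hPT : ¬ E.IsCentric (P ⊓ T)) : (∃ φ ∈ F.Hom P, ∃ x ∈ S ⊓ Subgroup.normalizer (φ.range : Set Ω), x ∉ φ.range ∧ ∃ α ∈ ((Cfsg.pCore p ↥(F.autGroup φ.range)).map (F.autGroup φ.range).subtype : Subgroup (MulAut ↥φ.range)), ∀ y : ↥φ.range, ((α y : ↥φ.range) : Ω) = x * (y : Ω) * x⁻¹) ∧ ¬ F.IsRadical p P := by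
  obtain ⟨u, hu, x, hx, hxP, a, ha, hax⟩ := Fus.InvClass.exists_core_aut hS hF hE.1.2.2 hP hPT
  refine ⟨?_, fun hrad => ?_⟩
  · obtain ⟨φ, hφ, hφe⟩ := hu.exists_hom
    rw [← hu.range_eq_fimg hφe] at hxP hx
    refine ⟨φ, hφ, x, hx, hxP, ?_⟩
    have key : ∀ Q : Subgroup Ω, Q = Fus.fimg u P → ∃ α ∈ ((pCore p ↥(F.autGroup Q)).map (F.autGroup Q).subtype : Subgroup (MulAut ↥Q)), ∀ y : ↥Q, ((α y : ↥Q) : Ω) = x * (y : Ω) * x⁻¹ := by
      rintro Q rfl
      exact ⟨a, ⟨a, ha, rfl⟩, hax⟩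
    exact key _ (hu.range_eq_fimg hφe)
  · obtain ⟨e, he, heA⟩ := Fus.exists_mulEquiv hu rfl
    let φ : ↥(F.autGroup P) →* ↥(F.autGroup (Fus.fimg u P)) :=
      ((MulAut.congr e).toMonoidHom.comp (F.autGroup P).subtype).codRestrict _
        fun b => (heA _).1 b.2
    have hφi : Function.Injective φ := fun b c h =>
      Subtype.ext ((MulAut.congr e).injective (congrArg Subtype.val h))
    haveI := Fus.finite_of_le hP.1
    haveI := Fus.finite_of_le hu.fimg_le_S
    obtain ⟨b, hb⟩ : ∃ b : ↥(F.autGroup P), φ b = a :=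
      ⟨⟨(MulAut.congr e).symm a, (heA _).2 (by rw [MulEquiv.apply_symm_apply]; exact a.2)⟩,
        Subtype.ext ((MulAut.congr e).apply_symm_apply _)⟩
    have hbK : b ∈ pCore p ↥(F.autGroup P) :=
      Grp.le_pCore ((Grp.pCore_isNormal (p := p) (G := ↥(F.autGroup (Fus.fimg u P)))).comap φ)
        ((Grp.pCore_isPGroup (p := p)).comap_of_injective φ hφi) (by
          show φ b ∈ pCore p ↥(F.autGroup (Fus.fimg u P))
          rw [hb]
          exact ha)
    have hinn : (b : MulAut ↥P) ∈ Inn ↥P := by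
      rw [← hrad.2]
      exact ⟨b, hbK, rfl⟩
    obtain ⟨y, hy⟩ := hinn
    have hxy : ∀ z : ↥(Fus.fimg u P), (((a : MulAut ↥(Fus.fimg u P)) z : ↥(Fus.fimg u P)) : Ω) = u y * z * (u y)⁻¹ := by
      intro z
      obtain ⟨w, rfl⟩ := e.surjective z
      rw [← hb, he, ← hu.map_conj y.2 w.2]
      show ((MulAut.congr e (b : MulAut ↥P) (e w) : ↥(Fus.fimg u P)) : Ω) = _
      rw [show MulAut.congr e (b : MulAut ↥P) (e w) = e ((b : MulAut ↥P) w) by simp [MulAut.congr],
        he, ← hy]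
      rfl
    apply hxP
    have hc : (u y)⁻¹ * x ∈ Cfsg.FusionSystem.centralizerIn S (Fus.fimg u P) := by
      refine Fus.mem_centralizerIn.2 ⟨S.mul_mem (S.inv_mem (hu.apply_mem y.2)) hx.1, fun z hz => ?_⟩
      have h1 := (hax ⟨z, hz⟩).symm.trans (hxy ⟨z, hz⟩)
      calc z * ((u y)⁻¹ * x) = (u y)⁻¹ * (u y * z * (u y)⁻¹) * x := by group
        _ = (u y)⁻¹ * (x * z * x⁻¹) * x := by rw [h1]
        _ = (u y)⁻¹ * x * z := by group
    have := (Fus.centric_of_isConj hP hu.isConj).2 _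
      (Fus.isConj_refl F hu.fimg_le_S) hc
    simpa using Subgroup.mul_mem _ (Fus.apply_mem_fimg u y.2) this

end Cfsg.Agent.S5251
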