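import Cfsg.Statements.S5253
import Cfsg.Agent.Lib.Fus.QuadPow
-- import your own Cfsg.Agent.* helpers here

set_option autoImplicit false
universe u
open Cfsg

namespace Cfsg.Agent.S5253

/-- Let p be a prime and W a positive characteristic p-functor with Z(Q) ≤ W(Q): W assigns to every finite p-group Q (in a fixed universe) a subgroup W(Q), nontrivial when Q is, carried to W(R) by every isomorphism Q ≅ R, and containing the centre of Q. Suppose that for every finite group G with Sylow p-subgroup P in which W(P) is not normal there is g ∈ P outside O_p(G) with [Z(O_p(G)), g, g] = 1. Then for every saturated fusion system F over a finite p-group S and every normalizer fusion system N of W(S) in F, every p-th power of an element of Z(S) that lies in the centre of N lies in the centre of F. -/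
theorem result {p : ℕ} [Fact p.Prime] (W : ∀ (Q : Type u) [Group Q], Subgroup Q) (hW1 : ∀ (Q : Type u) [Group Q] [Finite Q], IsPGroup p Q → Nontrivial Q → W Q ≠ ⊥) (hW2 : ∀ (Q R : Type u) [Group Q] [Group R] [Finite Q], IsPGroup p Q → ∀ φ : Q ≃* R, (W Q).map φ.toMonoidHom = W R) (hWZ : ∀ (Q : Type u) [Group Q] [Finite Q], IsPGroup p Q → Subgroup.center Q ≤ W Q) (hq : ∀ (G : Type u) [Group G] [Finite G] (P : Sylow p G), ¬ (((W ↥(P : Subgroup G)).map (P : Subgroup G).subtype : Subgroup G)).Normal → ∃ g : G, g ∈ (P : Subgroup G) ∧ g ∉ Cfsg.pCore p G ∧ ⁅⁅Subgroup.center ↥(Cfsg.pCore p G) |>.map (Cfsg.pCore p G).subtype, Subgroup.zpowers g⁆, Subgroup.zpowers g⁆ = ⊥) {Ω : Type u} [Group Ω] {S : Subgroup Ω} [Finite S] (hS : IsPGroup p S) (F : Cfsg.FusionSystem S) (hF : F.IsSaturated p) (N : Cfsg.FusionSystem (Cfsg.FusionSystem.normalizerIn S ((W ↥S).map S.subtype))) (hN : F.IsNormalizerSystem ((W ↥S).map S.subtype) N) : Subgroup.closure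 ((fun z => z ^ p) '' ((S ⊓ Subgroup.centralizer (S : Set Ω) : Subgroup Ω) : Set Ω)) ⊓ N.center ≤ F.center := by
  classical
  set Z₀ := S ⊓ Subgroup.centralizer (S : Set Ω) with hZ₀
  set V₀ := Subgroup.closure ((fun z => z ^ p) '' (Z₀ : Set Ω)) with hV₀
  have hWS : (W ↥S).map S.subtype ≤ S := Subgroup.map_subtype_le _
  have hbot : Fus.wMod W S ⊥ = (W ↥S).map S.subtype := Fus.wMod_bot W hW2 hS
  have := Fus.finite_of_le hWS
  have hSW : S ≤ FusionSystem.normalizerIn S ((W ↥S).map S.subtype) :=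
    Fus.le_normalizerIn_of_char hWS fun s hs x hx => by
      have hsn : S ≤ Subgroup.normalizer ((⊥ : Subgroup Ω) : Set Ω) := by
        rw [Subgroup.normalizer_eq_top]; exact le_top
      rw [← hbot] at hx ⊢
      exact Fus.wMod_invariant W hW2 hS (Fus.isMap_conj F le_rfl hs)
        (Fus.fimg_eq_self_of_source_top (Fus.isMap_conj F le_rfl hs)) bot_le hsn
        (le_antisymm (Fus.fimg_le fun y hy => by
          rw [Subgroup.mem_bot] at hy ⊢; simp [hy]) bot_le) hx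
  have : Finite ↥(FusionSystem.normalizerIn S ((W ↥S).map S.subtype)) :=
    Fus.finite_of_le (S := S) inf_le_left
  have hc := Fus.isCentral_center N
  have hV₀Z : V₀ ≤ Z₀ := (Subgroup.closure_le _).2 fun y ⟨x, hx, e⟩ => e ▸ Z₀.pow_mem hx p
  refine Fus.le_center (Fus.isCentral_of_fixesElt hS hF (fun x hx => hV₀Z hx.1) fun z hz P f hf => ?_)
  refine Fus.functorInduction hS hF (Fus.isMapProp_fixesElt z) (Fus.wMod W) (Fus.wMod_le W)
    (fun R X hR hXR hn => by
      have := Fus.finite_of_le hR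
      exact Fus.lt_wMod W hW1 (hS.to_le hR) hXR hn)
    (fun R X hR hXR hn g hg hgR hgX x hx => by
      have := Fus.finite_of_le hR
      exact Fus.wMod_invariant W hW2 (hS.to_le hR) hg hgR hXR hn hgX hx)
    (W₀ := Z₀) le_rfl ?_ ?_ hf
  · intro R E X hR hEF hEs hZR hX hXp hcc hbig hY P₁ f₁ hf₁
    have := Fus.finite_of_le hR
    have hRp := hS.to_le hR
    have hU := Fus.isNormal_core E
    have hDE := (Fus.isMapProp_fixesElt (F := F) z).mono hEF
    have hZc : ∀ y ∈ Z₀, ∀ s ∈ R, s * y = y * s := fun y hy s hs =>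
      Subgroup.mem_centralizer_iff.1 hy.2 s (hR hs)
    have hZU : ∀ y ∈ Z₀, y ∈ E.core := fun y hy =>
      hcc (Fus.mem_centralizerIn.2 ⟨hZR hy, fun u hu => hZc y hy u (hU.1 hu)⟩)
    obtain ⟨M⟩ := Fus.exists_modelQuot hRp hEs hX hcc
    by_cases hnW : (((W ↥(M.P : Subgroup M.Q)).map (M.P : Subgroup M.Q).subtype : Subgroup M.Q)).Normal
    · exact Fus.forall_of_isNormal hDE (M.forall_of_normal W hRp hW2 hX hnW) hY hf₁
    obtain ⟨g, hgP, hgO, hgq⟩ := hq M.Q M.P hnW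
    set C := pCore p M.Q with hC
    set V := (Subgroup.center ↥C).map C.subtype with hVdef
    have hCn : C.Normal := Grp.pCore_isNormal
    have hVC : ∀ {v}, v ∈ V ↔ v ∈ C ∧ ∀ c ∈ C, c * v = v * c := fun {v} => by
      constructor
      · rintro ⟨w, hw, rfl⟩
        exact ⟨w.2, fun c hc => congrArg Subtype.val (Subgroup.mem_center_iff.1 hw ⟨c, hc⟩)⟩
      · rintro ⟨h1, h2⟩
        exact ⟨⟨v, h1⟩, Subgroup.mem_center_iff.2 fun c => Subtype.ext (h2 c c.2), rfl⟩
    have hVn : ∀ (l : M.Q) {v}, v ∈ V → l * v * l⁻¹ ∈ V := fun l {v} hv => by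
      obtain ⟨h1, h2⟩ := hVC.1 hv
      refine hVC.2 ⟨hCn.conj_mem v h1 l, fun c hc => ?_⟩
      have h3 := h2 _ (hCn.conj_mem c hc l⁻¹)
      calc c * (l * v * l⁻¹) = l * ((l⁻¹ * c * l⁻¹⁻¹) * v) * l⁻¹ := by group
        _ = l * (v * (l⁻¹ * c * l⁻¹⁻¹)) * l⁻¹ := by rw [h3]
        _ = l * v * l⁻¹ * c := by group
    let pr : ↥R →* M.Q := M.π.comp M.ι
    have hker : ∀ r : ↥R, pr r = 1 ↔ (r : Ω) ∈ X := fun r => M.ker_comp r hX.1
    let VX : Subgroup ↥R := E.core.subgroupOf R ⊓ V.comap pr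
    have hVU : ∀ {v : ↥R}, v ∈ VX → ((v ^ p : ↥R) : Ω) ∈ E.core := fun hv => (VX.pow_mem hv p).1
    have hXsc := Fus.stronglyClosed_of_isNormal hX
    have hXU : X ≤ E.core := Fus.le_core hX
    let K : Subgroup ↥(E.autGroup E.core) :=
      { carrier := {κ | ∀ v ∈ VX,
          ((v ^ p : ↥R) : Ω)⁻¹ * Fus.autFun (κ : MulAut ↥E.core) ((v ^ p : ↥R) : Ω) ∈ X}
        one_mem' := fun v hv => by
          rw [OneMemClass.coe_one, Fus.autFun_one (hVU hv), inv_mul_cancel]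
          exact one_mem X
        mul_mem' := fun {a b} ha hb v hv => by
          have hwU : ((v ^ p : ↥R) : Ω) ∈ E.core := (hVU hv)
          set w := ((v ^ p : ↥R) : Ω) with hw
          have ham := (Fus.mem_autGroup hU.1).1 a.2
          have hd := hb v hv
          rw [Subgroup.coe_mul, Fus.autFun_mul _ _ hwU,
            show Fus.autFun (b : MulAut ↥E.core) w = w * (w⁻¹ * Fus.autFun (b : MulAut ↥E.core) w) by
              group,
            ham.map_mul hwU (hXU hd), ← mul_assoc]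
          exact X.mul_mem (ha v hv) (Fus.StronglyClosed.apply_mem hXsc (ham.res hXU) le_rfl hd)
        inv_mem' := fun {a} ha v hv => by
          have hwU : ((v ^ p : ↥R) : Ω) ∈ E.core := (hVU hv)
          set w := ((v ^ p : ↥R) : Ω) with hw
          have ham := (Fus.mem_autGroup hU.1).1 (a⁻¹).2
          have hd := Fus.StronglyClosed.apply_mem hXsc (ham.res hXU) le_rfl (X.inv_mem (ha v hv))
          rw [show ((w⁻¹ * Fus.autFun (a : MulAut ↥E.core) w)⁻¹) =
              (Fus.autFun (a : MulAut ↥E.core) w)⁻¹ * w by group,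
            ham.map_mul (E.core.inv_mem (Fus.autFun_mem _ hwU)) hwU,
            ham.map_inv (Fus.autFun_mem _ hwU), Subgroup.coe_inv, Fus.autFun_inv_apply _ hwU] at hd
          rw [Subgroup.coe_inv]
          exact hd }
    have hκπ : ∀ (κ : ↥(E.autGroup E.core)) (v : ↥R) (hv : (v : Ω) ∈ E.core),
        ∃ l : M.Q, pr ⟨Fus.autFun (κ : MulAut ↥E.core) v,
          hU.1 (Fus.autFun_mem _ hv)⟩ = l * pr v * l⁻¹ := fun κ v hv => by
      obtain ⟨l, hl⟩ := Fus.exists_conj_of_isMap M.realized ((Fus.mem_autGroup hU.1).1 κ.2)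
      refine ⟨M.π l, ?_⟩
      show M.π (M.ι _) = M.π l * M.π (M.ι v) * (M.π l)⁻¹
      rw [hl v hv, map_mul, map_mul, map_inv]
    have hKn : K.Normal := ⟨fun b hb a v hv => by
      set v' : ↥R := ⟨Fus.autFun ((a⁻¹ : ↥(E.autGroup E.core)) : MulAut ↥E.core) v,
        hU.1 (Fus.autFun_mem _ hv.1)⟩ with hv'
      have hv'X : v' ∈ VX := ⟨show (v' : Ω) ∈ E.core from Fus.autFun_mem _ hv.1, by
        obtain ⟨l, hl⟩ := hκπ a⁻¹ v hv.1
        show pr v' ∈ V
        rw [hv', hl]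
        exact hVn l hv.2⟩
      have hwU : ((v ^ p : ↥R) : Ω) ∈ E.core := (hVU hv)
      set w := ((v ^ p : ↥R) : Ω) with hw
      have hw' : Fus.autFun ((a⁻¹ : ↥(E.autGroup E.core)) : MulAut ↥E.core) w =
          ((v' ^ p : ↥R) : Ω) := by
        rw [hw, SubgroupClass.coe_pow, SubgroupClass.coe_pow,
          show (v : Ω) = ((⟨v, hv.1⟩ : ↥E.core) : Ω) from rfl, ← SubgroupClass.coe_pow,
          Fus.autFun_coe, map_pow, SubgroupClass.coe_pow, hv', ← Fus.autFun_coe]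
      have hd := hb v' hv'X
      have ham := (Fus.mem_autGroup hU.1).1 a.2
      have hu : ((v' ^ p : ↥R) : Ω) ∈ E.core := (hVU hv'X)
      rw [Subgroup.coe_mul, Subgroup.coe_mul, Fus.autFun_mul _ _ hwU,
        Fus.autFun_mul _ _ (Fus.autFun_mem _ hwU), hw',
        show Fus.autFun (b : MulAut ↥E.core) ((v' ^ p : ↥R) : Ω) = ((v' ^ p : ↥R) : Ω) *
          (((v' ^ p : ↥R) : Ω)⁻¹ * Fus.autFun (b : MulAut ↥E.core) ((v' ^ p : ↥R) : Ω)) by group,
        ham.map_mul hu (hXU hd), ← hw', ← Fus.autFun_mul _ _ hwU, ← Subgroup.coe_mul,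
        mul_inv_cancel, OneMemClass.coe_one, Fus.autFun_one hwU, inv_mul_cancel_left]
      rw [← hw'] at hd
      exact Fus.StronglyClosed.apply_mem hXsc (ham.res hXU) le_rfl hd⟩
    have hmod : ∀ y ∈ V₀, ∀ κ ∈ K, y⁻¹ * Fus.autFun (κ : MulAut ↥E.core) y ∈ X := by
      intro y hy κ hκ
      have hm := (Fus.mem_autGroup hU.1).1 κ.2
      induction hy using Subgroup.closure_induction with
      | mem w hw =>
        obtain ⟨x, hx, rfl⟩ := hw
        refine hκ ⟨x, hZR hx⟩ ⟨hZU x hx, hVC.2 ⟨?_, fun c hc => ?_⟩⟩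
        · rw [hC, M.pCore_eq]; exact ⟨⟨x, hZR hx⟩, hZU x hx, rfl⟩
        · rw [hC, M.pCore_eq] at hc
          obtain ⟨r, -, rfl⟩ := hc
          show pr r * pr ⟨x, hZR hx⟩ = pr ⟨x, hZR hx⟩ * pr r
          rw [← map_mul, ← map_mul,
            show r * ⟨x, hZR hx⟩ = ⟨x, hZR hx⟩ * r from Subtype.ext (hZc x hx r r.2)]
      | one => simp [hm.map_one]
      | mul a b ha hb iha ihb =>
        have haU := hZU a (hV₀Z ha)
        have hbU := hZU b (hV₀Z hb)
        have hfaU : Fus.autFun (κ : MulAut ↥E.core) a ∈ E.core := Fus.autFun_mem _ haU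
        rw [hm.map_mul haU hbU, show (a * b)⁻¹ *
            (Fus.autFun (κ : MulAut ↥E.core) a * Fus.autFun (κ : MulAut ↥E.core) b) =
            b⁻¹ * (a⁻¹ * Fus.autFun (κ : MulAut ↥E.core) a) * b⁻¹⁻¹ *
              (b⁻¹ * Fus.autFun (κ : MulAut ↥E.core) b) by group]
        exact X.mul_mem (Fus.StronglyClosed.conj_mem' hXsc (inv_mem (hU.1 hbU)) iha) ihb
      | inv a ha iha =>
        have haU := hZU a (hV₀Z ha)
        rw [hm.map_inv haU, show a⁻¹⁻¹ * (Fus.autFun (κ : MulAut ↥E.core) a)⁻¹ =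
          a * (a⁻¹ * Fus.autFun (κ : MulAut ↥E.core) a)⁻¹ * a⁻¹ by group]
        exact Fus.StronglyClosed.conj_mem' hXsc (hU.1 haU) (X.inv_mem iha)
    have hzc := hV₀Z hz.1
    obtain ⟨r, hr⟩ := M.range_eq.le hgP
    have hrU : (r : Ω) ∉ E.core := fun h => hgO (by rw [hC, M.pCore_eq, ← hr]; exact ⟨r, h, rfl⟩)
    have hex : ∃ k : ℕ, ((r ^ p ^ k : ↥R) : Ω) ∈ E.core := by
      obtain ⟨k, hk⟩ := hRp r
      exact ⟨k, by rw [hk]; exact E.core.one_mem⟩
    obtain ⟨k, hk⟩ : ∃ k, Nat.find hex = k + 1 := Nat.exists_eq_succ_of_ne_zero fun e => hrU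
      (by have := Nat.find_spec hex; rwa [e, pow_zero, pow_one] at this)
    set x := r ^ p ^ k with hx
    have hxU : (x : Ω) ∉ E.core := Nat.find_min hex (by omega)
    have hxp : ((x ^ p : ↥R) : Ω) ∈ E.core := by
      rw [hx, ← pow_mul, ← pow_succ, ← hk]
      exact Nat.find_spec hex
    have hxconj : ∀ v ∈ VX, ((v ^ p : ↥R) : Ω)⁻¹ *
        ((x : Ω) * ((v ^ p : ↥R) : Ω) * (x : Ω)⁻¹) ∈ X := fun v hv => by
      show (((v ^ p)⁻¹ * (x * v ^ p * x⁻¹) : ↥R) : Ω) ∈ X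
      rw [← hker, map_mul, map_inv, map_mul, map_mul, map_inv, map_pow]
      rw [Fus.conj_pow_eq_of_quad (G := M.Q) (V := V) (C := C) (g := g) (g' := pr x)
        (fun a ha b hb => (hVC.1 hb).2 a (hVC.1 ha).1) (fun c hc v hv => (hVC.1 hv).2 c hc)
        (by rw [hx, map_pow, show pr r = g from hr]; exact pow_mem (Subgroup.mem_zpowers g) _)
        (fun v hv => hVn _ hv) hgq
        (by rw [← map_pow, hC, M.pCore_eq]; exact ⟨x ^ p, hxp, rfl⟩) hv.2, inv_mul_cancel]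
    refine Fus.forall_of_kernel hRp hEs hDE hU hbig K ?_ ?_ x.2 hxU ?_ hf₁
    · rintro P₂ g₂ hUP hg₂ ⟨κ, hκ, e⟩ hzP
      rw [e z (hZU z hzc)]
      exact Fus.fixes_of_mod hRp hEs hU hX hXU hXp K (hZU z hzc)
        (Subgroup.mem_centralizer_iff.2 fun s hs => hZc z hzc s hs) (hmod z hz.1) κ hκ
    · intro y hy
      refine ⟨Fus.conjOn hU ⟨y, hU.1 hy⟩, fun v hv => ?_,
        fun u hu => (Fus.autFun_conjOn hU ⟨y, hU.1 hy⟩ hu).symm⟩
      rw [Fus.autFun_conjOn hU ⟨y, hU.1 hy⟩ (hVU hv)]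
      show (((v ^ p)⁻¹ * (⟨y, hU.1 hy⟩ * v ^ p * (⟨y, hU.1 hy⟩)⁻¹) : ↥R) : Ω) ∈ X
      rw [← hker, map_mul, map_inv, map_mul, map_mul, map_inv,
        ((hVC.1 ((VX.pow_mem hv p).2)).2 (pr ⟨y, hU.1 hy⟩)
          (by rw [hC, M.pCore_eq]; exact ⟨_, hy, rfl⟩)), mul_inv_cancel_right, inv_mul_cancel]
    · exact ⟨Fus.conjOn hU x, fun v hv => by
        rw [Fus.autFun_conjOn hU x (hVU hv)]
        exact hxconj v hv, fun u hu => (Fus.autFun_conjOn hU x hu).symm⟩
  · intro P₁ f₁ hf₁ hWP hfW hzP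
    rw [hbot] at hWP hfW
    have hm : Fus.IsMap N P₁ f₁ := by
      obtain ⟨φ, hφ, e⟩ := hf₁.exists_hom
      refine ⟨φ, ?_, e⟩
      rw [hN]
      exact Fus.mem_normalizerHom.2 ⟨hf₁.source_le.trans hSW,
        fun x => e x ▸ hSW (hf₁.apply_mem x.2), f₁, by rw [sup_eq_left.2 hWP]; exact hf₁,
        fun x => (e x).symm, hfW⟩
    obtain ⟨g, -, hg1, hg2⟩ := (Fus.isCentral_iff.1 hc).2 _ _ hm
    exact (hg1 z hzP).symm.trans (hg2 z hz.2)

end Cfsg.Agent.S5253
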