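import Cfsg.Statements.S5254
import Cfsg.Agent.Lib.Fus.AbelianIndexPStruct
-- import your own Cfsg.Agent.* helpers here

set_option autoImplicit false
open Cfsg

namespace Cfsg.Agent.S5254

/-- Let p be an odd prime, S a finite nonabelian p-group with a unique abelian subgroup A of index p, and F a saturated fusion system over S. Then every F-essential subgroup P is A, or Z(S)⟨x⟩ for some x ∈ S outside A, or (when the second centre Z₂(S) lies in A) Z₂(S)⟨x⟩ for some x ∈ S outside A; and P has index p in its normalizer in S. -/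
theorem result {Ω : Type*} [Group Ω] {S : Subgroup Ω} [Finite S] (p : ℕ) [Fact p.Prime] (hS : IsPGroup p S) (F : Cfsg.FusionSystem S) (hF : F.IsSaturated p) (hp : p ≠ 2) (hna : ¬ IsMulCommutative ↥S) (A : Subgroup Ω) (hA : A ≤ S ∧ IsMulCommutative ↥A ∧ (A.subgroupOf S).index = p) (huniq : ∀ B : Subgroup Ω, B ≤ S → IsMulCommutative ↥B → (B.subgroupOf S).index = p → B = A) (P : Subgroup Ω) (hP : F.IsEssential p P) : (P = A ∨ (∃ x ∈ S, x ∉ A ∧ P = (S ⊓ Subgroup.centralizer (S : Set Ω)) ⊔ Subgroup.zpowers x) ∨ (((upperCentralSeries ↥S 2).map S.subtype) ≤ A ∧ ∃ x ∈ S, x ∉ A ∧ P = ((upperCentralSeries ↥S 2).map S.subtype) ⊔ Subgroup.zpowers x)) ∧ (P.subgroupOf (S ⊓ Subgroup.normalizer (P : Set Ω))).index = p := by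
  obtain ⟨hAS, hAc, hidx⟩ := hA
  have hcomm : ∀ a ∈ A, ∀ b ∈ A, a * b = b * a := fun a ha b hb =>
    congrArg Subtype.val (hAc.is_comm.comm (⟨a, ha⟩ : A) ⟨b, hb⟩)
  have hna' : ¬ ∀ a ∈ S, ∀ b ∈ S, a * b = b * a := fun h =>
    hna ⟨⟨fun a b => Subtype.ext (h a a.2 b b.2)⟩⟩
  have hF' := Cfsg.Agent.Fus.aiFrame_of_index hS hna' hAS hcomm hidx
  by_cases hPA : P = A
  · subst hPA
    refine ⟨Or.inl rfl, ?_⟩
    have e : S ⊓ Subgroup.normalizer (P : Set Ω) = S := inf_eq_left.2 fun g hg =>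
      Cfsg.Agent.Fus.mem_normalizer_of_forall (hF'.normal g hg) fun a ha => by
        simpa using hF'.normal g⁻¹ (S.inv_mem hg) a ha
    rw [e]
    exact hidx
  obtain ⟨x, w, h⟩ := hF'.exists_aiEss hS hF hp hP hPA
  refine ⟨Or.inr ?_, h.index_eq⟩
  rcases h.shape_eq hF' huniq hP.1.1 with e | e
  · exact Or.inr ⟨h.zTwo_le hF' huniq, x, h.x_mem, h.x_not, e⟩
  · exact Or.inl ⟨x, h.x_mem, h.x_not, e⟩

end Cfsg.Agent.S5254
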