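import Cfsg.Statements.S5264
import Cfsg.Agent.Lib.Fus.OrdFive.Main

set_option autoImplicit false
open Cfsg

namespace Cfsg.Agent.S5264

/-- Let p be an odd prime other than 7, S a finite p-group of order p^5, and F a saturated fusion system over S with no nontrivial normal subgroup and with hyperfocal subgroup equal to S (so F is its own p-residual subsystem). Then S has an abelian subgroup of index p. -/
theorem result {Ω : Type*} [Group Ω] {S : Subgroup Ω} [Finite S] (p : ℕ) [Fact p.Prime] (hS : IsPGroup p ↥S) (F : Cfsg.FusionSystem S) (hF : F.IsSaturated p) (hp : p ≠ 2) (hp7 : p ≠ 7) (hcard : Nat.card S = p ^ 5) (hcore : F.core = ⊥) (hhyp : F.hyperfocalSubgroup p = S) : ∃ A : Subgroup Ω, A ≤ S ∧ IsMulCommutative ↥A ∧ (A.subgroupOf S).index = p := by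
  by_contra hno
  push Not at hno
  refine Fus.OrdFive.main hS hF hp hp7 hcard hcore hhyp fun A hA hab => ?_
  refine hno (A.map S.subtype) (Subgroup.map_subtype_le A) ⟨⟨fun a b => Subtype.ext ?_⟩⟩ ?_
  · obtain ⟨x, hx, hxa⟩ := a.2
    obtain ⟨y, hy, hyb⟩ := b.2
    show (a : Ω) * b = b * a
    rw [← hxa, ← hyb, ← map_mul, ← map_mul, hab x hx y hy]
  · rw [show (A.map S.subtype).subgroupOf S = A from
      Subgroup.comap_map_eq_self_of_injective S.subtype_injective A, hA]

end Cfsg.Agent.S5264
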