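import Cfsg.Statements.S5270
import Cfsg.Agent.Lib.Fus.EssentialIndex
import Cfsg.Agent.Lib.Fus.MaxClassUpper
import Cfsg.Agent.Lib.Fus.ShiftInduction
-- import your own Cfsg.Agent.* helpers here

set_option autoImplicit false
open Cfsg

namespace Cfsg.Agent.S5270

/-- Let p ≥ 5 be a prime, S a finite p-group of maximal class of order p^n with n ≥ 4, and F a saturated fusion system over S. If some map of F defined on the second centre Z₂(S) with image Z₂(S) does not carry Z(S) into itself, then the centralizer C_S(Z₂(S)) is an F-essential subgroup. -/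
theorem result {Ω : Type*} [Group Ω] {S : Subgroup Ω} [Finite S] (p : ℕ) [Fact p.Prime] (hS : IsPGroup p ↥S) (n : ℕ) (hn : Nat.card S = p ^ n) (h4 : 4 ≤ n) (hmax : Subgroup.lowerCentralSeries S (n - 2) ≠ ⊥) (F : Cfsg.FusionSystem S) (hF : F.IsSaturated p) (hp : 5 ≤ p) (φ : ↥((Subgroup.upperCentralSeries ↥S 2).map S.subtype) →* Ω) (hφ : φ ∈ F.Hom ((Subgroup.upperCentralSeries ↥S 2).map S.subtype)) (hφZ : φ.range = ((Subgroup.upperCentralSeries ↥S 2).map S.subtype)) (hmove : ∃ (z : Ω) (hz : z ∈ ((Subgroup.upperCentralSeries ↥S 2).map S.subtype)), z ∈ ((Subgroup.center ↥S).map S.subtype) ∧ φ ⟨z, hz⟩ ∉ ((Subgroup.center ↥S).map S.subtype)) : F.IsEssential p (S ⊓ Subgroup.centralizer (((Subgroup.upperCentralSeries ↥S 2).map S.subtype) : Set Ω)) := by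
  classical
  haveI : Group.IsNilpotent ↥S := hS.isNilpotent
  have hcl : Group.nilpotencyClass ↥S = n - 1 := by
    refine le_antisymm ?_ ?_
    · exact Subgroup.lowerCentralSeries_eq_bot_iff_nilpotencyClass_le.1
        (Transfer.MaxClass.lcs_eq_bot hn (by omega))
    · by_contra hlt
      refine hmax ?_
      rw [← Subgroup.top_subtype_lowerCentralSeries, Subgroup.map_eq_bot_iff_of_injective _
        S.subtype_injective]
      exact Subgroup.lowerCentralSeries_eq_bot_iff_nilpotencyClass_le.2 (by omega)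
  generalize hZdef : (Subgroup.upperCentralSeries ↥S 2).map S.subtype = Z₂ at φ hφ hφZ hmove ⊢
  have hZS : Z₂ ≤ S := hZdef ▸ Subgroup.map_subtype_le _
  have hZcard : Nat.card Z₂ = p ^ 2 := by
    rw [← hZdef]
    exact (Subgroup.card_map_of_injective S.subtype_injective).trans
      (Fus.MC.card_upper_two hn hcl h4)
  haveI := Fus.finite_of_le hZS
  haveI : Finite (MulAut Z₂) :=
    Finite.of_injective (fun e : MulAut Z₂ => (e : Z₂ → Z₂)) DFunLike.coe_injective
  have hnorm : ∀ g ∈ S, g ∈ Subgroup.normalizer (Z₂ : Set Ω) := by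
    intro g hg
    have key : ∀ g' ∈ S, ∀ y ∈ Z₂, g' * y * g'⁻¹ ∈ Z₂ := by
      rw [← hZdef]
      rintro g' hg' _ ⟨v, hv, rfl⟩
      exact ⟨_, (inferInstance : (Subgroup.upperCentralSeries ↥S 2).Normal).conj_mem v hv ⟨g', hg'⟩,
        rfl⟩
    refine Fus.mem_normalizer_of_forall (key g hg) fun y hy => ?_
    simpa using key g⁻¹ (inv_mem hg) y hy
  have hNZ : FusionSystem.normalizerIn S Z₂ = S := inf_eq_left.2 hnorm
  have hfnZ : F.IsFullyNormalized Z₂ := ⟨hZS, fun Q _ => by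
    rw [hNZ]; exact Subgroup.card_le_of_le inf_le_left⟩
  set M := S ⊓ Subgroup.centralizer (Z₂ : Set Ω) with hMdef
  have hMS : M ≤ S := inf_le_left
  haveI := Fus.finite_of_le hMS
  have hMn : ∀ g ∈ S, g ∈ Subgroup.normalizer (M : Set Ω) := by
    intro g hg
    have key : ∀ g' ∈ S, ∀ y ∈ M, g' * y * g'⁻¹ ∈ M := by
      intro g' hg' y hy
      refine Subgroup.mem_inf.2 ⟨mul_mem (mul_mem hg' hy.1) (inv_mem hg'),
        Subgroup.mem_centralizer_iff.2 fun w hw => ?_⟩
      have h1 := Subgroup.mem_centralizer_iff.1 hy.2 (g'⁻¹ * w * g')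
        ((Subgroup.mem_normalizer_iff''.1 (hnorm g' hg') w).1 hw)
      calc w * (g' * y * g'⁻¹) = g' * ((g'⁻¹ * w * g') * y) * g'⁻¹ := by group
        _ = g' * (y * (g'⁻¹ * w * g')) * g'⁻¹ := by rw [h1]
        _ = g' * y * g'⁻¹ * w := by group
    refine Fus.mem_normalizer_of_forall (key g hg) fun y hy => ?_
    simpa using key g⁻¹ (inv_mem hg) y hy
  have hNM : FusionSystem.normalizerIn S M = S := inf_eq_left.2 hMn
  have hfnM : F.IsFullyNormalized M := ⟨hMS, fun Q _ => by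
    rw [hNM]; exact Subgroup.card_le_of_le inf_le_left⟩
  have hZM : Z₂ ≤ M := fun a ha => by
    refine ⟨hZS ha, Subgroup.mem_centralizer_iff.2 fun b hb => ?_⟩
    exact congrArg Subtype.val
      ((IsPGroup.isMulCommutative_of_card_eq_prime_sq hZcard).is_comm.comm ⟨b, hb⟩ ⟨a, ha⟩)
  have hMc : F.IsCentric M := by
    refine Fus.Shift.centric_of_fullyCentralized (Fus.fullyCentralized_of_fullyNormalized hS hF hfnM) ?_
    intro s hs
    exact ⟨hs.1, Subgroup.mem_centralizer_iff.2 fun w hw =>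
      Subgroup.mem_centralizer_iff.1 hs.2 w (hZM hw)⟩
  -- the moving automorphism extends to `M`
  have hf := Fus.isMap_toFun hφ
  have hfimg : Fus.fimg (Fus.toFun φ) Z₂ = Z₂ :=
    (hf.range_eq_fimg (fun x => (Fus.toFun_coe φ x).symm)).symm.trans hφZ
  obtain ⟨β, hβ, hβZ⟩ := Fus.receptive_extend (Fus.receptive_of_fullyNormalized hS hF hfnZ) hf hfimg
    (N := M) (fun g hg => ⟨⟨hg.1, hnorm g hg.1⟩, 1, one_mem _, fun y hy => by
      rw [← Subgroup.mem_centralizer_iff.1 hg.2 y hy, mul_inv_cancel_right, one_mul, inv_one,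
        mul_one]⟩) hZM
  have hβM : Fus.fimg β M = M := by
    have hle : Fus.fimg β M ≤ M := Fus.fimg_le fun y hy => by
      refine ⟨hβ.apply_mem hy, Subgroup.mem_centralizer_iff.2 fun w hw => ?_⟩
      obtain ⟨v, hv, hvw⟩ := hf.mem_fimg_iff.1 (hfimg.symm ▸ hw : w ∈ Fus.fimg (Fus.toFun φ) Z₂)
      rw [← hvw, ← hβZ v hv, ← hβ.map_mul (hZM hv) hy, ← hβ.map_mul hy (hZM hv),
        Subgroup.mem_centralizer_iff.1 hy.2 v hv]
    exact Subgroup.eq_of_le_of_card_ge hle hβ.card_fimg.ge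
  obtain ⟨z, hz, hzc, hzm⟩ := hmove
  have hβz : β z = φ ⟨z, hz⟩ := (hβZ z hz).trans (Fus.toFun_apply φ hz)
  have hβzS : β z ∈ S := hβ.apply_mem (hZM hz)
  obtain ⟨s, hs, hsne⟩ : ∃ s ∈ S, s * β z * s⁻¹ ≠ β z := by
    by_contra hh
    push Not at hh
    refine hzm ⟨⟨β z, hβzS⟩, Subgroup.mem_center_iff.2 fun t => Subtype.ext ?_, hβz⟩
    exact mul_inv_eq_iff_eq_mul.1 (hh t t.2)
  refine Fus.essential_of_index_prime hS hF hMc hMn ?_ ?_
  · let f := (F.autGroup Z₂).subtype.comp (Fus.TorusExt.cj F hZS)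
    have hpr : IsPGroup p f.range := by
      rw [MonoidHom.range_eq_map]
      exact ((hS.to_le inf_le_left).to_subgroup _).map f
    have hle := Fus.TorusExt.card_le_of_pgroup_aut hZcard hpr
    have hker : f.ker = M.subgroupOf (FusionSystem.normalizerIn S Z₂) := by
      ext y
      rw [MonoidHom.mem_ker, Subgroup.mem_subgroupOf]
      constructor
      · intro hy
        refine ⟨y.2.1, Subgroup.mem_centralizer_iff.2 fun w hw => ?_⟩
        have h := congrArg (fun e : MulAut Z₂ => ((e ⟨w, hw⟩ : Z₂) : Ω)) hy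
        exact (mul_inv_eq_iff_eq_mul.1 (show (y : Ω) * w * (y : Ω)⁻¹ = w from h)).symm
      · intro hy
        refine MulEquiv.ext fun w => Subtype.ext ?_
        show (y : Ω) * w * (y : Ω)⁻¹ = w
        rw [← Subgroup.mem_centralizer_iff.1 hy.2 w w.2, mul_inv_cancel_right]
    rw [← Subgroup.index_ker, hker, show (M.subgroupOf (FusionSystem.normalizerIn S Z₂)).index =
      (M.subgroupOf S).index by rw [hNZ]] at hle
    obtain ⟨r, hr⟩ := hS.index (M.subgroupOf S)
    rw [hr] at hle ⊢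
    have h1 : r ≤ 1 := by
      by_contra hc
      have : p ^ 2 ≤ p ^ r := Nat.pow_le_pow_right (Fact.out : p.Prime).pos (by omega)
      have := (Fact.out : p.Prime).two_le
      nlinarith
    have h0 : r ≠ 0 := by
      rintro rfl
      rw [pow_zero, Subgroup.index_eq_one, Subgroup.subgroupOf_eq_top] at hr
      refine hsne ?_
      have hbZ : β z ∈ Z₂ := hφZ.le ⟨⟨z, hz⟩, hβz.symm⟩
      rw [← Subgroup.mem_centralizer_iff.1 (hr hs).2 _ hbZ, mul_inv_cancel_right]
    rw [show r = 1 by omega, pow_one]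
  · intro hnormal
    obtain ⟨α, hα, hαβ⟩ := hβ.exists_aut hβM
    have hmem : (⟨_, Fus.autInducedBy_le_autGroup F hMS
        (Fus.TorusExt.cj_mem_autInducedBy (F := F) hMS ⟨s, hs, hMn s hs⟩)⟩ : F.autGroup M) ∈
        (autInducedBy S M).subgroupOf (F.autGroup M) :=
      Subgroup.mem_subgroupOf.2 (Fus.TorusExt.cj_mem_autInducedBy (F := F) hMS ⟨s, hs, hMn s hs⟩)
    have h := hnormal.conj_mem _ hmem ⟨α, hα⟩⁻¹
    rw [Subgroup.mem_subgroupOf, Fus.mem_autInducedBy] at h
    obtain ⟨s', hs', h'⟩ := h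
    refine hsne ?_
    have hzM := hZM hz
    have h1 := h' ⟨z, hzM⟩
    obtain ⟨⟨c, hcS⟩, hcc, hcz⟩ := hzc
    have hfix : s' * z * s'⁻¹ = z := by
      have h2 := congrArg Subtype.val (Subgroup.mem_center_iff.1 hcc ⟨s', hs'⟩)
      simp only [Subgroup.coe_mul] at h2
      rw [show c = z from hcz] at h2
      rw [h2, mul_inv_cancel_right]
    rw [show ((⟨z, hzM⟩ : M) : Ω) = z from rfl, hfix] at h1
    simp only [inv_inv, Subgroup.coe_mul, Subgroup.coe_inv, MulAut.mul_apply] at h1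
    have h3 := congrArg (fun w : M => ((α w : M) : Ω)) (Subtype.ext h1.symm :
      (⟨z, hzM⟩ : M) = α⁻¹ (((Fus.TorusExt.cj F hMS ⟨s, hs, hMn s hs⟩ : F.autGroup M) : MulAut M)
        (α ⟨z, hzM⟩)))
    simp only [MulAut.apply_inv_self, Fus.TorusExt.cj_apply] at h3
    rw [show ((α ⟨z, hzM⟩ : M) : Ω) = β z from (Fus.autFun_coe α ⟨z, hzM⟩).symm.trans (hαβ z hzM)] at h3
    exact h3.symm

end Cfsg.Agent.S5270
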