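import Cfsg.Statements.S5272
import Cfsg.Agent.Lib.Fus.InnerFamily
-- import your own Cfsg.Agent.* helpers here

set_option autoImplicit false
open Cfsg

namespace Cfsg.Agent.S5272

/-- An axiomatic Glauberman–Thompson nilpotency criterion for fusion systems. Let p be an odd prime, F a saturated fusion system over a finite p-group S, and 𝒜 a nonempty family of abelian subgroups of S. For Q ≤ S write I(Q) for the intersection of the members of 𝒜 contained in Q. Assume (invariance) that for every Q ≤ S containing a member of 𝒜, every F-automorphism of Q maps I(Q) into itself, and (replacement) that for every subgroup B of S of nilpotency class at most 2, if some member of 𝒜 contains [B,B] but not B, then B normalizes some member of 𝒜 that contains [B,B] but not B. Then F is the inner fusion system of S if and only if the normalizer fusion system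 of I(S) in F is the inner fusion system of N_S(I(S)). -/
theorem result {Ω : Type*} [Group Ω] {S : Subgroup Ω} [Finite S] (p : ℕ) [Fact p.Prime] (hS : IsPGroup p ↥S) (F : Cfsg.FusionSystem S) (hF : F.IsSaturated p) (hp : p ≠ 2) (𝒜 : Set (Subgroup Ω)) (h𝒜 : ∀ A ∈ 𝒜, A ≤ S ∧ IsMulCommutative ↥A) (hne : 𝒜.Nonempty) (hinv : ∀ Q : Subgroup Ω, Q ≤ S → (∃ A ∈ 𝒜, A ≤ Q) → ∀ α ∈ F.autGroup Q, ∀ x : ↥Q, (x : Ω) ∈ (⨅ A ∈ {A : Subgroup Ω | A ∈ 𝒜 ∧ A ≤ Q}, A) → (((α : MulAut ↥Q) x : ↥Q) : Ω) ∈ (⨅ A ∈ {A : Subgroup Ω | A ∈ 𝒜 ∧ A ≤ Q}, A)) (hrep : ∀ B : Subgroup Ω, B ≤ S → ⁅⁅B, B⁆, B⁆ = ⊥ → (∃ A ∈ 𝒜, ⁅B, B⁆ ≤ A ∧ ¬ B ≤ A) → ∃ A ∈ 𝒜, ⁅B, B⁆ ≤ A ∧ ¬ B ≤ A ∧ B ≤ Subgroup.normalizer (A : Set Ω)) : (∀ P : Subgroup Ω, F.Hom P = (Cfsg.innerFusionSystem S).Hom P) ↔ ∀ N : Cfsg.FusionSystem (Cfsg.FusionSystem.normalizerIn S (⨅ A ∈ 𝒜, A)), F.IsNormalizerSystem (⨅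 A ∈ 𝒜, A) N → ∀ P : Subgroup Ω, N.Hom P = (Cfsg.innerFusionSystem (Cfsg.FusionSystem.normalizerIn S (⨅ A ∈ 𝒜, A))).Hom P := by
  classical
  obtain ⟨A₀, hA₀⟩ := hne
  have hmemW : ∀ x : Ω, x ∈ (⨅ A ∈ 𝒜, A) ↔ ∀ A ∈ 𝒜, x ∈ A := fun x => by
    simp [Subgroup.mem_iInf]
  have hWS : (⨅ A ∈ 𝒜, A) ≤ S := (iInf₂_le A₀ hA₀).trans (h𝒜 A₀ hA₀).1
  have hinv' : ∀ (Q : Subgroup Ω) (f : Ω → Ω), Fus.IsMap F Q f → Fus.fimg f Q = Q →
      (∃ A ∈ 𝒜, A ≤ Q) → ∀ x ∈ Q, (∀ A ∈ 𝒜, A ≤ Q → x ∈ A) → ∀ A ∈ 𝒜, A ≤ Q → f x ∈ A := by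
    intro Q f hf hfQ hex x hx hall A hA hAQ
    obtain ⟨α, hα, hαe⟩ := hf.exists_aut hfQ
    have h1 := hinv Q hf.source_le hex α hα ⟨x, hx⟩
      (by simpa [Subgroup.mem_iInf] using hall)
    rw [← hαe x hx, show x = ((⟨x, hx⟩ : Q) : Ω) from rfl, Fus.autFun_coe]
    simp only [Subgroup.mem_iInf, Set.mem_setOf_eq] at h1
    exact h1 A ⟨hA, hAQ⟩
  have key : ∀ {s : Ω}, s ∈ S → ∀ x ∈ (⨅ A ∈ 𝒜, A), s * x * s⁻¹ ∈ (⨅ A ∈ 𝒜, A) := by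
    intro s hs x hx
    have hm := Fus.isMap_conj F (le_refl S) hs
    exact (hmemW _).2 fun A hA => hinv' S _ hm (Fus.fimg_eq_self_of_source_top hm)
      ⟨A₀, hA₀, (h𝒜 A₀ hA₀).1⟩ x (hWS hx) (fun A' hA' _ => (hmemW x).1 hx A' hA') A hA (h𝒜 A hA).1
  have hSW : S ≤ Subgroup.normalizer ((⨅ A ∈ 𝒜, A : Subgroup Ω) : Set Ω) := fun s hs =>
    Fus.mem_normalizer_of_forall (key hs) fun x hx => by simpa using key (inv_mem hs) x hx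
  refine ⟨fun h N hN P => Fus.inner_hom_normalizer hWS h N hN P, fun h =>
    Fus.isInner_iff.1 (Fus.isInner_of_family hp hS hF hWS (𝒜 := 𝒜)
      (fun A hA => ⟨(h𝒜 A hA).1, fun a ha b hb =>
        congrArg Subtype.val ((h𝒜 A hA).2.is_comm.comm ⟨a, ha⟩ ⟨b, hb⟩)⟩)
      ⟨A₀, hA₀⟩ (fun A hA => iInf₂_le A hA) (fun x _ hx => (hmemW x).2 hx) hinv' ?_
      fun P f hf hWP hfW => Fus.inner_normalizer_of_hom hWS hSW h hf hWP hfW)⟩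
  rintro B hBS - hcl hBW ⟨A, hA, hBA⟩
  obtain ⟨A', hA', -, h2, h3⟩ := hrep B hBS hcl ⟨A, hA, hBW.trans (iInf₂_le A hA), hBA⟩
  exact ⟨A', hA', h2, h3⟩

end Cfsg.Agent.S5272
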