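import Cfsg.Statements.S5276
import Cfsg.Agent.Lib.Fus.HyperfocalApp
-- import your own Cfsg.Agent.* helpers here

set_option autoImplicit false
open Cfsg

namespace Cfsg.Agent.S5276

/-- Let p be a prime and F a saturated fusion system over a finite p-group S. Then F is the inner fusion system of S if and only if the normalizer fusion system of S itself in F is the inner fusion system (equivalently, Aut_F(S) is induced by S) and the Frattini subgroup Φ(S) is strongly closed in F. -/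
theorem result {Ω : Type*} [Group Ω] {S : Subgroup Ω} [Finite S] (p : ℕ) [Fact p.Prime] (hS : IsPGroup p ↥S) (F : Cfsg.FusionSystem S) (hF : F.IsSaturated p) : (∀ P : Subgroup Ω, F.Hom P = (Cfsg.innerFusionSystem S).Hom P) ↔ (∀ N : Cfsg.FusionSystem (Cfsg.FusionSystem.normalizerIn S S), F.IsNormalizerSystem S N → ∀ P : Subgroup Ω, N.Hom P = (Cfsg.innerFusionSystem (Cfsg.FusionSystem.normalizerIn S S)).Hom P) ∧ F.StronglyClosed ((frattini ↥S).map S.subtype) := by
  have hcomm := Cfsg.Agent.Fus.commutator_le_frattini_map hS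
  constructor
  · intro h
    have hF' : Cfsg.Agent.Fus.IsInner F := Cfsg.Agent.Fus.isInner_iff.2 h
    refine ⟨fun N hN => ?_, Cfsg.Agent.Fus.stronglyClosed_of_forall (Subgroup.map_subtype_le _)
      fun R hR f hf x hx => ?_⟩
    · rw [Cfsg.Agent.Fus.isNormalizerSystem_unique hN
        (Cfsg.Agent.Fus.isNormalizerSystem_normalizerSystem F le_rfl)]
      refine Cfsg.Agent.Fus.isInner_iff.1 fun P f hf => ?_
      obtain ⟨s, hs, e⟩ := hF' P f (Cfsg.Agent.Fus.IsMap.mono
        (Cfsg.Agent.Fus.normalizerSystem_isSubsystemOf le_rfl) hf)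
      exact ⟨s, Cfsg.Agent.Fus.le_normalizerIn le_rfl hs, e⟩
    · obtain ⟨s, hs, e⟩ := hF' R f hf
      rw [e x hx]
      obtain ⟨y, hy, rfl⟩ := hR hx
      have hchar : (frattini ↥S).Normal := inferInstance
      exact ⟨⟨s, hs⟩ * y * ⟨s, hs⟩⁻¹, hchar.conj_mem y hy _, rfl⟩
  · rintro ⟨hN, hT⟩
    refine Cfsg.Agent.Fus.isInner_iff.1 (Cfsg.Agent.Fus.isInner_of_focal_le_frattini hS hF ?_)
    refine Cfsg.Agent.Fus.focal_le_of_extMod hS hF hT.1 hcomm (fun P f hf z hz hzT => ?_)
      (fun P f hf => ?_) (fun α hα => Cfsg.Agent.Fus.top_inner_of_normalizer hN hα)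
    · exact Cfsg.Agent.Fus.StronglyClosed.apply_mem hT
        (hf.res (inf_le_left : P ⊓ _ ≤ P)) inf_le_right ⟨hz, hzT⟩
    · obtain ⟨g, hg, -, hge⟩ := Cfsg.Agent.Fus.extMod_of_isMap hS hF hT hf
      exact ⟨g, hg, hge⟩

end Cfsg.Agent.S5276
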