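import Cfsg.Statements.S5295
import Cfsg.Agent.Lib.Fus.OddCenter
-- import your own Cfsg.Agent.* helpers here

set_option autoImplicit false
universe u
open Cfsg

namespace Cfsg.Agent.S5295

/-- Let F be a saturated fusion system over a finite p-group S with p odd. Then the centre Z(F) of F is a direct factor of Z(S): there is a subgroup K of Z(S) with Z(F) ∩ K = 1 and Z(F)K = Z(S). (At the prime 2 this can fail.) -/
theorem result {Ω : Type u} [Group Ω] {S : Subgroup Ω} [Finite S] (p : ℕ) [Fact p.Prime] (hp : p ≠ 2) (hS : IsPGroup p S)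
    (F : Cfsg.FusionSystem S) (hF : F.IsSaturated p) :
    ∃ K : Subgroup Ω, K ≤ (S ⊓ Subgroup.centralizer (S : Set Ω)) ∧ F.center ⊓ K = ⊥ ∧ F.center ⊔ K = (S ⊓ Subgroup.centralizer (S : Set Ω)) := by
  have hJ := Fus.thompsonA_le S
  set J := thompsonSubgroupAOf S with hJdef
  have hN := Fus.isNormalizerSystem_normalizerSystem F hJ
  rw [← Fus.center_normalizer_thompson hp hS hF hN]
  have hNJ : FusionSystem.normalizerIn S J = S := Fus.normalizerIn_thompsonA F
  have hJn : F.IsFullyNormalized J := ⟨hJ, fun Q _ => by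
    rw [hNJ]; exact Subgroup.card_le_of_le inf_le_left⟩
  haveI : Finite ↥(FusionSystem.normalizerIn S J) := Fus.finite_of_le (S := S) inf_le_left
  have hZ : FusionSystem.normalizerIn S J ⊓
      Subgroup.centralizer (FusionSystem.normalizerIn S J : Set Ω) ≤ J := by
    rw [hNJ]
    exact fun x hx => Fus.centralizer_thompsonA_le
      ⟨hx.1, Subgroup.centralizer_le hJ hx.2⟩
  obtain ⟨K, h1, h2, h3⟩ := Fus.center_directFactor (S := FusionSystem.normalizerIn S J) (hS.to_le inf_le_left)
    (Fus.isSaturated_normalizerSystem hS hF hJn) (Fus.isNormal_normalizerSystem_self hJ) hZ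
  have e : FusionSystem.normalizerIn S J ⊓
      Subgroup.centralizer (FusionSystem.normalizerIn S J : Set Ω) =
      S ⊓ Subgroup.centralizer (S : Set Ω) := by rw [hNJ]
  exact ⟨K, e ▸ h1, h2, e ▸ h3⟩

end Cfsg.Agent.S5295
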