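import Cfsg.Statements.S5297
import Cfsg.Agent.Lib.Fus.SmallCyclic
-- import your own Cfsg.Agent.* helpers here

set_option autoImplicit false
universe u
open Cfsg

namespace Cfsg.Agent.S5297

/-- Let F be a saturated fusion system over a finite p-group S. If every map of F between cyclic subgroups of the hyperfocal subgroup of F of order p or 4 is a map of the normalizer system of S (it extends to a map of F defined on all of S), then S is normal in F. -/
theorem result {Ω : Type u} [Group Ω] {S : Subgroup Ω} [Finite S] (p : ℕ) [Fact p.Prime] (hS : IsPGroup p S)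
    (F : Cfsg.FusionSystem S) (hF : F.IsSaturated p)
    (h : ∀ A B : Subgroup Ω, A ≤ (F.hyperfocalSubgroup p) → B ≤ (F.hyperfocalSubgroup p) → IsCyclic ↥A → (Nat.card ↥A = p ∨ Nat.card ↥A = 4) → IsCyclic ↥B → (Nat.card ↥B = p ∨ Nat.card ↥B = 4) →
      F.homSet A B ⊆ F.normalizerHom S A) :
    F.IsNormal S := by
  refine Fus.isNormal_top_of_levels hS hF fun P f hf x hx hxH hxn i hxi => ?_
  by_cases hx1 : x = 1
  · subst hx1
    rw [hf.map_one]
    exact Subgroup.one_mem _
  obtain ⟨A, B, hA, hB, hAc, hA', hBc, hB', φ, hφ, hxA, e⟩ :=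
    Fus.exists_cyclic_hom hS hF hf hx hxH hxn hx1
  obtain ⟨-, -, g, hg, hg1, -⟩ := Fus.mem_normalizerHom.1 (h A B hA hB hAc hA' hBc hB' hφ)
  rw [← e, ← hg1 ⟨x, hxA⟩]
  exact (hg.res le_sup_right).apply_mem_upperCentralSeries hxi

end Cfsg.Agent.S5297
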