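import Cfsg.Statements.S5299
import Cfsg.Agent.Lib.Fus.GroupLocal
-- import your own Cfsg.Agent.* helpers here

set_option autoImplicit false
universe u
open Cfsg

namespace Cfsg.Agent.S5299

/-- Let F be a saturated fusion system over a finite p-group S, H a finite group and Q a p-subgroup of H. If Q is not involved in S (no section of S is isomorphic to Q), then F is H-free: H is involved in no model of the normalizer system of a fully normalized centric subgroup. -/
theorem result {Ω : Type u} [Group Ω] {S : Subgroup Ω} [Finite S] (p : ℕ) [Fact p.Prime] (hS : IsPGroup p S)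
    (F : Cfsg.FusionSystem S) (hF : F.IsSaturated p) (H : Type*) [Group H] [Finite H] (Q : Subgroup H) (hQ : IsPGroup p Q)
    (hfree : ¬ Cfsg.Involves (↥Q) (↥S)) : F.IsSectionFree p H := by
  intro Q₀ hQn hQc N hN L _ ι hmod hinv
  obtain ⟨hfin, ⟨hι, -⟩, ⟨T, hT⟩, -⟩ := hmod
  obtain ⟨K, R, hRn, ⟨e⟩⟩ := hinv
  refine hfree ?_
  -- a p-subgroup of `L` mapping onto `Q`
  let f : K →* H := e.toMonoidHom.comp (QuotientGroup.mk' (R.subgroupOf K))
  have hfs : Function.Surjective f :=
    e.surjective.comp (QuotientGroup.mk'_surjective _)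
  let fQ : Q.comap f →* Q := (f.comp (Q.comap f).subtype).codRestrict Q fun x => x.2
  have hfQs : Function.Surjective fQ := by
    rintro ⟨q, hq⟩
    obtain ⟨k, rfl⟩ := hfs q
    exact ⟨⟨k, hq⟩, rfl⟩
  obtain ⟨P⟩ : Nonempty (Sylow p (Q.comap f)) := inferInstance
  have hPtop : (P : Subgroup (Q.comap f)).map fQ = ⊤ :=
    ((P.mapSurjective hfQs).is_maximal' (hQ.to_subgroup (⊤ : Subgroup Q) : IsPGroup p (⊤ : Subgroup Q))
      le_top).symm
  -- move it into `S`
  let P' : Subgroup L := ((P : Subgroup (Q.comap f)).map (Q.comap f).subtype).map K.subtype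
  obtain ⟨g, -, hg⟩ := (Fus.isSylowOf_top T).exists_conj_le
    ((P.2.map _).map _ : IsPGroup p P') le_top
  let e₁ : (P : Subgroup (Q.comap f)) →* ι.range :=
    (((MulAut.conj g).toMonoidHom.comp (K.subtype.comp (Q.comap f).subtype)).comp
      (P : Subgroup (Q.comap f)).subtype).codRestrict ι.range fun x => hT ▸ hg
        ⟨_, ⟨_, ⟨_, x.2, rfl⟩, rfl⟩, rfl⟩
  let j : (P : Subgroup (Q.comap f)) →* S :=
    ((Subgroup.inclusion (inf_le_left : Cfsg.FusionSystem.normalizerIn S Q₀ ≤ S)).comp (MonoidHom.ofInjective hι).symm.toMonoidHom).comp e₁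
  have hj : Function.Injective j := by
    refine ((Subgroup.inclusion_injective (inf_le_left : Cfsg.FusionSystem.normalizerIn S Q₀ ≤ S)).comp
      (MonoidHom.ofInjective hι).symm.injective).comp ?_
    intro x y hxy
    have h1 := congrArg Subtype.val hxy
    exact Subtype.ext (Subtype.ext (Subtype.ext ((MulAut.conj g).injective h1)))
  let g₁ : j.range →* Q :=
    (fQ.comp (P : Subgroup (Q.comap f)).subtype).comp (MonoidHom.ofInjective hj).symm.toMonoidHom
  have hg₁ : Function.Surjective g₁ := by
    intro q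
    have : q ∈ (P : Subgroup (Q.comap f)).map fQ := by rw [hPtop]; exact Subgroup.mem_top q
    obtain ⟨x, hx, rfl⟩ := this
    exact ⟨MonoidHom.ofInjective hj ⟨x, hx⟩, congrArg fQ
      (congrArg Subtype.val ((MonoidHom.ofInjective hj).symm_apply_apply ⟨x, hx⟩))⟩
  have heq : (g₁.ker.map j.range.subtype).subgroupOf j.range = g₁.ker :=
    Subgroup.comap_map_eq_self_of_injective Subtype.coe_injective _
  haveI hn : ((g₁.ker.map j.range.subtype).subgroupOf j.range).Normal := by
    rw [heq]; infer_instance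
  exact ⟨j.range, g₁.ker.map j.range.subtype, hn,
    ⟨(QuotientGroup.quotientMulEquivOfEq heq).trans
      (QuotientGroup.quotientKerEquivOfSurjective g₁ hg₁)⟩⟩

end Cfsg.Agent.S5299
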