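import Cfsg.Statements.S5301
import Cfsg.Agent.Lib.Fus.NormalCrit
-- import your own Cfsg.Agent.* helpers here

set_option autoImplicit false
universe u
open Cfsg

namespace Cfsg.Agent.S5301

/-- Let F be a saturated fusion system over a finite p-group S. If for every subgroup P of S that is fully normalized, centric and radical in F the automorphism group that F induces on P has a normal Sylow p-subgroup, then S is normal in F. -/
theorem result {Ω : Type u} [Group Ω] {S : Subgroup Ω} [Finite S] (p : ℕ) [Fact p.Prime] (hS : IsPGroup p S)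
    (F : Cfsg.FusionSystem S) (hF : F.IsSaturated p)
    (hcl : ∀ P : Subgroup Ω, F.IsFullyNormalized P → F.IsCentric P → F.IsRadical p P →
      ∃ R : Sylow p ↥(F.autGroup P), (R : Subgroup ↥(F.autGroup P)).Normal) :
    F.IsNormal S := by
  classical
  refine Cfsg.Agent.Fus.isNormal_of_essential hS hF le_rfl
    (fun α _ x hx => Cfsg.Agent.Fus.autFun_mem α hx) fun P hP => ?_
  have hPS := hP.1.1
  rcases hPS.eq_or_lt with rfl | hlt
  · exact ⟨le_rfl, fun α _ x hx => Cfsg.Agent.Fus.autFun_mem α hx⟩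
  exfalso
  have hrad := Cfsg.Agent.Fus.radical_of_essential hS hP
  obtain ⟨R, hR⟩ := hcl P hP.2.1 hP.1 hrad
  haveI := Cfsg.Agent.Fus.finite_of_le hPS
  obtain ⟨-, T, hT⟩ := Cfsg.Agent.Fus.fullyAutomized_of_fullyNormalized hS hF hP.2.1
  haveI := hR
  obtain rfl : R = T := Sylow.ext (R.is_maximal' T.2 (R.2.le_sylow_of_normal T)).symm
  refine Cfsg.Agent.Fus.not_autInducedBy_le_inn hS hlt hP.1 fun α hα => ?_
  rw [← hrad.2]
  refine ⟨⟨α, Cfsg.Agent.Fus.autInducedBy_le_autGroup F hPS hα⟩,
    Cfsg.Agent.Grp.le_pCore hR R.2 ?_, rfl⟩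
  rw [hT]
  exact hα

end Cfsg.Agent.S5301
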