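import Cfsg.Statements.S5306
import Cfsg.Agent.Lib.Fus.ThompsonConj
-- import your own Cfsg.Agent.* helpers here

set_option autoImplicit false
open Cfsg

namespace Cfsg.Agent.S5306

/-- Let P be a Sylow p-subgroup of the finite group X and J = J(P) its Thompson subgroup (generated by the elementary abelian subgroups of P of largest order). If x and y lie in the centre of J and y = g x g⁻¹ for some g in X, then y = n x n⁻¹ for some n in the normalizer N_X(J). -/
theorem result {X : Type*} [Group X] [Finite X] (p : ℕ) [Fact p.Prime] (P : Sylow p X) (J : Subgroup X) (hJ : J = Cfsg.thompsonSubgroupOf p (P : Subgroup X))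
    (x y : X) (hx : x ∈ J ∧ ∀ j ∈ J, Commute j x) (hy : y ∈ J ∧ ∀ j ∈ J, Commute j y) (g : X) (hg : g * x * g⁻¹ = y) :
    ∃ n ∈ Subgroup.normalizer (J : Set X), n * x * n⁻¹ = y := by
  subst hJ
  set J := Cfsg.thompsonSubgroupOf p (P : Subgroup X) with hJ
  set C : Subgroup X := Subgroup.centralizer ({y} : Set X) with hC
  have h1 : J ≤ C := fun j hj => Subgroup.mem_centralizer_singleton_iff.2 (hy.2 j hj).eq
  have h2 : J.map (MulAut.conj g).toMonoidHom ≤ C := by
    rintro _ ⟨j, hj, rfl⟩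
    refine Subgroup.mem_centralizer_singleton_iff.2 ?_
    show g * j * g⁻¹ * y = y * (g * j * g⁻¹)
    rw [← hg, show g * j * g⁻¹ * (g * x * g⁻¹) = g * (j * x) * g⁻¹ by group, (hx.2 j hj).eq]
    group
  have hJp : IsPGroup p J := P.2.to_le (Fus.thompsonSubgroupOf_le p _)
  obtain ⟨R, hR⟩ := (IsPGroup.comap_subtype hJp (K := C) :
    IsPGroup p (J.subgroupOf C)).exists_le_sylow
  have hRC : Fus.IsSylowOf p ((R : Subgroup C).map C.subtype) C :=
    ⟨Subgroup.map_subtype_le _, R, by
      rw [Subgroup.subgroupOf, Subgroup.comap_map_eq_self_of_injective Subtype.coe_injective]⟩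
  obtain ⟨c, hc, hcR⟩ := hRC.exists_conj_le (hJp.map _) h2
  rw [Fus.conjMap_comp] at hcR
  have heq := Fus.thompson_conj_eq P (R.2.map C.subtype) (g := c * g)
    (fun j hj => ⟨⟨j, h1 hj⟩, hR hj, rfl⟩) hcR
  refine ⟨c * g, ?_, ?_⟩
  · refine Fus.mem_normalizer_of_forall (fun j hj => ?_) fun j hj => ?_
    · exact heq.le ⟨j, hj, rfl⟩
    · obtain ⟨i, hi, hij⟩ := heq.ge hj
      have hij : c * g * i * (c * g)⁻¹ = j := hij
      rw [← hij, show (c * g)⁻¹ * (c * g * i * (c * g)⁻¹) * (c * g) = i by group]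
      exact hi
  · rw [show c * g * x * (c * g)⁻¹ = c * (g * x * g⁻¹) * c⁻¹ by group, hg,
      Subgroup.mem_centralizer_singleton_iff.1 hc, mul_inv_cancel_right]

end Cfsg.Agent.S5306
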