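import Cfsg.Statements.S5311
import Cfsg.Agent.Lib.Fus.IsoComponent
-- import your own Cfsg.Agent.* helpers here

set_option autoImplicit false
open Cfsg

namespace Cfsg.Agent.S5311

/-- The layer of a saturated fusion system F over a finite p-group S is characteristic in F: for every automorphism α of S that is an automorphism of F (α and its inverse are morphisms from F to F) and every layer E of F over T, α carries T onto T and, for every map φ of E with source P, the map induced by α on α(P) (that is, α ∘ φ ∘ α⁻¹) is a map of E. -/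
theorem result {Ω : Type*} [Group Ω] {S : Subgroup Ω} [Finite S] (p : ℕ) [Fact p.Prime] (hS : IsPGroup p S) (F : Cfsg.FusionSystem S) (hF : F.IsSaturated p)
    (α : ↥S ≃* ↥S) (hα : F.IsMorphism F (S.subtype.comp α.toMonoidHom))
    (hα' : F.IsMorphism F (S.subtype.comp α.symm.toMonoidHom))
    {T : Subgroup Ω} (E : Cfsg.FusionSystem T) (hE : E.IsLayerOf F p) :
    Cfsg.FusionSystem.imageAlong (S.subtype.comp α.toMonoidHom) T = T ∧
      ∀ (P : Subgroup Ω) (φ : ↥P →* Ω), φ ∈ E.Hom P →
        ∀ φ' : ↥(Cfsg.FusionSystem.imageAlong (S.subtype.comp α.toMonoidHom) P) →* Ω,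
          Cfsg.FusionSystem.InducedAlong (S.subtype.comp α.toMonoidHom) φ φ' →
            φ' ∈ E.Hom (Cfsg.FusionSystem.imageAlong (S.subtype.comp α.toMonoidHom) P) := by
  have I := Fus.Transport.Iso.of_morphism α hα hα'
  have hTS : T ≤ S := hE.1.1.2.2.2.1.1
  obtain ⟨hT, hmaps⟩ := I.layer hS hE
  have himg : ∀ P : Subgroup Ω, P ≤ S →
      Fus.Transport.img (Fus.Transport.hf (S.subtype.comp α.toMonoidHom)) P =
        Cfsg.FusionSystem.imageAlong (S.subtype.comp α.toMonoidHom) P := by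
    intro P hP
    refine le_antisymm (Fus.Transport.img_le fun x hx => ?_) ?_
    · rw [Fus.Transport.hf_eq (hP hx)]
      exact ⟨⟨x, hP hx⟩, hx, rfl⟩
    · rintro _ ⟨x, hx, rfl⟩
      rw [← Fus.Transport.hf_eq x.2]
      exact Fus.Transport.apply_mem_img _ hx
  refine ⟨(himg T hTS).symm.trans hT, fun P φ hφ φ' hind => ?_⟩
  obtain ⟨hP, hv, hP', he⟩ := hind
  have h1 := hmaps P _ (Fus.isMap_toFun hφ)
  rw [himg P hP] at h1
  refine Fus.mem_hom_of_isMap h1 fun y => ?_
  obtain ⟨_, ⟨x, hxS⟩, hx, rfl⟩ := y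
  have hx' : x ∈ P := hx
  have e := he ⟨x, hx'⟩
  refine e.trans ?_
  have e2 : Fus.Transport.hf (S.subtype.comp α.symm.toMonoidHom)
      ((S.subtype.comp α.toMonoidHom) ⟨x, hxS⟩) = x := by
    rw [← Fus.Transport.hf_eq hxS, I.left x hxS]
  show _ = Fus.Transport.hf (S.subtype.comp α.toMonoidHom) (Fus.toFun φ
    (Fus.Transport.hf (S.subtype.comp α.symm.toMonoidHom)
      ((S.subtype.comp α.toMonoidHom) ⟨x, hxS⟩)))
  rw [e2, Fus.toFun_apply φ hx', Fus.Transport.hf_eq (hv ⟨x, hx'⟩)]

end Cfsg.Agent.S5311
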