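import Cfsg.Statements.S5316
import Cfsg.Agent.Lib.Fus.MaxClassCubeEss
import Cfsg.Agent.Lib.Fus.EssentialCube
import Cfsg.Agent.Lib.Fus.EssentialSmall
import Cfsg.Agent.Lib.Transfer.MaxClass
-- import your own Cfsg.Agent.* helpers here

set_option autoImplicit false
open Cfsg

namespace Cfsg.Agent.S5316

/-- Let p ≥ 5 be a prime, S a finite p-group of maximal class of order p^n with n ≥ 5 (nilpotency class n − 1), F a saturated fusion system over S, and E an F-essential subgroup that is not a pearl (not elementary abelian of order p² and not extraspecial of order p³ and exponent p). Then E has order at least p⁴. -/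
theorem result {Ω : Type*} [Group Ω] {S : Subgroup Ω} [Finite S] (p : ℕ) [Fact p.Prime] (hp : 5 ≤ p) (hS : IsPGroup p ↥S) (n : ℕ) (hn : Nat.card S = p ^ n) (h5 : 5 ≤ n)
    (hmax : Subgroup.lowerCentralSeries S (n - 2) ≠ ⊥) (F : Cfsg.FusionSystem S) (hF : F.IsSaturated p)
    (E : Subgroup Ω) (hE : F.IsEssential p E)
    (hnp : ¬ ((Nat.card ↥E = p ^ 2 ∧ Cfsg.IsElementaryAbelian p E) ∨ (Nat.card ↥E = p ^ 3 ∧ Cfsg.IsExtraspecial p ↥E ∧ Monoid.exponent ↥E = p))) :
    p ^ 4 ≤ Nat.card ↥E := by
  classical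
  have hES : E ≤ S := hE.2.1.1
  haveI := Fus.finite_of_le hES
  haveI : Group.IsNilpotent ↥S := hS.isNilpotent
  have hcl : Group.nilpotencyClass ↥S = n - 1 := by
    refine le_antisymm ?_ ?_
    · exact Subgroup.lowerCentralSeries_eq_bot_iff_nilpotencyClass_le.1
        (Transfer.MaxClass.lcs_eq_bot hn (by omega))
    · by_contra hlt
      refine hmax ?_
      rw [← Subgroup.top_subtype_lowerCentralSeries, Subgroup.map_eq_bot_iff_of_injective _
        S.subtype_injective]
      exact Subgroup.lowerCentralSeries_eq_bot_iff_nilpotencyClass_le.2 (by omega)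
  obtain ⟨i, hi⟩ := IsPGroup.iff_card.1 (hS.to_le hES)
  rcases (show i ≤ 1 ∨ i = 2 ∨ i = 3 ∨ 4 ≤ i by omega) with h | rfl | rfl | h
  · exfalso
    have hCE : FusionSystem.centralizerIn S E ≤ E := hE.1.2 E (Fus.isConj_refl F hES)
    haveI : Nontrivial ↥S := Finite.one_lt_card_iff_nontrivial.1
      (hn ▸ Nat.one_lt_pow (by omega) (Fact.out : p.Prime).one_lt)
    haveI := hS.center_nontrivial
    have hZE : (Subgroup.center ↥S).map S.subtype ≤ E := by
      rintro _ ⟨z, hz, rfl⟩
      exact hCE (Fus.mem_centralizerIn.2 ⟨z.2, fun x hx =>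
        congrArg Subtype.val (Subgroup.mem_center_iff.1 hz ⟨x, hES hx⟩)⟩)
    have heq : (Subgroup.center ↥S).map S.subtype = E := by
      refine Subgroup.eq_of_le_of_card_ge hZE ?_
      rw [Subgroup.card_map_of_injective S.subtype_injective, hi]
      refine le_trans (Nat.pow_le_pow_right (Fact.out : p.Prime).pos h) ?_
      rw [pow_one]
      obtain ⟨j, hj⟩ := IsPGroup.iff_card.1 (hS.to_subgroup (Subgroup.center ↥S))
      rw [hj]
      refine Nat.le_self_pow (fun hj0 => ?_) p
      rw [hj0, pow_zero] at hj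
      exact (Finite.one_lt_card_iff_nontrivial.2 inferInstance).ne' hj
    have hSE : S ≤ E := fun g hg => hCE (Fus.mem_centralizerIn.2 ⟨hg, fun x hx => by
      rw [← heq] at hx
      obtain ⟨z, hz, rfl⟩ := hx
      exact (congrArg Subtype.val (Subgroup.mem_center_iff.1 hz ⟨g, hg⟩)).symm⟩)
    have hle := Subgroup.card_le_of_le hSE
    rw [hn, hi] at hle
    have := (Nat.pow_le_pow_iff_right (Fact.out : p.Prime).one_lt).1 hle
    omega
  · exact absurd (Or.inl ⟨hi, (Fus.essential_card_sq hS hE hi).1⟩) hnp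
  · exfalso
    rcases Fus.essential_card_cube hS hE hi with hel | ⟨-, hex, hpow⟩ | ⟨h2, -⟩
    · exact Fus.MCCube.no_essential_cube hS hF ⟨hn, by omega, hcl⟩ h5 (by omega) hE hel hi
    · refine hnp (Or.inr ⟨hi, hex, ?_⟩)
      refine ((Nat.dvd_prime (Fact.out : p.Prime)).1 (Monoid.exponent_dvd_of_forall_pow_eq_one
        fun x => Subtype.ext (hpow x x.2))).resolve_left fun h1 => ?_
      haveI : Subsingleton ↥E := Monoid.exp_eq_one_iff.1 h1
      rw [Nat.card_of_subsingleton (1 : ↥E)] at hi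
      exact (Nat.one_lt_pow (by omega) (Fact.out : p.Prime).one_lt).ne hi
    · omega
  · rw [hi]
    exact Nat.pow_le_pow_right (Fact.out : p.Prime).pos h

end Cfsg.Agent.S5316
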