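import Cfsg.Statements.S5317
import Cfsg.Agent.Lib.Fus.PSLTwo
import Cfsg.Agent.Lib.Fus.DihedralAut
import Cfsg.Agent.Lib.Fus.GroupSystem
import Cfsg.Agent.Lib.Fus.Simple
-- import your own Cfsg.Agent.* helpers here

set_option autoImplicit false
open Cfsg

namespace Cfsg.Agent.S5317

/-- Let F be a finite field of odd order q with q² ≡ 1 mod 16 (so that a Sylow 2-subgroup of PSL(2,q), dihedral of order the 2-part of (q²−1)/2, has order at least 8). Then the 2-fusion system of PSL(2,F) on a Sylow 2-subgroup is simple: saturated, over a nontrivial 2-group, with no normal subsystem other than the trivial one and itself. -/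
theorem result {F : Type*} [Field F] [Fintype F] (hodd : Fintype.card F % 2 = 1) (h16 : 16 ∣ Fintype.card F ^ 2 - 1)
    (S : Sylow 2 (Matrix.ProjectiveSpecialLinearGroup (Fin 2) F)) :
    (Cfsg.groupFusionSystem (S : Subgroup (Matrix.ProjectiveSpecialLinearGroup (Fin 2) F))).IsSimple 2 := by
  haveI : Fact (Nat.Prime 2) := ⟨Nat.prime_two⟩
  obtain ⟨k, ⟨e⟩, hk⟩ := Fus.PSLTwo.exists_sylow_dihedral hodd S
  have hk2 := hk h16
  have hF := Fus.isSaturated_group S
  have hS1 : (S : Subgroup (Matrix.ProjectiveSpecialLinearGroup (Fin 2) F)) ≠ ⊥ := by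
    intro h
    have h1 := Nat.card_congr e.toEquiv
    rw [h, Subgroup.card_bot, DihedralGroup.nat_card] at h1
    omega
  refine Fus.isSimple_of_autGroup_eq_inn hF hS1
    (Fus.autGroup_self_eq_inn hF S.2
      (Fus.isPGroup_mulAut_congr e (Fus.isPGroup_mulAut_dihedralGroup hk2))) fun T hT => ?_
  by_contra hne
  obtain ⟨hT1, hT2⟩ := not_or.1 hne
  haveI : Nontrivial T := T.nontrivial_iff_ne_bot.2 hT1
  obtain ⟨n, hn⟩ := (S.2.to_le hT.1).exists_card_eq
  obtain ⟨a, ha⟩ : ∃ a : T, orderOf a = 2 := by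
    refine exists_prime_orderOf_dvd_card' 2 ?_
    rw [hn]
    refine dvd_pow_self 2 fun h0 => ?_
    rw [h0, pow_zero] at hn
    exact (Finite.one_lt_card (α := T)).ne' hn
  rw [← Subgroup.orderOf_coe] at ha
  have hinv : ∀ x ∈ (S : Subgroup (Matrix.ProjectiveSpecialLinearGroup (Fin 2) F)),
      orderOf x = 2 → x ∈ T := by
    intro x hxS hx
    obtain ⟨g, hg⟩ := isConj_iff.1 (Fus.PSLTwo.involutions_conj hodd ha hx)
    have haT : Subgroup.zpowers (a : Matrix.ProjectiveSpecialLinearGroup (Fin 2) F) ≤ T :=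
      Subgroup.zpowers_le.2 a.2
    have hm : Fus.IsMap (Cfsg.groupFusionSystem
        (S : Subgroup (Matrix.ProjectiveSpecialLinearGroup (Fin 2) F)))
        (Subgroup.zpowers (a : Matrix.ProjectiveSpecialLinearGroup (Fin 2) F))
        (fun y => g * y * g⁻¹) := by
      refine Fus.isMap_group.2 ⟨haT.trans hT.1, g, fun y hy => ⟨rfl, ?_⟩⟩
      obtain ⟨i, rfl⟩ := hy
      show g * (a : Matrix.ProjectiveSpecialLinearGroup (Fin 2) F) ^ i * g⁻¹ ∈ _
      rw [← conj_zpow, hg]
      exact Subgroup.zpow_mem _ hxS i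
    exact hg ▸ Fus.StronglyClosed.apply_mem hT hm haT (Subgroup.mem_zpowers _)
  refine hT2 (le_antisymm hT.1 fun x hx => ?_)
  have hsr : ∀ i, ((e.symm (DihedralGroup.sr i) :
      (S : Subgroup (Matrix.ProjectiveSpecialLinearGroup (Fin 2) F))) :
      Matrix.ProjectiveSpecialLinearGroup (Fin 2) F) ∈ T := fun i =>
    hinv _ (SetLike.coe_mem _)
      (by rw [Subgroup.orderOf_coe, MulEquiv.orderOf_eq, DihedralGroup.orderOf_sr])
  obtain ⟨d, hd⟩ : ∃ d, e.symm d = ⟨x, hx⟩ := ⟨e ⟨x, hx⟩, e.symm_apply_apply _⟩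
  rcases d with i | i
  · have h0 := T.mul_mem (hsr 0) (hsr i)
    rwa [← Subgroup.coe_mul, ← map_mul, DihedralGroup.sr_mul_sr, sub_zero, hd] at h0
  · have h0 := hsr i
    rwa [hd] at h0

end Cfsg.Agent.S5317
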