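import Cfsg.Statements.S5330
import Cfsg.Agent.Lib.Fus.AbelianSystem
-- import your own Cfsg.Agent.* helpers here

set_option autoImplicit false
open Cfsg

namespace Cfsg.Agent.S5330

/-- Let F be a saturated fusion system over a finite abelian p-group S. Then S is the internal direct product of the centre of the system and the focal subgroup: Z(F) ∩ foc(F) = 1 and Z(F)·foc(F) = S. -/
theorem result {Ω : Type*} [Group Ω] {S : Subgroup Ω} [Finite S] (p : ℕ) [Fact p.Prime] (hS : IsPGroup p S) (F : Cfsg.FusionSystem S) (hF : F.IsSaturated p) (hab : ∀ x ∈ S, ∀ y ∈ S, x * y = y * x) : F.center ⊓ F.focalSubgroup = ⊥ ∧ F.center ⊔ F.focalSubgroup = S := by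
  classical
  letI : CommGroup S := { (inferInstance : Group S) with
    mul_comm := fun a b => Subtype.ext (hab a a.2 b b.2) }
  haveI : Fintype (F.autGroup S) := Fintype.ofFinite _
  let N : S →* S :=
    { toFun := fun x => ∏ α : F.autGroup S, (α : MulAut S) x
      map_one' := Finset.prod_eq_one fun α _ => map_one _
      map_mul' := fun x y => by simp only [map_mul, Finset.prod_mul_distrib] }
  have hNfix : ∀ β : F.autGroup S, ∀ x, (β : MulAut S) (N x) = N x := by
    intro β x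
    show (β : MulAut S) (∏ α : F.autGroup S, (α : MulAut S) x) = _
    rw [map_prod]
    exact Fintype.prod_equiv (Equiv.mulLeft β) _ _ fun α => rfl
  have hNinv : ∀ β : F.autGroup S, ∀ x, N ((β : MulAut S) x) = N x := fun β x =>
    Fintype.prod_equiv (Equiv.mulRight β) _ _ fun α => rfl
  have hcen := Cfsg.Agent.Fus.isCentral_iff.1 (Cfsg.Agent.Fus.isCentral_center F)
  have hfocS : F.focalSubgroup ≤ S := by
    refine (Subgroup.closure_le _).2 ?_
    rintro _ ⟨P, φ, x, hφ, rfl⟩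
    exact S.mul_mem (S.inv_mem ((F.le_of_mem hφ).1 x.2)) ((F.le_of_mem hφ).2 x)
  have hker : F.focalSubgroup ≤ N.ker.map S.subtype := by
    refine (Subgroup.closure_le _).2 ?_
    rintro _ ⟨P, φ, x, hφ, rfl⟩
    obtain ⟨α, hα, e⟩ := Cfsg.Agent.Fus.exists_aut_extends_of_comm hS hF hab
      (Cfsg.Agent.Fus.isMap_toFun hφ)
    have hxS := (F.le_of_mem hφ).1 x.2
    refine ⟨(⟨x, hxS⟩ : S)⁻¹ * α ⟨x, hxS⟩, ?_, ?_⟩
    · rw [SetLike.mem_coe, MonoidHom.mem_ker, map_mul, map_inv, hNinv ⟨α, hα⟩, inv_mul_cancel]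
    · show (x : Ω)⁻¹ * ((α ⟨x, hxS⟩ : S) : Ω) = _
      rw [← Cfsg.Agent.Fus.autFun_coe α ⟨x, hxS⟩, e x x.2, Cfsg.Agent.Fus.toFun_coe]
  have hpow : (Nat.card S).Coprime (Nat.card (F.autGroup S)) := by
    obtain ⟨k, hk⟩ := hS.exists_card_eq
    rw [hk]
    exact ((Cfsg.Agent.Fus.coprime_card_autGroup_of_comm hS hF hab).pow_right k).symm
  constructor
  · rw [eq_bot_iff]
    rintro _ ⟨hz, hf⟩
    obtain ⟨x, hx, rfl⟩ := hker hf
    have hfix : ∀ α : F.autGroup S, (α : MulAut S) x = x := fun α => by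
      obtain ⟨g, -, h1, h2⟩ := hcen.2 S _ ((Cfsg.Agent.Fus.mem_autGroup le_rfl).1 α.2)
      refine Subtype.ext ?_
      rw [← Cfsg.Agent.Fus.autFun_coe (α : MulAut S) x, ← h1 x x.2]
      exact h2 _ hz
    have hNx : N x = x ^ Nat.card (F.autGroup S) := by
      show ∏ α : F.autGroup S, (α : MulAut S) x = _
      rw [Finset.prod_congr rfl fun α _ => hfix α, Finset.prod_const, Nat.card_eq_fintype_card,
        Finset.card_univ]
    have h1 : x = 1 := (powCoprime hpow).injective (by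
      show x ^ _ = (1 : S) ^ _
      rw [← hNx, one_pow]
      exact hx)
    rw [h1]
    exact one_mem _
  · refine le_antisymm (sup_le hcen.1 hfocS) fun s hs => ?_
    obtain ⟨x, hx⟩ := (powCoprime hpow).surjective ⟨s, hs⟩
    have hx : x ^ Nat.card (F.autGroup S) = ⟨s, hs⟩ := hx
    have hsplit : x ^ Nat.card (F.autGroup S) =
        N x * ∏ α : F.autGroup S, (((α : MulAut S) x)⁻¹ * x) := by
      show _ = (∏ α : F.autGroup S, (α : MulAut S) x) * _
      rw [← Finset.prod_mul_distrib]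
      simp [Nat.card_eq_fintype_card, Finset.card_univ]
    have e := congrArg Subtype.val (hx.symm.trans hsplit)
    rw [Subgroup.coe_mul] at e
    show s ∈ _
    rw [show s = ((⟨s, hs⟩ : S) : Ω) from rfl, e]
    refine Subgroup.mul_mem_sup ?_ ?_
    · have hC : F.IsCentral (Subgroup.map S.subtype N.range) := by
        refine Cfsg.Agent.Fus.isCentral_iff.2 ⟨Subgroup.map_subtype_le _, fun P f hf => ?_⟩
        obtain ⟨α, hα, eα⟩ := Cfsg.Agent.Fus.exists_aut_extends_of_comm hS hF hab hf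
        refine ⟨_, ((Cfsg.Agent.Fus.mem_autGroup le_rfl).1 hα).res
          (sup_le hf.source_le (Subgroup.map_subtype_le _)), eα, ?_⟩
        rintro _ ⟨_, ⟨y, rfl⟩, rfl⟩
        exact (Cfsg.Agent.Fus.autFun_coe α (N y)).trans
          (congrArg Subtype.val (hNfix ⟨α, hα⟩ y))
      exact Cfsg.Agent.Fus.le_center hC ⟨_, ⟨x, rfl⟩, rfl⟩
    · have : ∏ α : F.autGroup S, (((α : MulAut S) x)⁻¹ * x) ∈ F.focalSubgroup.subgroupOf S := by
        refine Subgroup.prod_mem _ fun α _ => ?_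
        obtain ⟨φ, hφ, eφ⟩ :=
          ((Cfsg.Agent.Fus.mem_autGroup le_rfl).1 α.2 : Cfsg.Agent.Fus.IsMap F S _).exists_hom
        rw [show ((α : MulAut S) x)⁻¹ * x = (x⁻¹ * (α : MulAut S) x)⁻¹ by group]
        refine Subgroup.inv_mem _ (Subgroup.subset_closure ⟨S, φ, x, hφ, ?_⟩)
        rw [eφ, Cfsg.Agent.Fus.autFun_coe]
        rfl
      exact this

end Cfsg.Agent.S5330
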