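import Cfsg.Statements.S5331
import Cfsg.Agent.Lib.Fus.AbelianSystem
-- import your own Cfsg.Agent.* helpers here

set_option autoImplicit false
open Cfsg

namespace Cfsg.Agent.S5331

/-- Let S be a finite abelian 2-group that is a direct product of cyclic groups of pairwise distinct orders 2^{a_1} < 2^{a_2} < ⋯ < 2^{a_n} (all a_i ≥ 1). Then every saturated fusion system over S is the inner one: its maps are exactly the conjugations by elements of S. -/
theorem result {Ω : Type*} [Group Ω] {S : Subgroup Ω} [Finite S] (n : ℕ) (a : Fin n → ℕ) (ha : StrictMono a) (ha1 : ∀ i, 1 ≤ a i) (e : ↥S ≃* Multiplicative ((i : Fin n) → ZMod (2 ^ a i))) (F : Cfsg.FusionSystem S) (hF : F.IsSaturated 2) (P : Subgroup Ω) : F.Hom P = (Cfsg.innerFusionSystem S).Hom P := by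
  classical
  have hab : ∀ x ∈ S, ∀ y ∈ S, x * y = y * x := fun x hx y hy => congrArg Subtype.val
    (e.injective (by rw [map_mul, map_mul, mul_comm]) : (⟨x, hx⟩ * ⟨y, hy⟩ : S) = ⟨y, hy⟩ * ⟨x, hx⟩)
  haveI : Fact (Nat.Prime 2) := ⟨Nat.prime_two⟩
  have hS : IsPGroup 2 S := by
    intro x
    refine ⟨(Finset.univ : Finset (Fin n)).sup a, e.injective (Multiplicative.toAdd.injective ?_)⟩
    rw [map_pow, toAdd_pow, map_one, toAdd_one]
    funext i
    rw [Pi.smul_apply, Pi.zero_apply, nsmul_eq_mul]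
    rw [show ((2 ^ (Finset.univ : Finset (Fin n)).sup a : ℕ) : ZMod (2 ^ a i)) = 0 from
      (ZMod.natCast_eq_zero_iff _ _).2 (pow_dvd_pow 2 (Finset.le_sup (Finset.mem_univ i))),
      zero_mul]
  have hz2 : ∀ (b : ℕ), 1 ≤ b → ∀ z : ZMod (2 ^ b), 2 • z = 0 → z ≠ 0 →
      z = ((2 ^ (b - 1) : ℕ) : ZMod (2 ^ b)) := by
    intro b hb z hz hz0
    haveI : NeZero (2 ^ b : ℕ) := ⟨pow_ne_zero _ two_ne_zero⟩
    obtain ⟨c, rfl⟩ : ∃ c, b = c + 1 := ⟨b - 1, by omega⟩
    rw [nsmul_eq_mul, ← ZMod.natCast_rightInverse z, ← Nat.cast_mul,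
      ZMod.natCast_eq_zero_iff] at hz
    obtain ⟨q, hq⟩ : 2 ^ c ∣ z.val :=
      (Nat.mul_dvd_mul_iff_left two_pos).1 (dvd_trans (dvd_of_eq (pow_succ' 2 c).symm) hz)
    have hlt : 2 ^ c * q < 2 * 2 ^ c := hq ▸ (pow_succ' 2 c) ▸ z.val_lt
    have hq1 : q = 1 := by
      rcases q with _ | _ | q
      · exact absurd (by rw [← ZMod.natCast_rightInverse z, hq, Nat.mul_zero, Nat.cast_zero]) hz0
      · rfl
      · nlinarith [Nat.two_pow_pos c]
    rw [← ZMod.natCast_rightInverse z, hq, hq1, mul_one, Nat.add_sub_cancel]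
  let M : ℕ → S → Prop := fun k x => x ^ 2 = 1 ∧ ∃ w : S, w ^ 2 ^ k = x
  let v : S → ((i : Fin n) → ZMod (2 ^ a i)) := fun x => Multiplicative.toAdd (e x)
  have hv : ∀ x, x ^ 2 = 1 → ∀ i, 2 • v x i = 0 := fun x hx i => by
    have h1 := congrArg (fun y => v y i) hx
    simpa [v] using h1
  have hM : ∀ k x, M k x ↔ x ^ 2 = 1 ∧ ∀ i, a i ≤ k → v x i = 0 := by
    intro k x
    refine and_congr_right fun hx => ⟨?_, fun h => ?_⟩
    · rintro ⟨w, rfl⟩ i hi
      show Multiplicative.toAdd (e (w ^ 2 ^ k)) i = 0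
      rw [map_pow, toAdd_pow, Pi.smul_apply, nsmul_eq_mul,
        (ZMod.natCast_eq_zero_iff _ _).2 (pow_dvd_pow 2 hi), zero_mul]
    · refine ⟨e.symm (Multiplicative.ofAdd fun i =>
        if v x i = 0 then 0 else ((2 ^ (a i - 1 - k) : ℕ) : ZMod (2 ^ a i))),
        e.injective (Multiplicative.toAdd.injective ?_)⟩
      rw [map_pow, e.apply_symm_apply, toAdd_pow, toAdd_ofAdd]
      funext i
      rw [Pi.smul_apply]
      show _ = v x i
      split_ifs with h0
      · rw [smul_zero, h0]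
      · rw [nsmul_eq_mul, ← Nat.cast_mul, ← pow_add, hz2 _ (ha1 i) _ (hv x hx i) h0]
        have : ¬ a i ≤ k := fun hle => h0 (h i hle)
        congr 2
        omega
  have hquot : ∀ k x y, M k x → ¬ M (k + 1) x → M k y → ¬ M (k + 1) y → M (k + 1) (x⁻¹ * y) := by
    intro k x y hx hx' hy hy'
    rw [hM] at hx hx' hy hy' ⊢
    refine ⟨?_, fun i hi => ?_⟩
    · rw [(show Commute x⁻¹ y from Subtype.ext (hab _ (x⁻¹).2 _ y.2)).mul_pow, inv_pow, hx.1,
        hy.1, inv_one, one_mul]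
    obtain ⟨j, hj, hjx⟩ : ∃ j, a j ≤ k + 1 ∧ v x j ≠ 0 := by
      by_contra! hcon; exact hx' ⟨hx.1, hcon⟩
    obtain ⟨l, hl, hly⟩ : ∃ j, a j ≤ k + 1 ∧ v y j ≠ 0 := by
      by_contra! hcon; exact hy' ⟨hy.1, hcon⟩
    have hj' : a j = k + 1 := by
      by_contra hne; exact hjx (hx.2 j (by omega))
    have hl' : a l = k + 1 := by
      by_contra hne; exact hly (hy.2 l (by omega))
    obtain rfl : l = j := ha.injective (hl'.trans hj'.symm)
    show Multiplicative.toAdd (e (x⁻¹ * y)) i = 0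
    rw [map_mul, map_inv, toAdd_mul, toAdd_inv, Pi.add_apply, Pi.neg_apply]
    show - v x i + v y i = 0
    rcases Nat.lt_or_ge (a i) (k + 1) with h | h
    · rw [hx.2 i (by omega), hy.2 i (by omega), neg_zero, add_zero]
    · obtain rfl : i = l := ha.injective ((le_antisymm hi h).trans hl'.symm)
      rw [hz2 _ (ha1 i) _ (hv x hx.1 i) hjx, hz2 _ (ha1 i) _ (hv y hy.1 i) hly, neg_add_cancel]
  have htriv : ∀ α ∈ F.autGroup S, α = 1 := by
    intro α hα
    have hm : (orderOf α).Coprime 2 := Nat.Coprime.coprime_dvd_left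
      (Subgroup.orderOf_dvd_natCard _ hα)
      (Cfsg.Agent.Fus.coprime_card_autGroup_of_comm hS hF hab)
    have hstep : ∀ x : S, α (x⁻¹ * α x) = x⁻¹ * α x → α x = x := fun x hx =>
      Cfsg.Agent.Fus.fix_step hS le_rfl α hm (pow_orderOf_eq_one α) hx
    have hMinv : ∀ k x, M k x → M k (α x) := fun k x ⟨h1, w, h2⟩ =>
      ⟨by rw [← map_pow, h1, map_one], α w, by rw [← map_pow, h2]⟩
    have hMfix : ∀ k, k ≤ (Finset.univ : Finset (Fin n)).sup a → ∀ x, M k x → α x = x := by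
      intro k hk
      induction hk using Nat.decreasingInduction with
      | self =>
        intro x hx
        rw [hM] at hx
        have : x = 1 := e.injective (Multiplicative.toAdd.injective (by
          rw [map_one, toAdd_one]
          funext i
          exact hx.2 i (Finset.le_sup (Finset.mem_univ i))))
        rw [this, map_one]
      | of_succ k _ ih =>
        intro x hx
        by_cases h1 : M (k + 1) x
        · exact ih x h1
        by_cases h2 : M (k + 1) (α x)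
        · exact α.injective (ih _ h2)
        exact hstep x (ih _ (hquot k x _ hx h1 (hMinv k x hx) h2))
    have hall : ∀ j, ∀ x : S, x ^ 2 ^ j = 1 → α x = x := by
      intro j
      induction j with
      | zero => intro x hx; rw [pow_zero, pow_one] at hx; rw [hx, map_one]
      | succ j ih =>
        intro x hx
        rw [pow_succ', pow_mul] at hx
        refine hstep x (hMfix 0 (Nat.zero_le _) _ ⟨?_, x⁻¹ * α x, by rw [pow_zero, pow_one]⟩)
        rw [(show Commute x⁻¹ (α x) from Subtype.ext (hab _ (x⁻¹).2 _ (α x).2)).mul_pow, inv_pow,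
          ← map_pow, ih _ hx, inv_mul_cancel]
    refine MulEquiv.ext fun x => ?_
    obtain ⟨j, hj⟩ := hS x
    exact hall j x hj
  refine Set.ext fun φ => ⟨fun hφ => ?_, fun ⟨hP, g, hg, h⟩ =>
    Cfsg.Agent.Fus.mem_hom_of_isMap (Cfsg.Agent.Fus.isMap_conj F hP hg) h⟩
  obtain ⟨α, hα, eα⟩ := Cfsg.Agent.Fus.exists_aut_extends_of_comm hS hF hab
    (Cfsg.Agent.Fus.isMap_toFun hφ)
  refine ⟨(F.le_of_mem hφ).1, 1, S.one_mem, fun x => ?_⟩
  rw [← Cfsg.Agent.Fus.toFun_coe φ x, ← eα x x.2, htriv α hα,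
    Cfsg.Agent.Fus.autFun_one ((F.le_of_mem hφ).1 x.2)]
  simp

end Cfsg.Agent.S5331
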