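import Cfsg.Statements.S5332
import Cfsg.Agent.Lib.Fus.InnerFamily
-- import your own Cfsg.Agent.* helpers here

set_option autoImplicit false
open Cfsg

namespace Cfsg.Agent.S5332

/-- Let p be odd and F a saturated fusion system over a finite p-group S that is not the inner system of S. Then F contains a saturated constrained subsystem over S that is itself not the inner system. -/
theorem result {Ω : Type*} [Group Ω] {S : Subgroup Ω} [Finite S] (p : ℕ) [Fact p.Prime] (hS : IsPGroup p S) (F : Cfsg.FusionSystem S) (hF : F.IsSaturated p) (hp : p ≠ 2) (hne : ∃ P : Subgroup Ω, F.Hom P ≠ (Cfsg.innerFusionSystem S).Hom P) : ∃ E : Cfsg.FusionSystem S, E ≤ F ∧ E.IsConstrained p ∧ ∃ P : Subgroup Ω, E.Hom P ≠ (Cfsg.innerFusionSystem S).Hom P := by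
  classical
  by_contra hcon
  push Not at hcon
  obtain ⟨P₀, hP₀⟩ := hne
  refine hP₀ (Fus.isInner_iff.1 ?_ P₀)
  have hcc : ∀ (R : Subgroup Ω) (E : FusionSystem R), R = S → E.IsSubsystemOf F →
      E.IsSaturated p → ∀ U, E.IsNormal U → FusionSystem.centralizerIn R U ≤ U →
      Fus.IsInner E := by
    intro R E hR hsub hE U hU hUc
    subst hR
    exact Fus.isInner_iff.2 fun P => hcon E hsub ⟨hE, U, hU, Fus.centric_of_isNormal hU hUc⟩ P
  refine Fus.innerInduction hS hF (fun R' hR' _ E' _ hE' X' hX' hXp hN' => ?_) ?_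
    fun R₁ E₁ hR₁ hsub hE₁ _ hc _ => by
      subst hR₁
      exact hcc _ E₁ rfl hsub hE₁ _ (Fus.isNormal_core E₁) hc
  · haveI := Fus.finite_of_le hR'
    exact Fus.isInner_of_zjMod hp (hS.to_le hR') hE' hX' hXp hN'
  · intro f hf
    have hn := Fus.fullyNormalized_self F
    have heq := Fus.normalizerIn_self S
    obtain ⟨s, hs, e⟩ := hcc _ (Fus.normalizerSystem F S hn.1) heq
      (Fus.normalizerSystem_isSubsystemOf hn.1) (Fus.isSaturated_normalizerSystem hS hF hn) S
      (Fus.isNormal_normalizerSystem_self hn.1) (fun x hx => heq.le (Fus.mem_centralizerIn.1 hx).1) S f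
      ((Fus.isMap_normalizerSystem hn.1).2 ⟨heq.ge, fun x hx => heq.ge (hf.apply_mem hx), f,
        hf.res (sup_le le_rfl le_rfl), fun x _ => rfl, Fus.fimg_eq_self_of_source_top hf⟩)
    exact ⟨s, heq.le hs, e⟩

end Cfsg.Agent.S5332
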