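import Cfsg.Statements.S5333
import Cfsg.Agent.Lib.Fus.CentricControl
-- import your own Cfsg.Agent.* helpers here

set_option autoImplicit false
open Cfsg

namespace Cfsg.Agent.S5333

/-- Let F′ ≤ F be saturated fusion systems over the same finite p-group S. Suppose that for every subgroup Z ≤ S of order p that is fully centralized in F′, the maps of F and of F′ with source Z coincide and the centralizer systems C_F(Z) and C_{F′}(Z) coincide. Then F = F′. -/
theorem result {Ω : Type*} [Group Ω] {S : Subgroup Ω} [Finite S] (p : ℕ) [Fact p.Prime] (hS : IsPGroup p S) (F : Cfsg.FusionSystem S) (hF : F.IsSaturated p) (F' : Cfsg.FusionSystem S) (hF' : F'.IsSaturated p) (hle : F' ≤ F) (hZ : ∀ Z : Subgroup Ω, Z ≤ S → Nat.card Z = p → F'.IsFullyCentralized Z → F.Hom Z = F'.Hom Z ∧ ∀ (C C' : Cfsg.FusionSystem (Cfsg.FusionSystem.centralizerIn S Z)), F.IsCentralizerSystem Z C → F'.IsCentralizerSystem Z C' → ∀ P : Subgroup Ω, C.Hom P = C'.Hom P) (P : Subgroup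 Ω) : F.Hom P = F'.Hom P := by
  refine Fus.eq_of_centric hS hF hle (fun R f hR hf => ?_) P
  have hRS := hR.1
  by_cases hbot : S = ⊥
  · refine (Fus.isMap_id F' hRS).congr fun x hx => ?_
    have h1 : x = 1 := Subgroup.mem_bot.1 (hbot ▸ hRS hx)
    subst h1
    exact hf.map_one.symm
  haveI : Nontrivial S := (Subgroup.nontrivial_iff_ne_bot S).2 hbot
  haveI := hS.center_nontrivial
  have hdvd : p ∣ Nat.card (Subgroup.center ↥S) := by
    obtain ⟨k, hk⟩ := IsPGroup.iff_card.1 (hS.to_subgroup (Subgroup.center ↥S))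
    have h1 : 1 < Nat.card (Subgroup.center ↥S) := Finite.one_lt_card
    rw [hk] at h1 ⊢
    exact dvd_pow_self p (by rintro rfl; simp at h1)
  obtain ⟨z, hz⟩ := exists_prime_orderOf_dvd_card' p hdvd
  set z' : Ω := ((z : ↥S) : Ω) with hz'
  have hzS : z' ∈ S := (z : ↥S).2
  have hord : orderOf z' = p := by
    rw [hz', Subgroup.orderOf_coe, Subgroup.orderOf_coe]
    exact hz
  have hcomm : ∀ s ∈ S, s * z' = z' * s := fun s hs =>
    congrArg Subtype.val (Subgroup.mem_center_iff.1 z.2 ⟨s, hs⟩)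
  set Z := Subgroup.zpowers z' with hZdef
  have hZS : Z ≤ S := Subgroup.zpowers_le.2 hzS
  have hZc : ∀ y ∈ Z, ∀ s ∈ S, s * y = y * s := by
    rintro _ ⟨k, rfl⟩ s hs
    exact (Commute.zpow_right (hcomm s hs) k).eq
  have hZR : Z ≤ R := fun y hy =>
    hR.2 R (Fus.isConj_refl F hRS) (Fus.mem_centralizerIn.2 ⟨hZS hy, fun x hx => hZc y hy x (hRS hx)⟩)
  have hZcard : Nat.card Z = p := by rw [hZdef, Nat.card_zpowers, hord]
  have hCZ : FusionSystem.centralizerIn S Z = S := le_antisymm inf_le_left fun s hs =>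
    Fus.mem_centralizerIn.2 ⟨hs, fun y hy => (hZc y hy s hs).symm⟩
  have hZfc : F'.IsFullyCentralized Z := ⟨hZS, fun Q _ => by
    rw [hCZ]; exact Subgroup.card_le_of_le inf_le_left⟩
  obtain ⟨hHom, hsys⟩ := hZ Z hZS hZcard hZfc
  have hfZ : Fus.IsMap F' Z f := by
    obtain ⟨φ, hφ, e⟩ := (hf.res hZR).exists_hom
    exact ⟨φ, hHom ▸ hφ, e⟩
  obtain ⟨g, hg, hg1, hg2, -⟩ := hfZ.exists_inv
  have hgZ : Fus.fimg g (Fus.fimg f Z) = Z := by
    refine le_antisymm (Fus.fimg_le fun y hy => ?_) fun y hy => ?_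
    · obtain ⟨x, hx, rfl⟩ := hfZ.mem_fimg_iff.1 hy
      rw [hg1 x hx]
      exact hx
    · have := Fus.apply_mem_fimg g (Fus.apply_mem_fimg f hy)
      rwa [hg1 y hy] at this
  have hle' : Fus.fimg f Z ≤ Fus.fimg f R := Fus.fimg_mono f hZR
  obtain ⟨g', hg', hg'e⟩ := Fus.receptive_extend
    (Fus.receptive_of_fullyCentralized hS hF' hZfc) hg hgZ (N := Fus.fimg f R) (fun w hw => by
      obtain ⟨v, hv, rfl⟩ := hf.mem_fimg_iff.1 hw
      have hfix : ∀ x ∈ Fus.fimg f Z, f v * x * (f v)⁻¹ = x := fun x hx => by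
        obtain ⟨y, hy, rfl⟩ := hfZ.mem_fimg_iff.1 hx
        rw [← hf.map_conj hv (hZR hy), hZc y hy v (hRS hv), mul_inv_cancel_right]
      refine ⟨⟨hf.apply_mem hv, Fus.mem_normalizer_of_forall (fun x hx => ?_) fun x hx => ?_⟩,
        1, S.one_mem, fun x hx => ?_⟩
      · rw [hfix x hx]; exact hx
      · have e := hfix x hx
        have e2 : (f v)⁻¹ * x * f v = x := by
          conv_lhs => rw [← e]
          group
        simpa [e2] using hx
      · rw [hfix x hx, one_mul, inv_one, mul_one]) hle'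
  have hk : Fus.IsMap F R fun x => g' (f x) :=
    hf.comp (hg'.mono hle) fun x hx => Fus.apply_mem_fimg f hx
  have hkfix : ∀ x ∈ Z, g' (f x) = x := fun x hx => by
    rw [hg'e _ (Fus.apply_mem_fimg f hx), hg1 x hx]
  obtain ⟨κ, hκ, hκe⟩ := hk.exists_hom
  have hκC : κ ∈ (Fus.centralizerSystem F Z hZS).Hom R := by
    rw [Fus.isCentralizerSystem_centralizerSystem F hZS R]
    exact Fus.mem_centralizerHom.2 ⟨hRS.trans hCZ.ge, fun x => hCZ.ge ((F.le_of_mem hκ).2 x),
      fun x => g' (f x), hk.res (sup_le le_rfl hZR), fun x => (hκe x).symm, hkfix⟩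
  rw [hsys _ _ (Fus.isCentralizerSystem_centralizerSystem F hZS)
    (Fus.isCentralizerSystem_centralizerSystem F' hZS),
    Fus.isCentralizerSystem_centralizerSystem F' hZS R] at hκC
  obtain ⟨-, -, k', hk', hk'e, -⟩ := Fus.mem_centralizerHom.1 hκC
  have hkF' : Fus.IsMap F' R fun x => g' (f x) :=
    (hk'.res le_sup_left).congr fun x hx => (hk'e ⟨x, hx⟩).trans (hκe ⟨x, hx⟩)
  obtain ⟨h, hh, hh1, -, -⟩ := hg'.exists_inv
  exact (hkF'.comp hh fun x hx => Fus.apply_mem_fimg _ (Fus.apply_mem_fimg f hx)).congr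
    fun x hx => hh1 _ (Fus.apply_mem_fimg f hx)

end Cfsg.Agent.S5333
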