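import Cfsg.Statements.S5334
import Cfsg.Agent.Lib.Fus.CentricControl
-- import your own Cfsg.Agent.* helpers here

set_option autoImplicit false
open Cfsg

namespace Cfsg.Agent.S5334

/-- Let F′ ≤ F be saturated fusion systems over the same finite p-group S, let Q and R be F-centric subgroups, φ a map of F with source Q and values in R, and ψ a map of F with source R. If two of φ, ψ and the composite ψ ∘ φ are maps of F′ then so is the third. -/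
theorem result {Ω : Type*} [Group Ω] {S : Subgroup Ω} [Finite S] (p : ℕ) [Fact p.Prime] (hS : IsPGroup p S) (F : Cfsg.FusionSystem S) (hF : F.IsSaturated p) (F' : Cfsg.FusionSystem S) (hF' : F'.IsSaturated p) (hle : F' ≤ F) (Q R : Subgroup Ω) (hQ : F.IsCentric Q) (hR : F.IsCentric R) (φ : ↥Q →* Ω) (hφ : φ ∈ F.Hom Q) (hφR : ∀ x : Q, φ x ∈ R) (ψ : ↥R →* Ω) (hψ : ψ ∈ F.Hom R) : (φ ∈ F'.Hom Q → ψ ∈ F'.Hom R → ψ.comp (φ.codRestrict R hφR) ∈ F'.Hom Q) ∧ (ψ ∈ F'.Hom R → ψ.comp (φ.codRestrict R hφR) ∈ F'.Hom Q → φ ∈ F'.Hom Q) ∧ (φ ∈ F'.Hom Q → ψ.comp (φ.codRestrict R hφR) ∈ F'.Hom Q → ψ ∈ F'.Hom R) := by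
  have hf := Fus.isMap_toFun hφ
  have hg := Fus.isMap_toFun hψ
  set χ := ψ.comp (φ.codRestrict R hφR) with hχ
  have hχe : ∀ x ∈ Q, Fus.toFun χ x = Fus.toFun ψ (Fus.toFun φ x) := fun x hx => by
    rw [Fus.toFun_apply χ hx, Fus.toFun_apply φ hx, Fus.toFun_apply ψ (hφR ⟨x, hx⟩)]
    rfl
  have hmaps : ∀ x ∈ Q, Fus.toFun φ x ∈ R := fun x hx => by
    rw [Fus.toFun_apply φ hx]
    exact hφR ⟨x, hx⟩
  refine ⟨fun h1 h2 => ?_, fun h2 h3 => ?_, fun h1 h3 => ?_⟩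
  · exact Fus.mem_hom_iff.2 (((Fus.isMap_toFun h1).comp (Fus.isMap_toFun h2) hmaps).congr
      fun x hx => (hχe x hx).symm)
  · obtain ⟨g, hgm, hg1, -, -⟩ := (Fus.isMap_toFun h2).exists_inv
    have hc := (Fus.isMap_toFun h3).comp hgm fun x hx => by
      rw [hχe x hx]
      exact Fus.apply_mem_fimg _ (hmaps x hx)
    exact Fus.mem_hom_iff.2 (hc.congr fun x hx => by rw [hχe x hx, hg1 _ (hmaps x hx)])
  · obtain ⟨g, hgm, hg1, hg2, hgi⟩ := (Fus.isMap_toFun h1).exists_inv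
    have hle' : Fus.fimg (Fus.toFun φ) Q ≤ R := Fus.fimg_le hmaps
    have hmem : ∀ y ∈ Fus.fimg (Fus.toFun φ) Q, g y ∈ Q := fun y hy => by
      obtain ⟨x, hx, rfl⟩ := hf.mem_fimg_iff.1 hy
      rw [hg1 x hx]
      exact hx
    have hc : Fus.IsMap F' (Fus.fimg (Fus.toFun φ) Q) (Fus.toFun ψ) :=
      (hgm.comp (Fus.isMap_toFun h3) hmem).congr fun y hy => by
        obtain ⟨x, hx, rfl⟩ := hf.mem_fimg_iff.1 hy
        rw [hg1 x hx, hχe x hx]
    exact Fus.mem_hom_iff.2 (Fus.mem_of_res_centric hS hF hF' hle hg hle'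
      (Fus.centric_of_isConj hQ hf.isConj) hc)

end Cfsg.Agent.S5334
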