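import Cfsg.Statements.S5336
import Cfsg.Agent.Lib.Fus.GroupSystem
import Cfsg.Agent.Lib.Fus.InvariantIff
import Cfsg.Agent.Lib.Grp.Cores
import Cfsg.Agent.S5118
-- import your own Cfsg.Agent.* helpers here

set_option autoImplicit false
open Cfsg

namespace Cfsg.Agent.S5336

/-- Let G be a finite group with Sylow p-subgroup S whose fusion system F_S(G) is simple. If G has no nontrivial normal subgroup of order prime to p and no proper subgroup H containing S induces the same fusion system on S as G does, then G is a simple group. -/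
theorem result {G : Type*} [Group G] [Finite G] (p : ℕ) [Fact p.Prime] (S : Sylow p G) (hsimple : (Cfsg.groupFusionSystem (S : Subgroup G)).IsSimple p) (hcore : Cfsg.pPrimeCore p G = ⊥) (hmin : ∀ (H : Subgroup G) (hSH : (S : Subgroup G) ≤ H), H ≠ ⊤ → ∃ P : Subgroup G, (Cfsg.fusionSystemOfSubgroup H (S : Subgroup G) hSH).Hom P ≠ (Cfsg.groupFusionSystem (S : Subgroup G)).Hom P) : IsSimpleGroup G := by
  obtain ⟨-, hSne, hsim⟩ := hsimple
  haveI : Nontrivial G := by
    by_contra h
    rw [not_nontrivial_iff_subsingleton] at h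
    exact hSne ((Subgroup.eq_bot_iff_forall _).mpr fun x _ => Subsingleton.elim _ _)
  refine ⟨fun N hN => ?_⟩
  haveI := hN
  rcases hsim _ _ (S5118.result p S N) with hT | ⟨hT, hE⟩
  · left
    rw [← le_bot_iff, ← hcore]
    refine Grp.le_pPrimeCore hN (Nat.Coprime.symm ((Fact.out : p.Prime).coprime_iff_not_dvd.mpr fun hd => ?_))
    obtain ⟨x, hx⟩ := exists_prime_orderOf_dvd_card' (G := N) p hd
    have hxo : orderOf (x : G) = p := by rw [Subgroup.orderOf_coe, hx]
    obtain ⟨g, -, hg⟩ := (Fus.isSylowOf_inf_normal S N).exists_conj_le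
      (A := Subgroup.zpowers (x : G)) (IsPGroup.of_card (n := 1) (by rw [Nat.card_zpowers, hxo, pow_one]))
      (Subgroup.zpowers_le.mpr x.2)
    have h1 := hg ⟨(x : G), Subgroup.mem_zpowers _, rfl⟩
    rw [hT, Subgroup.mem_bot] at h1
    have h2 : (x : G) = 1 := (MulAut.conj g).injective (h1.trans (map_one _).symm)
    rw [h2, orderOf_one] at hxo
    exact (Fact.out : p.Prime).ne_one hxo.symm
  · by_contra hne
    have hSN : (S : Subgroup G) ≤ N := hT ▸ inf_le_right
    obtain ⟨P, hP⟩ := hmin N hSN fun e => hne (Or.inr e)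
    apply hP
    rw [← hE P]
    ext φ
    refine ⟨fun ⟨h1, h2, h3⟩ => ⟨hT.symm ▸ h1, fun x => hT.symm ▸ h2 x, h3⟩,
      fun ⟨h1, h2, h3⟩ => ⟨hT ▸ h1, fun x => hT ▸ h2 x, h3⟩⟩

end Cfsg.Agent.S5336
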