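import Cfsg.Statements.S5338
import Cfsg.Agent.Lib.Fus.InvariantIff
import Cfsg.Agent.Lib.Fus.Normal
-- import your own Cfsg.Agent.* helpers here

set_option autoImplicit false
open Cfsg

namespace Cfsg.Agent.S5338

/-- Let F be a saturated fusion system over a finite p-group S and F′ ≤ F a saturated subsystem over all of S that is invariant under F in the conjugation sense: for every map φ of F with source Q and every map ψ of F′ between subgroups R ≤ Q (with values in Q), the transported map φψφ⁻¹ defined on φ(R) is again a map of F′. If moreover Aut_{F′}(S) = Aut_F(S), then F′ = F. -/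
theorem result {Ω : Type*} [Group Ω] {S : Subgroup Ω} [Finite S] (p : ℕ) [Fact p.Prime] (hS : IsPGroup p S) (F : Cfsg.FusionSystem S) (hF : F.IsSaturated p) (F' : Cfsg.FusionSystem S) (hF' : F'.IsSaturated p) (hle : F' ≤ F) (hinv : ∀ (Q : Subgroup Ω) (φ : ↥Q →* Ω), φ ∈ F.Hom Q → ∀ (R : Subgroup Ω) (hRQ : R ≤ Q) (ψ : ↥R →* Ω), ψ ∈ F'.Hom R → ∀ (hψQ : ∀ x : R, ψ x ∈ Q), ∃ χ ∈ F'.Hom ((R.subgroupOf Q).map φ), ∀ (x : R) (hx : φ ⟨(x : Ω), hRQ x.2⟩ ∈ (R.subgroupOf Q).map φ), χ ⟨φ ⟨(x : Ω), hRQ x.2⟩, hx⟩ = φ ⟨ψ x, hψQ x⟩) (htop : F'.autGroup S = F.autGroup S) (P : Subgroup Ω) : F'.Hom P = F.Hom P := by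
  have hstrong : Fus.StrongInv F F' := by
    intro P Q f u hPQ hQT hf hfQ hu
    obtain ⟨φ, hφ, e⟩ := hf.exists_hom
    obtain ⟨ψ, hψ, e'⟩ := hu.exists_hom
    obtain ⟨χ, hχ, hχe⟩ := hinv Q ψ hψ P hPQ φ hφ (fun x => (e x).symm ▸ hfQ x x.2)
    have heq := hu.map_subgroupOf hPQ e'
    refine ⟨Fus.toFun χ, heq ▸ Fus.isMap_toFun hχ, fun x hx => ?_⟩
    have hm : ψ ⟨x, hPQ hx⟩ ∈ (P.subgroupOf Q).map ψ := ⟨_, hx, rfl⟩
    have h1 := hχe ⟨x, hx⟩ hm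
    rw [← Fus.toFun_apply χ hm, e', e'] at h1
    rw [h1]
    exact congrArg u (e ⟨x, hx⟩)
  refine Set.Subset.antisymm (hle P) fun φ hφ => ?_
  have hsc : F.StronglyClosed S := ⟨le_rfl, fun R _ ψ hψ x => (F.le_of_mem hψ).2 x⟩
  obtain ⟨α, hα, f₀, hf₀, he⟩ := Fus.dec_of_strongInv hS hF hstrong hsc (F.le_of_mem hφ).1
    (Fus.isMap_toFun hφ)
  exact Fus.mem_hom_of_isMap ((hf₀.comp ((Fus.mem_autGroup le_rfl).1 (htop.symm ▸ hα))
    fun x hx => hf₀.apply_mem hx).congr fun x hx => (he x hx).symm) fun x => (Fus.toFun_coe φ x).symm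

end Cfsg.Agent.S5338
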