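import Cfsg.Statements.S5340
import Cfsg.Agent.Lib.Fus.Simple
-- import your own Cfsg.Agent.* helpers here

set_option autoImplicit false
open Cfsg

namespace Cfsg.Agent.S5340

/-- Let F be a saturated fusion system over a nontrivial finite p-group S such that S is generated by its elements of order p, any two subgroups of S of order p are F-conjugate, and Aut_F(S) consists of inner automorphisms only. Then F is simple. -/
theorem result {Ω : Type*} [Group Ω] {S : Subgroup Ω} [Finite S] (p : ℕ) [Fact p.Prime] (hS : IsPGroup p S) (F : Cfsg.FusionSystem S) (hF : F.IsSaturated p) (hS1 : S ≠ ⊥) (hgen : Subgroup.closure {x : Ω | x ∈ S ∧ orderOf x = p} = S) (htr : ∀ A B : Subgroup Ω, A ≤ S → B ≤ S → Nat.card A = p → Nat.card B = p → F.IsConj A B) (htop : F.autGroup S = Cfsg.Inn ↥S) : F.IsSimple p := by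
  refine Fus.isSimple_of_autGroup_eq_inn hF hS1 htop fun T hT => ?_
  by_contra hne
  obtain ⟨hT1, hT2⟩ := not_or.1 hne
  refine hT2 (le_antisymm hT.1 ?_)
  haveI : Finite T := Fus.finite_of_le hT.1
  haveI : Nontrivial T := T.nontrivial_iff_ne_bot.2 hT1
  obtain ⟨a, ha⟩ : ∃ a : T, orderOf a = p := by
    obtain ⟨n, hn⟩ := (hS.to_le hT.1).exists_card_eq
    refine exists_prime_orderOf_dvd_card' p ?_
    rw [hn]
    refine dvd_pow_self p fun h0 => ?_
    rw [h0, pow_zero] at hn
    exact (Finite.one_lt_card (α := T)).ne' hn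
  refine hgen.symm.le.trans ((Subgroup.closure_le T).2 fun x ⟨hxS, hx⟩ => ?_)
  have haT : Subgroup.zpowers (a : Ω) ≤ T := Subgroup.zpowers_le.2 a.2
  obtain ⟨f, hf, hfx⟩ := Fus.isConj_iff.1 (htr (Subgroup.zpowers (a : Ω)) (Subgroup.zpowers x)
    (haT.trans hT.1) (Subgroup.zpowers_le.2 hxS)
    (by rw [Nat.card_zpowers, Subgroup.orderOf_coe, ha]) (by rw [Nat.card_zpowers, hx]))
  obtain ⟨y, hy, hyx⟩ := hf.mem_fimg_iff.1 (hfx.symm ▸ Subgroup.mem_zpowers x :
    x ∈ Fus.fimg f (Subgroup.zpowers (a : Ω)))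
  exact hyx ▸ Fus.StronglyClosed.apply_mem hT hf haT hy

end Cfsg.Agent.S5340
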