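import Cfsg.Statements.S5341
import Cfsg.Agent.Lib.Fus.Saturation
import Cfsg.Agent.Lib.Fus.Normal
-- import your own Cfsg.Agent.* helpers here

set_option autoImplicit false
open Cfsg

namespace Cfsg.Agent.S5341

/-- Let F be a saturated fusion system over a finite p-group S, T a subgroup strongly closed in F, and F′ any fusion system over T all of whose maps are maps of F. For a subgroup Q ≤ T: if Q is fully centralized in F then it is fully centralized in F′, and if Q is fully normalized in F then it is fully normalized in F′. -/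
theorem result {Ω : Type*} [Group Ω] {S : Subgroup Ω} [Finite S] (p : ℕ) [Fact p.Prime] (hS : IsPGroup p S) (F : Cfsg.FusionSystem S) (hF : F.IsSaturated p) (T : Subgroup Ω) (hT : F.StronglyClosed T) (F' : Cfsg.FusionSystem T) (hsub : F'.IsSubsystemOf F) (Q : Subgroup Ω) (hQT : Q ≤ T) : (F.IsFullyCentralized Q → F'.IsFullyCentralized Q) ∧ (F.IsFullyNormalized Q → F'.IsFullyNormalized Q) := by
  haveI : Finite T := Fus.finite_of_le hT.1
  have hconj : ∀ Q', F'.IsConj Q Q' → F.IsConj Q Q' ∧ Q' ≤ T := fun Q' h =>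
    ⟨(let ⟨φ, hφ, e⟩ := h; ⟨φ, hsub Q hφ, e⟩), Fus.isConj_le_right h⟩
  constructor
  · intro hQ
    refine ⟨hQT, fun Q' hQ' => ?_⟩
    obtain ⟨hc, hQ'T⟩ := hconj Q' hQ'
    obtain ⟨u, hu, huQ⟩ := Fus.isConj_iff.1 (Fus.isConj_symm hc)
    obtain ⟨f, hf, hfe⟩ := Fus.receptive_extend (Fus.receptive_of_fullyCentralized hS hF hQ) hu huQ
      (N := Q' ⊔ Cfsg.FusionSystem.centralizerIn T Q') (by
        have hQ'S : Q' ≤ S := hQ'T.trans hT.1
        intro g hg
        have hle : Q' ⊔ Cfsg.FusionSystem.centralizerIn T Q' ≤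
            Cfsg.FusionSystem.extender S Q' (Classical.choose hu) := by
          refine sup_le (Fus.le_extender (Classical.choose_spec hu).1) fun c hc => ?_
          obtain ⟨hcT, hcc⟩ := Fus.mem_centralizerIn.1 hc
          refine Fus.mem_extender.2 ⟨hT.1 hcT, (Fus.centralizerIn_le_normalizerIn Q' hc).2, 1,
            S.one_mem, fun x hx => ?_⟩
          rw [show c * x * c⁻¹ = x by rw [← hcc x hx, mul_inv_cancel_right]]
          simp
        obtain ⟨h1, h2, k, hk, hke⟩ := Fus.mem_extender.1 (hle hg)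
        refine ⟨⟨h1, h2⟩, k, hk, fun x hx => ?_⟩
        have hgx := (Subgroup.mem_normalizer_iff.1 h2 x).1 hx
        have := hke x hx
        rwa [Fus.toFun_apply _ hgx, Fus.toFun_apply _ hx, (Classical.choose_spec hu).2,
          (Classical.choose_spec hu).2] at this) le_sup_left
    have hfQ : Fus.fimg f Q' = Q := (Fus.fimg_congr hfe).trans huQ
    have hf' := hf.res (le_sup_right : Cfsg.FusionSystem.centralizerIn T Q' ≤ _)
    rw [← hf'.card_fimg]
    haveI : Finite ↥(Cfsg.FusionSystem.centralizerIn T Q) := Fus.finite_of_le (S := T) inf_le_left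
    refine Subgroup.card_le_of_le (Fus.fimg_le fun c hc => ⟨?_, ?_⟩)
    · exact Fus.StronglyClosed.apply_mem hT hf' inf_le_left hc
    · exact (hfQ ▸ hf.map_centralizerIn le_sup_left (le_sup_right (a := Q') hc) hc.2).2
  · intro hQ
    refine ⟨hQT, fun Q' hQ' => ?_⟩
    obtain ⟨hc, hQ'T⟩ := hconj Q' hQ'
    obtain ⟨f, hf, -, hfN⟩ := Fus.exists_map_to_fullyNormalized hS hF hQ (Fus.isConj_symm hc)
    have hle : Cfsg.FusionSystem.normalizerIn T Q' ≤ Cfsg.FusionSystem.normalizerIn S Q' :=
      inf_le_inf_right _ hT.1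
    have hf' := hf.res hle
    rw [← hf'.card_fimg]
    haveI : Finite ↥(Cfsg.FusionSystem.normalizerIn T Q) := Fus.finite_of_le (S := T) inf_le_left
    refine Subgroup.card_le_of_le (Fus.fimg_le fun c hc => ⟨?_, ?_⟩)
    · exact Fus.StronglyClosed.apply_mem hT hf' inf_le_left hc
    · exact (hfN c (hle hc)).2

end Cfsg.Agent.S5341
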