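import Cfsg.Statements.S5345
import Mathlib
-- import your own Cfsg.Agent.* helpers here

set_option autoImplicit false
open Cfsg

namespace Cfsg.Agent.S5345

open scoped Pointwise

/-- Let D be a conjugation-invariant generating set of 3-transpositions of a finite group G and T a Sylow 2-subgroup of G. Then the members of D lying in T generate an abelian subgroup, and their number is the width of D (the largest number of pairwise commuting members of D). -/
theorem result {G : Type*} [Group G] [Finite G] {D : Set G} (hD : Cfsg.IsThreeTranspositionGroup D) (T : Sylow 2 G) : IsMulCommutative (Subgroup.closure {d : G | d ∈ D ∧ d ∈ T}) ∧ {d : G | d ∈ D ∧ d ∈ T}.ncard = Cfsg.commutingWidth D := by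
  classical
  haveI : Fact (Nat.Prime 2) := ⟨Nat.prime_two⟩
  obtain ⟨⟨h1, h2⟩, hc, -⟩ := hD
  have hcomm : ∀ a ∈ {d : G | d ∈ D ∧ d ∈ T}, ∀ b ∈ {d : G | d ∈ D ∧ d ∈ T}, Commute a b := by
    rintro a ⟨ha, haT⟩ b ⟨hb, hbT⟩
    have sqa : a⁻¹ = a := inv_eq_of_mul_eq_one_right (by have h := pow_orderOf_eq_one a; rwa [h1 a ha, pow_two] at h)
    have sqb : b⁻¹ = b := inv_eq_of_mul_eq_one_right (by have h := pow_orderOf_eq_one b; rwa [h1 b hb, pow_two] at h)
    rcases h2 a ha b hb with e | e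
    · have e' : a * b = (a * b)⁻¹ := eq_inv_of_mul_eq_one_left (by rwa [← pow_two])
      rwa [mul_inv_rev, sqa, sqb] at e'
    · obtain ⟨k, hk⟩ := T.isPGroup' ⟨a * b, T.mul_mem haT hbT⟩
      have hk' : (a * b) ^ 2 ^ k = 1 := congrArg Subtype.val hk
      have hd := Nat.dvd_gcd (orderOf_dvd_of_pow_eq_one e) (orderOf_dvd_of_pow_eq_one hk')
      rw [Nat.Coprime.gcd_eq_one (Nat.Coprime.pow_right k (by norm_num))] at hd
      have hab : a * b = 1 := orderOf_eq_one_iff.mp (Nat.dvd_one.mp hd)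
      rw [eq_inv_of_mul_eq_one_left hab, sqb]
  refine ⟨Subgroup.isMulCommutative_closure fun a ha b hb => hcomm a ha b hb, ?_⟩
  refine (IsGreatest.csSup_eq (s := {n : ℕ | ∃ E : Set G, E ⊆ D ∧ E.Finite ∧ (∀ a ∈ E, ∀ b ∈ E, Commute a b) ∧ E.ncard = n})
    ⟨⟨{d : G | d ∈ D ∧ d ∈ T}, fun d hd => hd.1, Set.toFinite _, hcomm, rfl⟩, ?_⟩).symm
  rintro n ⟨E, hED, -, hEc, rfl⟩
  haveI : IsMulCommutative (Subgroup.closure E) := Subgroup.isMulCommutative_closure hEc
  have hP : IsPGroup 2 (Subgroup.closure E) := by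
    intro x
    refine ⟨1, Subtype.ext ?_⟩
    rw [pow_one, Subgroup.coe_pow, Subgroup.coe_one]
    obtain ⟨g, hg⟩ := x
    show g ^ 2 = 1
    induction hg using Subgroup.closure_induction with
    | mem y hy => have h := pow_orderOf_eq_one y; rwa [h1 y (hED hy)] at h
    | one => exact one_pow 2
    | mul y z hy hz iy iz =>
        have hyz : Commute y z := congrArg Subtype.val (mul_comm' (⟨y, hy⟩ : Subgroup.closure E) ⟨z, hz⟩)
        rw [hyz.mul_pow, iy, iz, one_mul]
    | inv y hy iy => rw [inv_pow, iy, inv_one]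
  obtain ⟨S, hS⟩ := hP.exists_le_sylow
  obtain ⟨g, hg⟩ := MulAction.exists_smul_eq G S T
  refine Set.ncard_le_ncard_of_injOn (fun e => g * e * g⁻¹) (fun e he => ⟨hc g e (hED he), ?_⟩)
    (fun a _ b _ hab => by simpa using hab) (Set.toFinite _)
  rw [← hg]
  exact Subgroup.smul_mem_pointwise_smul e (MulAut.conj g) S (hS (Subgroup.subset_closure he))

end Cfsg.Agent.S5345
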