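import Cfsg.Statements.S5346
import Cfsg.Agent.Lib.Spor.ThreePowerProducts
import Cfsg.Agent.Lib.Spor.ThreeTrans

set_option autoImplicit false
open Cfsg

namespace Cfsg.Agent.S5346

open Cfsg.Agent.Spor

/-- Let D be a conjugation-invariant generating set of 3-transpositions of a finite group G and d a member of D. Then D has width 1 (no two different members of D commute) if and only if G is the product of the subgroup generated by d with the largest normal 3-subgroup of G. -/
theorem result {G : Type*} [Group G] [Finite G] {D : Set G} (hD : Cfsg.IsThreeTranspositionGroup D) {d : G} (hd : d ∈ D) : Cfsg.commutingWidth D = 1 ↔ Subgroup.zpowers d ⊔ Cfsg.pCore 3 G = ⊤ := by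
  classical
  obtain ⟨hE, hconj, hgen⟩ := hD
  haveI := Transfer.pCore_normal' 3 G
  have h3 : IsPGroup 3 ↥(Cfsg.pCore 3 G) := Transfer.pCore_isPGroup 3 G
  have h2 : ∀ x : G, x ∈ Cfsg.pCore 3 G → x * x = 1 → x = 1 := by
    intro x hx hxx
    obtain ⟨k, hk⟩ := h3 ⟨x, hx⟩
    have hk' : x ^ 3 ^ k = 1 := congrArg Subtype.val hk
    have h1 : orderOf x ∣ 2 := orderOf_dvd_of_pow_eq_one (by rw [pow_two, hxx])
    have h2 : orderOf x ∣ 3 ^ k := orderOf_dvd_of_pow_eq_one hk'
    exact orderOf_eq_one_iff.mp (Nat.eq_one_of_dvd_coprimes (Nat.Coprime.pow_right k (by norm_num)) h1 h2)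
  set S := {n : ℕ | ∃ E : Set G, E ⊆ D ∧ E.Finite ∧ (∀ a ∈ E, ∀ b ∈ E, Commute a b) ∧ E.ncard = n} with hS
  have hbdd : BddAbove S := ⟨Nat.card G, fun n ⟨E, _, _, _, e⟩ => e ▸ Set.ncard_le_card E⟩
  constructor
  · intro hw
    have hnc : ∀ a ∈ D, ∀ b ∈ D, Commute a b → a = b := by
      intro a ha b hb hab
      by_contra hne
      have : 2 ≤ sSup S := le_csSup hbdd ⟨{a, b}, by simp [Set.insert_subset_iff, ha, hb], Set.toFinite _,
        by rintro x (rfl | rfl) y (rfl | rfl) <;> first | exact Commute.refl _ | exact hab | exact hab.symm,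
        Set.ncard_pair hne⟩
      rw [show sSup S = 1 from hw] at this
      omega
    have hd2 : orderOf d = 2 := hE.1 d hd
    have hp : ∀ k : G, ∃ n : ℕ, orderOf (d * (k * d * k⁻¹)) = 3 ^ n := by
      intro k
      by_cases he : k * d * k⁻¹ = d
      · refine ⟨0, ?_⟩
        rw [he, ThreeTrans.mul_self hE hd, orderOf_one, pow_zero]
      · rcases hE.2 d hd _ (hconj k d hd) with h | h
        · exfalso
          refine he (hnc _ (hconj k d hd) d hd ?_)
          show k * d * k⁻¹ * d = d * (k * d * k⁻¹)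
          have h' : d * (k * d * k⁻¹) = (d * (k * d * k⁻¹))⁻¹ := eq_inv_of_mul_eq_one_left (by rwa [← pow_two])
          rw [mul_inv_rev, ThreeTrans.inv_eq hE (hconj k d hd), ThreeTrans.inv_eq hE hd] at h'
          exact h'.symm
        · obtain ⟨j, -, hj⟩ := (Nat.dvd_prime_pow Nat.prime_three).mp
            (show orderOf (d * (k * d * k⁻¹)) ∣ 3 ^ 1 from by simpa using orderOf_dvd_of_pow_eq_one h)
          exact ⟨j, hj⟩
    have hm := ThreePower.mul_conj_mem_pCore hd2 hp
    rw [eq_top_iff, ← hgen, Subgroup.closure_le]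
    intro e he
    have hdH : d ∈ Subgroup.zpowers d ⊔ Cfsg.pCore 3 G := Subgroup.mem_sup_left (Subgroup.mem_zpowers d)
    by_cases hc : Commute d e
    · rw [← hnc d hd e he hc]; exact hdH
    · have h : d * e * d = e * d * e := ThreeTrans.braid hE hd he hc
      have he' : e = (d * e) * d * (d * e)⁻¹ := by
        rw [h, mul_inv_rev, ThreeTrans.inv_eq hE he, ThreeTrans.inv_eq hE hd]
        simp [mul_assoc, ThreeTrans.mul_self hE he, ThreeTrans.mul_self_mul hE hd, ThreeTrans.mul_self_mul hE he,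
          ThreeTrans.mul_self hE hd]
      have := hm (d * e)
      rw [← he'] at this
      rw [SetLike.mem_coe, show e = d * (d * e) by rw [ThreeTrans.mul_self_mul hE hd]]
      exact mul_mem hdH (Subgroup.mem_sup_right this)
  · intro htop
    have hrep : ∀ e ∈ D, e * d ∈ Cfsg.pCore 3 G := by
      intro e he
      obtain ⟨y, hy, x, hx, rfl⟩ := Subgroup.mem_sup_of_normal_right.mp (show e ∈ Subgroup.zpowers d ⊔ Cfsg.pCore 3 G from htop ▸ Subgroup.mem_top e)
      obtain ⟨i, rfl⟩ := Subgroup.mem_zpowers_iff.mp hy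
      have hdd : d ^ (2 : ℤ) = 1 := by rw [zpow_two, ThreeTrans.mul_self hE hd]
      rcases Int.even_or_odd i with ⟨j, rfl⟩ | ⟨j, rfl⟩
      · exfalso
        rw [show j + j = 2 * j by ring, zpow_mul, hdd, one_zpow, one_mul] at he
        exact ThreeTrans.ne_one hE he (h2 x hx (ThreeTrans.mul_self hE he))
      · rw [zpow_add, zpow_mul, hdd, one_zpow, one_mul, zpow_one]
        have := Subgroup.Normal.conj_mem (H := Cfsg.pCore 3 G) inferInstance x hx d
        rwa [ThreeTrans.inv_eq hE hd] at this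
    have hnc : ∀ a ∈ D, ∀ b ∈ D, Commute a b → a = b := by
      intro a ha b hb hab
      have hm : a * b ∈ Cfsg.pCore 3 G := by
        have := mul_mem (hrep a ha) (inv_mem (hrep b hb))
        rwa [mul_inv_rev, ThreeTrans.inv_eq hE hb, ThreeTrans.inv_eq hE hd, mul_assoc, ThreeTrans.mul_self_mul hE hd] at this
      have := h2 _ hm (by rw [← pow_two, hab.mul_pow, pow_two, pow_two, ThreeTrans.mul_self hE ha, ThreeTrans.mul_self hE hb, mul_one])
      exact (eq_inv_of_mul_eq_one_left this).trans (ThreeTrans.inv_eq hE hb)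
    show sSup S = 1
    refine le_antisymm (csSup_le' ?_) (le_csSup hbdd ⟨{d}, by simp [hd], Set.toFinite _, by simp, Set.ncard_singleton d⟩)
    rintro n ⟨E, hED, hEfin, hEc, rfl⟩
    exact (Set.ncard_le_one hEfin).mpr fun a ha b hb => hnc a (hED ha) b (hED hb) (hEc a ha b hb)

end Cfsg.Agent.S5346
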