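import Cfsg.Statements.S5347
import Mathlib
-- import your own Cfsg.Agent.* helpers here

set_option autoImplicit false
open Cfsg

namespace Cfsg.Agent.S5347

/-- Let D be a conjugation-invariant generating set of 3-transpositions of a finite group G, p a prime bigger than 3, and P a p-subgroup of G. If a member d of D normalizes P then d centralizes P. -/
theorem result {G : Type*} [Group G] [Finite G] {D : Set G} (hD : Cfsg.IsThreeTranspositionGroup D) {p : ℕ} (hp : p.Prime) (hp3 : 3 < p) (P : Subgroup G) (hP : IsPGroup p P) {d : G} (hd : d ∈ D) (hnorm : d ∈ Subgroup.normalizer (P : Set G)) : ∀ x ∈ P, Commute d x := by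
  obtain ⟨⟨h1, h2⟩, hc, -⟩ := hD
  haveI := Fact.mk hp
  intro x hx
  have dd : d⁻¹ = d := inv_eq_of_mul_eq_one_right (by have h := pow_orderOf_eq_one d; rwa [h1 d hd, pow_two] at h)
  have hy : d * (x * d * x⁻¹) ∈ P := by
    have := P.mul_mem ((Subgroup.mem_normalizer_iff.mp hnorm x).mp hx) (P.inv_mem hx)
    rw [dd] at this
    simpa [mul_assoc] using this
  obtain ⟨k, hk⟩ := hP ⟨_, hy⟩
  have hk' : (d * (x * d * x⁻¹)) ^ p ^ k = 1 := congrArg Subtype.val hk
  have h1' : d * (x * d * x⁻¹) = 1 := by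
    rcases h2 d hd _ (hc x d hd) with e | e <;>
    · have hd' := Nat.dvd_gcd (orderOf_dvd_of_pow_eq_one e) (orderOf_dvd_of_pow_eq_one hk')
      rw [Nat.Coprime.gcd_eq_one (Nat.Coprime.pow_right k ((Nat.coprime_primes (by norm_num) hp).mpr (by omega)))] at hd'
      exact orderOf_eq_one_iff.mp (Nat.dvd_one.mp hd')
  have h3 : x * d * x⁻¹ = d := by rw [← inv_eq_of_mul_eq_one_right h1', dd]
  exact (mul_inv_eq_iff_eq_mul.mp h3).symm

end Cfsg.Agent.S5347
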