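import Cfsg.Statements.S5349
import Cfsg.Agent.Lib.Spor.ThreeTransPerp

set_option autoImplicit false
open Cfsg

namespace Cfsg.Agent.S5349

open Cfsg.Agent.Spor

/-- Let D be a conjugacy class of 3-transpositions generating the finite group G, with at least two members, and d a member of D. Then the set of members of D commuting with exactly the same members of D as d coincides with the set of members of D lying in the coset of d modulo the largest normal 2-subgroup of G, and also with the orbit of d under conjugation by that normal 2-subgroup. -/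
theorem result {G : Type*} [Group G] [Finite G] {D : Set G} (hD : Cfsg.IsThreeTranspositionClass D) (hD2 : ∃ a ∈ D, ∃ b ∈ D, a ≠ b) {d : G} (hd : d ∈ D) : {v : G | v ∈ D ∧ ∀ e ∈ D, Commute v e ↔ Commute d e} = {v : G | v ∈ D ∧ d⁻¹ * v ∈ Cfsg.pCore 2 G} ∧ {v : G | v ∈ D ∧ ∀ e ∈ D, Commute v e ↔ Commute d e} = {v : G | ∃ g ∈ Cfsg.pCore 2 G, v = g * d * g⁻¹} := by
  have hi : d⁻¹ = d := ThreeTrans.inv_eq hD.1 hd
  haveI := Transfer.pCore_normal' 2 G
  have e1 : ∀ v, (v ∈ D ∧ ∀ e ∈ D, Commute v e ↔ Commute d e) ↔ ThreeTrans.perpTwo D d v := fun v =>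
    ⟨fun h => ⟨hd, h.1, fun e he => (h.2 e he).symm⟩, fun h => ⟨h.2.1, fun e he => (h.2.2 e he).symm⟩⟩
  constructor
  · ext v
    simp only [Set.mem_setOf_eq, hi]
    exact ⟨fun h => ⟨h.1, ThreeTrans.mul_mem_core_two hD ((e1 v).mp h)⟩,
      fun h => (e1 v).mpr (ThreeTrans.perpTwo_of_core hD hd h.1 h.2)⟩
  · ext v
    refine ⟨fun h => ThreeTrans.exists_conj_core_two hD hD2 ((e1 v).mp h), ?_⟩
    rintro ⟨g, hg, rfl⟩
    refine (e1 _).mpr (ThreeTrans.perpTwo_of_core hD hd (ThreeTrans.conj_mem hD g hd) ?_)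
    rw [show d * (g * d * g⁻¹) = (d * g * d⁻¹) * g⁻¹ by rw [hi]; group]
    exact mul_mem (Subgroup.Normal.conj_mem inferInstance g hg d) (inv_mem hg)

end Cfsg.Agent.S5349
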