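import Cfsg.Statements.S5350
import Cfsg.Agent.Lib.Spor.ThreeTransPerp

set_option autoImplicit false
open Cfsg

namespace Cfsg.Agent.S5350

open Cfsg.Agent.Spor

/-- Let D be a conjugacy class of 3-transpositions generating the finite group G, with at least two members, and d a member of D. Then the set of members w of D whose commuting partners in D (other than w) are exactly those of d (other than d) coincides with the set of members of D lying in the coset of d modulo the largest normal 3-subgroup of G, and also with the orbit of d under conjugation by that normal 3-subgroup. -/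
theorem result {G : Type*} [Group G] [Finite G] {D : Set G} (hD : Cfsg.IsThreeTranspositionClass D) (hD2 : ∃ a ∈ D, ∃ b ∈ D, a ≠ b) {d : G} (hd : d ∈ D) : {w : G | w ∈ D ∧ {y : G | y ∈ D ∧ y ≠ d ∧ Commute d y} = {y : G | y ∈ D ∧ y ≠ w ∧ Commute w y}} = {w : G | w ∈ D ∧ d⁻¹ * w ∈ Cfsg.pCore 3 G} ∧ {w : G | w ∈ D ∧ {y : G | y ∈ D ∧ y ≠ d ∧ Commute d y} = {y : G | y ∈ D ∧ y ≠ w ∧ Commute w y}} = {w : G | ∃ g ∈ Cfsg.pCore 3 G, w = g * d * g⁻¹} := by
  have hi : d⁻¹ = d := ThreeTrans.inv_eq hD.1 hd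
  haveI := Transfer.pCore_normal' 3 G
  constructor
  · ext v
    simp only [Set.mem_setOf_eq, hi]
    exact ⟨fun h => ⟨h.1, ThreeTrans.mul_mem_core_three hD ⟨hd, h.1, h.2⟩⟩,
      fun h => ⟨h.1, (ThreeTrans.perpThree_of_core hD hd h.1 h.2).2.2⟩⟩
  · ext v
    refine ⟨fun h => ThreeTrans.exists_conj_core_three hD ⟨hd, h.1, h.2⟩, ?_⟩
    rintro ⟨g, hg, rfl⟩
    have h := ThreeTrans.perpThree_of_core hD hd (ThreeTrans.conj_mem hD g hd) (by
      rw [show d * (g * d * g⁻¹) = (d * g * d⁻¹) * g⁻¹ by rw [hi]; group]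
      exact mul_mem (Subgroup.Normal.conj_mem inferInstance g hg d) (inv_mem hg))
    exact ⟨h.2.1, h.2.2⟩

end Cfsg.Agent.S5350
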