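import Cfsg.Statements.S5355
import Mathlib
import Cfsg.Agent.S5344
-- import your own Cfsg.Agent.* helpers here

set_option autoImplicit false
open Cfsg

namespace Cfsg.Agent.S5355

/-- Let D be a conjugacy class of 3-transpositions generating the finite group G, with at least two members, and d a member of D. Suppose that every member of D commuting with d commutes with exactly the same members of D as d does, and that exactly one member of D other than d commutes with d. Then G is isomorphic to the symmetric group of degree 4. -/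
theorem result {G : Type*} [Group G] [Finite G] {D : Set G} (hD : Cfsg.IsThreeTranspositionClass D) (hD2 : ∃ a ∈ D, ∃ b ∈ D, a ≠ b) {d : G} (hd : d ∈ D) (hV : {y : G | y ∈ D ∧ Commute d y} = {v : G | v ∈ D ∧ ∀ e ∈ D, Commute v e ↔ Commute d e}) (hm : {y : G | y ∈ D ∧ Commute d y}.ncard = 2) : Nonempty (G ≃* Equiv.Perm (Fin 4)) := by
  classical
  obtain ⟨hset, ⟨d₀, hd₀, hcls⟩, hgen⟩ := hD
  have hconj : ∀ (g : G), ∀ a ∈ D, g * a * g⁻¹ ∈ D := fun g a ha => by
    rw [hcls] at ha ⊢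
    exact (show IsConj d₀ a from ha).trans (isConj_iff.mpr ⟨g, rfl⟩)
  have hcc : ∀ g a b : G, Commute (g * a * g⁻¹) (g * b * g⁻¹) ↔ Commute a b := fun g a b =>
    ⟨fun h => by have := h.map (MulAut.conj g⁻¹); simpa [mul_assoc] using this, fun h => h.map (MulAut.conj g)⟩
  have htr : ∀ a ∈ D, ∃ g : G, g * d * g⁻¹ = a := fun a ha => by
    rw [hcls] at ha hd
    exact isConj_iff.mp ((show IsConj d₀ d from hd).symm.trans ha)
  obtain ⟨d', hd'D, hdd', hne, hset'⟩ : ∃ d' ∈ D, Commute d d' ∧ d' ≠ d ∧ ∀ y ∈ D, Commute d y → y = d ∨ y = d' := by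
    have hdm : d ∈ {y : G | y ∈ D ∧ Commute d y} := ⟨hd, Commute.refl d⟩
    obtain ⟨p, q, hpq, e⟩ := Set.ncard_eq_two.mp hm
    have hmem : ∀ y, (y ∈ D ∧ Commute d y) ↔ (y = p ∨ y = q) := fun y => by
      have := Set.ext_iff.mp e y; simpa using this
    rcases (hmem d).mp hdm with rfl | rfl
    · obtain ⟨h1, h2⟩ := (hmem q).mpr (Or.inr rfl)
      exact ⟨q, h1, h2, hpq.symm, fun y h3 h4 => (hmem y).mp ⟨h3, h4⟩⟩
    · obtain ⟨h1, h2⟩ := (hmem p).mpr (Or.inl rfl)
      exact ⟨p, h1, h2, hpq, fun y h3 h4 => ((hmem y).mp ⟨h3, h4⟩).symm⟩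
  -- the same at every member
  have hP : ∀ a ∈ D, ∀ a' ∈ D, a' ≠ a → Commute a a' →
      (∀ e ∈ D, Commute a' e ↔ Commute a e) ∧ ∀ y ∈ D, Commute a y → y = a ∨ y = a' := by
    intro a ha a' ha' hn hc
    obtain ⟨g, rfl⟩ := htr a ha
    have back : ∀ y : G, y = g * (g⁻¹ * y * g) * g⁻¹ := fun y => by group
    have inD : ∀ y ∈ D, g⁻¹ * y * g ∈ D := fun y hy => by simpa using hconj g⁻¹ y hy
    have e' : g⁻¹ * a' * g = d' := by
      refine (hset' _ (inD a' ha') ?_).resolve_left fun e => hn (by rw [back a', e])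
      rw [← hcc g, ← back]; exact hc
    subst e'
    have hsame := ((Set.ext_iff.mp hV _).mp ⟨hd'D, hdd'⟩).2
    refine ⟨fun e he => ?_, fun y hy hcy => ?_⟩
    · rw [back e, hcc, back a', hcc]
      exact hsame _ (inD e he)
    · rcases hset' _ (inD y hy) (by rw [← hcc g, ← back]; exact hcy) with h | h
      · exact Or.inl (by rw [back y, h])
      · exact Or.inr (by rw [back y, h, ← back])
  have swapconj : ∀ i j : Fin 4, i ≠ j → ∃ σ : Equiv.Perm (Fin 4), σ * Equiv.swap 0 1 * σ⁻¹ = Equiv.swap i j := by decide +kernel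
  have four : ∀ a ∈ D, ∀ a' ∈ D, a' ≠ a → Commute a a' → ∀ b ∈ D, ¬ Commute a b →
      ∃ φ : Equiv.Perm (Fin 4) →* G, Function.Injective φ ∧ φ (Equiv.swap 0 1) = a ∧ φ (Equiv.swap 1 2) = b ∧ φ (Equiv.swap 2 3) = a' :=
    fun a ha a' ha' hn hc b hb hnb =>
      S5344.result hset ha hb ha' (Ne.symm hn) hc hnb (fun h => hnb (((hP a ha a' ha' hn hc).1 b hb).mp h.symm))
  -- a commuting pair sends every other member to its partner
  have flip : ∀ a ∈ D, ∀ a' ∈ D, a' ≠ a → Commute a a' → ∀ e ∈ D, ¬ Commute a e →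
      (a * a') * e * (a * a')⁻¹ ≠ e ∧ Commute e ((a * a') * e * (a * a')⁻¹) ∧ (a * a') * (a * a') = 1 := by
    intro a ha a' ha' hn hc e he hne
    obtain ⟨φ, hi, h1, h2, h3⟩ := four a ha a' ha' hn hc e he hne
    rw [← h1, ← h2, ← h3, ← map_mul, ← map_inv, ← map_mul, ← map_mul, ← map_mul]
    refine ⟨fun h => ?_, ?_, ?_⟩
    · have := hi h; revert this; decide +kernel
    · refine Commute.map ?_ φ
      show Equiv.swap (1 : Fin 4) 2 * _ = _ * Equiv.swap 1 2
      decide +kernel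
    · rw [← map_one φ]; congr 1; decide +kernel
  obtain ⟨b, hb, hdb⟩ : ∃ b ∈ D, ¬ Commute d b := by
    by_contra hall
    push Not at hall
    obtain ⟨x, hx, y, hy, hxy⟩ := hD2
    have hz : d ∈ Subgroup.center G := by
      rw [Subgroup.mem_center_iff]
      intro g
      have : g ∈ Subgroup.closure D := hgen ▸ Subgroup.mem_top g
      have hle : Subgroup.closure D ≤ Subgroup.centralizer {d} := (Subgroup.closure_le _).mpr fun u hu =>
        Subgroup.mem_centralizer_singleton_iff.mpr (hall u hu).symm.eq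
      exact Subgroup.mem_centralizer_singleton_iff.mp (hle this)
    obtain ⟨g, rfl⟩ := htr x hx
    obtain ⟨g', rfl⟩ := htr y hy
    exact hxy (by rw [Subgroup.mem_center_iff.mp hz g, Subgroup.mem_center_iff.mp hz g', mul_inv_cancel_right, mul_inv_cancel_right])
  obtain ⟨φ, hi, h1, h2, h3⟩ := four d hd d' hd'D hne hdd' b hb hdb
  have hT : ∀ i j : Fin 4, i ≠ j → φ (Equiv.swap i j) ∈ D := fun i j hij => by
    obtain ⟨σ, hσ⟩ := swapconj i j hij
    rw [← hσ, map_mul, map_mul, map_inv, h1]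
    exact hconj _ d hd
  have hDR : ∀ e ∈ D, e ∈ φ.range := by
    intro e he
    by_contra hout
    have pr : ∀ i j k l : Fin 4, i ≠ j → k ≠ l → Equiv.swap k l ≠ Equiv.swap i j → Commute (Equiv.swap i j) (Equiv.swap k l) →
        (φ (Equiv.swap i j) * φ (Equiv.swap k l)) * e * (φ (Equiv.swap i j) * φ (Equiv.swap k l))⁻¹ ≠ e ∧
        Commute e ((φ (Equiv.swap i j) * φ (Equiv.swap k l)) * e * (φ (Equiv.swap i j) * φ (Equiv.swap k l))⁻¹) ∧
        (φ (Equiv.swap i j) * φ (Equiv.swap k l)) * (φ (Equiv.swap i j) * φ (Equiv.swap k l)) = 1 := by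
      intro i j k l hij hkl hne' hc
      refine flip _ (hT i j hij) _ (hT k l hkl) (fun h => hne' (hi h)) (hc.map φ) e he fun hce => hout ?_
      rcases (hP _ (hT i j hij) _ (hT k l hkl) (fun h => hne' (hi h)) (hc.map φ)).2 e he hce with h | h <;>
        exact ⟨_, h.symm⟩
    obtain ⟨u1, u2, uu⟩ := pr 0 1 2 3 (by decide) (by decide) (by decide) (by show _ * _ = _ * _; decide)
    obtain ⟨v1, v2, -⟩ := pr 1 2 0 3 (by decide) (by decide) (by decide) (by show _ * _ = _ * _; decide)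
    obtain ⟨w1, w2, -⟩ := pr 0 2 1 3 (by decide) (by decide) (by decide) (by show _ * _ = _ * _; decide)
    set u := φ (Equiv.swap 0 1) * φ (Equiv.swap 2 3) with hu
    set v := φ (Equiv.swap 1 2) * φ (Equiv.swap 0 3) with hv
    set w := φ (Equiv.swap 0 2) * φ (Equiv.swap 1 3) with hw
    have huv : u * v = w := by
      rw [hu, hv, hw, ← map_mul, ← map_mul, ← map_mul, ← map_mul]; congr 1; decide +kernel
    have hpu : u * e * u⁻¹ ∈ D := hconj u e he
    have huniq := (hP e he _ hpu u1 u2).2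
    have hvp : v * e * v⁻¹ = u * e * u⁻¹ := (huniq _ (hconj v e he) v2).resolve_left v1
    apply w1
    calc w * e * w⁻¹ = u * (v * e * v⁻¹) * u⁻¹ := by rw [← huv]; group
      _ = (u * u) * e * (u * u)⁻¹ := by rw [hvp]; group
      _ = e := by rw [uu]; group
  have hsur : Function.Surjective φ := MonoidHom.range_eq_top.mp (top_le_iff.mp (hgen ▸ (Subgroup.closure_le _).mpr hDR))
  exact ⟨(MulEquiv.ofBijective φ ⟨hi, hsur⟩).symm⟩

end Cfsg.Agent.S5355
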