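import Cfsg.Statements.S5356
import Cfsg.Agent.Lib.Spor.ThreeTransPerp
import Cfsg.Agent.Lib.Spor.InvolSylow

set_option autoImplicit false
open Cfsg

namespace Cfsg.Agent.S5356

open Cfsg.Agent.Spor

/-- Let D be a conjugacy class of 3-transpositions generating the finite group G, with at least two members, and d a member of D such that every member of D commuting with d commutes with exactly the same members of D as d. Then there is a Sylow 3-subgroup P of G normalized by d such that G is generated by d, P and the largest normal 2-subgroup of G. -/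
theorem result {G : Type*} [Group G] [Finite G] {D : Set G} (hD : Cfsg.IsThreeTranspositionClass D) (hD2 : ∃ a ∈ D, ∃ b ∈ D, a ≠ b) {d : G} (hd : d ∈ D) (hV : {y : G | y ∈ D ∧ Commute d y} = {v : G | v ∈ D ∧ ∀ e ∈ D, Commute v e ↔ Commute d e}) : ∃ P : Sylow 3 G, d ∈ Subgroup.normalizer (P : Set G) ∧ Subgroup.zpowers d ⊔ (P : Subgroup G) ⊔ Cfsg.pCore 2 G = ⊤ := by
  classical
  haveI : Fact (Nat.Prime 3) := ⟨Nat.prime_three⟩
  haveI hMn := Transfer.pCore_normal' 2 G
  have hE := hD.1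
  set M := Cfsg.pCore 2 G with hM
  have hperp : ∀ a ∈ D, ∀ b ∈ D, Commute a b → ThreeTrans.perpTwo D a b := by
    intro a ha b hb hab
    obtain ⟨g, rfl⟩ := ThreeTrans.transitive hD hd ha
    have hb' : g⁻¹ * b * g⁻¹⁻¹ ∈ D := ThreeTrans.conj_mem hD g⁻¹ hb
    have e : b = g * (g⁻¹ * b * g⁻¹⁻¹) * g⁻¹ := by group
    rw [e] at hab ⊢
    rw [ThreeTrans.commute_conj_iff] at hab
    have h := (Set.ext_iff.mp hV _).mp ⟨hb', hab⟩
    exact (ThreeTrans.isSys_perpTwo hD).inv g ⟨hd, hb', fun x hx => (h.2 x hx).symm⟩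
  let π := QuotientGroup.mk' M
  have hπs : Function.Surjective π := QuotientGroup.mk'_surjective M
  set N3 := Cfsg.pCore 3 (G ⧸ M) with hN3
  haveI hN3n := Transfer.pCore_normal' 3 (G ⧸ M)
  have hprod : ∀ a ∈ D, π d * π a ∈ N3 := by
    intro a ha
    refine FourGen.mul_mem_pCore (π '' D) ?_ ?_ ?_ ⟨d, hd, rfl⟩ ⟨a, ha, rfl⟩
    · rintro _ ⟨x, hx, rfl⟩; rw [← map_mul, ThreeTrans.mul_self hE hx, map_one]
    · rintro g _ ⟨x, hx, rfl⟩
      obtain ⟨g, rfl⟩ := hπs g
      exact ⟨_, ThreeTrans.conj_mem hD g hx, by simp⟩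
    · rintro _ ⟨x, hx, rfl⟩ _ ⟨y, hy, rfl⟩
      by_cases hc : Commute x y
      · rw [← map_mul, show π (x * y) = 1 from (QuotientGroup.eq_one_iff _).mpr
          (ThreeTrans.mul_mem_core_two hD (hperp x hx y hy hc)), one_pow]
      · rw [← map_mul, ← map_pow, ThreeTrans.pow_three_of_not_commute hD hx hy hc, map_one]
  have htop : Subgroup.zpowers (π d) ⊔ N3 = ⊤ := by
    rw [eq_top_iff, ← Subgroup.map_top_of_surjective π hπs, ← hD.2.2, MonoidHom.map_closure, Subgroup.closure_le]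
    rintro _ ⟨a, ha, rfl⟩
    rw [SetLike.mem_coe, show π a = π d * (π d * π a) by
      rw [← mul_assoc, ← map_mul, ThreeTrans.mul_self hE hd, map_one, one_mul]]
    exact mul_mem (Subgroup.mem_sup_left (Subgroup.mem_zpowers _)) (Subgroup.mem_sup_right (hprod a ha))
  have hsyl : ∀ P : Sylow 3 G, (P : Subgroup G).map π = N3 := by
    intro P
    have hP : IsPGroup 3 ↥((P : Subgroup G).map π) := P.isPGroup'.map π
    have hle : N3 ≤ (P : Subgroup G).map π := by
      have := Transfer.pCore_le_sylow (P.mapSurjective hπs)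
      rwa [Sylow.coe_mapSurjective] at this
    refine le_antisymm (fun y hy => ?_) hle
    obtain ⟨z, hz, n, hn, rfl⟩ := Subgroup.mem_sup_of_normal_right.mp
      (show y ∈ Subgroup.zpowers (π d) ⊔ N3 from htop ▸ Subgroup.mem_top y)
    obtain ⟨i, rfl⟩ := Subgroup.mem_zpowers_iff.mp hz
    have hzP : π d ^ i ∈ (P : Subgroup G).map π := by
      have := mul_mem hy (inv_mem (hle hn))
      rwa [mul_inv_cancel_right] at this
    obtain ⟨k, hk⟩ := hP ⟨_, hzP⟩
    have hk' : (π d ^ i) ^ 3 ^ k = 1 := congrArg Subtype.val hk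
    have h2 : (π d ^ i) ^ 2 = 1 := by
      rw [← zpow_natCast, ← zpow_mul, mul_comm, zpow_mul, zpow_natCast, pow_two, ← map_mul,
        ThreeTrans.mul_self hE hd, map_one, one_zpow]
    have : π d ^ i = 1 := orderOf_eq_one_iff.mp (Nat.eq_one_of_dvd_coprimes
      (Nat.Coprime.pow_left k (by norm_num : Nat.Coprime 3 2)) (orderOf_dvd_of_pow_eq_one hk')
      (orderOf_dvd_of_pow_eq_one h2))
    rw [this, one_mul]
    exact hn
  have hcomap : ∀ P : Sylow 3 G, (P : Subgroup G) ⊔ M = N3.comap π := fun P => by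
    rw [← hsyl P, Subgroup.comap_map_eq, QuotientGroup.ker_mk']
  obtain ⟨P, hP⟩ := InvolSylow.exists_normalized_sylow _ G rfl d (ThreeTrans.mul_self hE hd) M hMn
    (Transfer.pCore_isPGroup 2 G) (fun P => by rw [hcomap]; exact hN3n.comap π) (fun x hx => by
      have hm : d * (x * d * x⁻¹) ∈ M :=
        ThreeTrans.mul_symm_mem hD (ThreeTrans.conj_mem hD x hd) hd hx
      obtain ⟨u, hu, e⟩ := ThreeTrans.exists_conj_core_two hD hD2
        (ThreeTrans.perpTwo_of_core hD hd (ThreeTrans.conj_mem hD x hd) hm)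
      refine ⟨u⁻¹ * x, ?_, ?_⟩
      · show u⁻¹ * x * d = d * (u⁻¹ * x)
        calc u⁻¹ * x * d = u⁻¹ * (x * d * x⁻¹) * x := by group
          _ = _ := by rw [e]; group
      · rw [show (u⁻¹ * x)⁻¹ * x = x⁻¹ * u * x⁻¹⁻¹ by group]
        exact hMn.conj_mem u hu x⁻¹)
  refine ⟨P, hP, ?_⟩
  rw [sup_assoc, hcomap P, eq_top_iff, ← hD.2.2, Subgroup.closure_le]
  intro a ha
  rw [SetLike.mem_coe, show a = d * (d * a) by rw [ThreeTrans.mul_self_mul hE hd]]
  exact mul_mem (Subgroup.mem_sup_left (Subgroup.mem_zpowers _))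
    (Subgroup.mem_sup_right (by rw [Subgroup.mem_comap, map_mul]; exact hprod a ha))

end Cfsg.Agent.S5356
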