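import Cfsg.Statements.S5363
import Mathlib
-- import your own Cfsg.Agent.* helpers here

set_option autoImplicit false
open Cfsg

namespace Cfsg.Agent.S5363

section
variable {G : Type*} [Group G]

theorem inv_of_two {a : G} (h : orderOf a = 2) : a⁻¹ = a :=
  inv_eq_of_mul_eq_one_right (by have h' := pow_orderOf_eq_one a; rwa [h, pow_two] at h')

theorem semiconj_pow {a b : G} (ha : a⁻¹ = a) (hb : b⁻¹ = b) (n : ℕ) :
    a * (a * b) ^ n = ((a * b) ^ n)⁻¹ * a ∧ b * (a * b) ^ n = ((a * b) ^ n)⁻¹ * b := by
  have aa : a * a = 1 := mul_eq_one_iff_eq_inv.mpr ha.symm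
  have bb : b * b = 1 := mul_eq_one_iff_eq_inv.mpr hb.symm
  have h1 : SemiconjBy a (a * b) (a * b)⁻¹ := by
    show a * (a * b) = (a * b)⁻¹ * a
    rw [mul_inv_rev, ha, hb, ← mul_assoc, aa, one_mul, mul_assoc, aa, mul_one]
  have h2 : SemiconjBy b (a * b) (a * b)⁻¹ := by
    show b * (a * b) = (a * b)⁻¹ * b
    rw [mul_inv_rev, ha, hb, mul_assoc]
  refine ⟨?_, ?_⟩
  · have h := h1.pow_right n; rw [inv_pow] at h; exact h
  · have h := h2.pow_right n; rw [inv_pow] at h; exact h

/-- The central involution of a dihedral group of twice even order. -/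
theorem central_involution [Finite G] {a b : G} (ha : orderOf a = 2) (hb : orderOf b = 2) {k : ℕ} (hk : orderOf (a * b) = 2 * k) :
    Commute a ((a * b) ^ k) ∧ Commute b ((a * b) ^ k) ∧ (a * b) ^ k ≠ 1 ∧
      (IsConj a (a * (a * b) ^ k) ∨ IsConj b (a * (a * b) ^ k)) := by
  have ia := inv_of_two ha
  have ib := inv_of_two hb
  have hz : ((a * b) ^ k)⁻¹ = (a * b) ^ k := inv_eq_of_mul_eq_one_right (by rw [← pow_add, ← two_mul, ← hk, pow_orderOf_eq_one])
  refine ⟨?_, ?_, ?_, ?_⟩
  · have := (semiconj_pow ia ib k).1; rwa [hz] at this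
  · have := (semiconj_pow ia ib k).2; rwa [hz] at this
  · intro e
    have hpos := orderOf_pos (a * b)
    have := Nat.le_of_dvd (by omega) (orderOf_dvd_of_pow_eq_one e)
    omega
  · obtain ⟨i, rfl | rfl⟩ := Nat.even_or_odd' k
    · left
      rw [isConj_iff]
      refine ⟨((a * b) ^ i)⁻¹, ?_⟩
      rw [inv_inv, ← (semiconj_pow ia ib i).1, two_mul, pow_add, mul_assoc]
    · right
      rw [isConj_iff]
      refine ⟨((a * b) ^ i)⁻¹, ?_⟩
      have e : a * (a * b) = b := by rw [← mul_assoc, mul_eq_one_iff_eq_inv.mpr ia.symm, one_mul]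
      rw [inv_inv, ← (semiconj_pow ia ib i).2, show 2 * i + 1 = 1 + (i + i) by omega, pow_add, pow_one, ← mul_assoc a, e, pow_add, mul_assoc]

/-- Two involutions with product of odd order are conjugate by a power of the product. -/
theorem odd_conj {a b : G} (ha : orderOf a = 2) (hb : orderOf b = 2) (h : Odd (orderOf (a * b))) :
    ∃ i : ℕ, ((a * b) ^ i)⁻¹ * a * (a * b) ^ i = b := by
  obtain ⟨j, hj⟩ := h
  have ia := inv_of_two ha
  have ib := inv_of_two hb
  refine ⟨j + 1, ?_⟩
  rw [← (semiconj_pow ia ib (j + 1)).1, mul_assoc, ← pow_add, show j + 1 + (j + 1) = orderOf (a * b) + 1 by omega,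
    pow_add, pow_orderOf_eq_one, one_mul, pow_one, ← mul_assoc, mul_eq_one_iff_eq_inv.mpr ia.symm, one_mul]

end

/-- Let D be a conjugation-invariant set of involutions of a finite group G. Then every product of two members of D has odd order or order 2 if and only if, for every a in D and every b in D different from a and commuting with a, the members of D commuting with a b are exactly those commuting with both a and b. -/
theorem result {G : Type*} [Group G] [Finite G] {D : Set G} (hinv : ∀ d ∈ D, orderOf d = 2) (hconj : ∀ g : G, ∀ d ∈ D, g * d * g⁻¹ ∈ D) : (∀ a ∈ D, ∀ b ∈ D, Odd (orderOf (a * b)) ∨ orderOf (a * b) = 2) ↔ ∀ a ∈ D, ∀ b ∈ D, b ≠ a → Commute a b → {y : G | y ∈ D ∧ Commute (a * b) y} = {y : G | y ∈ D ∧ Commute a y} ∩ {y : G | y ∈ D ∧ Commute b y} := by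
  constructor
  · intro hodd a ha b hb hba hab
    ext y
    refine ⟨fun ⟨hy, hc⟩ => ?_, fun ⟨⟨hy, h1⟩, ⟨_, h2⟩⟩ => ⟨hy, h1.mul_left h2⟩⟩
    have ia := inv_of_two (hinv a ha)
    have iy := inv_of_two (hinv y hy)
    have aa : a * a = 1 := mul_eq_one_iff_eq_inv.mpr ia.symm
    have key : Commute a y := by
      rcases hodd a ha y hy with hodd' | htwo
      · by_contra hne
        obtain ⟨i, hi⟩ := odd_conj (hinv a ha) (hinv y hy) hodd'
        set v := (a * y) ^ i with hv
        have hay : Commute (a * b) (a * y) :=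
          (((Commute.refl a).mul_left hab.symm)).mul_right hc
        have hvab : Commute (a * b) v := hay.pow_right i
        have hb' : y * (a * b) ∈ D := by
          have h := hconj v⁻¹ b hb
          have e : v⁻¹ * b * v⁻¹⁻¹ = y * (a * b) := by
            have h1 : v⁻¹ * (a * b) * v = a * b := by rw [mul_assoc, hvab.eq, inv_mul_cancel_left]
            have h2 : y * (v⁻¹ * b * v) = a * b := by
              conv_rhs => rw [← h1]
              rw [← hi]; group
            rw [inv_inv, ← h2, ← mul_assoc, mul_eq_one_iff_eq_inv.mpr iy.symm, one_mul]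
          rwa [e] at h
        have e2 : a * (y * (a * b)) = a * y * (a * b) := (mul_assoc _ _ _).symm
        have ho2 : orderOf (a * b) = 2 := orderOf_eq_prime (by
          rw [hab.mul_pow, pow_two, pow_two, aa, mul_eq_one_iff_eq_inv.mpr (inv_of_two (hinv b hb)).symm, one_mul]) (fun e => hba (by
            rw [← inv_eq_of_mul_eq_one_right e, ia]))
        have hord : orderOf (a * (y * (a * b))) = orderOf (a * y) * 2 := by
          rw [e2, Commute.orderOf_mul_eq_mul_orderOf_of_coprime hay.symm (by
            rw [ho2]; exact Nat.coprime_two_right.mpr hodd'), ho2]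
        have hne1 : orderOf (a * y) ≠ 1 := fun e => hne (by
          rw [← inv_eq_of_mul_eq_one_right (orderOf_eq_one_iff.mp e), ia])
        rcases hodd a ha _ hb' with h | h
        · rw [hord, Nat.odd_mul] at h; exact absurd h.2 (by decide)
        · rw [hord] at h; omega
      · have e : a * y = (a * y)⁻¹ := eq_inv_of_mul_eq_one_left (by
          have h := pow_orderOf_eq_one (a * y); rwa [htwo, pow_two] at h)
        rwa [mul_inv_rev, ia, iy] at e
    refine ⟨⟨hy, key⟩, hy, ?_⟩
    have h := key.mul_left hc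
    rwa [← mul_assoc, aa, one_mul] at h
  · intro h a ha b hb
    rcases Nat.even_or_odd' (orderOf (a * b)) with ⟨k, hk | hk⟩
    · right
      obtain ⟨h1, h2, hz, hcj⟩ := central_involution (hinv a ha) (hinv b hb) hk
      have hcD : a * (a * b) ^ k ∈ D := by
        rcases hcj with hcj | hcj <;> obtain ⟨g, hg⟩ := isConj_iff.mp hcj <;> rw [← hg]
        · exact hconj g a ha
        · exact hconj g b hb
      have ia := inv_of_two (hinv a ha)
      have aa : a * a = 1 := mul_eq_one_iff_eq_inv.mpr ia.symm
      have hset := h a ha _ hcD (fun e => hz (mul_eq_left.mp e)) ((Commute.refl a).mul_right h1)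
      rw [← mul_assoc, aa, one_mul] at hset
      have hab : Commute a b := ((Set.ext_iff.mp hset b).mp ⟨hb, h2.symm⟩).1.2
      refine orderOf_eq_prime (by rw [hab.mul_pow, pow_two, pow_two, aa, mul_eq_one_iff_eq_inv.mpr (inv_of_two (hinv b hb)).symm, one_mul]) ?_
      intro e
      rw [e, orderOf_one] at hk
      omega
    · exact Or.inl ⟨k, hk⟩

end Cfsg.Agent.S5363
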