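import Cfsg.Statements.S5364
import Mathlib
-- import your own Cfsg.Agent.* helpers here

set_option autoImplicit false
open Cfsg

namespace Cfsg.Agent.S5364

/-- Let D be a conjugation-invariant set of involutions of a finite group G and t an involution in the centre of G such that d t does not lie in D for any d in D. If the images of the members of D in G modulo the subgroup generated by t satisfy the 3-transposition order conditions (each has order 2 and any two have product of order at most 3), then so do the members of D. -/
theorem result {G : Type*} [Group G] [Finite G] {D : Set G} (hinv : ∀ d ∈ D, orderOf d = 2) (hconj : ∀ g : G, ∀ d ∈ D, g * d * g⁻¹ ∈ D) (t : G) (ht : orderOf t = 2) (htZ : t ∈ Subgroup.center G) (hDt : ∀ d ∈ D, d * t ∉ D) [(Subgroup.zpowers t).Normal] (himg : Cfsg.IsThreeTranspositionSet ((QuotientGroup.mk : G → G ⧸ Subgroup.zpowers t) '' D)) : Cfsg.IsThreeTranspositionSet D := by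
  refine ⟨hinv, fun d hd e he => ?_⟩
  have two : ∀ g : G, g ∈ Subgroup.zpowers t → g = 1 ∨ g = t := by
    intro g hg
    obtain ⟨k, hk⟩ := hg
    subst hk
    show t ^ k = 1 ∨ t ^ k = t
    rw [← zpow_mod_orderOf, ht]
    rcases Int.emod_two_eq_zero_or_one k with h | h <;> simp [h]
  have ii : ∀ x ∈ D, x⁻¹ = x := fun x hx => inv_eq_of_mul_eq_one_right (by
    have h := pow_orderOf_eq_one x; rwa [hinv x hx, pow_two] at h)
  have mm : ∀ g : G, (g : G ⧸ Subgroup.zpowers t) = 1 → g = 1 ∨ g = t := fun g hg =>
    two g ((QuotientGroup.eq_one_iff g).mp hg)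
  rcases himg.2 _ ⟨d, hd, rfl⟩ _ ⟨e, he, rfl⟩ with h | h
  · rw [← QuotientGroup.mk_mul, ← QuotientGroup.mk_pow] at h
    rcases mm _ h with h' | h'
    · exact Or.inl h'
    · exfalso
      apply hDt d hd
      have hc := hconj e d hd
      rw [ii e he] at hc
      convert hc using 1
      rw [pow_two] at h'
      rw [← h', ← mul_assoc, ← mul_assoc d d e]
      rw [show d * d = 1 from mul_eq_one_iff_eq_inv.mpr (ii d hd).symm]
      simp [mul_assoc]
  · rw [← QuotientGroup.mk_mul, ← QuotientGroup.mk_pow] at h
    rcases mm _ h with h' | h'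
    · exact Or.inr h'
    · exfalso
      have hx := hconj d e he
      have hy := hconj e d hd
      rw [ii d hd] at hx
      rw [ii e he] at hy
      apply hDt _ hx
      convert hy using 1
      rw [← h', pow_three]
      simp only [mul_assoc]
      simp only [← mul_assoc d d, show d * d = 1 from mul_eq_one_iff_eq_inv.mpr (ii d hd).symm, one_mul,
        ← mul_assoc e e, show e * e = 1 from mul_eq_one_iff_eq_inv.mpr (ii e he).symm]

end Cfsg.Agent.S5364
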