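import Cfsg.Statements.S5366
import Cfsg.Agent.Lib.Spor.FischerPlanes

set_option autoImplicit false
open Cfsg

namespace Cfsg.Agent.S5366

open Cfsg.Agent.Spor.FischerPlanes

/-- Let L be a nondegenerate Fischer space on the point type X (every point on a line). Then for every point x the map t(x) — sending a point collinear with x to the third point of their common line and fixing every other point — is a permutation of X of order 2 and an automorphism of the line system; and the set of all t(x) satisfies the 3-transposition order conditions in the permutation group of X (any two have product of order at most 3). -/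
theorem result {X : Type*} (L : Set (Set X)) (hL : Cfsg.IsFischerSpace L) (hnd : Cfsg.LineSystem.IsNondegenerate L) : (∀ x : X, ∃ σ : Equiv.Perm X, ⇑σ = Cfsg.LineSystem.lineMap L x ∧ orderOf σ = 2 ∧ Cfsg.LineSystem.IsIso L L σ) ∧ Cfsg.IsThreeTranspositionSet {σ : Equiv.Perm X | ∃ x : X, ⇑σ = Cfsg.LineSystem.lineMap L x} := by
  classical
  obtain ⟨hpl, h3, -⟩ := id hL
  have ord : ∀ x, orderOf (pointPerm hL x) = 2 := fun x => by
    refine orderOf_eq_prime (Equiv.ext fun u => lineMap_involutive hpl h3 x u) fun e => ?_
    obtain ⟨l, hl, hxl⟩ := hnd x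
    obtain ⟨y, hyl, hyx⟩ : ∃ y ∈ l, y ≠ x := by
      by_contra hcon
      simp only [not_exists, not_and, not_not] at hcon
      have : l.ncard ≤ 1 := (Set.ncard_le_one (Set.finite_of_ncard_ne_zero (by rw [h3 l hl]; norm_num))).mpr fun a ha b hb => (hcon a ha).trans (hcon b hb).symm
      rw [h3 l hl] at this
      norm_num at this
    obtain ⟨z, hzx, hzy, rfl⟩ := exists_third h3 hl hxl hyl hyx.symm
    have e' : Cfsg.LineSystem.lineMap L x y = y := congrArg (fun p : Equiv.Perm X => p y) e
    rw [lineMap_of_line hpl h3 hyx.symm hzx hzy hl] at e'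
    exact hzy e'
  refine ⟨fun x => ⟨pointPerm hL x, rfl, ord x, pointPerm_iso hL x⟩, ?_, ?_⟩
  · rintro σ ⟨x, hx⟩
    rw [show σ = pointPerm hL x from DFunLike.coe_injective hx]
    exact ord x
  · rintro σ ⟨x, hx⟩ τ ⟨y, hy⟩
    rw [show σ = pointPerm hL x from DFunLike.coe_injective hx, show τ = pointPerm hL y from DFunLike.coe_injective hy]
    have hsq : ∀ w, pointPerm hL w * pointPerm hL w = 1 := fun w => Equiv.ext fun u => lineMap_involutive hpl h3 w u
    rcases lineMap_cases hpl h3 x y with ⟨z, hxy, hzx, hzy, hline, ez⟩ | ⟨-, ey⟩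
    · right
      have e2 : Cfsg.LineSystem.lineMap L y x = z :=
        lineMap_of_line hpl h3 hxy.symm hzy hzx (by rwa [show ({y, x, z} : Set X) = {x, y, z} from Set.insert_comm ..])
      calc (pointPerm hL x * pointPerm hL y) ^ 3
          = (pointPerm hL x * pointPerm hL y * pointPerm hL x) * (pointPerm hL y * pointPerm hL x * pointPerm hL y) := by
            simp only [pow_succ, pow_zero, one_mul, mul_assoc]
        _ = 1 := by rw [pointPerm_conj, pointPerm_conj, ez, e2, hsq]
    · left
      calc (pointPerm hL x * pointPerm hL y) ^ 2 = (pointPerm hL x * pointPerm hL y * pointPerm hL x) * pointPerm hL y := by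
            simp only [pow_two, mul_assoc]
        _ = 1 := by rw [pointPerm_conj, ey, hsq]

end Cfsg.Agent.S5366
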