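import Cfsg.Statements.S5380
import Cfsg.Agent.Lib.Invol.Suz.Loc.UFour.Main
import Cfsg.Agent.S1725

set_option autoImplicit false
open Cfsg
open scoped commutatorElement

namespace Cfsg.Agent.S5380

open Cfsg.Agent.Invol.Big Cfsg.Agent.Invol.Suz.Loc Cfsg.Agent.Invol.Suz.Loc.Three

/-- Let G be a finite group of Suzuki sporadic type (involution z with generalized Fitting subgroup Q of its centralizer C extraspecial of order 2^7, C/Q the commutator subgroup of the isometry group of the elliptic quadratic form in dimension 6 over the field with two elements, z not weakly closed in Q), and let Y be a subgroup of C of order 3 whose commutator subgroup with Q is non-abelian of order 8 (a quaternion group). Then the centralizer of Y in G is quasisimple, its quotient by Y is isomorphic to the projective special unitary group of dimension 4 over the field with nine elements, and the centralizer of Y has index 2 in the normalizer of Y. -/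
theorem result {G : Type*} [Group G] [Finite G] (z : G) (hz : orderOf z = 2) (Q : Subgroup (Subgroup.centralizer ({z} : Set G))) [Q.Normal] (hF : Cfsg.generalizedFittingSubgroup (Subgroup.centralizer ({z} : Set G)) = Q) (hQ : Cfsg.IsExtraspecial 2 Q) (hcard : Nat.card Q = 2 ^ 7) (e : (Subgroup.centralizer ({z} : Set G)) ⧸ Q ≃* Cfsg.Omega (ZMod 2) (Cfsg.quadFormMinus 2 (ZMod 2) 1 1)) (hnwc : ∃ g : G, (∃ hq : g * z * g⁻¹ ∈ Subgroup.centralizer ({z} : Set G), (⟨g * z * g⁻¹, hq⟩ : Subgroup.centralizer ({z} : Set G)) ∈ Q) ∧ g * z * g⁻¹ ≠ z) (Y : Subgroup (Subgroup.centralizer ({z} : Set G))) (hY : Nat.card Y = 3) (hQY : Nat.card ↥⁅Q, Y⁆ = 8) (hQYna : ¬ IsMulCommutative ↥⁅Q, Y⁆) [((Y.map (Subgroup.subtype (Subgroup.centralizer ({z} : Set G)))).subgroupOf (Subgroup.centralizer ((Y.map (Subgroup.subtype (Subgroup.centralizer ({z} : Set G)))) : Set G))).Normal] (K : Type) [Field K] [Fintype K] (hK : Fintype.card K = 9) : Cfsg.IsQuasisimple ↥(Subgroup.centralizer ((Y.map (Subgroup.subtype (Subgroup.centralizer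 ({z} : Set G)))) : Set G)) ∧ Nonempty (↥(Subgroup.centralizer ((Y.map (Subgroup.subtype (Subgroup.centralizer ({z} : Set G)))) : Set G)) ⧸ (Y.map (Subgroup.subtype (Subgroup.centralizer ({z} : Set G)))).subgroupOf (Subgroup.centralizer ((Y.map (Subgroup.subtype (Subgroup.centralizer ({z} : Set G)))) : Set G)) ≃* Cfsg.PSU 4 K 3) ∧ (Subgroup.centralizer ((Y.map (Subgroup.subtype (Subgroup.centralizer ({z} : Set G)))) : Set G)).relIndex (Subgroup.normalizer ((Y.map (Subgroup.subtype (Subgroup.centralizer ({z} : Set G)))) : Set G)) = 2 := by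
  classical
  obtain ⟨cd, S⟩ := Cfsg.Agent.Invol.Suz.setting_of z hz Q hF hQ hcard e hnwc
  obtain ⟨g, M⟩ := Setting.exists_mdl S
  obtain ⟨a, b, T⟩ := exists_tri S
  obtain ⟨O, H⟩ := T.exists_O
  haveI : Fact (Nat.Prime 3) := ⟨Nat.prime_three⟩
  obtain ⟨⟨y0, hy0Y⟩, hy0⟩ := exists_prime_orderOf_dvd_card' (G := Y) 3 (dvd_of_eq hY.symm)
  rw [Subgroup.orderOf_mk] at hy0
  have hYe : Subgroup.zpowers y0 = Y :=
    Subgroup.eq_of_le_of_card_ge (Subgroup.zpowers_le.2 hy0Y) (by rw [hY, Nat.card_zpowers, hy0])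
  set y : G := (y0 : G) with hydef
  have hyz : y * z = z * y := Subgroup.mem_centralizer_singleton_iff.1 y0.2
  have hy3 : orderOf y = 3 := by rw [hydef, Subgroup.orderOf_coe, hy0]
  have hfew : (imC S.code y).card ≤ 4 := by
    refine Cfsg.Agent.S1725.few S hyz (K := ⁅Q, Y⁆.map (Subgroup.centralizer ({z} : Set G)).subtype)
      (Subgroup.map_mono (Subgroup.commutator_le_left Q Y)) ?_ ?_ ?_
    · rintro _ ⟨q, hq, rfl⟩
      exact ⟨⁅q, y0⁆, Subgroup.commutator_mem_commutator hq hy0Y, by simp [commutatorElement_def, hydef]⟩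
    · rw [Subgroup.card_map_of_injective Subtype.coe_injective, hQY]
    · by_contra hcon
      push Not at hcon
      refine hQYna ⟨⟨fun u v => Subtype.ext (Subtype.ext ?_)⟩⟩
      exact hcon _ ⟨u, u.2, rfl⟩ _ ⟨v, v.2, rfl⟩
  obtain ⟨c, -, hcy⟩ := T.conj_small hyz hy3 hfew
  refine Cfsg.Agent.Invol.Suz.Loc.Three.transport (MulAut.conj c) _ (Subgroup.zpowers (a 0)) ?_
    (H.main M K hK)
  rw [← hYe, MonoidHom.map_zpowers, MonoidHom.map_zpowers]
  exact (prime_zpowers_eq T.orderOf_a0 hcy fun e1 => by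
    rw [conj_eq_one_iff] at e1
    rw [e1, orderOf_one] at hy3
    omega).1

end Cfsg.Agent.S5380
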