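import Cfsg.Statements.S5381
import Cfsg.Agent.Lib.Invol.Co1.Setting
import Cfsg.Agent.Lib.Invol.Co1.Three.Glue

set_option autoImplicit false
open Cfsg

namespace Cfsg.Agent.S5381

open Cfsg.Agent.Invol.Co1.Three
open scoped commutatorElement

/-- Let G be a finite group of Conway type (involution z with generalized Fitting subgroup Q of its centralizer C extraspecial of order 2^9, C/Q the commutator subgroup of the isometry group of the hyperbolic quadratic form in dimension 8 over the field with two elements, z not weakly closed in Q), and let X be a subgroup of C of order 3 whose commutator subgroup with Q is non-abelian of order 8, contained in an elementary abelian subgroup Y of C of order 9 whose centralizer in Q is extraspecial of order 32 containing an elementary abelian subgroup of order 8. Then the centralizer of X in G is quasisimple and its quotient by X is isomorphic to the presented sporadic Suzuki group. -/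
theorem result {G : Type*} [Group G] [Finite G] (z : G) (hz : orderOf z = 2) (Q : Subgroup (Subgroup.centralizer ({z} : Set G))) [Q.Normal] (hF : Cfsg.generalizedFittingSubgroup (Subgroup.centralizer ({z} : Set G)) = Q) (hQ : Cfsg.IsExtraspecial 2 Q) (hcard : Nat.card Q = 2 ^ 9) (e : (Subgroup.centralizer ({z} : Set G)) ⧸ Q ≃* Cfsg.Omega (ZMod 2) (Cfsg.quadFormPlus 4 (ZMod 2))) (hnwc : ∃ g : G, (∃ hq : g * z * g⁻¹ ∈ Subgroup.centralizer ({z} : Set G), (⟨g * z * g⁻¹, hq⟩ : Subgroup.centralizer ({z} : Set G)) ∈ Q) ∧ g * z * g⁻¹ ≠ z) (X : Subgroup (Subgroup.centralizer ({z} : Set G))) (hX : Nat.card X = 3) (hQX : Nat.card ↥⁅Q, X⁆ = 8) (hQXna : ¬ IsMulCommutative ↥⁅Q, X⁆) (Y₉ : Subgroup (Subgroup.centralizer ({z} : Set G))) (hXY : X ≤ Y₉) (hY₉ : Nat.card Y₉ = 9) (hY₉e : ∀ y ∈ Y₉, y ^ 3 = 1) (hCQ₉ : Cfsg.IsExtraspecial 2 ↥(Q ⊓ Subgroup.centralizer (Y₉ : Set (Subgroup.centralizer ({z} : Set G))))) (hCQ₉c : Nat.card ↥(Q ⊓ Subgroup.centralizer (Y₉ : Set (Subgroup.centralizer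 ({z} : Set G)))) = 32) (hCQ₉p : ∃ A : Subgroup (Subgroup.centralizer ({z} : Set G)), A ≤ Q ⊓ Subgroup.centralizer (Y₉ : Set (Subgroup.centralizer ({z} : Set G))) ∧ Cfsg.IsElementaryAbelian 2 A ∧ Nat.card A = 8) [((X.map (Subgroup.subtype (Subgroup.centralizer ({z} : Set G)))).subgroupOf (Subgroup.centralizer ((X.map (Subgroup.subtype (Subgroup.centralizer ({z} : Set G)))) : Set G))).Normal] : Cfsg.IsQuasisimple ↥(Subgroup.centralizer ((X.map (Subgroup.subtype (Subgroup.centralizer ({z} : Set G)))) : Set G)) ∧ Cfsg.Spor.IsoSuz (↥(Subgroup.centralizer ((X.map (Subgroup.subtype (Subgroup.centralizer ({z} : Set G)))) : Set G)) ⧸ (X.map (Subgroup.subtype (Subgroup.centralizer ({z} : Set G)))).subgroupOf (Subgroup.centralizer ((X.map (Subgroup.subtype (Subgroup.centralizer ({z} : Set G)))) : Set G))) := by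
  classical
  obtain ⟨cd, S, h512, hC⟩ := Cfsg.Agent.Invol.Co1.setting_of z hz Q hF hQ hcard e hnwc
  obtain ⟨g, P⟩ := Cfsg.Agent.Invol.Co1.exists_pr S
  haveI : Fact (Nat.Prime 3) := ⟨Nat.prime_three⟩
  obtain ⟨⟨x0, hx0X⟩, hx0⟩ := exists_prime_orderOf_dvd_card' (G := X) 3 (dvd_of_eq hX.symm)
  rw [Subgroup.orderOf_mk] at hx0
  have hXe : Subgroup.zpowers x0 = X :=
    Subgroup.eq_of_le_of_card_ge (Subgroup.zpowers_le.2 hx0X) (by rw [hX, Nat.card_zpowers, hx0])
  set x : G := (x0 : G) with hxdef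
  have hxz : x * z = z * x := Subgroup.mem_centralizer_singleton_iff.1 x0.2
  have hx3 : orderOf x = 3 := by rw [hxdef, Subgroup.orderOf_coe, hx0]
  have hnorm : ∀ k ∈ ⁅Q, X⁆, x0 * k * x0⁻¹ ∈ ⁅Q, X⁆ := by
    intro k hk
    have := Subgroup.mem_map_of_mem (MulAut.conj x0).toMonoidHom hk
    rw [Subgroup.map_commutator] at this
    refine Subgroup.commutator_mono ?_ ?_ this
    · rintro _ ⟨q, hq, rfl⟩; exact ‹Q.Normal›.conj_mem q hq x0
    · rintro _ ⟨u, hu, rfl⟩; exact mul_mem (mul_mem hx0X hu) (inv_mem hx0X)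
  obtain ⟨a, b, R⟩ := rot_of_few S.code hxz (by rw [← hx3]; exact pow_orderOf_eq_one x)
    (K := ⁅Q, X⁆.map (Subgroup.centralizer ({z} : Set G)).subtype) (Subgroup.map_mono (Subgroup.commutator_le_left Q X))
    (by rw [Subgroup.card_map_of_injective Subtype.coe_injective, hQX])
    (fun hcom => hQXna ⟨⟨fun u v => Subtype.ext (Subtype.ext (congrArg Subtype.val
      (hcom.is_comm.comm ⟨_, Subgroup.mem_map_of_mem (Subgroup.centralizer ({z} : Set G)).subtype u.2⟩ ⟨_, Subgroup.mem_map_of_mem (Subgroup.centralizer ({z} : Set G)).subtype v.2⟩) :))⟩⟩)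
    (by
      rintro _ ⟨q, hq, rfl⟩
      exact ⟨⁅q, x0⁆, Subgroup.commutator_mem_commutator hq hx0X, by simp [commutatorElement_def, hxdef, mul_assoc]⟩)
    (by rintro _ ⟨k, hk, rfl⟩; exact ⟨_, hnorm k hk, rfl⟩)
    (fun e1 => by rw [e1, orderOf_one] at hx3; omega)
  obtain ⟨c, -, R'⟩ := R.exists_std
  obtain ⟨hqs, ⟨eS⟩⟩ := R'.main P h512 hC fun y hy hy3 =>
    perfect_of_setting (R'.setting P h512 hC) hy hy3
  have hXm : X.map (Subgroup.centralizer ({z} : Set G)).subtype = Subgroup.zpowers x := by rw [← hXe, MonoidHom.map_zpowers]; rfl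
  have hmem : ∀ u : G, u ∈ Subgroup.centralizer ((X.map (Subgroup.centralizer ({z} : Set G)).subtype : Subgroup G) : Set G) ↔ u * x = x * u := fun u => by
    rw [hXm, Subgroup.zpowers_eq_closure, Subgroup.centralizer_closure, Subgroup.mem_centralizer_singleton_iff]
  let f : ↥(Subgroup.centralizer ((X.map (Subgroup.centralizer ({z} : Set G)).subtype : Subgroup G) : Set G)) ≃*
      ↥(Subgroup.centralizer ({c * x * c⁻¹} : Set G)) :=
    { toFun := fun u => ⟨c * u * c⁻¹, Subgroup.mem_centralizer_singleton_iff.2 (by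
        rw [conj_mul, conj_mul, (hmem u).1 u.2])⟩
      invFun := fun v => ⟨c⁻¹ * v * c, (hmem _).2 (by
        have := Subgroup.mem_centralizer_singleton_iff.1 v.2
        calc c⁻¹ * (v : G) * c * x = c⁻¹ * ((v : G) * (c * x * c⁻¹)) * c := by group
          _ = c⁻¹ * (c * x * c⁻¹ * v) * c := by rw [this]
          _ = _ := by group)⟩
      left_inv := fun u => Subtype.ext (by simp [mul_assoc])
      right_inv := fun v => Subtype.ext (by simp [mul_assoc])
      map_mul' := fun u v => Subtype.ext (by simp only [Subgroup.coe_mul]; group) }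
  constructor
  · haveI := hqs.1
    haveI := hqs.2
    haveI : Nontrivial ↥(Subgroup.centralizer ({c * x * c⁻¹} : Set G)) :=
      ⟨⟨⟨_, Subgroup.mem_centralizer_singleton_iff.2 rfl⟩, 1, fun e1 => by
        have e2 : c * x * c⁻¹ = 1 := congrArg Subtype.val e1
        rw [conj_eq_one_iff] at e2
        rw [e2, orderOf_one] at hx3
        omega⟩⟩
    haveI : Nontrivial ↥(Subgroup.centralizer ((X.map (Subgroup.centralizer ({z} : Set G)).subtype : Subgroup G) : Set G)) := f.toEquiv.nontrivial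
    exact Cfsg.Agent.Grp.IsQuasisimple.of_surjective hqs (f := f.symm.toMonoidHom) f.symm.surjective
  · refine ⟨(QuotientGroup.congr _ _ f ?_).trans eS⟩
    ext v
    rw [Subgroup.mem_map]
    constructor
    · rintro ⟨u, hu, rfl⟩
      obtain ⟨i, hi⟩ := Subgroup.mem_zpowers_iff.1 ((SetLike.ext_iff.1 hXm _).1 (Subgroup.mem_subgroupOf.1 hu))
      exact Subgroup.mem_zpowers_iff.2 ⟨i, Subtype.ext (by
        show ((xM (c * x * c⁻¹) : _) ^ i : ↥(Subgroup.centralizer ({c * x * c⁻¹} : Set G))).1 = c * (u : G) * c⁻¹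
        rw [← hi, Subgroup.coe_zpow, xM, conj_zpow])⟩
    · intro hv
      obtain ⟨i, rfl⟩ := Subgroup.mem_zpowers_iff.1 hv
      refine ⟨f.symm (xM (c * x * c⁻¹) ^ i), ?_, f.apply_symm_apply _⟩
      rw [Subgroup.mem_subgroupOf]
      refine (SetLike.ext_iff.1 hXm _).2 ?_
      refine Subgroup.mem_zpowers_iff.2 ⟨i, ?_⟩
      show x ^ i = c⁻¹ * ((xM (c * x * c⁻¹) ^ i : ↥(Subgroup.centralizer ({c * x * c⁻¹} : Set G))) : G) * c
      rw [Subgroup.coe_zpow, xM, conj_zpow]
      group

end Cfsg.Agent.S5381
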