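import Cfsg.Prelude
import Cfsg.Agent.Lib.Invol.Co1.Setting
import Cfsg.Agent.Lib.Invol.Co1.Five.Main
import Cfsg.Agent.Lib.Invol.Co1.Five.Transport
-- import your own Cfsg.Agent.* helpers here

set_option autoImplicit false
open Cfsg

open scoped Pointwise commutatorElement

namespace Cfsg.Agent.S5385

/-- Let G be a finite group of Conway type (involution z with generalized Fitting subgroup Q of its centralizer C extraspecial of order 2^9, C/Q the commutator subgroup of the isometry group of the hyperbolic quadratic form in dimension 8 over the field with two elements, z not weakly closed in Q), and let B be a subgroup of C of order 5 such that the centralizer of B in Q is extraspecial of order 32 containing no elementary abelian subgroup of order 8 (the quaternion-times-dihedral type). Then the layer L of the centralizer of B in G is isomorphic to the Hall–Janko group and the centralizer of L is isomorphic to the alternating group of degree 5. -/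
theorem result {G : Type*} [Group G] [Finite G] (z : G) (hz : orderOf z = 2) (Q : Subgroup (Subgroup.centralizer ({z} : Set G))) [Q.Normal] (hF : Cfsg.generalizedFittingSubgroup (Subgroup.centralizer ({z} : Set G)) = Q) (hQ : Cfsg.IsExtraspecial 2 Q) (hcard : Nat.card Q = 2 ^ 9) (e : (Subgroup.centralizer ({z} : Set G)) ⧸ Q ≃* Cfsg.Omega (ZMod 2) (Cfsg.quadFormPlus 4 (ZMod 2))) (hnwc : ∃ g : G, (∃ hq : g * z * g⁻¹ ∈ Subgroup.centralizer ({z} : Set G), (⟨g * z * g⁻¹, hq⟩ : Subgroup.centralizer ({z} : Set G)) ∈ Q) ∧ g * z * g⁻¹ ≠ z) (B : Subgroup (Subgroup.centralizer ({z} : Set G))) (hB : Nat.card B = 5) (hCQ : Cfsg.IsExtraspecial 2 ↥(Q ⊓ Subgroup.centralizer (B : Set (Subgroup.centralizer ({z} : Set G))))) (hCQcard : Nat.card ↥(Q ⊓ Subgroup.centralizer (B : Set (Subgroup.centralizer ({z} : Set G)))) = 32) (hminus : ∀ A : Subgroup (Subgroup.centralizer ({z} : Set G)), A ≤ Q ⊓ Subgroup.centralizer (B : Set (Subgroup.centralizer ({z} : Set G))) → Cfsg.IsElementaryAbelian 2 A → Nat.card A ≤ 4) : Cfsg.Spor.IsoJ2 ↥(Cfsg.layer ↥(Subgroup.centralizer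 ((B.map (Subgroup.subtype (Subgroup.centralizer ({z} : Set G)))) : Set G))) ∧ Nonempty (↥(Subgroup.centralizer (((Cfsg.layer ↥(Subgroup.centralizer ((B.map (Subgroup.subtype (Subgroup.centralizer ({z} : Set G)))) : Set G))).map (Subgroup.subtype _)) : Set G)) ≃* alternatingGroup (Fin 5)) := by
  classical
  haveI : Fact (Nat.Prime 5) := ⟨by norm_num⟩
  obtain ⟨cd, S, h512, hC⟩ := Cfsg.Agent.Invol.Co1.setting_of z hz Q hF hQ hcard e hnwc
  obtain ⟨g, P⟩ := Cfsg.Agent.Invol.Co1.exists_pr S
  haveI : Nontrivial B := Finite.one_lt_card_iff_nontrivial.1 (by omega)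
  obtain ⟨β, hβ⟩ := exists_ne (1 : B)
  have hord : orderOf β = 5 := by
    have := orderOf_eq_card_of_forall_mem_zpowers (g := β) fun x => mem_zpowers_of_prime_card hB hβ
    rw [this, hB]
  set b : G := ((β : Subgroup.centralizer ({z} : Set G)) : G) with hb
  have hb5 : b ^ 5 = 1 := by
    have := pow_orderOf_eq_one β
    rw [hord] at this
    exact congrArg (fun u : B => ((u : Subgroup.centralizer ({z} : Set G)) : G)) this
  have hb1 : b ≠ 1 := fun e => hβ (Subtype.ext (Subtype.ext e))
  have hbz : b * z = z * b := Subgroup.mem_centralizer_singleton_iff.1 (β : Subgroup.centralizer ({z} : Set G)).2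
  have hmap : B.map (Subgroup.subtype (Subgroup.centralizer ({z} : Set G))) = Subgroup.zpowers b := by
    have hB' : B = Subgroup.zpowers (β : Subgroup.centralizer ({z} : Set G)) := by
      refine le_antisymm (fun x hx => ?_) (Subgroup.zpowers_le.2 β.2)
      obtain ⟨i, hi⟩ := Subgroup.mem_zpowers_iff.1 (mem_zpowers_of_prime_card hB hβ (g' := (⟨x, hx⟩ : B)))
      exact Subgroup.mem_zpowers_iff.2 ⟨i, congrArg Subtype.val hi⟩
    rw [hB', MonoidHom.map_zpowers]; rfl
  rw [hmap, show Subgroup.centralizer ((Subgroup.zpowers b : Subgroup G) : Set G) = Subgroup.centralizer {b} by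
    rw [Subgroup.zpowers_eq_closure, Subgroup.centralizer_closure]]
  obtain ⟨x, hx, hx0, hbx⟩ : ∃ x ∈ Q.map (Subgroup.centralizer ({z} : Set G)).subtype, cd x ≠ 0 ∧ b * x = x * b := by
    by_contra hcon
    push Not at hcon
    let W := Q ⊓ Subgroup.centralizer (B : Set (Subgroup.centralizer ({z} : Set G)))
    have hle : Nat.card W ≤ 2 := by
      refine (Nat.card_le_card_of_injective (fun u : W => (⟨((u : Subgroup.centralizer ({z} : Set G)) : G), ?_⟩ : ({1, z} : Set G))) fun u v e => ?_).trans ?_
      · obtain ⟨hu1, hu2⟩ := Subgroup.mem_inf.1 u.2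
        have huQ : ((u : Subgroup.centralizer ({z} : Set G)) : G) ∈ Q.map (Subgroup.centralizer ({z} : Set G)).subtype :=
          ⟨_, hu1, rfl⟩
        have hc := congrArg Subtype.val (Subgroup.mem_centralizer_iff.1 hu2 (β : Subgroup.centralizer ({z} : Set G)) β.2)
        simp only [Set.mem_insert_iff, Set.mem_singleton_iff]
        refine (S.code.ker _ huQ).1 ?_
        by_contra hne
        exact hcon _ huQ hne hc
      · exact Subtype.ext (Subtype.ext (congrArg Subtype.val e : _))
      · rw [Nat.card_coe_set_eq]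
        exact (Set.ncard_insert_le _ _).trans (by rw [Set.ncard_singleton])
    rw [hCQcard] at hle
    norm_num at hle
  obtain ⟨c, -, F⟩ := Cfsg.Agent.Invol.Co1.Five.exists_std hC h512 hbz hb5 hb1 hx hx0 hbx (h := S.code)
  exact Cfsg.Agent.Invol.Co1.Five.transport c b (F.main P h512 hC)

end Cfsg.Agent.S5385
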