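import Cfsg.Statements.S5387
import Cfsg.Agent.Lib.Spor.L34Cover

set_option autoImplicit false
open Cfsg
open scoped commutatorElement

namespace Cfsg.Agent.S5387



/-- Up to isomorphism there is at most one quasisimple group whose centre is elementary abelian of order 4 and whose central quotient is isomorphic to the projective special linear group of dimension 3 over the field with four elements: any two such groups are isomorphic. -/
theorem result {L₁ L₂ : Type*} [Group L₁] [Finite L₁] [Group L₂] [Finite L₂] (F : Type) [Field F] [Fintype F] (hF : Fintype.card F = 4) (h₁ : Cfsg.IsQuasisimple L₁) (h₂ : Cfsg.IsQuasisimple L₂) (hc₁ : Nat.card (Subgroup.center L₁) = 4) (hc₂ : Nat.card (Subgroup.center L₂) = 4) (he₁ : ∀ x ∈ Subgroup.center L₁, x * x = 1) (he₂ : ∀ x ∈ Subgroup.center L₂, x * x = 1) (e₁ : L₁ ⧸ Subgroup.center L₁ ≃* Matrix.ProjectiveSpecialLinearGroup (Fin 3) F) (e₂ : L₂ ⧸ Subgroup.center L₂ ≃* Matrix.ProjectiveSpecialLinearGroup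 (Fin 3) F) : Nonempty (L₁ ≃* L₂) := by
  classical
  let π₁ := e₁.toMonoidHom.comp (QuotientGroup.mk' (Subgroup.center L₁))
  let π₂ := e₂.toMonoidHom.comp (QuotientGroup.mk' (Subgroup.center L₂))
  have hs₁ : Function.Surjective π₁ := e₁.surjective.comp (QuotientGroup.mk'_surjective _)
  have hs₂ : Function.Surjective π₂ := e₂.surjective.comp (QuotientGroup.mk'_surjective _)
  have hk₁ : ∀ x, π₁ x = 1 ↔ x ∈ Subgroup.center L₁ := fun x => by
    simp [π₁, QuotientGroup.eq_one_iff]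
  have hk₂ : ∀ x, π₂ x = 1 ↔ x ∈ Subgroup.center L₂ := fun x => by
    simp [π₂, QuotientGroup.eq_one_iff]
  let D : Subgroup (L₁ × L₂) :=
    { carrier := {p | π₁ p.1 = π₂ p.2}
      one_mem' := by simp
      mul_mem' := fun {a b} ha hb => by
        show π₁ (a.1 * b.1) = π₂ (a.2 * b.2)
        rw [map_mul, map_mul, (ha : π₁ a.1 = π₂ a.2), (hb : π₁ b.1 = π₂ b.2)]
      inv_mem' := fun {a} ha => by
        show π₁ a.1⁻¹ = π₂ a.2⁻¹
        rw [map_inv, map_inv, (ha : π₁ a.1 = π₂ a.2)] }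
  let E := ⁅D, D⁆
  have hp₁ : commutator L₁ = ⊤ := Group.isPerfect_def.1 h₁.1
  have hp₂ : commutator L₂ = ⊤ := Group.isPerfect_def.1 h₂.1
  have hfst : D.map (MonoidHom.fst L₁ L₂) = ⊤ := eq_top_iff.2 fun x _ => by
    obtain ⟨y, hy⟩ := hs₂ (π₁ x); exact ⟨(x, y), hy.symm, rfl⟩
  have hsnd : D.map (MonoidHom.snd L₁ L₂) = ⊤ := eq_top_iff.2 fun y _ => by
    obtain ⟨x, hx⟩ := hs₁ (π₂ y); exact ⟨(x, y), hx, rfl⟩
  have hE₁ : E.map (MonoidHom.fst L₁ L₂) = ⊤ := by
    rw [Subgroup.map_commutator, hfst]; exact hp₁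
  have hE₂ : E.map (MonoidHom.snd L₁ L₂) = ⊤ := by
    rw [Subgroup.map_commutator, hsnd]; exact hp₂
  have hED : E ≤ D := Subgroup.commutator_le.2 fun x hx y hy => by
    rw [commutatorElement_def]
    exact mul_mem (mul_mem (mul_mem hx hy) (inv_mem hx)) (inv_mem hy)
  -- every element of `D` is a central element times an element of `E`
  have hsplit : ∀ d ∈ D, ∃ z ∈ Subgroup.center (L₁ × L₂), z ∈ D ∧ ∃ e ∈ E, d = z * e := by
    intro d hd
    obtain ⟨e, he, hed⟩ : d.1 ∈ E.map (MonoidHom.fst L₁ L₂) := by rw [hE₁]; exact Subgroup.mem_top _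
    refine ⟨d * e⁻¹, ?_, mul_mem hd (inv_mem (hED he)), e, he, by simp⟩
    have h1 : π₂ (d * e⁻¹).2 = 1 := by
      have : π₁ (d * e⁻¹).1 = π₂ (d * e⁻¹).2 := mul_mem hd (inv_mem (hED he))
      rw [← this]
      have : e.1 = d.1 := hed
      simp [this]
    have h2 : (d * e⁻¹).1 = 1 := by
      have : e.1 = d.1 := hed
      simp [this]
    refine Subgroup.mem_center_iff.2 fun g => Prod.ext ?_ ?_
    · simp only [Prod.fst_mul] at h2 ⊢
      rw [h2, mul_one, one_mul]
    · exact Subgroup.mem_center_iff.1 ((hk₂ _).1 h1) g.2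
  have hperf : ⁅E, E⁆ = E := by
    refine le_antisymm (Subgroup.commutator_mono hED hED) (Subgroup.commutator_le.2 fun x hx y hy => ?_)
    obtain ⟨z, hz, -, e, he, rfl⟩ := hsplit x hx
    obtain ⟨w, hw, -, f, hf, rfl⟩ := hsplit y hy
    have h1 : ⁅z * e, w * f⁆ = ⁅e, f⁆ :=
      Cfsg.Agent.Spor.L34.bracket_congr (QuotientGroup.mk' (Subgroup.center (L₁ × L₂)))
        (by rw [QuotientGroup.ker_mk'])
        (by rw [map_mul, (QuotientGroup.eq_one_iff z).2 hz |> (fun h => (h : QuotientGroup.mk' (Subgroup.center (L₁ × L₂)) z = 1)), one_mul])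
        (by rw [map_mul, (QuotientGroup.eq_one_iff w).2 hw |> (fun h => (h : QuotientGroup.mk' (Subgroup.center (L₁ × L₂)) w = 1)), one_mul])
    rw [h1]
    exact Subgroup.commutator_mem_commutator he hf
  have hperf' : commutator E = ⊤ := Subgroup.map_injective E.subtype_injective
    (by rw [Subgroup.map_subtype_commutator, hperf, ← MonoidHom.range_eq_map, Subgroup.range_subtype])
  let φ : E →* Matrix.ProjectiveSpecialLinearGroup (Fin 3) F :=
    π₁.comp ((MonoidHom.fst L₁ L₂).comp E.subtype)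
  have hφ : Function.Surjective φ := fun q => by
    obtain ⟨x, rfl⟩ := hs₁ q
    obtain ⟨e, he, rfl⟩ : x ∈ E.map (MonoidHom.fst L₁ L₂) := by rw [hE₁]; exact Subgroup.mem_top _
    exact ⟨⟨e, he⟩, rfl⟩
  have hkk : ∀ x : E, x ∈ φ.ker → (x : L₁ × L₂).1 ∈ Subgroup.center L₁ ∧
      (x : L₁ × L₂).2 ∈ Subgroup.center L₂ := fun x hx => by
    have h : π₁ (x : L₁ × L₂).1 = π₂ (x : L₁ × L₂).2 := hED x.2
    exact ⟨(hk₁ _).1 hx, (hk₂ _).1 (h.symm.trans hx)⟩
  have hker : φ.ker ≤ Subgroup.center E := fun x hx => Subgroup.mem_center_iff.2 fun g =>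
    Subtype.ext (Prod.ext (Subgroup.mem_center_iff.1 (hkk x hx).1 _)
      (Subgroup.mem_center_iff.1 (hkk x hx).2 _))
  have hel : ∀ z ∈ φ.ker, z * z = 1 := fun z hz =>
    Subtype.ext (Prod.ext (he₁ _ (hkk z hz).1) (he₂ _ (hkk z hz).2))
  have h4 := Cfsg.Agent.Spor.L34.natCard_ker_le φ hφ hker hel hF hperf'
  have hE : Nat.card E = Nat.card φ.ker * Nat.card (Matrix.ProjectiveSpecialLinearGroup (Fin 3) F) := by
    rw [← φ.ker.card_mul_index, Subgroup.index_ker, Nat.card_congr (Equiv.ofBijective _ ⟨Subtype.val_injective, fun q => ⟨⟨q, hφ q⟩, rfl⟩⟩ : φ.range ≃ _)]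
  have hL₁ : Nat.card L₁ = 4 * Nat.card (Matrix.ProjectiveSpecialLinearGroup (Fin 3) F) := by
    rw [Subgroup.card_eq_card_quotient_mul_card_subgroup (Subgroup.center L₁), Nat.card_congr e₁.toEquiv, hc₁, mul_comm]
  have hL₂ : Nat.card L₂ = 4 * Nat.card (Matrix.ProjectiveSpecialLinearGroup (Fin 3) F) := by
    rw [Subgroup.card_eq_card_quotient_mul_card_subgroup (Subgroup.center L₂), Nat.card_congr e₂.toEquiv, hc₂, mul_comm]
  let f₁ := (MonoidHom.fst L₁ L₂).comp E.subtype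
  let f₂ := (MonoidHom.snd L₁ L₂).comp E.subtype
  have hf₁ : Function.Surjective f₁ := fun x => by
    obtain ⟨e, he, rfl⟩ : x ∈ E.map (MonoidHom.fst L₁ L₂) := by rw [hE₁]; exact Subgroup.mem_top _
    exact ⟨⟨e, he⟩, rfl⟩
  have hf₂ : Function.Surjective f₂ := fun x => by
    obtain ⟨e, he, rfl⟩ : x ∈ E.map (MonoidHom.snd L₁ L₂) := by rw [hE₂]; exact Subgroup.mem_top _
    exact ⟨⟨e, he⟩, rfl⟩
  have hle : Nat.card E ≤ 4 * Nat.card (Matrix.ProjectiveSpecialLinearGroup (Fin 3) F) := by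
    rw [hE]; exact Nat.mul_le_mul_right _ h4
  have hb₁ : Function.Bijective f₁ := (Nat.bijective_iff_surjective_and_card f₁).2
    ⟨hf₁, le_antisymm (hle.trans hL₁.ge) (Nat.card_le_card_of_surjective f₁ hf₁)⟩
  have hb₂ : Function.Bijective f₂ := (Nat.bijective_iff_surjective_and_card f₂).2
    ⟨hf₂, le_antisymm (hle.trans hL₂.ge) (Nat.card_le_card_of_surjective f₂ hf₂)⟩
  exact ⟨(MulEquiv.ofBijective f₁ hb₁).symm.trans (MulEquiv.ofBijective f₂ hb₂)⟩

end Cfsg.Agent.S5387
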