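import Cfsg.Statements.S5393
import Cfsg.Agent.Lib.Spor.Golay.CensusModules

set_option autoImplicit false
open Cfsg

namespace Cfsg.Agent.S5393

open Cfsg.Agent.Spor.Golay Cfsg.Agent.Spor.Golay.Census
open scoped Pointwise symmDiff

theorem supp_one : Cfsg.support₂ (fun _ : Cfsg.GolayPt => (1 : ZMod 2)) = Finset.univ := by
  ext p; simp [Cfsg.support₂]

theorem supp_zero : Cfsg.support₂ (0 : Cfsg.GolayPt → ZMod 2) = ∅ := by
  ext p; simp [Cfsg.support₂]

theorem le_span_of {W : Submodule (ZMod 2) (Cfsg.GolayPt → ZMod 2)}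
    (h : ∀ s ∈ Cfsg.supports (W : Set (Cfsg.GolayPt → ZMod 2)), s = ∅ ∨ s = Finset.univ) :
    W ≤ Submodule.span (ZMod 2) {fun _ => (1 : ZMod 2)} := by
  intro w hw
  rcases h _ ((mem_iff_support w).mp hw) with e | e
  · rw [eq_of_support (e.trans supp_zero.symm)]
    exact Submodule.zero_mem _
  · rw [eq_of_support (e.trans supp_one.symm)]
    exact Submodule.subset_span rfl

/-- The length-24 code built from the squares modulo 23 contains the all-ones word, and the code modulo the all-ones word is an irreducible module over the field with two elements for the code's automorphism group: a subspace of the code that contains the all-ones word and is invariant under every coordinate permutation preserving the code is either the span of the all-ones word or the whole code. -/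
theorem result : (fun _ : Cfsg.GolayPt => (1 : ZMod 2)) ∈ Cfsg.golayCode ∧ ∀ W : Submodule (ZMod 2) (Cfsg.GolayPt → ZMod 2), (fun _ => (1 : ZMod 2)) ∈ W → W ≤ Cfsg.golayCode → (∀ σ ∈ Cfsg.M24, ∀ w ∈ W, (fun p => w (σ.symm p)) ∈ W) → W = Submodule.span (ZMod 2) {fun _ => (1 : ZMod 2)} ∨ W = Cfsg.golayCode := by
  refine ⟨(mem_iff_support _).mpr (supp_one ▸ univ_mem_code), fun W h1 hle hW => ?_⟩
  by_cases h : ∀ s ∈ Cfsg.supports (W : Set (Cfsg.GolayPt → ZMod 2)), s = ∅ ∨ s = Finset.univ
  · exact Or.inl (le_antisymm (le_span_of h) (Submodule.span_le.mpr (Set.singleton_subset_iff.mpr h1)))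
  · simp only [not_forall, not_or] at h
    obtain ⟨s, hs, h0, h2⟩ := h
    have hsC : s ∈ Cfsg.supports (Cfsg.golayCode : Set (Cfsg.GolayPt → ZMod 2)) := by
      obtain ⟨v, hv, rfl⟩ := hs
      exact ⟨v, hle hv, rfl⟩
    exact Or.inr (le_antisymm hle fun w hw =>
      (mem_iff_support w).mpr (code_subset (closed_of hW) hs hsC h0 h2 ((mem_iff_support w).mp hw)))

end Cfsg.Agent.S5393
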