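import Cfsg.Statements.S5394
import Cfsg.Agent.Lib.Spor.Golay.CensusClasses
import Cfsg.Agent.Lib.Spor.Golay.CensusParts

set_option autoImplicit false
open Cfsg

namespace Cfsg.Agent.S5394

open Cfsg.Agent.Spor.Golay Cfsg.Agent.Spor.Golay.Census
open scoped Pointwise

/-- The automorphism group of the length-24 code built from the squares modulo 23 has exactly two conjugacy classes of involutions: an involution either fixes exactly the eight points of an octad or has no fixed points, both kinds occur, and any two involutions of the same kind are conjugate in the group. -/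
theorem result : (∀ g ∈ Cfsg.M24, orderOf g = 2 → (Finset.univ.filter fun p => g p = p) ∈ Cfsg.octads ∨ ∀ p, g p ≠ p) ∧ (∃ g ∈ Cfsg.M24, orderOf g = 2 ∧ (Finset.univ.filter fun p => g p = p) ∈ Cfsg.octads) ∧ (∃ g ∈ Cfsg.M24, orderOf g = 2 ∧ ∀ p, g p ≠ p) ∧ ∀ g ∈ Cfsg.M24, ∀ h ∈ Cfsg.M24, orderOf g = 2 → orderOf h = 2 → ((∀ p, g p ≠ p) ↔ (∀ p, h p ≠ p)) → ∃ k ∈ Cfsg.M24, k * g * k⁻¹ = h := by
  obtain ⟨he, h8, ho, h0, -⟩ := two_reps
  have hr0 : repTwo.getD 0 0 ∈ repTwo := by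
    conv_rhs => rw [he]
    exact List.mem_cons_self ..
  have hr1 : repTwo.getD 1 0 ∈ repTwo := by
    conv_rhs => rw [he]
    exact List.mem_cons_of_mem _ (List.mem_cons_self ..)
  obtain ⟨v0, m0, o0⟩ := rep_two_ok hr0
  obtain ⟨v1, m1, o1⟩ := rep_two_ok hr1
  have hoct : pts (fixMask (repTwo.getD 0 0)) ∈ Cfsg.octads := by
    rw [← octU_setSet]
    exact Orb.mem_setSet_of_has ho
  refine ⟨fun g hg h2 => ?_, ⟨_, m0, o0, ?_⟩, ⟨_, m1, o1, (fix_zero_iff _).mp ((fix_card v1).trans h0)⟩,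
    fun g hg h hh h2 h2' hiff => ?_⟩
  · obtain ⟨k, hk, ⟨-, e⟩ | ⟨hc, -⟩⟩ := two_classes hg h2
    · refine Or.inl ?_
      rw [← fix_eq v0, ← e, fix_conj] at hoct
      have := (octads_smul hk).mp hoct
      rwa [inv_smul_smul] at this
    · exact Or.inr ((fix_zero_iff g).mp hc)
  · rw [fix_eq v0]; exact hoct
  · obtain ⟨k, hk, ⟨hc, e⟩ | ⟨hc, e⟩⟩ := two_classes hg h2 <;>
      obtain ⟨l, hl, ⟨hc', e'⟩ | ⟨hc', e'⟩⟩ := two_classes hh h2' <;>
      rw [← fix_zero_iff g, ← fix_zero_iff h, hc, hc'] at hiff <;>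
      first
        | (exfalso; simp at hiff; done)
        | (refine ⟨l⁻¹ * k, mul_mem (inv_mem hl) hk, ?_⟩
           rw [mul_inv_rev, inv_inv, show l⁻¹ * k * g * (k⁻¹ * l) = l⁻¹ * (k * g * k⁻¹) * l by group, e, ← e']
           group)

end Cfsg.Agent.S5394
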