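import Cfsg.Statements.S5395
import Cfsg.Agent.Lib.Fus.Extraspecial

set_option autoImplicit false
open Cfsg

namespace Cfsg.Agent.S5395

/-- For a finite extraspecial 2-group E, an automorphism of E that induces the identity on E modulo its centre is inner (so these automorphisms form exactly the inner automorphism group, an elementary abelian 2-group of order |E|/2). -/
theorem result {E : Type*} [Group E] [Finite E] (hE : Cfsg.IsExtraspecial 2 E) (φ : E ≃* E) (hφ : ∀ x : E, φ x * x⁻¹ ∈ Subgroup.center E) : ∃ g : E, ∀ x : E, φ x = g * x * g⁻¹ := by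
  classical
  obtain ⟨z, hz1, hu⟩ := (Nat.card_eq_two_iff' (1 : Subgroup.center E)).1 hE.2
  by_cases hne : ∃ x, φ x ≠ x
  swap
  · simp only [not_exists, not_not] at hne
    exact ⟨1, fun x => by simp [hne x]⟩
  have hval : ∀ c ∈ Subgroup.center E, c ≠ 1 → c = (z : E) := fun c hc h => congrArg Subtype.val
    (hu ⟨c, hc⟩ fun e => h (congrArg Subtype.val e))
  have hzz : (z : E) * z = 1 := by
    by_contra h
    have := hval _ (mul_mem z.2 z.2) h
    exact hz1 (Subtype.ext (mul_eq_left.1 this))
  have hmv : ∀ x, φ x = x ∨ φ x = (z : E) * x := fun x => by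
    by_cases h : φ x * x⁻¹ = 1
    · exact Or.inl (mul_inv_eq_one.1 h)
    · exact Or.inr (mul_inv_eq_iff_eq_mul.1 (hval _ (hφ x) h))
  have hφz : φ (z : E) = z := (hmv z).resolve_right fun e => hz1 (Subtype.ext (φ.injective (by
    rw [e, hzz, Subgroup.coe_one, map_one])))
  let H : Subgroup E :=
    { carrier := {x | φ x = x}
      one_mem' := map_one φ
      mul_mem' := fun {a b} ha hb => by
        show φ (a * b) = a * b
        rw [map_mul, show φ a = a from ha, show φ b = b from hb]
      inv_mem' := fun {a} ha => by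
        show φ a⁻¹ = a⁻¹
        rw [map_inv, show φ a = a from ha] }
  obtain ⟨u, hu'⟩ := hne
  have hH : H.index = 2 := Subgroup.index_eq_two_iff.2 ⟨u, fun b => by
    have hzc : ∀ t, t * (z : E) = z * t := Subgroup.mem_center_iff.1 z.2
    show Xor (φ (b * u) = b * u) (φ b = b)
    rcases hmv b with hb | hb
    · refine Or.inr ⟨hb, fun e => hu' ?_⟩
      rw [map_mul, hb] at e
      exact mul_left_cancel e
    · refine Or.inl ⟨?_, fun e => hz1 (Subtype.ext ?_)⟩
      · rw [map_mul, hb, (hmv u).resolve_left hu', ← mul_assoc, mul_assoc (z : E) b, hzc, ← mul_assoc, hzz,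
          one_mul]
      · rw [hb] at e; exact mul_eq_right.1 e⟩
  refine Cfsg.Agent.Fus.exists_conj_of_index_two hE φ (fun x => ?_) hH (fun h hh => hh) ⟨u, hu'⟩
  rcases hmv x with e | e
  · rw [e, e]
  · rw [e, map_mul, hφz, e, ← mul_assoc, hzz, one_mul]

end Cfsg.Agent.S5395
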