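import Cfsg.Statements.S5396
import Mathlib
import Cfsg.Agent.Lib.Grp.Frattini
-- import your own Cfsg.Agent.* helpers here

set_option autoImplicit false
open Cfsg

namespace Cfsg.Agent.S5396

open scoped commutatorElement
section

/-- The quotient space. -/
abbrev V (n : ℕ) := Fin n → ZMod 2 × ZMod 2

variable {n : ℕ}

/-- The cocycle; `ε = 1` twists the first pair into the anisotropic plane. -/
def beta (ε : ZMod 2) (v w : V n) : ZMod 2 :=
  ∑ i, ((v i).1 * (w i).2 + (if (i : ℕ) = 0 then ε else 0) * ((v i).1 * (w i).1 + (v i).2 * (w i).2))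

theorem beta_add_left (ε : ZMod 2) (u v w : V n) : beta ε (u + v) w = beta ε u w + beta ε v w := by
  simp only [beta, Pi.add_apply, Prod.fst_add, Prod.snd_add, ← Finset.sum_add_distrib]
  exact Finset.sum_congr rfl fun i _ => by ring

theorem beta_add_right (ε : ZMod 2) (u v w : V n) : beta ε u (v + w) = beta ε u v + beta ε u w := by
  simp only [beta, Pi.add_apply, Prod.fst_add, Prod.snd_add, ← Finset.sum_add_distrib]
  exact Finset.sum_congr rfl fun i _ => by ring

/-- The group. -/
@[ext] structure Ext (n : ℕ) (ε : ZMod 2) where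
  c : ZMod 2
  v : V n

variable {ε : ZMod 2}

instance : Mul (Ext n ε) := ⟨fun x y => ⟨x.c + y.c + beta ε x.v y.v, x.v + y.v⟩⟩
instance : One (Ext n ε) := ⟨⟨0, 0⟩⟩
instance : Inv (Ext n ε) := ⟨fun x => ⟨x.c + beta ε x.v x.v, x.v⟩⟩

theorem mul_def (x y : Ext n ε) : x * y = ⟨x.c + y.c + beta ε x.v y.v, x.v + y.v⟩ := rfl
theorem one_def : (1 : Ext n ε) = ⟨0, 0⟩ := rfl
theorem inv_def (x : Ext n ε) : x⁻¹ = ⟨x.c + beta ε x.v x.v, x.v⟩ := rfl

theorem beta_zero_left (v : V n) : beta ε 0 v = 0 := by simp [beta]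
theorem beta_zero_right (v : V n) : beta ε v 0 = 0 := by simp [beta]

theorem add_self' (v : V n) : v + v = 0 := funext fun i => Prod.ext (CharTwo.add_self_eq_zero _) (CharTwo.add_self_eq_zero _)

instance : Group (Ext n ε) := Group.ofLeftAxioms
  (fun x y z => by
    simp only [mul_def, beta_add_left, beta_add_right]
    exact Ext.ext (by ring) (add_assoc _ _ _))
  (fun x => by simp [mul_def, one_def, beta_zero_left])
  (fun x => by
    simp only [mul_def, inv_def, one_def, add_self']
    refine Ext.ext ?_ rfl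
    linear_combination CharTwo.add_self_eq_zero x.c + CharTwo.add_self_eq_zero (beta ε x.v x.v))

/-- Coordinates. -/
def extEquiv : Ext n ε ≃ ZMod 2 × V n := ⟨fun x => (x.c, x.v), fun p => ⟨p.1, p.2⟩, fun _ => rfl, fun _ => rfl⟩

instance : Finite (Ext n ε) := Finite.of_equiv _ extEquiv.symm

theorem card_ext : Nat.card (Ext n ε) = 2 ^ (2 * n + 1) := by
  rw [Nat.card_congr extEquiv, Nat.card_prod, Nat.card_zmod, Nat.card_fun, Nat.card_prod, Nat.card_zmod, Nat.card_fin,
    show (2 * 2 : ℕ) = 2 ^ 2 from rfl, ← pow_mul, pow_succ']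

/-- The bilinear commutator form. -/
def alt (v w : V n) : ZMod 2 := ∑ i, ((v i).1 * (w i).2 + (v i).2 * (w i).1)

theorem beta_swap (v w : V n) : beta ε v w = beta ε w v + alt v w := by
  simp only [beta, alt, ← Finset.sum_add_distrib]
  refine Finset.sum_congr rfl fun i _ => ?_
  linear_combination -(CharTwo.add_self_eq_zero ((v i).2 * (w i).1))

theorem commute_iff (x y : Ext n ε) : x * y = y * x ↔ alt x.v y.v = 0 := by
  simp only [mul_def, Ext.ext_iff]
  rw [beta_swap x.v y.v]
  constructor
  · rintro ⟨h, -⟩; linear_combination h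
  · intro h; exact ⟨by rw [h]; ring, add_comm _ _⟩

theorem alt_nondeg {v : V n} (h : ∀ w, alt v w = 0) : v = 0 := by
  funext i
  have h1 := h (Pi.single i (0, 1))
  have h2 := h (Pi.single i (1, 0))
  simp only [alt] at h1 h2
  rw [Finset.sum_eq_single i (fun j _ hj => by simp [hj]) (by simp)] at h1 h2
  simp only [Pi.single_eq_same, mul_one, mul_zero, add_zero, zero_add] at h1 h2
  exact Prod.ext h1 h2

/-- The commutator form as a bilinear form. -/
noncomputable def altForm (n : ℕ) : LinearMap.BilinForm (ZMod 2) (V n) :=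
  LinearMap.mk₂ (ZMod 2) alt
    (fun u v w => by simp only [alt, Pi.add_apply, Prod.fst_add, Prod.snd_add, ← Finset.sum_add_distrib]; exact Finset.sum_congr rfl fun i _ => by ring)
    (fun c u w => by simp only [alt, Pi.smul_apply, Prod.smul_fst, Prod.smul_snd, smul_eq_mul, Finset.mul_sum]; exact Finset.sum_congr rfl fun i _ => by ring)
    (fun u v w => by simp only [alt, Pi.add_apply, Prod.fst_add, Prod.snd_add, ← Finset.sum_add_distrib]; exact Finset.sum_congr rfl fun i _ => by ring)
    (fun c u w => by simp only [alt, Pi.smul_apply, Prod.smul_fst, Prod.smul_snd, smul_eq_mul, Finset.mul_sum]; exact Finset.sum_congr rfl fun i _ => by ring)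

theorem altForm_apply (v w : V n) : altForm n v w = alt v w := rfl

theorem altForm_symm (v w : V n) : altForm n v w = altForm n w v := by
  simp only [altForm_apply, alt]; exact Finset.sum_congr rfl fun i _ => by ring

theorem finrank_V : Module.finrank (ZMod 2) (V n) = n * 2 := by
  rw [Module.finrank_pi_fintype]; simp [Module.finrank_prod]

theorem two_cases : ∀ t : ZMod 2, t = 0 ∨ t = 1 := by decide
theorem mul_two_cases : ∀ t : Multiplicative (ZMod 2), t = 1 ∨ t = Multiplicative.ofAdd 1 := by decide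

/-- The sign character. -/
def sg (t : ZMod 2) : ℤ := if t = 0 then 1 else -1

theorem sg_add : ∀ s t : ZMod 2, sg (s + t) = sg s * sg t := by decide

theorem sg_sum {ι : Type*} (s : Finset ι) (f : ι → ZMod 2) : sg (∑ i ∈ s, f i) = ∏ i ∈ s, sg (f i) := by
  classical
  induction s using Finset.induction_on with
  | empty => simp [sg]
  | insert a s ha ih => rw [Finset.sum_insert ha, Finset.prod_insert ha, sg_add, ih]

theorem pair_sum : ∀ e : ZMod 2, (∑ p : ZMod 2 × ZMod 2, sg (p.1 * p.2 + e * (p.1 * p.1 + p.2 * p.2))) = if e = 0 then 2 else -2 := by decide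

theorem gauss_sum_neg (hn : 1 ≤ n) : (∑ v : V n, sg (beta 1 v v)) < 0 := by
  classical
  have h : (∑ v : V n, sg (beta 1 v v)) = ∏ i : Fin n, ∑ p : ZMod 2 × ZMod 2,
      sg (p.1 * p.2 + (if (i : ℕ) = 0 then 1 else 0) * (p.1 * p.1 + p.2 * p.2)) := by
    rw [Fintype.prod_sum]
    exact Finset.sum_congr rfl fun v _ => sg_sum _ _
  rw [h, Finset.prod_congr rfl fun i _ => pair_sum _]
  obtain ⟨m, rfl⟩ : ∃ m, n = m + 1 := ⟨n - 1, by omega⟩
  rw [Fin.prod_univ_succ]
  simp only [Fin.val_zero, if_true, show (1 : ZMod 2) ≠ 0 from one_ne_zero, if_false, Fin.val_succ, Nat.succ_ne_zero,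
    Finset.prod_const]
  have : (0 : ℤ) < 2 ^ (Finset.univ : Finset (Fin m)).card := by positivity
  linarith

/-- A totally singular subspace has dimension at most `n`, and at most `n - 1` for the minus type. -/
theorem singular_bound (hn : 1 ≤ n) (W : Submodule (ZMod 2) (V n)) (hW : ∀ v ∈ W, beta ε v v = 0) :
    Module.finrank (ZMod 2) W ≤ n ∧ (ε = 1 → Module.finrank (ZMod 2) W ≤ n - 1) := by
  classical
  have halt : ∀ v ∈ W, ∀ w ∈ W, altForm n v w = 0 := by
    intro v hv w hw
    have h := hW _ (W.add_mem hv hw)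
    rw [beta_add_left, beta_add_right, beta_add_right, hW v hv, hW w hw, zero_add, add_zero, beta_swap v w,
      add_right_comm, CharTwo.add_self_eq_zero, zero_add] at h
    exact h
  have hle : W ≤ (altForm n).orthogonal W := fun v hv w hw => halt w hw v hv
  have hnd : (altForm n).Nondegenerate :=
    ⟨fun v hv => alt_nondeg hv, fun v hv => alt_nondeg fun w => by rw [← altForm_apply, altForm_symm]; exact hv w⟩
  have h1 := LinearMap.BilinForm.finrank_orthogonal hnd W
  rw [finrank_V] at h1
  have h2 := Submodule.finrank_mono hle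
  refine ⟨by omega, fun he => ?_⟩
  subst he
  by_contra hcon
  have heq : (altForm n).orthogonal W = W := (Submodule.eq_of_le_of_finrank_le hle (by omega)).symm
  have inner : ∀ v : V n, (∑ w : W, sg (altForm n (w : V n) v)) = if v ∈ W then (Fintype.card W : ℤ) else 0 := by
    intro v
    split_ifs with hv
    · rw [Finset.sum_congr rfl fun w _ => by rw [halt w w.2 v hv]]
      simp [sg]
    · rw [← heq] at hv
      obtain ⟨w0, hw0, hne⟩ : ∃ w0 ∈ W, altForm n w0 v ≠ 0 := by
        by_contra hall; push Not at hall; exact hv fun w hw => hall w hw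
      have h3 : (∑ w : W, sg (altForm n (w : V n) v)) = ∑ w : W, sg (altForm n ((⟨w0, hw0⟩ + w : W) : V n) v) :=
        (Fintype.sum_equiv (Equiv.addLeft (⟨w0, hw0⟩ : W)) _ _ fun w => rfl).symm
      have h4 : sg (altForm n w0 v) = -1 := by simp [sg, hne]
      simp only [Submodule.coe_add, map_add, LinearMap.add_apply, sg_add, h4, neg_one_mul, Finset.sum_neg_distrib] at h3
      linarith
  have hqs : ∀ w ∈ W, ∀ v, sg (beta 1 (w + v) (w + v)) = sg (beta 1 v v) * sg (altForm n w v) := by
    intro w hw v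
    rw [← sg_add]; congr 1
    rw [beta_add_left, beta_add_right, beta_add_right, hW w hw, beta_swap w v, altForm_apply, zero_add]
    linear_combination CharTwo.add_self_eq_zero (beta 1 v w)
  have key : (∑ w : W, ∑ v : V n, sg (beta 1 ((w : V n) + v) ((w : V n) + v))) = (Fintype.card W : ℤ) * ∑ v : V n, sg (beta 1 v v) := by
    have hh : ∀ w : W, (∑ v : V n, sg (beta 1 ((w : V n) + v) ((w : V n) + v))) = ∑ v : V n, sg (beta 1 v v) :=
      fun w => Fintype.sum_equiv (Equiv.addLeft (w : V n)) _ _ fun v => rfl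
    simp [hh]
  have hq' : ∀ (w : W) (v : V n), sg (beta 1 ((w : V n) + v) ((w : V n) + v)) = sg (beta 1 v v) * sg (altForm n (w : V n) v) :=
    fun w v => hqs w w.2 v
  simp only [hq'] at key
  rw [Finset.sum_comm] at key
  have hrhs : (∑ v : V n, ∑ w : W, sg (beta 1 v v) * sg (altForm n (w : V n) v)) = (Fintype.card W : ℤ) * (Fintype.card W : ℤ) := by
    rw [Finset.sum_congr rfl fun v _ => by rw [← Finset.mul_sum, inner v]]
    rw [Finset.sum_congr rfl (g := fun v => if v ∈ W then (Fintype.card W : ℤ) else 0) fun v _ => by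
      split_ifs with hv
      · rw [hW v hv]; simp [sg]
      · simp]
    rw [← Finset.sum_filter, Finset.sum_const, nsmul_eq_mul, ← Fintype.card_subtype]
  rw [hrhs] at key
  have hpos : (0 : ℤ) < Fintype.card W := by exact_mod_cast Fintype.card_pos
  have h5 := mul_left_cancel₀ hpos.ne' key
  have h6 := gauss_sum_neg hn
  linarith

end

/-- For every n ≥ 1 there exist finite extraspecial 2-groups of order 2^(2n+1) whose 2-rank (the largest rank of an elementary abelian subgroup) is n, and ones whose 2-rank is n + 1 (so for each such order there are two non-isomorphic extraspecial 2-groups, told apart by their 2-rank). -/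
theorem result (n : ℕ) (hn : 1 ≤ n) : ∀ r ∈ ({n, n + 1} : Set ℕ), ∃ (E : Type) (_ : Group E) (_ : Finite E), Cfsg.IsExtraspecial 2 E ∧ Nat.card E = 2 ^ (2 * n + 1) ∧ sSup {k : ℕ | ∃ A : Subgroup E, Cfsg.IsElementaryAbelian 2 A ∧ Nat.card A = 2 ^ k} = r := by
  classical
  haveI : Fact (Nat.Prime 2) := ⟨Nat.prime_two⟩
  intro r hr
  obtain ⟨ε, hε⟩ : ∃ ε : ZMod 2, (ε = 1 ∧ r = n) ∨ (ε = 0 ∧ r = n + 1) := by
    rcases hr with rfl | rfl
    · exact ⟨1, Or.inl ⟨rfl, rfl⟩⟩
    · exact ⟨0, Or.inr ⟨rfl, rfl⟩⟩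
  have hp : IsPGroup 2 (Ext n ε) := IsPGroup.of_card card_ext
  let z : Ext n ε := ⟨1, 0⟩
  have hcen : ∀ x : Ext n ε, x ∈ Subgroup.center (Ext n ε) ↔ x.v = 0 := by
    intro x
    rw [Subgroup.mem_center_iff]
    refine ⟨fun h => alt_nondeg fun w => (commute_iff x ⟨0, w⟩).mp (h ⟨0, w⟩).symm, fun h y => ((commute_iff x y).mpr ?_).symm⟩
    rw [h]; simp [alt]
  have hsub : ∀ x : Ext n ε, x.v = 0 → x = 1 ∨ x = z := fun x h => by
    rcases two_cases x.c with hc | hc
    · exact Or.inl (Ext.ext hc h)
    · exact Or.inr (Ext.ext hc h)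
  have hzc : Nat.card (Subgroup.center (Ext n ε)) = 2 := by
    rw [Nat.card_eq_two_iff' (1 : Subgroup.center (Ext n ε))]
    refine ⟨⟨z, (hcen z).mpr rfl⟩, fun e => ?_, fun y hy => Subtype.ext ?_⟩
    · exact absurd (congrArg (fun t : Subgroup.center (Ext n ε) => (t : Ext n ε).c) e) (by simp [z, one_def])
    · exact (hsub _ ((hcen _).mp y.2)).resolve_left fun e => hy (Subtype.ext e)
  have hzcomm : z ∈ commutator (Ext n ε) := by
    let i0 : Fin n := ⟨0, hn⟩
    let a : Ext n ε := ⟨0, Pi.single i0 (1, 0)⟩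
    let b : Ext n ε := ⟨0, Pi.single i0 (0, 1)⟩
    have halt : alt a.v b.v = 1 := by
      simp only [alt, a, b]
      rw [Finset.sum_eq_single i0 (fun j _ hj => by simp [hj]) (by simp)]
      simp
    have hab : a * b = z * (b * a) := by
      simp only [mul_def, z, a, b] at halt ⊢
      refine Ext.ext ?_ (by simp [add_comm])
      simp only [beta_zero_left]
      rw [beta_swap (Pi.single i0 ((1 : ZMod 2), (0 : ZMod 2))) (Pi.single i0 ((0 : ZMod 2), (1 : ZMod 2))), halt]
      ring
    have : ⁅a, b⁆ = z := by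
      rw [commutatorElement_def, hab]; group
    rw [commutator_def, ← this]
    exact Subgroup.commutator_mem_commutator (Subgroup.mem_top _) (Subgroup.mem_top _)
  have hccle : commutator (Ext n ε) ≤ Subgroup.center (Ext n ε) := by
    rw [commutator_def, Subgroup.commutator_le]
    intro x _ y _
    rw [hcen, commutatorElement_def]
    show x.v + y.v + x.v + y.v = 0
    rw [add_right_comm x.v y.v x.v, add_self', zero_add, add_self']
  have hcle : Subgroup.center (Ext n ε) ≤ commutator (Ext n ε) := by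
    intro x hx
    rcases hsub x ((hcen x).mp hx) with rfl | rfl
    · exact one_mem _
    · exact hzcomm
  have hfr : frattini (Ext n ε) ≤ Subgroup.center (Ext n ε) := by
    intro x hx
    rw [hcen]
    funext i
    let φ : ∀ (f : V n →+ ZMod 2), Ext n ε →* Multiplicative (ZMod 2) := fun f =>
      { toFun := fun y => Multiplicative.ofAdd (f y.v)
        map_one' := by rw [one_def]; simp
        map_mul' := fun y w => by rw [← ofAdd_add, ← map_add]; rfl }
    have key : ∀ (f : V n →+ ZMod 2), f ≠ 0 → f x.v = 0 := by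
      intro f hf
      have hsur : Function.Surjective (φ f) := by
        obtain ⟨w, hw⟩ : ∃ w, f w ≠ 0 := by
          by_contra h; push Not at h; exact hf (AddMonoidHom.ext h)
        intro t
        rcases mul_two_cases t with rfl | rfl
        · exact ⟨1, map_one _⟩
        · refine ⟨⟨0, w⟩, ?_⟩
          show Multiplicative.ofAdd (f w) = _
          rw [(two_cases (f w)).resolve_left hw]
      have hidx : (φ f).ker.index = 2 := by
        rw [Subgroup.index_ker, MonoidHom.range_eq_top.mpr hsur]
        simp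
      have hco : IsCoatom (φ f).ker := by
        refine ⟨fun e => by rw [e, Subgroup.index_top] at hidx; omega, fun H hH => ?_⟩
        have h1 := Subgroup.relIndex_mul_index hH.le
        rw [hidx] at h1
        rcases (Nat.dvd_prime Nat.prime_two).mp (Dvd.intro_left _ h1) with h2 | h2
        · exact Subgroup.index_eq_one.mp h2
        · exfalso
          rw [h2] at h1
          exact hH.not_ge (Subgroup.relIndex_eq_one.mp (by omega))
      have := frattini_le_coatom hco hx
      exact Multiplicative.ofAdd.injective (MonoidHom.mem_ker.mp this)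
    refine Prod.ext ?_ ?_
    · exact key ((AddMonoidHom.fst _ _).comp (Pi.evalAddMonoidHom _ i)) fun e => by
        simpa using DFunLike.congr_fun e (Pi.single i (1, 0))
    · exact key ((AddMonoidHom.snd _ _).comp (Pi.evalAddMonoidHom _ i)) fun e => by
        simpa using DFunLike.congr_fun e (Pi.single i (0, 1))
  refine ⟨Ext n ε, inferInstance, inferInstance, ⟨⟨hp, le_antisymm hfr (hcle.trans (Grp.pGroup_commutator_le_frattini hp)),
    le_antisymm hccle hcle⟩, hzc⟩, card_ext, IsGreatest.csSup_eq ⟨?_, ?_⟩⟩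
  · -- a subgroup of the required order
    obtain ⟨m, ι, hι, hm, hbeta, hmr⟩ : ∃ (m : ℕ) (ι : (Fin m → ZMod 2) →+ V n), Function.Injective ι ∧ True ∧
        (∀ u v, beta ε (ι u) (ι v) = 0) ∧ r = m + 1 := by
      rcases hε with ⟨rfl, rfl⟩ | ⟨rfl, rfl⟩
      · obtain ⟨k, rfl⟩ : ∃ k, r = k + 1 := ⟨r - 1, by omega⟩
        refine ⟨k, { toFun := fun u => Fin.cons 0 (fun i => (u i, 0)), map_zero' := ?_, map_add' := ?_ }, ?_, trivial, ?_, rfl⟩
        · funext i; cases i using Fin.cases <;> simp
        · intro u v; funext i; cases i using Fin.cases <;> simp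
        · intro u v e; funext i
          simpa using congrArg Prod.fst (congrFun e i.succ)
        · intro u v
          simp [beta, Fin.sum_univ_succ]
      · refine ⟨n, { toFun := fun u i => (u i, 0), map_zero' := rfl, map_add' := fun u v => by funext i; simp }, ?_, trivial, ?_, rfl⟩
        · intro u v e; funext i; exact congrArg Prod.fst (congrFun e i)
        · intro u v; simp [beta]
    let ψ : Multiplicative (ZMod 2 × (Fin m → ZMod 2)) →* Ext n ε :=
      { toFun := fun x => ⟨x.toAdd.1, ι x.toAdd.2⟩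
        map_one' := Ext.ext rfl (map_zero ι)
        map_mul' := fun x y => Ext.ext (by simp [mul_def, hbeta]) (by simp [mul_def]) }
    have hψ : Function.Injective ψ := fun x y e =>
      Multiplicative.toAdd.injective (Prod.ext (congrArg Ext.c e) (hι (congrArg Ext.v e)))
    refine ⟨ψ.range, ⟨⟨⟨?_⟩⟩, ?_⟩, ?_⟩
    · rintro ⟨_, a, rfl⟩ ⟨_, b, rfl⟩
      exact Subtype.ext (by show ψ a * ψ b = ψ b * ψ a; rw [← map_mul, mul_comm, map_mul])
    · rintro _ ⟨a, rfl⟩
      rw [← map_pow, ← map_one ψ]; congr 1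
      apply Multiplicative.toAdd.injective
      rw [toAdd_pow, toAdd_one, two_nsmul]
      exact Prod.ext (CharTwo.add_self_eq_zero _) (funext fun i => CharTwo.add_self_eq_zero _)
    · rw [← Nat.card_congr (MonoidHom.ofInjective hψ).toEquiv, Nat.card_congr (Multiplicative.toAdd), Nat.card_prod, Nat.card_zmod, Nat.card_fun,
        Nat.card_fin, Nat.card_zmod, hmr, pow_succ']
  · rintro k ⟨A, ⟨-, hA2⟩, hk⟩
    let W : Submodule (ZMod 2) (V n) := AddSubgroup.toZModSubmodule 2
      { carrier := Ext.v '' (A : Set (Ext n ε))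
        zero_mem' := ⟨1, A.one_mem, rfl⟩
        add_mem' := by rintro _ _ ⟨x, hx, rfl⟩ ⟨y, hy, rfl⟩; exact ⟨x * y, A.mul_mem hx hy, rfl⟩
        neg_mem' := by rintro _ ⟨x, hx, rfl⟩; exact ⟨x, hx, (neg_eq_of_add_eq_zero_right (add_self' x.v)).symm⟩ }
    have hW : ∀ v ∈ W, beta ε v v = 0 := by
      rintro v ⟨x, hx, rfl⟩
      have h := congrArg Ext.c (hA2 x hx)
      rw [pow_two] at h
      simpa [mul_def, one_def, CharTwo.add_self_eq_zero] using h
    obtain ⟨hb1, hb2⟩ := singular_bound hn W hW
    have hcard : Nat.card A ≤ 2 * 2 ^ Module.finrank (ZMod 2) W := by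
      have hcW : Nat.card W = 2 ^ Module.finrank (ZMod 2) W := by
        rw [Module.natCard_eq_pow_finrank (K := ZMod 2), Nat.card_zmod]
      refine (Nat.card_le_card_of_injective (fun a : A => ((a : Ext n ε).c, (⟨(a : Ext n ε).v, ⟨a, a.2, rfl⟩⟩ : W)))
        fun a b e => Subtype.ext (Ext.ext (congrArg Prod.fst e) (congrArg (fun p => (p.2 : V n)) e))).trans_eq ?_
      rw [Nat.card_prod, Nat.card_zmod, hcW]
    rw [hk, ← pow_succ', Nat.pow_le_pow_iff_right (by norm_num)] at hcard
    rcases hε with ⟨he, rfl⟩ | ⟨-, rfl⟩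
    · have := hb2 he; omega
    · omega

end Cfsg.Agent.S5396
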