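import Cfsg.Prelude
import Cfsg.Agent.Lib.Invol.Co1.Setting
import Cfsg.Agent.Lib.Invol.Co1.Local.Split
-- import your own Cfsg.Agent.* helpers here

set_option autoImplicit false
open Cfsg

open scoped Pointwise commutatorElement

namespace Cfsg.Agent.S5397

/-- Let G be a finite group of Conway type (involution z with generalized Fitting subgroup Q of its centralizer C extraspecial of order 2^9, C/Q the commutator subgroup of the isometry group of the hyperbolic quadratic form in dimension 8 over the field with two elements, z not weakly closed in Q). Then G has an elementary abelian subgroup A of order 2^11 containing z whose normalizer N is a split extension of A with N/A isomorphic to the automorphism group of the length-24 code built from the squares modulo 23, and N has exactly two orbits on the non-identity elements of A. -/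
theorem result {G : Type*} [Group G] [Finite G] (z : G) (hz : orderOf z = 2) (Q : Subgroup (Subgroup.centralizer ({z} : Set G))) [Q.Normal] (hF : Cfsg.generalizedFittingSubgroup (Subgroup.centralizer ({z} : Set G)) = Q) (hQ : Cfsg.IsExtraspecial 2 Q) (hcard : Nat.card Q = 2 ^ 9) (e : (Subgroup.centralizer ({z} : Set G)) ⧸ Q ≃* Cfsg.Omega (ZMod 2) (Cfsg.quadFormPlus 4 (ZMod 2))) (hnwc : ∃ g : G, (∃ hq : g * z * g⁻¹ ∈ Subgroup.centralizer ({z} : Set G), (⟨g * z * g⁻¹, hq⟩ : Subgroup.centralizer ({z} : Set G)) ∈ Q) ∧ g * z * g⁻¹ ≠ z) : ∃ A : Subgroup G, Cfsg.IsElementaryAbelian 2 A ∧ Nat.card A = 2 ^ 11 ∧ z ∈ A ∧ ∃ _ : (A.subgroupOf (Subgroup.normalizer (A : Set G))).Normal, Nonempty (↥(Subgroup.normalizer (A : Set G)) ⧸ A.subgroupOf (Subgroup.normalizer (A : Set G)) ≃* ↥Cfsg.M24) ∧ (∃ K : Subgroup ↥(Subgroup.normalizer (A : Set G)), (A.subgroupOf (Subgroup.normalizer (A : Set G))).IsComplement' K) ∧ ∃ a ∈ A, ∃ b ∈ A, a ≠ 1 ∧ b ≠ 1 ∧ (∀ n ∈ Subgroup.normalizer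 (A : Set G), n * a * n⁻¹ ≠ b) ∧ ∀ c ∈ A, c ≠ 1 → ∃ n ∈ Subgroup.normalizer (A : Set G), n * c * n⁻¹ = a ∨ n * c * n⁻¹ = b := by
  classical
  obtain ⟨cd, S, h512, hC⟩ := Cfsg.Agent.Invol.Co1.setting_of z hz Q hF hQ hcard e hnwc
  obtain ⟨cd', g, P, hFam⟩ := Cfsg.Agent.Invol.Co1.Local.exists_fam S hC
  obtain ⟨f, x, p, hp, T⟩ := Cfsg.Agent.Invol.Co1.Local.exists_setup P hFam
  obtain ⟨c, hc, hcp⟩ := T.exists_good hp hC
  subst hcp
  obtain ⟨φ, hker, hsurj, -⟩ := T.exists_hom hc hC h512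
  refine ⟨Cfsg.Agent.Invol.Co1.Local.Asub P, ⟨⟨⟨fun a b => Subtype.ext (T.comm_A T.fam a.2 b.2)⟩⟩, fun a ha => ?_⟩,
    T.card T.fam, T.mem_A_z, Subgroup.normal_in_normalizer,
    ⟨(QuotientGroup.quotientMulEquivOfEq hker.symm).trans (QuotientGroup.quotientKerEquivOfSurjective φ hsurj)⟩,
    T.exists_complement hc hC h512, T.exists_orbits hc hC h512⟩
  obtain ⟨n, -, rfl⟩ := T.surj T.fam ha
  rw [pow_two, ← T.xor T.fam, Nat.xor_self, Cfsg.Agent.Invol.Co1.Local.elN_zero]

end Cfsg.Agent.S5397
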