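import Cfsg.Statements.S5398
import Cfsg.Agent.Lib.Block.FischerTypes.M22Involutions

set_option autoImplicit false
open Cfsg

namespace Cfsg.Agent.S5398

/-- Let G be a finite group with trivial centre generated by a conjugation-invariant set D of 3-transpositions on which it acts primitively, such that for some d in D the subgroup generated by the members of D other than d commuting with d has central largest normal 2- and 3-subgroups, and suppose G with D is of type M(22). Then G has exactly 3 conjugacy classes of involutions: every involution is a product of m distinct pairwise commuting members of D for some m between 1 and 3; for each such m these products form one non-empty conjugacy class; and the value of m is determined by the involution. -/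
theorem result {G : Type*} [Group G] [Finite G] {D : Set G} (hD : Cfsg.IsThreeTranspositionGroup D) (hprim : Cfsg.IsPrimitiveUnderConj D) (d : G) (hd : d ∈ D) (h3 : Cfsg.pCore 3 ↥(Subgroup.closure {y : G | y ∈ D ∧ y ≠ d ∧ Commute d y}) ≤ Subgroup.center ↥(Subgroup.closure {y : G | y ∈ D ∧ y ≠ d ∧ Commute d y})) (h2 : Cfsg.pCore 2 ↥(Subgroup.closure {y : G | y ∈ D ∧ y ≠ d ∧ Commute d y}) ≤ Subgroup.center ↥(Subgroup.closure {y : G | y ∈ D ∧ y ≠ d ∧ Commute d y})) (ht : Cfsg.IsOfTypeM22 G D) : (∀ x : G, orderOf x = 2 → ∃ m : ℕ, 1 ≤ m ∧ m ≤ 3 ∧ (∃ l : List G, l.Nodup ∧ l.length = m ∧ (∀ a ∈ l, a ∈ D) ∧ (∀ a ∈ l, ∀ b ∈ l, Commute a b) ∧ l.prod = x)) ∧ (∀ m : ℕ, 1 ≤ m → m ≤ 3 → (∃ x : G, orderOf x = 2 ∧ (∃ l : List G, l.Nodup ∧ l.length = m ∧ (∀ a ∈ l, a ∈ D) ∧ (∀ a ∈ l, ∀ b ∈ l, Commute a b) ∧ l.prod = x)) ∧ ∀ x y : G, (∃ l : List G, l.Nodup ∧ l.length = m ∧ (∀ a ∈ l, a ∈ D) ∧ (∀ a ∈ l, ∀ b ∈ l, Commute a b)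 ∧ l.prod = x) → (∃ l : List G, l.Nodup ∧ l.length = m ∧ (∀ a ∈ l, a ∈ D) ∧ (∀ a ∈ l, ∀ b ∈ l, Commute a b) ∧ l.prod = y) → IsConj x y) ∧ ∀ (m m' : ℕ) (x : G), 1 ≤ m → m ≤ 3 → 1 ≤ m' → m' ≤ 3 → (∃ l : List G, l.Nodup ∧ l.length = m ∧ (∀ a ∈ l, a ∈ D) ∧ (∀ a ∈ l, ∀ b ∈ l, Commute a b) ∧ l.prod = x) → (∃ l : List G, l.Nodup ∧ l.length = m' ∧ (∀ a ∈ l, a ∈ D) ∧ (∀ a ∈ l, ∀ b ∈ l, Commute a b) ∧ l.prod = x) → m = m' := by
  have C := Block.FischerTypes.M22.ctx hD hprim ht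
  refine ⟨fun x hx => ?_, fun m h1 h3 => ⟨?_, fun x y ⟨l, hl⟩ ⟨l', hl'⟩ =>
    Block.FischerTypes.M22.classes C h1 h3 (l := l) (l' := l') hl hl'⟩, fun m m' x h1 h3 h1' h3' ⟨l, hl⟩ ⟨l', hl'⟩ =>
    Block.FischerTypes.M22.unique_length C h1 h3 h1' h3' (l := l) (l' := l') hl hl'⟩
  · obtain ⟨m, hm, l, hl⟩ := Block.FischerTypes.M22.involution_short C
      (show x * x = 1 by rw [← pow_two, ← hx]; exact pow_orderOf_eq_one x)
    refine ⟨m, Nat.pos_of_ne_zero ?_, hm, l, hl⟩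
    rintro rfl
    obtain ⟨-, hlen, -, -, hp⟩ := hl
    rw [List.eq_nil_of_length_eq_zero hlen, List.prod_nil] at hp
    rw [← hp, orderOf_one] at hx
    omega
  · obtain ⟨x, l, hl, hx⟩ := Block.FischerTypes.M22.exists_involution C h1 h3
    exact ⟨x, hx, l, hl⟩

end Cfsg.Agent.S5398
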