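import Cfsg.Statements.S5405
import Cfsg.Agent.Lib.Classical.BinaryCocycle
-- import your own Cfsg.Agent.* helpers here

set_option autoImplicit false
open scoped MatrixGroups
open Cfsg

namespace Cfsg.Agent.S5405

open Cfsg.Agent.Classical Cfsg.Agent.Classical.BinCoc

/-- Certificate. -/
def minusOne : Cert where
  n := 4
  q := fun a => ((((a.testBit 0 && a.testBit 1) ^^ a.testBit 2) ^^ (a.testBit 2 && a.testBit 3)) ^^ a.testBit 3)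
  v0 := 3
  ws := [12, 8, 13]
  bs := [3, 12, 8, 13]
  order := [14, 13, 5, 6, 10, 8, 9, 4, 12]
  rels := [[0, 0], [1, 1], [2, 2, 2], [0, 1, 0, 1, 0, 1], [0, 2, 2, 0, 2, 2], [1, 2, 2, 1, 2, 2, 1, 2, 2]]
  L := [[1, 0, 11, 0], [0, 0, 0, 12], [3, 0, 0, 0]]
  C := [(0, 0, [2, 0, 14]), (0, 2, [8, 0, 14]), (1, 0, [0, 1, 0]), (1, 3, [0, 4, 0]), (2, 0, [0, 0, 6]), (2, 2, [0, 0, 12]), (3, 0, [0, 3, 0]), (4, 0, [0, 0, 14])]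

/-- Certificate. -/
def minusTwo : Cert where
  n := 6
  q := fun a => (((((a.testBit 0 && a.testBit 2) ^^ (a.testBit 1 && a.testBit 3)) ^^ a.testBit 4) ^^ (a.testBit 4 && a.testBit 5)) ^^ a.testBit 5)
  v0 := 40
  ws := [35, 31, 5, 56, 13]
  bs := [40, 31, 5, 33, 49, 38]
  order := [11, 35, 16, 56, 60, 38, 51, 20, 14, 31, 17, 44, 25, 5, 54, 57, 49, 18, 50, 41, 52, 33, 28, 13, 10, 34, 63, 36, 47, 7, 32, 24, 48, 19, 22]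
  rels := [[0, 0, 0], [1, 1], [2, 2], [3, 3, 3], [4, 4], [0, 1, 0, 1, 0, 1], [0, 2, 0, 2, 0, 2], [0, 3, 3, 0, 3, 3], [0, 4, 0, 4], [1, 2, 1, 2], [1, 3, 3, 1, 3, 3], [1, 4, 1, 4, 1, 4], [2, 3, 3, 2, 3, 3], [2, 4, 2, 4], [3, 4, 3, 4]]
  L := [[5, 0, 0, 61, 0, 0], [13, 0, 0, 0, 0, 0], [22, 0, 0, 0, 0, 0], [0, 0, 0, 45, 0, 0], [26, 0, 0, 0, 0, 0]]
  C := [(0, 0, [34, 26, 58, 0, 8]), (0, 1, [50, 50, 50, 16, 32]), (0, 2, [36, 36, 26, 16, 54]), (0, 5, [32, 36, 32, 0, 54]), (1, 0, [0, 20, 0, 0, 22]), (1, 3, [0, 16, 0, 0, 0]), (2, 0, [0, 0, 62, 0, 0]), (2, 3, [0, 0, 48, 0, 0]), (3, 0, [0, 0, 0, 1, 0]), (3, 1, [0, 0, 0, 18, 0]), (3, 2, [0, 0, 0, 4, 0]), (3, 3, [0, 0, 0, 48, 0]), (4, 0, [0, 0, 0, 0, 2]), (4, 3, [0, 0, 0, 0, 16]), (5, 0, [0, 62, 0, 0, 22]), (5, 1, [0, 26, 0, 0, 32]), (5, 2,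 [0, 12, 0, 0, 54]), (6, 0, [0, 0, 8, 0, 0]), (6, 1, [0, 0, 26, 0, 0]), (6, 5, [0, 0, 32, 0, 0]), (7, 0, [0, 0, 0, 16, 0]), (8, 0, [0, 0, 0, 0, 40]), (11, 0, [0, 0, 0, 0, 32]), (11, 1, [0, 0, 0, 0, 22])]

/-- Certificate. -/
def plusFour : Cert where
  n := 8
  q := fun a => ((((a.testBit 0 && a.testBit 4) ^^ (a.testBit 1 && a.testBit 5)) ^^ (a.testBit 2 && a.testBit 6)) ^^ (a.testBit 3 && a.testBit 7))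
  v0 := 158
  ws := [79, 154, 227, 58, 152, 145, 83]
  bs := [158, 79, 154, 227, 58, 152, 145, 83]
  order := [209, 79, 172, 50, 227, 168, 163, 54, 61, 121, 114, 167, 101, 57, 251, 154, 232, 42, 145, 218, 106, 99, 68, 244, 253, 201, 187, 178, 149, 23, 108, 199, 137, 242, 89, 83, 81, 35, 136, 198, 19, 17, 200, 141, 143, 86, 203, 107, 25, 92, 94, 21, 181, 139, 43, 241, 152, 191, 196, 100, 177, 216, 47, 70, 162, 39, 46, 254, 151, 124, 226, 58, 29, 182, 116, 173, 122, 228, 140, 78, 229, 238, 53, 223, 212, 214, 127, 69, 71, 76, 156, 166, 221, 31, 211, 77, 233, 119, 62, 142, 239, 113, 109, 34, 188, 247, 38, 184, 91, 197, 138, 84, 202, 27, 248, 98, 49, 169, 147]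
  rels := [[0, 0, 0], [1, 1], [2, 2], [3, 3], [4, 4], [5, 5], [6, 6], [0, 1, 0, 1], [0, 2, 0, 2, 0, 2], [0, 3, 0, 3], [0, 4, 0, 4], [0, 5, 0, 5], [0, 6, 0, 6], [1, 2, 1, 2, 1, 2], [1, 3, 1, 3], [1, 4, 1, 4], [1, 5, 1, 5], [1, 6, 1, 6, 1, 6], [2, 3, 2, 3], [2, 4, 2, 4], [2, 5, 2, 5, 2, 5], [2, 6, 2, 6], [3, 4, 3, 4, 3, 4], [3, 5, 3, 5], [3, 6, 3, 6], [4, 5, 4, 5], [4, 6, 4, 6, 4, 6], [5, 6, 5, 6]]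
  L := [[30, 128, 0, 0, 0, 0, 0, 0], [0, 105, 0, 0, 0, 0, 0, 0], [145, 0, 0, 0, 0, 0, 0, 0], [0, 147, 0, 0, 0, 0, 0, 0], [0, 0, 0, 58, 0, 0, 0, 0], [20, 0, 0, 0, 0, 0, 0, 0], [11, 0, 0, 0, 0, 0, 0, 0]]
  C := [(0, 0, [64, 185, 112, 205, 149, 166, 112]), (0, 1, [156, 176, 0, 164, 6, 164, 176]), (0, 2, [20, 20, 20, 0, 0, 166, 20]), (0, 3, [152, 152, 152, 105, 147, 152, 178]), (0, 5, [160, 140, 60, 105, 147, 152, 166]), (0, 6, [192, 9, 192, 105, 147, 0, 192]), (1, 1, [0, 201, 0, 105, 241, 192, 0]), (1, 2, [0, 137, 0, 105, 241, 192, 0]), (2, 0, [0, 37, 50, 145, 145, 0, 236]), (2, 1, [0, 9, 174, 105, 147, 56, 192]), (3, 1, [0, 0, 0, 192, 0, 0, 0]), (3, 2, [0, 0, 0, 128, 0, 0, 0]), (4, 1, [0, 0, 0, 0, 246, 0, 0]), (4, 3, [0, 0, 0, 0, 162, 0, 0]), (5, 0, [0, 0, 0, 20, 20, 178, 0]), (5,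 1, [0, 0, 0, 0, 0, 122, 0]), (6, 0, [0, 0, 0, 49, 147, 0, 68]), (6, 1, [0, 0, 0, 0, 0, 0, 110]), (7, 0, [0, 176, 0, 0, 0, 0, 0]), (8, 0, [0, 49, 210, 0, 0, 160, 248]), (8, 1, [0, 56, 162, 105, 147, 162, 56]), (8, 2, [0, 20, 20, 0, 0, 2, 20]), (8, 3, [0, 152, 152, 105, 147, 152, 2]), (8, 6, [0, 9, 192, 105, 147, 0, 192]), (9, 0, [0, 0, 0, 164, 20, 0, 0]), (10, 0, [0, 0, 0, 0, 18, 0, 0]), (11, 0, [0, 0, 0, 0, 0, 164, 0]), (12, 0, [0, 0, 0, 0, 0, 0, 176]), (13, 0, [0, 49, 0, 0, 0, 0, 248]), (13, 1, [0, 56, 0, 105, 147, 0, 56]), (13, 2, [0, 20, 0, 0, 0, 0, 20]), (13, 3, [0, 152, 0, 105, 147, 0, 2]), (14, 1, [0, 0, 0, 105, 147, 0, 0]), (15, 1, [0, 0, 0, 0, 98, 0, 0]), (16, 1, [0, 0, 0, 0, 0, 192, 0]), (17, 0, [0, 0, 0, 0, 0, 0, 194]), (17, 1, [0, 0, 0, 0, 0, 0, 2]), (17, 2, [0, 0, 0,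 0, 0, 0, 20]), (17, 3, [0, 0, 0, 0, 0, 0, 56]), (18, 0, [0, 0, 0, 145, 147, 0, 0]), (19, 0, [0, 0, 0, 0, 2, 0, 0]), (20, 0, [0, 0, 0, 0, 0, 160, 0]), (20, 1, [0, 0, 0, 0, 0, 162, 0]), (20, 3, [0, 0, 0, 0, 0, 152, 0]), (22, 0, [0, 0, 0, 0, 147, 0, 0]), (22, 2, [0, 0, 0, 0, 20, 0, 0]), (23, 0, [0, 0, 0, 20, 20, 0, 0]), (24, 0, [0, 0, 0, 49, 147, 0, 0])]

/-- Bit positions. -/
def posMinus (m : ℕ) : (Fin m ⊕ Fin m) ⊕ Fin 2 → ℕ := Sum.elim (Sum.elim (fun i => i.val) fun i => m + i.val) fun j => 2 * m + j.val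

/-- Bit positions. -/
def posPlus (m : ℕ) : Fin m ⊕ Fin m → ℕ := Sum.elim (fun i => i.val) fun i => m + i.val

theorem of_cert {ι : Type} [Fintype ι] [DecidableEq ι] (c : Cert) (pos : ι → ℕ) (Qf : (ι → ZMod 2) → ZMod 2)
    (Q : QuadraticForm (ZMod 2) (ι → ZMod 2)) (h : ⇑Q = Qf) (hq : ∀ a < 2 ^ c.n, Qf (dec pos a) = bz (c.q a))
    (hs : ∀ v : ι → ZMod 2, ∃ a < 2 ^ c.n, dec pos a = v) (hdec : ∀ a < 2 ^ c.n, dec pos a = 0 → a = 0)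
    (hc : Check c = true) (f : ↥(Omega (ZMod 2) Qf) → ι → ZMod 2)
    (hf : ∀ g h : ↥(Omega (ZMod 2) Qf), f (g * h) = f g +
      Matrix.mulVec (((g : ↥(isometryGroup (ZMod 2) Qf)) : GL ι (ZMod 2)) : Matrix ι ι (ZMod 2)) (f h)) :
    ∃ v : ι → ZMod 2, ∀ g : ↥(Omega (ZMod 2) Qf), f g =
      Matrix.mulVec (((g : ↥(isometryGroup (ZMod 2) Qf)) : GL ι (ZMod 2)) : Matrix ι ι (ZMod 2)) v - v := by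
  subst h
  exact BinCoc.main c hq hs hdec hc f hf


/-- `minusOne`. -/
theorem h1_minusOne (f : ↥(Omega (ZMod 2) (quadFormMinus 1 (ZMod 2) 1 1)) → ((Fin 1 ⊕ Fin 1) ⊕ Fin 2) → ZMod 2)
    (hf : ∀ g h : ↥(Omega (ZMod 2) (quadFormMinus 1 (ZMod 2) 1 1)), f (g * h) = f g +
      Matrix.mulVec (((g : ↥(isometryGroup (ZMod 2) (quadFormMinus 1 (ZMod 2) 1 1))) : GL ((Fin 1 ⊕ Fin 1) ⊕ Fin 2) (ZMod 2)) : Matrix ((Fin 1 ⊕ Fin 1) ⊕ Fin 2) ((Fin 1 ⊕ Fin 1) ⊕ Fin 2) (ZMod 2)) (f h)) :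
    ∃ v, ∀ g : ↥(Omega (ZMod 2) (quadFormMinus 1 (ZMod 2) 1 1)), f g =
      Matrix.mulVec (((g : ↥(isometryGroup (ZMod 2) (quadFormMinus 1 (ZMod 2) 1 1))) : GL ((Fin 1 ⊕ Fin 1) ⊕ Fin 2) (ZMod 2)) : Matrix ((Fin 1 ⊕ Fin 1) ⊕ Fin 2) ((Fin 1 ⊕ Fin 1) ⊕ Fin 2) (ZMod 2)) v - v :=
  of_cert minusOne (posMinus 1) (quadFormMinus 1 (ZMod 2) 1 1) _ (coe_qfMinus 1 (1 : ZMod 2) 1) (by decide +kernel) (by decide +kernel) (by decide +kernel)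
    (by decide +kernel) f hf

/-- `minusTwo`. -/
theorem h1_minusTwo (f : ↥(Omega (ZMod 2) (quadFormMinus 2 (ZMod 2) 1 1)) → ((Fin 2 ⊕ Fin 2) ⊕ Fin 2) → ZMod 2)
    (hf : ∀ g h : ↥(Omega (ZMod 2) (quadFormMinus 2 (ZMod 2) 1 1)), f (g * h) = f g +
      Matrix.mulVec (((g : ↥(isometryGroup (ZMod 2) (quadFormMinus 2 (ZMod 2) 1 1))) : GL ((Fin 2 ⊕ Fin 2) ⊕ Fin 2) (ZMod 2)) : Matrix ((Fin 2 ⊕ Fin 2) ⊕ Fin 2) ((Fin 2 ⊕ Fin 2) ⊕ Fin 2) (ZMod 2)) (f h)) :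
    ∃ v, ∀ g : ↥(Omega (ZMod 2) (quadFormMinus 2 (ZMod 2) 1 1)), f g =
      Matrix.mulVec (((g : ↥(isometryGroup (ZMod 2) (quadFormMinus 2 (ZMod 2) 1 1))) : GL ((Fin 2 ⊕ Fin 2) ⊕ Fin 2) (ZMod 2)) : Matrix ((Fin 2 ⊕ Fin 2) ⊕ Fin 2) ((Fin 2 ⊕ Fin 2) ⊕ Fin 2) (ZMod 2)) v - v :=
  of_cert minusTwo (posMinus 2) (quadFormMinus 2 (ZMod 2) 1 1) _ (coe_qfMinus 2 (1 : ZMod 2) 1) (by decide +kernel) (by decide +kernel) (by decide +kernel)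
    (by decide +kernel) f hf

/-- `plusFour`. -/
theorem h1_plusFour (f : ↥(Omega (ZMod 2) (quadFormPlus 4 (ZMod 2))) → (Fin 4 ⊕ Fin 4) → ZMod 2)
    (hf : ∀ g h : ↥(Omega (ZMod 2) (quadFormPlus 4 (ZMod 2))), f (g * h) = f g +
      Matrix.mulVec (((g : ↥(isometryGroup (ZMod 2) (quadFormPlus 4 (ZMod 2)))) : GL (Fin 4 ⊕ Fin 4) (ZMod 2)) : Matrix (Fin 4 ⊕ Fin 4) (Fin 4 ⊕ Fin 4) (ZMod 2)) (f h)) :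
    ∃ v, ∀ g : ↥(Omega (ZMod 2) (quadFormPlus 4 (ZMod 2))), f g =
      Matrix.mulVec (((g : ↥(isometryGroup (ZMod 2) (quadFormPlus 4 (ZMod 2)))) : GL (Fin 4 ⊕ Fin 4) (ZMod 2)) : Matrix (Fin 4 ⊕ Fin 4) (Fin 4 ⊕ Fin 4) (ZMod 2)) v - v :=
  of_cert plusFour (posPlus 4) (quadFormPlus 4 (ZMod 2)) _ (coe_qfPlus 4) (by decide +kernel) (by decide +kernel) (by decide +kernel)
    (by decide +kernel) f hf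

/-- Vanishing of first cohomology on the natural module for three small orthogonal groups over the field with two elements: for the commutator subgroup of the isometry group of the elliptic quadratic form in dimension 4, of the elliptic form in dimension 6, and of the hyperbolic form in dimension 8, every crossed homomorphism into the natural module (a map f with f(gh) = f(g) + g·f(h)) is principal (of the form g ↦ g·v − v). -/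
theorem result : (∀ f : ↥(Cfsg.Omega (ZMod 2) (Cfsg.quadFormMinus 1 (ZMod 2) 1 1)) → ((Fin 1 ⊕ Fin 1) ⊕ Fin 2 → ZMod 2), (∀ g h : ↥(Cfsg.Omega (ZMod 2) (Cfsg.quadFormMinus 1 (ZMod 2) 1 1)), f (g * h) = f g + Matrix.mulVec (((g : ↥(Cfsg.isometryGroup (ZMod 2) (Cfsg.quadFormMinus 1 (ZMod 2) 1 1))) : GL ((Fin 1 ⊕ Fin 1) ⊕ Fin 2) (ZMod 2)) : Matrix ((Fin 1 ⊕ Fin 1) ⊕ Fin 2) ((Fin 1 ⊕ Fin 1) ⊕ Fin 2) (ZMod 2)) (f h)) → ∃ v : (Fin 1 ⊕ Fin 1) ⊕ Fin 2 → ZMod 2, ∀ g : ↥(Cfsg.Omega (ZMod 2) (Cfsg.quadFormMinus 1 (ZMod 2) 1 1)), f g = Matrix.mulVec (((g : ↥(Cfsg.isometryGroup (ZMod 2) (Cfsg.quadFormMinus 1 (ZMod 2) 1 1))) : GL ((Fin 1 ⊕ Fin 1) ⊕ Fin 2) (ZMod 2)) : Matrix ((Fin 1 ⊕ Fin 1) ⊕ Fin 2) ((Fin 1 ⊕ Fin 1) ⊕ Fin 2) (ZMod 2)) v - v) ∧ (∀ f : ↥(Cfsg.Omega (ZMod 2) (Cfsg.quadFormMinus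 2 (ZMod 2) 1 1)) → ((Fin 2 ⊕ Fin 2) ⊕ Fin 2 → ZMod 2), (∀ g h : ↥(Cfsg.Omega (ZMod 2) (Cfsg.quadFormMinus 2 (ZMod 2) 1 1)), f (g * h) = f g + Matrix.mulVec (((g : ↥(Cfsg.isometryGroup (ZMod 2) (Cfsg.quadFormMinus 2 (ZMod 2) 1 1))) : GL ((Fin 2 ⊕ Fin 2) ⊕ Fin 2) (ZMod 2)) : Matrix ((Fin 2 ⊕ Fin 2) ⊕ Fin 2) ((Fin 2 ⊕ Fin 2) ⊕ Fin 2) (ZMod 2)) (f h)) → ∃ v : (Fin 2 ⊕ Fin 2) ⊕ Fin 2 → ZMod 2, ∀ g : ↥(Cfsg.Omega (ZMod 2) (Cfsg.quadFormMinus 2 (ZMod 2) 1 1)), f g = Matrix.mulVec (((g : ↥(Cfsg.isometryGroup (ZMod 2) (Cfsg.quadFormMinus 2 (ZMod 2) 1 1))) : GL ((Fin 2 ⊕ Fin 2) ⊕ Fin 2) (ZMod 2)) : Matrix ((Fin 2 ⊕ Fin 2) ⊕ Fin 2) ((Fin 2 ⊕ Fin 2) ⊕ Fin 2) (ZMod 2)) v - v) ∧ (∀ f : ↥(Cfsg.Omega (ZMod 2) (Cfsg.quadFormPlus 4 (ZMod 2))) → (Fin 4 ⊕ Fin 4 → ZMod 2), (∀ g h : ↥(Cfsg.Omega (ZMod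 2) (Cfsg.quadFormPlus 4 (ZMod 2))), f (g * h) = f g + Matrix.mulVec (((g : ↥(Cfsg.isometryGroup (ZMod 2) (Cfsg.quadFormPlus 4 (ZMod 2)))) : GL (Fin 4 ⊕ Fin 4) (ZMod 2)) : Matrix (Fin 4 ⊕ Fin 4) (Fin 4 ⊕ Fin 4) (ZMod 2)) (f h)) → ∃ v : Fin 4 ⊕ Fin 4 → ZMod 2, ∀ g : ↥(Cfsg.Omega (ZMod 2) (Cfsg.quadFormPlus 4 (ZMod 2))), f g = Matrix.mulVec (((g : ↥(Cfsg.isometryGroup (ZMod 2) (Cfsg.quadFormPlus 4 (ZMod 2)))) : GL (Fin 4 ⊕ Fin 4) (ZMod 2)) : Matrix (Fin 4 ⊕ Fin 4) (Fin 4 ⊕ Fin 4) (ZMod 2)) v - v) := by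
  exact ⟨h1_minusOne, h1_minusTwo, h1_plusFour⟩

end Cfsg.Agent.S5405
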