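import Cfsg.Statements.S5408
import Cfsg.Agent.Lib.Spor.Leech.MonsterPair

set_option autoImplicit false
open Cfsg

namespace Cfsg.Agent.S5408

open Cfsg.Agent.Spor.Leech

/-- Let G be a finite group of Monster type at the involution z with Q the extraspecial normal subgroup of order 2^25 of C = C_G(z) (so C/Q is identified with the first Conway group with Q modulo its centre the Leech lattice modulo 2, and z is not weakly closed in Q). Then Q is of plus type: it contains an elementary abelian subgroup of order 2^13. -/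
theorem result {G : Type*} [Group G] [Finite G] (z : G) (Q : Subgroup (Subgroup.centralizer ({z} : Set G))) [Q.Normal] (hM : Cfsg.IsOfMonsterType z Q) : ∃ E : Subgroup Q, Cfsg.IsElementaryAbelian 2 E ∧ Nat.card E = 2 ^ 13 := by
  obtain ⟨e, ψ, hψ⟩ := hM.2
  have h := MT.of_type hM hψ
  obtain ⟨g, ⟨hq, hm⟩, hne⟩ := hM.1.2.2.2.2
  obtain ⟨-, -, -, -, hD, -⟩ := h.pair (g := g) ⟨_, hm, rfl⟩ hne
  refine ⟨((QG Q ⊓ PG Q g).subgroupOf (Subgroup.centralizer ({z} : Set G))).subgroupOf Q, ⟨⟨⟨fun a b => ?_⟩⟩, ?_⟩, ?_⟩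
  · exact Subtype.ext (Subtype.ext (Subtype.ext (h.inter_comm hne _ a.2 _ b.2)))
  · intro a ha
    refine Subtype.ext (Subtype.ext ?_)
    rw [pow_two]
    exact h.inter_sq hne _ ha
  · rw [← hD, ← Nat.card_congr (Subgroup.subgroupOfEquivOfLe (inf_le_left.trans QG_le :
      QG Q ⊓ PG Q g ≤ Subgroup.centralizer ({z} : Set G))).toEquiv]
    refine Nat.card_congr (Subgroup.subgroupOfEquivOfLe ?_).toEquiv
    intro a ha
    obtain ⟨q, hq'⟩ := mem_QG.1 ha.1
    rw [← Subtype.ext hq']
    exact q.2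

end Cfsg.Agent.S5408
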