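import Cfsg.Statements.S5410
import Cfsg.Agent.Lib.Spor.Leech.MonsterPair

set_option autoImplicit false
open Cfsg

namespace Cfsg.Agent.S5410

open Cfsg.Agent.Spor.Leech

/-- Let G be a finite group of Monster type at the involution z with Q the extraspecial normal subgroup of order 2^25 of C = C_G(z) (so C/Q is identified with the first Conway group with Q modulo its centre the Leech lattice modulo 2, and z is not weakly closed in Q). Let g in G with s = g z g⁻¹ a member of Q other than z, let X be the image in C/Q of the centralizer of s in C, and let E be the image in C/Q of the intersection of g Q g⁻¹ with C. Then E is a normal subgroup of X, elementary abelian of order 2^11, and it has a complement in X isomorphic to the Mathieu group of degree 24 (the automorphism group of the length-24 binary Golay code). -/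
theorem result {G : Type*} [Group G] [Finite G] (z : G) (Q : Subgroup (Subgroup.centralizer ({z} : Set G))) [Q.Normal] (hM : Cfsg.IsOfMonsterType z Q) (s : G) (hsQ : ∃ hsc : s ∈ Subgroup.centralizer ({z} : Set G), (⟨s, hsc⟩ : Subgroup.centralizer ({z} : Set G)) ∈ Q) (hs : IsConj z s) (hs1 : s ≠ z) (g : G) (hg : g * z * g⁻¹ = s) (X E : Subgroup ((Subgroup.centralizer ({z} : Set G)) ⧸ Q)) (hX : X = ((Subgroup.centralizer ({z} : Set G) ⊓ Subgroup.centralizer ({s} : Set G)).subgroupOf (Subgroup.centralizer ({z} : Set G))).map (QuotientGroup.mk' Q)) (hE : E = (((Q.map (Subgroup.centralizer ({z} : Set G)).subtype).map (MulAut.conj g).toMonoidHom ⊓ Subgroup.centralizer ({z} : Set G)).subgroupOf (Subgroup.centralizer ({z} : Set G))).map (QuotientGroup.mk' Q)) : E ≤ X ∧ (∀ x ∈ X, ∀ y ∈ E, x * y * x⁻¹ ∈ E) ∧ Cfsg.IsElementaryAbelian 2 E ∧ Nat.card E = 2 ^ 11 ∧ ∃ K : Subgroup ((Subgroup.centralizer ({z} : Set G)) ⧸ Q), K ≤ X ∧ E ⊓ K = ⊥ ∧ E ⊔ K = X ∧ Nonempty (K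 ≃* Cfsg.M24) := by
  obtain ⟨e, ψ, hψ⟩ := hM.2
  have h := MT.of_type hM hψ
  obtain ⟨a, ha⟩ := hsQ
  subst hg hX hE
  have hx : g * z * g⁻¹ ∈ QG Q := ⟨_, ha, rfl⟩
  obtain ⟨-, -, -, -, -, hE, -⟩ := h.pair hx hs1
  have hsq := h.imageE_sq hx
  refine ⟨h.imageE_le, h.imageE_norm, ⟨⟨⟨fun a b => Subtype.ext ?_⟩⟩, fun a ha => by rw [pow_two]; exact hsq a ha⟩, hE,
    h.complement hx hs1⟩
  have h1 := hsq _ (mul_mem a.2 b.2)
  calc (a : _ ⧸ Q) * b = ((a : _ ⧸ Q) * b)⁻¹ := (inv_eq_of_mul_eq_one_right h1).symm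
    _ = (b : _ ⧸ Q)⁻¹ * (a : _ ⧸ Q)⁻¹ := mul_inv_rev _ _
    _ = (b : _ ⧸ Q) * a := by rw [inv_eq_of_mul_eq_one_right (hsq _ b.2), inv_eq_of_mul_eq_one_right (hsq _ a.2)]

end Cfsg.Agent.S5410
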