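import Cfsg.Statements.S5420
import Cfsg.Agent.Lib.Spor.LargeExtra

set_option autoImplicit false
open Cfsg

namespace Cfsg.Agent.S5420

/-- Let Q be an extraspecial 2-subgroup of the finite group G whose centralizer in G is its centre Z and which is normal in the centralizer of Z. If Z lies in the largest normal 2-subgroup of G, then Q is a large extraspecial 2-subgroup of G: it normalizes no non-trivial subgroup of G of odd order. -/
theorem result {G : Type*} [Group G] [Finite G] (Q : Subgroup G) (hL1 : Cfsg.IsExtraspecial 2 ↥Q) (hL2 : Subgroup.centralizer (Q : Set G) = ((Subgroup.center ↥Q).map Q.subtype)) (hL3 : Subgroup.centralizer (((Subgroup.center ↥Q).map Q.subtype) : Set G) ≤ Subgroup.normalizer (Q : Set G)) (hZ : ((Subgroup.center ↥Q).map Q.subtype) ≤ Cfsg.pCore 2 G) : Cfsg.IsLargeExtraspecial Q := by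
  open Cfsg.Agent.Spor.LargeExtra in
  refine ⟨hL1, hL2, hL3, fun K hK hQK => eq_bot_of_centralized hL1 hL2 hL3 hK hQK fun z hz k hk => ?_⟩
  refine Cfsg.Agent.Spor.LargeExtra.commute_of_pCore (H := ⊤) hK ?_ hk (Subgroup.mem_top k)
    (hQK (Cfsg.Agent.Spor.LargeExtra.zsub_le hz))
  haveI := Cfsg.Agent.Transfer.pCore_normal' 2 G
  have hle : (Cfsg.pCore 2 G).comap (⊤ : Subgroup G).subtype ≤ Cfsg.pCore 2 ↥(⊤ : Subgroup G) :=
    Cfsg.Agent.Transfer.le_pCore inferInstance
      ((Cfsg.Agent.Transfer.pCore_isPGroup 2 G).comap_of_injective _ (Subgroup.subtype_injective ⊤))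
  exact ⟨⟨z, Subgroup.mem_top z⟩, hle (hZ hz), rfl⟩

end Cfsg.Agent.S5420
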