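import Cfsg.Statements.S5421
import Cfsg.Agent.Lib.Spor.LargeExtra

set_option autoImplicit false
open Cfsg

namespace Cfsg.Agent.S5421

open scoped commutatorElement

theorem pow_odd {G : Type*} [Group G] [Finite G] {x : G} {K : Subgroup G} {m : ℕ} (hm : Nat.card K = 2 * m + 1)
    (hx : x ∈ K) : x ^ (2 * m + 1) = 1 := by
  have h1 : (⟨x, hx⟩ : K) ^ Nat.card K = 1 := pow_card_eq_one'
  rw [hm] at h1
  exact congrArg Subtype.val h1

/-- An involution in a group of odd order. -/
theorem eq_one_of_odd {G : Type*} [Group G] [Finite G] {x : G} {K : Subgroup G} (hK : Odd (Nat.card K))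
    (hx : x ∈ K) (h : x * x = 1) : x = 1 := by
  obtain ⟨m, hm⟩ := hK
  have h2 := pow_odd hm hx
  rwa [pow_succ, pow_mul, pow_two, h, one_pow, one_mul] at h2

/-- In a group of odd order only the identity is conjugate to its inverse. -/
theorem eq_one_of_inverted {G : Type*} [Group G] [Finite G] {x t : G} {K : Subgroup G} (hK : Odd (Nat.card K))
    (hx : x ∈ K) (ht : t ∈ K) (h : t * x * t⁻¹ = x⁻¹) : x = 1 := by
  obtain ⟨m, hm⟩ := id hK
  refine eq_one_of_odd hK hx ?_
  have h2 : Commute (t ^ 2) x := by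
    have : t * t * x = x * (t * t) := by
      calc t * t * x = t * (t * x * t⁻¹) * t⁻¹ * (t * t) := by group
        _ = (t * x * t⁻¹)⁻¹ * (t * t) := by rw [h]; simp only [← conj_inv, h]
        _ = x * (t * t) := by rw [h, inv_inv]
    rw [pow_two]; exact this
  have h3 : Commute t x := by
    have e : t = (t ^ 2) ^ (m + 1) := by
      rw [← pow_mul, show 2 * (m + 1) = 2 * m + 1 + 1 by omega, pow_succ, pow_odd hm ht, one_mul]
    rw [e]; exact h2.pow_left _
  rw [h3.eq, mul_inv_cancel_right] at h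
  nth_rewrite 2 [h]
  exact mul_inv_cancel x

/-- Let Q be an extraspecial 2-subgroup of the finite group G whose centralizer in G is its centre Z and which is normal in the centralizer of Z. If some involution b of Q outside Z has Z inside the largest normal 2-subgroup of the centralizer of b, then Q is a large extraspecial 2-subgroup of G. -/
theorem result {G : Type*} [Group G] [Finite G] (Q : Subgroup G) (hL1 : Cfsg.IsExtraspecial 2 ↥Q) (hL2 : Subgroup.centralizer (Q : Set G) = ((Subgroup.center ↥Q).map Q.subtype)) (hL3 : Subgroup.centralizer (((Subgroup.center ↥Q).map Q.subtype) : Set G) ≤ Subgroup.normalizer (Q : Set G)) (b : G) (hbQ : b ∈ Q) (hbZ : b ∉ ((Subgroup.center ↥Q).map Q.subtype)) (hb : orderOf b = 2) (hZ : ((Subgroup.center ↥Q).map Q.subtype) ≤ (Cfsg.pCore 2 ↥(Subgroup.centralizer ({b} : Set G))).map (Subgroup.centralizer ({b} : Set G)).subtype) : Cfsg.IsLargeExtraspecial Q := by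
  open Cfsg.Agent.Spor.LargeExtra in
  refine ⟨hL1, hL2, hL3, fun K hK hQK => eq_bot_of_centralized hL1 hL2 hL3 hK hQK ?_⟩
  obtain ⟨z, hz, hz1, hzu, hz2⟩ := Cfsg.Agent.Spor.LargeExtra.exists_gen hL1
  suffices hmain : ∀ k ∈ K, z * k = k * z by
    intro y hy k hk
    rcases hzu y hy with rfl | rfl
    · rw [one_mul, mul_one]
    · exact hmain k hk
  obtain ⟨hzQ, hzc⟩ := Cfsg.Agent.Spor.LargeExtra.mem_zsub.1 hz
  have hb2 : b * b = 1 := by rw [← pow_two, ← hb, pow_orderOf_eq_one]
  have hbi : b⁻¹ = b := inv_eq_of_mul_eq_one_right hb2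
  have hzi : z⁻¹ = z := inv_eq_of_mul_eq_one_right hz2
  have hbz : b * z = z * b := hzc b hbQ
  -- `b` is conjugate to `b z` in `Q`
  obtain ⟨q, hq, hqb⟩ : ∃ q ∈ Q, q * b * q⁻¹ = b * z := by
    obtain ⟨q, hq, hne⟩ : ∃ q ∈ Q, q * b ≠ b * q := by
      by_contra hcon
      simp only [not_exists, not_and, not_not] at hcon
      exact hbZ (Cfsg.Agent.Spor.LargeExtra.mem_zsub.2 ⟨hbQ, hcon⟩)
    refine ⟨q, hq, ?_⟩
    rcases hzu _ (Cfsg.Agent.Spor.LargeExtra.commutator_mem_zsub hL1 hbQ hq) with h | h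
    · exact absurd (commutatorElement_eq_one_iff_mul_comm.1 h).symm hne
    · rw [commutatorElement_def, hbi] at h
      have : b * (q * b * q⁻¹) = z := by rw [← h]; group
      calc q * b * q⁻¹ = b * (b * (q * b * q⁻¹)) := by rw [← mul_assoc b b, hb2, one_mul]
        _ = b * z := by rw [this]
  -- `z` commutes with the fixed points of `b`
  have hfixb : ∀ k ∈ K, b * k = k * b → z * k = k * z := fun k hk hbk =>
    Cfsg.Agent.Spor.LargeExtra.commute_of_pCore (H := Subgroup.centralizer ({b} : Set G)) hK (hZ hz) hk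
      (Subgroup.mem_centralizer_singleton_iff.2 hbk.symm) (hQK hzQ)
  have hfixbz : ∀ k ∈ K, b * z * k = k * (b * z) → z * k = k * z := by
    intro k hk hk'
    have h0 := hfixb (q⁻¹ * k * q) (by
        simpa using (Subgroup.mem_normalizer_iff.1 (hQK (Q.inv_mem hq)) k).1 hk) (by
      rw [← hqb] at hk'
      calc b * (q⁻¹ * k * q) = q⁻¹ * (q * b * q⁻¹ * k) * q := by group
        _ = q⁻¹ * (k * (q * b * q⁻¹)) * q := by rw [hk']
        _ = _ := by group)
    calc z * k = q * ((q⁻¹ * z) * (k * q)) * q⁻¹ := by group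
      _ = q * ((z * q⁻¹) * (k * q)) * q⁻¹ := by rw [hzc _ (Q.inv_mem hq)]
      _ = q * (z * (q⁻¹ * k * q)) * q⁻¹ := by group
      _ = q * ((q⁻¹ * k * q) * z) * q⁻¹ := by rw [h0]
      _ = k * (q * z * q⁻¹) := by group
      _ = k * z := by rw [hzc q hq, mul_inv_cancel_right]
  -- inverted elements are trivial
  have hcB : ∀ k ∈ K, b * k * b ∈ K := fun k hk => by
    simpa [hbi] using (Subgroup.mem_normalizer_iff.1 (hQK hbQ) k).1 hk
  have key : ∀ k ∈ K, z * k * z = k⁻¹ → k = 1 := by
    intro k hk hinv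
    have hy : k⁻¹ * (b * k * b) ∈ K := K.mul_mem (K.inv_mem hk) (hcB k hk)
    generalize hy' : k⁻¹ * (b * k * b) = y at hy
    obtain ⟨m, hm⟩ := hK
    -- a square root of `y⁻¹`
    have hyp : y ^ (2 * m + 1) = 1 := pow_odd hm hy
    have d : ∀ u v : G, b * (u * v) * b = (b * u * b) * (b * v * b) := fun u v => by
      calc b * (u * v) * b = b * u * (b * b) * v * b := by rw [hb2, mul_one]; group
        _ = _ := by group
    have hbinv : ∀ u, b * u⁻¹ * b = (b * u * b)⁻¹ := fun u => by
      rw [mul_inv_rev, mul_inv_rev, hbi, mul_assoc]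
    have hbb : ∀ u, b * (b * u * b) * b = u := fun u => by
      calc b * (b * u * b) * b = (b * b) * u * (b * b) := by group
        _ = u := by rw [hb2, one_mul, mul_one]
    have hby : b * y * b = y⁻¹ := by
      rw [← hy', d, hbb, hbinv]; group
    set i := y ^ m with hi
    have hiK : i ∈ K := K.pow_mem hy m
    have hbi' : b * i * b = i⁻¹ := by
      have e : (b * y * b⁻¹) ^ m = b * y ^ m * b⁻¹ := conj_pow
      rw [hbi, hby, inv_pow] at e
      exact e.symm
    have hcK : k * i⁻¹ ∈ K := K.mul_mem hk (K.inv_mem hiK)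
    set c := k * i⁻¹ with hcdef
    have hcfix : b * c * b = c := by
      rw [hcdef, d, hbinv, hbi', inv_inv]
      have e : b * k * b = k * y := by rw [← hy', mul_inv_cancel_left]
      rw [e, mul_assoc]
      congr 1
      refine eq_inv_of_mul_eq_one_left ?_
      rw [hi, ← pow_succ', ← pow_add, show m + 1 + m = 2 * m + 1 by omega, hyp]
    have hzc' : z * c = c * z := hfixb _ hcK (by
      calc b * c = b * c * (b * b) := by rw [hb2, mul_one]
        _ = (b * c * b) * b := by group
        _ = _ := by rw [hcfix])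
    have h1 : c * (z * i * z) = i⁻¹ * c⁻¹ := by
      rw [← mul_assoc, ← mul_assoc, ← hzc', mul_assoc z c i, show c * i = k by rw [hcdef, inv_mul_cancel_right],
        hinv, hcdef, mul_inv_rev, inv_inv, inv_mul_cancel_left]
    have h2 : c * (z * i⁻¹ * z) = i * c⁻¹ := by
      have e := congrArg (fun t => b * t * b) h1
      have hbzb : b * z * b = z := by rw [hbz, mul_assoc, hb2, mul_one]
      simp only [d, hbinv, hbzb, hbi', hcfix, inv_inv] at e
      exact e
    have h3 : i * (c * c) * i⁻¹ = (c * c)⁻¹ := by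
      have a1 : z * i * z = c⁻¹ * (i⁻¹ * c⁻¹) := by rw [← h1, inv_mul_cancel_left]
      have a2 : z * i * z = c * i⁻¹ * c := by
        have : z * i⁻¹ * z = c⁻¹ * (i * c⁻¹) := by rw [← h2, inv_mul_cancel_left]
        have := congrArg Inv.inv this
        simpa [mul_inv_rev, hzi, mul_assoc] using this
      calc i * (c * c) * i⁻¹ = i * c * (c * i⁻¹ * c) * c⁻¹ := by group
        _ = i * c * (c⁻¹ * (i⁻¹ * c⁻¹)) * c⁻¹ := by rw [← a2, a1]
        _ = _ := by group
    have hc1 : c = 1 := eq_one_of_odd ⟨m, hm⟩ hcK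
      (eq_one_of_inverted ⟨m, hm⟩ (K.mul_mem hcK hcK) hiK h3)
    have hki : k = i := mul_inv_eq_one.1 hc1
    -- so `b z` fixes `k`
    have h7 : z * k = k * z := hfixbz k hk (by
      have e : b * z * k * (b * z) = k := by
        calc b * z * k * (b * z) = b * (z * k * z) * b := by nth_rewrite 2 [hbz]; group
          _ = b * i⁻¹ * b := by rw [hinv, hki]
          _ = k := by
            rw [show b * i⁻¹ * b = (b * i * b)⁻¹ by rw [mul_inv_rev, mul_inv_rev, hbi, mul_assoc], hbi', inv_inv, hki]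
      calc b * z * k = b * z * k * ((b * z) * (b * z)) := by
            rw [show (b * z) * (b * z) = 1 by rw [mul_assoc, ← mul_assoc z, ← hbz, mul_assoc b z z, hz2, mul_one, hb2], mul_one]
        _ = _ := by rw [← mul_assoc, e])
    refine eq_one_of_odd ⟨m, hm⟩ hk ?_
    have : k = k⁻¹ := by rw [← hinv, h7, mul_assoc, hz2, mul_one]
    nth_rewrite 2 [this]
    rw [mul_inv_cancel]
  intro x hx
  have hxz : z * x * z ∈ K := by simpa [hzi] using (Subgroup.mem_normalizer_iff.1 (hQK hzQ) x).1 hx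
  have h := key (x⁻¹ * (z * x * z)) (K.mul_mem (K.inv_mem hx) hxz) (by
    rw [mul_inv_rev, inv_inv, mul_inv_rev, mul_inv_rev, hzi]
    calc z * (x⁻¹ * (z * x * z)) * z = z * x⁻¹ * z * x * (z * z) := by group
      _ = _ := by rw [hz2, mul_one]; group)
  rw [inv_mul_eq_one] at h
  calc z * x = z * x * (z * z) := by rw [hz2, mul_one]
    _ = (z * x * z) * z := by group
    _ = x * z := by rw [← h]

end Cfsg.Agent.S5421
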