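import Cfsg.Statements.S5422
import Cfsg.Agent.Lib.Spor.ExtraPairCore
import Cfsg.Agent.S5421

set_option autoImplicit false
open Cfsg

namespace Cfsg.Agent.S5422

/-- Let Q be an extraspecial 2-subgroup of the finite group G whose centralizer in G is its centre Z and which is normal in the centralizer of Z; suppose Q has width at least 2 (order 2^(2w+1) with w ≥ 2) and g is an element of G not normalizing Z with g Z g⁻¹ inside Q. Then Z lies inside g Q g⁻¹; writing V for the subgroup generated by Z and g Z g⁻¹ (a four-group), the normalizer of V induces on V its full automorphism group, that is, the centralizer of V has index 6 in the normalizer of V; and Q is a large extraspecial 2-subgroup of G. -/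
theorem result {G : Type*} [Group G] [Finite G] (Q : Subgroup G) (hL1 : Cfsg.IsExtraspecial 2 ↥Q) (hL2 : Subgroup.centralizer (Q : Set G) = ((Subgroup.center ↥Q).map Q.subtype)) (hL3 : Subgroup.centralizer (((Subgroup.center ↥Q).map Q.subtype) : Set G) ≤ Subgroup.normalizer (Q : Set G)) (w : ℕ) (hw : 2 ≤ w) (hcard : Nat.card ↥Q = 2 ^ (2 * w + 1)) (g : G) (hg : g ∉ Subgroup.normalizer (((Subgroup.center ↥Q).map Q.subtype) : Set G)) (hZg : (((Subgroup.center ↥Q).map Q.subtype)).map (MulAut.conj g).toMonoidHom ≤ Q) : ((Subgroup.center ↥Q).map Q.subtype) ≤ (Q).map (MulAut.conj g).toMonoidHom ∧ (Subgroup.centralizer ((((Subgroup.center ↥Q).map Q.subtype) ⊔ (((Subgroup.center ↥Q).map Q.subtype)).map (MulAut.conj g).toMonoidHom : Subgroup G) : Set G)).relIndex (Subgroup.normalizer ((((Subgroup.center ↥Q).map Q.subtype) ⊔ (((Subgroup.center ↥Q).map Q.subtype)).map (MulAut.conj g).toMonoidHom : Subgroup G) : Set G)) = 6 ∧ Cfsg.IsLargeExtraspecial Q := by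
  haveI : Fact (Nat.Prime 2) := ⟨Nat.prime_two⟩
  obtain ⟨z, hz, hz1, hzu, hzz⟩ := Cfsg.Agent.Spor.LargeExtra.exists_gen hL1
  have h : Cfsg.Agent.Spor.ExtraPair.Ext z Q := Cfsg.Agent.Spor.ExtraPair.Ext.of_extraspecial hL1 hz hz1
    (hL2.le.trans (Subgroup.map_subtype_le _)) fun c hc => hL3 (Subgroup.mem_centralizer_iff.2 fun y hy => by
      rcases hzu y hy with rfl | rfl
      · rw [one_mul, mul_one]
      · exact hc.symm)
  set b := g * z * g⁻¹ with hbdef
  set Z := (Subgroup.center ↥Q).map Q.subtype with hZdef
  have hzZ : z ∈ Z := hz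
  have hbZg : b ∈ Z.map (MulAut.conj g).toMonoidHom := ⟨z, hzZ, rfl⟩
  have hbQ : b ∈ Q := hZg hbZg
  have hbz : b ≠ z := fun e => hg (Subgroup.mem_normalizer_iff.2 fun y => by
    have hgz : ∀ y ∈ Z, g * y * g⁻¹ = y := fun y hy => by
      rcases hzu y hy with rfl | rfl
      · simp
      · exact e
    refine ⟨fun hy => by rw [hgz y hy]; exact hy, fun hy => ?_⟩
    have := hgz _ hy
    have e2 : g * y * g⁻¹ = y := mul_right_cancel (b := g⁻¹) (mul_left_cancel (a := g) (by
      simpa [mul_assoc] using this))
    rwa [e2] at hy)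
  have hb1 : b ≠ 1 := fun e => hz1 (conj_eq_one_iff.1 e)
  have hbb : b * b = 1 := by rw [hbdef, conj_mul, hzz]; group
  have hzP : z ∈ Q.map (MulAut.conj g).toMonoidHom := by
    refine h.mem_pair hbQ (h.exists_noncommuting hbQ ?_)
    rw [hcard]
    calc 8 < 2 ^ 5 := by norm_num
      _ ≤ _ := Nat.pow_le_pow_right (by norm_num) (by omega)
  refine ⟨?_, ?_, ?_⟩
  · intro y hy
    rcases hzu y hy with rfl | rfl
    exacts [one_mem _, hzP]
  · -- the action on the three involutions
    set W := Z ⊔ Z.map (MulAut.conj g).toMonoidHom with hW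
    have hbzc : b * z = z * b := h.central b hbQ
    have hzW : z ∈ W := Subgroup.mem_sup_left hzZ
    have hbW : b ∈ W := Subgroup.mem_sup_right hbZg
    let F : Set G := {1, z, b, b * z}
    have hmF : ∀ x, x ∈ W ↔ x ∈ F := by
      let WF : Subgroup G :=
        { carrier := F
          one_mem' := Or.inl rfl
          mul_mem' := by
            have e1 : z * (b * z) = b := by rw [hbzc, ← mul_assoc, hzz, one_mul]
            have e2 : b * (b * z) = z := by rw [← mul_assoc, hbb, one_mul]
            have e3 : b * z * z = b := by rw [mul_assoc, hzz, mul_one]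
            have e4 : b * z * b = z := by rw [hbzc, mul_assoc, hbb, mul_one]
            have e5 : b * z * (b * z) = 1 := by rw [← mul_assoc, e4, hzz]
            rintro x y (rfl | rfl | rfl | rfl) (rfl | rfl | rfl | rfl) <;>
              simp [F, hzz, hbb, e1, e2, e3, e4, e5, hbzc.symm]
          inv_mem' := by
            rintro x (rfl | rfl | rfl | rfl)
            · simp [F]
            · simp [F, inv_eq_of_mul_eq_one_right hzz]
            · simp [F, inv_eq_of_mul_eq_one_right hbb]
            · simp [F, inv_eq_of_mul_eq_one_right hzz, inv_eq_of_mul_eq_one_right hbb, ← hbzc] }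
      intro x
      constructor
      · intro hx
        refine (sup_le ?_ ?_ : W ≤ WF) hx
        · intro y hy
          rcases hzu y hy with rfl | rfl
          exacts [Or.inl rfl, Or.inr (Or.inl rfl)]
        · rintro _ ⟨y, hy, rfl⟩
          rcases hzu y hy with rfl | rfl
          · exact Or.inl (map_one _)
          · exact Or.inr (Or.inr (Or.inl rfl))
      · rintro (rfl | rfl | rfl | rfl)
        exacts [one_mem _, hzW, hbW, mul_mem hbW hzW]
    have hN : ∀ n : G, n * z * n⁻¹ ∈ W → n * b * n⁻¹ ∈ W → n ∈ Subgroup.normalizer (W : Set G) := by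
      intro n hnz hnb
      have hle : W.map (MulAut.conj n).toMonoidHom ≤ W := by
        rintro _ ⟨y, hy, rfl⟩
        show n * y * n⁻¹ ∈ W
        rcases (hmF y).1 hy with rfl | rfl | rfl | rfl
        · simp
        · exact hnz
        · exact hnb
        · rw [← conj_mul]; exact mul_mem hnb hnz
      have he := Subgroup.eq_of_le_of_card_ge hle (le_of_eq (Subgroup.card_map_of_injective (MulAut.conj n).injective).symm)
      exact Subgroup.mem_normalizer_iff.2 fun y => ⟨fun hy => hle ⟨y, hy, rfl⟩, fun hy => by
        rw [← he] at hy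
        obtain ⟨w, hw, e⟩ := hy
        have : n * w * n⁻¹ = n * y * n⁻¹ := e
        rw [← mul_left_cancel (mul_right_cancel this)]; exact hw⟩
    obtain ⟨q, hq, hqb⟩ : ∃ q ∈ Q, q * b ≠ b * q := by
      by_contra hcon
      simp only [not_exists, not_and, not_not] at hcon
      rcases h.cen b hbQ hcon with e | e
      exacts [hb1 e, hbz e]
    have hqb' := ((h.conj_cases hbQ hq).resolve_left hqb).2
    have hqz : q * z * q⁻¹ = z := by rw [h.central q hq, mul_inv_cancel_right]
    have h' := h.map_conj g
    obtain ⟨p, hp, hpz⟩ : ∃ p ∈ Q.map (MulAut.conj g).toMonoidHom, p * z ≠ z * p := by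
      by_contra hcon
      simp only [not_exists, not_and, not_not] at hcon
      rcases h'.cen z hzP hcon with e | e
      exacts [hz1 e, hbz e.symm]
    have hpz' : p * z * p⁻¹ = b * z := by
      rw [((h'.conj_cases hzP hp).resolve_left hpz).2]; exact hbzc.symm
    have hpb : p * b * p⁻¹ = b := by rw [hbdef, h'.central p hp, mul_inv_cancel_right]
    set N := Subgroup.normalizer (W : Set G)
    have hqN : q ∈ N := hN q (by rw [hqz]; exact hzW) (by rw [hqb']; exact mul_mem hbW hzW)
    have hpN : p ∈ N := hN p (by rw [hpz']; exact mul_mem hbW hzW) (by rw [hpb]; exact hbW)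
    set C := Subgroup.centralizer (W : Set G)
    have hmemC : ∀ c : G, c ∈ C ↔ c * z * c⁻¹ = z ∧ c * b * c⁻¹ = b := by
      intro c
      constructor
      · intro hc
        exact ⟨by rw [← Subgroup.mem_centralizer_iff.1 hc z hzW, mul_inv_cancel_right],
          by rw [← Subgroup.mem_centralizer_iff.1 hc b hbW, mul_inv_cancel_right]⟩
      · rintro ⟨h1, h2⟩
        refine Subgroup.mem_centralizer_iff.2 fun y hy => ?_
        have h3 : c * y * c⁻¹ = y := by
          rcases (hmF y).1 hy with rfl | rfl | rfl | rfl
          · simp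
          · exact h1
          · exact h2
          · rw [← conj_mul, h1, h2]
        calc y * c = c * y * c⁻¹ * c := by rw [h3]
          _ = c * y := by group
    let pr : N → G × G := fun n => ((n : G) * z * (n : G)⁻¹, (n : G) * b * (n : G)⁻¹)
    have hpr : ∀ n m : N, pr n = pr m ↔ (n⁻¹ * m : N) ∈ C.subgroupOf N := by
      intro n m
      rw [Subgroup.mem_subgroupOf, hmemC]
      simp only [pr, Prod.mk.injEq, Subgroup.coe_mul, Subgroup.coe_inv]
      have key : ∀ y : G, (n : G) * y * (n : G)⁻¹ = (m : G) * y * (m : G)⁻¹ ↔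
          (n : G)⁻¹ * m * y * ((n : G)⁻¹ * m)⁻¹ = y := by
        intro y
        constructor
        · intro e
          calc (n : G)⁻¹ * m * y * ((n : G)⁻¹ * m)⁻¹ = (n : G)⁻¹ * ((m : G) * y * (m : G)⁻¹) * n := by group
            _ = (n : G)⁻¹ * ((n : G) * y * (n : G)⁻¹) * n := by rw [e]
            _ = y := by group
        · intro e
          calc (n : G) * y * (n : G)⁻¹ = (n : G) * ((n : G)⁻¹ * m * y * ((n : G)⁻¹ * m)⁻¹) * (n : G)⁻¹ := by rw [e]
            _ = _ := by group
      exact and_congr (key z) (key b)
    let prq : N ⧸ C.subgroupOf N → G × G := Quotient.lift pr fun n m e =>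
      (hpr n m).2 (QuotientGroup.leftRel_apply.1 e)
    have hinj : Function.Injective prq := by
      intro x y
      induction x using QuotientGroup.induction_on with
      | _ n =>
        induction y using QuotientGroup.induction_on with
        | _ m => exact fun e => QuotientGroup.eq.2 ((hpr n m).1 e)
    let six : Finset (G × G) := by
      classical exact {(z, b), (z, b * z), (b, z), (b, b * z), (b * z, z), (b * z, b)}
    have hn1 : b * z ≠ z := fun e => hb1 (mul_eq_right.1 e)
    have hn2 : b * z ≠ b := fun e => hz1 (mul_eq_left.1 e)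
    have hn3 : b * z ≠ 1 := fun e => hbz (by
      rw [← inv_eq_of_mul_eq_one_right hzz]; exact eq_inv_of_mul_eq_one_left e)
    have hrange : Set.range prq = (six : Set (G × G)) := by
      refine Set.Subset.antisymm ?_ ?_
      · rintro _ ⟨x, rfl⟩
        induction x using QuotientGroup.induction_on with
        | _ n =>
          have m1 := (hmF _).1 ((Subgroup.mem_normalizer_iff.1 n.2 z).1 hzW)
          have m2 := (hmF _).1 ((Subgroup.mem_normalizer_iff.1 n.2 b).1 hbW)
          have hne : (n : G) * z * (n : G)⁻¹ ≠ (n : G) * b * (n : G)⁻¹ := fun e =>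
            hbz (mul_left_cancel (mul_right_cancel e)).symm
          have k1 : (n : G) * z * (n : G)⁻¹ ≠ 1 := fun e => hz1 (conj_eq_one_iff.1 e)
          have k2 : (n : G) * b * (n : G)⁻¹ ≠ 1 := fun e => hb1 (conj_eq_one_iff.1 e)
          show pr n ∈ (six : Set (G × G))
          simp only [pr]
          rcases m1 with e1 | e1 | e1 | e1 <;> rcases m2 with e2 | e2 | e2 | e2 <;>
            first
              | exact absurd e1 k1
              | exact absurd e2 k2
              | exact absurd (e1.trans e2.symm) hne
              | (rw [e1, e2]; simp [six])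
      · have act : ∀ n : N, ∀ x y, pr n = (x, y) → (x, y) ∈ Set.range prq := fun n x y e => ⟨QuotientGroup.mk n, e⟩
        have hpbz : p * (b * z) * p⁻¹ = z := by rw [← conj_mul, hpb, hpz', ← mul_assoc, hbb, one_mul]
        have hqbz : q * (b * z) * q⁻¹ = b := by rw [← conj_mul, hqb', hqz, mul_assoc, hzz, mul_one]
        have comp : ∀ n m : G, ∀ y : G, (n * m) * y * (n * m)⁻¹ = n * (m * y * m⁻¹) * n⁻¹ := fun n m y => by group
        intro w hw
        simp only [six, Finset.coe_insert, Finset.coe_singleton, Set.mem_insert_iff, Set.mem_singleton_iff] at hw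
        rcases hw with rfl | rfl | rfl | rfl | rfl | rfl
        · exact act 1 _ _ (by simp [pr])
        · exact act ⟨q, hqN⟩ _ _ (by simp only [pr]; rw [hqz, hqb'])
        · exact act ⟨q * p * q, mul_mem (mul_mem hqN hpN) hqN⟩ _ _ (by
            simp only [pr, comp, hqz, hqb', hpz', hpbz, hqbz])
        · exact act ⟨q * p, mul_mem hqN hpN⟩ _ _ (by simp only [pr, comp, hpz', hpb, hqbz, hqb'])
        · exact act ⟨p * q, mul_mem hpN hqN⟩ _ _ (by simp only [pr, comp, hqz, hqb', hpz', hpbz])
        · exact act ⟨p, hpN⟩ _ _ (by simp only [pr]; rw [hpz', hpb])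
    have hsix : six.card = 6 := by
      simp [six, hbz, hbz.symm, hn1, hn1.symm, hn2, hn2.symm]
    show (C.subgroupOf N).index = 6
    rw [Subgroup.index, ← Nat.card_congr (Equiv.ofInjective prq hinj).symm, hrange, Nat.card_coe_set_eq,
      Set.ncard_coe_finset, hsix]
  · -- large
    refine Cfsg.Agent.S5421.result Q hL1 hL2 hL3 b hbQ ?_ ?_ ?_
    · intro hb
      rcases hzu b hb with e | e
      exacts [hb1 e, hbz e]
    · exact orderOf_eq_prime (by rw [pow_two]; exact hbb) hb1
    · intro y hy
      have hPle : Q.map (MulAut.conj g).toMonoidHom ≤ Subgroup.centralizer ({b} : Set G) := fun c hc =>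
        Subgroup.mem_centralizer_singleton_iff.2 ((h.map_conj g).central c hc)
      haveI : ((Q.map (MulAut.conj g).toMonoidHom).subgroupOf (Subgroup.centralizer ({b} : Set G))).Normal :=
        ⟨fun m hm c => (h.map_conj g).norm c (Subgroup.mem_centralizer_singleton_iff.1 c.2) m hm⟩
      have hle := Cfsg.Agent.Transfer.le_pCore
        (N := (Q.map (MulAut.conj g).toMonoidHom).subgroupOf (Subgroup.centralizer ({b} : Set G))) inferInstance
        ((hL1.1.1.map _).comap_of_injective _ (Subgroup.subtype_injective _))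
      have hyP : y ∈ Q.map (MulAut.conj g).toMonoidHom := by
        rcases hzu y hy with rfl | rfl
        exacts [one_mem _, hzP]
      exact ⟨⟨y, hPle hyP⟩, hle hyP, rfl⟩

end Cfsg.Agent.S5422
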