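import Cfsg.Statements.S5423
import Cfsg.Agent.Lib.Spor.AffineSetup

set_option autoImplicit false
open Cfsg

namespace Cfsg.Agent.S5423

/-- Let G be a finite group that is the split extension of an elementary abelian normal subgroup U of order 2^(n+1), n ≥ 1, by its full automorphism group: U has a complement M in G whose conjugation action on U is faithful and realizes every automorphism of U. Let Z be a subgroup of U of order 2 and Q the largest normal 2-subgroup of the centralizer C of Z. Then Q is extraspecial of order 2^(2n+1) with an elementary abelian subgroup of order 2^(n+1) (plus type), Q is a large extraspecial 2-subgroup of G, and C is the split extension of Q by the general linear group of degree n over the field with two elements. -/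
theorem result {G : Type*} [Group G] [Finite G] (n : ℕ) (hn : 1 ≤ n) (U M : Subgroup G) [U.Normal] (hU : Cfsg.IsElementaryAbelian 2 U) (hUcard : Nat.card ↥U = 2 ^ (n + 1)) (hUM : U ⊓ M = ⊥) (hUM' : U ⊔ M = ⊤) (hfaith : ∀ m ∈ M, (∀ u ∈ U, m * u * m⁻¹ = u) → m = 1) (hfull : ∀ φ : ↥U ≃* ↥U, ∃ m ∈ M, ∀ u : ↥U, ((φ u : ↥U) : G) = m * u * m⁻¹) (Z : Subgroup G) (hZU : Z ≤ U) (hZ : Nat.card ↥Z = 2) (Q : Subgroup G) (hQ : Q = (Cfsg.pCore 2 ↥(Subgroup.centralizer (Z : Set G))).map (Subgroup.centralizer (Z : Set G)).subtype) : Cfsg.IsExtraspecial 2 ↥Q ∧ Nat.card ↥Q = 2 ^ (2 * n + 1) ∧ (∃ E : Subgroup G, E ≤ Q ∧ Cfsg.IsElementaryAbelian 2 E ∧ Nat.card ↥E = 2 ^ (n + 1)) ∧ Cfsg.IsLargeExtraspecial Q ∧ ∃ K : Subgroup G, K ≤ Subgroup.centralizer (Z : Set G) ∧ Q ⊓ K = ⊥ ∧ Q ⊔ K = Subgroup.centralizer (Z : Set G) ∧ Nonempty (↥K ≃* Matrix.GeneralLinearGroup (Fin n) (ZMod 2)) := by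
  classical
  haveI : Fact (Nat.Prime 2) := ⟨Nat.prime_two⟩
  obtain ⟨⟨z, hz⟩, hz1, -⟩ := (Nat.card_eq_two_iff' (1 : Z)).1 hZ
  have hzne : z ≠ 1 := fun h => hz1 (Subtype.ext h)
  have hZz : Z = Subgroup.zpowers z := by
    refine (Subgroup.eq_of_le_of_card_ge (Subgroup.zpowers_le.mpr hz) ?_).symm
    rw [hZ, Nat.card_zpowers]
    have := orderOf_pos z
    have : orderOf z ≠ 1 := fun h => hzne (orderOf_eq_one_iff.mp h)
    omega
  obtain ⟨S, hS⟩ := Cfsg.Agent.Spor.Affine.exists_setup (P := (⊤ : Subgroup G)) (M := M) le_top le_top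
    (fun p _ u hu => Subgroup.Normal.conj_mem inferInstance u hu p)
    (fun p _ => by
      obtain ⟨u, hu, m, hm, e⟩ := Subgroup.mem_sup_of_normal_left.mp (hUM' ▸ Subgroup.mem_top p : p ∈ U ⊔ M)
      exact ⟨u, hu, m, hm, e.symm⟩)
    hU hUcard hfaith hfull (fun u _ _ => le_top) (hZU hz) hzne
  have hC : Subgroup.centralizer (Z : Set G) = Subgroup.centralizer ({S.z} : Set G) := by
    rw [hS, hZz, Subgroup.zpowers_eq_closure, Subgroup.centralizer_closure]
  rw [hC] at hQ ⊢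
  obtain ⟨h0, h1, h2, h3, h4, h5⟩ := S.main hn
  obtain rfl : Q = S.Q := hQ.trans h0
  exact ⟨h1, h2, h3, h4, h5⟩

end Cfsg.Agent.S5423
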