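import Cfsg.Statements.S5427
import Cfsg.Agent.Lib.Grp.ExtraCentSimple
-- import your own Cfsg.Agent.* helpers here

set_option autoImplicit false
open Cfsg Cfsg.Agent

namespace Cfsg.Agent.S5427

theorem extra_equiv {A B : Type*} [Group A] [Group B] {p : ℕ} (e : A ≃* B) (h : Cfsg.IsExtraspecial p A) :
    Cfsg.IsExtraspecial p B := by
  have hc : (Subgroup.center A).map e.toMonoidHom = Subgroup.center B := by
    ext x
    constructor
    · rintro ⟨a, ha, rfl⟩
      refine Subgroup.mem_center_iff.2 fun b => e.symm.injective ?_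
      simp only [map_mul, MulEquiv.coe_toMonoidHom, MulEquiv.symm_apply_apply]
      exact Subgroup.mem_center_iff.1 ha _
    · intro hx
      refine ⟨e.symm x, Subgroup.mem_center_iff.2 fun a => e.injective ?_, e.apply_symm_apply x⟩
      simp only [map_mul, MulEquiv.apply_symm_apply]
      exact Subgroup.mem_center_iff.1 hx _
  have hf : (frattini A).map e.toMonoidHom = frattini B := OrderIso.map_radical e.mapSubgroup
  refine ⟨⟨h.1.1.of_equiv e, ?_, ?_⟩, ?_⟩
  · rw [← hf, h.1.2.1, hc]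
  · rw [← hc, ← h.1.2.2, commutator_def, commutator_def, Subgroup.map_commutator,
      Subgroup.map_top_of_surjective _ e.surjective]
  · rw [← hc, Subgroup.card_map_of_injective (f := e.toMonoidHom) e.injective, h.2]

/-- Let z be an involution of the finite group G whose centralizer C has generalized Fitting subgroup Q, an extraspecial 2-group of width at least 2 (order 2^(2w+1), w ≥ 2). Let K be a subgroup of G such that the subgroup U generated by the K-conjugates of z is abelian and C is generated by the C-conjugates of U. Suppose that either some K-conjugate of z other than z lies in Q, or some element u of U ∩ Q outside the subgroup generated by z has z in the largest normal 2-subgroup of its centralizer. Then G is simple and Q is a large extraspecial 2-subgroup of G. -/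
theorem result {G : Type*} [Group G] [Finite G] (z : G) (hz : orderOf z = 2) (Q : Subgroup G) (hQC : Q ≤ Subgroup.centralizer ({z} : Set G)) (hF : (Cfsg.generalizedFittingSubgroup ↥(Subgroup.centralizer ({z} : Set G))).map (Subgroup.centralizer ({z} : Set G)).subtype = Q) (hQ : Cfsg.IsExtraspecial 2 ↥Q) (w : ℕ) (hw : 2 ≤ w) (hcard : Nat.card ↥Q = 2 ^ (2 * w + 1)) (K U : Subgroup G) (hU : U = Subgroup.closure {x : G | ∃ k ∈ K, x = k * z * k⁻¹}) (hUab : IsMulCommutative ↥U) (hgen : Subgroup.closure {x : G | ∃ c ∈ Subgroup.centralizer ({z} : Set G), ∃ u ∈ U, x = c * u * c⁻¹} = Subgroup.centralizer ({z} : Set G)) (h3 : (∃ k ∈ K, k * z * k⁻¹ ∈ Q ∧ k * z * k⁻¹ ≠ z) ∨ ∃ u ∈ U ⊓ Q, u ∉ Subgroup.zpowers z ∧ (∃ hz' : z ∈ Subgroup.centralizer ({u} : Set G), (⟨z, hz'⟩ : ↥(Subgroup.centralizer ({u} : Set G))) ∈ Cfsg.pCore 2 ↥(Subgroup.centralizer ({u} : Set G)))) : IsSimpleGroup G ∧ Cfsg.IsLargeExtraspecial Q := by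
  classical
  have hE : Cfsg.IsExtraspecial 2 ↥(Cfsg.generalizedFittingSubgroup ↥(Subgroup.centralizer ({z} : Set G))) := by
    have e := ((Cfsg.generalizedFittingSubgroup ↥(Subgroup.centralizer ({z} : Set G))).equivMapOfInjective
      (Subgroup.centralizer ({z} : Set G)).subtype Subtype.val_injective).trans (MulEquiv.subgroupCongr hF)
    exact extra_equiv e.symm hQ
  have h : Spor.ExtraPair.Ext z Q := Fus.ext_gfit hz hE hF.symm
  have hUc : ∀ x ∈ U, x * z = z * x := fun x hx => by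
    have hzU : z ∈ U := hU ▸ Subgroup.subset_closure ⟨1, one_mem K, by simp⟩
    exact congrArg Subtype.val (hUab.is_comm.comm ⟨x, hx⟩ ⟨z, hzU⟩)
  have hU2 : ∀ x ∈ U, x * x = 1 := fun x hx => by
    have hh := hUab.is_comm.comm
    rw [hU] at hx
    refine (Subgroup.closure_induction (p := fun y _ => y ∈ U ∧ y * y = 1) ?_ ⟨one_mem U, one_mul 1⟩ ?_ ?_ hx).2
    · rintro y ⟨k, hk, rfl⟩
      exact ⟨hU ▸ Subgroup.subset_closure ⟨k, hk, rfl⟩, by rw [conj_mul, h.zz]; group⟩
    · rintro a b - - ⟨ha, ha2⟩ ⟨hb, hb2⟩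
      refine ⟨mul_mem ha hb, ?_⟩
      have e : b * a = a * b := congrArg Subtype.val (hh ⟨b, hb⟩ ⟨a, ha⟩)
      calc a * b * (a * b) = a * (b * a) * b := by group
        _ = (a * a) * (b * b) := by rw [e]; group
        _ = 1 := by rw [ha2, hb2, one_mul]
    · rintro a - ⟨ha, ha2⟩
      exact ⟨inv_mem ha, by rw [← mul_inv_rev, ha2, inv_one]⟩
  obtain ⟨u, huQ, hu1, huz, huu, hkey⟩ : ∃ u ∈ Q, u ≠ 1 ∧ u ≠ z ∧ u * u = 1 ∧
      ∀ x, x * u = u * x → ∃ k : ℕ, (z * x * z⁻¹ * x⁻¹) ^ 2 ^ k = 1 := by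
    rcases h3 with ⟨k, hk, hkQ, hkne⟩ | ⟨u, hu, hun, hz', hcore⟩
    · have hu1 : k * z * k⁻¹ ≠ 1 := fun e => h.ne (conj_eq_one_iff.1 e)
      refine ⟨_, hkQ, hu1, hkne, by rw [conj_mul, h.zz]; group, fun x hx => ?_⟩
      have hnc := Grp.ExtraCentSimple.centralizer_not_comm h (by
        rw [hcard]
        calc 8 = 2 ^ 3 := rfl
          _ < 2 ^ (2 * w + 1) := Nat.pow_lt_pow_right (by norm_num) (by omega)) hkQ hu1 hkne
      simp only [not_forall] at hnc
      obtain ⟨a, ha, hau, b, hb, hbu, hab⟩ := hnc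
      have hzP : z ∈ Q.map (MulAut.conj k).toMonoidHom := h.mem_pair hkQ ⟨a, ha, hau, b, hb, hbu, hab⟩
      have hmem : z * x * z⁻¹ * x⁻¹ ∈ Q.map (MulAut.conj k).toMonoidHom := by
        rw [show z * x * z⁻¹ * x⁻¹ = z * (x * z⁻¹ * x⁻¹) by group]
        exact mul_mem hzP ((h.map_conj k).norm x hx _ (inv_mem hzP))
      obtain ⟨m, hm⟩ := (hQ.1.1.map (MulAut.conj k).toMonoidHom) ⟨_, hmem⟩
      exact ⟨m, congrArg Subtype.val hm⟩
    · refine ⟨u, hu.2, fun e => hun (e ▸ one_mem _), fun e => hun (e ▸ Subgroup.mem_zpowers z), hU2 u hu.1,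
        fun x hx => ?_⟩
      haveI : (Cfsg.pCore 2 ↥(Subgroup.centralizer ({u} : Set G))).Normal := Grp.pCore_isNormal
      let x' : ↥(Subgroup.centralizer ({u} : Set G)) := ⟨x, Subgroup.mem_centralizer_singleton_iff.2 hx⟩
      let z₁ : ↥(Subgroup.centralizer ({u} : Set G)) := ⟨z, hz'⟩
      have hmem : z₁ * x' * z₁⁻¹ * x'⁻¹ ∈ Cfsg.pCore 2 ↥(Subgroup.centralizer ({u} : Set G)) := by
        rw [show z₁ * x' * z₁⁻¹ * x'⁻¹ = z₁ * (x' * z₁⁻¹ * x'⁻¹) by group]
        exact mul_mem hcore (Subgroup.Normal.conj_mem inferInstance _ (inv_mem hcore) x')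
      haveI : Fact (Nat.Prime 2) := ⟨Nat.prime_two⟩
      obtain ⟨m, hm⟩ := Grp.pCore_isPGroup (p := 2) ⟨_, hmem⟩
      exact ⟨m, congrArg Subtype.val (congrArg Subtype.val hm)⟩
  haveI : Nontrivial G := ⟨z, 1, h.ne⟩
  refine ⟨⟨fun N hN => ?_⟩, hQ, ?_, ?_, fun X hXodd hXQ => ?_⟩
  · haveI := hN
    by_cases hzN : z ∈ N
    · refine Or.inr (Grp.ExtraCentSimple.eq_top_of_cent_le h hQ.1.1 N ?_)
      have hUN : U ≤ N := by
        rw [hU, Subgroup.closure_le]
        rintro y ⟨k, -, rfl⟩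
        exact hN.conj_mem z hzN k
      rw [← hgen, Subgroup.closure_le]
      rintro y ⟨c, -, x, hx, rfl⟩
      exact hN.conj_mem x (hUN hx) c
    refine Or.inl (Grp.ExtraCentSimple.eq_bot_of_free h huQ hu1 huz huu hkey N
      (fun q _ x hx => hN.conj_mem x hx q) fun x hx hzx => ?_)
    have hNQ : ∀ y ∈ N, y ∈ Q → y = 1 := fun y hy hyQ => by
      by_contra hy1
      have hyc : ∀ q ∈ Q, q * y = y * q := fun q hq => by
        rcases h.conj_cases hyQ hq with e | ⟨-, e⟩
        · exact e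
        · exfalso
          have := mul_mem (inv_mem hy) (hN.conj_mem y hy q)
          rw [e, inv_mul_cancel_left] at this
          exact hzN this
      rcases h.cen y hyQ hyc with e | e
      · exact hy1 e
      · exact hzN (e ▸ hy)
    refine hNQ x hx (h.self x fun q hq => ?_)
    have h1 : q * x * q⁻¹ * x⁻¹ = 1 := hNQ _ (mul_mem (hN.conj_mem x hx q) (inv_mem hx)) (by
      rw [show q * x * q⁻¹ * x⁻¹ = q * (x * q⁻¹ * x⁻¹) by group]
      exact mul_mem hq (h.norm x hzx.symm _ (inv_mem hq)))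
    exact mul_inv_eq_iff_eq_mul.1 (mul_inv_eq_one.1 h1)
  · refine le_antisymm (fun c hc => ?_) ?_
    · have hcc : ∀ q ∈ Q, q * c = c * q := fun q hq => Subgroup.mem_centralizer_iff.1 hc q hq
      exact ⟨⟨c, h.self c hcc⟩, Subgroup.mem_center_iff.2 fun q => Subtype.ext (hcc q q.2), rfl⟩
    · rintro _ ⟨c, hc, rfl⟩
      exact Subgroup.mem_centralizer_iff.2 fun q hq =>
        congrArg Subtype.val (Subgroup.mem_center_iff.1 hc ⟨q, hq⟩)
  · intro c hc
    have hzZ : z ∈ (Subgroup.center ↥Q).map Q.subtype :=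
      ⟨⟨z, h.mem⟩, Subgroup.mem_center_iff.2 fun q => Subtype.ext (h.central q q.2), rfl⟩
    have hcz : c * z = z * c := (Subgroup.mem_centralizer_iff.1 hc z hzZ).symm
    have hcz' : c⁻¹ * z = z * c⁻¹ := (show Commute c z from hcz).inv_left
    refine Subgroup.mem_normalizer_iff.2 fun q => ⟨fun hq => h.norm c hcz q hq, fun hq => ?_⟩
    have := h.norm c⁻¹ hcz' _ hq
    simpa [mul_assoc] using this
  · have hXn : ∀ q ∈ Q, ∀ x ∈ X, q * x * q⁻¹ ∈ X := fun q hq x hx =>
      (Subgroup.mem_normalizer_iff.1 (hXQ hq) x).1 hx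
    have hXQ1 : ∀ y ∈ X, y ∈ Q → y = 1 := fun y hy hyQ => by
      obtain ⟨m, hm⟩ := hQ.1.1 ⟨y, hyQ⟩
      have h2 : orderOf y ∣ 2 ^ m := orderOf_dvd_of_pow_eq_one (congrArg Subtype.val hm)
      have h3 : orderOf y ∣ Nat.card X := Subgroup.orderOf_dvd_natCard _ hy
      exact orderOf_eq_one_iff.1 (Nat.eq_one_of_dvd_coprimes
        (Nat.Coprime.pow_right m (hXodd.coprime_two_right)) h3 h2)
    refine Grp.ExtraCentSimple.eq_bot_of_free h huQ hu1 huz huu hkey X hXn fun x hx hzx =>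
      hXQ1 x hx (h.self x fun q hq => ?_)
    have h1 : q * x * q⁻¹ * x⁻¹ = 1 := hXQ1 _ (mul_mem (hXn q hq x hx) (inv_mem hx)) (by
      rw [show q * x * q⁻¹ * x⁻¹ = q * (x * q⁻¹ * x⁻¹) by group]
      exact mul_mem hq (h.norm x hzx.symm _ (inv_mem hq)))
    exact mul_inv_eq_iff_eq_mul.1 (mul_inv_eq_one.1 h1)

end Cfsg.Agent.S5427
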