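import Cfsg.Statements.S5428
import Cfsg.Agent.Lib.Grp.LargeExtraImage
-- import your own Cfsg.Agent.* helpers here

set_option autoImplicit false
open Cfsg Cfsg.Agent

namespace Cfsg.Agent.S5428

/-- Let z be an involution of the finite group G whose centralizer C has generalized Fitting subgroup Q extraspecial (as a 2-group), let A be a subgroup of C of odd order, and let R be the centralizer of A in Q; suppose R has order at least 32, the largest normal subgroup of odd order of the centralizer of the subgroup generated by A and R lies in A, the order of that centralizer is not divisible by 4, and g is an element of G with g z g⁻¹ in R but outside the centre Z of Q. Let M be the subgroup generated by A and the centralizer of A (A is normal in it). Then: the centralizer in M of the subgroup generated by R and A, joined with A, equals the subgroup generated by A and Z; the image of R in M/A is a large extraspecial 2-subgroup of M/A; and g z g⁻¹ is conjugate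 to z inside the subgroup generated by R and the centralizer of A in g Q g⁻¹. -/
theorem result {G : Type*} [Group G] [Finite G] (z : G) (hz : orderOf z = 2) (Q : Subgroup G) (hQC : Q ≤ Subgroup.centralizer ({z} : Set G)) (hF : (Cfsg.generalizedFittingSubgroup ↥(Subgroup.centralizer ({z} : Set G))).map (Subgroup.centralizer ({z} : Set G)).subtype = Q) (hQ : Cfsg.IsExtraspecial 2 ↥Q) (A : Subgroup G) (hA : A ≤ Subgroup.centralizer ({z} : Set G)) (hAodd : Odd (Nat.card ↥A)) (R : Subgroup G) (hR : R = Q ⊓ Subgroup.centralizer (A : Set G)) (hR32 : 32 ≤ Nat.card ↥R) (hO : (Cfsg.oddCore ↥(Subgroup.centralizer ((A ⊔ R : Subgroup G) : Set G))).map (Subgroup.centralizer ((A ⊔ R : Subgroup G) : Set G)).subtype ≤ A) (h4 : ¬ 4 ∣ Nat.card ↥(Subgroup.centralizer ((A ⊔ R : Subgroup G) : Set G))) (g : G) (hgR : g * z * g⁻¹ ∈ R) (hgZ : g * z * g⁻¹ ∉ ((Subgroup.center ↥Q).map Q.subtype)) (M : Subgroup G) (hM : M = Subgroup.centralizer (A : Set G) ⊔ A) [hn : (A.subgroupOf M).Normal]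 : (M ⊓ Subgroup.centralizer ((R ⊔ A : Subgroup G) : Set G)) ⊔ A = A ⊔ ((Subgroup.center ↥Q).map Q.subtype) ∧ Cfsg.IsLargeExtraspecial ((R.subgroupOf M).map (QuotientGroup.mk' (A.subgroupOf M))) ∧ ∃ x ∈ R ⊔ ((Q).map (MulAut.conj g).toMonoidHom ⊓ Subgroup.centralizer (A : Set G)), x * (g * z * g⁻¹) * x⁻¹ = z := by
  classical
  have hE : Cfsg.IsExtraspecial 2 ↥(Cfsg.generalizedFittingSubgroup ↥(Subgroup.centralizer ({z} : Set G))) :=
    Grp.ExtraCentSimple.isExtraspecial_equiv (((Cfsg.generalizedFittingSubgroup _).equivMapOfInjective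
      (Subgroup.centralizer ({z} : Set G)).subtype Subtype.val_injective).trans
        (MulEquiv.subgroupCongr hF)).symm hQ
  have h : Spor.ExtraPair.Ext z Q := Fus.ext_gfit hz hE hF.symm
  have hZ : ∀ x, x ∈ (Subgroup.center ↥Q).map Q.subtype ↔ x = 1 ∨ x = z := fun x => by
    constructor
    · rintro ⟨c, hc, rfl⟩
      exact h.cen c c.2 fun q hq => congrArg Subtype.val (Subgroup.mem_center_iff.1 hc ⟨q, hq⟩)
    · rintro (rfl | rfl)
      · exact one_mem _
      · exact ⟨⟨x, h.mem⟩, Subgroup.mem_center_iff.2 fun q => Subtype.ext (h.central q q.2), rfl⟩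
  have hAz : ∀ a ∈ A, a * z = z * a := fun a ha => Subgroup.mem_centralizer_singleton_iff.1 (hA ha)
  have hRQ : R ≤ Q := hR ▸ inf_le_left
  have hmemR : ∀ x, x ∈ R ↔ x ∈ Q ∧ ∀ a ∈ A, a * x = x * a := fun x => by
    rw [hR, Subgroup.mem_inf, Subgroup.mem_centralizer_iff]; rfl
  have hzR : z ∈ R := (hmemR z).2 ⟨h.mem, hAz⟩
  have hbQ : g * z * g⁻¹ ∈ Q := hRQ hgR
  have hbA := ((hmemR _).1 hgR).2
  have hbne : g * z * g⁻¹ ≠ z := fun e => hgZ ((hZ _).2 (Or.inr e))
  have hb1 : g * z * g⁻¹ ≠ 1 := fun e => hgZ ((hZ _).2 (Or.inl e))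
  obtain ⟨hzQ', hkey⟩ := Grp.ExtraCentSimple.key_of_conj h hQ.1.1 (by
    have := Subgroup.card_le_card_group R
    have h2 : Nat.card ↥R ≤ Nat.card ↥Q := Nat.le_of_dvd Nat.card_pos (Subgroup.card_dvd_of_le hRQ)
    omega) hbQ hbne
  have h' := h.map_conj g
  -- elements of `A` times `2`-elements
  have htwo : ∀ x ∈ R, ∀ c : G, (∀ a ∈ A, a * c = c * a) → c * x * c⁻¹ * x⁻¹ ∈ A → c * x = x * c := by
    intro x hx c hc hmem
    obtain ⟨m, hm⟩ := hQ.1.1 ⟨x, hRQ hx⟩
    have hx2 : x ^ 2 ^ m = 1 := congrArg Subtype.val hm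
    obtain ⟨a, ha, hae⟩ : ∃ a ∈ A, c * x * c⁻¹ * x⁻¹ = a := ⟨_, hmem, rfl⟩
    have hax : Commute a x := ((hmemR x).1 hx).2 a ha
    have h1 : (c * x * c⁻¹) ^ 2 ^ m = 1 := by rw [conj_pow, hx2, mul_one, mul_inv_cancel]
    rw [mul_inv_eq_iff_eq_mul.1 hae, hax.mul_pow, hx2, mul_one] at h1
    have h2 : orderOf a ∣ 2 ^ m := orderOf_dvd_of_pow_eq_one h1
    have h3 : orderOf a ∣ Nat.card A := Subgroup.orderOf_dvd_natCard _ ha
    have ha1 : a = 1 := orderOf_eq_one_iff.1 (Nat.eq_one_of_dvd_coprimes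
      (Nat.Coprime.pow_right m (hAodd.coprime_two_right)) h3 h2)
    rw [ha1] at hae
    exact mul_inv_eq_iff_eq_mul.1 (mul_inv_eq_one.1 hae)
  have hCA : Subgroup.centralizer (A : Set G) ≤ Subgroup.normalizer (A : Set G) :=
    fun c hc => Subgroup.mem_normalizer_iff.2 fun a => ⟨fun ha => by
      rw [← Subgroup.mem_centralizer_iff.1 hc a ha, mul_inv_cancel_right]; exact ha, fun ha => by
      have h1 := Subgroup.mem_centralizer_iff.1 hc _ ha
      have h2 : a = c * a * c⁻¹ := by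
        calc a = c⁻¹ * ((c * a * c⁻¹) * c) := by group
          _ = c⁻¹ * (c * (c * a * c⁻¹)) := by rw [h1]
          _ = c * a * c⁻¹ := by group
      exact h2 ▸ ha⟩
  have hdec : ∀ m : G, m ∈ M → ∃ c, (∀ a ∈ A, a * c = c * a) ∧ ∃ a ∈ A, m = c * a := by
    intro m hm
    rw [hM, ← SetLike.mem_coe, Subgroup.coe_mul_of_left_le_normalizer_right _ _ hCA] at hm
    obtain ⟨c, hc, a, ha, rfl⟩ := Set.mem_mul.1 hm
    exact ⟨c, Subgroup.mem_centralizer_iff.1 hc, a, ha, rfl⟩
  have hcMA : ∀ c, (∀ a ∈ A, a * c = c * a) → c ∈ M := fun c hc =>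
    hM ▸ Subgroup.mem_sup_left (Subgroup.mem_centralizer_iff.2 hc)
  have hAM : A ≤ M := hM ▸ le_sup_right
  have hRM : R ≤ M := fun x hx => hcMA x ((hmemR x).1 hx).2
  -- the centraliser of `AR`
  have hY : ∀ c, (∀ a ∈ A, a * c = c * a) → (∀ r ∈ R, r * c = c * r) → c ∈ A ∨ c * z ∈ A := by
    intro c hcA hcR
    have hmemY : ∀ y : G, (∀ a ∈ A, a * y = y * a) → (∀ r ∈ R, r * y = y * r) →
        y ∈ Subgroup.centralizer ((A ⊔ R : Subgroup G) : Set G) := fun y hyA hyR => by
      have hle : A ⊔ R ≤ Subgroup.centralizer ({y} : Set G) := sup_le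
        (fun a ha => Subgroup.mem_centralizer_singleton_iff.2 (hyA a ha))
        (fun r hr => Subgroup.mem_centralizer_singleton_iff.2 (hyR r hr))
      exact Subgroup.mem_centralizer_iff.2 fun v hv => Subgroup.mem_centralizer_singleton_iff.1 (hle hv)
    have hzY := hmemY z hAz (fun r hr => h.central r (hRQ hr))
    rcases Grp.ExtraCentSimple.mem_or_mul_mem_oddCore
      (w := (⟨z, hzY⟩ : ↥(Subgroup.centralizer ((A ⊔ R : Subgroup G) : Set G))))
      (by rw [Subgroup.orderOf_mk, hz]) (fun y => Subtype.ext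
        (Subgroup.mem_centralizer_iff.1 y.2 z (Subgroup.mem_sup_right hzR)).symm) h4
      ⟨c, hmemY c hcA hcR⟩ with e | e
    · exact Or.inl (hO ⟨_, e, rfl⟩)
    · exact Or.inr (hO ⟨_, e, rfl⟩)
  refine ⟨le_antisymm (sup_le (fun m hm => ?_) le_sup_left) (sup_le le_sup_right fun x hx => ?_), ?_, ?_⟩
  · have hm2 := Subgroup.mem_centralizer_iff.1 hm.2
    rcases hY m (fun a ha => hm2 a (Subgroup.mem_sup_right ha)) (fun r hr => hm2 r (Subgroup.mem_sup_left hr))
      with e | e
    · exact Subgroup.mem_sup_left e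
    · have : m = (m * z) * z⁻¹ := (mul_inv_cancel_right m z).symm
      rw [this]
      exact mul_mem (Subgroup.mem_sup_left e) (Subgroup.mem_sup_right
        ((hZ _).2 (Or.inr (inv_eq_of_mul_eq_one_right h.zz))))
  · refine Subgroup.mem_sup_left (Subgroup.mem_inf.2 ⟨?_, Subgroup.mem_centralizer_iff.2 fun v hv => ?_⟩)
    · rcases (hZ x).1 hx with rfl | rfl
      exacts [one_mem _, hRM hzR]
    · rcases (hZ x).1 hx with rfl | rfl
      · rw [mul_one, one_mul]
      · have hle : R ⊔ A ≤ Subgroup.centralizer ({x} : Set G) :=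
          sup_le (fun r hr => Subgroup.mem_centralizer_singleton_iff.2 (h.central r (hRQ hr)))
            (fun a ha => Subgroup.mem_centralizer_singleton_iff.2 (hAz a ha))
        exact Subgroup.mem_centralizer_singleton_iff.1 (hle hv)
  · have hzA : ∀ x ∈ R, x ∈ A → x = 1 := fun x hx hxA => by
      obtain ⟨m, hm⟩ := hQ.1.1 ⟨x, hRQ hx⟩
      exact orderOf_eq_one_iff.1 (Nat.eq_one_of_dvd_coprimes
        (Nat.Coprime.pow_right m (hAodd.coprime_two_right)) (Subgroup.orderOf_dvd_natCard _ hxA)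
        (orderOf_dvd_of_pow_eq_one (congrArg Subtype.val hm)))
    have hcomm : ∀ (c a x : G), a ∈ A → x ∈ R → (c * a) * x * (c * a)⁻¹ = c * x * c⁻¹ := fun c a x ha hx => by
      calc (c * a) * x * (c * a)⁻¹ = c * (a * x) * a⁻¹ * c⁻¹ := by group
        _ = c * x * c⁻¹ := by rw [((hmemR x).1 hx).2 a ha]; group
    refine Grp.ExtraCentSimple.isLarge_image h hQ.1.1 _ hRQ hRM hzR ?_ ?_ ?_ (u := g * z * g⁻¹) hgR ?_ ?_ h'.zz ?_
    · exact fun e => h.ne (hzA z hzR e)
    · intro m hm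
      obtain ⟨c, hc, a, ha, hmc⟩ := hdec m m.2
      have hcR : ∀ r ∈ R, r * c = c * r := fun r hr => by
        refine (htwo r hr c hc ?_).symm
        have := hm ⟨r, hRM hr⟩ hr
        rw [Subgroup.mem_subgroupOf] at this
        simp only [Subgroup.coe_mul, Subgroup.coe_inv, hmc] at this
        rwa [hcomm c a r ha hr] at this
      rcases hY c hc hcR with e | e
      · left; rw [Subgroup.mem_subgroupOf, hmc]; exact mul_mem e ha
      · right
        rw [Subgroup.mem_subgroupOf]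
        show (m : G) * z ∈ A
        rw [hmc, mul_assoc, hAz a ha, ← mul_assoc]
        exact mul_mem e ha
    · intro m hm p hp
      obtain ⟨c, hc, a, ha, hmc⟩ := hdec m m.2
      rw [Subgroup.mem_subgroupOf] at hm
      simp only [Subgroup.coe_mul, Subgroup.coe_inv, hmc] at hm
      rw [hcomm c a z ha hzR] at hm
      have hcz := htwo z hzR c hc hm
      simp only [Subgroup.coe_mul, Subgroup.coe_inv, hmc]
      rw [hcomm c a p ha hp]
      refine (hmemR _).2 ⟨h.norm c hcz p (hRQ hp), fun v hv => ?_⟩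
      exact (((show Commute v c from hc v hv).mul_right (show Commute v p from ((hmemR _).1 hp).2 v hv)).mul_right
        (show Commute v c from hc v hv).inv_right).eq
    · exact fun e => hb1 (hzA _ hgR e)
    · intro e
      have h1 := hzA _ (mul_mem hgR hzR) (Subgroup.mem_subgroupOf.1 e)
      exact hbne ((eq_inv_of_mul_eq_one_left h1).trans (inv_eq_of_mul_eq_one_right h.zz))
    · intro m hm
      obtain ⟨c, hc, a, ha, hmc⟩ := hdec m m.2
      rw [Subgroup.mem_subgroupOf] at hm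
      simp only [Subgroup.coe_mul, Subgroup.coe_inv, hmc] at hm
      rw [hcomm c a _ ha hgR] at hm
      obtain ⟨k, hk⟩ := hkey c (htwo _ hgR c hc hm)
      refine ⟨k, ?_⟩
      have e : z * (m : G) * z⁻¹ * (m : G)⁻¹ = z * c * z⁻¹ * c⁻¹ := by
        rw [hmc]
        calc z * (c * a) * z⁻¹ * (c * a)⁻¹ = z * c * (a * z⁻¹) * a⁻¹ * c⁻¹ := by group
          _ = z * c * z⁻¹ * c⁻¹ := by rw [(show Commute a z from hAz a ha).inv_right.eq]; group
      rw [e, hk]
  · obtain ⟨q, hq, hqA, hqb⟩ : ∃ q ∈ Q, (∀ a ∈ A, a * q = q * a) ∧ ¬ q * (g * z * g⁻¹) = g * z * g⁻¹ * q := by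
      by_contra hne
      push Not at hne
      exact (Grp.ExtraCentSimple.fixed_center h hQ.1.1 A hAodd hAz hbQ hbA hne).elim hb1 hbne
    obtain ⟨r, hr, hrA, hrz⟩ : ∃ r ∈ Q.map (MulAut.conj g).toMonoidHom,
        (∀ a ∈ A, a * r = r * a) ∧ ¬ r * z = z * r := by
      by_contra hne
      push Not at hne
      exact (Grp.ExtraCentSimple.fixed_center h' (hQ.1.1.map _) A hAodd hbA hzQ' hAz hne).elim h.ne hbne.symm
    exact ⟨r⁻¹ * q, mul_mem (Subgroup.mem_sup_right (Subgroup.mem_inf.2 ⟨inv_mem hr,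
      Subgroup.inv_mem _ (Subgroup.mem_centralizer_iff.2 hrA)⟩))
        (Subgroup.mem_sup_left ((hmemR q).2 ⟨hq, hqA⟩)),
      Grp.ExtraCentSimple.conj_pair h h' hbQ hzQ' hq hqb hr hrz⟩

end Cfsg.Agent.S5428
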