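import Cfsg.Statements.S5429
import Cfsg.Agent.Lib.Grp.LargeExtraImage
-- import your own Cfsg.Agent.* helpers here

set_option autoImplicit false
open Cfsg Cfsg.Agent

namespace Cfsg.Agent.S5429

/-- Let z be an involution of the finite group G with centralizer C whose generalized Fitting subgroup Q is extraspecial of width at least 3 (order 2^(2w+1), w ≥ 3); let g be an element of G with g z g⁻¹ in Q but outside the centre Z of Q, and t an involution lying in both Q and g Q g⁻¹ that is not conjugate to z; write P for the centralizer of t in Q and suppose that the elements of C acting trivially by conjugation on P modulo the subgroup generated by t and z are exactly the elements of Q. Then the image of P in the centralizer of t modulo the subgroup generated by t is a large extraspecial 2-subgroup there, and g z g⁻¹ is conjugate to z inside the subgroup generated by P and the centralizer of t in g Q g⁻¹. -/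
theorem result {G : Type*} [Group G] [Finite G] (z : G) (hz : orderOf z = 2) (Q : Subgroup G) (hQC : Q ≤ Subgroup.centralizer ({z} : Set G)) (hF : (Cfsg.generalizedFittingSubgroup ↥(Subgroup.centralizer ({z} : Set G))).map (Subgroup.centralizer ({z} : Set G)).subtype = Q) (hQ : Cfsg.IsExtraspecial 2 ↥Q) (w : ℕ) (hw : 3 ≤ w) (hcard : Nat.card ↥Q = 2 ^ (2 * w + 1)) (g : G) (hgQ : g * z * g⁻¹ ∈ Q) (hgZ : g * z * g⁻¹ ∉ ((Subgroup.center ↥Q).map Q.subtype)) (t : G) (ht : orderOf t = 2) (htQ : t ∈ Q ⊓ (Q).map (MulAut.conj g).toMonoidHom) (htz : ¬ IsConj z t) (P : Subgroup G) (hP : P = Q ⊓ Subgroup.centralizer ({t} : Set G)) (hCP : ∀ c ∈ Subgroup.centralizer ({z} : Set G), (∀ x ∈ P, ∃ y ∈ Subgroup.closure ({t, z} : Set G), c * x * c⁻¹ = x * y) ↔ c ∈ Q) [hn : ((Subgroup.zpowers t).subgroupOf (Subgroup.centralizer ({t} : Set G))).Normal] : Cfsg.IsLargeExtraspecial ((P.subgroupOf (Subgroup.centralizer ({t} : Set G))).map (QuotientGroup.mk' ((Subgroup.zpowers t).subgroupOf (Subgroup.centralizer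 ({t} : Set G))))) ∧ ∃ x ∈ P ⊔ ((Q).map (MulAut.conj g).toMonoidHom ⊓ Subgroup.centralizer ({t} : Set G)), x * (g * z * g⁻¹) * x⁻¹ = z := by
  classical
  have hE : Cfsg.IsExtraspecial 2 ↥(Cfsg.generalizedFittingSubgroup ↥(Subgroup.centralizer ({z} : Set G))) :=
    Grp.ExtraCentSimple.isExtraspecial_equiv (((Cfsg.generalizedFittingSubgroup _).equivMapOfInjective
      (Subgroup.centralizer ({z} : Set G)).subtype Subtype.val_injective).trans
        (MulEquiv.subgroupCongr hF)).symm hQ
  have h : Spor.ExtraPair.Ext z Q := Fus.ext_gfit hz hE hF.symm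
  have hbne : g * z * g⁻¹ ≠ z := fun e => hgZ (e.symm ▸
    ⟨⟨z, h.mem⟩, Subgroup.mem_center_iff.2 fun q => Subtype.ext (h.central q q.2), rfl⟩)
  have hb1 : g * z * g⁻¹ ≠ 1 := fun e => h.ne (conj_eq_one_iff.1 e)
  obtain ⟨hzQ', hkey⟩ := Grp.ExtraCentSimple.key_of_conj h hQ.1.1 (by
    rw [hcard]
    calc 8 = 2 ^ 3 := rfl
      _ < 2 ^ (2 * w + 1) := Nat.pow_lt_pow_right (by norm_num) (by omega)) hgQ hbne
  have h' := h.map_conj g
  have htQ : t ∈ Q := htQ.1
  have htQ' : t ∈ Q.map (MulAut.conj g).toMonoidHom := (‹t ∈ Q ⊓ _›).2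
  have htt : t * t = 1 := by rw [← pow_two, ← ht, pow_orderOf_eq_one]
  have ht1 : t ≠ 1 := fun e => by rw [e, orderOf_one] at ht; omega
  have htzne : t ≠ z := fun e => htz (e ▸ IsConj.refl t)
  have htb : t * (g * z * g⁻¹) = g * z * g⁻¹ * t := h'.central t htQ'
  have htzc : t * z = z * t := h.central t htQ
  have htb' : t ≠ g * z * g⁻¹ := fun e => htz (isConj_iff.2 ⟨g, e.symm⟩)
  have hzt : ¬ IsConj z (t * z) := fun e => by
    obtain ⟨q, hq, hqt⟩ : ∃ q ∈ Q, ¬ q * t = t * q := by
      by_contra hne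
      push Not at hne
      exact (h.cen t htQ hne).elim ht1 htzne
    exact htz (e.trans (isConj_iff.2 ⟨q, ((h.conj_cases htQ hq).resolve_left hqt).2⟩).symm)
  have htbz : ¬ IsConj z (t * (g * z * g⁻¹)) := fun e => by
    obtain ⟨q, hq, hqt⟩ : ∃ q ∈ Q.map (MulAut.conj g).toMonoidHom, ¬ q * t = t * q := by
      by_contra hne
      push Not at hne
      exact (h'.cen t htQ' hne).elim ht1 htb'
    exact htz (e.trans (isConj_iff.2 ⟨q, ((h'.conj_cases htQ' hq).resolve_left hqt).2⟩).symm)
  have hmemP : ∀ x, x ∈ P ↔ x ∈ Q ∧ x * t = t * x := fun x => by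
    rw [hP, Subgroup.mem_inf, Subgroup.mem_centralizer_singleton_iff]
  have four : ∀ (a c x : G), a * a = 1 → c * c = 1 → a * c = c * a →
      x ∈ Subgroup.closure (insert a (({c} : Finset G) : Set G)) → x = 1 ∨ x = a ∨ x = c ∨ x = c * a := by
    intro a c x ha hc hac hx
    let F : Subgroup G :=
      { carrier := {1, a, c, c * a}
        one_mem' := Or.inl rfl
        mul_mem' := by
          have e1 : a * (c * a) = c := by rw [← mul_assoc, hac, mul_assoc, ha, mul_one]
          have e2 : c * a * c = a := by rw [mul_assoc, hac, ← mul_assoc, hc, one_mul]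
          have e3 : c * a * a = c := by rw [mul_assoc, ha, mul_one]
          have e4 : c * a * (c * a) = 1 := by rw [← mul_assoc, e2, ha]
          have e5 : c * (c * a) = a := by rw [← mul_assoc, hc, one_mul]
          rintro x y (rfl | rfl | rfl | rfl) (rfl | rfl | rfl | rfl) <;>
            simp [ha, hc, hac, e1, e2, e3, e4, e5]
        inv_mem' := by
          rintro x (rfl | rfl | rfl | rfl) <;>
            simp [inv_eq_of_mul_eq_one_right ha, inv_eq_of_mul_eq_one_right hc, hac] }
    exact (Subgroup.closure_le F).2 (by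
      intro y hy
      simp only [Finset.coe_singleton, Set.mem_insert_iff, Set.mem_singleton_iff] at hy
      rcases hy with rfl | rfl
      · exact Or.inr (Or.inl rfl)
      · exact Or.inr (Or.inr (Or.inl rfl))) hx
  obtain ⟨q, hq, hqt, hqb⟩ : ∃ q ∈ Q, q * t = t * q ∧ ¬ q * (g * z * g⁻¹) = g * z * g⁻¹ * q := by
    by_contra hne
    push Not at hne
    rcases four z t _ h.zz htt htzc.symm (h.double_centralizer {t} (by simp [htQ]) _ hgQ
      (fun y hy hys => hne y hy (hys t (Finset.mem_singleton_self t)))) with e | e | e | e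
    · exact hb1 e
    · exact hbne e
    · exact htb' e.symm
    · exact hzt (e ▸ isConj_iff.2 ⟨g, rfl⟩)
  obtain ⟨r, hr, hrt, hrz⟩ : ∃ r ∈ Q.map (MulAut.conj g).toMonoidHom, r * t = t * r ∧ ¬ r * z = z * r := by
    by_contra hne
    push Not at hne
    rcases four _ t _ h'.zz htt htb.symm (h'.double_centralizer {t} (by
      intro s hs; rw [Finset.mem_singleton] at hs; exact hs ▸ htQ') _ hzQ'
      (fun y hy hys => hne y hy (hys t (Finset.mem_singleton_self t)))) with e | e | e | e
    · exact h.ne e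
    · exact hbne e.symm
    · exact htzne e.symm
    · exact htbz (e ▸ IsConj.refl z)
  refine ⟨?_, r⁻¹ * q, mul_mem (Subgroup.mem_sup_right (Subgroup.mem_inf.2 ⟨inv_mem hr,
      Subgroup.inv_mem _ (Subgroup.mem_centralizer_singleton_iff.2 hrt)⟩)) (Subgroup.mem_sup_left
      ((hmemP q).2 ⟨hq, hqt⟩)),
    Grp.ExtraCentSimple.conj_pair h h' hgQ hzQ' hq hqb hr hrz⟩
  have hPQ : P ≤ Q := fun x hx => ((hmemP x).1 hx).1
  have hPD : P ≤ Subgroup.centralizer ({t} : Set G) := fun x hx =>
    Subgroup.mem_centralizer_singleton_iff.2 ((hmemP x).1 hx).2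
  have hzP : z ∈ P := (hmemP z).2 ⟨h.mem, htzc.symm⟩
  have hN : ∀ d : ↥(Subgroup.centralizer ({t} : Set G)),
      d ∈ (Subgroup.zpowers t).subgroupOf (Subgroup.centralizer ({t} : Set G)) ↔ (d : G) = 1 ∨ (d : G) = t :=
    fun d => ⟨fun hd => Grp.ExtraCentSimple.mem_zpowers_cases htt hd, fun hd => by
      rcases hd with e | e
      · exact (Subgroup.mem_subgroupOf.2 (e ▸ one_mem _))
      · exact (Subgroup.mem_subgroupOf.2 (by rw [e]; exact Subgroup.mem_zpowers t))⟩
  refine Grp.ExtraCentSimple.isLarge_image h hQ.1.1 _ hPQ hPD hzP ?_ ?_ ?_ (u := g * z * g⁻¹)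
    ((hmemP _).2 ⟨hgQ, htb.symm⟩) ?_ ?_ h'.zz ?_
  · rw [hN]; rintro (e | e)
    · exact h.ne e
    · exact htzne e.symm
  · intro c hc
    have hcz : (c : G) * z = z * c := by
      rcases (hN _).1 (hc ⟨z, hPD hzP⟩ hzP) with e | e
      · exact mul_inv_eq_iff_eq_mul.1 (mul_inv_eq_one.1 e)
      · exact absurd (isConj_iff.2 ⟨(c : G), mul_inv_eq_iff_eq_mul.1 e⟩) hzt
    have hct : (c : G) * t = t * c := Subgroup.mem_centralizer_singleton_iff.1 c.2
    have hcQ : (c : G) ∈ Q := by
      refine (hCP c (Subgroup.mem_centralizer_singleton_iff.2 hcz)).1 fun x hx => ?_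
      rcases (hN _).1 (hc ⟨x, hPD hx⟩ hx) with e | e
      · exact ⟨1, one_mem _, by rw [mul_one]; exact mul_inv_eq_one.1 e⟩
      · refine ⟨t, Subgroup.subset_closure (Or.inl rfl), ?_⟩
        rw [((hmemP x).1 hx).2]
        exact mul_inv_eq_iff_eq_mul.1 e
    have hcen : ∀ y ∈ Q, (∀ s ∈ ({t} : Finset G), y * s = s * y) → y * (c : G) = c * y := fun y hy hys => by
      have hyP : y ∈ P := (hmemP y).2 ⟨hy, hys t (Finset.mem_singleton_self t)⟩
      rcases h.conj_cases hy hcQ with e | ⟨-, e⟩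
      · exact e.symm
      · exfalso
        rcases (hN _).1 (hc ⟨y, hPD hyP⟩ hyP) with e' | e'
        · apply h.ne
          have : (c : G) * y * (c : G)⁻¹ * y⁻¹ = 1 := e'
          rw [e, h.central y hy, mul_inv_cancel_right] at this
          exact this
        · apply htzne
          have : (c : G) * y * (c : G)⁻¹ * y⁻¹ = t := e'
          rw [e, h.central y hy, mul_inv_cancel_right] at this
          exact this.symm
    rcases four z t _ h.zz htt htzc.symm (h.double_centralizer {t} (by simp [htQ]) _ hcQ hcen) with e | e | e | e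
    · exact Or.inl ((hN _).2 (Or.inl e))
    · exact Or.inr ((hN _).2 (Or.inl (by show (c : G) * z = 1; rw [e, h.zz])))
    · exact Or.inl ((hN _).2 (Or.inr e))
    · exact Or.inr ((hN _).2 (Or.inr (by show (c : G) * z = t; rw [e, mul_assoc, h.zz, mul_one])))
  · intro c hc p hp
    have hcz : (c : G) * z = z * c := by
      rcases (hN _).1 hc with e | e
      · exact mul_inv_eq_iff_eq_mul.1 (mul_inv_eq_one.1 e)
      · exact absurd (isConj_iff.2 ⟨(c : G), mul_inv_eq_iff_eq_mul.1 e⟩) hzt
    exact (hmemP _).2 ⟨h.norm c hcz p (hPQ hp), Subgroup.mem_centralizer_singleton_iff.1 (c * p * c⁻¹).2⟩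
  · rw [hN]; rintro (e | e)
    · exact hb1 e
    · exact htb' e.symm
  · rw [hN]; rintro (e | e)
    · exact hbne ((eq_inv_of_mul_eq_one_left e).trans (inv_eq_of_mul_eq_one_right h.zz))
    · apply hzt
      refine isConj_iff.2 ⟨g, ?_⟩
      have e' : g * z * g⁻¹ * z = t := e
      rw [← e', mul_assoc (g * z * g⁻¹), h.zz, mul_one]
  · intro c hc
    refine hkey c ?_
    rcases (hN _).1 hc with e | e
    · exact mul_inv_eq_iff_eq_mul.1 (mul_inv_eq_one.1 e)
    · have e1 : (c : G) * (g * z * g⁻¹) * (c : G)⁻¹ = t * (g * z * g⁻¹) := mul_inv_eq_iff_eq_mul.1 e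
      refine absurd ((isConj_iff.2 ⟨g, rfl⟩).trans (isConj_iff.2 ⟨(c : G), e1⟩)) htbz

end Cfsg.Agent.S5429
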