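import Cfsg.Statements.S5433
import Cfsg.Agent.Lib.Spor.LargeExtra

set_option autoImplicit false
open Cfsg

namespace Cfsg.Agent.S5433

/-- Let Q be a large extraspecial 2-subgroup of the finite group G (extraspecial; centralizer equal to its centre; normal in the centralizer of its centre; normalizing no non-trivial subgroup of odd order), and L a normal subgroup of G containing Q. Then G is the product of L and the normalizer of Q. -/
theorem result {G : Type*} [Group G] [Finite G] (Q : Subgroup G) (hQ : Cfsg.IsLargeExtraspecial Q) (L : Subgroup G) [L.Normal] (hQL : Q ≤ L) : L ⊔ Subgroup.normalizer (Q : Set G) = ⊤ := by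
  open Cfsg.Agent.Spor.LargeExtra in
  obtain ⟨hL1, hL2, hL3, -⟩ := hQ
  haveI : Fact (Nat.Prime 2) := ⟨Nat.prime_two⟩
  obtain ⟨T, hT⟩ := (hL1.1.1.comap_of_injective L.subtype L.subtype_injective).exists_le_sylow
  have hF := Sylow.normalizer_sup_eq_top T
  set T' : Subgroup G := (T : Subgroup L).map L.subtype
  have hQT : Q ≤ T' := fun q hq => ⟨⟨q, hQL hq⟩, hT hq, rfl⟩
  have hne : Q ≠ ⊥ := fun h => by
    have h2 := hL1.2
    have hs : Subsingleton Q := by rw [h]; infer_instance
    simp at h2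
  have : Nontrivial T := by
    obtain ⟨q, hq, hq1⟩ := Q.bot_or_exists_ne_one.resolve_left hne
    exact nontrivial_of_ne (⟨⟨q, hQL hq⟩, hT hq⟩ : T) 1 fun e =>
      hq1 (congrArg (fun t : T => ((t : L) : G)) e)
  have hZ := T.2.center_nontrivial
  obtain ⟨c, hc1⟩ := exists_ne (1 : Subgroup.center T)
  have hcT : ((c : T) : G) ∈ Cfsg.Agent.Spor.LargeExtra.zsub Q := by
    show _ ∈ (Subgroup.center ↥Q).map Q.subtype
    rw [← hL2]
    refine Subgroup.mem_centralizer_iff.2 fun q hq => ?_
    exact congrArg (fun t : T => ((t : L) : G))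
      (Subgroup.mem_center_iff.1 c.2 (⟨⟨q, hQL hq⟩, hT hq⟩ : T))
  obtain ⟨z, hz, hz1, hzu, hz2⟩ := Cfsg.Agent.Spor.LargeExtra.exists_gen hL1
  have hcz : ((c : T) : G) = z := (hzu _ hcT).resolve_left fun e =>
    hc1 (Subtype.ext (Subtype.ext (Subtype.ext e)))
  rw [eq_top_iff, ← hF]
  refine sup_le (fun g hg => ?_) le_sup_left
  refine Subgroup.mem_sup_right (hL3 (Subgroup.mem_centralizer_iff.2 fun y hy => ?_))
  rcases hzu y hy with rfl | rfl
  · rw [one_mul, mul_one]
  have hgz : g * y * g⁻¹ ∈ Cfsg.Agent.Spor.LargeExtra.zsub Q := by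
    show _ ∈ (Subgroup.center ↥Q).map Q.subtype
    rw [← hL2]
    refine Subgroup.mem_centralizer_iff.2 fun q hq => ?_
    obtain ⟨t, ht, hte⟩ : g⁻¹ * q * g ∈ T' := by
      simpa using (Subgroup.mem_normalizer_iff.1 (Subgroup.inv_mem _ hg) q).1 (hQT hq)
    have h := congrArg (fun t : T => ((t : L) : G)) (Subgroup.mem_center_iff.1 c.2 ⟨t, ht⟩)
    simp only [Subgroup.coe_mul, hcz] at h
    simp only [Subgroup.coe_subtype] at hte
    rw [hte] at h
    calc q * (g * y * g⁻¹) = g * ((g⁻¹ * q * g) * y) * g⁻¹ := by group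
      _ = g * (y * (g⁻¹ * q * g)) * g⁻¹ := by rw [h]
      _ = _ := by group
  rcases hzu _ hgz with h | h
  · exact absurd (conj_eq_one_iff.1 h) hz1
  · nth_rewrite 1 [← h]; rw [inv_mul_cancel_right]

end Cfsg.Agent.S5433
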