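import Cfsg.Statements.S5434
import Cfsg.Agent.Lib.Spor.LargeExtra

set_option autoImplicit false
open Cfsg

namespace Cfsg.Agent.S5434

open scoped commutatorElement

/-- A subgroup of an extraspecial group which is not abelian and whose centre is central is extraspecial. -/
theorem extraspecial_sub {G : Type*} [Group G] [Finite G] {Q D : Subgroup G} (hQ : Cfsg.IsExtraspecial 2 ↥Q)
    (hD : D ≤ Q) (hna : ∃ x ∈ D, ∃ y ∈ D, x * y ≠ y * x)
    (hc : ∀ x ∈ D, (∀ y ∈ D, y * x = x * y) → x ∈ Cfsg.Agent.Spor.LargeExtra.zsub Q) :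
    Cfsg.IsExtraspecial 2 ↥D := by
  haveI : Fact (Nat.Prime 2) := ⟨Nat.prime_two⟩
  obtain ⟨z, hz, hz1, hzu, hz2⟩ := Cfsg.Agent.Spor.LargeExtra.exists_gen hQ
  obtain ⟨x, hx, y, hy, hxy⟩ := hna
  have hzxy : ⁅x, y⁆ = z :=
    (hzu _ (Cfsg.Agent.Spor.LargeExtra.commutator_mem_zsub hQ (hD hx) (hD hy))).resolve_left
      fun h => hxy (commutatorElement_eq_one_iff_mul_comm.1 h)
  have hzD : z ∈ D := hzxy ▸ by
    rw [commutatorElement_def]; exact mul_mem (mul_mem (mul_mem hx hy) (inv_mem hx)) (inv_mem hy)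
  have hzcen : (⟨z, hzD⟩ : D) ∈ Subgroup.center D := Subgroup.mem_center_iff.2 fun v =>
    Subtype.ext ((Cfsg.Agent.Spor.LargeExtra.mem_zsub.1 hz).2 v (hD v.2))
  have hcen : ∀ v : D, v ∈ Subgroup.center D → v = 1 ∨ v = ⟨z, hzD⟩ := fun v hv => by
    rcases hzu _ (hc v v.2 fun w hw => congrArg Subtype.val (Subgroup.mem_center_iff.1 hv ⟨w, hw⟩)) with h | h
    · exact Or.inl (Subtype.ext h)
    · exact Or.inr (Subtype.ext h)
  have hp : IsPGroup 2 D := hQ.1.1.to_le hD
  have hcomm : commutator D = Subgroup.center D := by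
    refine le_antisymm (Subgroup.commutator_le.2 fun a _ b _ => ?_) fun v hv => ?_
    · refine Subgroup.mem_center_iff.2 fun v => Subtype.ext ?_
      have h := Cfsg.Agent.Spor.LargeExtra.commutator_mem_zsub hQ (hD a.2) (hD b.2)
      rw [Subgroup.coe_mul, Subgroup.coe_mul,
        show ((⁅a, b⁆ : D) : G) = ⁅(a : G), (b : G)⁆ from map_commutatorElement D.subtype a b]
      exact (Cfsg.Agent.Spor.LargeExtra.mem_zsub.1 h).2 v (hD v.2)
    · rcases hcen v hv with rfl | rfl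
      · exact one_mem _
      · have e : (⟨z, hzD⟩ : D) = ⁅(⟨x, hx⟩ : D), ⟨y, hy⟩⁆ :=
          Subtype.ext (hzxy.symm.trans (map_commutatorElement D.subtype (⟨x, hx⟩ : D) ⟨y, hy⟩).symm)
        rw [e]; exact Subgroup.commutator_mem_commutator (Subgroup.mem_top _) (Subgroup.mem_top _)
  refine ⟨⟨hp, le_antisymm ?_ ?_, hcomm⟩, ?_⟩
  · haveI : (Subgroup.center D).Normal := inferInstance
    refine Cfsg.Agent.Grp.frattini_le_of_elementary Nat.prime_two hcomm.le (fun v => ?_)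
    obtain ⟨w, hw, hwe⟩ : ((v : G) ^ 2) ∈ Cfsg.Agent.Spor.LargeExtra.zsub Q :=
      ⟨_, (Cfsg.Agent.Fus.extraspecial_two_facts hQ).1 ⟨v, hD v.2⟩, rfl⟩
    refine Subgroup.mem_center_iff.2 fun u => Subtype.ext ?_
    rw [Subgroup.coe_mul, Subgroup.coe_mul, Subgroup.coe_pow, ← hwe]
    exact congrArg Subtype.val (Subgroup.mem_center_iff.1 hw ⟨u, hD u.2⟩)
  · rw [← hcomm]; exact Cfsg.Agent.Grp.pGroup_commutator_le_frattini hp
  · refine (Nat.card_eq_two_iff' (1 : Subgroup.center D)).2 ⟨⟨_, hzcen⟩, fun h => hz1 ?_, fun v hv => ?_⟩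
    · exact congrArg (fun t : Subgroup.center D => ((t : D) : G)) h
    · exact Subtype.ext ((hcen v v.2).resolve_left fun h => hv (Subtype.ext h))

/-- Let Q be a large extraspecial 2-subgroup of the finite group G (extraspecial; centralizer equal to its centre; normal in the centralizer of its centre; normalizing no non-trivial subgroup of odd order), and A a non-trivial subgroup of odd order of the normalizer of Q. Then Q is the central product of the centralizer of A in Q and the commutator subgroup [Q, A] (they generate Q and commute elementwise), [Q, A] is extraspecial, and the centralizer of A in Q is either the centre of Q or extraspecial. -/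
theorem result {G : Type*} [Group G] [Finite G] (Q : Subgroup G) (hQ : Cfsg.IsLargeExtraspecial Q) (A : Subgroup G) (hA : A ≤ Subgroup.normalizer (Q : Set G)) (hAodd : Odd (Nat.card ↥A)) (hA1 : A ≠ ⊥) : (Q ⊓ Subgroup.centralizer (A : Set G)) ⊔ ⁅Q, A⁆ = Q ∧ (∀ x ∈ Q ⊓ Subgroup.centralizer (A : Set G), ∀ y ∈ ⁅Q, A⁆, x * y = y * x) ∧ Cfsg.IsExtraspecial 2 ↥⁅Q, A⁆ ∧ (Q ⊓ Subgroup.centralizer (A : Set G) = ((Subgroup.center ↥Q).map Q.subtype) ∨ Cfsg.IsExtraspecial 2 ↥(Q ⊓ Subgroup.centralizer (A : Set G))) := by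
  obtain ⟨hL1, hL2, hL3, -⟩ := hQ
  haveI : Fact (Nat.Prime 2) := ⟨Nat.prime_two⟩
  have hcop : (Nat.card A).Coprime (Nat.card Q) := (Cfsg.Agent.Spor.LargeExtra.coprime_odd hL1 hAodd).symm
  have hsolv : Group.IsSolvable A ∨ Group.IsSolvable Q := Or.inr (by
    haveI := hL1.1.1.isNilpotent
    infer_instance)
  obtain ⟨z, hz, hz1, hzu, hz2⟩ := Cfsg.Agent.Spor.LargeExtra.exists_gen hL1
  obtain ⟨hzQ, hzc⟩ := Cfsg.Agent.Spor.LargeExtra.mem_zsub.1 hz
  -- the centre is fixed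
  have hzA : ∀ a ∈ A, a * z = z * a := fun a ha => by
    have hn := Subgroup.mem_normalizer_iff.1 (hA ha)
    have h : a * z * a⁻¹ ∈ Cfsg.Agent.Spor.LargeExtra.zsub Q := by
      refine Cfsg.Agent.Spor.LargeExtra.mem_zsub.2 ⟨(hn z).1 hzQ, fun q hq => ?_⟩
      have hq' : a⁻¹ * q * a ∈ Q := by
        simpa using (Subgroup.mem_normalizer_iff.1 (Subgroup.inv_mem _ (hA ha)) q).1 hq
      calc q * (a * z * a⁻¹) = a * ((a⁻¹ * q * a) * z) * a⁻¹ := by group
        _ = a * (z * (a⁻¹ * q * a)) * a⁻¹ := by rw [hzc _ hq']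
        _ = _ := by group
    rcases hzu _ h with h | h
    · exact absurd (conj_eq_one_iff.1 h) hz1
    · nth_rewrite 2 [← h]; rw [inv_mul_cancel_right]
  set D := ⁅Q, A⁆ with hD
  set C := Q ⊓ Subgroup.centralizer (A : Set G) with hC
  have hDQ : D ≤ Q := Cfsg.Agent.Grp.commutator_le_left_of_le_normalizer hA
  have hdec := Cfsg.Agent.Grp.commutator_sup_fixed A Q hA hcop hsolv
  -- the two factors commute
  have hcomm : ∀ x ∈ C, ∀ y ∈ D, x * y = y * x := by
    intro x hx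
    suffices h : D ≤ Subgroup.centralizer ({x} : Set G) from
      fun y hy => (Subgroup.mem_centralizer_singleton_iff.1 (h hy)).symm
    refine Subgroup.commutator_le.2 fun q hq a ha => Subgroup.mem_centralizer_singleton_iff.2 ?_
    have hxa : a * x = x * a := Subgroup.mem_centralizer_iff.1 hx.2 a ha
    have hxq := Cfsg.Agent.Spor.LargeExtra.commutator_mem_zsub hL1 hx.1 hq
    obtain ⟨w, hw, hqw⟩ : ∃ w, (∀ t ∈ ({q, q⁻¹, a, a⁻¹} : Set G), t * w = w * t) ∧ x * q * x⁻¹ = w * q := by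
      refine ⟨⁅x, q⁆, ?_, by rw [commutatorElement_def]; group⟩
      have hwQ := (Cfsg.Agent.Spor.LargeExtra.mem_zsub.1 hxq).2
      rcases hzu _ hxq with h | h <;> rw [h] at hwQ ⊢
      · intro t _; rw [one_mul, mul_one]
      · rintro t (rfl | rfl | rfl | rfl)
        exacts [hwQ _ hq, hwQ _ (inv_mem hq), hzA _ ha, hzA _ (inv_mem ha)]
    have e : x * ⁅q, a⁆ * x⁻¹ = ⁅q, a⁆ := by
      calc x * ⁅q, a⁆ * x⁻¹ = (x * q * x⁻¹) * (x * a * x⁻¹) * (x * q * x⁻¹)⁻¹ * (x * a * x⁻¹)⁻¹ := by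
            simp only [commutatorElement_def]; group
        _ = (w * q) * a * (w * q)⁻¹ * a⁻¹ := by rw [hqw, ← hxa, mul_inv_cancel_right]
        _ = q * (w * a) * (q * w)⁻¹ * a⁻¹ := by
            rw [← hw q (by simp)]; group
        _ = q * (a * w) * (q * w)⁻¹ * a⁻¹ := by rw [hw a (by simp)]
        _ = _ := by simp only [commutatorElement_def]; group
    calc ⁅q, a⁆ * x = x * ⁅q, a⁆ * x⁻¹ * x := by rw [e]
      _ = x * ⁅q, a⁆ := by group
  have hcenD : ∀ x ∈ D, (∀ y ∈ D, y * x = x * y) → x ∈ Cfsg.Agent.Spor.LargeExtra.zsub Q := fun x hx h => by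
    refine Cfsg.Agent.Spor.LargeExtra.mem_zsub.2 ⟨hDQ hx, ?_⟩
    suffices Q ≤ Subgroup.centralizer ({x} : Set G) from
      fun q hq => Subgroup.mem_centralizer_singleton_iff.1 (this hq)
    rw [← hdec]
    exact sup_le (fun y hy => Subgroup.mem_centralizer_singleton_iff.2 (h y hy))
      fun y hy => Subgroup.mem_centralizer_singleton_iff.2 (hcomm y hy x hx)
  have hcenC : ∀ x ∈ C, (∀ y ∈ C, y * x = x * y) → x ∈ Cfsg.Agent.Spor.LargeExtra.zsub Q := fun x hx h => by
    refine Cfsg.Agent.Spor.LargeExtra.mem_zsub.2 ⟨hx.1, ?_⟩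
    suffices Q ≤ Subgroup.centralizer ({x} : Set G) from
      fun q hq => Subgroup.mem_centralizer_singleton_iff.1 (this hq)
    rw [← hdec]
    exact sup_le (fun y hy => Subgroup.mem_centralizer_singleton_iff.2 (hcomm x hx y hy).symm)
      fun y hy => Subgroup.mem_centralizer_singleton_iff.2 (h y hy)
  have hzC : Cfsg.Agent.Spor.LargeExtra.zsub Q ≤ C := fun x hx => by
    refine ⟨(Cfsg.Agent.Spor.LargeExtra.mem_zsub.1 hx).1, Subgroup.mem_centralizer_iff.2 fun a ha => ?_⟩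
    rcases hzu x hx with rfl | rfl
    · rw [one_mul, mul_one]
    · exact hzA a ha
  refine ⟨by rw [sup_comm]; exact hdec, hcomm, ?_, ?_⟩
  · refine extraspecial_sub hL1 hDQ ?_ hcenD
    by_contra hcon
    simp only [not_exists, not_and, not_not] at hcon
    have hDZ : D ≤ Cfsg.Agent.Spor.LargeExtra.zsub Q := fun x hx => hcenD x hx fun y hy => hcon y hy x hx
    have hcz : ⁅Cfsg.Agent.Spor.LargeExtra.zsub Q, A⁆ = ⊥ := by
      rw [Subgroup.commutator_eq_bot_iff_le_centralizer]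
      intro x hx
      exact (hzC hx).2
    have hAc : A ≤ Subgroup.centralizer (Q : Set G) :=
      Cfsg.Agent.Grp.le_centralizer_of_series A Q _ hA hcop hsolv hDZ hcz
    rw [hL2] at hAc
    refine hA1 (le_bot_iff.1 fun a ha => ?_)
    have h2 : a ∈ A ⊓ Q := ⟨ha, Cfsg.Agent.Spor.LargeExtra.zsub_le (hAc ha)⟩
    rwa [Subgroup.inf_eq_bot_of_coprime hcop] at h2
  · by_cases h : ∃ x ∈ C, ∃ y ∈ C, x * y ≠ y * x
    · exact Or.inr (extraspecial_sub hL1 inf_le_left h hcenC)
    · simp only [not_exists, not_and, not_not] at h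
      exact Or.inl (le_antisymm (fun x hx => hcenC x hx fun y hy => h y hy x hx) hzC)

end Cfsg.Agent.S5434
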