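import Cfsg.Statements.S5435
import Cfsg.Agent.Lib.Spor.CentFrattiniD8Main
open scoped commutatorElement

set_option autoImplicit false
open Cfsg

namespace Cfsg.Agent.S5435

/-- Let L be a finite non-abelian simple group with an involution z whose centralizer R is a Sylow 2-subgroup of L whose Frattini subgroup is the subgroup generated by z. Then R is dihedral of order 8. -/
theorem result {L : Type*} [Group L] [Finite L] [IsSimpleGroup L] (hL : ¬ IsMulCommutative L) (z : L) (hz : orderOf z = 2) (R : Sylow 2 L) (hR : (R : Subgroup L) = Subgroup.centralizer ({z} : Set L)) (hΦ : (frattini ↥(R : Subgroup L)).map (R : Subgroup L).subtype = Subgroup.zpowers z) : Nonempty (↥(R : Subgroup L) ≃* DihedralGroup 4) := by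
  haveI : Fact (Nat.Prime 2) := ⟨Nat.prime_two⟩
  have hp : IsPGroup 2 ↥(R : Subgroup L) := R.2
  have hzz : z * z = 1 := by rw [← pow_two, ← hz, pow_orderOf_eq_one]
  have hmem : ∀ x, x ∈ (R : Subgroup L) ↔ x * z = z * x := fun x => by
    rw [hR]; exact Subgroup.mem_centralizer_singleton_iff
  have hval : ∀ w : ↥(R : Subgroup L), w ∈ frattini ↥(R : Subgroup L) → (w : L) = 1 ∨ (w : L) = z := fun w hw => by
    have h1 : (w : L) ∈ Subgroup.zpowers z := hΦ ▸ Subgroup.mem_map_of_mem _ hw
    obtain ⟨n, hn⟩ := Subgroup.mem_zpowers_iff.mp h1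
    rw [← hn, ← zpow_mod_orderOf z n, hz]
    rcases Int.emod_two_eq_zero_or_one n with e | e <;> simp [e]
  have hsq : ∀ x ∈ (R : Subgroup L), x * x = 1 ∨ x * x = z := fun x hx => by
    simpa [pow_two] using hval _ (Cfsg.Agent.Grp.pGroup_pow_mem_frattini hp ⟨x, hx⟩)
  have hcomm : ∀ x ∈ (R : Subgroup L), ∀ y ∈ (R : Subgroup L), x * y = y * x ∨ x * y = z * (y * x) :=
    fun x hx y hy => by
      rcases hval ⁅(⟨x, hx⟩ : ↥(R : Subgroup L)), ⟨y, hy⟩⁆ (Cfsg.Agent.Grp.pGroup_commutator_le_frattini hp
        (Subgroup.commutator_mem_commutator (Subgroup.mem_top _) (Subgroup.mem_top _))) with e | e <;>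
      simp only [commutatorElement_def, Subgroup.coe_mul, Subgroup.coe_inv] at e
      · left
        calc x * y = x * y * x⁻¹ * y⁻¹ * (y * x) := by group
          _ = y * x := by rw [e, one_mul]
      · right
        calc x * y = x * y * x⁻¹ * y⁻¹ * (y * x) := by group
          _ = z * (y * x) := by rw [e]
  have hne : z ≠ 1 := fun e => by rw [e, orderOf_one] at hz; norm_num at hz
  have hfour : ∃ r ∈ (R : Subgroup L), r * r = z := by
    by_contra hcon
    push Not at hcon
    have h1 : ∀ x ∈ (R : Subgroup L), x * x = 1 := fun x hx => (hsq x hx).resolve_right (hcon x hx)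
    have hbot : frattini ↥(R : Subgroup L) ≤ ⊥ := Cfsg.Agent.Grp.frattini_le_of_elementary Nat.prime_two
      (Subgroup.commutator_le.2 fun a _ b _ => by
        rw [Subgroup.mem_bot, commutatorElement_eq_one_iff_mul_comm]
        refine Subtype.ext ?_
        have e1 := h1 _ a.2
        have e2 := h1 _ b.2
        calc (a : L) * b = ((a : L) * b)⁻¹ := (inv_eq_of_mul_eq_one_left (h1 _ (mul_mem a.2 b.2))).symm
          _ = (b : L) * a := by rw [mul_inv_rev, inv_eq_of_mul_eq_one_left e1, inv_eq_of_mul_eq_one_left e2])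
      (fun x => by rw [Subgroup.mem_bot]; exact Subtype.ext (by simpa [pow_two] using h1 _ x.2))
    have h2 : z ∈ ((⊥ : Subgroup ↥(R : Subgroup L)).map (R : Subgroup L).subtype) :=
      Subgroup.map_mono hbot (hΦ ▸ Subgroup.mem_zpowers z)
    rw [Subgroup.map_bot, Subgroup.mem_bot] at h2
    exact hne h2
  exact Cfsg.Agent.Spor.CentD8.dihedral ⟨hne, hzz, hmem, hsq, hcomm, hfour⟩ R rfl hL

end Cfsg.Agent.S5435
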