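import Cfsg.Statements.S5436
import Cfsg.Agent.Lib.Grp.ExtraCentSimple
-- import your own Cfsg.Agent.* helpers here

set_option autoImplicit false
open Cfsg Cfsg.Agent

namespace Cfsg.Agent.S5436

/-- Let z be an involution of the finite group G with centralizer H whose generalized Fitting subgroup Q is extraspecial of width at least 2 (order 2^(2w+1), w ≥ 2); suppose some conjugate of z other than z lies in Q, H/Q is a non-abelian simple group, H acts irreducibly by conjugation on Q modulo the subgroup generated by z (the only H-invariant subgroups of Q containing z are that subgroup and Q), and Q is not the subgroup generated by the conjugates of z lying in H. Then G is simple. -/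
theorem result {G : Type*} [Group G] [Finite G] (z : G) (hz : orderOf z = 2) (Q : Subgroup (Subgroup.centralizer ({z} : Set G))) [Q.Normal] (hF : Cfsg.generalizedFittingSubgroup ↥(Subgroup.centralizer ({z} : Set G)) = Q) (hQ : Cfsg.IsExtraspecial 2 ↥Q) (w : ℕ) (hw : 2 ≤ w) (hcard : Nat.card ↥Q = 2 ^ (2 * w + 1)) (hnwc : ∃ g : G, (∃ hq : g * z * g⁻¹ ∈ Subgroup.centralizer ({z} : Set G), (⟨g * z * g⁻¹, hq⟩ : Subgroup.centralizer ({z} : Set G)) ∈ Q) ∧ g * z * g⁻¹ ≠ z) (hsimp : IsSimpleGroup (↥(Subgroup.centralizer ({z} : Set G)) ⧸ Q)) (hna : ¬ IsMulCommutative (↥(Subgroup.centralizer ({z} : Set G)) ⧸ Q)) (hirr : ∀ W : Subgroup (Subgroup.centralizer ({z} : Set G)), W.Normal → W ≤ Q → (W = Q ∨ ∀ x ∈ W, (x : G) ∈ Subgroup.zpowers z)) (hwcl : Subgroup.closure {x : Subgroup.centralizer ({z} : Set G) | IsConj z (x : G)} ≠ Q) : IsSimpleGroup G := by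
  obtain ⟨C, hC⟩ : ∃ C, C = Subgroup.centralizer ({z} : Set G) := ⟨_, rfl⟩
  have h := Fus.ext_gfit hz (hF ▸ hQ) (Q := Q.map (Subgroup.centralizer ({z} : Set G)).subtype) (by rw [hF])
  have hc1 : Nat.card ↥(Q.map (Subgroup.centralizer ({z} : Set G)).subtype) = Nat.card ↥Q :=
    Subgroup.card_map_of_injective Subtype.val_injective
  obtain ⟨g, ⟨hq, hgQ⟩, hgne⟩ := hnwc
  refine Grp.ExtraCentSimple.isSimpleGroup h (hQ.1.1.map _) ?_ ?_ ?_ ⟨_, hgQ, rfl⟩ hgne
  · rw [hc1, hcard]
    calc 8 = 2 ^ 3 := rfl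
      _ < 2 ^ (2 * w + 1) := Nat.pow_lt_pow_right (by norm_num) (by omega)
  · intro W hW hn
    have hWC : W ≤ Subgroup.centralizer ({z} : Set G) := hW.trans (Subgroup.map_subtype_le _)
    rcases hirr (W.subgroupOf _) ⟨fun x hx c => (Subgroup.mem_normalizer_iff.1 (hn c.2) x).1 hx⟩
      (fun x hx => by
        obtain ⟨y, hy, e⟩ := hW hx
        exact Subtype.ext e ▸ hy) with e | e
    · left; rw [← e, Subgroup.map_subgroupOf_eq_of_le hWC]
    · exact Or.inr fun x hx => e ⟨x, hWC hx⟩ hx
  · intro W hQW hWC hn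
    haveI : (W.subgroupOf (Subgroup.centralizer ({z} : Set G))).Normal :=
      ⟨fun x hx c => (Subgroup.mem_normalizer_iff.1 (hn c.2) x).1 hx⟩
    have hle : Q ≤ W.subgroupOf (Subgroup.centralizer ({z} : Set G)) := fun q hq' => hQW ⟨q, hq', rfl⟩
    have hk : ((W.subgroupOf (Subgroup.centralizer ({z} : Set G))).map (QuotientGroup.mk' Q)).Normal :=
      Subgroup.Normal.map inferInstance _ (QuotientGroup.mk'_surjective Q)
    rcases hsimp.eq_bot_or_eq_top_of_normal _ hk with e | e
    · left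
      rw [Subgroup.map_eq_bot_iff, QuotientGroup.ker_mk'] at e
      rw [← le_antisymm e hle, Subgroup.map_subgroupOf_eq_of_le hWC]
    · right
      rw [← Subgroup.subgroupOf_eq_top.trans ⟨fun h' => le_antisymm hWC h', fun h' => h'.ge⟩]
      have := congrArg (Subgroup.comap (QuotientGroup.mk' Q)) e
      rw [Subgroup.comap_map_eq, QuotientGroup.ker_mk', sup_eq_left.2 hle, Subgroup.comap_top] at this
      exact this

end Cfsg.Agent.S5436
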