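import Cfsg.Statements.S5437
import Mathlib
-- import your own Cfsg.Agent.* helpers here

set_option autoImplicit false
open Cfsg

namespace Cfsg.Agent.S5437

/-- Let I be a set of involutions of the finite group G closed under conjugation, and H a subgroup of G. The following are equivalent: (1) for every member x of I lying in H, the conjugates of x lying in H form a single H-class and the centralizer of x lies in H; (2) for every g outside H, no member of I lies in both H and g H g⁻¹; (3) every member of I lying in H fixes exactly one coset in the action of G on the cosets of H. -/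
theorem result {G : Type*} [Group G] [Finite G] (I : Set G) (hI : ∀ x ∈ I, orderOf x = 2) (hIc : ∀ g : G, ∀ x ∈ I, g * x * g⁻¹ ∈ I) (H : Subgroup G) : ((∀ x ∈ I, x ∈ H → (∀ g : G, g * x * g⁻¹ ∈ H → ∃ h ∈ H, h * x * h⁻¹ = g * x * g⁻¹) ∧ Subgroup.centralizer ({x} : Set G) ≤ H) ↔ (∀ g : G, g ∉ H → ∀ x ∈ I, ¬ (x ∈ H ∧ x ∈ (H : Subgroup G).map (MulAut.conj g).toMonoidHom))) ∧ ((∀ g : G, g ∉ H → ∀ x ∈ I, ¬ (x ∈ H ∧ x ∈ (H : Subgroup G).map (MulAut.conj g).toMonoidHom)) ↔ ∀ x ∈ I, x ∈ H → ∃! c : G ⧸ H, x • c = c) := by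
  have hm : ∀ g x : G, x ∈ H.map (MulAut.conj g).toMonoidHom ↔ g⁻¹ * x * g ∈ H := by
    intro g x
    constructor
    · rintro ⟨y, hy, rfl⟩
      simpa [mul_assoc] using hy
    · intro h
      exact ⟨_, h, by simp [mul_assoc]⟩
  refine ⟨⟨fun h g hg x hx ⟨hxH, hxg⟩ => ?_, fun h x hx hxH => ⟨fun g hg => ?_, fun g hg => ?_⟩⟩, ⟨fun h x hx hxH => ?_, fun h g hg x hx ⟨hxH, hxg⟩ => ?_⟩⟩
  · rw [hm] at hxg
    obtain ⟨h1, h2⟩ := h x hx hxH
    obtain ⟨k, hk, e⟩ := h1 g⁻¹ (by rwa [inv_inv])
    rw [inv_inv] at e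
    have hc : g * k ∈ Subgroup.centralizer ({x} : Set G) := by
      rw [Subgroup.mem_centralizer_singleton_iff]
      calc g * k * x = g * (k * x * k⁻¹) * k := by group
        _ = g * (g⁻¹ * x * g) * k := by rw [e]
        _ = x * (g * k) := by group
    have h4 := H.mul_mem (h2 hc) (H.inv_mem hk)
    rw [mul_inv_cancel_right] at h4
    exact hg h4
  · by_cases hgH : g ∈ H
    · exact ⟨g, hgH, rfl⟩
    · exact absurd ⟨hg, (hm _ _).mpr (by simpa [mul_assoc] using hxH)⟩ (h g hgH _ (hIc g x hx))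
  · by_contra hgH
    have e := Subgroup.mem_centralizer_singleton_iff.mp hg
    refine h g hgH x hx ⟨hxH, (hm _ _).mpr ?_⟩
    rwa [mul_assoc, ← e, inv_mul_cancel_left]
  · refine ⟨((1 : G) : G ⧸ H), ?_, fun c hc => ?_⟩
    · show ((x * 1 : G) : G ⧸ H) = _
      rw [QuotientGroup.eq]; simpa using hxH
    · induction c using QuotientGroup.induction_on with
      | H g =>
        rw [QuotientGroup.eq]
        by_contra hn
        have hg : g ∉ H := fun hh => hn (by simpa using hh)
        refine h g hg x hx ⟨hxH, (hm _ _).mpr ?_⟩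
        have hc' : ((x * g : G) : G ⧸ H) = (g : G) := hc
        rw [eq_comm, QuotientGroup.eq] at hc'
        rwa [mul_assoc]
  · rw [hm] at hxg
    obtain ⟨c, -, hu⟩ := h x hx hxH
    have e1 : ((g : G) : G ⧸ H) = c := hu _ (by
      show ((x * g : G) : G ⧸ H) = g
      rw [eq_comm, QuotientGroup.eq, ← mul_assoc]; exact hxg)
    have e2 : ((1 : G) : G ⧸ H) = c := hu _ (by
      show ((x * 1 : G) : G ⧸ H) = _
      rw [QuotientGroup.eq]; simpa using hxH)
    apply hg
    have e3 := e2.trans e1.symm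
    rw [QuotientGroup.eq] at e3
    simpa using e3

end Cfsg.Agent.S5437
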