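import Cfsg.Statements.S5438
import Mathlib
-- import your own Cfsg.Agent.* helpers here

set_option autoImplicit false
open Cfsg

namespace Cfsg.Agent.S5438

open scoped Pointwise

/-- Let z be a 2-central involution of the finite group G (an involution central in some Sylow 2-subgroup) and H a subgroup containing z such that the coset H is the only coset of H fixed by z (in the action of G on the cosets of H). Then H has odd index in G, and for every 2-element x of H the conjugates of x lying in H form a single H-class. -/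
theorem result {G : Type*} [Group G] [Finite G] (z : G) (hz : Cfsg.IsTwoCentralInvolution z) (H : Subgroup G) (hzH : z ∈ H) (hfix : ∀ g : G, g⁻¹ * z * g ∈ H → g ∈ H) : Odd H.index ∧ ∀ x ∈ H, (∃ k : ℕ, orderOf x = 2 ^ k) → ∀ g : G, g * x * g⁻¹ ∈ H → ∃ h ∈ H, h * x * h⁻¹ = g * x * g⁻¹ := by
  classical
  haveI : Fact (Nat.Prime 2) := ⟨Nat.prime_two⟩
  obtain ⟨hz2, P, hzP, hPz⟩ := hz
  have zi : z⁻¹ = z := inv_eq_of_mul_eq_one_right (by have h := pow_orderOf_eq_one z; rwa [hz2, pow_two] at h)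
  have hcen : ∀ g : G, Commute g z → g ∈ H := fun g hg => hfix g (by rwa [mul_assoc, ← hg.eq, inv_mul_cancel_left])
  have htwo : ∀ S : Subgroup G, IsPGroup 2 S → z ∈ S → S ≤ H := by
    intro S hS hzS
    by_contra hle
    set K : Subgroup S := H.subgroupOf S with hK
    have hKlt : K < ⊤ := lt_top_iff_ne_top.mpr fun e => hle (Subgroup.subgroupOf_eq_top.mp e)
    haveI : Group.IsNilpotent S := hS.isNilpotent
    obtain ⟨s, hs, hsK⟩ := SetLike.exists_of_lt (normalizerCondition_of_isNilpotent K hKlt)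
    have h := (Subgroup.mem_normalizer_iff''.mp hs (⟨z, hzS⟩ : S)).mp (show (⟨z, hzS⟩ : S) ∈ K from hzH)
    exact hsK (hfix _ h)
  have hPH : (P : Subgroup G) ≤ H := htwo _ P.isPGroup' hzP
  refine ⟨?_, ?_⟩
  · refine Nat.not_even_iff_odd.mp fun he => ?_
    have h1 : H.index ∣ (P : Subgroup G).index := Subgroup.index_dvd_of_le hPH
    exact P.not_dvd_index ((even_iff_two_dvd.mp he).trans h1)
  · rintro x hx ⟨k, hk⟩ g hg
    let PH : Sylow 2 H := P.subtype hPH
    have toP : ∀ w ∈ H, orderOf w = 2 ^ k → ∃ h ∈ H, h * w * h⁻¹ ∈ P := by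
      intro w hw ho
      have hcy : IsPGroup 2 (Subgroup.zpowers (⟨w, hw⟩ : H)) := IsPGroup.of_card (n := k) (by
        rw [Nat.card_zpowers, Subgroup.orderOf_mk, ho])
      obtain ⟨S, hS⟩ := hcy.exists_le_sylow
      obtain ⟨h, hh⟩ := MulAction.exists_smul_eq H S PH
      refine ⟨h, h.2, ?_⟩
      have := Subgroup.smul_mem_pointwise_smul _ (MulAut.conj h) (S : Subgroup H) (hS (Subgroup.mem_zpowers _))
      have e : MulAut.conj h • (S : Subgroup H) = (PH : Subgroup H) := by rw [← hh]; rfl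
      rw [e] at this
      exact this
    obtain ⟨h1, hh1, hx1⟩ := toP x hx hk
    obtain ⟨h2, hh2, hy1⟩ := toP _ hg (by rw [← hk]; exact orderOf_injective (MulAut.conj g).toMonoidHom (MulAut.conj g).injective x)
    set x1 := h1 * x * h1⁻¹ with hx1'
    set y1 := h2 * (g * x * g⁻¹) * h2⁻¹ with hy1'
    set g' := h2 * g * h1⁻¹ with hg'
    have hgx : g' * x1 * g'⁻¹ = y1 := by simp [hx1', hy1', hg', mul_assoc]
    let C := Subgroup.centralizer ({y1} : Set G)
    have hzC : z ∈ C := Subgroup.mem_centralizer_singleton_iff.mpr (hPz y1 hy1).symm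
    have hzC' : g' * z * g'⁻¹ ∈ C := Subgroup.mem_centralizer_singleton_iff.mpr (by
      have e : x1 * z = z * x1 := hPz x1 hx1
      calc g' * z * g'⁻¹ * y1 = g' * (z * x1) * g'⁻¹ := by rw [← hgx]; group
        _ = g' * (x1 * z) * g'⁻¹ := by rw [e]
        _ = y1 * (g' * z * g'⁻¹) := by rw [← hgx]; group)
    have inv2 : ∀ u : C, orderOf (u : G) = 2 → IsPGroup 2 (Subgroup.zpowers u) := fun u hu =>
      IsPGroup.of_card (n := 1) (by rw [Nat.card_zpowers, ← Subgroup.orderOf_coe, hu]; rfl)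
    obtain ⟨S, hS⟩ := (inv2 ⟨z, hzC⟩ hz2).exists_le_sylow
    obtain ⟨T, hT⟩ := (inv2 ⟨_, hzC'⟩ (by rw [← hz2]; exact orderOf_injective (MulAut.conj g').toMonoidHom (MulAut.conj g').injective z)).exists_le_sylow
    obtain ⟨v, hv⟩ := MulAction.exists_smul_eq C T S
    have hzS : (⟨z, hzC⟩ : C) ∈ S := hS (Subgroup.mem_zpowers _)
    have hz'S : v * ⟨_, hzC'⟩ * v⁻¹ ∈ (S : Subgroup C) := by
      have := Subgroup.smul_mem_pointwise_smul _ (MulAut.conj v) (T : Subgroup C) (hT (Subgroup.mem_zpowers (⟨_, hzC'⟩ : C)))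
      have e : MulAut.conj v • (T : Subgroup C) = (S : Subgroup C) := by rw [← hv]; rfl
      rw [e] at this
      exact this
    have hle := htwo _ (S.isPGroup'.map C.subtype) ⟨_, hzS, rfl⟩
    have hmem : ((v : G) * g') * z * ((v : G) * g')⁻¹ ∈ H := by
      have := hle ⟨_, hz'S, rfl⟩
      simpa [mul_assoc] using this
    have hvg : (v : G) * g' ∈ H := by
      have := hfix ((v : G) * g')⁻¹ (by rwa [inv_inv])
      simpa using H.inv_mem this
    refine ⟨h2⁻¹ * ((v : G) * g') * h1, H.mul_mem (H.mul_mem (H.inv_mem hh2) hvg) hh1, ?_⟩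
    have hvy : (v : G) * y1 * (v : G)⁻¹ = y1 := by
      rw [Subgroup.mem_centralizer_singleton_iff.mp v.2, mul_inv_cancel_right]
    calc _ = h2⁻¹ * ((v : G) * (g' * x1 * g'⁻¹) * (v : G)⁻¹) * h2 := by rw [hx1']; group
      _ = h2⁻¹ * y1 * h2 := by rw [hgx, hvy]
      _ = _ := by rw [hy1']; group

end Cfsg.Agent.S5438
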