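import Cfsg.Statements.S5439
import Mathlib
-- import your own Cfsg.Agent.* helpers here

set_option autoImplicit false
open Cfsg

namespace Cfsg.Agent.S5439

section
variable {G : Type*} [Group G]

theorem inv_of_two {a : G} (h : orderOf a = 2) : a⁻¹ = a :=
  inv_eq_of_mul_eq_one_right (by have h' := pow_orderOf_eq_one a; rwa [h, pow_two] at h')

theorem semiconj_pow {a b : G} (ha : a⁻¹ = a) (hb : b⁻¹ = b) (n : ℕ) :
    a * (a * b) ^ n = ((a * b) ^ n)⁻¹ * a ∧ b * (a * b) ^ n = ((a * b) ^ n)⁻¹ * b := by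
  have aa : a * a = 1 := mul_eq_one_iff_eq_inv.mpr ha.symm
  have bb : b * b = 1 := mul_eq_one_iff_eq_inv.mpr hb.symm
  have h1 : SemiconjBy a (a * b) (a * b)⁻¹ := by
    show a * (a * b) = (a * b)⁻¹ * a
    rw [mul_inv_rev, ha, hb, ← mul_assoc, aa, one_mul, mul_assoc, aa, mul_one]
  have h2 : SemiconjBy b (a * b) (a * b)⁻¹ := by
    show b * (a * b) = (a * b)⁻¹ * b
    rw [mul_inv_rev, ha, hb, mul_assoc]
  refine ⟨?_, ?_⟩
  · have h := h1.pow_right n; rw [inv_pow] at h; exact h
  · have h := h2.pow_right n; rw [inv_pow] at h; exact h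

/-- The central involution of a dihedral group of twice even order. -/
theorem central_involution [Finite G] {a b : G} (ha : orderOf a = 2) (hb : orderOf b = 2) {k : ℕ} (hk : orderOf (a * b) = 2 * k) :
    Commute a ((a * b) ^ k) ∧ Commute b ((a * b) ^ k) ∧ (a * b) ^ k ≠ 1 ∧
      (IsConj a (a * (a * b) ^ k) ∨ IsConj b (a * (a * b) ^ k)) := by
  have ia := inv_of_two ha
  have ib := inv_of_two hb
  have hz : ((a * b) ^ k)⁻¹ = (a * b) ^ k := inv_eq_of_mul_eq_one_right (by rw [← pow_add, ← two_mul, ← hk, pow_orderOf_eq_one])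
  refine ⟨?_, ?_, ?_, ?_⟩
  · have := (semiconj_pow ia ib k).1; rwa [hz] at this
  · have := (semiconj_pow ia ib k).2; rwa [hz] at this
  · intro e
    have hpos := orderOf_pos (a * b)
    have := Nat.le_of_dvd (by omega) (orderOf_dvd_of_pow_eq_one e)
    omega
  · obtain ⟨i, rfl | rfl⟩ := Nat.even_or_odd' k
    · left
      rw [isConj_iff]
      refine ⟨((a * b) ^ i)⁻¹, ?_⟩
      rw [inv_inv, ← (semiconj_pow ia ib i).1, two_mul, pow_add, mul_assoc]
    · right
      rw [isConj_iff]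
      refine ⟨((a * b) ^ i)⁻¹, ?_⟩
      have e : a * (a * b) = b := by rw [← mul_assoc, mul_eq_one_iff_eq_inv.mpr ia.symm, one_mul]
      rw [inv_inv, ← (semiconj_pow ia ib i).2, show 2 * i + 1 = 1 + (i + i) by omega, pow_add, pow_one, ← mul_assoc a, e, pow_add, mul_assoc]

/-- Two involutions with product of odd order are conjugate by a power of the product. -/
theorem odd_conj {a b : G} (ha : orderOf a = 2) (hb : orderOf b = 2) (h : Odd (orderOf (a * b))) :
    ∃ i : ℕ, ((a * b) ^ i)⁻¹ * a * (a * b) ^ i = b := by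
  obtain ⟨j, hj⟩ := h
  have ia := inv_of_two ha
  have ib := inv_of_two hb
  refine ⟨j + 1, ?_⟩
  rw [← (semiconj_pow ia ib (j + 1)).1, mul_assoc, ← pow_add, show j + 1 + (j + 1) = orderOf (a * b) + 1 by omega,
    pow_add, pow_orderOf_eq_one, one_mul, pow_one, ← mul_assoc, mul_eq_one_iff_eq_inv.mpr ia.symm, one_mul]

end

/-- Let I and J be two different conjugacy classes of involutions of the finite group G and H a subgroup such that every member of I ∪ J fixes exactly one coset in the action on the cosets of H, and such that for every a in I ∩ H and every b in (I ∪ J) ∩ H different from a and commuting with it, the centralizer of a b lies in H. Then H = G. -/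
theorem result {G : Type*} [Group G] [Finite G] (I J : Set G) (a₀ b₀ : G) (ha₀ : orderOf a₀ = 2) (hb₀ : orderOf b₀ = 2) (hI : I = {x | IsConj a₀ x}) (hJ : J = {x | IsConj b₀ x}) (hIJ : I ≠ J) (H : Subgroup G) (hfix : ∀ x ∈ I ∪ J, ∃! c : G ⧸ H, x • c = c) (hcent : ∀ a ∈ I, a ∈ H → ∀ b ∈ I ∪ J, b ∈ H → a ≠ b → a * b = b * a → Subgroup.centralizer ({a * b} : Set G) ≤ H) : H = ⊤ := by
  classical
  by_contra hH
  subst hI hJ
  have hmem : ∀ x g : G, (x • ((g : G) : G ⧸ H) = g) ↔ g⁻¹ * x * g ∈ H := by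
    intro x g
    show (((x * g : G) : G ⧸ H) = g) ↔ _
    rw [eq_comm, QuotientGroup.eq, mul_assoc]
  have huniq : ∀ x, IsConj a₀ x ∨ IsConj b₀ x → x ∈ H → ∀ g : G, g⁻¹ * x * g ∈ H → g ∈ H := by
    intro x hx hxH g hg
    obtain ⟨c, -, hu⟩ := hfix x hx
    have e := (hu _ ((hmem x 1).mpr (by simpa using hxH))).trans (hu _ ((hmem x g).mpr hg)).symm
    rw [QuotientGroup.eq] at e
    simpa using e
  have ha : ∃ a, IsConj a₀ a ∧ a ∈ H := by
    obtain ⟨c, hc, -⟩ := hfix a₀ (Or.inl (IsConj.refl a₀))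
    induction c using QuotientGroup.induction_on with
    | H g => exact ⟨g⁻¹ * a₀ * g, isConj_iff.mpr ⟨g⁻¹, by group⟩, (hmem _ _).mp hc⟩
  obtain ⟨a, haI, haH⟩ := ha
  obtain ⟨b, hbJ, hbH⟩ : ∃ b, IsConj b₀ b ∧ b ∉ H := by
    by_contra hall
    push Not at hall
    exact hH (eq_top_iff.mpr fun g _ => huniq b₀ (Or.inr (IsConj.refl b₀)) (hall b₀ (IsConj.refl b₀)) g
      (hall _ (isConj_iff.mpr ⟨g⁻¹, by group⟩)))
  have oa : orderOf a = 2 := by
    obtain ⟨g, rfl⟩ := isConj_iff.mp haI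
    exact (orderOf_injective (MulAut.conj g).toMonoidHom (MulAut.conj g).injective a₀).trans ha₀
  have ob : orderOf b = 2 := by
    obtain ⟨g, rfl⟩ := isConj_iff.mp hbJ
    exact (orderOf_injective (MulAut.conj g).toMonoidHom (MulAut.conj g).injective b₀).trans hb₀
  rcases Nat.even_or_odd' (orderOf (a * b)) with ⟨k, hk | hk⟩
  · obtain ⟨h1, h2, hne, hcj⟩ := central_involution oa ob hk
    set w := (a * b) ^ k with hw
    have hwH : w ∈ H := huniq a (Or.inl haI) haH w (by rwa [mul_assoc, h1.eq, inv_mul_cancel_left])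
    have hc : IsConj a₀ (a * w) ∨ IsConj b₀ (a * w) := hcj.imp haI.trans hbJ.trans
    have hle := hcent a haI haH (a * w) hc (H.mul_mem haH hwH) (fun e => hne (mul_eq_left.mp e.symm))
      ((Commute.refl a).mul_right h1).eq
    rw [← mul_assoc, mul_eq_one_iff_eq_inv.mpr (inv_of_two oa).symm, one_mul] at hle
    exact hbH (hle (Subgroup.mem_centralizer_singleton_iff.mpr h2.eq))
  · obtain ⟨i, hi⟩ := odd_conj oa ob ⟨k, hk⟩
    apply hIJ
    have hab : IsConj a b := isConj_iff.mpr ⟨((a * b) ^ i)⁻¹, by rw [inv_inv]; exact hi⟩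
    ext y
    exact ⟨fun h => hbJ.trans (hab.symm.trans (haI.symm.trans h)), fun h => haI.trans (hab.trans (hbJ.symm.trans h))⟩

end Cfsg.Agent.S5439
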