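import Cfsg.Statements.S5440
import Cfsg.Agent.Lib.Spor.LargeFischer.Classes

set_option autoImplicit false
open Cfsg Cfsg.Agent.Spor

namespace Cfsg.Agent.S5440

/-- Let G be a finite group of large Fischer type at the involution z: the generalized Fitting subgroup Q of H = C_G(z) is extraspecial of order 2^13, H has normal subgroups Q ≤ H₁ ≤ H₂ with H₁/Q of order 3, H₂/H₁ the projective special unitary group of dimension 4 over the field with nine elements and H₂ of index 2 in H, and some conjugate of z other than z lies in Q. Then H has exactly two orbits, under conjugation, on the involutions of Q other than z. -/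
theorem result {G : Type*} [Group G] [Finite G] (z : G) (Q : Subgroup (Subgroup.centralizer ({z} : Set G))) [Q.Normal] (hF : Cfsg.IsOfLargeFischerTypeAt z Q) : ∃ s t : Subgroup.centralizer ({z} : Set G), s ∈ Q ∧ t ∈ Q ∧ orderOf s = 2 ∧ orderOf t = 2 ∧ (s : G) ≠ z ∧ (t : G) ≠ z ∧ (¬ ∃ h : Subgroup.centralizer ({z} : Set G), h * s * h⁻¹ = t) ∧ ∀ x : Subgroup.centralizer ({z} : Set G), x ∈ Q → orderOf x = 2 → (x : G) ≠ z → (∃ h : Subgroup.centralizer ({z} : Set G), h * s * h⁻¹ = x) ∨ ∃ h : Subgroup.centralizer ({z} : Set G), h * t * h⁻¹ = x := by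
  obtain ⟨m⟩ := LargeFischer.exists_model hF
  obtain ⟨hl1, hl2⟩ := LargeFischer.rep_first m.k m.hk
  obtain ⟨s, hs⟩ := m.rep_surj (LargeFischer.rep m.k 1)
  obtain ⟨t, ht⟩ := m.rep_surj (LargeFischer.rep m.k 2)
  have ls : m.lab s = 1 := by rw [LargeFischer.Model.lab, hs, hl1]
  have lt : m.lab t = 2 := by rw [LargeFischer.Model.lab, ht, hl2]
  obtain ⟨s2, s1, sz⟩ := m.of_lab (Or.inl ls)
  obtain ⟨t2, t1, tz⟩ := m.of_lab (Or.inr lt)
  have ord : ∀ x : Q, x * x = 1 → LargeFischer.gv x ≠ 1 →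
      orderOf (x : Subgroup.centralizer ({z} : Set G)) = 2 := fun x hx h1 => by
    refine orderOf_eq_prime ?_ fun e => h1 (congrArg Subtype.val e)
    rw [pow_two]; exact congrArg Subtype.val hx
  refine ⟨s, t, s.2, t.2, ord s s2 s1, ord t t2 t1, sz, tz, ?_, fun x hx hx2 hxz => ?_⟩
  · rintro ⟨h, e⟩
    have := m.lab_conj h s
    rw [show LargeFischer.qconj h s = t from Subtype.ext e, ls, lt] at this
    omega
  · have x2 : (⟨x, hx⟩ : Q) * ⟨x, hx⟩ = 1 := Subtype.ext (by
      show x * x = 1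
      rw [← pow_two, ← hx2, pow_orderOf_eq_one])
    have x1 : LargeFischer.gv (⟨x, hx⟩ : Q) ≠ 1 := fun e => by
      rw [show x = 1 from Subtype.ext e, orderOf_one] at hx2
      omega
    rcases m.lab_invol x2 x1 hxz with h | h
    · exact Or.inl (m.conj_of_lab (Or.inl h) (ls.trans h.symm))
    · exact Or.inr (m.conj_of_lab (Or.inr h) (lt.trans h.symm))

end Cfsg.Agent.S5440
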