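import Cfsg.Statements.S5447
import Cfsg.Agent.Lib.Fus.LargeFischerNorm

set_option autoImplicit false
open Cfsg
open scoped Pointwise

namespace Cfsg.Agent.S5447

/-- Let G be a finite group of large Fischer type at the involution z: the generalized Fitting subgroup Q of H = C_G(z) is extraspecial of order 2^13, H has normal subgroups Q ≤ H₁ ≤ H₂ with H₁/Q of order 3, H₂/H₁ the projective special unitary group of dimension 4 over the field with nine elements and H₂ of index 2 in H, and some conjugate of z other than z lies in Q. Let T be a Sylow 2-subgroup of G, A its Thompson subgroup and M = N_G(A) its normalizer. Then M controls fusion in A (elements of A conjugate in G are conjugate in M), and M has exactly two orbits on the non-identity elements of A: those conjugate to z in G and those not. -/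
theorem result {G : Type*} [Group G] [Finite G] (z : G) (Q : Subgroup (Subgroup.centralizer ({z} : Set G))) [Q.Normal] (hF : Cfsg.IsOfLargeFischerTypeAt z Q) (T : Sylow 2 G) (A M : Subgroup G) (hA : A = Cfsg.thompsonSubgroupOf 2 (T : Subgroup G)) (hM : M = Subgroup.normalizer (A : Set G)) : (∀ a ∈ A, ∀ g : G, g * a * g⁻¹ ∈ A → ∃ m ∈ M, m * a * m⁻¹ = g * a * g⁻¹) ∧ (∃ a ∈ A, a ≠ 1 ∧ IsConj z a) ∧ (∃ a ∈ A, a ≠ 1 ∧ ¬ IsConj z a) ∧ ∀ a ∈ A, ∀ b ∈ A, a ≠ 1 → b ≠ 1 → (IsConj z a ↔ IsConj z b) → ∃ m ∈ M, m * a * m⁻¹ = b := by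
  obtain ⟨-, -, hfus, ⟨a₀, ha₀, hc₀⟩, val, χ, hP, hpairs, hsurj, -, hact⟩ :=
    Cfsg.Agent.Fus.LargeFischerNorm.exists_action z Q hF T A hA
  subst hM
  refine ⟨hfus, ⟨a₀, ha₀, fun e => ?_, hc₀⟩, ?_, fun a ha b hb ha1 hb1 hiff => ?_⟩
  · subst e
    obtain ⟨c, hc⟩ := _root_.isConj_iff.1 hc₀
    have hz : orderOf z = 2 := hF.1.1
    rw [conj_eq_one_iff.1 hc, orderOf_one] at hz
    omega
  · have h := (hpairs (val {none, some 0})).1 ⟨_, Finset.card_pair (by simp), rfl⟩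
    exact ⟨_, h⟩
  by_cases hza : IsConj z a
  · obtain ⟨c, hc⟩ := _root_.isConj_iff.1 hza
    obtain ⟨d, hd⟩ := _root_.isConj_iff.1 (hiff.1 hza)
    have e : d * c⁻¹ * a * (d * c⁻¹)⁻¹ = b := by rw [← hc, ← hd]; group
    obtain ⟨n, hn, hn'⟩ := hfus a ha (d * c⁻¹) (e.symm ▸ hb)
    exact ⟨n, hn, hn'.trans e⟩
  · obtain ⟨s, hs, rfl⟩ := (hpairs a).2 ⟨ha, ha1, hza⟩
    obtain ⟨t, ht, rfl⟩ := (hpairs b).2 ⟨hb, hb1, fun h => hza (hiff.2 h)⟩
    obtain ⟨σ, hσ, eσ⟩ := Cfsg.Agent.Spor.Golay.Census.exists_pair hs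
    obtain ⟨τ, hτ, eτ⟩ := Cfsg.Agent.Spor.Golay.Census.exists_pair ht
    obtain ⟨n, hn⟩ := hsurj (⟨τ, hτ⟩ * ⟨σ, hσ⟩⁻¹)
    refine ⟨n, n.2, ?_⟩
    rw [hact n s (by rw [hs]; exact even_two), hn]
    show val ((τ * σ⁻¹) • s) = val t
    rw [← eσ, ← eτ, mul_smul, inv_smul_smul]

end Cfsg.Agent.S5447
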