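import Cfsg.Statements.S5448
import Cfsg.Agent.Lib.Fus.LargeFischerNorm

set_option autoImplicit false
open scoped Pointwise
open Cfsg

namespace Cfsg.Agent.S5448

/-- Let G be a finite group of large Fischer type at the involution z: the generalized Fitting subgroup Q of H = C_G(z) is extraspecial of order 2^13, H has normal subgroups Q ≤ H₁ ≤ H₂ with H₁/Q of order 3, H₂/H₁ the projective special unitary group of dimension 4 over the field with nine elements and H₂ of index 2 in H, and some conjugate of z other than z lies in Q. Let T be a Sylow 2-subgroup of G, A its Thompson subgroup, M = N_G(A) its normalizer, and t an involution of A not conjugate to z in G. Then the centralizer of t in M, modulo A, is isomorphic to the setwise stabilizer of a two-element subset of the 24 points in the Mathieu group of degree 24 (the automorphism group of the smaller Mathieu group on 22 points). -/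
theorem result {G : Type*} [Group G] [Finite G] (z : G) (Q : Subgroup (Subgroup.centralizer ({z} : Set G))) [Q.Normal] (hF : Cfsg.IsOfLargeFischerTypeAt z Q) (T : Sylow 2 G) (A M : Subgroup G) (hA : A = Cfsg.thompsonSubgroupOf 2 (T : Subgroup G)) (hM : M = Subgroup.normalizer (A : Set G)) (t : G) (htA : t ∈ A) (ht2 : orderOf t = 2) (ht : ¬ IsConj z t) : ∃ _ : (A.subgroupOf (M ⊓ Subgroup.centralizer ({t} : Set G))).Normal, Nonempty (↥(M ⊓ Subgroup.centralizer ({t} : Set G)) ⧸ A.subgroupOf (M ⊓ Subgroup.centralizer ({t} : Set G)) ≃* ↥(Cfsg.M24 ⊓ MulAction.stabilizer (Equiv.Perm Cfsg.GolayPt) ({none, some 0} : Set Cfsg.GolayPt))) := by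
  obtain ⟨-, -, -, -, val, χ, hP, hpairs, hsurj, hker, hact⟩ :=
    Cfsg.Agent.Fus.LargeFischerNorm.exists_action z Q hF T A hA
  subst hM
  have ht1 : t ≠ 1 := fun e => by rw [e, orderOf_one] at ht2; omega
  obtain ⟨s, hs, rfl⟩ := (hpairs t).2 ⟨htA, ht1, ht⟩
  obtain ⟨σ, hσ, eσ⟩ := Cfsg.Agent.Spor.Golay.Census.exists_pair hs
  obtain ⟨τ, hτ, eτ⟩ := Cfsg.Agent.Spor.Golay.Census.exists_pair (Finset.card_pair (show (none : GolayPt) ≠ some 0 by simp))
  set ρ : Equiv.Perm GolayPt := τ * σ⁻¹ with hρ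
  have hρM : ρ ∈ M24 := mul_mem hτ (inv_mem hσ)
  have hρs : ρ • s = ({none, some 0} : Finset GolayPt) := by
    rw [hρ, mul_smul, ← eσ, inv_smul_smul, eτ]
  have hev : Even s.card := by rw [hs]; exact even_two
  have hstab : ∀ n : ↥(Subgroup.normalizer (A : Set G)),
      (n : G) * val s = val s * (n : G) ↔ (χ n : Equiv.Perm GolayPt) • s = s := fun n => by
    rw [← mul_inv_eq_iff_eq_mul, hact n s hev]
    refine ⟨fun e => hP.eq_of_val ?_ ?_ e, fun e => by rw [e]⟩
    · rw [Finset.card_smul_finset, hs]; decide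
    · rw [Finset.card_smul_finset, hs]; norm_num
  let N := Subgroup.normalizer (A : Set G) ⊓ Subgroup.centralizer ({val s} : Set G)
  have hmem : ∀ π : Equiv.Perm GolayPt, π • s = s →
      ρ * π * ρ⁻¹ ∈ MulAction.stabilizer (Equiv.Perm GolayPt) ({none, some 0} : Set GolayPt) := fun π hπ => by
    rw [MulAction.mem_stabilizer_iff, show ({none, some 0} : Set GolayPt) = ((ρ • s : Finset GolayPt) : Set GolayPt) by
      rw [hρs]; simp, ← Finset.coe_smul_finset, ← mul_smul, inv_mul_cancel_right, mul_smul, hπ]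
  let ψ : ↥N →* ↥(M24 ⊓ MulAction.stabilizer (Equiv.Perm GolayPt) ({none, some 0} : Set GolayPt)) :=
    MonoidHom.mk' (fun n => ⟨ρ * (χ ⟨n, n.2.1⟩ : Equiv.Perm GolayPt) * ρ⁻¹,
        Subgroup.mem_inf.2 ⟨mul_mem (mul_mem hρM (χ ⟨n, n.2.1⟩).2) (inv_mem hρM),
          hmem _ ((hstab ⟨n, n.2.1⟩).1 (Subgroup.mem_centralizer_singleton_iff.1 n.2.2))⟩⟩)
      (fun a b => Subtype.ext (by
        show ρ * (χ (⟨a, a.2.1⟩ * ⟨b, b.2.1⟩) : Equiv.Perm GolayPt) * ρ⁻¹ = _ * _
        rw [map_mul, Subgroup.coe_mul]; group))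
  have hk : ψ.ker = A.subgroupOf N := by
    ext n
    rw [MonoidHom.mem_ker, Subgroup.mem_subgroupOf, ← hker ⟨n, n.2.1⟩, Subtype.ext_iff, Subtype.ext_iff]
    exact conj_eq_one_iff
  have hψ : Function.Surjective ψ := by
    rintro ⟨π, hπM, hπS⟩
    obtain ⟨n, hn⟩ := hsurj ⟨ρ⁻¹ * π * ρ, mul_mem (mul_mem (inv_mem hρM) hπM) hρM⟩
    have hfix : (χ n : Equiv.Perm GolayPt) • s = s := by
      rw [hn]
      show (ρ⁻¹ * π * ρ) • s = s
      rw [mul_smul, mul_smul, inv_smul_eq_iff, hρs]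
      exact Finset.coe_injective (by
        rw [Finset.coe_smul_finset]; simpa using MulAction.mem_stabilizer_iff.1 hπS)
    refine ⟨⟨n, Subgroup.mem_inf.2 ⟨n.2, Subgroup.mem_centralizer_singleton_iff.2 ((hstab n).2 hfix)⟩⟩, Subtype.ext ?_⟩
    show ρ * (χ n : Equiv.Perm GolayPt) * ρ⁻¹ = π
    rw [hn]
    show ρ * (ρ⁻¹ * π * ρ) * ρ⁻¹ = π
    group
  have hn : (A.subgroupOf N).Normal := hk ▸ inferInstance
  exact ⟨hn, ⟨(QuotientGroup.quotientMulEquivOfEq hk.symm).trans (QuotientGroup.quotientKerEquivOfSurjective ψ hψ)⟩⟩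

end Cfsg.Agent.S5448
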