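import Cfsg.Statements.S5449
import Cfsg.Agent.Lib.Fus.U62Four.Main
-- import your own Cfsg.Agent.* helpers here

set_option autoImplicit false
open Cfsg Cfsg.Agent Cfsg.Agent.Spor.LargeFischer

namespace Cfsg.Agent.S5449

/-- Let G be a finite group of large Fischer type at the involution z: the generalized Fitting subgroup Q of H = C_G(z) is extraspecial of order 2^13, H has normal subgroups Q ≤ H₁ ≤ H₂ with H₁/Q of order 3, H₂/H₁ the projective special unitary group of dimension 4 over the field with nine elements and H₂ of index 2 in H, and some conjugate of z other than z lies in Q. Then Q contains a four-group E, not containing z and containing an involution not conjugate to z in G, whose centralizer in G is quasisimple with quotient by E isomorphic to the projective special unitary group of dimension 6 over the field with four elements. -/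
theorem result {G : Type*} [Group G] [Finite G] (z : G) (Q : Subgroup (Subgroup.centralizer ({z} : Set G))) [Q.Normal] (hF : Cfsg.IsOfLargeFischerTypeAt z Q) : ∃ E : Subgroup G, E ≤ (Q.map (Subgroup.centralizer ({z} : Set G)).subtype) ∧ Cfsg.IsElementaryAbelian 2 E ∧ Nat.card E = 4 ∧ z ∉ E ∧ (∃ t ∈ E, orderOf t = 2 ∧ ¬ IsConj z t) ∧ Cfsg.IsQuasisimple ↥(Subgroup.centralizer (E : Set G)) ∧ ∃ (_ : (E.subgroupOf (Subgroup.centralizer (E : Set G))).Normal) (K : Type) (_ : Field K) (_ : Fintype K), Fintype.card K = 4 ∧ Nonempty (↥(Subgroup.centralizer (E : Set G)) ⧸ E.subgroupOf (Subgroup.centralizer (E : Set G)) ≃* Cfsg.PSU 6 K 2) := by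
  classical
  obtain ⟨m⟩ := Cfsg.Agent.Spor.LargeFischer.exists_model hF
  obtain ⟨C⟩ := Fus.U62Four.exists_ctx m hF
  obtain ⟨h1, h2, h3⟩ := Fus.U62Four.e_sq C
  obtain ⟨hq, hn, hrest⟩ := Fus.U62Four.good C hF
  have he1 : gv C.e1 ∈ Fus.U62Four.EG C := (Fus.U62Four.mem_EG C).2 (Or.inr (Or.inl rfl))
  have hnc := Fus.U62Four.nc_EG C he1 (by rw [C.he1]; exact (C.pic.nc_pair (Fus.U62Four.pts_facts C).1.1).1)
  have hsq : ∀ g ∈ Fus.U62Four.EG C, g * g = 1 := fun g hg => by
    rcases (Fus.U62Four.mem_EG C).1 hg with e | e | e | e <;> rw [e]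
    · exact one_mul 1
    · exact h1
    · exact h2
    · rw [mul_assoc, ← mul_assoc (gv C.e2), ← h3, mul_assoc, h2, mul_one, h1]
  refine ⟨Fus.U62Four.EG C, ?_, ⟨?_, ?_⟩, Fus.U62Four.card_EG C, Fus.U62Four.z_not_EG C,
    ⟨gv C.e1, he1, orderOf_eq_prime (by rw [pow_two]; exact h1) hnc.1, hnc.2⟩, hq, hn, hrest⟩
  · intro g hg
    obtain ⟨q, rfl, -⟩ := Fus.U62Four.rep_EG C hg
    exact ⟨q, q.2, rfl⟩
  · refine ⟨⟨fun a b => Subtype.ext ?_⟩⟩
    have ea := inv_eq_of_mul_eq_one_right (hsq a a.2)
    have eb := inv_eq_of_mul_eq_one_right (hsq b b.2)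
    have eab := inv_eq_of_mul_eq_one_right (hsq _ (mul_mem a.2 b.2))
    rw [_root_.mul_inv_rev, ea, eb] at eab
    exact eab.symm
  · intro a ha
    rw [pow_two]
    exact hsq a ha

end Cfsg.Agent.S5449
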