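import Cfsg.Statements.S5452
import Cfsg.Agent.Lib.Spor.U62Cover

set_option autoImplicit false
open Cfsg

namespace Cfsg.Agent.S5452



/-- Let G be a finite group with an involution d whose centralizer C is quasisimple with C modulo the subgroup generated by d isomorphic to the projective special unitary group of dimension 6 over the field with four elements, and suppose some conjugate of d other than d commutes with d. Then every involution of C modulo the subgroup generated by d is the image of an involution of C, and d is not a square in G. -/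
theorem result {G : Type*} [Group G] [Finite G] (d : G) (hd : orderOf d = 2) (hq : Cfsg.IsQuasisimple ↥(Subgroup.centralizer ({d} : Set G))) [hzn : ((Subgroup.zpowers d).subgroupOf (Subgroup.centralizer ({d} : Set G))).Normal] (K : Type) [Field K] [Fintype K] (hK : Fintype.card K = 4) (e : ↥(Subgroup.centralizer ({d} : Set G)) ⧸ (Subgroup.zpowers d).subgroupOf (Subgroup.centralizer ({d} : Set G)) ≃* Cfsg.PSU 6 K 2) (hnwc : ∃ g : G, g * d * g⁻¹ ∈ Subgroup.centralizer ({d} : Set G) ∧ g * d * g⁻¹ ≠ d) : (∀ x : ↥(Subgroup.centralizer ({d} : Set G)) ⧸ (Subgroup.zpowers d).subgroupOf (Subgroup.centralizer ({d} : Set G)), orderOf x = 2 → ∃ y : ↥(Subgroup.centralizer ({d} : Set G)), orderOf y = 2 ∧ (QuotientGroup.mk y : ↥(Subgroup.centralizer ({d} : Set G)) ⧸ (Subgroup.zpowers d).subgroupOf (Subgroup.centralizer ({d} : Set G))) = x) ∧ ¬ ∃ g : G, g ^ 2 = d := by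
  let Z := (Subgroup.zpowers d).subgroupOf (Subgroup.centralizer ({d} : Set G))
  let φ := e.toMonoidHom.comp (QuotientGroup.mk' Z)
  have hφ : Function.Surjective φ := e.surjective.comp (QuotientGroup.mk'_surjective _)
  have hmem : ∀ z, z ∈ φ.ker → (z : G) ∈ Subgroup.zpowers d := fun z hz => by
    have h1 : QuotientGroup.mk' Z z = 1 := e.injective (by rw [map_one]; exact hz)
    exact (QuotientGroup.eq_one_iff z).1 h1
  have hker : φ.ker ≤ Subgroup.center (Subgroup.centralizer ({d} : Set G)) := fun z hz => by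
    refine Subgroup.mem_center_iff.2 fun g => Subtype.ext ?_
    obtain ⟨k, hk⟩ := Subgroup.mem_zpowers_iff.1 (hmem z hz)
    have hg : Commute d (g : G) := Subgroup.mem_centralizer_iff.1 g.2 d rfl
    show (g : G) * z = z * g
    rw [← hk]
    exact (hg.symm.zpow_right k).eq
  have hel : ∀ z ∈ φ.ker, z * z = 1 := fun z hz => Subtype.ext (by
    show (z : G) * z = 1
    obtain ⟨k, hk⟩ := Subgroup.mem_zpowers_iff.1 (hmem z hz)
    rw [← hk, ← zpow_add, ← two_mul, zpow_mul, zpow_ofNat, ← hd, pow_orderOf_eq_one, one_zpow])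
  have main : ∀ x : ↥(Subgroup.centralizer ({d} : Set G)) ⧸ Z, orderOf x = 2 →
      ∃ y : ↥(Subgroup.centralizer ({d} : Set G)), orderOf y = 2 ∧
        (QuotientGroup.mk y : ↥(Subgroup.centralizer ({d} : Set G)) ⧸ Z) = x := by
    intro x hx
    obtain ⟨y, hy, hy'⟩ := Cfsg.Agent.Spor.U62.exists_invol_lift (F := K) (by rw [hK]; norm_num) φ hφ hker hel
      (x := e x) (by rw [MulEquiv.orderOf_eq e, hx])
    exact ⟨y, hy, e.injective hy'⟩
  refine ⟨main, ?_⟩
  rintro ⟨g, hg⟩
  have hgc : g ∈ Subgroup.centralizer ({d} : Set G) := Subgroup.mem_centralizer_iff.2 fun t ht => by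
    rw [Set.mem_singleton_iff.1 ht, ← hg]
    exact ((Commute.refl g).pow_left 2).eq
  have hgd : g ∉ Subgroup.zpowers d := fun hm => by
    obtain ⟨k, hk⟩ := Subgroup.mem_zpowers_iff.1 hm
    have h1 : g ^ 2 = 1 := by
      rw [← hk, ← zpow_natCast, ← zpow_mul, mul_comm, zpow_mul, zpow_natCast, ← hd, pow_orderOf_eq_one, one_zpow]
    rw [h1] at hg
    rw [← hg, orderOf_one] at hd
    exact absurd hd (by norm_num)
  have : Fact (Nat.Prime 2) := ⟨Nat.prime_two⟩
  have hx : orderOf (QuotientGroup.mk' Z ⟨g, hgc⟩) = 2 := by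
    refine orderOf_eq_prime ?_ fun e1 => hgd ((QuotientGroup.eq_one_iff (⟨g, hgc⟩ : ↥(Subgroup.centralizer ({d} : Set G)))).1 e1)
    rw [← map_pow]
    refine (QuotientGroup.eq_one_iff ((⟨g, hgc⟩ : ↥(Subgroup.centralizer ({d} : Set G))) ^ 2)).2 ?_
    show g ^ 2 ∈ Subgroup.zpowers d
    rw [hg]
    exact Subgroup.mem_zpowers d
  obtain ⟨y, hy, hy'⟩ := main _ hx
  obtain ⟨z, hz, hzy⟩ := Cfsg.Agent.Spor.L34.central_of_eq φ hker
    (show φ (⟨g, hgc⟩ : ↥(Subgroup.centralizer ({d} : Set G))) = φ y from congrArg e hy'.symm)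
  have hzk : z ∈ φ.ker := by
    refine MonoidHom.mem_ker.2 ?_
    have h1 := congrArg φ hzy
    rw [map_mul, show φ ⟨g, hgc⟩ = φ y from congrArg e hy'.symm] at h1
    exact mul_eq_right.1 h1.symm
  have h2 : (⟨g, hgc⟩ : ↥(Subgroup.centralizer ({d} : Set G))) ^ 2 = 1 := by
    rw [hzy, sq, show z * y * (z * y) = z * (y * z) * y by group, Subgroup.mem_center_iff.1 hz y, ← mul_assoc,
      hel z hzk, one_mul, ← sq, ← hy, pow_orderOf_eq_one]
  have h3 : g ^ 2 = 1 := congrArg Subtype.val h2
  rw [h3] at hg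
  rw [← hg, orderOf_one] at hd
  exact absurd hd (by norm_num)

end Cfsg.Agent.S5452
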