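import Cfsg.Statements.S5453
import Cfsg.Agent.Lib.Block.FischerTypes.M22Double
-- import your own Cfsg.Agent.* helpers here

set_option autoImplicit false
open Cfsg

namespace Cfsg.Agent.S5453

/-- Let G be a finite group with an involution d whose centralizer C is quasisimple, such that C modulo the subgroup generated by d is of type M(22) with respect to some conjugacy class of 3-transpositions generating it and also has an involution whose own centralizer is quasisimple with quotient by it isomorphic to the projective special unitary group of dimension 6 over the field with four elements and which is not weakly closed in that centralizer; and suppose some conjugate of d other than d commutes with d. Then every involution of C modulo the subgroup generated by d is the image of an involution of C, and d is not a square in G. -/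
theorem result {G : Type*} [Group G] [Finite G] (d : G) (hd : orderOf d = 2) (hq : Cfsg.IsQuasisimple ↥(Subgroup.centralizer ({d} : Set G))) [hzn : ((Subgroup.zpowers d).subgroupOf (Subgroup.centralizer ({d} : Set G))).Normal] (htype : ∃ E : Set (↥(Subgroup.centralizer ({d} : Set G)) ⧸ (Subgroup.zpowers d).subgroupOf (Subgroup.centralizer ({d} : Set G))), Cfsg.IsThreeTranspositionClass E ∧ Cfsg.IsOfTypeM22 _ E) (hinvol : ∃ d' : ↥(Subgroup.centralizer ({d} : Set G)) ⧸ (Subgroup.zpowers d).subgroupOf (Subgroup.centralizer ({d} : Set G)), orderOf d' = 2 ∧ Cfsg.IsQuasisimple ↥(Subgroup.centralizer ({d'} : Set _)) ∧ (∃ (K : Type) (_ : Field K) (_ : Fintype K), Fintype.card K = 4 ∧ ∃ _ : ((Subgroup.zpowers d').subgroupOf (Subgroup.centralizer ({d'} : Set _))).Normal, Nonempty (↥(Subgroup.centralizer ({d'} : Set _)) ⧸ (Subgroup.zpowers d').subgroupOf (Subgroup.centralizer ({d'} : Set _)) ≃* Cfsg.PSU 6 K 2)) ∧ ∃ g, g * d' * g⁻¹ ∈ Subgroup.centralizer ({d'} : Set _) ∧ g * d' * g⁻¹ ≠ d') (hnwc : ∃ g : G, g * d * g⁻¹ ∈ Subgroup.centralizer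 ({d} : Set G) ∧ g * d * g⁻¹ ≠ d) : (∀ x : ↥(Subgroup.centralizer ({d} : Set G)) ⧸ (Subgroup.zpowers d).subgroupOf (Subgroup.centralizer ({d} : Set G)), orderOf x = 2 → ∃ y : ↥(Subgroup.centralizer ({d} : Set G)), orderOf y = 2 ∧ (QuotientGroup.mk y : ↥(Subgroup.centralizer ({d} : Set G)) ⧸ (Subgroup.zpowers d).subgroupOf (Subgroup.centralizer ({d} : Set G))) = x) ∧ ¬ ∃ g : G, g ^ 2 = d := by
  obtain ⟨E, hE, h22⟩ := htype
  set C := Subgroup.centralizer ({d} : Set G)
  have hdC : d ∈ C := Subgroup.mem_centralizer_singleton_iff.mpr rfl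
  let π := QuotientGroup.mk' ((Subgroup.zpowers d).subgroupOf C)
  have hperf : commutator (↥C ⧸ (Subgroup.zpowers d).subgroupOf C) = ⊤ := by
    haveI := hq.1
    rw [commutator_def, ← Subgroup.map_top_of_surjective π (QuotientGroup.mk'_surjective _),
      ← Subgroup.map_commutator, ← commutator_def, Group.IsPerfect.commutator_eq_top (G := ↥C)]
  have hd2 : d * d = 1 := by rw [← pow_two, ← hd]; exact pow_orderOf_eq_one d
  have hd1 : d ≠ 1 := fun e => by rw [e, orderOf_one] at hd; omega
  have hmem : ∀ x ∈ Subgroup.zpowers d, x = 1 ∨ x = d := by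
    rintro x ⟨k, rfl⟩
    rcases Int.even_or_odd' k with ⟨j, rfl | rfl⟩
    · left; show d ^ (2 * j) = 1; rw [zpow_mul, zpow_ofNat, pow_two, hd2, one_zpow]
    · right; show d ^ (2 * j + 1) = d; rw [zpow_add, zpow_mul, zpow_ofNat, pow_two, hd2, one_zpow, one_mul, zpow_one]
  have P : Block.FischerTypes.M22Double.Cover π (⟨d, hdC⟩ : ↥C) := by
    refine ⟨QuotientGroup.mk'_surjective _, fun x hx => ?_, ?_, fun x => Subtype.ext ?_, Subtype.ext hd2⟩
    · rcases hmem x (Subgroup.mem_subgroupOf.mp ((QuotientGroup.eq_one_iff x).mp hx)) with e | e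
      · exact Or.inl (Subtype.ext e)
      · exact Or.inr (Subtype.ext e)
    · exact (QuotientGroup.eq_one_iff _).mpr (Subgroup.mem_zpowers d)
    · exact (Subgroup.mem_centralizer_singleton_iff.mp x.2).symm
  have K := Block.FischerTypes.M22.ctx_of_perfect hE hperf h22
  refine ⟨fun x hx => ?_, ?_⟩
  · obtain ⟨y, rfl⟩ := QuotientGroup.mk_surjective x
    haveI : Fact (Nat.Prime 2) := ⟨Nat.prime_two⟩
    refine ⟨y, orderOf_eq_prime ?_ ?_, rfl⟩
    · rw [pow_two]
      refine Block.FischerTypes.M22Double.sq_eq_one P K ?_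
      rw [← pow_two, ← hx]
      exact pow_orderOf_eq_one _
    · rintro rfl
      rw [QuotientGroup.mk_one, orderOf_one] at hx
      omega
  · rintro ⟨g, hg⟩
    have hgC : g ∈ C := Subgroup.mem_centralizer_singleton_iff.mpr (by rw [← hg]; group)
    have e := Block.FischerTypes.M22Double.sq_eq_one P K (g := ⟨g, hgC⟩) (by
      rw [← map_mul, ← P.proj]
      exact congrArg π (Subtype.ext (show g * g = d by rw [← pow_two]; exact hg)))
    exact hd1 (hg ▸ (pow_two g).trans (congrArg Subtype.val e))

end Cfsg.Agent.S5453
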