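import Cfsg.Statements.S5454
import Cfsg.Agent.Lib.Block.FischerTypes.M22Recog.Setup

set_option autoImplicit false
open Cfsg

namespace Cfsg.Agent.S5454

/-- Let G be a finite group with an involution d whose centralizer C is quasisimple with C modulo the subgroup generated by d isomorphic to the projective special unitary group of dimension 6 over the field with four elements, and suppose some conjugate of d other than d commutes with d. Let S be a Sylow 2-subgroup of C and A the Thompson subgroup of S (generated by the elementary abelian subgroups of S of largest order), regarded as a subgroup of G. Then A is elementary abelian of order 2^10, exactly 22 conjugates of d lie in A, and the normalizer of A permutes them transitively. -/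
theorem result {G : Type*} [Group G] [Finite G] (d : G) (hd : orderOf d = 2) (hq : Cfsg.IsQuasisimple ↥(Subgroup.centralizer ({d} : Set G))) [hzn : ((Subgroup.zpowers d).subgroupOf (Subgroup.centralizer ({d} : Set G))).Normal] (K : Type) [Field K] [Fintype K] (hK : Fintype.card K = 4) (e : ↥(Subgroup.centralizer ({d} : Set G)) ⧸ (Subgroup.zpowers d).subgroupOf (Subgroup.centralizer ({d} : Set G)) ≃* Cfsg.PSU 6 K 2) (hnwc : ∃ g : G, g * d * g⁻¹ ∈ Subgroup.centralizer ({d} : Set G) ∧ g * d * g⁻¹ ≠ d) (S : Sylow 2 ↥(Subgroup.centralizer ({d} : Set G))) (A : Subgroup G) (hA : A = (Cfsg.thompsonSubgroupOf 2 (S : Subgroup ↥(Subgroup.centralizer ({d} : Set G)))).map (Subgroup.centralizer ({d} : Set G)).subtype) : Cfsg.IsElementaryAbelian 2 A ∧ Nat.card A = 2 ^ 10 ∧ Set.ncard {x : G | x ∈ A ∧ IsConj d x} = 22 ∧ ∀ x ∈ A, ∀ y ∈ A, IsConj d x → IsConj d y → ∃ n ∈ Subgroup.normalizer (A : Set G), n * x * n⁻¹ = y := by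
  obtain ⟨Kc, H⟩ := Block.FischerTypes.M22Recog.exists_hyp d hd hq K hK e hnwc
  obtain ⟨g, hg⟩ := Block.FischerTypes.M22Recog.thompson_eq H S
  obtain ⟨h22, htr⟩ := Block.FischerTypes.M22Recog.plane_facts H
  obtain ⟨E, hE⟩ : ∃ E, E = Block.FischerTypes.M22Recog.EE Kc := ⟨_, rfl⟩
  rw [← hE] at hg h22 htr
  have hA' : A = E.map (MulAut.conj (g : G)).toMonoidHom := hA.trans hg
  have hiff : ∀ x, IsConj d ((g : G) * x * (g : G)⁻¹) ↔ IsConj d x := fun x =>
    ⟨fun h => h.trans (isConj_iff.2 ⟨(g : G)⁻¹, by simp [mul_assoc]⟩), fun h => h.trans (isConj_iff.2 ⟨(g : G), rfl⟩)⟩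
  have hmem : ∀ x, x ∈ A ↔ ∃ y ∈ E, (g : G) * y * (g : G)⁻¹ = x := fun x => by
    rw [hA']; exact Iff.rfl
  refine ⟨?_, ?_, ?_, ?_⟩
  · refine ⟨⟨⟨fun a b => Subtype.ext ?_⟩⟩, fun a ha => ?_⟩
    · obtain ⟨x, hx, ex⟩ := (hmem _).1 a.2
      obtain ⟨y, hy, ey⟩ := (hmem _).1 b.2
      rw [hE] at hx hy
      obtain ⟨m, -, rfl⟩ := Block.FischerTypes.M22Recog.mem_EE.1 hx
      obtain ⟨n, -, rfl⟩ := Block.FischerTypes.M22Recog.mem_EE.1 hy
      rw [Subgroup.coe_mul, Subgroup.coe_mul, ← ex, ← ey]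
      exact ((Spor.ThreeTrans.commute_conj_iff (g : G) _ _).2 ((Kc.ev_comm m n).map (Subgroup.centralizer ({d} : Set G)).subtype)).eq
    · obtain ⟨x, hx, rfl⟩ := (hmem a).1 ha
      rw [hE] at hx
      obtain ⟨m, -, rfl⟩ := Block.FischerTypes.M22Recog.mem_EE.1 hx
      rw [pow_two, show ∀ u : G, (g : G) * u * (g : G)⁻¹ * ((g : G) * u * (g : G)⁻¹) = (g : G) * (u * u) * (g : G)⁻¹ from
        fun u => by simp [mul_assoc], ← Subgroup.coe_mul, Kc.ev_self, Subgroup.coe_one]
      simp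
  · rw [hA', hE, Subgroup.card_map_of_injective (MulAut.conj (g : G)).injective,
      Subgroup.card_map_of_injective (Subgroup.subtype_injective _), Kc.card_eSub]
    norm_num
  · have e' : {x : G | x ∈ A ∧ IsConj d x} = (fun y => (g : G) * y * (g : G)⁻¹) '' {y : G | y ∈ E ∧ IsConj d y} := by
      ext x
      simp only [Set.mem_setOf_eq, Set.mem_image, hmem]
      constructor
      · rintro ⟨⟨y, hy, rfl⟩, hx⟩; exact ⟨y, ⟨hy, (hiff y).1 hx⟩, rfl⟩
      · rintro ⟨y, ⟨hy, hyc⟩, rfl⟩; exact ⟨⟨y, hy, rfl⟩, (hiff y).2 hyc⟩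
    rw [e', Set.ncard_image_of_injective _ fun u v k => mul_left_cancel (mul_right_cancel k), h22]
  · intro x hx y hy hdx hdy
    obtain ⟨x, hx', rfl⟩ := (hmem x).1 hx
    obtain ⟨y, hy', rfl⟩ := (hmem y).1 hy
    obtain ⟨n, hn, he⟩ := htr x hx' y hy' ((hiff x).1 hdx) ((hiff y).1 hdy)
    refine ⟨(g : G) * n * (g : G)⁻¹, ?_, by rw [← he]; simp [mul_assoc]⟩
    rw [Subgroup.mem_normalizer_iff]
    intro z
    rw [hmem, hmem]
    constructor
    · rintro ⟨w, hw, rfl⟩
      exact ⟨n * w * n⁻¹, (Subgroup.mem_normalizer_iff.1 hn w).1 hw, by simp [mul_assoc]⟩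
    · rintro ⟨w, hw, ew⟩
      refine ⟨(g : G)⁻¹ * z * g, (Subgroup.mem_normalizer_iff.1 hn _).2 ?_, by simp [mul_assoc]⟩
      have : n * ((g : G)⁻¹ * z * g) * n⁻¹ = (g : G)⁻¹ * ((g : G) * n * (g : G)⁻¹ * z * ((g : G) * n * (g : G)⁻¹)⁻¹) * g := by
        simp [mul_assoc]
      rw [this, ← ew]
      simpa [mul_assoc] using hw

end Cfsg.Agent.S5454
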