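import Cfsg.Statements.S5459
import Mathlib
-- import your own Cfsg.Agent.* helpers here

set_option autoImplicit false
open Cfsg

namespace Cfsg.Agent.S5459

open scoped commutatorElement

/-- Let G be a finite group with a quasisimple normal subgroup L and an involution d such that G is generated by L and d, the centre of L has odd order, and d inverts every element of the centre of L. If the commuting graph on the conjugacy class of the image of d in G modulo the centre of L is connected, then the commuting graph on the conjugacy class of d is connected. -/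
theorem result {G : Type*} [Group G] [Finite G] (L : Subgroup G) [L.Normal] (hL : Cfsg.IsQuasisimple ↥L) (d : G) (hd : orderOf d = 2) (hgen : L ⊔ Subgroup.zpowers d = ⊤) (hodd : Odd (Nat.card ↥(Subgroup.center ↥L))) (hinv : ∀ c ∈ (Subgroup.center ↥L).map L.subtype, d * c * d⁻¹ = c⁻¹) [hn : ((Subgroup.center ↥L).map L.subtype).Normal] (hconn : (Cfsg.commutingGraph (conjugatesOf (QuotientGroup.mk d : G ⧸ (Subgroup.center ↥L).map L.subtype))).Connected) : (Cfsg.commutingGraph (conjugatesOf d)).Connected := by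
  classical
  set N : Subgroup G := (Subgroup.center ↥L).map L.subtype with hN
  let D := conjugatesOf d
  have hNL : N ≤ L := Subgroup.map_subtype_le _
  have hNodd : Odd (Nat.card N) := by rw [hN, Subgroup.card_map_of_injective L.subtype_injective]; exact hodd
  have hNcomm : ∀ x ∈ N, ∀ y ∈ N, Commute x y := by
    rintro _ ⟨x, hx, rfl⟩ _ ⟨y, hy, rfl⟩
    exact congrArg Subtype.val ((Subgroup.mem_center_iff.mp hy) x)
  have hinvD : ∀ a ∈ D, ∀ c ∈ N, a * c * a⁻¹ = c⁻¹ := by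
    intro a ha c hc
    obtain ⟨g, rfl⟩ := isConj_iff.mp (show IsConj d a from ha)
    have h := hinv (g⁻¹ * c * g) (by simpa using hn.conj_mem c hc g⁻¹)
    calc g * d * g⁻¹ * c * (g * d * g⁻¹)⁻¹ = g * (d * (g⁻¹ * c * g) * d⁻¹) * g⁻¹ := by group
      _ = c⁻¹ := by rw [h]; group
  have hsqrt : ∀ n ∈ N, ∃ m ∈ N, m * m = n := by
    intro n hn'
    obtain ⟨j, hj⟩ := hNodd
    refine ⟨n ^ (j + 1), N.pow_mem hn' _, ?_⟩
    have hp : n ^ (2 * j + 1) = 1 := by
      have h := pow_card_eq_one' (x := (⟨n, hn'⟩ : N))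
      rw [hj] at h; exact congrArg Subtype.val h
    rw [← pow_add, show j + 1 + (j + 1) = 2 * j + 1 + 1 by ring, pow_succ, hp, one_mul]
  have hfib : ∀ a ∈ D, ∀ n ∈ N, a * n ∈ D := by
    intro a ha n hn'
    obtain ⟨m, hm, hmm⟩ := hsqrt n hn'
    show IsConj d (a * n)
    refine (show IsConj d a from ha).trans (isConj_iff.mpr ⟨m⁻¹, ?_⟩)
    rw [inv_inv, show m⁻¹ = a * m * a⁻¹ from (hinvD a ha m hm).symm, ← hmm]
    group
  have hsq : ∀ a ∈ D, a * a = 1 := by
    intro a ha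
    obtain ⟨g, rfl⟩ := isConj_iff.mp (show IsConj d a from ha)
    have h := pow_orderOf_eq_one d
    rw [hd, pow_two] at h
    calc g * d * g⁻¹ * (g * d * g⁻¹) = g * (d * d) * g⁻¹ := by group
      _ = 1 := by rw [h]; group
  let Γ := commutingGraph D
  let Dbar := conjugatesOf (QuotientGroup.mk d : G ⧸ N)
  -- lifting one step
  have step : ∀ a : D, ∀ y : Dbar, (QuotientGroup.mk (a : G) : G ⧸ N) ≠ y → Commute (QuotientGroup.mk (a : G) : G ⧸ N) y →
      ∃ b : D, (QuotientGroup.mk (b : G) : G ⧸ N) = y ∧ Γ.Reachable a b := by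
    intro a y hne hc
    obtain ⟨gq, hgq⟩ := isConj_iff.mp (show IsConj (QuotientGroup.mk d : G ⧸ N) y from y.2)
    obtain ⟨g, rfl⟩ := QuotientGroup.mk_surjective gq
    set b0 := g * d * g⁻¹ with hb0
    have hb0D : b0 ∈ D := isConj_iff.mpr ⟨g, rfl⟩
    have hb0y : (QuotientGroup.mk b0 : G ⧸ N) = y := hgq
    rw [← hb0y] at hc hne
    obtain ⟨n, hn', hab⟩ : ∃ n ∈ N, (a : G) * b0 * (a : G)⁻¹ = b0 * n := by
      refine ⟨b0⁻¹ * ((a : G) * b0 * (a : G)⁻¹), (QuotientGroup.eq).mp ?_, by group⟩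
      show (QuotientGroup.mk b0 : G ⧸ N) = (QuotientGroup.mk (a : G) : G ⧸ N) * QuotientGroup.mk b0 * (QuotientGroup.mk (a : G) : G ⧸ N)⁻¹
      rw [hc.eq, mul_inv_cancel_right]
    obtain ⟨m, hm, hmm⟩ := hsqrt n hn'
    refine ⟨⟨b0 * m, hfib b0 hb0D m hm⟩, ?_, SimpleGraph.Adj.reachable ?_⟩
    · rw [← hb0y, QuotientGroup.mk_mul, (QuotientGroup.eq_one_iff m).mpr hm, mul_one]
    · have hcom : (a : G) * (b0 * m) * (a : G)⁻¹ = b0 * m := by
        calc (a : G) * (b0 * m) * (a : G)⁻¹ = ((a : G) * b0 * (a : G)⁻¹) * ((a : G) * m * (a : G)⁻¹) := by group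
          _ = b0 * n * m⁻¹ := by rw [hab, hinvD a a.2 m hm]
          _ = b0 * m := by rw [← hmm]; group
      refine ⟨fun e => hne ?_, Or.inl (mul_inv_eq_iff_eq_mul.mp hcom)⟩
      rw [show (a : G) = b0 * m from congrArg Subtype.val e, QuotientGroup.mk_mul, (QuotientGroup.eq_one_iff m).mpr hm, mul_one]
  have lift : ∀ (x y : Dbar) (p : (commutingGraph Dbar).Walk x y) (a : D), (QuotientGroup.mk (a : G) : G ⧸ N) = x →
      ∃ b : D, (QuotientGroup.mk (b : G) : G ⧸ N) = y ∧ Γ.Reachable a b := by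
    intro x y p
    induction p with
    | nil => exact fun a ha => ⟨a, ha, SimpleGraph.Reachable.refl _⟩
    | @cons u v w h q ih =>
      intro a ha
      obtain ⟨hne, hcm⟩ := h
      obtain ⟨b, hb, hr⟩ := step a v (fun e => hne (Subtype.ext (ha.symm.trans e))) (by rw [ha]; exact hcm.elim id Commute.symm)
      obtain ⟨c, hcy, hr'⟩ := ih b hb
      exact ⟨c, hcy, hr.trans hr'⟩
  let d0 : D := ⟨d, IsConj.refl d⟩
  let cj : G → D → D := fun g a => ⟨g * a * g⁻¹, (show IsConj d a from a.2).trans (isConj_iff.mpr ⟨g, rfl⟩)⟩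
  let hom : G → (Γ →g Γ) := fun g =>
    { toFun := cj g
      map_rel' := fun {a b} hab => by
        refine ⟨fun e => hab.1 (Subtype.ext (by simpa [cj] using congrArg Subtype.val e)), ?_⟩
        exact hab.2.imp (fun h => h.map (MulAut.conj g)) (fun h => h.map (MulAut.conj g)) }
  have cjmul : ∀ g k a, cj (g * k) a = cj g (cj k a) := fun g k a => Subtype.ext (by simp [cj, mul_assoc])
  let H : Subgroup G :=
    { carrier := {g | Γ.Reachable d0 (cj g d0)}
      one_mem' := by show Γ.Reachable d0 (cj 1 d0); rw [show cj 1 d0 = d0 from Subtype.ext (by simp [cj])]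
      mul_mem' := fun {g k} hg hk => by
        show Γ.Reachable d0 (cj (g * k) d0)
        rw [cjmul]; exact SimpleGraph.Reachable.trans hg (SimpleGraph.Reachable.map (hom g) hk)
      inv_mem' := fun {g} hg => by
        show Γ.Reachable d0 (cj g⁻¹ d0)
        have h := SimpleGraph.Reachable.map (hom g⁻¹) hg
        change Γ.Reachable (cj g⁻¹ d0) (cj g⁻¹ (cj g d0)) at h
        rw [← cjmul, inv_mul_cancel, show cj 1 d0 = d0 from Subtype.ext (by simp [cj])] at h
        exact h.symm }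
  have hdH : d ∈ H := by
    show Γ.Reachable d0 (cj d d0)
    rw [show cj d d0 = d0 from Subtype.ext (by simp [cj, d0])]
  have hHN : ∀ g : G, ∃ h ∈ H, ∃ n ∈ N, g = h * n := by
    intro g
    obtain ⟨p⟩ := hconn.preconnected ⟨QuotientGroup.mk d, IsConj.refl _⟩
      ⟨QuotientGroup.mk (g * d * g⁻¹), isConj_iff.mpr ⟨QuotientGroup.mk g, rfl⟩⟩
    obtain ⟨b, hb, hr⟩ := lift _ _ p d0 rfl
    obtain ⟨n, hn', hbn⟩ : ∃ n ∈ N, (b : G) = g * d * g⁻¹ * n :=
      ⟨(g * d * g⁻¹)⁻¹ * b, QuotientGroup.eq.mp hb.symm, by group⟩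
    obtain ⟨m, hm, hmm⟩ := hsqrt (g⁻¹ * n * g) (by simpa using hn.conj_mem n hn' g⁻¹)
    refine ⟨g * m⁻¹, ?_, m, hm, by group⟩
    show Γ.Reachable d0 (cj (g * m⁻¹) d0)
    have e : cj (g * m⁻¹) d0 = b := by
      refine Subtype.ext ?_
      have h1 : m⁻¹ * d = d * m := by
        rw [show m⁻¹ = d * m * d⁻¹ from (hinvD d (IsConj.refl d) m hm).symm]; group
      show g * m⁻¹ * d * (g * m⁻¹)⁻¹ = (b : G)
      calc g * m⁻¹ * d * (g * m⁻¹)⁻¹ = g * (m⁻¹ * d) * m * g⁻¹ := by group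
        _ = g * d * (m * m) * g⁻¹ := by rw [h1]; group
        _ = (b : G) := by rw [hmm, hbn]; group
    rw [e]; exact hr
  have hL' : L ≤ H := by
    have hcom : ⁅L, L⁆ ≤ H := by
      rw [Subgroup.commutator_le]
      intro x hx y hy
      obtain ⟨a, ha, n, hn1, rfl⟩ := hHN x
      obtain ⟨b, hb, m, hm1, rfl⟩ := hHN y
      have cen : ∀ n ∈ N, ∀ l ∈ L, Commute l n := by
        rintro _ ⟨c, hc, rfl⟩ l hl
        exact congrArg Subtype.val (Subgroup.mem_center_iff.mp hc ⟨l, hl⟩)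
      have haL : a ∈ L := by simpa using L.mul_mem hx (L.inv_mem (hNL hn1))
      have hbL : b ∈ L := by simpa using L.mul_mem hy (L.inv_mem (hNL hm1))
      have : ⁅a * n, b * m⁆ = ⁅a, b⁆ := by
        have c1 := cen n hn1 (b * m) hy
        have c2 := cen m hm1 a⁻¹ (L.inv_mem haL)
        rw [commutatorElement_def, commutatorElement_def]
        calc a * n * (b * m) * (a * n)⁻¹ * (b * m)⁻¹ = a * (n * (b * m)) * n⁻¹ * a⁻¹ * m⁻¹ * b⁻¹ := by group
          _ = a * ((b * m) * n) * n⁻¹ * a⁻¹ * m⁻¹ * b⁻¹ := by rw [c1.eq]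
          _ = a * b * (m * a⁻¹) * m⁻¹ * b⁻¹ := by group
          _ = a * b * (a⁻¹ * m) * m⁻¹ * b⁻¹ := by rw [c2.eq]
          _ = a * b * a⁻¹ * b⁻¹ := by group
      rw [this]
      exact H.mul_mem (H.mul_mem (H.mul_mem ha hb) (H.inv_mem ha)) (H.inv_mem hb)
    rwa [Subgroup.isPerfect_iff.mp hL.1] at hcom
  have htop : H = ⊤ := top_le_iff.mp (hgen ▸ sup_le hL' (Subgroup.zpowers_le.mpr hdH))
  refine @SimpleGraph.Connected.mk _ _ ?_ ⟨d0⟩
  have hfrom : ∀ a : D, Γ.Reachable d0 a := by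
    intro a
    obtain ⟨g, hg⟩ := isConj_iff.mp (show IsConj d a from a.2)
    have : g ∈ H := htop ▸ Subgroup.mem_top g
    rwa [show a = cj g d0 from Subtype.ext hg.symm]
  exact fun a b => (hfrom a).symm.trans (hfrom b)

end Cfsg.Agent.S5459
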