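import Cfsg.Statements.S5462
import Cfsg.Agent.Lib.Spor.Cos.Fi22Inv.Main

set_option autoImplicit false
open Cfsg Cfsg.Agent.Spor.Cos Cfsg.Agent.Spor.Cos.Fi22Inv Cfsg.Agent.Fus.Fi22Out

namespace Cfsg.Agent.S5462

/-- Let G be a finite group with trivial centre generated by a conjugation-invariant set D of 3-transpositions on which it acts primitively, such that for some d in D the subgroup generated by the members of D other than d commuting with d has central largest normal 2- and 3-subgroups, and suppose G with D is of type M(22). Then every automorphism of G of order 2 fixes some member of D. -/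
theorem result {G : Type*} [Group G] [Finite G] {D : Set G} (hD : Cfsg.IsThreeTranspositionGroup D) (hprim : Cfsg.IsPrimitiveUnderConj D) (d₀ : G) (hd₀ : d₀ ∈ D) (h3 : Cfsg.pCore 3 ↥(Subgroup.closure {y : G | y ∈ D ∧ y ≠ d₀ ∧ Commute d₀ y}) ≤ Subgroup.center ↥(Subgroup.closure {y : G | y ∈ D ∧ y ≠ d₀ ∧ Commute d₀ y})) (h2 : Cfsg.pCore 2 ↥(Subgroup.closure {y : G | y ∈ D ∧ y ≠ d₀ ∧ Commute d₀ y}) ≤ Subgroup.center ↥(Subgroup.closure {y : G | y ∈ D ∧ y ≠ d₀ ∧ Commute d₀ y})) (h22 : Cfsg.IsOfTypeM22 G D) (φ : MulAut G) (hφ : orderOf φ = 2) : ∃ d ∈ D, φ d = d := by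
  obtain ⟨e, he⟩ := Cfsg.Agent.Fus.M22U.exists_model hD hprim h22
  have h2 : φ * φ = 1 := by rw [← pow_two, ← hφ, pow_orderOf_eq_one]
  let ψ : MulAut Cfsg.Spor.Fi22 := (e.trans φ).trans e.symm
  obtain ⟨p, hp⟩ := exists_fixed ψ (MulEquiv.ext fun x => by
    show e.symm (φ (e (e.symm (φ (e x))))) = x
    rw [e.apply_symm_apply, ← MulAut.mul_apply, h2, MulAut.one_apply, e.symm_apply_apply])
  refine ⟨e (setup.T p), (he _).2 ?_, e.symm.injective (hp.trans (e.symm_apply_apply _).symm)⟩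
  show IsConj (Fi22.g 0) _
  rw [← ev_tw]
  exact setup.isConj_T p

end Cfsg.Agent.S5462
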