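import Cfsg.Statements.S5463
import Cfsg.Agent.Lib.Block.FischerTypes.Hexad

set_option autoImplicit false
open Cfsg
open Cfsg.Agent.Block.FischerTypes Cfsg.Agent.Spor.ThreeTrans

namespace Cfsg.Agent.S5463

theorem result {G : Type*} [Group G] [Finite G] {D : Set G} (hD : Cfsg.IsThreeTranspositionGroup D) (hprim : Cfsg.IsPrimitiveUnderConj D) (d₀ : G) (hd₀ : d₀ ∈ D) (h3 : Cfsg.pCore 3 ↥(Subgroup.closure {y : G | y ∈ D ∧ y ≠ d₀ ∧ Commute d₀ y}) ≤ Subgroup.center ↥(Subgroup.closure {y : G | y ∈ D ∧ y ≠ d₀ ∧ Commute d₀ y})) (h2 : Cfsg.pCore 2 ↥(Subgroup.closure {y : G | y ∈ D ∧ y ≠ d₀ ∧ Commute d₀ y}) ≤ Subgroup.center ↥(Subgroup.closure {y : G | y ∈ D ∧ y ≠ d₀ ∧ Commute d₀ y})) (h22 : Cfsg.IsOfTypeM22 G D) : (∀ (j : G) (l l' : List G), (l.Nodup ∧ l.length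 = 2 ∧ (∀ a ∈ l, a ∈ D) ∧ (∀ a ∈ l, ∀ b ∈ l, Commute a b) ∧ l.prod = j) → (l'.Nodup ∧ l'.length = 2 ∧ (∀ a ∈ l', a ∈ D) ∧ (∀ a ∈ l', ∀ b ∈ l', Commute a b) ∧ l'.prod = j) → (∀ x : G, x ∈ l ↔ x ∈ l')) ∧ ∀ (j : G) (l₀ : List G), (l₀.Nodup ∧ l₀.length = 3 ∧ (∀ a ∈ l₀, a ∈ D) ∧ (∀ a ∈ l₀, ∀ b ∈ l₀, Commute a b) ∧ l₀.prod = j) → ∃ l₁ l₂ : List G, (l₁.Nodup ∧ l₁.length = 3 ∧ (∀ a ∈ l₁, a ∈ D) ∧ (∀ a ∈ l₁, ∀ b ∈ l₁, Commute a b) ∧ l₁.prod = j) ∧ (l₂.Nodup ∧ l₂.length = 3 ∧ (∀ a ∈ l₂, a ∈ D) ∧ (∀ a ∈ l₂, ∀ b ∈ l₂, Commute a b) ∧ l₂.prod = j) ∧ ¬ (∀ x : G, x ∈ l₁ ↔ x ∈ l₂) ∧ ∀ l : List G, (l.Nodup ∧ l.length = 3 ∧ (∀ a ∈ l, a ∈ D) ∧ (∀ a ∈ l, ∀ b ∈ l, Commute a b) ∧ l.prod = j) → ((∀ x : G, x ∈ l ↔ x ∈ l₁) ∨ (∀ x : G, x ∈ l ↔ x ∈ l₂)) := by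
  obtain ⟨hcen, d, hd, hc, hs, hnc⟩ := m22_data h22
  obtain ⟨c, hc, hdc⟩ := hc
  obtain ⟨u, hu, -⟩ := exists_perp_noncommute hnc
  have S := setting_of hD hprim hd₀ h3 h2 hcen ⟨d, hd, c, hc, hdc⟩ ⟨d, hd, u, hu⟩
  obtain ⟨-, d', hd', -, -, -, ⟨F, _, _, hF, ⟨e⟩⟩, -⟩ := h22
  have hat : ∀ a ∈ D, HexadAt D a := fun a ha => by
    obtain ⟨g, rfl⟩ := transitive S.cls hd' ha
    exact hexadAt_conj S.cls g fun b hb c hc => local_hexad S.cls S.tf hd' hF e hb hc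
  exact ⟨fun j l l' hl hl' => pair_unique S.cls S.tf hl hl', fun j l₀ hl₀ => triples S hcen hat j l₀ hl₀⟩

end Cfsg.Agent.S5463
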