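import Cfsg.Statements.S5468
import Cfsg.Agent.Lib.Block.FischerTypes.M23Pair

set_option autoImplicit false
open Cfsg

namespace Cfsg.Agent.S5468

/-- Let G be a finite group with trivial centre generated by a conjugation-invariant set D of 3-transpositions on which it acts primitively, such that for some d in D the subgroup generated by the members of D other than d commuting with d has central largest normal 2- and 3-subgroups, and suppose G with D is of type M(23). Let d₁, d₂ be distinct commuting members of D, j = d₁ d₂, K the joint centralizer of d₁ and d₂ and C the centralizer of j. Then K has index 2 in C, the centre of K is the subgroup generated by d₁ and d₂, K is quasisimple with K modulo its centre isomorphic to the projective special unitary group of dimension 6 over the field with four elements, and C modulo the subgroup generated by d₁ and d₂ has trivial centre (so it is that unitary group extended by an outer involution). -/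
theorem result {G : Type*} [Group G] [Finite G] {D : Set G} (hD : Cfsg.IsThreeTranspositionGroup D) (hprim : Cfsg.IsPrimitiveUnderConj D) (d₀ : G) (hd₀ : d₀ ∈ D) (h3 : Cfsg.pCore 3 ↥(Subgroup.closure {y : G | y ∈ D ∧ y ≠ d₀ ∧ Commute d₀ y}) ≤ Subgroup.center ↥(Subgroup.closure {y : G | y ∈ D ∧ y ≠ d₀ ∧ Commute d₀ y})) (h2 : Cfsg.pCore 2 ↥(Subgroup.closure {y : G | y ∈ D ∧ y ≠ d₀ ∧ Commute d₀ y}) ≤ Subgroup.center ↥(Subgroup.closure {y : G | y ∈ D ∧ y ≠ d₀ ∧ Commute d₀ y})) (h23 : Cfsg.IsOfTypeM23 G D) (d₁ d₂ : G) (h₁ : d₁ ∈ D) (h₂ : d₂ ∈ D) (hne : d₁ ≠ d₂) (hc : Commute d₁ d₂) (K C V : Subgroup G) (hK : K = Subgroup.centralizer ({d₁, d₂} : Set G)) (hC : C = Subgroup.centralizer ({d₁ * d₂} : Set G)) (hV : V = Subgroup.closure ({d₁, d₂} : Set G)) [hn : (V.subgroupOf C).Normal] : K ≤ C ∧ (K.subgroupOf C).index = 2 ∧ (Subgroup.center ↥K).map K.subtype = V ∧ Cfsg.IsQuasisimple ↥K ∧ (∃ (F : Type) (_ : Field F) (_ : Fintype F), Fintype.card F = 4 ∧ Nonempty (↥K ⧸ Subgroup.center ↥K ≃* Cfsg.PSU 6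 F 2)) ∧ Subgroup.center (↥C ⧸ V.subgroupOf C) = ⊥ := by
  have B := Block.FischerTypes.M23.base hD hprim h23
  have he : d₂ ∈ Spor.ThreeTrans.perp D d₁ := ⟨h₂, Ne.symm hne, hc⟩
  subst hK hC hV
  obtain ⟨h1, hidx, hcen⟩ := Block.FischerTypes.M23.pair_centraliser B h₁ he
  have hperf := Block.FischerTypes.M23.pair_perfect B h₁ he
  have hmodel := Block.FischerTypes.M23.pair_model B h₁ he
  refine ⟨h1, hidx, Block.FischerTypes.M23.pair_centre B h₁ he, ⟨?_, ?_⟩, hmodel, ?_⟩
  · exact Group.isPerfect_def.mpr hperf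
  · obtain ⟨F, _, _, h4, ⟨e⟩⟩ := hmodel
    exact (MulEquiv.isSimpleGroup_congr e).mpr (Block.FischerTypes.psu_six h4).1
  · rw [eq_bot_iff]
    intro x hx
    induction x using QuotientGroup.induction_on with
    | H c =>
      rw [Subgroup.mem_bot, QuotientGroup.eq_one_iff, Subgroup.mem_subgroupOf]
      refine hcen c c.2 fun k hk => ?_
      have := Subgroup.mem_center_iff.mp hx (QuotientGroup.mk ⟨k, h1 hk⟩)
      rw [← QuotientGroup.mk_mul, ← QuotientGroup.mk_mul, QuotientGroup.eq, Subgroup.mem_subgroupOf] at this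
      have k' := hn.conj_mem _ (show ((⟨k, h1 hk⟩ * c)⁻¹ * (c * ⟨k, h1 hk⟩)) ∈ _ from Subgroup.mem_subgroupOf.mpr this)
        (⟨k, h1 hk⟩ * c)
      rw [Subgroup.mem_subgroupOf] at k'
      simpa [mul_assoc] using k' 

end Cfsg.Agent.S5468
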