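import Cfsg.Statements.S5469
import Cfsg.Agent.Lib.Block.FischerTypes.M22PairCentralizer

set_option autoImplicit false
open Cfsg

namespace Cfsg.Agent.S5469

/-- Let G be a finite group with trivial centre generated by a conjugation-invariant set D of 3-transpositions on which it acts primitively, such that for some d in D the subgroup generated by the members of D other than d commuting with d has central largest normal 2- and 3-subgroups, and suppose G with D is of type M(22). Let d₁, d₂ be distinct commuting members of D, j = d₁ d₂, K the joint centralizer of d₁ and d₂, C the centralizer of j and V the subgroup generated by d₁ and d₂. Then K has index 2 in C, V is the centre of K, and C has a normal subgroup E containing V with E/V elementary abelian of order 2^8 and C/E isomorphic to the full automorphism group of the projective special unitary group of dimension 4 over the field with four elements. -/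
theorem result {G : Type*} [Group G] [Finite G] {D : Set G} (hD : Cfsg.IsThreeTranspositionGroup D) (hprim : Cfsg.IsPrimitiveUnderConj D) (d₀ : G) (hd₀ : d₀ ∈ D) (h3 : Cfsg.pCore 3 ↥(Subgroup.closure {y : G | y ∈ D ∧ y ≠ d₀ ∧ Commute d₀ y}) ≤ Subgroup.center ↥(Subgroup.closure {y : G | y ∈ D ∧ y ≠ d₀ ∧ Commute d₀ y})) (h2 : Cfsg.pCore 2 ↥(Subgroup.closure {y : G | y ∈ D ∧ y ≠ d₀ ∧ Commute d₀ y}) ≤ Subgroup.center ↥(Subgroup.closure {y : G | y ∈ D ∧ y ≠ d₀ ∧ Commute d₀ y})) (h22 : Cfsg.IsOfTypeM22 G D) (d₁ d₂ : G) (h₁ : d₁ ∈ D) (h₂ : d₂ ∈ D) (hne : d₁ ≠ d₂) (hc : Commute d₁ d₂) (K C V : Subgroup G) (hK : K = Subgroup.centralizer ({d₁, d₂} : Set G)) (hC : C = Subgroup.centralizer ({d₁ * d₂} : Set G)) (hV : V = Subgroup.closure ({d₁, d₂} : Set G)) : K ≤ C ∧ (K.subgroupOf C).index = 2 ∧ (Subgroup.center ↥K).map K.subtype = V ∧ ∃ E : Subgroup G, V ≤ E ∧ E ≤ C ∧ (∀ c ∈ C, ∀ x ∈ E, c * x * c⁻¹ ∈ E) ∧ Nat.card E = 2 ^ 10 ∧ (∀ x ∈ E, ∀ y ∈ E, x * y * x⁻¹ * y⁻¹ ∈ V ∧ x ^ 2 ∈ V)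 ∧ ∃ (_ : (E.subgroupOf C).Normal) (F : Type) (_ : Field F) (_ : Fintype F), Fintype.card F = 4 ∧ Nonempty (↥C ⧸ E.subgroupOf C ≃* MulAut (Cfsg.PSU 4 F 2)) := by
  subst hK hC hV
  have C := Block.FischerTypes.M22.ctx hD hprim h22
  obtain ⟨P⟩ := Block.FischerTypes.M22.exists_pairData C h₁ (d₂ := d₂) ⟨h₂, hne.symm, hc⟩
  obtain ⟨e⟩ := Block.FischerTypes.Twin.nonempty_mulAut
  haveI hn : (P.kerC.subgroupOf (Subgroup.centralizer ({d₁ * d₂} : Set G))).Normal := by
    rw [P.subgroupOf_kerC]; infer_instance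
  refine ⟨P.pair_le, P.card_prodCent.2, P.center_pairCent, P.kerC, P.closure_le, P.kerC_le,
    fun c hc' x hx => P.kerC_normal (Subgroup.mem_centralizer_singleton_iff.mp hc') hx,
    by rw [P.card_kerC.1]; norm_num, ?_, hn, Spor.USixTwo.K4, inferInstance, inferInstance, rfl, ?_⟩
  · intro x hx y hy
    have hsq : ∀ z ∈ P.kerC, z * z ∈ Subgroup.closure ({d₁, d₂} : Set G) := fun z hz => by
      rcases P.sq_mem hz with k | k <;> rw [k]
      · exact one_mem _
      · exact mul_mem (Subgroup.subset_closure (by simp)) (Subgroup.subset_closure (by simp))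
    refine ⟨?_, by rw [pow_two]; exact hsq x hx⟩
    have key : ∀ a b : ↥P.kerC, a * b * a⁻¹ * b⁻¹ ∈ (Subgroup.closure ({d₁, d₂} : Set G)).subgroupOf P.kerC :=
      Block.FischerTypes.commutator_mem_of_sq (fun z hz => Subgroup.mem_center_iff.mpr fun a => Subtype.ext (by
        obtain ⟨w, hw, ew⟩ := P.center_pairCent.ge (show (z : G) ∈ _ from hz)
        have := congrArg Subtype.val (Subgroup.mem_center_iff.mp hw ⟨a, P.kerC_le_pair a.2⟩)
        simp only [Subgroup.coe_mul] at this ⊢
        rwa [show (w : G) = z from ew] at this)) fun a => hsq a a.2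
    exact key ⟨x, hx⟩ ⟨y, hy⟩
  · exact ⟨((QuotientGroup.quotientMulEquivOfEq P.subgroupOf_kerC).trans P.quotEquiv).trans e⟩

end Cfsg.Agent.S5469
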