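import Cfsg.Statements.S5518
import Cfsg.Agent.Lib.Classical.D4TrialityExt
import Cfsg.Agent.Lib.Grp.M24Local.Thirteen
import Cfsg.Agent.Lib.Fus.ThreeA.M24
import Cfsg.Agent.Lib.Block.FischerTypes.M24Fact
import Cfsg.Agent.Lib.Block.FischerTypes.M24Triple
import Cfsg.Agent.S0293
import Cfsg.Agent.S0296
import Cfsg.Agent.S1059

set_option autoImplicit false
open Cfsg

namespace Cfsg.Agent.S5518

open Cfsg.Agent.Spor.ThreeTrans Cfsg.Agent.Block.FischerTypes Cfsg.Agent.Grp.M22Local in
/-- The centraliser of a product of three commuting members has order prime to thirteen. -/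
theorem not_commute_triple {G : Type*} [Group G] [Finite G] {D : Set G} (B : M24.Base D) (S : Setting D)
    (hgood : ∀ p ∈ D, ∀ q ∈ perp D p, TwinFree₂ D p q ∧ Trans₂ D p q) {a b c x : G} (ha : a ∈ D)
    (hb : b ∈ perp D a) (hc : c ∈ common D a b) (hx : orderOf x = 13) : ¬ Commute x (a * b * c) := by
  classical
  intro hxu
  haveI : Fact (Nat.Prime 13) := ⟨by norm_num⟩
  have hv : ∀ i : Fin 3, ![a, b, c] i ∈ D := by intro i; fin_cases i <;> [exact ha; exact hb.1; exact hc.1.1]
  have hinj : Function.Injective ![a, b, c] := by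
    intro i k e
    fin_cases i <;> fin_cases k <;>
      simp_all [Ne.symm hb.2.1, hb.2.1, Ne.symm hc.1.2.1, hc.1.2.1, Ne.symm hc.2.2.1, hc.2.2.1]
  have hcom : ∀ i k, Commute (![a, b, c] i) (![a, b, c] k) := by
    intro i k
    fin_cases i <;> fin_cases k <;>
      first | exact Commute.refl _ | exact hb.2.2 | exact hc.1.2.2 | exact hc.2.2.2 | exact hb.2.2.symm |
        exact hc.1.2.2.symm | exact hc.2.2.2.symm
  obtain ⟨hHC, hn, ⟨e⟩⟩ := triple_quotient S hgood ![a, b, c] hv hinj hcom
    (Subgroup.centralizer (Set.range ![a, b, c])) (Subgroup.centralizer ({a * b * c} : Set G)) rfl rfl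
  have hxC : x ∈ Subgroup.centralizer ({a * b * c} : Set G) := mem_cen.mpr hxu
  set q := e (QuotientGroup.mk ⟨x, hxC⟩) with hq
  have hq13 : q ^ 13 = 1 := by
    rw [hq, ← map_pow, ← QuotientGroup.mk_pow]
    have : (⟨x, hxC⟩ : ↥(Subgroup.centralizer ({a * b * c} : Set G))) ^ 13 = 1 :=
      Subtype.ext (by show x ^ 13 = 1; rw [← hx]; exact pow_orderOf_eq_one x)
    rw [this, QuotientGroup.mk_one, map_one]
  have hq1 : q = 1 := (show ∀ p : Equiv.Perm (Fin 3), p ^ 13 = 1 → p = 1 by decide +kernel) q hq13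
  rw [hq, map_eq_one_iff e e.injective, QuotientGroup.eq_one_iff, Subgroup.mem_subgroupOf] at hq1
  have hH := Subgroup.mem_centralizer_iff.mp hq1
  have kxa : Commute x a := (hH a ⟨0, rfl⟩).symm
  have hm := Grp.M24Local.mem_perpGroup B ha kxa
  have key : ∀ (u : G) (hu : u ∈ perp D a), Commute x u →
      Commute (Grp.M24Local.img hm) (pr D a u hu) := fun u hu k => by
    show Grp.M24Local.img hm * Grp.M24Local.img (Subgroup.subset_closure hu) =
      Grp.M24Local.img (Subgroup.subset_closure hu) * Grp.M24Local.img hm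
    rw [← Grp.M24Local.img_mul, ← Grp.M24Local.img_mul]
    exact Grp.M24Local.img_eq _ _ k.eq
  have hmem : Grp.M24Local.img hm ∈ fix (cen (pr D a b hb)) (pr D a c hc.1) :=
    mem_fix.mpr ⟨mem_cen.mpr (key b hb (hH b ⟨1, rfl⟩).symm), key c hc.1 (hH c ⟨2, rfl⟩).symm⟩
  have hd := orderOf_dvd_natCard (⟨_, hmem⟩ : ↥(fix (cen (pr D a b hb)) (pr D a c hc.1)))
  rw [Subgroup.orderOf_mk, Grp.M24Local.order_img B ha (by norm_num) hx hm,
    Grp.M23Local.card_perp_pair (B.sub a ha) (pr_mem hb) ((M24.toK B ha hb hc.1).mpr hc.2)] at hd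
  norm_num at hd

/-- Let G be a finite group with trivial centre generated by a conjugation-invariant set D of 3-transpositions on which it acts primitively, such that for some d in D the subgroup generated by the members of D other than d commuting with d has central largest normal 2- and 3-subgroups, and suppose G with D is of type M(24). Then any two subgroups of order 13 are conjugate; and there are members a, b, c, d of D generating the direct product T of two symmetric groups of degree 3 (a, d non-commuting; b, c non-commuting; b and c commuting with a and d) whose centralizer K is isomorphic to the Chevalley group G₂(3), such that for every subgroup B of K of order 13: the normalizer of B lies in the normalizer of K, the normalizer F of B in K is a Frobenius group of order 78 with kernel B (order 78, centralizer of B in it equal to B), and the subgroup generated by F and T has index 2 in the normalizer of B. -/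
theorem result {G : Type*} [Group G] [Finite G] {D : Set G} (hD : Cfsg.IsThreeTranspositionGroup D) (hprim : Cfsg.IsPrimitiveUnderConj D) (d₀ : G) (hd₀ : d₀ ∈ D) (h3 : Cfsg.pCore 3 ↥(Subgroup.closure {y : G | y ∈ D ∧ y ≠ d₀ ∧ Commute d₀ y}) ≤ Subgroup.center ↥(Subgroup.closure {y : G | y ∈ D ∧ y ≠ d₀ ∧ Commute d₀ y})) (h2 : Cfsg.pCore 2 ↥(Subgroup.closure {y : G | y ∈ D ∧ y ≠ d₀ ∧ Commute d₀ y}) ≤ Subgroup.center ↥(Subgroup.closure {y : G | y ∈ D ∧ y ≠ d₀ ∧ Commute d₀ y})) (h24 : Cfsg.IsOfTypeM24 G D) : (∀ X Y : Subgroup G, Nat.card X = 13 → Nat.card Y = 13 → ∃ g : G, X.map (MulAut.conj g).toMonoidHom = Y) ∧ ∃ (a b c d : G) (T K : Subgroup G), (∀ x ∈ [a, b, c, d], x ∈ D) ∧ ¬ Commute a d ∧ ¬ Commute b c ∧ Commute a b ∧ Commute a c ∧ Commute d b ∧ Commute d c ∧ T = Subgroup.closure ({a, b, c, d} : Set G) ∧ K = Subgroup.centralizer (T : Set G) ∧ Nonempty (↥K ≃* ↥(Cfsg.Lie.chevG2.group (ZMod 3))) ∧ ∀ B : Subgroup G, B ≤ K → Nat.card B = 13 → Subgroup.normalizer ((B : Subgroup G) : Set G) ≤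 Subgroup.normalizer ((K : Subgroup G) : Set G) ∧ Nat.card ↥(K ⊓ Subgroup.normalizer ((B : Subgroup G) : Set G)) = 78 ∧ K ⊓ Subgroup.centralizer ((B : Subgroup G) : Set G) = B ∧ (((K ⊓ Subgroup.normalizer ((B : Subgroup G) : Set G)) ⊔ T).subgroupOf (Subgroup.normalizer ((B : Subgroup G) : Set G))).index = 2 := by
  have hPO : Nat.card (Cfsg.POmega (ZMod 3) (Cfsg.quadFormPlus 4 (ZMod 3))) = 4952179814400 := by
    have hc := Cfsg.Agent.S0293.result (F := ZMod 3) (ZMod.card 3) 4 le_rfl
    norm_num [Finset.prod_range_succ] at hc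
    omega
  haveI : Fact (Nat.Prime 13) := ⟨by norm_num⟩
  obtain ⟨-, a, ha, d, hd, had, -, hN⟩ := id h24
  have B := Block.FischerTypes.M24.base hD hprim h24
  obtain ⟨S, hgood⟩ := Block.FischerTypes.good_of_type hD hprim hd₀ h3 h2 (Or.inr h24)
  have hne : D.Nonempty := ⟨d₀, hd₀⟩
  refine ⟨fun X Y hX hY => Grp.M24Local.conj_all B (by norm_num) (Grp.M24Local.thirteen_quot B) hne
    (by norm_num) hX hY, ?_⟩
  obtain ⟨N, hNn, ⟨eN⟩, ⟨e3⟩⟩ : ∃ (N : Subgroup (Fus.ThreeA.CQ D a d)) (_ : N.Normal),
      Nonempty (↥N ≃* Cfsg.POmega (ZMod 3) (Cfsg.quadFormPlus 4 (ZMod 3))) ∧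
      Nonempty (Fus.ThreeA.CQ D a d ⧸ N ≃* Equiv.Perm (Fin 3)) := hN
  haveI hsP := Cfsg.Agent.S0296.result (F := ZMod 3) 4 le_rfl
  have hQ : Nat.card (Fus.ThreeA.CQ D a d) = 6 * 4952179814400 := by
    rw [← N.index_mul_card, Subgroup.index_eq_card, Nat.card_congr e3.toEquiv, Nat.card_congr eN.toEquiv, hPO,
      Nat.card_perm, Nat.card_fin]
    rfl
  obtain ⟨hKC, ⟨eK⟩, -⟩ := Fus.ThreeA.group_eq B.set
    (fun a ha d hd k => Fus.ThreeA.M24.card_pair_eq B ha hd k) ha hd had hQ.ge ha hd had
  set L := Subgroup.closure (Block.FischerTypes.common D a d) with hL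
  set N' := N.comap eK.toMonoidHom with hN'
  have eN' : ↥N' ≃* ↥N :=
    { toFun := fun k => ⟨eK k, k.2⟩
      invFun := fun k => ⟨eK.symm k, by show eK (eK.symm k) ∈ N; rw [eK.apply_symm_apply]; exact k.2⟩
      left_inv := fun k => Subtype.ext (eK.symm_apply_apply _)
      right_inv := fun k => Subtype.ext (eK.apply_symm_apply _)
      map_mul' := fun k l => Subtype.ext (map_mul eK (k : ↥L) l) }
  have hsN : IsSimpleGroup ↥N' := (MulEquiv.isSimpleGroup_congr (eN'.trans eN)).mpr hsP
  have hna : ¬ IsMulCommutative ↥N' := fun k => by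
    letI : CommGroup ↥N' := { (inferInstance : Group ↥N') with mul_comm := k.is_comm.comm }
    have := IsSimpleGroup.prime_card (α := ↥N')
    rw [Nat.card_congr (eN'.trans eN).toEquiv, hPO] at this
    exact absurd this (by norm_num)
  have hq : ↥L ⧸ N' ≃* Equiv.Perm (Fin 3) :=
    (QuotientGroup.congr N' N eK (Subgroup.map_comap_eq_self_of_surjective eK.surjective N)).trans e3
  have hcen : Subgroup.center ↥L = ⊥ := by
    have hm := Subgroup.card_eq_card_quotient_mul_card_subgroup (Subgroup.center ↥L)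
    rw [Nat.card_congr eK.toEquiv] at hm
    exact Subgroup.eq_bot_of_card_eq _ ((Nat.mul_eq_left Nat.card_pos.ne').mp hm.symm)
  have hC := Fus.ThreeA.M24.centralizer_simple B ha hd had rfl hcen N' hsN hna hq
  have eP : ↥(Cfsg.Lie.chevD4.group (ZMod 3)) ≃* Cfsg.POmega (ZMod 3) (Cfsg.quadFormPlus 4 (ZMod 3)) := by
    rw [← Classical.coe_qfPlus]
    exact Classical.choice (Lie.Chev.IsoD4.exists_iso (ZMod 3))
  obtain ⟨u, v, huu, hvv, huv, hpar, ⟨eG⟩⟩ := Classical.D4Ext.exists_legs (F := ZMod 3) (ZMod.card 3) N'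
    ((eN'.trans eN).trans eP.symm) hC hq
  -- an element of order thirteen
  have h13 : 13 ∣ Nat.card ↥(Cfsg.Lie.chevG2.group (ZMod 3)) := by
    rw [Cfsg.Agent.S1059.result (ZMod.card 3)]; norm_num
  rw [← Nat.card_congr eG.toEquiv] at h13
  obtain ⟨y, hy⟩ := exists_prime_orderOf_dvd_card' 13 h13
  have hy13 : orderOf ((y : ↥L) : G) = 13 := by rw [Subgroup.orderOf_coe, Subgroup.orderOf_coe, hy]
  have hyc : ∀ w ∈ ({u, v} : Set ↥L), Commute ((y : ↥L) : G) (w : G) := fun w hw =>
    (congrArg Subtype.val (Subgroup.mem_centralizer_iff.mp y.2 w hw)).symm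
  have hLc : ∀ l : ↥L, Commute a (l : G) ∧ Commute d (l : G) := fun l => by
    have k := Subgroup.mem_centralizer_iff.mp (hKC ▸ l.2 : (l : G) ∈ Subgroup.centralizer ({a, d} : Set G))
    exact ⟨k a (by simp), k d (by simp)⟩
  obtain ⟨χ, hχ⟩ := Block.FischerTypes.M24.sign_list B
  obtain ⟨s, hs⟩ := B.meets a ha d hd had
  have hmem : ∀ w : ↥L, (w = u ∨ w = v) → w * w = 1 → w ≠ 1 → (w : G) ∈ D := by
    intro w hw hw2 hw1
    have hχw : χ (w : G) = -1 := by
      refine (Int.units_eq_one_or _).resolve_left fun k => ?_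
      have hf := hpar (χ.comp L.subtype) (by rcases hw with rfl | rfl; exacts [Or.inl k, Or.inr k])
      have hs1 := hχ [s] (by simpa using hs.1.1)
      simp only [List.prod_cons, List.prod_nil, mul_one, List.length_singleton, pow_one] at hs1
      have := DFunLike.congr_fun hf ⟨s, Subgroup.subset_closure hs⟩
      rw [MonoidHom.comp_apply, MonoidHom.one_apply] at this
      rw [show L.subtype ⟨s, Subgroup.subset_closure hs⟩ = s from rfl, hs1] at this
      exact absurd this (by decide)
    haveI : Fact (Nat.Prime 2) := ⟨Nat.prime_two⟩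
    have ho : orderOf (w : G) = 2 := by
      rw [Subgroup.orderOf_coe]
      exact orderOf_eq_prime (by rw [pow_two, hw2]) hw1
    obtain ⟨m, hm1, hm4, l, hn, hlen, hlD, hlc, hlp⟩ := Block.FischerTypes.M24.invol_fact B hne ho
    have hodd := hχ l hlD
    rw [hlp, hlen, hχw] at hodd
    have hyw : Commute ((y : ↥L) : G) (w : G) := hyc w (by rcases hw with rfl | rfl <;> simp)
    interval_cases m
    · match l, hlen with
      | [p], _ => simp only [List.prod_cons, List.prod_nil, mul_one] at hlp; exact hlp ▸ hlD p (by simp)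
    · exact absurd hodd (by decide)
    · exfalso
      match l, hlen with
      | [p, q, r], _ =>
        simp only [List.prod_cons, List.prod_nil, mul_one, ← mul_assoc] at hlp
        simp only [List.nodup_cons, List.mem_cons, List.not_mem_nil, or_false, not_or] at hn
        rw [← hlp] at hyw
        exact not_commute_triple B S hgood (hlD p (by simp)) (b := q)
          ⟨hlD q (by simp), Ne.symm hn.1.1, hlc p (by simp) q (by simp)⟩ (c := r)
          ⟨⟨hlD r (by simp), Ne.symm hn.1.2, hlc p (by simp) r (by simp)⟩,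
            hlD r (by simp), Ne.symm hn.2.1, hlc q (by simp) r (by simp)⟩ hy13 hyw
    · exact absurd hodd (by decide)
  have hu1 : u ≠ 1 := fun e => huv (e ▸ Commute.one_left v)
  have hv1 : v ≠ 1 := fun e => huv (e ▸ Commute.one_right u)
  have hb := hmem u (Or.inl rfl) huu hu1
  have hc := hmem v (Or.inr rfl) hvv hv1
  have hbc : ¬ Commute (u : G) (v : G) := fun k => huv (Subtype.ext k.eq)
  obtain ⟨⟨hab, hdb⟩, hac, hdc⟩ := And.intro (hLc u) (hLc v)
  refine ⟨a, u, v, d, _, _, ?_, had, hbc, hab, hac, hdb, hdc, rfl, rfl, ?_, ?_⟩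
  · simp only [List.mem_cons, List.not_mem_nil, or_false]
    rintro z (e | e | e | e) <;> rw [e] <;> assumption
  · rw [Subgroup.centralizer_closure]
    have e : (Subgroup.centralizer ({u, v} : Set ↥L)).map L.subtype =
        Subgroup.centralizer ({a, (u : G), (v : G), d} : Set G) := by
      ext g
      constructor
      · rintro ⟨l, hl, rfl⟩
        have k := Subgroup.mem_centralizer_iff.mp hl
        refine Subgroup.mem_centralizer_iff.mpr ?_
        rintro z (e | e | e | e) <;> rw [e]
        exacts [(hLc l).1, congrArg Subtype.val (k u (by simp)), congrArg Subtype.val (k v (by simp)), (hLc l).2]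
      · intro hg
        have k := Subgroup.mem_centralizer_iff.mp hg
        have hgL : g ∈ L := by
          rw [hKC]
          refine Subgroup.mem_centralizer_iff.mpr ?_
          rintro z (e | e) <;> rw [e]
          exacts [k a (by simp), k d (by simp)]
        refine ⟨⟨g, hgL⟩, Subgroup.mem_centralizer_iff.mpr ?_, rfl⟩
        rintro z (e | e) <;> rw [e]
        exacts [Subtype.ext (k u (by simp)), Subtype.ext (k v (by simp))]
    exact ⟨((MulEquiv.subgroupCongr e).symm.trans
      (Subgroup.equivMapOfInjective _ L.subtype L.subtype_injective).symm).trans eG⟩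
  rw [Subgroup.centralizer_closure]
  intro X hXK hX
  obtain ⟨x, hxX, hx⟩ := Grp.M22Local.exists_gen hX
  have hx1 : x ≠ 1 := by rintro rfl; rw [orderOf_one] at hx; omega
  obtain rfl : X = Subgroup.zpowers x := Grp.M22Local.eq_zpowers hX hxX hx1
  have hfx : ∀ w ∈ ({a, (u : G), (v : G), d} : Set G), w ∈ D → w ∈ Grp.M22Local.fixed D x := fun w hw hwD =>
    ⟨hwD, Subgroup.mem_centralizer_iff.mp (hXK hxX) w hw⟩
  have fa := hfx a (by simp) ha
  have fb := hfx u (by simp) hb
  have fc := hfx v (by simp) hc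
  have fd := hfx d (by simp) hd
  obtain ⟨-, h78, h13'⟩ := Grp.M24Local.thirteen_sizes B hx fa fb fc fd had hbc hab hac hdb hdc
  obtain ⟨hnK, hidx⟩ := Grp.M24Local.thirteen_main B hx fa fb fc fd had hbc hab hac hdb hdc
  have hcx : Subgroup.centralizer ((Subgroup.zpowers x : Subgroup G) : Set G) =
      Subgroup.centralizer ({x} : Set G) := by
    rw [Subgroup.zpowers_eq_closure, Subgroup.centralizer_closure]
  refine ⟨hnK, h78, ?_, hidx⟩
  rw [hcx]
  refine (Subgroup.eq_of_le_of_card_ge (le_inf hXK (Subgroup.zpowers_le.mpr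
    (Subgroup.mem_centralizer_singleton_iff.mpr rfl))) ?_).symm
  rw [Nat.card_zpowers, hx]
  exact h13'

end Cfsg.Agent.S5518
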