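import Cfsg.Statements.S5517
import Cfsg.Agent.Lib.Fus.M22U.Model
import Cfsg.Agent.S1686

set_option autoImplicit false
open Cfsg Cfsg.Agent.Fus.M22U Cfsg.Agent.Spor.Cos

namespace Cfsg.Agent.S5517

/-- Let G be a finite group with trivial centre generated by a conjugation-invariant set D of 3-transpositions on which it acts primitively, such that for some d in D the subgroup generated by the members of D other than d commuting with d has central largest normal 2- and 3-subgroups, and suppose G with D is of type M(22). Then G has a subgroup L generated by the members of D it contains and isomorphic to Ω(7, 3) (the commutator subgroup of the isometry group of a non-degenerate 7-dimensional quadratic form over the field with three elements, modulo its centre), and every Sylow 3-subgroup of L is a Sylow 3-subgroup of G. -/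
theorem result {G : Type*} [Group G] [Finite G] {D : Set G} (hD : Cfsg.IsThreeTranspositionGroup D) (hprim : Cfsg.IsPrimitiveUnderConj D) (d₀ : G) (hd₀ : d₀ ∈ D) (h3 : Cfsg.pCore 3 ↥(Subgroup.closure {y : G | y ∈ D ∧ y ≠ d₀ ∧ Commute d₀ y}) ≤ Subgroup.center ↥(Subgroup.closure {y : G | y ∈ D ∧ y ≠ d₀ ∧ Commute d₀ y})) (h2 : Cfsg.pCore 2 ↥(Subgroup.closure {y : G | y ∈ D ∧ y ≠ d₀ ∧ Commute d₀ y}) ≤ Subgroup.center ↥(Subgroup.closure {y : G | y ∈ D ∧ y ≠ d₀ ∧ Commute d₀ y})) (h22 : Cfsg.IsOfTypeM22 G D) : ∃ L : Subgroup G, Cfsg.IsDSubgroup D L ∧ Nonempty (↥L ≃* Cfsg.POmega (ZMod 3) (Cfsg.quadFormOdd 3 (ZMod 3))) ∧ ∀ P : Sylow 3 ↥L, ∃ P' : Sylow 3 G, (P : Subgroup ↥L).map L.subtype = (P' : Subgroup G) := by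
  obtain ⟨e, he⟩ := exists_model hD hprim h22
  obtain ⟨ι⟩ := O7.nonempty_sub
  set K : Subgroup Cfsg.Spor.Fi22 := val Fi22.g Fi22.lv1W with hK
  refine ⟨K.map e.toMonoidHom, ?_, ⟨(e.subgroupMap K).symm.trans ι⟩, fun P => ?_⟩
  · refine le_antisymm ((Subgroup.closure_le _).2 fun x hx => hx.2) ?_
    rw [Subgroup.map_le_iff_le_comap, hK, val, Subgroup.closure_le]
    rintro _ ⟨w, hw, rfl⟩
    refine Subgroup.subset_closure ⟨(he _).2 ?_, Subgroup.mem_map_of_mem _ (mem_val hw)⟩
    simp only [Fi22.lv1W, List.mem_cons, List.not_mem_nil, or_false] at hw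
    rcases hw with rfl | rfl | rfl | rfl | rfl | rfl | rfl | rfl <;>
      simpa [ev] using g_mem_classD _ (by norm_num)
  · have := Fi22.finite
    have hL : Nat.card ↥(K.map e.toMonoidHom) = 4585351680 := by
      rw [show Nat.card ↥(K.map e.toMonoidHom) = Nat.card ↥K from (Nat.card_congr (e.subgroupMap K).toEquiv).symm, hK, Fi22.stabA]
      exact card_stab Fi22.trA (k := 4585351680) (by rw [Fi22.card_eq]; decide +kernel)
    have hP : Nat.card ((P : Subgroup ↥(K.map e.toMonoidHom)).map (K.map e.toMonoidHom).subtype) =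
        3 ^ (Nat.card G).factorization 3 := by
      rw [Subgroup.card_subtype, P.card_eq_multiplicity, hL, ← Nat.card_congr e.toEquiv, Fi22.card_eq]
      congr 1
      have h1 : (4585351680 : ℕ).factorization 3 = 9 := by
        rw [show (4585351680 : ℕ) = 3 ^ 9 * 232960 by norm_num, Nat.factorization_mul (by norm_num) (by norm_num),
          Finsupp.add_apply, Nat.Prime.factorization_pow (by norm_num), Finsupp.single_eq_same,
          Nat.factorization_eq_zero_of_not_dvd (by norm_num)]
      have h2 : (64561751654400 : ℕ).factorization 3 = 9 := by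
        rw [show (64561751654400 : ℕ) = 3 ^ 9 * 3280076800 by norm_num, Nat.factorization_mul (by norm_num) (by norm_num),
          Finsupp.add_apply, Nat.Prime.factorization_pow (by norm_num), Finsupp.single_eq_same,
          Nat.factorization_eq_zero_of_not_dvd (by norm_num)]
      rw [h1, h2]
    exact ⟨Sylow.ofCard _ hP, (Sylow.coe_ofCard _ hP).symm⟩

end Cfsg.Agent.S5517
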