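import Cfsg.Statements.S5521
import Cfsg.Agent.Lib.Spor.Golay.M24Facts

set_option autoImplicit false
open Cfsg

namespace Cfsg.Agent.S5521

open Cfsg.Agent.Spor.Golay
theorem seven : (∃ L : List ℕ, L = chainA.map Prod.fst ∧ L.Nodup ∧ L.length = 7 ∧
    L.all (fun b => decide (b < 24)) = true ∧ trivOk [] L.reverse = true) := by
  refine ⟨_, rfl, ?_⟩
  decide +kernel

/-- The Mathieu group M₂₄ in its natural action on the 24 coordinate positions of the binary Golay code has minimal base size exactly 7: every set of at most 6 positions is fixed pointwise by some non-identity element of M₂₄, while some set of 7 positions is fixed pointwise only by the identity. -/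
theorem result :
    (∀ B : Finset Cfsg.GolayPt, B.card ≤ 6 → ∃ g ∈ Cfsg.M24, g ≠ 1 ∧ ∀ b ∈ B, g b = b) ∧
    (∃ B : Finset Cfsg.GolayPt, B.card = 7 ∧ ∀ g ∈ Cfsg.M24, (∀ b ∈ B, g b = b) → g = 1) := by
  classical
  refine ⟨fun B hB => ?_, ?_⟩
  · by_contra hcon
    push Not at hcon
    let f : Cfsg.M24 → (B ↪ Cfsg.GolayPt) := fun g =>
      (Function.Embedding.subtype _).trans g.1.toEmbedding
    have hinj : Function.Injective f := by
      intro g h hgh
      have hfix : ∀ b ∈ B, (g.1⁻¹ * h.1) b = b := by
        intro b hb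
        rw [Equiv.Perm.mul_apply, Equiv.Perm.inv_eq_iff_eq]
        exact (DFunLike.congr_fun hgh ⟨b, hb⟩).symm
      by_contra hne
      obtain ⟨b, hb, hb'⟩ := hcon _ (Cfsg.M24.mul_mem (Cfsg.M24.inv_mem g.2) h.2)
        (fun h1 => hne (Subtype.ext (inv_mul_eq_one.mp h1)))
      exact hb' (hfix b hb)
    have h := Nat.card_le_card_of_injective f hinj
    rw [card_M24, Nat.card_eq_fintype_card (α := B ↪ Cfsg.GolayPt), Fintype.card_embedding_eq,
      Fintype.card_coe, card_golayPt] at h
    interval_cases hc : B.card <;> simp [Nat.descFactorial] at h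
  · obtain ⟨L, -, hnd, hlen, hlt, htriv⟩ := seven
    rw [List.all_eq_true] at hlt
    refine ⟨L.toFinset.image pt, ?_, fun g hg hfix => ?_⟩
    · rw [Finset.card_image_of_injOn, List.toFinset_card_of_nodup hnd, hlen]
      intro a ha b hb h
      have := congrArg idx h
      rwa [idx_pt (by simpa using hlt a (by simpa using ha)),
        idx_pt (by simpa using hlt b (by simpa using hb))] at this
    · have : g ∈ Fix [] L.reverse := mem_Fix.mpr ⟨hg, by simp, fun b hb =>
        hfix _ (Finset.mem_image.mpr ⟨b, by simpa using hb, rfl⟩)⟩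
      rwa [Fix_eq_bot htriv, Subgroup.mem_bot] at this

end Cfsg.Agent.S5521
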