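import Cfsg.Statements.S5522
import Cfsg.Agent.Lib.Fus.MathieuTwoGroups
import Cfsg.Agent.Lib.Spor.Golay.CensusClasses
import Cfsg.Agent.Lib.Spor.Golay.M24Frames

set_option autoImplicit false
open Cfsg

namespace Cfsg.Agent.S5522

open Cfsg.Agent.Spor.Golay Cfsg.Agent.Spor.Golay.Census
open scoped Pointwise

/-- The Mathieu group M₁₁, realised as the stabiliser of one point of the dodecad of squares inside the stabiliser M₁₂ of that dodecad in M₂₄, acts on the twelve coordinate positions outside the dodecad of squares (its 3-transitive action of degree 12); in this action every element of prime order fixes a point, i.e. the action is elusive. -/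
theorem result (g : Equiv.Perm Cfsg.GolayPt) (hg : g ∈ Cfsg.Spor.M11) (hord : (orderOf g).Prime) :
    ∃ x : Cfsg.GolayPt, x ∉ Cfsg.Spor.squareDodecad ∧ g x = x := by
  classical
  obtain ⟨h12, h0⟩ := Subgroup.mem_inf.mp hg
  obtain ⟨hM, hd⟩ := Subgroup.mem_inf.mp h12
  rw [MulAction.mem_stabilizer_iff] at hd h0
  set d := Cfsg.Spor.squareDodecad with hddef
  have hmem : d ∈ Cfsg.dodecads := Cfsg.Agent.Fus.Mathieu.square_mem
  have hne1 : g ≠ 1 := fun e => by simp [e] at hord; exact Nat.not_prime_one hord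
  have hcard : d.card = 12 := hmem.2
  have hd0 : some (0 : ZMod 23) ∈ d := by rw [hddef]; decide +kernel
  have hiff : ∀ x, g x ∈ d ↔ x ∈ d := fun x => by
    conv_lhs => rw [← hd, ← Equiv.Perm.smul_def, Finset.smul_mem_smul_finset_iff]
  by_contra hcon
  simp only [not_exists, not_and] at hcon
  set F := Finset.univ.filter fun p => g p = p with hF
  have hFd : F ⊆ d := fun p hp => by
    by_contra h
    exact hcon p h (Finset.mem_filter.mp hp).2
  have hF4 : F.card ≤ 4 := by
    by_contra h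
    obtain ⟨s, hs, hs5⟩ := Finset.exists_subset_card_eq (show 5 ≤ F.card by omega)
    refine hne1 (eq_one_of_fix_dodecad hmem ((s.equivFinOfCardEq hs5).symm.toEmbedding.trans
      (Function.Embedding.subtype _)) (fun i => hFd (hs ((s.equivFinOfCardEq hs5).symm i).2)) hM hd
      fun i => (Finset.mem_filter.mp (hs ((s.equivFinOfCardEq hs5).symm i).2)).2)
  have hpos : 0 < F.card := Finset.card_pos.mpr ⟨some 0, Finset.mem_filter.mpr ⟨Finset.mem_univ _, h0⟩⟩
  by_cases h2 : orderOf g = 2
  · obtain ⟨k, -, ⟨h, -⟩ | ⟨h, -⟩⟩ := two_classes hM h2 <;> rw [← hF] at h <;> omega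
  by_cases h3 : orderOf g = 3
  · obtain ⟨k, -, ⟨h, -⟩ | ⟨h, -⟩⟩ := three_classes hM h3 <;> rw [← hF] at h <;> omega
  haveI : Fact (orderOf g).Prime := ⟨hord⟩
  have hdc : ∀ x, g x ∈ dᶜ ↔ x ∈ dᶜ := fun x => by rw [Finset.mem_compl, Finset.mem_compl, hiff]
  have hσ : (g.subtypePerm hdc) ^ orderOf g ^ 1 = 1 := by
    rw [pow_one, Equiv.Perm.subtypePerm_pow]
    ext x
    simp [pow_orderOf_eq_one]
  obtain ⟨p, hp⟩ : ∃ p, g.subtypePerm hdc p = p := by
    refine Equiv.Perm.exists_fixed_point_of_prime (p := orderOf g) (n := 1) ?_ hσ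
    rw [Fintype.card_coe, Finset.card_compl, hcard, card_golayPt]
    intro hdvd
    have h12' : orderOf g ∣ 2 ^ 2 * 3 := hdvd
    rcases (Nat.Prime.dvd_mul hord).mp h12' with h | h
    · exact h2 ((Nat.prime_dvd_prime_iff_eq hord Nat.prime_two).mp (hord.dvd_of_dvd_pow h))
    · exact h3 ((Nat.prime_dvd_prime_iff_eq hord Nat.prime_three).mp h)
  exact hcon p.1 (Finset.mem_compl.mp p.2) (congrArg Subtype.val hp)

end Cfsg.Agent.S5522
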