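import Cfsg.Statements.S5541
import Mathlib
-- import your own Cfsg.Agent.* helpers here

set_option autoImplicit false
open Cfsg

namespace Cfsg.Agent.S5541

/-- Let ρ be a representation of a group H on a finite-dimensional real vector space U whose only ρ-invariant subspaces are the zero subspace and U, and suppose U carries a non-zero ρ-invariant symmetric bilinear form. Then the following are equivalent: (1) there is a non-zero ρ-equivariant commutative bilinear product on U of which every ρ-equivariant bilinear product is a scalar multiple; (2) there is a non-zero ρ-invariant trilinear form on U that is symmetric under all permutations of its arguments and of which every ρ-invariant trilinear form is a scalar multiple. -/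
theorem result {H : Type*} [Group H] {U : Type*} [AddCommGroup U] [Module ℝ U] [FiniteDimensional ℝ U] (ρ : Representation ℝ H U) (hirr : ∀ W : Submodule ℝ U, (∀ g : H, W.map (ρ g) ≤ W) → W = ⊥ ∨ W = ⊤) (B : LinearMap.BilinForm ℝ U) (hB0 : B ≠ 0) (hBs : ∀ u v, B u v = B v u) (hBi : ∀ (g : H) (u v : U), B (ρ g u) (ρ g v) = B u v) : (∃ m : U →ₗ[ℝ] U →ₗ[ℝ] U, m ≠ 0 ∧ (∀ u v, m u v = m v u) ∧ (∀ (g : H) (u v : U), m (ρ g u) (ρ g v) = ρ g (m u v)) ∧ ∀ m' : U →ₗ[ℝ] U →ₗ[ℝ] U, (∀ (g : H) (u v : U), m' (ρ g u) (ρ g v) = ρ g (m' u v)) → ∃ c : ℝ, m' = c • m) ↔ (∃ t : U →ₗ[ℝ] U →ₗ[ℝ] U →ₗ[ℝ] ℝ, t ≠ 0 ∧ (∀ u v w, t u v w = t v u w ∧ t u v w = t u w v) ∧ (∀ (g : H) (u v w : U), t (ρ g u) (ρ g v) (ρ g w) = t u v w) ∧ ∀ t' : U →ₗ[ℝ] U →ₗ[ℝ] U →ₗ[ℝ] ℝ, (∀ (g : H) (u v w : U), t' (ρ g u) (ρ g v) (ρ g w) = t' u v w) → ∃ c : ℝ, t' = c • t) := by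
  classical
  -- non-degeneracy
  have hker : LinearMap.ker B = ⊥ := by
    refine (hirr (LinearMap.ker B) fun g => ?_).resolve_right fun e => hB0 (LinearMap.ker_eq_top.mp e)
    rintro _ ⟨u, hu, rfl⟩
    refine LinearMap.mem_ker.mpr (LinearMap.ext fun v => ?_)
    have e : ρ g (ρ g⁻¹ v) = v := by rw [← Module.End.mul_apply, ← map_mul, mul_inv_cancel, map_one]; rfl
    rw [← e, hBi, LinearMap.mem_ker.mp hu]; simp
  have hinj : Function.Injective B := LinearMap.ker_eq_bot.mp hker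
  have hbij : Function.Bijective B := ⟨hinj, (LinearMap.injective_iff_surjective_of_finrank_eq_finrank (Subspace.dual_finrank_eq).symm).mp hinj⟩
  let β : U ≃ₗ[ℝ] (U →ₗ[ℝ] ℝ) := LinearEquiv.ofBijective B hbij
  -- the two directions of the translation
  let toT : (U →ₗ[ℝ] U →ₗ[ℝ] U) → (U →ₗ[ℝ] U →ₗ[ℝ] U →ₗ[ℝ] ℝ) := fun m =>
    (LinearMap.llcomp ℝ U U (U →ₗ[ℝ] ℝ) B).comp m
  let toM : (U →ₗ[ℝ] U →ₗ[ℝ] U →ₗ[ℝ] ℝ) → (U →ₗ[ℝ] U →ₗ[ℝ] U) := fun t =>
    (LinearMap.llcomp ℝ U (U →ₗ[ℝ] ℝ) U β.symm.toLinearMap).comp t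
  have hT : ∀ m u v w, toT m u v w = B (m u v) w := fun _ _ _ _ => rfl
  have hM : ∀ t u v w, B (toM t u v) w = t u v w := fun t u v w =>
    LinearMap.congr_fun (β.apply_symm_apply (t u v)) w
  have hTM : ∀ t, toT (toM t) = t := fun t => LinearMap.ext₂ fun u v => LinearMap.ext fun w => by rw [hT, hM]
  have ext_m : ∀ m m' : U →ₗ[ℝ] U →ₗ[ℝ] U, (∀ u v w, B (m u v) w = B (m' u v) w) → m = m' := fun m m' h =>
    LinearMap.ext₂ fun u v => hinj (LinearMap.ext (h u v))
  have hTinv : ∀ m, (∀ (g : H) u v, m (ρ g u) (ρ g v) = ρ g (m u v)) → ∀ (g : H) u v w, toT m (ρ g u) (ρ g v) (ρ g w) = toT m u v w := by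
    intro m hm g u v w
    rw [hT, hT, hm, hBi]
  have hMinv : ∀ t, (∀ (g : H) u v w, t (ρ g u) (ρ g v) (ρ g w) = t u v w) → ∀ (g : H) u v, toM t (ρ g u) (ρ g v) = ρ g (toM t u v) := by
    intro t ht g u v
    refine hinj (LinearMap.ext fun w => ?_)
    have e : ρ g (ρ g⁻¹ w) = w := by rw [← Module.End.mul_apply, ← map_mul, mul_inv_cancel, map_one]; rfl
    rw [← e, hBi, hM, hM, ht]
  constructor
  · rintro ⟨m, hm0, hms, hmi, huniq⟩
    refine ⟨toT m, fun e => hm0 (ext_m _ _ fun u v w => by rw [← hT, e]; simp), ?_, hTinv m hmi, fun t' ht' => ?_⟩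
    · have hswap : ∀ u v w, toT m u v w = toT m v u w := fun u v w => by rw [hT, hT, hms]
      -- swapping the last two variables gives another invariant form
      let t' : U →ₗ[ℝ] U →ₗ[ℝ] U →ₗ[ℝ] ℝ := LinearMap.lflip.toLinearMap.comp (toT m)
      have ht' : ∀ u v w, t' u v w = toT m u w v := fun _ _ _ => rfl
      obtain ⟨c, hc⟩ := huniq (toM t') (hMinv t' fun g u v w => by rw [ht', ht', hTinv m hmi])
      have hc' : ∀ u v w, toT m u w v = c * toT m u v w := fun u v w => by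
        rw [← ht', ← hM t' u v w, hc, hT]; simp
      obtain ⟨u0, v0, w0, hne⟩ : ∃ u v w, toT m u v w ≠ 0 := by
        by_contra h; push Not at h
        exact hm0 (ext_m _ _ fun u v w => by rw [← hT, h]; simp)
      have hcc : c * c = 1 := by
        have := hc' u0 v0 w0
        have h2 := hc' u0 w0 v0
        rw [this, ← mul_assoc] at h2
        exact mul_right_cancel₀ hne (by rw [one_mul]; exact h2.symm)
      rcases mul_self_eq_one_iff.mp hcc with rfl | rfl
      · exact fun u v w => ⟨hswap u v w, by rw [hc' u v w, one_mul]⟩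
      · exfalso
        apply hne
        have a1 := fun u v w => hc' u v w
        linarith [hswap u0 v0 w0, a1 u0 v0 w0, a1 v0 u0 w0, hswap v0 w0 u0, a1 w0 v0 u0, hswap u0 w0 v0, a1 w0 u0 v0]
    · obtain ⟨c, hc⟩ := huniq (toM t') (hMinv t' ht')
      exact ⟨c, LinearMap.ext₂ fun u v => LinearMap.ext fun w => by rw [← hM t' u v w, hc]; simp [hT]⟩
  · rintro ⟨t, ht0, hts, hti, huniq⟩
    refine ⟨toM t, fun e => ht0 (by rw [← hTM t, e]; exact LinearMap.ext₂ fun u v => LinearMap.ext fun w => by simp [hT]),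
      fun u v => hinj (LinearMap.ext fun w => by rw [hM, hM]; exact (hts u v w).1), hMinv t hti, fun m' hm' => ?_⟩
    obtain ⟨c, hc⟩ := huniq (toT m') (hTinv m' hm')
    exact ⟨c, ext_m _ _ fun u v w => by rw [← hT, hc]; simp [hM]⟩

end Cfsg.Agent.S5541
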