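import Cfsg.Statements.S5543
import Mathlib
-- import your own Cfsg.Agent.* helpers here

set_option autoImplicit false
open Cfsg

namespace Cfsg.Agent.S5543

/-- Let V be a finite-dimensional real vector space with a commutative bilinear product and a positive-definite symmetric bilinear form that associates with the product and satisfies the Norton inequality (the Majorana setting of the definitions). Let X be a group of linear automorphisms of V in which every element squares to the identity, and suppose every non-identity element x of X is a Majorana involution with an axial vector a(x) of squared length 1, such that for any two distinct non-identity x, y the product a(x) ∘ a(y) equals (1/8)(a(x) + a(y) − a(xy)) (the dihedral subalgebra of type 2A whose third axis belongs to the involution xy). Then X has order at most 4. -/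
theorem result {V : Type*} [AddCommGroup V] [Module ℝ V] [FiniteDimensional ℝ V] (mul : V →ₗ[ℝ] V →ₗ[ℝ] V) (B : LinearMap.BilinForm ℝ V) (hV : Cfsg.Axial.IsMajoranaAmbient mul B) (X : Subgroup (V ≃ₗ[ℝ] V)) (hX : ∀ x ∈ X, x * x = 1) (ax : (V ≃ₗ[ℝ] V) → V) (hax : ∀ x ∈ X, x ≠ 1 → Cfsg.Axial.IsMajoranaPair mul B x (ax x)) (h1 : ∀ x ∈ X, x ≠ 1 → B (ax x) (ax x) = 1) (h2A : ∀ x ∈ X, ∀ y ∈ X, x ≠ 1 → y ≠ 1 → x ≠ y → mul (ax x) (ax y) = (1 / 8 : ℝ) • (ax x + ax y - ax (x * y))) : Nat.card ↥X ≤ 4 := by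
  classical
  obtain ⟨hcm, hBs, -, hassoc, -⟩ := hV
  by_contra hcard
  push Not at hcard
  haveI : Finite X := Nat.finite_of_card_ne_zero (by omega)
  have comm : ∀ x ∈ X, ∀ y ∈ X, x * y = y * x := by
    intro x hx y hy
    calc x * y = (x * y)⁻¹ := eq_inv_of_mul_eq_one_left (hX _ (X.mul_mem hx hy))
      _ = y * x := by
        rw [mul_inv_rev, inv_eq_of_mul_eq_one_right (hX x hx), inv_eq_of_mul_eq_one_right (hX y hy)]
  have nemul : ∀ u ∈ X, ∀ v ∈ X, u ≠ v → u * v ≠ 1 := fun u hu v hv h e =>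
    h (by rw [eq_inv_of_mul_eq_one_left e, inv_eq_of_mul_eq_one_right (hX v hv)])
  obtain ⟨x, hx, hx1⟩ : ∃ x ∈ X, x ≠ 1 := by
    by_contra h; push Not at h
    have : Subsingleton X := ⟨fun a b => Subtype.ext ((h a a.2).trans (h b b.2).symm)⟩
    rw [Nat.card_unique] at hcard; omega
  have pick : ∀ s : Finset (V ≃ₗ[ℝ] V), s.card ≤ 4 → ∃ y ∈ X, y ∉ s := by
    intro s hs
    by_contra h; push Not at h
    have h1 := Set.ncard_le_ncard (s := (X : Set (V ≃ₗ[ℝ] V))) (t := (s : Set (V ≃ₗ[ℝ] V))) (fun a ha => h a ha) s.finite_toSet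
    rw [Set.ncard_coe_finset, ← Nat.card_coe_set_eq] at h1
    change Nat.card X ≤ _ at h1
    omega
  obtain ⟨y, hy, hys⟩ := pick {1, x} (by exact le_trans (Finset.card_le_two) (by norm_num))
  simp only [Finset.mem_insert, Finset.mem_singleton, not_or] at hys
  obtain ⟨z, hz, hzs⟩ := pick {1, x, y, x * y} (Finset.card_le_four)
  simp only [Finset.mem_insert, Finset.mem_singleton, not_or] at hzs
  obtain ⟨hy1, hyx⟩ := hys
  obtain ⟨hz1, hzx, hzy, hzxy⟩ := hzs
  have mm := fun {u v : V ≃ₗ[ℝ] V} (hu : u ∈ X) (hv : v ∈ X) => X.mul_mem hu hv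
  have hsq : ∀ u ∈ X, ∀ w : V ≃ₗ[ℝ] V, u * (u * w) = w := fun u hu w => by rw [← mul_assoc, hX u hu, one_mul]
  have hxy := nemul x hx y hy (Ne.symm hyx)
  have hxz := nemul x hx z hz (Ne.symm hzx)
  have hyz := nemul y hy z hz (Ne.symm hzy)
  have hxf : x ≠ y * z := fun e => hzxy (by rw [comm x hx y hy, e, hsq y hy])
  have hxg := nemul x hx (y * z) (mm hy hz) hxf
  set a := ax x
  set b := ax y
  set c := ax (x * y)
  set d := ax z
  set e := ax (x * z)
  set f := ax (y * z)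
  set g := ax (x * (y * z))
  have P : ∀ {u v w : V ≃ₗ[ℝ] V}, u ∈ X → v ∈ X → u ≠ 1 → v ≠ 1 → u ≠ v → u * v = w → mul (ax u) (ax v) = (1 / 8 : ℝ) • (ax u + ax v - ax w) :=
    fun hu hv h1 h2 h3 h4 => h4 ▸ h2A _ hu _ hv h1 h2 h3
  have e0 : y * (x * y) = x := by rw [comm x hx y hy, hsq y hy]
  have ab : mul a b = (1 / 8 : ℝ) • (a + b - c) := P hx hy hx1 hy1 (Ne.symm hyx) rfl
  have ac : mul a c = (1 / 8 : ℝ) • (a + c - b) :=
    P hx (mm hx hy) hx1 hxy (fun e => hy1 (mul_eq_left.mp e.symm)) (hsq x hx y)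
  have ad : mul a d = (1 / 8 : ℝ) • (a + d - e) := P hx hz hx1 hz1 (Ne.symm hzx) rfl
  have ae : mul a e = (1 / 8 : ℝ) • (a + e - d) :=
    P hx (mm hx hz) hx1 hxz (fun e => hz1 (mul_eq_left.mp e.symm)) (hsq x hx z)
  have af : mul a f = (1 / 8 : ℝ) • (a + f - g) := P hx (mm hy hz) hx1 hyz hxf rfl
  have ag : mul a g = (1 / 8 : ℝ) • (a + g - f) :=
    P hx (mm hx (mm hy hz)) hx1 hxg (fun e => hyz (mul_eq_left.mp e.symm)) (hsq x hx _)
  have bd : mul b d = (1 / 8 : ℝ) • (b + d - f) := P hy hz hy1 hz1 (Ne.symm hzy) rfl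
  have be : mul b e = (1 / 8 : ℝ) • (b + e - g) := by
    refine P hy (mm hx hz) hy1 hxz (fun e => hzxy ?_) ?_
    · rw [e, hsq x hx]
    · rw [← mul_assoc, ← comm x hx y hy, mul_assoc]
  have cd : mul c d = (1 / 8 : ℝ) • (c + d - g) :=
    P (mm hx hy) hz hxy hz1 (Ne.symm hzxy) (mul_assoc _ _ _)
  have ce : mul c e = (1 / 8 : ℝ) • (c + e - f) := by
    refine P (mm hx hy) (mm hx hz) hxy hxz (fun e => hzy (mul_left_cancel e).symm) ?_
    rw [comm x hx y hy, mul_assoc, hsq x hx]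
  obtain ⟨-, -, ⟨⟨-, haa, -, hlaw⟩, -⟩, -⟩ := hax x hx hx1
  have mem4 : ∀ {v : V}, mul a v = (1 / 4 : ℝ) • v → v ∈ Axial.eigen mul a (1 / 4) := fun h => Module.End.mem_eigenspace_iff.mpr h
  have hbc : b - c ∈ Axial.eigen mul a (1 / 4) := mem4 (by rw [map_sub, ab, ac]; module)
  have hde : d - e ∈ Axial.eigen mul a (1 / 4) := mem4 (by rw [map_sub, ad, ae]; module)
  have h4 : (1 / 4 : ℝ) ∈ Axial.majoranaSpectrum := by simp [Axial.majoranaSpectrum]
  have hprod := hlaw _ h4 _ h4 _ hbc _ hde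
  have hl : Axial.monsterLaw (1 / 4 : ℝ) (1 / 32) (1 / 4) (1 / 4) = {1, 0} := by
    unfold Axial.monsterLaw; norm_num
  rw [hl, Axial.eigenSum, iSup_insert, iSup_singleton] at hprod
  obtain ⟨u1, h1', u0, h0', hsum⟩ := Submodule.mem_sup.mp hprod
  have hu1 : mul a u1 = u1 := (Module.End.mem_eigenspace_iff.mp h1').trans (one_smul ℝ u1)
  have hu0 : mul a u0 = 0 := (Module.End.mem_eigenspace_iff.mp h0').trans (zero_smul ℝ u0)
  have hbd : mul (b - c) (d - e) = (1 / 4 : ℝ) • (g - f) := by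
    rw [map_sub mul, LinearMap.sub_apply, map_sub, map_sub, bd, be, cd, ce]; module
  rw [hbd] at hsum
  have hw : mul a (g - f) = (1 / 4 : ℝ) • (g - f) := by rw [map_sub, ag, af]; module
  have e1 : u1 = (1 / 16 : ℝ) • (g - f) := by
    have := congrArg (mul a) hsum
    rw [map_add, hu1, hu0, add_zero, map_smul, hw, smul_smul] at this
    rw [this]; norm_num
  have e2 : mul a u1 = (1 / 64 : ℝ) • (g - f) := by rw [e1, map_smul, hw, smul_smul]; norm_num
  rw [hu1, e1] at e2
  have hgf : g - f = 0 := by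
    have : ((1 / 16 : ℝ) - 1 / 64) • (g - f) = 0 := by rw [sub_smul, e2, sub_self]
    exact (smul_eq_zero.mp this).resolve_left (by norm_num)
  have hgf' : g = f := sub_eq_zero.mp hgf
  -- the pairwise form value is 1/8
  have Ba : B a a = 1 := h1 x hx hx1
  have hb : B a (mul a f) = B a f := by rw [hassoc, haa]
  have hff : B f f = 1 := h1 _ (mm hy hz) hyz
  have hfg : B f g = B f f := by rw [hgf']
  rw [af, hgf'] at hb
  simp only [map_smul, map_add, map_sub, smul_eq_mul] at hb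
  -- now `B a f = 1/8`
  have hne : y * z ≠ x * (y * z) := fun e => hx1 (mul_eq_right.mp e.symm)
  have hfa : mul f g = (1 / 8 : ℝ) • (f + g - a) :=
    P (mm hy hz) (mm hx (mm hy hz)) hyz hxg hne (by rw [comm x hx _ (mm hy hz), hsq _ (mm hy hz)])
  have hb2 : B f (mul f g) = B f g := by
    obtain ⟨-, -, ⟨⟨-, hff', -, -⟩, -⟩, -⟩ := hax _ (mm hy hz) hyz
    rw [hassoc, show mul f f = f from hff']
  rw [hfa, hgf'] at hb2
  simp only [map_smul, map_add, map_sub, smul_eq_mul] at hb2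
  rw [hBs] at hfg
  linarith [hBs a f]

end Cfsg.Agent.S5543
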