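import Cfsg.Statements.S5546
import Cfsg.Agent.Lib.Spor.Leech.Monomial
import Cfsg.Prelude.Def_Spor_Conway

set_option autoImplicit false
open Cfsg

namespace Cfsg.Agent.S5546

open Cfsg.Agent.Spor.Leech

instance fact13 : Fact (Nat.Prime 13) := ⟨by norm_num⟩

/-- Reduction modulo 13. -/
def red13 (x : Vec) : GolayPt → ZMod 13 := fun k => (x k : ZMod 13)

/-- The matrix of a member modulo 13. -/
def mat (g : Co0) : Matrix GolayPt GolayPt (ZMod 13) :=
  Matrix.of fun k i => 5 * ((((g • axis i : leechLattice) : Vec) k : ℤ) : ZMod 13)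

theorem mat_red (g : Co0) (v : leechLattice) :
    (mat g).mulVec (red13 v) = red13 ((g • v : leechLattice) : Vec) := by
  funext k
  have h := congrArg (fun z : ℤ => 5 * (z : ZMod 13)) (coord_smul g v k)
  simp only [Int.cast_mul, Int.cast_sum, Finset.mul_sum, Int.cast_ofNat] at h
  have e : (5 : ZMod 13) * (8 * (((g • v : leechLattice) : Vec) k : ZMod 13)) =
      (((g • v : leechLattice) : Vec) k : ZMod 13) := by
    rw [← mul_assoc, show (5 : ZMod 13) * 8 = 1 by decide, one_mul]
  rw [e] at h
  simp only [Matrix.mulVec, dotProduct, mat, Matrix.of_apply, red13]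
  rw [h]
  exact Finset.sum_congr rfl fun i _ => by ring

theorem red_axis (i : GolayPt) : red13 (axis i : Vec) = Pi.single i 8 := by
  funext k
  rw [red13, axis_val, Pi.single_apply, Pi.single_apply]
  split_ifs <;> simp

theorem ext_mat {A B : Matrix GolayPt GolayPt (ZMod 13)}
    (h : ∀ v : leechLattice, A.mulVec (red13 v) = B.mulVec (red13 v)) : A = B := by
  ext k i
  have h1 := congrFun (h (axis i)) k
  rw [red_axis, Matrix.mulVec_single, Matrix.mulVec_single] at h1
  simp only [Pi.smul_apply, Matrix.col_apply, MulOpposite.smul_eq_mul_unop, MulOpposite.unop_op] at h1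
  exact mul_right_cancel₀ (show (8 : ZMod 13) ≠ 0 by decide) h1

theorem mat_one : mat 1 = 1 := ext_mat fun v => by rw [mat_red, Matrix.one_mulVec, one_smul]

theorem mat_mul (g h : Co0) : mat (g * h) = mat g * mat h :=
  ext_mat fun v => by rw [mat_red, ← Matrix.mulVec_mulVec, mat_red, mat_red, mul_smul]

/-- Membership of the stabiliser in the full group. -/
def incl : ↥Spor.Co2 →* ↥Co0 := Subgroup.inclusion inf_le_left

theorem incl_fix (g : ↥Spor.Co2) : incl g • Spor.leechU = Spor.leechU := (Subgroup.mem_inf.1 g.2).2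

/-- The short vector modulo 13. -/
def uBar : GolayPt → ZMod 13 := red13 (Spor.leechU : Vec)

theorem u_self : uBar ⬝ᵥ uBar = 6 := by decide

/-- The pairing with the short vector. -/
def pair : (GolayPt → ZMod 13) →ₗ[ZMod 13] ZMod 13 where
  toFun x := x ⬝ᵥ uBar
  map_add' x y := add_dotProduct x y uBar
  map_smul' c x := smul_dotProduct c x uBar

theorem pair_surjective : Function.Surjective pair := fun c => ⟨(c * 11) • uBar, by
  show ((c * 11) • uBar) ⬝ᵥ uBar = c
  rw [smul_dotProduct, u_self, smul_eq_mul, mul_assoc, show (11 : ZMod 13) * 6 = 1 by decide, mul_one]⟩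

/-- The perpendicular space. -/
abbrev W : Submodule (ZMod 13) (GolayPt → ZMod 13) := LinearMap.ker pair

theorem finrank_W : Module.finrank (ZMod 13) W = 23 := by
  have h := pair.finrank_range_add_finrank_ker
  rw [LinearMap.range_eq_top.2 pair_surjective, finrank_top, Module.finrank_self, Module.finrank_fintype_fun_eq_card,
    Cfsg.Agent.Spor.Golay.card_golayPt] at h
  show Module.finrank (ZMod 13) (LinearMap.ker pair) = 23
  omega

theorem col_dot (g : ↥Spor.Co2) (i : GolayPt) : ∑ k, mat (incl g) k i * uBar k = uBar i := by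
  have h := co_dot (incl g) (axis i) Spor.leechU
  rw [incl_fix] at h
  have h' := congrArg (fun z : ℤ => 5 * (z : ZMod 13)) h
  simp only [dotInt, Int.cast_sum, Int.cast_mul, Finset.mul_sum] at h'
  rw [Finset.sum_eq_single i (f := fun k => (5 : ZMod 13) * (((axis i : Vec) k : ZMod 13) * _))
    (fun k _ hk => by simp [axis_val, Pi.single_eq_of_ne hk]) (by simp)] at h'
  simp only [axis_val, Pi.single_eq_same, Int.cast_ofNat] at h'
  rw [← mul_assoc, show (5 : ZMod 13) * 8 = 1 by decide, one_mul] at h'
  rw [uBar, red13, ← h']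
  exact Finset.sum_congr rfl fun k _ => by simp only [mat, red13, Matrix.of_apply]; ring

theorem pair_mat (g : ↥Spor.Co2) (x : GolayPt → ZMod 13) : pair ((mat (incl g)).mulVec x) = pair x := by
  show (mat (incl g)).mulVec x ⬝ᵥ uBar = x ⬝ᵥ uBar
  simp only [dotProduct, Matrix.mulVec, Finset.sum_mul]
  rw [Finset.sum_comm]
  refine Finset.sum_congr rfl fun i _ => ?_
  rw [← col_dot g i, Finset.mul_sum]
  exact Finset.sum_congr rfl fun k _ => by ring

/-- The action on the perpendicular space. -/
def act : ↥Spor.Co2 →* Module.End (ZMod 13) W where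
  toFun g := (mat (incl g)).mulVecLin.restrict (fun x hx => by
    rw [LinearMap.mem_ker] at hx ⊢
    rw [Matrix.mulVecLin_apply, pair_mat, hx])
  map_one' := LinearMap.ext fun x => Subtype.ext (by
    show (mat (incl 1)).mulVec (x : GolayPt → ZMod 13) = x
    rw [map_one, mat_one, Matrix.one_mulVec])
  map_mul' g h := LinearMap.ext fun x => Subtype.ext (by
    show (mat (incl (g * h))).mulVec (x : GolayPt → ZMod 13) =
      (mat (incl g)).mulVec ((mat (incl h)).mulVec (x : GolayPt → ZMod 13))
    rw [map_mul, mat_mul, Matrix.mulVec_mulVec])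

theorem act_faithful {g : ↥Spor.Co2} (h : act g = 1) : g = 1 := by
  have hA : ∀ x : W, (mat (incl g)).mulVec (x : GolayPt → ZMod 13) = x := fun x => by
    have := congrArg (fun f : Module.End (ZMod 13) W => ((f x : W) : GolayPt → ZMod 13)) h
    simpa [act] using this
  have hu : (mat (incl g)).mulVec uBar = uBar := by rw [uBar, mat_red, incl_fix]
  have h1 : mat (incl g) = 1 := by
    refine ext_mat fun v => ?_
    have hx : red13 v - (pair (red13 v) * 11) • uBar ∈ W := by
      rw [LinearMap.mem_ker, map_sub, map_smul]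
      show pair (red13 v) - (pair (red13 v) * 11) • (uBar ⬝ᵥ uBar) = 0
      rw [u_self, smul_eq_mul, mul_assoc, show (11 : ZMod 13) * 6 = 1 by decide, mul_one, sub_self]
    have e := hA ⟨_, hx⟩
    simp only [Matrix.mulVec_sub, Matrix.mulVec_smul, hu] at e
    rw [Matrix.one_mulVec]
    exact sub_left_inj.1 e
  have hg : incl g = 1 := by
    refine ext_axis fun i => ?_
    rw [one_smul]
    set d : leechLattice := incl g • axis i - axis i with hd
    have hdiv : ∀ k, (13 : ℤ) ∣ (d : Vec) k := fun k => by
      rw [show (13 : ℤ) = ((13 : ℕ) : ℤ) from rfl, ← ZMod.intCast_zmod_eq_zero_iff_dvd]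
      have e := congrFun (mat_red (incl g) (axis i)) k
      rw [h1, Matrix.one_mulVec] at e
      rw [hd, AddSubgroup.coe_sub, Pi.sub_apply, Int.cast_sub, sub_eq_zero]
      exact e.symm
    choose q hq using hdiv
    have hn : sqNorm (d : Vec) ≤ 256 := by
      have a := norm_add ((incl g • axis i : leechLattice) : Vec) (axis i : Vec)
      have b := norm_sub ((incl g • axis i : leechLattice) : Vec) (axis i : Vec)
      have c := Cfsg.Agent.Spor.Leech.norm_nonneg (((incl g • axis i : leechLattice) : Vec) + (axis i : Vec))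
      rw [co_norm, axis_norm] at a b
      rw [hd, AddSubgroup.coe_sub]
      omega
    obtain ⟨k, hk⟩ := norm_dvd d.2
    have e : sqNorm (d : Vec) = 169 * ∑ j, q j * q j := by
      rw [sqNorm, Finset.mul_sum]
      exact Finset.sum_congr rfl fun j _ => by rw [hq j]; ring
    have h0 : 0 ≤ ∑ j, q j * q j := Finset.sum_nonneg fun j _ => mul_self_nonneg _
    have hz : d = 0 := Subtype.ext (norm_eq_zero (by omega))
    exact sub_eq_zero.1 hz
  exact (map_eq_one_iff incl (Subgroup.inclusion_injective _)).1 hg

/-- The second Conway group (the stabilizer in the Leech lattice automorphism group of the short vector fixed in the definitions) is isomorphic to a subgroup of the general linear group of degree 23 over the field with 13 elements: there is an injective homomorphism into it. -/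
theorem result : ∃ f : ↥Cfsg.Spor.Co2 →* GL (Fin 23) (ZMod 13), Function.Injective f := by
  haveI : Module.Finite (ZMod 13) W := inferInstance
  let b := Module.finBasisOfFinrankEq (ZMod 13) W finrank_W
  let φ : ↥Spor.Co2 →* Matrix (Fin 23) (Fin 23) (ZMod 13) := (LinearMap.toMatrixAlgEquiv b).toMonoidHom.comp act
  refine ⟨φ.toHomUnits, (injective_iff_map_eq_one _).2 fun g hg => act_faithful ?_⟩
  have h : φ g = 1 := by
    have h0 := congrArg Units.val hg
    exact h0
  exact (map_eq_one_iff (LinearMap.toMatrixAlgEquiv b) (LinearMap.toMatrixAlgEquiv b).injective).1 h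

end Cfsg.Agent.S5546
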