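import Cfsg.Statements.S5548
import Cfsg.Agent.Lib.Spor.Golay.CensusModules

set_option autoImplicit false
open Cfsg

namespace Cfsg.Agent.S5548

open Cfsg.Agent.Spor.Golay Cfsg.Agent.Spor.Golay.Census
open scoped Pointwise symmDiff

theorem supp_one : Cfsg.support₂ (fun _ : Cfsg.GolayPt => (1 : ZMod 2)) = Finset.univ := by
  ext p; simp [Cfsg.support₂]

theorem supp_zero : Cfsg.support₂ (0 : Cfsg.GolayPt → ZMod 2) = ∅ := by
  ext p; simp [Cfsg.support₂]

theorem le_span_of {W : Submodule (ZMod 2) (Cfsg.GolayPt → ZMod 2)}
    (h : ∀ s ∈ Cfsg.supports (W : Set (Cfsg.GolayPt → ZMod 2)), s = ∅ ∨ s = Finset.univ) :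
    W ≤ Submodule.span (ZMod 2) {fun _ => (1 : ZMod 2)} := by
  intro w hw
  rcases h _ ((mem_iff_support w).mp hw) with e | e
  · rw [eq_of_support (e.trans supp_zero.symm)]
    exact Submodule.zero_mem _
  · rw [eq_of_support (e.trans supp_one.symm)]
    exact Submodule.subset_span rfl

/-- For the automorphism group of the length-24 binary Golay code of the definitions (the Mathieu group of degree 24) acting on binary words of length 24 by permuting coordinates, the only invariant subspaces of the space of all words are: zero, the span of the all-ones word, the code itself, the even-weight words, and the whole space. (So the permutation module has a unique composition series.) -/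
theorem result (W : Submodule (ZMod 2) (Cfsg.GolayPt → ZMod 2)) (hW : ∀ σ ∈ Cfsg.M24, ∀ w ∈ W, (fun p => w (σ.symm p)) ∈ W) : W = ⊥ ∨ W = Submodule.span (ZMod 2) {fun _ => (1 : ZMod 2)} ∨ W = Cfsg.golayCode ∨ (W : Set (Cfsg.GolayPt → ZMod 2)) = {w | ∑ p, w p = 0} ∨ W = ⊤ := by
  rcases classify (closed_of hW) with h | h | h | h
  · by_cases h1 : (fun _ => (1 : ZMod 2)) ∈ W
    · exact Or.inr (Or.inl (le_antisymm (le_span_of h) (Submodule.span_le.mpr (Set.singleton_subset_iff.mpr h1))))
    · refine Or.inl (Submodule.eq_bot_iff W |>.mpr fun w hw => ?_)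
      rcases h _ ((mem_iff_support w).mp hw) with e | e
      · exact eq_of_support (e.trans supp_zero.symm)
      · exact absurd (eq_of_support (e.trans supp_one.symm) ▸ hw) h1
  · refine Or.inr (Or.inr (Or.inl (Submodule.ext fun w => ?_)))
    rw [mem_iff_support, h, mem_code_iff_support]
  · refine Or.inr (Or.inr (Or.inr (Or.inl (Set.ext fun w => ?_))))
    rw [SetLike.mem_coe, mem_iff_support, h]
    exact (sum_eq_zero_iff w).symm
  · refine Or.inr (Or.inr (Or.inr (Or.inr (Submodule.eq_top_iff'.mpr fun w => ?_))))
    rw [mem_iff_support, h]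
    exact Set.mem_univ _

end Cfsg.Agent.S5548
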