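import Cfsg.Statements.S5550
import Cfsg.Agent.Lib.Spor.Golay.CensusModules
import Cfsg.Agent.Lib.Spor.Golay.CensusElem

set_option autoImplicit false
open Cfsg

namespace Cfsg.Agent.S5550

open Cfsg.Agent.Spor.Golay Cfsg.Agent.Spor.Golay.Census
open scoped Pointwise symmDiff

theorem card_stab_pts {m n : ℕ} {gens : List ℕ} (hS : Stage [[m]] gens n) {a : Equiv.Perm Cfsg.GolayPt}
    (ha : a ∈ Cfsg.M24) : Nat.card ↥(MulAction.stabilizer Cfsg.M24 (a • pts m)) = n :=
  (Nat.card_congr (stdEquiv (stabilizer_pts m) (⟨a, ha⟩ : Cfsg.M24)).toEquiv).trans hS.card_Fx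

theorem card_stab_code {s : Finset Cfsg.GolayPt} (hs : s ∈ Cfsg.supports (Cfsg.golayCode : Set (Cfsg.GolayPt → ZMod 2))) :
    ¬ Nat.card ↥(MulAction.stabilizer Cfsg.M24 s) ∣ 10200960 ∧ ¬ Nat.card ↥(MulAction.stabilizer Cfsg.M24 s) ∣ 887040 ∧
      ¬ Nat.card ↥(MulAction.stabilizer Cfsg.M24 s) ∣ 120960 ∧ ¬ Nat.card ↥(MulAction.stabilizer Cfsg.M24 s) ∣ 138240 := by
  have hcompl : MulAction.stabilizer Cfsg.M24 s = MulAction.stabilizer Cfsg.M24 sᶜ := by
    ext g
    rw [MulAction.mem_stabilizer_iff, MulAction.mem_stabilizer_iff, Subgroup.smul_def, Subgroup.smul_def, smul_compl',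
      compl_inj_iff]
  rcases card_code hs with e | e | e | e | e
  · have ht : MulAction.stabilizer Cfsg.M24 s = ⊤ := by
      ext g
      simp [MulAction.mem_stabilizer_iff, Finset.card_eq_zero.mp e]
    rw [ht, Subgroup.card_top, card_M24]
    norm_num
  · obtain ⟨a, ha, rfl⟩ := exists_smul_octA (show s ∈ Cfsg.octads from ⟨hs, e⟩)
    rw [show octA = 5279 from rfl, card_stab_pts stageOct ha]
    norm_num
  · obtain ⟨a, ha, rfl⟩ := exists_smul_dd (show s ∈ Cfsg.dodecads from ⟨hs, e⟩)
    rw [show dd = 499903 from rfl, card_stab_pts stageDod ha]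
    norm_num
  · have h1 : sᶜ ∈ Cfsg.supports (Cfsg.golayCode : Set (Cfsg.GolayPt → ZMod 2)) := by
      have := symmDiff_mem_supports univ_mem_code hs
      rwa [show Finset.univ ∆ s = sᶜ from top_symmDiff _] at this
    obtain ⟨a, ha, e'⟩ := exists_smul_octA (show sᶜ ∈ Cfsg.octads from ⟨h1, by rw [Finset.card_compl, card_golayPt, e]⟩)
    rw [hcompl, ← e', show octA = 5279 from rfl, card_stab_pts stageOct ha]
    norm_num
  · have ht : MulAction.stabilizer Cfsg.M24 s = ⊤ := by
      ext g
      simp [MulAction.mem_stabilizer_iff, (Finset.card_eq_iff_eq_univ s).mp (e.trans card_golayPt.symm)]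
    rw [ht, Subgroup.card_top, card_M24]
    norm_num

/-- Let u be a word of the length-24 binary Golay code of the definitions (possibly zero or all-ones) and w any binary word of length 24 outside the code. Then some automorphism of the code (a coordinate permutation preserving it) fixes u but moves w to a word not congruent to w modulo the code: the stabilizer of a codeword fixes no non-zero element of the quotient of the space of all words by the code. -/
theorem result (u : (Cfsg.GolayPt → ZMod 2)) (hu : u ∈ Cfsg.golayCode) (w : (Cfsg.GolayPt → ZMod 2)) (hw : w ∉ Cfsg.golayCode) : ∃ σ ∈ Cfsg.M24, (fun p => u (σ.symm p)) = u ∧ (fun p => w (σ.symm p)) - w ∉ Cfsg.golayCode := by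
  classical
  obtain ⟨n1, n2, n3, n4⟩ := card_stab_code ((mem_code_iff_support).mp hu)
  obtain ⟨t, ht4, htc⟩ := exists_leader (Cfsg.support₂ w)
  by_contra hcon
  simp only [not_exists, not_and, not_not] at hcon
  have hK : ∀ k : ↥Cfsg.M24, k ∈ MulAction.stabilizer Cfsg.M24 (Cfsg.support₂ u) → Cls ((k : Equiv.Perm Cfsg.GolayPt) • t) t := by
    intro k hk
    have h1 := hcon k k.2 (eq_of_support (by rw [support_comp]; exact hk))
    rw [sub_mem_iff, support_comp] at h1
    have h2 : Cls ((k : Equiv.Perm Cfsg.GolayPt) • Cfsg.support₂ w) ((k : Equiv.Perm Cfsg.GolayPt) • t) := by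
      rw [Cls, ← Finset.smul_finset_symmDiff]
      exact smul_code k.2 htc
    exact h2.symm.trans (h1.trans htc)
  have ht0 : 0 < t.card := by
    by_contra h
    rw [Nat.not_lt, Nat.le_zero, Finset.card_eq_zero] at h
    rw [h, Cls, ← Finset.bot_eq_empty, symmDiff_bot] at htc
    exact hw (mem_code_iff_support.mpr htc)
  by_cases h4 : t.card = 4
  · have hle : MulAction.stabilizer Cfsg.M24 (Cfsg.support₂ u) ≤ MulAction.stabilizer Cfsg.M24 (leaders t) := by
      intro k hk
      rw [MulAction.mem_stabilizer_iff]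
      have e : leaders ((k : Equiv.Perm Cfsg.GolayPt) • t) = leaders t := leaders_eq (hK k hk)
      refine Eq.trans ?_ e
      ext x
      rw [← Finset.inv_smul_mem_iff, mem_leaders, mem_leaders]
      show ((k : Equiv.Perm Cfsg.GolayPt)⁻¹ • x).card ≤ 4 ∧ Cls t ((k : Equiv.Perm Cfsg.GolayPt)⁻¹ • x) ↔ _
      rw [Finset.card_smul_finset]
      refine and_congr_right fun _ => ⟨fun h => ?_, fun h => ?_⟩
      · have := smul_code k.2 h
        rwa [Finset.smul_finset_symmDiff, smul_inv_smul] at this
      · have := smul_code (inv_mem k.2) h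
        rwa [Finset.smul_finset_symmDiff, inv_smul_smul] at this
    obtain ⟨a, ha, e⟩ := exists_sextet (mem_sextets_iff.mpr ⟨t, h4, rfl⟩)
    refine n4 ((Subgroup.card_dvd_of_le hle).trans (dvd_of_eq ?_))
    rw [← e]
    exact (Nat.card_congr (stdEquiv (stabilizer_fam _) (⟨a, ha⟩ : Cfsg.M24)).toEquiv).trans stageSext.card_Fx
  · have hle : MulAction.stabilizer Cfsg.M24 (Cfsg.support₂ u) ≤ MulAction.stabilizer Cfsg.M24 t := fun k hk =>
      light_unique (by rw [Subgroup.smul_def, Finset.card_smul_finset]; omega) ht4 (hK k hk)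
    have hd := Subgroup.card_dvd_of_le hle
    obtain h1 | h2 | h3 : t.card = 1 ∨ t.card = 2 ∨ t.card = 3 := by omega
    · obtain ⟨p, rfl⟩ := Finset.card_eq_one.mp h1
      refine n1 (hd.trans (dvd_of_eq ?_))
      rw [← card_stabilizer_point p]
      congr 2
      ext g
      simp [MulAction.mem_stabilizer_iff, Finset.smul_finset_singleton]
    · obtain ⟨a, ha, e⟩ := exists_pair h2
      exact n2 (hd.trans (dvd_of_eq (e ▸ card_stab_pts stagePair ha)))
    · obtain ⟨a, ha, e⟩ := exists_triple h3
      exact n3 (hd.trans (dvd_of_eq (e ▸ card_stab_pts stageTriple ha)))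

end Cfsg.Agent.S5550
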