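import Cfsg.Statements.S5553
import Cfsg.Agent.Lib.Spor.Leech.Lattice

set_option autoImplicit false
open Cfsg

namespace Cfsg.Agent.S5553

open Cfsg.Agent.Spor.Leech in
/-- Vectors of constant parity whose sum is divisible by four. -/
def U : AddSubgroup Vec where
  carrier := {u | (∀ i, (2 : ℤ) ∣ u i - u none) ∧ (4 : ℤ) ∣ ∑ i, u i}
  zero_mem' := ⟨by simp, by simp⟩
  add_mem' := fun {a b} ha hb => ⟨fun i => by
      have h1 := ha.1 i; have h2 := hb.1 i; simp only [Pi.add_apply]; omega, by
      simp only [Pi.add_apply, Finset.sum_add_distrib]; exact dvd_add ha.2 hb.2⟩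
  neg_mem' := fun {a} ha => ⟨fun i => by have h1 := ha.1 i; simp only [Pi.neg_apply]; omega, by
      simp only [Pi.neg_apply, Finset.sum_neg_distrib]; exact ha.2.neg_right⟩

open Cfsg.Agent.Spor.Leech in
/-- Vectors of even sum. -/
def B : AddSubgroup Vec where
  carrier := {u | (2 : ℤ) ∣ ∑ i, u i}
  zero_mem' := by simp
  add_mem' := fun {a b} ha hb => by
    simp only [Set.mem_setOf_eq, Pi.add_apply, Finset.sum_add_distrib] at *; exact dvd_add ha hb
  neg_mem' := fun {a} ha => by
    simp only [Set.mem_setOf_eq, Pi.neg_apply, Finset.sum_neg_distrib] at *; exact ha.neg_right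

open Cfsg.Agent.Spor.Leech in
theorem index_B : B.index = 2 := by
  rw [← index_of_half (H := B) (K := ⊤) le_top (Pi.single none 1) trivial ?_ ?_, AddSubgroup.index_top]
  · show ¬ ((2 : ℤ) ∣ ∑ i, (Pi.single none 1 : Vec) i)
    decide
  · intro b _
    by_cases h : (2 : ℤ) ∣ ∑ i, b i
    · exact Or.inl h
    · refine Or.inr ?_
      show (2 : ℤ) ∣ ∑ i, (b + Pi.single none 1 : Vec) i
      simp only [Pi.add_apply, Finset.sum_add_distrib, Finset.sum_pi_single', Finset.mem_univ, if_true]
      omega

open Cfsg.Agent.Spor.Leech in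
theorem index_U : U.index = 2 ^ 24 := by
  have h : 2 * U.index = (B.map dbl).index := by
    refine index_of_half ?_ (fun _ => 1) ⟨fun i => by norm_num, by decide⟩ ?_ ?_
    · rintro _ ⟨b, (hb : (2 : ℤ) ∣ ∑ i, b i), rfl⟩
      refine ⟨fun i => ?_, ?_⟩
      · show (2 : ℤ) ∣ (2 • b) i - (2 • b) none
        simp only [Pi.smul_apply, two_nsmul]; omega
      · show (4 : ℤ) ∣ ∑ i, (2 • b) i
        simp only [Pi.smul_apply, two_nsmul, Finset.sum_add_distrib]; omega
    · rintro ⟨b, -, he⟩
      have h1 : (2 • b) none = (1 : ℤ) := congrFun he none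
      rw [Pi.smul_apply, two_nsmul] at h1; omega
    · intro x hx
      have key : ∀ y : Vec, y ∈ U → y none % 2 = 0 → y ∈ B.map dbl := fun y hy h0 => by
        have hev : ∀ i, y i = 2 * (y i / 2) := fun i => by have := hy.1 i; omega
        refine ⟨fun i => y i / 2, ?_, funext fun i => ?_⟩
        · show (2 : ℤ) ∣ ∑ i, y i / 2
          have h4 := hy.2
          rw [Finset.sum_congr rfl fun i _ => hev i, ← Finset.mul_sum] at h4
          omega
        · show (2 • fun i => y i / 2) i = y i
          rw [Pi.smul_apply, two_nsmul]; have := hev i; omega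
      rcases Int.emod_two_eq_zero_or_one (x none) with h0 | h0
      · exact Or.inl (key x hx h0)
      · refine Or.inr (key _ (U.add_mem hx ⟨fun i => by norm_num, by decide⟩) ?_)
        rw [Pi.add_apply]; omega
  rw [index_map_dbl, index_B] at h
  omega

open Cfsg.Agent.Spor.Leech in
theorem dbl_le : U.map dbl ≤ leechLattice := by
  rintro _ ⟨u, ⟨hp, h4⟩, rfl⟩
  refine mem_lattice.2 ⟨0, u, Or.inl rfl, fun i => ?_, ?_, ?_⟩
  · show (2 • u) i = _
    rw [Pi.smul_apply, two_nsmul]; ring
  · have h : par u = fun _ => ((u none : ℤ) : ZMod 2) := funext fun i =>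
      (ZMod.intCast_eq_intCast_iff_dvd_sub _ _ _).2 (by have := hp i; push_cast; omega)
    rw [h]; exact code_const _
  · show ∑ i, (2 • u) i ≡ _ [ZMOD 8]
    simp only [Pi.smul_apply, two_nsmul, Finset.sum_add_distrib, Int.ModEq]
    omega

open Cfsg.Agent.Spor.Leech in
theorem two_mem {v : Vec} (hv : v ∈ leechLattice) : (2 : ℤ) • v ∈ U.map dbl := by
  obtain ⟨m, a, hm, hva, hca, hs⟩ := mem_lattice.1 hv
  refine ⟨v, ⟨fun i => ?_, ?_⟩, ?_⟩
  · rw [hva i, hva none]; omega
  · rw [Int.ModEq] at hs; omega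
  · show 2 • v = (2 : ℤ) • v
    funext i
    simp only [Pi.smul_apply, smul_eq_mul, two_nsmul]
    ring

open Cfsg.Agent.Spor.Leech in
theorem norm_U {u : Vec} (hu : u ∈ U) : (8 : ℤ) ∣ sqNorm u := by
  obtain ⟨hp, h4⟩ := hu
  rcases Int.emod_two_eq_zero_or_one (u none) with h0 | h0
  · have hev : ∀ i, u i = 2 * (u i / 2) := fun i => by have := hp i; omega
    have e : sqNorm u = 4 * ∑ i, (u i / 2) * (u i / 2) := by
      rw [sqNorm, Finset.mul_sum]
      exact Finset.sum_congr rfl fun i _ => by linear_combination (u i + 2 * (u i / 2)) * (hev i)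
    rw [Finset.sum_congr rfl fun i _ => hev i, ← Finset.mul_sum] at h4
    have h3 : (∑ i, (u i / 2) * (u i / 2)) % 2 = (∑ i, u i / 2) % 2 := by
      rw [Finset.sum_int_mod, Finset.sum_int_mod (f := fun i => u i / 2)]
      refine congrArg (· % 2) (Finset.sum_congr rfl fun i _ => ?_)
      have := sq_emod_four (u i / 2)
      omega
    omega
  · have h1 : ∀ i ∈ (Finset.univ : Finset GolayPt), (8 : ℤ) ∣ u i ^ 2 - 1 := fun i _ => by
      have h2 : u i % 2 = 1 := by have := hp i; omega
      obtain ⟨k, hk⟩ : Even ((u i / 2) * (u i / 2 + 1)) := Int.even_mul_succ_self _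
      exact ⟨k, by
        have h3 : u i = 2 * (u i / 2) + 1 := by omega
        linear_combination (u i + 2 * (u i / 2) + 1) * h3 + 4 * hk⟩
    have h := Finset.dvd_sum h1
    rw [Finset.sum_sub_distrib, Finset.sum_const, Finset.card_univ, Cfsg.Agent.Spor.Golay.card_golayPt] at h
    rw [sqNorm]
    simp at h ⊢
    omega

/-- The Leech lattice of the definitions has an additive subgroup A containing twice the lattice, of index 2^12 in the lattice, all of whose vectors have squared length divisible by 32: the invariant quadratic form 'squared length over 16 modulo 2' on the lattice modulo twice the lattice (a 24-dimensional space over the field with two elements) vanishes on a 12-dimensional subspace, so it is of plus type. -/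
theorem result : ∃ A : AddSubgroup (Cfsg.GolayPt → ℤ), A ≤ Cfsg.leechLattice ∧ (∀ v ∈ Cfsg.leechLattice, (2 : ℤ) • v ∈ A) ∧ (A.addSubgroupOf Cfsg.leechLattice).index = 2 ^ 12 ∧ ∀ v ∈ A, (32 : ℤ) ∣ Cfsg.sqNorm v := by
  refine ⟨U.map Agent.Spor.Leech.dbl, dbl_le, fun v hv => two_mem hv, ?_, ?_⟩
  · have h := AddSubgroup.relIndex_mul_index dbl_le
    rw [Agent.Spor.Leech.index_map_dbl, index_U, Agent.Spor.Leech.index_leech] at h
    exact Nat.eq_of_mul_eq_mul_right (by norm_num) (h.trans (by norm_num))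
  · rintro v ⟨u, hu, rfl⟩
    show (32 : ℤ) ∣ sqNorm (2 • u)
    rw [Agent.Spor.Leech.norm_two_smul]
    have := norm_U hu
    omega

end Cfsg.Agent.S5553
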