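import Cfsg.Statements.S5557
import Cfsg.Agent.Lib.Fus.SUTwoRadical.Seven

set_option autoImplicit false
open Cfsg

namespace Cfsg.Agent.S5557

/-- Let G be a finite group generated by a conjugacy class D of 3-transpositions, with trivial centre and with generalized Fitting subgroup F*(G) = O₂(G) (so the Fitting subgroup is O₂(G) too). If G/O₂(G) is isomorphic to SU₇(2), then O₂(G) is elementary abelian. No complement is asserted. -/
theorem result {G : Type*} [Group G] [Finite G] {D : Set G} (hD : Cfsg.IsThreeTranspositionClass D)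
    (hZ : Subgroup.center G = ⊥) (hF : Cfsg.generalizedFittingSubgroup G = Cfsg.pCore 2 G)
    (hq : ∃ (F : Type) (_ : Field F) (_ : Fintype F), Fintype.card F = 4 ∧ Nonempty (G ⧸ Cfsg.pCore 2 G ≃* ↥(Cfsg.SU 7 F 2))) :
    Cfsg.IsElementaryAbelian 2 (Cfsg.pCore 2 G) := by
  obtain ⟨F, _, _, hF4, ⟨θ⟩⟩ := hq
  haveI : (Cfsg.pCore 2 G).Normal := Cfsg.Agent.Transfer.pCore_normal' 2 G
  obtain ⟨ρ, h, hk, hcl, hex⟩ := Cfsg.Agent.Fus.SUTwoRadical.exists_lift hD (by norm_num) (by norm_num) hF4 θ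
  exact Cfsg.Agent.Fus.SUTwoRadical.Seven.elementary h hD hZ hk hcl hex

end Cfsg.Agent.S5557
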