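import Cfsg.Statements.S5558
import Cfsg.Agent.Lib.Grp.TranspModule.Unique
-- import your own Cfsg.Agent.* helpers here

set_option autoImplicit false
open Cfsg

namespace Cfsg.Agent.S5558

/-- Let G be a finite group generated by a conjugacy class D of 3-transpositions, with trivial centre and with generalized Fitting subgroup F*(G) = O₂(G) (so the Fitting subgroup is O₂(G) too). If moreover O₂(G) is elementary abelian, then D is the only conjugacy class of 3-transpositions generating G. -/
theorem result {G : Type*} [Group G] [Finite G] {D : Set G} (hD : Cfsg.IsThreeTranspositionClass D)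
    (hZ : Subgroup.center G = ⊥) (hF : Cfsg.generalizedFittingSubgroup G = Cfsg.pCore 2 G)
    (hV : Cfsg.IsElementaryAbelian 2 (Cfsg.pCore 2 G)) :
    ∀ E : Set G, Cfsg.IsThreeTranspositionClass E → E = D := by
  intro E hE
  haveI : (Cfsg.pCore 2 G).Normal := Cfsg.Agent.Transfer.pCore_normal' 2 G
  haveI : IsMulCommutative (Cfsg.pCore 2 G) := hV.1
  have hab : ∀ a ∈ Cfsg.pCore 2 G, ∀ b ∈ Cfsg.pCore 2 G, Commute a b := fun a ha b hb =>
    congrArg Subtype.val (hV.1.is_comm.comm (⟨a, ha⟩ : Cfsg.pCore 2 G) ⟨b, hb⟩)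
  refine Cfsg.Agent.Grp.TranspModule.unique (V := Cfsg.pCore 2 G)
    ⟨hab, fun a ha => by rw [← pow_two]; exact hV.2 a ha, fun g hg => ?_, rfl, hZ⟩ hD hE
  have h := Cfsg.Agent.Grp.centralizer_gfitting_le (G := G)
  rw [hF] at h
  exact h (Subgroup.mem_centralizer_iff.mpr fun v hv => (hg v hv).symm)

end Cfsg.Agent.S5558
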