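import Cfsg.Statements.S5561
import Cfsg.Agent.Lib.Spor.ThreePowerProducts

set_option autoImplicit false
open Cfsg

namespace Cfsg.Agent.S5561

open Cfsg.Agent.Spor

/-- The case p = 3 of the Z*-type result for involution classes. Let G be a finite group and d an involution of G such that the product of any two conjugates of d has order a power of 3. Then the product of any two conjugates of d lies in O₃(G); so the conjugacy class of d lies in the coset O₃(G)d. -/
theorem result {G : Type*} [Group G] [Finite G] (d : G) (hd : orderOf d = 2)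
    (hprod : ∀ a ∈ conjugatesOf d, ∀ b ∈ conjugatesOf d, ∃ k : ℕ, orderOf (a * b) = 3 ^ k) :
    ∀ a ∈ conjugatesOf d, ∀ b ∈ conjugatesOf d, a * b ∈ Cfsg.pCore 3 G := by
  intro a ha b hb
  obtain ⟨g, rfl⟩ := isConj_iff.mp ha
  obtain ⟨h, rfl⟩ := isConj_iff.mp hb
  have hp : ∀ k : G, ∃ n : ℕ, orderOf (d * (k * d * k⁻¹)) = 3 ^ n := fun k =>
    hprod d (IsConj.refl d) _ (isConj_iff.mpr ⟨k, rfl⟩)
  have hm := ThreePower.mul_conj_mem_pCore hd hp
  haveI := Transfer.pCore_normal' 3 G
  have hdd : d * d = 1 := by rw [← pow_two, ← hd, pow_orderOf_eq_one]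
  rw [show g * d * g⁻¹ * (h * d * h⁻¹) = g * (d * ((g⁻¹ * h) * d * (g⁻¹ * h)⁻¹)) * g⁻¹ by group]
  exact Subgroup.Normal.conj_mem inferInstance _ (hm _) g

end Cfsg.Agent.S5561
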