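import Cfsg.Statements.S5562
import Mathlib
-- import your own Cfsg.Agent.* helpers here

set_option autoImplicit false
open Cfsg

namespace Cfsg.Agent.S5562

section
variable {G : Type*} [Group G]

theorem inv_of_two {a : G} (h : orderOf a = 2) : a⁻¹ = a :=
  inv_eq_of_mul_eq_one_right (by have h' := pow_orderOf_eq_one a; rwa [h, pow_two] at h')

theorem semiconj_pow {a b : G} (ha : a⁻¹ = a) (hb : b⁻¹ = b) (n : ℕ) :
    a * (a * b) ^ n = ((a * b) ^ n)⁻¹ * a ∧ b * (a * b) ^ n = ((a * b) ^ n)⁻¹ * b := by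
  have aa : a * a = 1 := mul_eq_one_iff_eq_inv.mpr ha.symm
  have bb : b * b = 1 := mul_eq_one_iff_eq_inv.mpr hb.symm
  have h1 : SemiconjBy a (a * b) (a * b)⁻¹ := by
    show a * (a * b) = (a * b)⁻¹ * a
    rw [mul_inv_rev, ha, hb, ← mul_assoc, aa, one_mul, mul_assoc, aa, mul_one]
  have h2 : SemiconjBy b (a * b) (a * b)⁻¹ := by
    show b * (a * b) = (a * b)⁻¹ * b
    rw [mul_inv_rev, ha, hb, mul_assoc]
  refine ⟨?_, ?_⟩
  · have h := h1.pow_right n; rw [inv_pow] at h; exact h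
  · have h := h2.pow_right n; rw [inv_pow] at h; exact h

/-- The central involution of a dihedral group of twice even order. -/
theorem central_involution [Finite G] {a b : G} (ha : orderOf a = 2) (hb : orderOf b = 2) {k : ℕ} (hk : orderOf (a * b) = 2 * k) :
    Commute a ((a * b) ^ k) ∧ Commute b ((a * b) ^ k) ∧ (a * b) ^ k ≠ 1 ∧
      (IsConj a (a * (a * b) ^ k) ∨ IsConj b (a * (a * b) ^ k)) := by
  have ia := inv_of_two ha
  have ib := inv_of_two hb
  have hz : ((a * b) ^ k)⁻¹ = (a * b) ^ k := inv_eq_of_mul_eq_one_right (by rw [← pow_add, ← two_mul, ← hk, pow_orderOf_eq_one])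
  refine ⟨?_, ?_, ?_, ?_⟩
  · have := (semiconj_pow ia ib k).1; rwa [hz] at this
  · have := (semiconj_pow ia ib k).2; rwa [hz] at this
  · intro e
    have hpos := orderOf_pos (a * b)
    have := Nat.le_of_dvd (by omega) (orderOf_dvd_of_pow_eq_one e)
    omega
  · obtain ⟨i, rfl | rfl⟩ := Nat.even_or_odd' k
    · left
      rw [isConj_iff]
      refine ⟨((a * b) ^ i)⁻¹, ?_⟩
      rw [inv_inv, ← (semiconj_pow ia ib i).1, two_mul, pow_add, mul_assoc]
    · right
      rw [isConj_iff]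
      refine ⟨((a * b) ^ i)⁻¹, ?_⟩
      have e : a * (a * b) = b := by rw [← mul_assoc, mul_eq_one_iff_eq_inv.mpr ia.symm, one_mul]
      rw [inv_inv, ← (semiconj_pow ia ib i).2, show 2 * i + 1 = 1 + (i + i) by omega, pow_add, pow_one, ← mul_assoc a, e, pow_add, mul_assoc]

/-- Two involutions with product of odd order are conjugate by a power of the product. -/
theorem odd_conj {a b : G} (ha : orderOf a = 2) (hb : orderOf b = 2) (h : Odd (orderOf (a * b))) :
    ∃ i : ℕ, ((a * b) ^ i)⁻¹ * a * (a * b) ^ i = b := by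
  obtain ⟨j, hj⟩ := h
  have ia := inv_of_two ha
  have ib := inv_of_two hb
  refine ⟨j + 1, ?_⟩
  rw [← (semiconj_pow ia ib (j + 1)).1, mul_assoc, ← pow_add, show j + 1 + (j + 1) = orderOf (a * b) + 1 by omega,
    pow_add, pow_orderOf_eq_one, one_mul, pow_one, ← mul_assoc, mul_eq_one_iff_eq_inv.mpr ia.symm, one_mul]

end

/-- Let G be a finite group, d an involution of G whose conjugates pairwise have products of odd order, and x any involution of G. Then the conjugacy class of d is the disjoint union, over the conjugates a of d commuting with x, of the sets of conjugates of d commuting with ax: every conjugate of d commutes with ax for exactly one conjugate a of d that commutes with x. -/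
theorem result {G : Type*} [Group G] [Finite G] (d : G) (hd : orderOf d = 2)
    (hodd : ∀ a ∈ conjugatesOf d, ∀ b ∈ conjugatesOf d, Odd (orderOf (a * b)))
    (x : G) (hx : orderOf x = 2) :
    ∀ e ∈ conjugatesOf d,
      ∃! a : G, a ∈ conjugatesOf d ∧ Commute a x ∧ Commute e (a * x) := by
  classical
  intro e he
  have ho : ∀ a ∈ conjugatesOf d, orderOf a = 2 := by
    intro a ha
    obtain ⟨g, rfl⟩ := isConj_iff.mp (show IsConj d a from ha)
    exact (orderOf_injective (MulAut.conj g).toMonoidHom (MulAut.conj g).injective d).trans hd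
  have hcl : ∀ a ∈ conjugatesOf d, ∀ g : G, g * a * g⁻¹ ∈ conjugatesOf d := fun a ha g =>
    show IsConj d (g * a * g⁻¹) from (show IsConj d a from ha).trans (isConj_iff.mpr ⟨g, rfl⟩)
  let F : conjugatesOf d → conjugatesOf d := fun a => ⟨(a : G) * e * (a : G)⁻¹, hcl e he a⟩
  have hsurj : Function.Surjective F := by
    rintro ⟨f, hf⟩
    obtain ⟨j, hj⟩ := hodd e he f hf
    have ie := inv_of_two (ho e he)
    have if' := inv_of_two (ho f hf)
    set r := e * f with hr
    have hper : r ^ (2 * j + 1) = 1 := hj ▸ pow_orderOf_eq_one r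
    obtain ⟨i, hi⟩ : ∃ i : ℕ, r ^ (2 * (2 * i)) = r := by
      refine ⟨(j + 1) * (j + 1), ?_⟩
      rw [show 2 * (2 * ((j + 1) * (j + 1))) = (2 * j + 1) * (2 * j + 3) + 1 by ring, pow_add, pow_mul, hper, one_pow, one_mul, pow_one]
    refine ⟨⟨(r ^ i)⁻¹ * e * (r ^ i)⁻¹⁻¹, hcl e he _⟩, Subtype.ext ?_⟩
    have sc := fun n => (semiconj_pow ie if' n).1
    have ha : (r ^ i)⁻¹ * e * (r ^ i)⁻¹⁻¹ = e * r ^ (2 * i) := by
      rw [inv_inv, ← sc i, two_mul, pow_add, mul_assoc]
    show (r ^ i)⁻¹ * e * (r ^ i)⁻¹⁻¹ * e * ((r ^ i)⁻¹ * e * (r ^ i)⁻¹⁻¹)⁻¹ = f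
    rw [ha]
    have ee : e * e = 1 := mul_eq_one_iff_eq_inv.mpr ie.symm
    have e1 : (e * r ^ (2 * i))⁻¹ = e * r ^ (2 * i) := by rw [mul_inv_rev, ie, ← sc]
    rw [e1, show e * r ^ (2 * i) * e * (e * r ^ (2 * i)) = e * (r ^ (2 * i) * (e * e) * r ^ (2 * i)) by group,
      ee, mul_one, ← pow_add, ← two_mul, hi, hr, ← mul_assoc, ee, one_mul]
  have hinj : Function.Injective F := Finite.injective_iff_surjective.mpr hsurj
  have ix := inv_of_two hx
  have xx : x * x = 1 := mul_eq_one_iff_eq_inv.mpr ix.symm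
  obtain ⟨⟨a, ha⟩, haF⟩ := hsurj ⟨x * e * x⁻¹, hcl e he x⟩
  have hF : a * e * a⁻¹ = x * e * x⁻¹ := congrArg Subtype.val haF
  have ia := inv_of_two (ho a ha)
  have aa : a * a = 1 := mul_eq_one_iff_eq_inv.mpr ia.symm
  have hae : a * (x * e * x⁻¹) * a⁻¹ = e := by
    rw [← hF, ia]
    calc a * (a * e * a) * a = a * a * e * (a * a) := by group
      _ = e := by rw [aa, one_mul, mul_one]
  have hax : x * a * x⁻¹ = a := by
    have : (⟨x * a * x⁻¹, hcl a ha x⟩ : conjugatesOf d) = ⟨a, ha⟩ := by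
      refine hinj (Subtype.ext ?_)
      show x * a * x⁻¹ * e * (x * a * x⁻¹)⁻¹ = a * e * a⁻¹
      rw [hF]
      have : x⁻¹ * e * x = x * e * x⁻¹ := by rw [ix]
      calc x * a * x⁻¹ * e * (x * a * x⁻¹)⁻¹ = x * (a * (x⁻¹ * e * x) * a⁻¹) * x⁻¹ := by group
        _ = x * e * x⁻¹ := by rw [this, hae]
    exact congrArg Subtype.val this
  have haxc : Commute a x := (mul_inv_eq_iff_eq_mul.mp hax).symm
  refine ⟨a, ⟨ha, haxc, ?_⟩, ?_⟩
  · have : (a * x) * e * (a * x)⁻¹ = e := by
      calc _ = a * (x * e * x⁻¹) * a⁻¹ := by group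
        _ = e := hae
    exact (mul_inv_eq_iff_eq_mul.mp this).symm
  · rintro u ⟨hu, -, hue⟩
    have iu := inv_of_two (ho u hu)
    have uu : u * u = 1 := mul_eq_one_iff_eq_inv.mpr iu.symm
    have h1 : u * (x * e * x⁻¹) * u⁻¹ = e := by
      calc u * (x * e * x⁻¹) * u⁻¹ = (u * x) * e * (u * x)⁻¹ := by group
        _ = e := by rw [← hue.eq, mul_inv_cancel_right]
    have h2 : u * e * u⁻¹ = x * e * x⁻¹ := by
      conv_lhs => rw [← h1, iu]
      calc u * (u * (x * e * x⁻¹) * u) * u = u * u * (x * e * x⁻¹) * (u * u) := by group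
        _ = _ := by rw [uu, one_mul, mul_one]
    exact congrArg Subtype.val (hinj (Subtype.ext (h2.trans hF.symm)) : (⟨u, hu⟩ : conjugatesOf d) = ⟨a, ha⟩)

end Cfsg.Agent.S5562
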