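import Cfsg.Statements.S5563
import Cfsg.Agent.Lib.Spor.JFourType.OddCore

set_option autoImplicit false
open Cfsg

namespace Cfsg.Agent.S5563

/-- Let G be a finite non-abelian simple group of Janko-four type (an involution z whose centralizer H has an extraspecial largest normal 2-subgroup E of order 2^13 containing its centralizer in H, a normal subgroup N ≥ E of H with N/E of order 3 and H/N the automorphism group of M₂₂, and a subgroup P ≤ N of order 3 with C_E(P) = ⟨z⟩, N_H(P) ≠ C_H(P) and P ≤ C_H(P)′). Then the centralizer of P in H is the perfect sixfold cover of M₂₂ — it is perfect, its centre is cyclic of order 6 and its central quotient is isomorphic to M₂₂ — and the normalizer of P in G lies in H. -/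
theorem result {G : Type*} [Group G] [Finite G] [IsSimpleGroup G] (hG : ¬ IsMulCommutative G) (z : G) (P : Subgroup G) (hJ : Cfsg.IsOfJankoFourTypeWith z P) :
    ⁅(Subgroup.centralizer ({z} : Set G) ⊓ Subgroup.centralizer (P : Set G)), (Subgroup.centralizer ({z} : Set G) ⊓ Subgroup.centralizer (P : Set G))⁆ = (Subgroup.centralizer ({z} : Set G) ⊓ Subgroup.centralizer (P : Set G)) ∧
    IsCyclic ↥(Subgroup.center ↥(Subgroup.centralizer ({z} : Set G) ⊓ Subgroup.centralizer (P : Set G))) ∧ Nat.card ↥(Subgroup.center ↥(Subgroup.centralizer ({z} : Set G) ⊓ Subgroup.centralizer (P : Set G))) = 6 ∧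
    Cfsg.Spor.IsoM22 (↥(Subgroup.centralizer ({z} : Set G) ⊓ Subgroup.centralizer (P : Set G)) ⧸ Subgroup.center ↥(Subgroup.centralizer ({z} : Set G) ⊓ Subgroup.centralizer (P : Set G))) ∧ Subgroup.normalizer (P : Set G) ≤ Subgroup.centralizer ({z} : Set G) := by
  obtain ⟨S⟩ := Agent.Spor.JFour.exists_setting hJ
  obtain ⟨Fr⟩ := Agent.Spor.JFour.exists_frameA S
  set f := Agent.Spor.JFour.Frame.ψH (S := S) with hf
  have hker : Subgroup.center ↥(Agent.Spor.JFour.CP z P) = f.ker := by
    ext c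
    rw [Subgroup.mem_center_iff, MonoidHom.mem_ker]
    constructor
    · intro h
      refine Subtype.ext (Agent.Spor.JFour.Setting.M22_center (S.ψ_mem c c.2) fun g hg => ?_)
      obtain ⟨d, hd, rfl⟩ := S.ψ_surj g hg
      change S.ψ d * S.ψ c = S.ψ c * S.ψ d
      rw [← S.ψ_mul _ hd _ c.2, ← S.ψ_mul _ c.2 _ hd]
      exact congrArg S.ψ (congrArg Subtype.val (h ⟨d, hd⟩))
    · intro h d
      exact Subtype.ext (S.ker_central c.2 (congrArg Subtype.val h) d.2).symm
  have hsurj : Function.Surjective f := Agent.Spor.JFour.Frame.ψH_surjective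
  have hcard : Nat.card ↥(Subgroup.center ↥(Agent.Spor.JFour.CP z P)) = 6 := by
    have h := f.ker.card_mul_index
    rw [Subgroup.index_ker, MonoidHom.range_eq_top.2 hsurj, Subgroup.card_top, Agent.Fus.Mathieu.card22, S.cardC,
      ← hker] at h
    omega
  refine ⟨Fr.perfect hG, ?_, hcard, ⟨(QuotientGroup.quotientMulEquivOfEq hker).trans
    (QuotientGroup.quotientKerEquivOfSurjective f hsurj)⟩, Fr.normalizer_P_le hG⟩
  have hzp : z * S.p ∈ Agent.Spor.JFour.CP z P := mul_mem S.z_mem S.p_mem
  have hmem : (⟨z * S.p, hzp⟩ : ↥(Agent.Spor.JFour.CP z P)) ∈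
      Subgroup.center ↥(Agent.Spor.JFour.CP z P) := by
    rw [hker, MonoidHom.mem_ker]
    exact Subtype.ext (by
      show S.ψ (z * S.p) = 1
      rw [S.ψ_mul _ S.z_mem _ S.p_mem, S.ψ_z, S.ψ_p, one_mul])
  refine isCyclic_of_orderOf_eq_card (⟨_, hmem⟩ : ↥(Subgroup.center ↥(Agent.Spor.JFour.CP z P))) ?_
  rw [hcard, ← Subgroup.orderOf_coe, ← Subgroup.orderOf_coe]
  have h2 : orderOf z = 2 := orderOf_eq_prime (by rw [pow_two, S.zz]) S.ext.ne
  have h3 : orderOf S.p = 3 := orderOf_eq_prime (by rw [pow_three']; exact S.p_pow) S.p_ne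
  show orderOf (z * S.p) = 6
  rw [(show Commute z S.p from S.pz.symm).orderOf_mul_eq_mul_orderOf_of_coprime (by rw [h2, h3]; norm_num), h2, h3]

end Cfsg.Agent.S5563
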