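import Cfsg.Statements.S5565
import Cfsg.Agent.Lib.Spor.JFourType.ThreeGroup

set_option autoImplicit false
open Cfsg
open scoped Pointwise

namespace Cfsg.Agent.S5565

/-- Let G be a finite non-abelian simple group of Janko-four type (an involution z whose centralizer H has an extraspecial largest normal 2-subgroup E of order 2^13 containing its centralizer in H, a normal subgroup N ≥ E of H with N/E of order 3 and H/N the automorphism group of M₂₂, and a subgroup P ≤ N of order 3 with C_E(P) = ⟨z⟩, N_H(P) ≠ C_H(P) and P ≤ C_H(P)′). Then a Sylow 3-subgroup R of G contained in H is extraspecial of order 27 and exponent 3, its normalizer in G lies in H, and that normalizer has order 864. -/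
theorem result {G : Type*} [Group G] [Finite G] [IsSimpleGroup G] (hG : ¬ IsMulCommutative G) (z : G) (hJ : Cfsg.IsOfJankoFourTypeAt z) (R : Sylow 3 G) (hR : (R : Subgroup G) ≤ Subgroup.centralizer ({z} : Set G)) :
    Cfsg.IsExtraspecial 3 ↥(R : Subgroup G) ∧ Nat.card ↥(R : Subgroup G) = 27 ∧ Monoid.exponent ↥(R : Subgroup G) = 3 ∧
    Subgroup.normalizer ((R : Subgroup G) : Set G) ≤ Subgroup.centralizer ({z} : Set G) ∧ Nat.card ↥(Subgroup.normalizer ((R : Subgroup G) : Set G)) = 864 := by
  haveI : Fact (Nat.Prime 3) := ⟨Nat.prime_three⟩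
  obtain ⟨P, hJ⟩ := hJ
  obtain ⟨S⟩ := Agent.Spor.JFour.exists_setting hJ
  obtain ⟨Fr⟩ := Agent.Spor.JFour.exists_frameA S
  set U := Fr.F.R with hU
  set T := Fr.sylowThree hG U with hT
  set H := Subgroup.centralizer ({z} : Set G) with hH
  have hle : U.grp ≤ H := le_trans U.grp_le inf_le_left
  let e : ↥U.grp ≃* ↥(R : Subgroup G) := Sylow.equiv T R
  have hcard : Nat.card ↥(R : Subgroup G) = 27 := by rw [← Nat.card_congr e.toEquiv, U.card_grp]
  have hna : ¬ IsMulCommutative ↥(R : Subgroup G) := fun hc => U.x_comm_y_ne (congrArg Subtype.val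
    (e.injective (show e (⟨U.y, U.y_mem_grp⟩ * ⟨U.x, U.x_mem_grp⟩) = e (⟨U.x, U.x_mem_grp⟩ * ⟨U.y, U.y_mem_grp⟩) by
      rw [map_mul, map_mul]; exact hc.is_comm.comm _ _)))
  have hcube : ∀ r : ↥(R : Subgroup G), r ^ 3 = 1 := fun r => e.symm.injective (by
    rw [map_pow, map_one, pow_three']
    exact Subtype.ext (U.grp_cube (e.symm r).2))
  -- conjugate inside the centraliser
  obtain ⟨h, hh⟩ := MulAction.exists_smul_eq ↥H (T.subtype (N := H) hle) (R.subtype hR)
  have hmap : U.grp.map (MulAut.conj (h : G)).toMonoidHom = (R : Subgroup G) := by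
    refine Subgroup.eq_of_le_of_card_ge ?_ (by
      rw [hcard, Subgroup.card_map_of_injective (MulAut.conj (h : G)).injective, U.card_grp])
    rintro _ ⟨r, hr, rfl⟩
    have hmem : (⟨r, hle hr⟩ : ↥H) ∈ ((T.subtype (N := H) hle : Sylow 3 ↥H) : Subgroup ↥H) :=
      Subgroup.mem_subgroupOf.2 hr
    have h1 := Subgroup.smul_mem_pointwise_smul _ (MulAut.conj h) _ hmem
    change _ ∈ ((h • T.subtype (N := H) hle : Sylow 3 ↥H) : Subgroup ↥H) at h1
    rw [hh] at h1
    exact h1
  have hN : Subgroup.normalizer (U.grp : Set G) ≤ H := le_trans U.normalizer_grp_le (Fr.normalizer_P_le hG)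
  refine ⟨Agent.Fus.extraspecial_of_cube (by rw [hcard]; norm_num) hna, hcard, ?_, ?_, ?_⟩
  · rcases (Nat.dvd_prime Nat.prime_three).1 (Monoid.exponent_dvd_of_forall_pow_eq_one hcube) with h1 | h1
    · refine absurd ?_ hna
      haveI := Monoid.exp_eq_one_iff.1 h1
      exact ⟨⟨fun a b => Subsingleton.elim _ _⟩⟩
    · exact h1
  · rw [← hmap, ← Subgroup.map_equiv_normalizer_eq]
    rintro _ ⟨n, hn, rfl⟩
    exact mul_mem (mul_mem h.2 (hN hn)) (inv_mem h.2)
  · rw [← hmap, ← Subgroup.map_equiv_normalizer_eq,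
      Subgroup.card_map_of_injective (MulAut.conj (h : G)).injective, Fr.card_normalizer_grp hG U]

end Cfsg.Agent.S5565
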