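import Cfsg.Statements.S5568
import Cfsg.Agent.Lib.Spor.JFourType.OrbitExcl
import Cfsg.Agent.Lib.Spor.JFourType.SylowG
import Cfsg.Agent.Lib.Spor.JFourType.Mathieu.SecondCentralizer

set_option autoImplicit false
open Cfsg
open scoped Pointwise

namespace Cfsg.Agent.S5568

/-- Let G be a finite non-abelian simple group of Janko-four type (an involution z whose centralizer H has an extraspecial largest normal 2-subgroup E of order 2^13 containing its centralizer in H, a normal subgroup N ≥ E of H with N/E of order 3 and H/N the automorphism group of M₂₂, and a subgroup P ≤ N of order 3 with C_E(P) = ⟨z⟩, N_H(P) ≠ C_H(P) and P ≤ C_H(P)′). Let V be an elementary abelian subgroup of G of order 2^11. Then under conjugation by the normalizer of V the non-identity elements of V fall into an orbit of length 1771 consisting of conjugates of z and an orbit of length 276 consisting of involutions t not conjugate to z, and for such t the centralizer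 of t in G lies in the normalizer of V. -/
theorem result {G : Type*} [Group G] [Finite G] [IsSimpleGroup G] (hG : ¬ IsMulCommutative G) (z : G) (hJ : Cfsg.IsOfJankoFourTypeAt z) (V : Subgroup G) (hV : Cfsg.IsElementaryAbelian 2 V) (hcard : Nat.card ↥V = 2 ^ 11) :
    ∃ z' t : G, z' ∈ V ∧ t ∈ V ∧ t ≠ 1 ∧ IsConj z z' ∧ ¬ IsConj z t ∧
    Set.ncard {v : G | ∃ n ∈ Subgroup.normalizer (V : Set G), n * z' * n⁻¹ = v} = 1771 ∧
    Set.ncard {v : G | ∃ n ∈ Subgroup.normalizer (V : Set G), n * t * n⁻¹ = v} = 276 ∧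
    Subgroup.centralizer ({t} : Set G) ≤ Subgroup.normalizer (V : Set G) := by
  classical
  haveI : Fact (Nat.Prime 2) := ⟨Nat.prime_two⟩
  obtain ⟨P, hJ⟩ := hJ
  obtain ⟨S⟩ := Agent.Spor.JFour.exists_setting hJ
  obtain ⟨Fr⟩ := Agent.Spor.JFour.exists_frameA S
  -- the group is conjugate to the standard one
  obtain ⟨s, hs⟩ : ∃ s : G, V = Fr.A.map (MulAut.conj s).toMonoidHom := by
    obtain ⟨Q, hQ⟩ := (IsPGroup.of_card (p := 2) (n := 11) hcard).exists_le_sylow
    obtain ⟨h, hh⟩ := MulAction.exists_smul_eq G Q Fr.F.sylowT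
    have hle : V.map (MulAut.conj h).toMonoidHom ≤ Fr.F.T := by
      rintro _ ⟨x, hx, rfl⟩
      have h1 : (MulAut.conj h) • x ∈ (MulAut.conj h) • (Q : Subgroup G) :=
        Subgroup.smul_mem_pointwise_smul _ _ _ (hQ hx)
      change _ ∈ ((h • Q : Sylow 2 G) : Subgroup G) at h1
      rw [hh] at h1
      exact h1
    have e := Fr.unique_in_T hle (by
      rintro _ ⟨a, ha, rfl⟩ _ ⟨b, hb, rfl⟩
      rw [← map_mul, ← map_mul]
      congr 1
      exact congrArg Subtype.val (hV.1.is_comm.comm ⟨a, ha⟩ ⟨b, hb⟩)) (by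
      rintro _ ⟨a, ha, rfl⟩
      rw [← map_mul, ← pow_two, hV.2 a ha, map_one]) (by
      rw [Subgroup.card_map_of_injective (MulAut.conj h).injective, hcard])
    refine ⟨h⁻¹, ?_⟩
    rw [← e, Subgroup.map_map]
    ext x
    constructor
    · exact fun hx => ⟨x, hx, by show h⁻¹ * (h * x * h⁻¹) * h⁻¹⁻¹ = x; group⟩
    · rintro ⟨y, hy, rfl⟩
      show h⁻¹ * (h * y * h⁻¹) * h⁻¹⁻¹ ∈ V
      rwa [show h⁻¹ * (h * y * h⁻¹) * h⁻¹⁻¹ = y by group]
  have hnorm : Subgroup.normalizer (V : Set G) =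
      (Subgroup.normalizer (Fr.A : Set G)).map (MulAut.conj s).toMonoidHom := by
    rw [hs]; exact (Subgroup.map_equiv_normalizer_eq Fr.A (MulAut.conj s)).symm
  have horb : ∀ a : G, Set.ncard {v : G | ∃ n ∈ Subgroup.normalizer (V : Set G), n * (s * a * s⁻¹) * n⁻¹ = v} =
      Nat.card {x : G // ∃ n ∈ Subgroup.normalizer (Fr.A : Set G), n * a * n⁻¹ = x} := fun a => by
    rw [← Nat.card_coe_set_eq]
    refine (Nat.card_eq_of_bijective (fun x : {x : G // ∃ n ∈ Subgroup.normalizer (Fr.A : Set G), n * a * n⁻¹ = x} =>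
      (⟨s * x.1 * s⁻¹, ?_⟩ : {v : G | ∃ n ∈ Subgroup.normalizer (V : Set G), n * (s * a * s⁻¹) * n⁻¹ = v})) ⟨?_, ?_⟩).symm
    · obtain ⟨n, hn, e⟩ := x.2
      refine ⟨s * n * s⁻¹, hnorm ▸ ⟨n, hn, rfl⟩, ?_⟩
      rw [← e]; group
    · intro x y e
      exact Subtype.ext (mul_left_cancel (mul_right_cancel (congrArg Subtype.val e)))
    · rintro ⟨v, m, hm, e⟩
      rw [hnorm] at hm
      obtain ⟨n, hn, rfl⟩ := hm
      refine ⟨⟨n * a * n⁻¹, n, hn, rfl⟩, Subtype.ext ?_⟩
      show s * (n * a * n⁻¹) * s⁻¹ = v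
      rw [← e]
      show _ = s * n * s⁻¹ * (s * a * s⁻¹) * (s * n * s⁻¹)⁻¹
      group
  have hfus : Fr.Classes := fun v hv => Fr.inO_iff hG hv
  have D := Fr.duadic hG
  -- the duads form one orbit
  obtain ⟨f, -, hsurj, hf⟩ := Fr.exists_toM24 D
  set a0 := Agent.Spor.Golay.base5 0 with ha0
  set b0 := Agent.Spor.Golay.base5 1 with hb0
  have hab0 : a0 ≠ b0 := by rw [ha0, hb0]; decide +kernel
  set v0 := Agent.Spor.JFour.Mathieu.cN (Agent.Spor.Golay.idx a0) ^^^
    Agent.Spor.JFour.Mathieu.cN (Agent.Spor.Golay.idx b0) with hv0d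
  have hv0 : v0 < 2048 := Agent.Spor.JFour.Frame.duad_lt a0 b0
  have hT0 : Agent.Spor.JFour.Mathieu.tMask.testBit v0 = true := Agent.Spor.JFour.Mathieu.duad_mask hab0
  have h00 : v0 ≠ 0 := fun e => by
    rw [e, Agent.Spor.JFour.Mathieu.mask_check.2.2.2] at hT0
    exact Bool.noConfusion hT0
  have hcard2 : Nat.card {x : G // ∃ n ∈ Subgroup.normalizer (Fr.A : Set G), n * Fr.Av v0 * n⁻¹ = x} = 276 := by
    have hn : ((Finset.range 2048).filter fun v => Agent.Spor.JFour.Mathieu.tMask.testBit v = true).card = 276 := by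
      decide +kernel
    rw [← hn, ← Nat.card_eq_finsetCard]
    refine (Nat.card_eq_of_bijective
      (fun v : {v // v ∈ (Finset.range 2048).filter fun v => Agent.Spor.JFour.Mathieu.tMask.testBit v = true} =>
      (⟨Fr.Av v.1, ?_⟩ : {x : G // ∃ n ∈ Subgroup.normalizer (Fr.A : Set G), n * Fr.Av v0 * n⁻¹ = x})) ⟨?_, ?_⟩).symm
    · obtain ⟨hv, hT⟩ := Finset.mem_filter.1 v.2
      obtain ⟨c, d, hcd, ev⟩ := Agent.Spor.JFour.Mathieu.mask_duad (Finset.mem_range.1 hv) hT
      obtain ⟨e1, he1⟩ := Finset.card_pos.1 (show 0 < ((Finset.univ.erase c).erase d).card by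
        rw [Finset.card_erase_of_mem (by simp [Ne.symm hcd]), Finset.card_erase_of_mem (Finset.mem_univ c),
          Finset.card_univ, Agent.Spor.Golay.card_golayPt]; norm_num)
      obtain ⟨e2, he2⟩ := Finset.card_pos.1 (show 0 < (((Finset.univ.erase c).erase d).erase e1).card by
        rw [Finset.card_erase_of_mem he1, Finset.card_erase_of_mem (by simp [Ne.symm hcd]),
          Finset.card_erase_of_mem (Finset.mem_univ c), Finset.card_univ, Agent.Spor.Golay.card_golayPt]; norm_num)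
      obtain ⟨e3, he3⟩ := Finset.card_pos.1 (show 0 < ((((Finset.univ.erase c).erase d).erase e1).erase e2).card by
        rw [Finset.card_erase_of_mem he2, Finset.card_erase_of_mem he1, Finset.card_erase_of_mem (by simp [Ne.symm hcd]),
          Finset.card_erase_of_mem (Finset.mem_univ c), Finset.card_univ, Agent.Spor.Golay.card_golayPt]; norm_num)
      simp only [Finset.mem_erase, Finset.mem_univ, and_true] at he1 he2 he3
      obtain ⟨g, hg, eg⟩ := Agent.Spor.Golay.exists_base5 ⟨![c, d, e1, e2, e3], by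
        intro i j
        fin_cases i <;> fin_cases j <;> simp [hcd, Ne.symm hcd, he1.1, he1.2, Ne.symm he1.1, Ne.symm he1.2,
          he2.1, he2.2.1, he2.2.2, Ne.symm he2.1, Ne.symm he2.2.1, Ne.symm he2.2.2, he3.1, he3.2.1, he3.2.2.1,
          he3.2.2.2, Ne.symm he3.1, Ne.symm he3.2.1, Ne.symm he3.2.2.1, Ne.symm he3.2.2.2]⟩
      obtain ⟨n, hn'⟩ := hsurj ⟨g, hg⟩
      refine ⟨n, n.2, ?_⟩
      obtain ⟨w, hw, ew⟩ := Fr.mem_A.1 ((Subgroup.mem_normalizer_iff.1 n.2 _).1 (Fr.Av_mem hv0))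
      have h1 := Fr.actV_vb n hv0 hw ew.symm
      rw [hv0d, Agent.Spor.JFour.Mathieu.duad_eq, hf n a0 b0 hab0, hn'] at h1
      rw [← ew]
      refine congrArg Fr.Av (Agent.Spor.JFour.Mathieu.vb_inj hw (Finset.mem_range.1 hv) ?_)
      rw [← h1, ← ev, Agent.Spor.JFour.Mathieu.duad_eq]
      have ec : g a0 = c := eg 0
      have ed : g b0 = d := eg 1
      rw [← ec, ← ed]
    · intro v w e
      exact Subtype.ext (Fr.Av_inj (Finset.mem_range.1 (Finset.mem_filter.1 v.2).1)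
        (Finset.mem_range.1 (Finset.mem_filter.1 w.2).1) (congrArg Subtype.val e))
    · rintro ⟨x, n, hn', e⟩
      obtain ⟨w, hw, hT, ew⟩ := D.duad n hn' v0 hv0 hT0
      exact ⟨⟨w, Finset.mem_filter.2 ⟨Finset.mem_range.2 hw, hT⟩⟩, Subtype.ext (ew.symm.trans e)⟩
  have hcard1 : Nat.card {x : G // ∃ n ∈ Subgroup.normalizer (Fr.A : Set G), n * z * n⁻¹ = x} = 1771 := by
    have h := Agent.Spor.JFour.card_conj_orbit (Subgroup.normalizer (Fr.A : Set G)) z
    rw [Fr.card_normalizer hG, Fr.card_normalizer_H] at h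
    omega
  refine ⟨s * z * s⁻¹, s * Fr.Av v0 * s⁻¹, hs ▸ ⟨z, Fr.z_mem_A, rfl⟩, hs ▸ ⟨_, Fr.Av_mem hv0, rfl⟩, fun e => ?_,
    isConj_iff.2 ⟨s, rfl⟩, fun hc => ?_, (horb z).trans hcard1, (horb _).trans hcard2, ?_⟩
  · refine h00 (Fr.Av_inj hv0 (by norm_num) ?_)
    rw [Fr.Av_zero]
    exact conj_eq_one_iff.1 e
  · obtain ⟨g, hg⟩ := isConj_iff.1 hc
    have h := ((hfus v0 hv0).1 ⟨s⁻¹ * g, by
      rw [show s⁻¹ * g * z * (s⁻¹ * g)⁻¹ = s⁻¹ * (g * z * g⁻¹) * s by group, hg]; group⟩).2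
    rw [hT0] at h
    exact Bool.noConfusion h
  · intro x hx
    rw [Subgroup.mem_centralizer_singleton_iff] at hx
    rw [hnorm]
    refine ⟨s⁻¹ * x * s, Fr.centralizer_le_normalizer D hfus hv0 hT0 (Subgroup.mem_centralizer_singleton_iff.2 ?_), ?_⟩
    · calc s⁻¹ * x * s * Fr.Av v0 = s⁻¹ * (x * (s * Fr.Av v0 * s⁻¹)) * s := by group
        _ = s⁻¹ * ((s * Fr.Av v0 * s⁻¹) * x) * s := by rw [hx]
        _ = _ := by group
    · show s * (s⁻¹ * x * s) * s⁻¹ = x
      group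

end Cfsg.Agent.S5568
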