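import Cfsg.Prelude
import Cfsg.Agent.Lib.Spor.JFourType.Penta.Transfer
import Cfsg.Agent.Lib.Spor.JFourType.Penta.Split

set_option autoImplicit false
open Cfsg

namespace Cfsg.Agent.S5570

/-- Let G be a finite non-abelian simple group of Janko-four type (an involution z whose centralizer H has an extraspecial largest normal 2-subgroup E of order 2^13 containing its centralizer in H, a normal subgroup N ≥ E of H with N/E of order 3 and H/N the automorphism group of M₂₂, and a subgroup P ≤ N of order 3 with C_E(P) = ⟨z⟩, N_H(P) ≠ C_H(P) and P ≤ C_H(P)′). Then G has self-centralizing elementary abelian subgroups of order 2^10, any two of them are conjugate, and for such a subgroup A the normalizer of A is a split extension of A by a complement isomorphic to L₅(2) under which A has no proper non-trivial invariant subgroup. -/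
theorem result {G : Type*} [Group G] [Finite G] [IsSimpleGroup G] (hG : ¬ IsMulCommutative G) (hJ : Cfsg.IsOfJankoFourType G) :
    (∃ A : Subgroup G, Cfsg.IsElementaryAbelian 2 A ∧ Nat.card ↥A = 2 ^ 10 ∧ Subgroup.centralizer (A : Set G) = A) ∧
    (∀ A A' : Subgroup G, Cfsg.IsElementaryAbelian 2 A → Nat.card ↥A = 2 ^ 10 → Subgroup.centralizer (A : Set G) = A → Cfsg.IsElementaryAbelian 2 A' → Nat.card ↥A' = 2 ^ 10 → Subgroup.centralizer (A' : Set G) = A' → ∃ g : G, A' = A.map (MulAut.conj g).toMonoidHom) ∧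
    ∀ A : Subgroup G, Cfsg.IsElementaryAbelian 2 A → Nat.card ↥A = 2 ^ 10 → Subgroup.centralizer (A : Set G) = A →
      (∃ B : Subgroup G, B ≤ Subgroup.normalizer (A : Set G) ∧ B ⊓ A = ⊥ ∧ B ⊔ A = Subgroup.normalizer (A : Set G) ∧
        Nonempty (↥B ≃* Matrix.SpecialLinearGroup (Fin 5) (ZMod 2))) ∧
      ∀ W : Subgroup G, W ≤ A → Subgroup.normalizer (A : Set G) ≤ Subgroup.normalizer (W : Set G) → W = ⊥ ∨ W = A := by
  obtain ⟨z, P, S, ⟨B⟩⟩ := Agent.Spor.JFour.exists_pen_of hG hJ
  refine ⟨⟨B.A0, B.A0_elem, B.card_A0, B.centralizer_A0⟩, fun A A' hA hc hs hA' hc' hs' => ?_, fun A hA hc hs => ?_⟩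
  · obtain ⟨g, hg⟩ := B.exists_conj_A0 (Agent.Spor.JFour.SelfTen.of hA hc hs)
    obtain ⟨g', hg'⟩ := B.exists_conj_A0 (Agent.Spor.JFour.SelfTen.of hA' hc' hs')
    exact ⟨g'⁻¹ * g, by rw [← Agent.Spor.JFour.map_conj_conj, hg, Agent.Spor.JFour.map_conj_inv hg']⟩
  · obtain ⟨g, hg⟩ := B.exists_conj_A0 (Agent.Spor.JFour.SelfTen.of hA hc hs)
    have hinv := Agent.Spor.JFour.map_conj_inv hg
    obtain ⟨K, hKN, hKA, hKsup, ⟨e⟩⟩ := B.exists_complement
    set φ := (MulAut.conj g⁻¹).toMonoidHom with hφ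
    have hinj : Function.Injective φ := (MulAut.conj g⁻¹).injective
    have hN : (Subgroup.normalizer (B.A0 : Set G)).map φ = Subgroup.normalizer (A : Set G) := by
      refine le_antisymm ?_ fun n hn => ?_
      · rintro _ ⟨n, hn, rfl⟩
        have := Agent.Spor.JFour.mem_normalizer_map (g := g⁻¹) hn
        rw [hinv] at this
        exact this
      · have := Agent.Spor.JFour.mem_normalizer_map (g := g) hn
        rw [hg] at this
        exact ⟨_, this, by simp [φ, mul_assoc]⟩
    refine ⟨⟨K.map φ, ?_, ?_, ?_, ⟨(K.equivMapOfInjective φ hinj).symm.trans e⟩⟩, fun W hW hWN => ?_⟩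
    · rw [← hN]; exact Subgroup.map_mono hKN
    · rw [← hinv, ← Subgroup.map_inf _ _ _ hinj, hKA, Subgroup.map_bot]
    · rw [← hN, ← hinv, ← Subgroup.map_sup, hKsup]
    · have h0 : W.map (MulAut.conj g).toMonoidHom ≤ B.A0 := hg ▸ Subgroup.map_mono hW
      have hW' : (W.map (MulAut.conj g).toMonoidHom).map φ = W := Agent.Spor.JFour.map_conj_inv rfl
      rcases B.irreducible _ h0 (fun n hn => by
        have hn' : g⁻¹ * n * g⁻¹⁻¹ ∈ Subgroup.normalizer (W : Set G) := hWN (by
          have := Agent.Spor.JFour.mem_normalizer_map (g := g⁻¹) hn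
          rwa [hinv] at this)
        have := Agent.Spor.JFour.mem_normalizer_map (g := g) hn'
        rwa [show g * (g⁻¹ * n * g⁻¹⁻¹) * g⁻¹ = n by group] at this) with h | h
      · exact Or.inl (by rw [← hW', h, Subgroup.map_bot])
      · exact Or.inr (by rw [← hW', h, hinv])

end Cfsg.Agent.S5570
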