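import Cfsg.Statements.S5574
import Cfsg.Agent.Lib.Spor.JFourType.Pentad.Local

set_option autoImplicit false
open Cfsg

namespace Cfsg.Agent.S5574

/-- Let G be a finite non-abelian simple group of Janko-four type (an involution z whose centralizer H has an extraspecial largest normal 2-subgroup E of order 2^13 containing its centralizer in H, a normal subgroup N ≥ E of H with N/E of order 3 and H/N the automorphism group of M₂₂, and a subgroup P ≤ N of order 3 with C_E(P) = ⟨z⟩, N_H(P) ≠ C_H(P) and P ≤ C_H(P)′). Then G has a special 2-subgroup L of order 2^15 with centre of order 8 whose normalizer M satisfies: M/L is isomorphic to the direct product of the symmetric group of degree 5 and L₃(2); L has no complement in M; M nevertheless contains subgroups isomorphic to the symmetric group of degree 5 and to L₃(2); and M contains the normalizer of some Sylow 5-subgroup and of some Sylow 7-subgroup of G. -/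
theorem result {G : Type*} [Group G] [Finite G] [IsSimpleGroup G] (hG : ¬ IsMulCommutative G) (hJ : Cfsg.IsOfJankoFourType G) :
    ∃ L : Subgroup G, Cfsg.IsSpecial 2 ↥L ∧ Nat.card ↥L = 2 ^ 15 ∧ Nat.card ↥(Subgroup.center ↥L) = 8 ∧
    Nonempty (↥(Subgroup.normalizer (L : Set G)) ⧸ L.subgroupOf (Subgroup.normalizer (L : Set G)) ≃* Equiv.Perm (Fin 5) × Matrix.SpecialLinearGroup (Fin 3) (ZMod 2)) ∧
    (∀ K : Subgroup ↥(Subgroup.normalizer (L : Set G)), ¬ (L.subgroupOf (Subgroup.normalizer (L : Set G))).IsComplement' K) ∧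
    (∃ K₁ : Subgroup G, K₁ ≤ Subgroup.normalizer (L : Set G) ∧ Nonempty (↥K₁ ≃* Equiv.Perm (Fin 5))) ∧
    (∃ K₂ : Subgroup G, K₂ ≤ Subgroup.normalizer (L : Set G) ∧ Nonempty (↥K₂ ≃* Matrix.SpecialLinearGroup (Fin 3) (ZMod 2))) ∧
    (∃ Q : Sylow 5 G, Subgroup.normalizer ((Q : Subgroup G) : Set G) ≤ Subgroup.normalizer (L : Set G)) ∧
    (∃ S : Sylow 7 G, Subgroup.normalizer ((S : Subgroup G) : Set G) ≤ Subgroup.normalizer (L : Set G)) := by
  obtain ⟨z, P, hJ⟩ := hJ
  obtain ⟨S⟩ := Agent.Spor.JFour.exists_setting hJ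
  obtain ⟨Fr⟩ := Agent.Spor.JFour.exists_frameA S
  obtain ⟨K⟩ := Fr.exists_kap (Fr.duadic hG)
  have hN := K.normalizer_L
  obtain ⟨hQ7, hK1⟩ := K.seven hG
  refine ⟨K.L, K.special, K.card_L, K.card_center, ?_, fun C hC => ?_, by rw [hN]; exact hK1,
    by rw [hN]; exact K.linear, by rw [hN]; exact K.five hG, by rw [hN]; exact hQ7⟩
  · haveI : (K.L.subgroupOf (Subgroup.normalizer (K.L : Set G))).Normal := inferInstance
    set f := ((Finite.equivFinOfCardEq (Agent.Spor.JFour.Frame.card_others K).2).permCongrHom.prodCongr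
      (MulEquiv.refl (Matrix.SpecialLinearGroup (Fin 3) (ZMod 2)))).toMonoidHom.comp
      ((Agent.Spor.JFour.Frame.Phi Fr).comp (MulEquiv.subgroupCongr hN).toMonoidHom) with hf
    have hker : f.ker = K.L.subgroupOf (Subgroup.normalizer (K.L : Set G)) := by
      ext n
      rw [MonoidHom.mem_ker, Subgroup.mem_subgroupOf, hf, MonoidHom.comp_apply, MonoidHom.comp_apply,
        MulEquiv.coe_toMonoidHom, MulEquiv.map_eq_one_iff, ← MonoidHom.mem_ker, K.Phi_ker, Subgroup.mem_subgroupOf]
      rfl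
    have hsurj : Function.Surjective f := by
      rw [hf]
      simp only [MonoidHom.coe_comp, MulEquiv.coe_toMonoidHom]
      exact (MulEquiv.surjective _).comp (K.Phi_surjective.comp (MulEquiv.surjective _))
    exact ⟨(QuotientGroup.quotientMulEquivOfEq hker.symm).trans (QuotientGroup.quotientKerEquivOfSurjective f hsurj)⟩
  · refine K.no_complement (C.map (Subgroup.normalizer (K.L : Set G)).subtype)
      (hN ▸ Subgroup.map_subtype_le C) ?_ fun n hn => ?_
    · refine Subgroup.eq_bot_iff_forall _ |>.2 ?_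
      rintro _ ⟨⟨c, hc, rfl⟩, hL⟩
      have := hC.disjoint.le_bot (x := c) ⟨hL, hc⟩
      rw [Subgroup.mem_bot] at this
      rw [this]
      rfl
    · have hn' : n⁻¹ ∈ Subgroup.normalizer (K.L : Set G) := by rw [hN]; exact inv_mem hn
      obtain ⟨⟨l, c⟩, hu, -⟩ := Subgroup.isComplement'_def.1 hC |>.existsUnique ⟨n⁻¹, hn'⟩
      refine ⟨l.1.1, l.2, c.1⁻¹, inv_mem c.2, ?_⟩
      have e := congrArg Subtype.val hu
      change ((l.1 : G)) * (c.1 : G) = n⁻¹ at e
      show (c.1 : G)⁻¹ = n * (l.1 : G)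
      rw [show (c.1 : G) = (l.1 : G)⁻¹ * n⁻¹ by rw [← e]; group]
      group

end Cfsg.Agent.S5574
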