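import Cfsg.Statements.S5594
import Cfsg.Agent.Lib.Spor.Leech.Monomial

set_option autoImplicit false
open Cfsg

namespace Cfsg.Agent.S5594

open Cfsg.Agent.Spor

theorem projInv_mem : projInv ∈ M24 :=
  Golay.mem_M24_of_fun projInvFun (fun _ => rfl) (by decide +kernel)

theorem dod_mem : Golay.pts 16375860 ∈ supports (golayCode : Set (GolayPt → ZMod 2)) :=
  Golay.mem_supports.2 ⟨16375860, Golay.mem_codeList.2 (by decide +kernel), rfl⟩

theorem dod_swap : ∀ p, (projInv p ∈ Golay.pts 16375860 ↔ p ∉ Golay.pts 16375860) ∧ projInv (projInv p) = p := by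
  decide +kernel

theorem square_neg : Leech.mono projInv_mem dod_mem * Leech.mono projInv_mem dod_mem = Leech.negCo := by
  refine Leech.ext_axis fun i => ?_
  rw [mul_smul, Leech.negCo_apply, Leech.mono_axis]
  have h := dod_swap i
  have h' := dod_swap (projInv i)
  by_cases hi : projInv i ∈ Golay.pts 16375860
  · rw [if_pos hi, Leech.co_neg, Leech.mono_axis, h.2, if_neg (h.1.1 hi)]
  · rw [if_neg hi, Leech.mono_axis, h.2, if_pos (by by_contra hc; exact hi (h.1.2 hc))]

/-- The automorphism group of the Leech lattice contains the negation map, and the subgroup of order 2 it generates has no complement: the automorphism group is a non-split extension of its quotient by that subgroup (it is not the direct product of a group of order 2 with the first Conway group). -/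
theorem result :
    ∃ n : ↥Cfsg.Co0, (∀ v : ↥Cfsg.leechLattice, ((n • v : ↥Cfsg.leechLattice) : Cfsg.GolayPt → ℤ) = -(v : Cfsg.GolayPt → ℤ)) ∧
    ∀ K : Subgroup ↥Cfsg.Co0, ¬ (Subgroup.zpowers n).IsComplement' K := by
  refine ⟨Agent.Spor.Leech.negCo, fun v => by rw [Agent.Spor.Leech.negCo_apply]; rfl, fun K hK => ?_⟩
  have hne := Agent.Spor.Leech.negCo_ne_one
  have hord : orderOf Agent.Spor.Leech.negCo = 2 := by
    refine orderOf_eq_prime ?_ hne
    rw [pow_two]
    refine Agent.Spor.Leech.ext_axis fun i => ?_
    rw [mul_smul, Agent.Spor.Leech.negCo_apply, Agent.Spor.Leech.negCo_apply, neg_neg, one_smul]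
  have hidx : K.index = 2 := by
    rw [hK.index_eq_card, Nat.card_zpowers, hord]
  have hn : Agent.Spor.Leech.negCo ∈ K := square_neg ▸ Subgroup.mul_self_mem_of_index_two hidx _
  exact hne (Subgroup.disjoint_def.1 hK.disjoint (Subgroup.mem_zpowers _) hn)

end Cfsg.Agent.S5594
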