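import Cfsg.Statements.S5596
import Cfsg.Agent.Lib.Spor.ExtraPairU

set_option autoImplicit false
open Cfsg

namespace Cfsg.Agent.S5596

/-- Setting: `z` is an involution of the finite group `G`; for each element `x`, `Q x` is the largest normal 2-subgroup of the centralizer of `x`; `Q z` is extraspecial and contains its own centralizer in `G`. A subgroup `U` is singular when it is elementary abelian, every non-identity element of `U` is conjugate to `z`, and any two non-identity elements `u`, `v` of `U` are orthogonal (`v ∈ Q u`). Write `QU` for the intersection of the `Q u` and `LU` for the join of the `Q u` over the non-identity `u` in `U`. If `U` is singular of order `2 ^ n` with `n ≥ 2`, then `U ≤ QU ≤ LU`, `LU` normalizes `U`, and `LU` induces on `U` its full automorphism group (the general linear group of dimension `n` over the field with two elements): every automorphism of `U` is conjugation by some element of `LU`.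 -/
theorem result {G : Type*} [Group G] [Finite G]
    (Q : G → Subgroup G)
    (hQ : ∀ x : G, Q x = (Cfsg.pCore 2 ↥(Subgroup.centralizer ({x} : Set G))).map (Subgroup.centralizer ({x} : Set G)).subtype)
    (z : G) (hz : orderOf z = 2) (hE : Cfsg.IsExtraspecial 2 ↥(Q z))
    (hC : Subgroup.centralizer ((Q z : Subgroup G) : Set G) ≤ Q z)
    (U : Subgroup G) (hU2 : ∀ u ∈ U, u * u = 1)
    (hS : ∀ u ∈ U, u ≠ 1 → ∃ g : G, g * z * g⁻¹ = u)
    (hO : ∀ u ∈ U, ∀ v ∈ U, u ≠ 1 → v ≠ 1 → v ∈ Q u)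
    (QU LU : Subgroup G) (hQU : QU = ⨅ u ∈ ((U : Set G) \ {1}), Q u) (hLU : LU = ⨆ u ∈ ((U : Set G) \ {1}), Q u)
    (n : ℕ) (hn : 2 ≤ n) (hcard : Nat.card ↥U = 2 ^ n) :
    U ≤ QU ∧ QU ≤ LU ∧ LU ≤ Subgroup.normalizer (U : Set G) ∧
      ∀ φ : ↥U ≃* ↥U, ∃ g ∈ LU, ∀ u : ↥U, g * (u : G) * g⁻¹ = ((φ u : ↥U) : G) := by
  open Cfsg.Agent.Spor.ExtraPair in
  have H := rel_of hQ hz hE hC hU2 hS hO
  have hleLU : ∀ u ∈ U, u ≠ 1 → Q u ≤ LU := fun u hu hu1 q hq => by
    rw [hLU]; exact Subgroup.mem_iSup_of_mem u (Subgroup.mem_iSup_of_mem ⟨hu, hu1⟩ hq)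
  obtain ⟨u₀, hu₀, hu₀1⟩ : ∃ u ∈ U, u ≠ 1 := by
    by_contra hcon
    simp only [not_exists, not_and, not_not] at hcon
    have : U = ⊥ := le_bot_iff.1 fun u hu => hcon u hu
    rw [this, Subgroup.card_bot] at hcard
    have : 2 ^ 1 ≤ 2 ^ n := Nat.pow_le_pow_right (by norm_num) (by omega)
    omega
  refine ⟨?_, ?_, ?_, ?_⟩
  · rw [hQU]
    intro v hv
    simp only [Subgroup.mem_iInf]
    exact fun u hu => H.other u hu.1 v hv hu.2
  · rw [hQU]
    exact (iInf₂_le u₀ ⟨hu₀, hu₀1⟩).trans (hleLU u₀ hu₀ hu₀1)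
  · rw [hLU]
    refine iSup₂_le fun u hu q hq => Subgroup.mem_normalizer_iff.2 fun v => ⟨H.conj_mem hu.1 hu.2 hq, fun hv => ?_⟩
    simpa [mul_assoc] using H.conj_mem hu.1 hu.2 (inv_mem hq) hv
  intro φ
  let fam : Set (Subgroup G) := {K | K ≤ U ∧ ∃ g ∈ LU, ∀ u : ↥U, (u : G) ∈ K → g * (u : G) * g⁻¹ = ((φ u : ↥U) : G)}
  obtain ⟨K, ⟨hKU, g, hg, hgK⟩, hmax⟩ := Set.exists_max_image fam (fun K => Nat.card K) (Set.toFinite _)
    ⟨⊥, bot_le, 1, one_mem _, fun u hu => by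
      obtain rfl : u = 1 := Subtype.ext hu
      simp⟩
  by_cases hKe : K = U
  · exact ⟨g, hg, fun u => hgK u (hKe ▸ u.2)⟩
  exfalso
  obtain ⟨v, hvU, hvK⟩ := SetLike.exists_of_lt (lt_of_le_of_ne hKU hKe)
  have hLUn : ∀ c ∈ LU, ∀ w ∈ U, c * w * c⁻¹ ∈ U := by
    have : LU ≤ Subgroup.normalizer (U : Set G) := by
      rw [hLU]
      refine iSup₂_le fun u hu q hq => Subgroup.mem_normalizer_iff.2 fun v => ⟨H.conj_mem hu.1 hu.2 hq, fun hv => ?_⟩
      simpa [mul_assoc] using H.conj_mem hu.1 hu.2 (inv_mem hq) hv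
    exact fun c hc w hw => (Subgroup.mem_normalizer_iff.1 (this hc) w).1 hw
  set w := g⁻¹ * ((φ ⟨v, hvU⟩ : ↥U) : G) * g with hw
  have hwU : w ∈ U := by
    have := hLUn g⁻¹ (inv_mem hg) _ (φ ⟨v, hvU⟩).2
    rwa [inv_inv] at this
  -- `w` is outside `K`
  have hwK : w ∉ K := fun hwK => hvK (by
    have e := hgK ⟨w, hwU⟩ hwK
    simp only [hw] at e
    rw [show g * (g⁻¹ * ((φ ⟨v, hvU⟩ : ↥U) : G) * g) * g⁻¹ = ((φ ⟨v, hvU⟩ : ↥U) : G) by group] at e
    have := congrArg Subtype.val (φ.injective (Subtype.ext e))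
    simp only at this
    exact this ▸ hwK)
  obtain ⟨c, hc, hcK, hcv⟩ : ∃ c ∈ LU, (∀ k ∈ K, c * k * c⁻¹ = k) ∧ c * v * c⁻¹ = w := by
    by_cases hvw : v = w
    · exact ⟨1, one_mem _, fun k _ => by simp, by simp [hvw]⟩
    have hu : v * w ∈ U := mul_mem hvU hwU
    have hu1 : v * w ≠ 1 := fun e => hvw (by
      rw [eq_inv_of_mul_eq_one_left e, inv_eq_of_mul_eq_one_right (H.sq w hwU)])
    let K' : Subgroup G :=
      { carrier := {y | y ∈ U ∧ (y ∈ K ∨ v * w * y ∈ K)}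
        one_mem' := ⟨one_mem _, Or.inl (one_mem _)⟩
        mul_mem' := by
          rintro a b ⟨ha, ha'⟩ ⟨hb, hb'⟩
          refine ⟨mul_mem ha hb, ?_⟩
          have hau := H.comm ha hu
          rcases ha' with ha' | ha' <;> rcases hb' with hb' | hb'
          · exact Or.inl (mul_mem ha' hb')
          · refine Or.inr ?_
            have := mul_mem ha' hb'
            rwa [← mul_assoc, hau, mul_assoc] at this
          · exact Or.inr (by simpa [mul_assoc] using mul_mem ha' hb')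
          · refine Or.inl ?_
            have := mul_mem ha' hb'
            rwa [show v * w * a * (v * w * b) = v * w * (a * (v * w)) * b by group, hau,
              show v * w * (v * w * a) * b = v * w * (v * w) * (a * b) by group, H.sq _ hu, one_mul] at this
        inv_mem' := by
          rintro a ⟨ha, ha'⟩
          rw [inv_eq_of_mul_eq_one_right (H.sq a ha)]
          exact ⟨ha, ha'⟩ }
    have hvK' : v ∉ K' := by
      rintro ⟨-, h' | h'⟩
      · exact hvK h'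
      · refine hwK ?_
        rwa [H.comm hu hvU, ← mul_assoc, H.sq v hvU, one_mul] at h'
    obtain ⟨c, hc, hcK, hcv⟩ := H.exists_moving hu hu1 (K := K') (x := v)
      ⟨hu, Or.inr (by rw [H.sq _ hu]; exact one_mem _)⟩ (H.other _ hu v hvU hu1)
      (fun k hk => H.other _ hu k hk.1 hu1) hvK' rfl
    refine ⟨c, hleLU _ hu hu1 hc, fun k hk => hcK k ⟨hKU hk, Or.inl hk⟩, ?_⟩
    rw [hcv, ← mul_assoc, H.sq v hvU, one_mul]
  -- the larger subgroup
  let K₂ : Subgroup G :=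
    { carrier := {y | ∃ hy : y ∈ U, (g * c) * y * (g * c)⁻¹ = ((φ ⟨y, hy⟩ : ↥U) : G)}
      one_mem' := ⟨one_mem _, by rw [show (⟨1, one_mem _⟩ : ↥U) = 1 from rfl, map_one]; simp⟩
      mul_mem' := by
        rintro a b ⟨ha, ea⟩ ⟨hb, eb⟩
        refine ⟨mul_mem ha hb, ?_⟩
        rw [← conj_mul, ea, eb, show (⟨a * b, mul_mem ha hb⟩ : ↥U) = ⟨a, ha⟩ * ⟨b, hb⟩ from rfl, map_mul]
        rfl
      inv_mem' := by
        rintro a ⟨ha, ea⟩
        refine ⟨inv_mem ha, ?_⟩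
        rw [← conj_inv, ea, show (⟨a⁻¹, inv_mem ha⟩ : ↥U) = (⟨a, ha⟩)⁻¹ from rfl, map_inv]
        rfl }
  have hK2 : K < K₂ := by
    have hv2 : v ∈ K₂ := ⟨hvU, by
      rw [show g * c * v * (g * c)⁻¹ = g * (c * v * c⁻¹) * g⁻¹ by group, hcv, hw]
      group⟩
    refine SetLike.lt_iff_le_and_exists.2 ⟨fun k hk => ⟨hKU hk, ?_⟩, v, hv2, hvK⟩
    rw [show g * c * k * (g * c)⁻¹ = g * (c * k * c⁻¹) * g⁻¹ by group, hcK k hk]
    exact hgK ⟨k, hKU hk⟩ hk
  have := hmax K₂ ⟨fun y hy => hy.1, g * c, mul_mem hg hc, fun u hu => hu.2⟩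
  exact absurd (Subgroup.eq_of_le_of_card_ge hK2.le this) hK2.ne

end Cfsg.Agent.S5596
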