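import Cfsg.Statements.S5597
import Cfsg.Agent.Lib.Spor.ExtraPairU

set_option autoImplicit false
open Cfsg

namespace Cfsg.Agent.S5597

/-- Setting: `z` is an involution of the finite group `G`; for each element `x`, `Q x` is the largest normal 2-subgroup of the centralizer of `x`; `Q z` is extraspecial and contains its own centralizer in `G`. A subgroup `U` is singular when it is elementary abelian, every non-identity element of `U` is conjugate to `z`, and any two non-identity elements `u`, `v` of `U` are orthogonal (`v ∈ Q u`). Write `QU` for the intersection of the `Q u` and `LU` for the join of the `Q u` over the non-identity `u` in `U`. If `U` is a non-trivial singular subgroup, then `LU` acts trivially on `QU / U` (every commutator of an element of `LU` with an element of `QU` lies in `U`), and for every `x` in `QU` outside `U` the centralizer of `U` in `LU` permutes the coset `x U` transitively: each `x u` with `u ∈ U` is a conjugate of `x` by an element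 of `LU` centralizing `U`. -/
theorem result {G : Type*} [Group G] [Finite G]
    (Q : G → Subgroup G)
    (hQ : ∀ x : G, Q x = (Cfsg.pCore 2 ↥(Subgroup.centralizer ({x} : Set G))).map (Subgroup.centralizer ({x} : Set G)).subtype)
    (z : G) (hz : orderOf z = 2) (hE : Cfsg.IsExtraspecial 2 ↥(Q z))
    (hC : Subgroup.centralizer ((Q z : Subgroup G) : Set G) ≤ Q z)
    (U : Subgroup G) (hU2 : ∀ u ∈ U, u * u = 1)
    (hS : ∀ u ∈ U, u ≠ 1 → ∃ g : G, g * z * g⁻¹ = u)
    (hO : ∀ u ∈ U, ∀ v ∈ U, u ≠ 1 → v ≠ 1 → v ∈ Q u)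
    (QU LU : Subgroup G) (hQU : QU = ⨅ u ∈ ((U : Set G) \ {1}), Q u) (hLU : LU = ⨆ u ∈ ((U : Set G) \ {1}), Q u)
    (hU : U ≠ ⊥) :
    (∀ g ∈ LU, ∀ x ∈ QU, g * x * g⁻¹ * x⁻¹ ∈ U) ∧
      ∀ x ∈ QU, x ∉ U → ∀ u ∈ U, ∃ g ∈ LU ⊓ Subgroup.centralizer (U : Set G), g * x * g⁻¹ = x * u := by
  open Cfsg.Agent.Spor.ExtraPair in
  have H := rel_of hQ hz hE hC hU2 hS hO
  have hx' : ∀ x ∈ QU, ∀ u ∈ U, u ≠ 1 → x ∈ Q u := by
    intro x hx u hu hu1
    rw [hQU] at hx
    simp only [Subgroup.mem_iInf] at hx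
    exact hx u ⟨hu, hu1⟩
  constructor
  · intro g hg x hx
    have hgs : g ∈ Subgroup.closure {g : G | ∃ u ∈ U, u ≠ 1 ∧ g ∈ Q u} := by
      rw [hLU] at hg
      refine (iSup₂_le fun u hu => ?_ : (⨆ u ∈ ((U : Set G) \ {1}), Q u) ≤ _) hg
      intro q hq
      exact Subgroup.subset_closure ⟨u, hu.1, hu.2, hq⟩
    let M : Subgroup G :=
      { carrier := {g | (∀ v ∈ U, g * v * g⁻¹ ∈ U ∧ g⁻¹ * v * g ∈ U) ∧ g * x * g⁻¹ * x⁻¹ ∈ U}
        one_mem' := ⟨fun v hv => by simpa using hv, by simp⟩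
        mul_mem' := by
          rintro a b ⟨ha, ha'⟩ ⟨hb, hb'⟩
          refine ⟨fun v hv => ⟨?_, ?_⟩, ?_⟩
          · have := (ha _ (hb v hv).1).1
            simpa [mul_assoc] using this
          · have := (hb _ (ha v hv).2).2
            simpa [mul_assoc] using this
          · have := mul_mem (ha _ hb').1 ha'
            rw [show a * b * x * (a * b)⁻¹ * x⁻¹ = a * (b * x * b⁻¹ * x⁻¹) * a⁻¹ * (a * x * a⁻¹ * x⁻¹) by group]
            exact this
        inv_mem' := by
          rintro a ⟨ha, ha'⟩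
          refine ⟨fun v hv => ⟨by simpa using (ha v hv).2, by simpa using (ha v hv).1⟩, ?_⟩
          rw [show a⁻¹ * x * a⁻¹⁻¹ * x⁻¹ = (a⁻¹ * (a * x * a⁻¹ * x⁻¹) * a)⁻¹ by group]
          exact inv_mem (ha _ ha').2 }
    suffices hM : g ∈ M from hM.2
    refine (Subgroup.closure_le M).2 ?_ hgs
    rintro q ⟨u, hu, hu1, hq⟩
    refine ⟨fun v hv => ⟨H.conj_mem hu hu1 hq hv, by simpa using H.conj_mem hu hu1 (inv_mem hq) hv⟩, ?_⟩
    rcases (H.ext u hu hu1).conj_eq (hx' x hx u hu hu1) hq with e | e <;> rw [e]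
    · simp
    · rw [(H.ext u hu hu1).central x (hx' x hx u hu hu1), mul_inv_cancel_right]
      exact hu
  · intro x hx hxU u hu
    by_cases hu1 : u = 1
    · exact ⟨1, one_mem _, by simp [hu1]⟩
    obtain ⟨g, hg, hgK, hgx⟩ := H.exists_moving hu hu1 (K := U) hu (hx' x hx u hu hu1)
      (fun k hk => H.other u hu k hk hu1) hxU rfl
    refine ⟨g, ⟨?_, Subgroup.mem_centralizer_iff.2 fun k hk => ?_⟩, hgx⟩
    · rw [hLU]; exact Subgroup.mem_iSup_of_mem u (Subgroup.mem_iSup_of_mem ⟨hu, hu1⟩ hg)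
    · have := hgK k hk
      calc k * g = g * k * g⁻¹ * g := by rw [this]
        _ = g * k := by group

end Cfsg.Agent.S5597
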