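import Cfsg.Statements.S5598
import Cfsg.Agent.Lib.Spor.ExtraPairU

set_option autoImplicit false
open Cfsg

namespace Cfsg.Agent.S5598

open Cfsg.Agent.Spor.ExtraPair in
theorem inf_le_prod {G : Type*} [Group G] [Finite G] {Q : G → Subgroup G} {U : Subgroup G} (H : Rel Q U)
    {a b x : G} (ha : a ∈ U) (hb : b ∈ U) (hab : a * b ≠ 1) (hx : a ≠ 1 → x ∈ Q a) (hx' : b ≠ 1 → x ∈ Q b)
    (hQ : ∀ g x : G, Q (g * x * g⁻¹) = (Q x).map (MulAut.conj g).toMonoidHom) :
    x ∈ Q (a * b) := by
  by_cases ha1 : a = 1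
  · subst ha1; rw [one_mul] at hab ⊢; exact hx' hab
  by_cases hb1 : b = 1
  · subst hb1; rw [mul_one] at hab ⊢; exact hx hab
  have hA := H.ext a ha ha1
  have hB := H.ext b hb hb1
  have hab' : a ≠ b := fun e => hab (by rw [e, H.sq b hb])
  obtain ⟨q, hq, hqa⟩ : ∃ q ∈ Q b, q * a ≠ a * q := by
    by_contra hcon
    simp only [not_exists, not_and, not_not] at hcon
    rcases hB.cen a (H.other b hb a ha hb1) hcon with e | e
    exacts [ha1 e, hab' e]
  have hqa' := ((hB.conj_cases (H.other b hb a ha hb1) hq).resolve_left hqa).2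
  have h1 : q * x * q⁻¹ ∈ Q (a * b) := by
    rw [← hqa', hQ]; exact ⟨x, hx ha1, rfl⟩
  rcases hB.conj_eq (hx' hb1) hq with e | e
  · rwa [e] at h1
  · rw [e] at h1
    have h2 := mul_mem h1 (inv_mem (H.other (a * b) (mul_mem ha hb) b hb hab))
    rwa [mul_inv_cancel_right] at h2

/-- Setting: `z` is an involution of the finite group `G`; for each element `x`, `Q x` is the largest normal 2-subgroup of the centralizer of `x`; `Q z` is extraspecial and contains its own centralizer in `G`. A subgroup `U` is singular when it is elementary abelian, every non-identity element of `U` is conjugate to `z`, and any two non-identity elements `u`, `v` of `U` are orthogonal (`v ∈ Q u`). Write `QU` for the intersection of the `Q u` and `LU` for the join of the `Q u` over the non-identity `u` in `U`. If the singular subgroup `U` is generated by a set `T` of non-identity elements, then `QU` is already the intersection of the `Q t` over `t ∈ T`. -/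
theorem result {G : Type*} [Group G] [Finite G]
    (Q : G → Subgroup G)
    (hQ : ∀ x : G, Q x = (Cfsg.pCore 2 ↥(Subgroup.centralizer ({x} : Set G))).map (Subgroup.centralizer ({x} : Set G)).subtype)
    (z : G) (hz : orderOf z = 2) (hE : Cfsg.IsExtraspecial 2 ↥(Q z))
    (hC : Subgroup.centralizer ((Q z : Subgroup G) : Set G) ≤ Q z)
    (U : Subgroup G) (hU2 : ∀ u ∈ U, u * u = 1)
    (hS : ∀ u ∈ U, u ≠ 1 → ∃ g : G, g * z * g⁻¹ = u)
    (hO : ∀ u ∈ U, ∀ v ∈ U, u ≠ 1 → v ≠ 1 → v ∈ Q u)
    (QU LU : Subgroup G) (hQU : QU = ⨅ u ∈ ((U : Set G) \ {1}), Q u) (hLU : LU = ⨆ u ∈ ((U : Set G) \ {1}), Q u)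
    (T : Set G) (hT : Subgroup.closure T = U) (hT1 : (1 : G) ∉ T) :
    QU = ⨅ t ∈ T, Q t := by
  open Cfsg.Agent.Spor.ExtraPair in
  have H := rel_of hQ hz hE hC hU2 hS hO
  subst hT
  rw [hQU]
  refine le_antisymm ?_ ?_
  · refine le_iInf₂ fun t ht => iInf₂_le t ⟨Subgroup.subset_closure ht, fun e => hT1 (e ▸ ht)⟩
  · intro x hx
    simp only [Subgroup.mem_iInf, Set.mem_sdiff, SetLike.mem_coe, Set.mem_singleton_iff] at hx ⊢
    rintro u ⟨hu, hu1⟩
    suffices key : ∀ u ∈ Subgroup.closure T, u ≠ 1 → x ∈ Q u from key u hu hu1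
    clear hu hu1 u
    intro u hu
    refine Subgroup.closure_induction (p := fun u _ => u ≠ 1 → x ∈ Q u) (fun t ht _ => hx t ht)
      (fun h => absurd rfl h) ?_ ?_ hu
    · intro a b ha hb iha ihb hab
      exact inf_le_prod H ha hb hab iha ihb (Cfsg.Agent.Spor.ExtraPair.core_conj hQ)
    · intro a ha iha hne
      rw [inv_eq_of_mul_eq_one_right (H.sq a ha)] at hne ⊢
      exact iha hne

end Cfsg.Agent.S5598
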