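import Cfsg.Statements.S5600
import Cfsg.Agent.Lib.Spor.Golay.M24Frames

set_option autoImplicit false
open scoped Pointwise
open Cfsg

namespace Cfsg.Agent.S5600

open Cfsg.Agent.Spor.Golay
open scoped Pointwise
theorem six_sets : ∀ c : Bool, (∀ b ∈ (if c then sixA else sixB), ∃ i, base6 c i = pt b) ∧
    ∀ i, ∃ b ∈ (if c then sixA else sixB), base6 c i = pt b := by decide +kernel

/-- The pointwise stabiliser of six points, by type. -/
theorem card_fix (E : Finset Cfsg.GolayPt) (hE : E.card = 6) (c : Bool)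
    (hc : c = true ↔ ∃ o ∈ Cfsg.octads, E ⊆ o) :
    Nat.card {g : Equiv.Perm Cfsg.GolayPt // g ∈ Cfsg.M24 ∧ ∀ p ∈ E, g p = p} =
      if c then 16 else 3 := by
  let x : Fin 6 ↪ Cfsg.GolayPt :=
    (E.equivFinOfCardEq hE).symm.toEmbedding.trans (Function.Embedding.subtype _)
  have hxE : ∀ p, p ∈ E ↔ ∃ i, x i = p := fun p =>
    ⟨fun hp => ⟨E.equivFinOfCardEq hE ⟨p, hp⟩, by simp [x]⟩,
      fun ⟨i, hi⟩ => hi ▸ ((E.equivFinOfCardEq hE).symm i).2⟩
  obtain ⟨g, hg, hgx⟩ := exists_base6 x (c := c) (hc.trans ⟨fun ⟨o, ho, h⟩ =>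
    ⟨o, ho, fun i => h ((hxE _).mpr ⟨i, rfl⟩)⟩, fun ⟨o, ho, h⟩ => ⟨o, ho, fun p hp => by
      obtain ⟨i, rfl⟩ := (hxE p).mp hp
      exact h i⟩⟩)
  obtain ⟨hsA, hsB⟩ := six_sets c
  have hiff : ∀ k : Equiv.Perm Cfsg.GolayPt, (k ∈ Cfsg.M24 ∧ ∀ p ∈ E, k p = p) ↔
      g⁻¹ * k * g ∈ Fix [] (if c then sixA else sixB) := by
    intro k
    rw [mem_Fix]
    constructor
    · rintro ⟨hk, h⟩
      refine ⟨Cfsg.M24.mul_mem (Cfsg.M24.mul_mem (Cfsg.M24.inv_mem hg) hk) hg, by simp,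
        fun b hb => ?_⟩
      obtain ⟨i, hi⟩ := hsA b hb
      rw [← hi, Equiv.Perm.mul_apply, Equiv.Perm.mul_apply, hgx i, h _ ((hxE _).mpr ⟨i, rfl⟩),
        ← hgx i]
      exact Equiv.symm_apply_apply g _
    · rintro ⟨hk, -, h⟩
      refine ⟨by simpa [mul_assoc] using
        Cfsg.M24.mul_mem (Cfsg.M24.mul_mem hg hk) (Cfsg.M24.inv_mem hg), fun p hp => ?_⟩
      obtain ⟨i, rfl⟩ := (hxE p).mp hp
      obtain ⟨b, hb, hi⟩ := hsB i
      have := h b hb
      rw [← hi, Equiv.Perm.mul_apply, Equiv.Perm.mul_apply, Equiv.Perm.inv_eq_iff_eq, hgx i] at this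
      exact this
  rw [Nat.card_congr (Equiv.subtypeEquiv (MulAut.conj g⁻¹).toEquiv
    (q := fun k => k ∈ Fix [] (if c then sixA else sixB)) (fun k => (hiff k).trans (by simp)))]
  cases c
  · exact card_Fix_sixB
  · exact card_Fix_sixA

/-- Every permutation of six points is induced. -/
theorem exists_induced (E : Finset Cfsg.GolayPt) (hE : E.card = 6) (σ : Equiv.Perm ↥E) :
    ∃ g ∈ Cfsg.M24, ∀ p : ↥E, g p = σ p := by
  classical
  let e := (E.equivFinOfCardEq hE).symm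
  let x : Fin 6 ↪ Cfsg.GolayPt := e.toEmbedding.trans (Function.Embedding.subtype _)
  let y : Fin 6 ↪ Cfsg.GolayPt := (e.trans σ).toEmbedding.trans (Function.Embedding.subtype _)
  let c : Bool := decide (∃ o ∈ Cfsg.octads, ∀ i, x i ∈ o)
  have hc : c = true ↔ ∃ o ∈ Cfsg.octads, ∀ i, x i ∈ o := decide_eq_true_iff
  obtain ⟨g, hg, hgx⟩ := exists_base6 x hc
  obtain ⟨h, hh, hhy⟩ := exists_base6 y (c := c) (hc.trans ⟨fun ⟨o, ho, hm⟩ => ⟨o, ho, fun i => by
    have := hm (e.symm (σ (e i)))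
    simpa [x, y] using this⟩, fun ⟨o, ho, hm⟩ => ⟨o, ho, fun i => by
    have := hm (e.symm (σ.symm (e i)))
    simpa [x, y] using this⟩⟩)
  refine ⟨h * g⁻¹, Cfsg.M24.mul_mem hh (Cfsg.M24.inv_mem hg), fun p => ?_⟩
  have e1 : x (e.symm p) = (p : Cfsg.GolayPt) := by simp [x]
  have e2 : y (e.symm p) = (σ p : Cfsg.GolayPt) := by simp [y]
  rw [Equiv.Perm.mul_apply, ← e1, ← hgx, Equiv.Perm.coe_inv, Equiv.symm_apply_apply, hhy, e2]

/-- Although the group of the length-24 code is only 5-transitive on the 24 points, it induces the full symmetric group on every 6-element subset: every permutation of a 6-set E is the restriction of an element of the group mapping E to itself. The pointwise stabiliser of E has order 16 when E lies in an octad and order 3 otherwise; in the latter case the setwise stabiliser of E has order 2160. -/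
theorem result (E : Finset Cfsg.GolayPt) (hE : E.card = 6) : (∀ σ : Equiv.Perm ↥E, ∃ g ∈ Cfsg.M24, ∀ p : ↥E, g p = σ p) ∧ ((∃ o ∈ Cfsg.octads, E ⊆ o) → Nat.card {g : Equiv.Perm Cfsg.GolayPt // g ∈ Cfsg.M24 ∧ ∀ p ∈ E, g p = p} = 16) ∧ ((¬ ∃ o ∈ Cfsg.octads, E ⊆ o) → Nat.card {g : Equiv.Perm Cfsg.GolayPt // g ∈ Cfsg.M24 ∧ ∀ p ∈ E, g p = p} = 3 ∧ Nat.card ↥(MulAction.stabilizer Cfsg.M24 E) = 2160) := by
  classical
  refine ⟨exists_induced E hE, fun h => (card_fix E hE true (iff_of_true rfl h)).trans rfl,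
    fun h => ?_⟩
  have h3 := (card_fix E hE false (iff_of_false (by simp) h)).trans
    (show (if false = true then 16 else 3) = 3 from rfl)
  refine ⟨h3, ?_⟩
  let f : MulAction.stabilizer Cfsg.M24 E →* Equiv.Perm ↥E :=
    { toFun := fun g => (g.1.1).subtypePerm (fun p => apply_mem_of_smul_eq (show g.1.1 • E = E from g.2))
      map_one' := by ext p; rfl
      map_mul' := fun a b => by ext p; rfl }
  have hsurj : Function.Surjective f := by
    intro σ
    obtain ⟨g, hg, hgσ⟩ := exists_induced E hE σ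
    have hst : g • E = E := by
      refine Finset.eq_of_subset_of_card_le (fun q hq => ?_) (by rw [Finset.card_smul_finset])
      obtain ⟨p, hp, rfl⟩ := Finset.mem_smul_finset.mp hq
      rw [Equiv.Perm.smul_def, show g p = σ ⟨p, hp⟩ from hgσ ⟨p, hp⟩]
      exact (σ ⟨p, hp⟩).2
    refine ⟨⟨⟨g, hg⟩, hst⟩, ?_⟩
    exact Equiv.ext fun p => Subtype.ext (hgσ p)
  have hker : Nat.card f.ker = 3 := by
    rw [← h3]
    exact Nat.card_congr
      { toFun := fun g => ⟨g.1.1.1, g.1.1.2, fun p hp =>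
          congrArg Subtype.val (Equiv.ext_iff.mp g.2 ⟨p, hp⟩)⟩
        invFun := fun g => ⟨⟨⟨g.1, g.2.1⟩, by
          show g.1 • E = E
          refine Finset.eq_of_subset_of_card_le (fun q hq => ?_) (by rw [Finset.card_smul_finset])
          obtain ⟨p, hp, rfl⟩ := Finset.mem_smul_finset.mp hq
          rw [Equiv.Perm.smul_def, g.2.2 p hp]
          exact hp⟩, Equiv.ext fun p => Subtype.ext (g.2.2 p.1 p.2)⟩
        left_inv := fun g => rfl
        right_inv := fun g => rfl }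
  have hq := Nat.card_congr (QuotientGroup.quotientKerEquivOfSurjective f hsurj).toEquiv
  rw [Subgroup.card_eq_card_quotient_mul_card_subgroup f.ker, hker, hq,
    Nat.card_perm, Nat.card_eq_fintype_card, Fintype.card_coe, hE]
  decide

end Cfsg.Agent.S5600
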