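import Cfsg.Statements.S5601
import Cfsg.Agent.Lib.Spor.Golay.CensusClasses

set_option autoImplicit false
open scoped Pointwise
open Cfsg

namespace Cfsg.Agent.S5601

open Cfsg.Agent.Spor.Golay Cfsg.Agent.Spor.Golay.Census
open scoped Pointwise

theorem gen_of_card {X : Subgroup ↥Cfsg.M24} (hX : Nat.card X = 3) :
    ∃ x : ↥Cfsg.M24, Subgroup.zpowers x = X ∧ orderOf (x : Equiv.Perm Cfsg.GolayPt) = 3 := by
  haveI : Fact (Nat.Prime 3) := ⟨Nat.prime_three⟩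
  obtain ⟨⟨x, hx⟩, h3⟩ := exists_prime_orderOf_dvd_card' (G := X) 3 (by rw [hX])
  rw [Subgroup.orderOf_mk] at h3
  refine ⟨x, Subgroup.eq_of_le_of_card_ge (Subgroup.zpowers_le.mpr hx) ?_, by rw [Subgroup.orderOf_coe, h3]⟩
  rw [hX, Nat.card_zpowers, h3]

theorem fix_ncard (x : ↥Cfsg.M24) :
    {p : Cfsg.GolayPt | ∀ y ∈ Subgroup.zpowers x, ((y : ↥Cfsg.M24) : Equiv.Perm Cfsg.GolayPt) p = p}.ncard =
      (Finset.univ.filter fun p => (x : Equiv.Perm Cfsg.GolayPt) p = p).card := by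
  rw [← Set.ncard_coe_finset]
  congr 1
  ext p
  simp only [Set.mem_setOf_eq, Finset.coe_filter, Finset.mem_univ, true_and]
  refine ⟨fun h => h x (Subgroup.mem_zpowers x), fun h y hy => ?_⟩
  obtain ⟨n, rfl⟩ := hy
  have : x ∈ MulAction.stabilizer ↥Cfsg.M24 p := h
  exact zpow_mem this n

/-- The group of the length-24 code has exactly two conjugacy classes of subgroups of order 3: a subgroup of order 3 fixes either exactly 6 of the 24 points or none of them, both cases occur, and two subgroups of order 3 with the same number of fixed points are conjugate. -/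
theorem result : (∀ X : Subgroup ↥Cfsg.M24, Nat.card X = 3 → {p : Cfsg.GolayPt | ∀ x ∈ X, ((x : ↥Cfsg.M24) : Equiv.Perm Cfsg.GolayPt) p = p}.ncard = 6 ∨ {p : Cfsg.GolayPt | ∀ x ∈ X, ((x : ↥Cfsg.M24) : Equiv.Perm Cfsg.GolayPt) p = p}.ncard = 0) ∧ (∃ X : Subgroup ↥Cfsg.M24, Nat.card X = 3 ∧ {p : Cfsg.GolayPt | ∀ x ∈ X, ((x : ↥Cfsg.M24) : Equiv.Perm Cfsg.GolayPt) p = p}.ncard = 6) ∧ (∃ X : Subgroup ↥Cfsg.M24, Nat.card X = 3 ∧ {p : Cfsg.GolayPt | ∀ x ∈ X, ((x : ↥Cfsg.M24) : Equiv.Perm Cfsg.GolayPt) p = p}.ncard = 0) ∧ ∀ X Y : Subgroup ↥Cfsg.M24, Nat.card X = 3 → Nat.card Y = 3 → {p : Cfsg.GolayPt | ∀ x ∈ X, ((x : ↥Cfsg.M24) : Equiv.Perm Cfsg.GolayPt) p = p}.ncard = {p : Cfsg.GolayPt | ∀ x ∈ Y, ((x : ↥Cfsg.M24) : Equiv.Perm Cfsg.GolayPt) p = p}.ncard → ∃ k : ↥Cfsg.M24, MulAut.conj k • X = Y := by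
  obtain ⟨he, h6, h0, -⟩ := three_reps
  have hr0 : repThree.getD 0 0 ∈ repThree := by
    conv_rhs => rw [he]
    exact List.mem_cons_self ..
  have hr1 : repThree.getD 1 0 ∈ repThree := by
    conv_rhs => rw [he]
    exact List.mem_cons_of_mem _ (List.mem_cons_self ..)
  obtain ⟨v0, m0, o0⟩ := rep_three_ok hr0
  obtain ⟨v1, m1, o1⟩ := rep_three_ok hr1
  refine ⟨fun X hX => ?_, ⟨Subgroup.zpowers ⟨_, m0⟩, ?_, ?_⟩, ⟨Subgroup.zpowers ⟨_, m1⟩, ?_, ?_⟩,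
    fun X Y hX hY hfix => ?_⟩
  · obtain ⟨x, rfl, hx⟩ := gen_of_card hX
    rw [fix_ncard]
    obtain ⟨k, hk, ⟨hc, -⟩ | ⟨hc, -⟩⟩ := three_classes x.2 hx
    · exact Or.inl hc
    · exact Or.inr hc
  · rw [Nat.card_zpowers, Subgroup.orderOf_mk, o0]
  · rw [fix_ncard, fix_card v0, h6]
  · rw [Nat.card_zpowers, Subgroup.orderOf_mk, o1]
  · rw [fix_ncard, fix_card v1, h0]
  · obtain ⟨x, rfl, hx⟩ := gen_of_card hX
    obtain ⟨y, rfl, hy⟩ := gen_of_card hY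
    rw [fix_ncard, fix_ncard] at hfix
    obtain ⟨k, hk, ⟨hc, e⟩ | ⟨hc, e⟩⟩ := three_classes x.2 hx <;>
      obtain ⟨l, hl, ⟨hc', e'⟩ | ⟨hc', e'⟩⟩ := three_classes y.2 hy <;>
      rw [hc, hc'] at hfix <;>
      first
        | (exfalso; omega)
        | (refine ⟨⟨l⁻¹ * k, mul_mem (inv_mem hl) hk⟩, ?_⟩
           refine (MonoidHom.map_zpowers (MulAut.conj (⟨l⁻¹ * k, mul_mem (inv_mem hl) hk⟩ : ↥Cfsg.M24)).toMonoidHom x).trans ?_
           congr 1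
           refine Subtype.ext ?_
           show l⁻¹ * k * (x : Equiv.Perm Cfsg.GolayPt) * (l⁻¹ * k)⁻¹ = y
           rw [mul_inv_rev, inv_inv, show l⁻¹ * k * (x : Equiv.Perm Cfsg.GolayPt) * (k⁻¹ * l) =
             l⁻¹ * (k * x * k⁻¹) * l by group, e, ← e']
           group)

end Cfsg.Agent.S5601
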