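import Cfsg.Statements.S5603
import Cfsg.Agent.Lib.Spor.Golay.CensusFixed

set_option autoImplicit false
open scoped Pointwise
open Cfsg

namespace Cfsg.Agent.S5603

open Cfsg.Agent.Spor.Golay Cfsg.Agent.Spor.Golay.Census
open scoped Pointwise

/-- A fixed-point-free element of order 3 of the group of the length-24 code maps to themselves exactly 7 sextets and exactly 15 trios. -/
theorem result (g : Equiv.Perm Cfsg.GolayPt) (hg : g ∈ Cfsg.M24) (h₃ : orderOf g = 3) (h₀ : ∀ p, g p ≠ p) : {S : Finset (Finset Cfsg.GolayPt) | S ∈ Cfsg.sextets ∧ g • S = S}.ncard = 7 ∧ {T : Finset (Finset Cfsg.GolayPt) | T ∈ Cfsg.trios ∧ g • T = T}.ncard = 15 := by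
  obtain ⟨ht, hS, hT⟩ := counts_three0
  have hv : valid (repThree.getD 1 0) = true := List.all_eq_true.mp three_checks.2.2.2.2.2.1 _ (by decide +kernel)
  obtain ⟨k, hk, ⟨h6, -⟩ | ⟨-, e⟩⟩ := three_classes hg h₃
  · rw [(fix_zero_iff g).mpr h₀] at h6
    norm_num at h6
  · exact ⟨fixed_sextets hv ht hS hk e, fixed_trios hv ht hT hk e⟩

end Cfsg.Agent.S5603
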