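import Cfsg.Statements.S5607
import Cfsg.Agent.Lib.Spor.Golay.CensusFixed

set_option autoImplicit false
open scoped Pointwise
open Cfsg

namespace Cfsg.Agent.S5607

open Cfsg.Agent.Spor.Golay Cfsg.Agent.Spor.Golay.Census
open scoped Pointwise

/-- For a fixed-point-free involution t of the group of the length-24 code: its centraliser in that group has order 7680, is transitive on the 24 points, and is contained, together with t, in the stabiliser of some sextet. -/
theorem result (t : Equiv.Perm Cfsg.GolayPt) (ht : t ∈ Cfsg.M24) (h₂ : orderOf t = 2) (h₀ : ∀ p, t p ≠ p) : Nat.card {c : Equiv.Perm Cfsg.GolayPt // c ∈ Cfsg.M24 ∧ c * t = t * c} = 7680 ∧ (∀ p q : Cfsg.GolayPt, ∃ c ∈ Cfsg.M24, c * t = t * c ∧ c p = q) ∧ ∃ S ∈ Cfsg.sextets, t • S = S ∧ ∀ c ∈ Cfsg.M24, c * t = t * c → c • S = S := by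
  obtain ⟨k, hk, ⟨h8, -⟩ | ⟨-, e⟩⟩ := two_classes ht h₂
  · rw [(fix_zero_iff t).mpr h₀] at h8
    norm_num at h8
  · have e' : k * t * k⁻¹ = tf := e
    have hconj : ∀ c : Equiv.Perm Cfsg.GolayPt, c ∈ Cfsg.M24 ∧ c * t = t * c ↔ k * c * k⁻¹ ∈ centTf := by
      intro c
      rw [mem_centTf, ← e']
      constructor
      · rintro ⟨hc, hcom⟩
        refine ⟨mul_mem (mul_mem hk hc) (inv_mem hk), ?_⟩
        rw [show k * c * k⁻¹ * (k * t * k⁻¹) = k * (c * t) * k⁻¹ by group, hcom]
        group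
      · rintro ⟨hc, hcom⟩
        refine ⟨?_, ?_⟩
        · have := mul_mem (mul_mem (inv_mem hk) hc) hk
          simpa [mul_assoc] using this
        · rw [show k * c * k⁻¹ * (k * t * k⁻¹) = k * (c * t) * k⁻¹ by group,
            show k * t * k⁻¹ * (k * c * k⁻¹) = k * (t * c) * k⁻¹ by group] at hcom
          exact mul_left_cancel (mul_right_cancel hcom)
    obtain ⟨hS, hS1, hS2⟩ := centTf_sextet
    refine ⟨?_, fun p q => ?_, k⁻¹ • fam (sextU.obj 0), smul_sextet (inv_mem hk) hS, ?_, fun c hc hcom => ?_⟩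
    · rw [← centTf_facts.1]
      exact Nat.card_congr ((MulAut.conj k).toEquiv.subtypeEquiv fun c => (hconj c).trans Iff.rfl)
    · obtain ⟨c, hc, hcp⟩ := centTf_transitive (k p) (k q)
      have h' : k * (k⁻¹ * c * k) * k⁻¹ = c := by group
      obtain ⟨h1, h2⟩ := (hconj (k⁻¹ * c * k)).mpr (h'.symm ▸ hc)
      refine ⟨_, h1, h2, ?_⟩
      rw [Equiv.Perm.mul_apply, Equiv.Perm.mul_apply, hcp]
      simp
    · rw [show t = k⁻¹ * tf * k by rw [← e']; group, mul_smul, mul_smul, smul_inv_smul, hS1]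
    · have := hS2 _ ((hconj c).mp ⟨hc, hcom⟩)
      rw [mul_smul, mul_smul] at this
      exact eq_inv_smul_iff.mpr this

end Cfsg.Agent.S5607
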