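import Cfsg.Statements.S5608
import Cfsg.Agent.Lib.Spor.Golay.CensusFixed

set_option autoImplicit false
open scoped Pointwise
open Cfsg

namespace Cfsg.Agent.S5608

open Cfsg.Agent.Spor.Golay Cfsg.Agent.Spor.Golay.Census
open scoped Pointwise

/-- If an element of order 3 and an involution of the group of the length-24 code commute, then either the element of order 3 has exactly 6 fixed points and the involution exactly 8, or both are fixed-point-free. -/
theorem result (x s : Equiv.Perm Cfsg.GolayPt) (hx : x ∈ Cfsg.M24) (hs : s ∈ Cfsg.M24) (h₃ : orderOf x = 3) (h₂ : orderOf s = 2) (hc : Commute x s) : ((Finset.univ.filter fun p => x p = p).card = 6 ∧ (Finset.univ.filter fun p => s p = p).card = 8) ∨ ((Finset.univ.filter fun p => x p = p).card = 0 ∧ (Finset.univ.filter fun p => s p = p).card = 0) := by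
  obtain ⟨l, hl, hs'⟩ := two_classes hs h₂
  obtain ⟨k, hk, hx'⟩ := three_classes hx h₃
  rcases hs' with ⟨hs8, -⟩ | ⟨hs0, -⟩
  · rcases hx' with ⟨hx6, -⟩ | ⟨hx0, -⟩
    · exact Or.inl ⟨hx6, hs8⟩
    · exfalso
      have hne := (fix_zero_iff x).mp hx0
      set F := Finset.univ.filter fun p => s p = p with hF
      have hFx : ∀ p, p ∈ F → x p ∈ F := fun p hp => by
        rw [hF, Finset.mem_filter] at hp ⊢
        refine ⟨Finset.mem_univ _, ?_⟩
        have := Equiv.congr_fun hc.eq p
        rw [Equiv.Perm.mul_apply, Equiv.Perm.mul_apply, hp.2] at this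
        exact this.symm
      have hx3 : ∀ p, x (x (x p)) = p := fun p => by
        have e := pow_orderOf_eq_one x
        rw [h₃, pow_succ', pow_two] at e
        exact Equiv.congr_fun e p
      let σ : Equiv.Perm ↥F :=
        { toFun := fun p => ⟨x p.1, hFx _ p.2⟩
          invFun := fun p => ⟨x (x p.1), hFx _ (hFx _ p.2)⟩
          left_inv := fun p => Subtype.ext (hx3 p.1)
          right_inv := fun p => Subtype.ext (hx3 p.1) }
      haveI : Fact (Nat.Prime 3) := ⟨Nat.prime_three⟩
      obtain ⟨p, hp⟩ := Equiv.Perm.exists_fixed_point_of_prime (p := 3) (n := 1) (σ := σ)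
        (by rw [Fintype.card_coe, hs8]; norm_num) (Equiv.ext fun p => Subtype.ext (hx3 p.1))
      exact hne p.1 (congrArg Subtype.val hp)
  · refine Or.inr ⟨(fix_zero_iff x).mpr (no_fixed hx hs h₃ h₂ ((fix_zero_iff s).mp hs0) hc), hs0⟩

end Cfsg.Agent.S5608
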