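import Cfsg.Statements.S5609
import Cfsg.Agent.Lib.Spor.Golay.CensusNested
import Cfsg.Agent.Lib.Spor.Golay.CensusOctOct

set_option autoImplicit false
open scoped Pointwise
open Cfsg

namespace Cfsg.Agent.S5609

open Cfsg.Agent.Spor.Golay Cfsg.Agent.Spor.Golay.Census

/-- Parts. -/
noncomputable def L8 : List (Orb × ℕ) := [(octOct0, 8), (octOct1, 0), (octOct2, 4), (octOct3, 2)]

theorem L8_ok : partSetOk octU (fun _ => true) (fun m => pop (5279 &&& m)) L8 = true := by decide +kernel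

theorem certs : (octU.has [15515712] && octU.has [13721920] && octU.has [2916505] && pop (5279 &&& 15515712) == 0 &&
    pop (15515712 &&& 10558) == 0 && pop (5279 &&& 13721920) == 0 && pop (13721920 &&& 2916505) == 0 && pop (2916505 &&& 31554) == 0) = true := by
  decide +kernel

theorem no_common : partSetOk octU (fun m => Nat.beq (pop (5279 &&& m)) 0 && Nat.beq (pop (31554 &&& m)) 0)
    (fun _ => 0) [] = true := by decide +kernel

theorem disjoint_smul {a : Equiv.Perm GolayPt} {i j : ℕ} (h : pop (i &&& j) = 0) :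
    Disjoint (a • pts i) (a • pts j) := by
  rw [Finset.disjoint_iff_inter_eq_empty, ← Finset.smul_finset_inter, ← Finset.card_eq_zero, Finset.card_smul_finset,
    ← card_inter_pts]
  exact h

theorem adj_iff (u v : Cfsg.octads) : (Cfsg.blockGraph Cfsg.octads).Adj u v ↔ Disjoint u.1 v.1 := by
  rw [Cfsg.blockGraph, SimpleGraph.fromRel_adj]
  refine ⟨fun h => h.2.elim id fun h => h.symm, fun h => ⟨fun e => ?_, Or.inl h⟩⟩
  subst e
  rw [disjoint_self] at h
  have := u.2.2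
  rw [h] at this
  simp at this

theorem common' {a : Equiv.Perm GolayPt} (ha : a ∈ Cfsg.M24) {z : Finset GolayPt} (hz : z ∈ Cfsg.octads)
    (h1 : Disjoint (a • pts 5279) z) (h2 : Disjoint (a • pts 31554) z) : False := by
  obtain ⟨-, h⟩ := parts_raw no_common (fun z => (pts 5279 ∩ z).card = 0 ∧ (pts 31554 ∩ z).card = 0) (fun _ => 0)
    (fun m _ => by
      rw [Bool.and_eq_true, ← card_inter_pts, ← card_inter_pts]
      exact ⟨fun h => ⟨Nat.eq_of_beq_eq_true h.1, Nat.eq_of_beq_eq_true h.2⟩, fun h => by rw [h.1, h.2]; decide⟩)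
    (fun _ _ => rfl)
  rw [octU_setSet] at h
  rw [Finset.disjoint_iff_inter_eq_empty, ← Finset.card_eq_zero, card_inter_smul] at h1 h2
  obtain ⟨p, hp, -⟩ := h _ ((octads_smul ha).mp hz) ⟨h1, h2⟩
  exact absurd hp List.not_mem_nil

theorem facts (o o' : Finset GolayPt) (ho : o ∈ Cfsg.octads) (ho' : o' ∈ Cfsg.octads) (hne : o ≠ o') :
    ((o ∩ o').card = 0 ∧ (Cfsg.blockGraph Cfsg.octads).dist ⟨o, ho⟩ ⟨o', ho'⟩ = 1 ∧
      (Cfsg.blockGraph Cfsg.octads).Reachable ⟨o, ho⟩ ⟨o', ho'⟩) ∨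
    ((o ∩ o').card = 4 ∧ (Cfsg.blockGraph Cfsg.octads).dist ⟨o, ho⟩ ⟨o', ho'⟩ = 2 ∧
      (Cfsg.blockGraph Cfsg.octads).Reachable ⟨o, ho⟩ ⟨o', ho'⟩) ∨
    ((o ∩ o').card = 2 ∧ (Cfsg.blockGraph Cfsg.octads).dist ⟨o, ho⟩ ⟨o', ho'⟩ = 3 ∧
      (Cfsg.blockGraph Cfsg.octads).Reachable ⟨o, ho⟩ ⟨o', ho'⟩) := by
  obtain ⟨a0, ha0, e⟩ := exists_smul_octA ho
  subst e
  obtain ⟨hs, hc⟩ := parts_set L8_ok (by decide) (fun _ => True) (fun z => (pts 5279 ∩ z).card)
    (fun _ _ => by simp) (fun m _ => card_inter_pts _ m)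
  rw [octU_setSet] at hc
  obtain ⟨p, hp, hmem, hI⟩ := hc _ ((octads_smul ha0).mp ho') trivial
  rw [← card_inter_smul] at hI
  have move : ∀ (O : Orb) (m : ℕ), O.ok octSG = true → O.obj 0 = [m] → a0⁻¹ • o' ∈ O.setSet →
      ∃ a ∈ Cfsg.M24, a • pts 5279 = a0 • pts 5279 ∧ a • pts m = o' := fun O m hO h0 hz => by
    obtain ⟨g, hg, hag, e⟩ := exists_refine stageOct hO h0 ha0 hz
    exact ⟨a0 * g, hag, by rw [mul_smul, (smul_fam_single _).mp ((mem_Fx.mp hg).2 _ (List.mem_singleton_self _))], e⟩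
  have hu : a0 • pts octA = a0 • pts 5279 := rfl
  have hcert := certs
  simp only [Bool.and_eq_true, beq_iff_eq] at hcert
  obtain ⟨⟨⟨⟨⟨⟨⟨iw, ix⟩, iy⟩, c1⟩, c2⟩, c3⟩, c4⟩, c5⟩ := hcert
  have vert : ∀ (a : Equiv.Perm GolayPt) (m : ℕ), a ∈ Cfsg.M24 → octU.has [m] = true → a • pts m ∈ Cfsg.octads :=
    fun a m ha hm => smul_octad ha (by rw [← octU_setSet]; exact Orb.mem_setSet_of_has hm)
  have h0d : (Cfsg.blockGraph Cfsg.octads).dist ⟨_, ho⟩ ⟨o', ho'⟩ ≠ 0 ∨
      ¬ (Cfsg.blockGraph Cfsg.octads).Reachable ⟨_, ho⟩ ⟨o', ho'⟩ := by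
    by_contra hcc
    push Not at hcc
    exact hne (congrArg Subtype.val (hcc.2.dist_eq_zero_iff.mp hcc.1))
  simp only [L8, List.mem_cons, List.not_mem_nil, or_false] at hp
  rcases hp with rfl | rfl | rfl | rfl
  · refine absurd ?_ hne
    have e1 := Finset.eq_of_subset_of_card_le Finset.inter_subset_left (le_of_eq (ho.2.trans hI.symm))
    have e2 := Finset.eq_of_subset_of_card_le Finset.inter_subset_right (le_of_eq (ho'.2.trans hI.symm))
    exact e1.symm.trans e2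
  · have hadj := (adj_iff ⟨_, ho⟩ ⟨o', ho'⟩).mpr (Finset.disjoint_iff_inter_eq_empty.mpr (Finset.card_eq_zero.mp hI))
    exact Or.inl ⟨hI, SimpleGraph.dist_eq_one_iff_adj.mpr hadj, hadj.reachable⟩
  · obtain ⟨a, ha, ea, eb⟩ := move _ _ octOct2_ok octOct2_zero.1 hmem
    have d1 : (Cfsg.blockGraph Cfsg.octads).Adj ⟨_, ho⟩ ⟨_, vert a _ ha iw⟩ := (adj_iff _ _).mpr (by
      show Disjoint (a0 • pts octA) _; rw [hu, ← ea]; exact disjoint_smul c1)
    have d2 : (Cfsg.blockGraph Cfsg.octads).Adj ⟨_, vert a _ ha iw⟩ ⟨o', ho'⟩ := (adj_iff _ _).mpr (by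
      show Disjoint _ o'; rw [← eb]; exact disjoint_smul c2)
    have hr := d1.reachable.trans d2.reachable
    have hle := SimpleGraph.dist_le (SimpleGraph.Walk.cons d1 (SimpleGraph.Walk.cons d2 SimpleGraph.Walk.nil))
    have h1 : (Cfsg.blockGraph Cfsg.octads).dist ⟨_, ho⟩ ⟨o', ho'⟩ ≠ 1 := fun h => by
      have hd := Finset.disjoint_iff_inter_eq_empty.mp ((adj_iff _ _).mp (SimpleGraph.dist_eq_one_iff_adj.mp h))
      have h0 : ((a0 • pts 5279) ∩ o').card = 0 := Finset.card_eq_zero.mpr hd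
      simp only at hI
      omega
    simp only [SimpleGraph.Walk.length_cons, SimpleGraph.Walk.length_nil] at hle
    exact Or.inr (Or.inl ⟨hI, by have := h0d.resolve_right (not_not.mpr hr); omega, hr⟩)
  · obtain ⟨a, ha, ea, eb⟩ := move _ _ octOct3_ok octOct3_zero.1 hmem
    have d1 : (Cfsg.blockGraph Cfsg.octads).Adj ⟨_, ho⟩ ⟨_, vert a _ ha ix⟩ := (adj_iff _ _).mpr (by
      show Disjoint (a0 • pts octA) _; rw [hu, ← ea]; exact disjoint_smul c3)
    have d2 : (Cfsg.blockGraph Cfsg.octads).Adj ⟨_, vert a _ ha ix⟩ ⟨_, vert a _ ha iy⟩ :=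
      (adj_iff _ _).mpr (disjoint_smul c4)
    have d3 : (Cfsg.blockGraph Cfsg.octads).Adj ⟨_, vert a _ ha iy⟩ ⟨o', ho'⟩ := (adj_iff _ _).mpr (by
      show Disjoint _ o'; rw [← eb]; exact disjoint_smul c5)
    have hr := (d1.reachable.trans d2.reachable).trans d3.reachable
    have hle := SimpleGraph.dist_le (SimpleGraph.Walk.cons d1 (SimpleGraph.Walk.cons d2 (SimpleGraph.Walk.cons d3 SimpleGraph.Walk.nil)))
    simp only [SimpleGraph.Walk.length_cons, SimpleGraph.Walk.length_nil] at hle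
    have h1 : (Cfsg.blockGraph Cfsg.octads).dist ⟨_, ho⟩ ⟨o', ho'⟩ ≠ 1 := fun h => by
      have hd := Finset.disjoint_iff_inter_eq_empty.mp ((adj_iff _ _).mp (SimpleGraph.dist_eq_one_iff_adj.mp h))
      have h0 : ((a0 • pts 5279) ∩ o').card = 0 := Finset.card_eq_zero.mpr hd
      simp only at hI
      omega
    have h2 : (Cfsg.blockGraph Cfsg.octads).dist ⟨_, ho⟩ ⟨o', ho'⟩ ≠ 2 := fun h => by
      obtain ⟨W, hW⟩ := hr.exists_walk_length_eq_dist
      rw [h] at hW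
      cases W with
      | nil => simp at hW
      | @cons _ v _ e1 W' =>
        cases W' with
        | nil => simp at hW
        | @cons _ v' _ e2 W'' =>
          cases W'' with
          | nil =>
            refine common' ha v.2 ?_ ?_
            · rw [ea]; exact (adj_iff _ _).mp e1
            · rw [eb]; exact ((adj_iff _ _).mp e2).symm
          | cons e3 W3 => simp at hW
    exact Or.inr (Or.inr ⟨hI, by have := h0d.resolve_right (not_not.mpr hr); omega, hr⟩)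

/-- In the graph on the 759 octads of the length-24 code in which two octads are adjacent when they are disjoint, the graph is connected (of diameter 3) and two distinct octads are at distance 1, 2 or 3 exactly when they meet in 0, 4 or 2 points respectively. -/
theorem result (o o' : Finset Cfsg.GolayPt) (ho : o ∈ Cfsg.octads) (ho' : o' ∈ Cfsg.octads) (hne : o ≠ o') : (Cfsg.blockGraph Cfsg.octads).Connected ∧ ((Cfsg.blockGraph Cfsg.octads).dist ⟨o, ho⟩ ⟨o', ho'⟩ = 1 ↔ (o ∩ o').card = 0) ∧ ((Cfsg.blockGraph Cfsg.octads).dist ⟨o, ho⟩ ⟨o', ho'⟩ = 2 ↔ (o ∩ o').card = 4) ∧ ((Cfsg.blockGraph Cfsg.octads).dist ⟨o, ho⟩ ⟨o', ho'⟩ = 3 ↔ (o ∩ o').card = 2) := by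
  have main := fun (u v : Cfsg.octads) (h : u.1 ≠ v.1) => facts u.1 v.1 u.2 v.2 h
  have hcon : (Cfsg.blockGraph Cfsg.octads).Connected := by
    haveI : Nonempty Cfsg.octads := ⟨⟨o, ho⟩⟩
    refine SimpleGraph.Connected.mk fun u v => ?_
    by_cases h : u.1 = v.1
    · rw [Subtype.ext h]
    · rcases main u v h with ⟨-, -, hr⟩ | ⟨-, -, hr⟩ | ⟨-, -, hr⟩ <;> exact hr
  refine ⟨hcon, ?_⟩
  rcases main ⟨o, ho⟩ ⟨o', ho'⟩ hne with ⟨hc, hd, -⟩ | ⟨hc, hd, -⟩ | ⟨hc, hd, -⟩ <;>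
    (simp only at hc hd; rw [hc, hd]; decide)

end Cfsg.Agent.S5609
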