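import Cfsg.Statements.S5610
import Cfsg.Agent.Lib.Spor.Golay.CensusOctTrio
import Cfsg.Agent.Lib.Spor.Golay.CensusOctSext

set_option autoImplicit false
open scoped Pointwise
open Cfsg

namespace Cfsg.Agent.S5610

open Cfsg.Agent.Spor.Golay Cfsg.Agent.Spor.Golay.Census

/-- The stabiliser of an octad in the group of the length-24 code has exactly three orbits on the 3795 trios, of sizes 15, 420 and 3360, and exactly three orbits on the 1771 sextets, of sizes 35, 840 and 896. -/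
theorem result (o : Finset Cfsg.GolayPt) (ho : o ∈ Cfsg.octads) : (∃ X₁ ∈ Cfsg.trios, ∃ X₂ ∈ Cfsg.trios, ∃ X₃ ∈ Cfsg.trios, (MulAction.orbit ↥(MulAction.stabilizer Cfsg.M24 o) X₁).ncard = 15 ∧ (MulAction.orbit ↥(MulAction.stabilizer Cfsg.M24 o) X₂).ncard = 420 ∧ (MulAction.orbit ↥(MulAction.stabilizer Cfsg.M24 o) X₃).ncard = 3360 ∧ Cfsg.trios = MulAction.orbit ↥(MulAction.stabilizer Cfsg.M24 o) X₁ ∪ MulAction.orbit ↥(MulAction.stabilizer Cfsg.M24 o) X₂ ∪ MulAction.orbit ↥(MulAction.stabilizer Cfsg.M24 o) X₃) ∧ (∃ Y₁ ∈ Cfsg.sextets, ∃ Y₂ ∈ Cfsg.sextets, ∃ Y₃ ∈ Cfsg.sextets, (MulAction.orbit ↥(MulAction.stabilizer Cfsg.M24 o) Y₁).ncard = 35 ∧ (MulAction.orbit ↥(MulAction.stabilizer Cfsg.M24 o) Y₂).ncard = 840 ∧ (MulAction.orbit ↥(MulAction.stabilizer Cfsg.M24 o) Y₃).ncard = 896 ∧ Cfsg.sextets = MulAction.orbit ↥(MulAction.stabilizer Cfsg.M24 o) Y₁ ∪ MulAction.orbit ↥(MulAction.stabilizer Cfsg.M24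 o) Y₂ ∪ MulAction.orbit ↥(MulAction.stabilizer Cfsg.M24 o) Y₃) := by
  obtain ⟨a, ha, e⟩ := exists_smul_octA ho
  subst e
  obtain ⟨u1, u2⟩ := census_fam stageOct (stabilizer_pts 5279) trioU_ok ![octTrio0, octTrio1, octTrio2]
    (by intro i; fin_cases i; exacts [octTrio0_ok, octTrio1_ok, octTrio2_ok]) (by decide +kernel) (by simp [List.ofFn_succ]) octTrio_cover ⟨a, ha⟩
  rw [trioU_famSet] at u1 u2
  rw [iUnion_three] at u2
  obtain ⟨v1, v2⟩ := census_fam stageOct (stabilizer_pts 5279) sextU_ok ![octSext0, octSext1, octSext2]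
    (by intro i; fin_cases i; exacts [octSext0_ok, octSext1_ok, octSext2_ok]) (by decide +kernel) (by simp [List.ofFn_succ]) octSext_cover ⟨a, ha⟩
  rw [sextU_famSet] at v1 v2
  rw [iUnion_three] at v2
  exact ⟨⟨_, (u1 0).1, _, (u1 1).1, _, (u1 2).1, ((u1 0).2.trans octTrio0_zero.2.1), ((u1 1).2.trans octTrio1_zero.2.1), ((u1 2).2.trans octTrio2_zero.2.1), u2⟩,
    ⟨_, (v1 0).1, _, (v1 1).1, _, (v1 2).1, ((v1 0).2.trans octSext0_zero.2.1), ((v1 1).2.trans octSext1_zero.2.1), ((v1 2).2.trans octSext2_zero.2.1), v2⟩⟩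

end Cfsg.Agent.S5610
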