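import Cfsg.Statements.S5611
import Cfsg.Agent.Lib.Spor.Golay.CensusSextOct
import Cfsg.Agent.Lib.Spor.Golay.CensusSextTrio

set_option autoImplicit false
open scoped Pointwise
open Cfsg

namespace Cfsg.Agent.S5611

open Cfsg.Agent.Spor.Golay Cfsg.Agent.Spor.Golay.Census

/-- The stabiliser of a sextet in the group of the length-24 code has exactly three orbits on the 759 octads, of sizes 15, 360 and 384, and exactly four orbits on the 3795 trios, of sizes 15, 180, 720 and 2880. -/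
theorem result (S : Finset (Finset Cfsg.GolayPt)) (hS : S ∈ Cfsg.sextets) : (∃ X₁ ∈ Cfsg.octads, ∃ X₂ ∈ Cfsg.octads, ∃ X₃ ∈ Cfsg.octads, (MulAction.orbit ↥(MulAction.stabilizer Cfsg.M24 S) X₁).ncard = 15 ∧ (MulAction.orbit ↥(MulAction.stabilizer Cfsg.M24 S) X₂).ncard = 360 ∧ (MulAction.orbit ↥(MulAction.stabilizer Cfsg.M24 S) X₃).ncard = 384 ∧ Cfsg.octads = MulAction.orbit ↥(MulAction.stabilizer Cfsg.M24 S) X₁ ∪ MulAction.orbit ↥(MulAction.stabilizer Cfsg.M24 S) X₂ ∪ MulAction.orbit ↥(MulAction.stabilizer Cfsg.M24 S) X₃) ∧ (∃ Y₁ ∈ Cfsg.trios, ∃ Y₂ ∈ Cfsg.trios, ∃ Y₃ ∈ Cfsg.trios, ∃ Y₄ ∈ Cfsg.trios, (MulAction.orbit ↥(MulAction.stabilizer Cfsg.M24 S) Y₁).ncard = 15 ∧ (MulAction.orbit ↥(MulAction.stabilizer Cfsg.M24 S) Y₂).ncard = 180 ∧ (MulAction.orbit ↥(MulAction.stabilizer Cfsg.M24 S) Y₃).ncard = 720 ∧ (MulAction.orbit ↥(MulAction.stabilizer Cfsg.M24 S) Y₄).ncard = 2880 ∧ Cfsg.trios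 = MulAction.orbit ↥(MulAction.stabilizer Cfsg.M24 S) Y₁ ∪ MulAction.orbit ↥(MulAction.stabilizer Cfsg.M24 S) Y₂ ∪ MulAction.orbit ↥(MulAction.stabilizer Cfsg.M24 S) Y₃ ∪ MulAction.orbit ↥(MulAction.stabilizer Cfsg.M24 S) Y₄) := by
  obtain ⟨a, ha, e⟩ := exists_sextet hS
  subst e
  obtain ⟨u1, u2⟩ := census_set stageSext (stabilizer_fam [15, 5264, 622848, 3416064, 4196928, 8536096]) octU_ok ![sextOct0, sextOct1, sextOct2]
    (by intro i; fin_cases i; exacts [sextOct0_ok, sextOct1_ok, sextOct2_ok]) (by decide +kernel) (by simp [List.ofFn_succ]) sextOct_cover ⟨a, ha⟩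
  rw [octU_setSet] at u1 u2
  rw [iUnion_three] at u2
  obtain ⟨v1, v2⟩ := census_fam stageSext (stabilizer_fam [15, 5264, 622848, 3416064, 4196928, 8536096]) trioU_ok ![sextTrio0, sextTrio1, sextTrio2, sextTrio3]
    (by intro i; fin_cases i; exacts [sextTrio0_ok, sextTrio1_ok, sextTrio2_ok, sextTrio3_ok]) (by decide +kernel) (by simp [List.ofFn_succ]) sextTrio_cover ⟨a, ha⟩
  rw [trioU_famSet] at v1 v2
  rw [iUnion_four] at v2
  exact ⟨⟨_, (u1 0).1, _, (u1 1).1, _, (u1 2).1, ((u1 0).2.trans sextOct0_zero.2.1), ((u1 1).2.trans sextOct1_zero.2.1), ((u1 2).2.trans sextOct2_zero.2.1), u2⟩,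
    ⟨_, (v1 0).1, _, (v1 1).1, _, (v1 2).1, _, (v1 3).1, ((v1 0).2.trans sextTrio0_zero.2.1), ((v1 1).2.trans sextTrio1_zero.2.1), ((v1 2).2.trans sextTrio2_zero.2.1), ((v1 3).2.trans sextTrio3_zero.2.1), v2⟩⟩

end Cfsg.Agent.S5611
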