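import Cfsg.Statements.S5612
import Cfsg.Agent.Lib.Spor.Golay.CensusTrioOct
import Cfsg.Agent.Lib.Spor.Golay.CensusTrioSext

set_option autoImplicit false
open scoped Pointwise
open Cfsg

namespace Cfsg.Agent.S5612

open Cfsg.Agent.Spor.Golay Cfsg.Agent.Spor.Golay.Census

/-- The stabiliser of a trio in the group of the length-24 code has exactly three orbits on the 759 octads, of sizes 3, 84 and 672, and exactly four orbits on the 1771 sextets, of sizes 7, 84, 336 and 1344. -/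
theorem result (T : Finset (Finset Cfsg.GolayPt)) (hT : T ∈ Cfsg.trios) : (∃ X₁ ∈ Cfsg.octads, ∃ X₂ ∈ Cfsg.octads, ∃ X₃ ∈ Cfsg.octads, (MulAction.orbit ↥(MulAction.stabilizer Cfsg.M24 T) X₁).ncard = 3 ∧ (MulAction.orbit ↥(MulAction.stabilizer Cfsg.M24 T) X₂).ncard = 84 ∧ (MulAction.orbit ↥(MulAction.stabilizer Cfsg.M24 T) X₃).ncard = 672 ∧ Cfsg.octads = MulAction.orbit ↥(MulAction.stabilizer Cfsg.M24 T) X₁ ∪ MulAction.orbit ↥(MulAction.stabilizer Cfsg.M24 T) X₂ ∪ MulAction.orbit ↥(MulAction.stabilizer Cfsg.M24 T) X₃) ∧ (∃ Y₁ ∈ Cfsg.sextets, ∃ Y₂ ∈ Cfsg.sextets, ∃ Y₃ ∈ Cfsg.sextets, ∃ Y₄ ∈ Cfsg.sextets, (MulAction.orbit ↥(MulAction.stabilizer Cfsg.M24 T) Y₁).ncard = 7 ∧ (MulAction.orbit ↥(MulAction.stabilizer Cfsg.M24 T) Y₂).ncard = 84 ∧ (MulAction.orbit ↥(MulAction.stabilizer Cfsg.M24 T) Y₃).ncard = 336 ∧ (MulAction.orbit ↥(MulAction.stabilizer Cfsg.M24 T) Y₄).ncard = 1344 ∧ Cfsg.sextets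 = MulAction.orbit ↥(MulAction.stabilizer Cfsg.M24 T) Y₁ ∪ MulAction.orbit ↥(MulAction.stabilizer Cfsg.M24 T) Y₂ ∪ MulAction.orbit ↥(MulAction.stabilizer Cfsg.M24 T) Y₃ ∪ MulAction.orbit ↥(MulAction.stabilizer Cfsg.M24 T) Y₄) := by
  obtain ⟨a, ha, e⟩ := exists_trio hT
  subst e
  obtain ⟨u1, u2⟩ := census_set stageTrio (stabilizer_fam [5279, 4819776, 11952160]) octU_ok ![trioOct0, trioOct1, trioOct2]
    (by intro i; fin_cases i; exacts [trioOct0_ok, trioOct1_ok, trioOct2_ok]) (by decide +kernel) (by simp [List.ofFn_succ]) trioOct_cover ⟨a, ha⟩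
  rw [octU_setSet] at u1 u2
  rw [iUnion_three] at u2
  obtain ⟨v1, v2⟩ := census_fam stageTrio (stabilizer_fam [5279, 4819776, 11952160]) sextU_ok ![trioSext0, trioSext1, trioSext2, trioSext3]
    (by intro i; fin_cases i; exacts [trioSext0_ok, trioSext1_ok, trioSext2_ok, trioSext3_ok]) (by decide +kernel) (by simp [List.ofFn_succ]) trioSext_cover ⟨a, ha⟩
  rw [sextU_famSet] at v1 v2
  rw [iUnion_four] at v2
  exact ⟨⟨_, (u1 0).1, _, (u1 1).1, _, (u1 2).1, ((u1 0).2.trans trioOct0_zero.2.1), ((u1 1).2.trans trioOct1_zero.2.1), ((u1 2).2.trans trioOct2_zero.2.1), u2⟩,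
    ⟨_, (v1 0).1, _, (v1 1).1, _, (v1 2).1, _, (v1 3).1, ((v1 0).2.trans trioSext0_zero.2.1), ((v1 1).2.trans trioSext1_zero.2.1), ((v1 2).2.trans trioSext2_zero.2.1), ((v1 3).2.trans trioSext3_zero.2.1), v2⟩⟩

end Cfsg.Agent.S5612
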