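import Cfsg.Statements.S5613
import Cfsg.Agent.Lib.Spor.Golay.CensusNested
import Cfsg.Agent.Lib.Spor.Golay.CensusOctOct

set_option autoImplicit false
open scoped Pointwise
open Cfsg

namespace Cfsg.Agent.S5613

open Cfsg.Agent.Spor.Golay Cfsg.Agent.Spor.Golay.Census

/-- Parts. -/
noncomputable def L8 : List (Orb × ℕ) := [(octOct0, 8), (octOct1, 0), (octOct2, 4), (octOct3, 2)]

theorem L8_ok : partSetOk octU (fun _ => true) (fun m => pop (5279 &&& m)) L8 = true := by decide +kernel

/-- In the group of the length-24 code, the joint stabiliser of two octads has order 10752, 1152 or 720 according as the octads meet in 0, 4 or 2 points. -/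
theorem result (o o' : Finset Cfsg.GolayPt) (ho : o ∈ Cfsg.octads) (ho' : o' ∈ Cfsg.octads) : ((o ∩ o').card = 0 → Nat.card ↥(MulAction.stabilizer Cfsg.M24 o ⊓ MulAction.stabilizer Cfsg.M24 o') = 10752) ∧ ((o ∩ o').card = 4 → Nat.card ↥(MulAction.stabilizer Cfsg.M24 o ⊓ MulAction.stabilizer Cfsg.M24 o') = 1152) ∧ ((o ∩ o').card = 2 → Nat.card ↥(MulAction.stabilizer Cfsg.M24 o ⊓ MulAction.stabilizer Cfsg.M24 o') = 720) := by
  obtain ⟨a, ha, e⟩ := exists_smul_octA ho
  subst e
  have hl : ∀ p ∈ L8, p.1.ok octSG = true ∧ eqL (p.1.obj 0) [(p.1.obj 0).headD 0] = true := by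
    intro p hp; simp only [L8, List.mem_cons, List.not_mem_nil, or_false] at hp
    rcases hp with rfl | rfl | rfl | rfl
    exacts [⟨octOct0_ok, by decide +kernel⟩, ⟨octOct1_ok, by decide +kernel⟩, ⟨octOct2_ok, by decide +kernel⟩, ⟨octOct3_ok, by decide +kernel⟩]
  obtain ⟨hs, -⟩ := parts_set L8_ok (by decide) (fun _ => True) (fun z => (pts 5279 ∩ z).card)
    (fun _ _ => by simp) (fun m _ => card_inter_pts _ m)
  have key : ∀ (O : Orb) (c m k N : ℕ), (O, c) ∈ L8 → O.ok octSG = true → O.obj 0 = [m] → O.n = k → N * k = 322560 →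
      0 < k → ((a • pts 5279) ∩ o').card = c →
      Nat.card ↥(MulAction.stabilizer Cfsg.M24 (a • pts 5279) ⊓ MulAction.stabilizer Cfsg.M24 o') = N := by
    intro O c m k N hp hO h0 hk hm hk0 hc
    obtain ⟨g, hg, hag, e⟩ := exists_refine stageOct hO h0 ha (z := o') (by
      have e := hs (O, c) hp
      rw [← e, octU_setSet]
      exact ⟨(octads_smul ha).mp ho', trivial, show (pts 5279 ∩ a⁻¹ • o').card = c by rw [← card_inter_smul]; exact hc⟩)
    have e0 : (a * g) • pts 5279 = a • pts 5279 := by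
      rw [mul_smul, (smul_fam_single _).mp ((mem_Fx.mp hg).2 _ (List.mem_singleton_self _))]
    rw [← e0, ← e, inf_comm]
    exact (card_inf_smul (stabilizer_two m 5279) ⟨a * g, hag⟩).trans (stageOct.card_next hO h0 hk hm hk0)
  exact ⟨key octOct1 0 _ _ _ (by simp [L8]) octOct1_ok octOct1_zero.1 octOct1_zero.2.1 (by norm_num) (by norm_num),
    key octOct2 4 _ _ _ (by simp [L8]) octOct2_ok octOct2_zero.1 octOct2_zero.2.1 (by norm_num) (by norm_num),
    key octOct3 2 _ _ _ (by simp [L8]) octOct3_ok octOct3_zero.1 octOct3_zero.2.1 (by norm_num) (by norm_num)⟩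

end Cfsg.Agent.S5613
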