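import Cfsg.Statements.S5614
import Cfsg.Agent.Lib.Spor.Golay.CensusOctTwo
import Cfsg.Agent.Lib.Spor.Golay.CensusNested
import Cfsg.Agent.Lib.Spor.Golay.CensusElem
import Cfsg.Agent.Lib.Spor.Golay.CensusClasses

set_option autoImplicit false
open scoped Pointwise
open Cfsg

namespace Cfsg.Agent.S5614

open Cfsg.Agent.Spor.Golay Cfsg.Agent.Spor.Golay.Census
open scoped Pointwise

theorem cover_check : partSetOk octU (fun m => Nat.beq (pop (Nat.land 5279 m)) 2) (fun m => pop (Nat.land 5279 m)) [(oct2U, 2)] = true := by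
  decide +kernel

/-- The six points of the first oct outside the second. -/
def six : List ℕ := [7, 4, 3, 2, 1, 0]

theorem six_checks : lowOk table [] six (chainA.drop 6) = true ∧ upOk [] six (chainA.drop 6) = true ∧
    idxOk tableLen (chainA.drop 6) = true ∧
    ((cands table (fun _ _ => true) idP six (chainA.drop 6)).all fun R =>
      !(imgMask (get R) 504864 == 504864) || Nat.beq R idP) = true ∧
    (∀ b ∈ six, b < 24) ∧ (pts 5279 \ pts 504864) = (six.map pt).toFinset ∧ (pts 5279 \ pts 504864).card = 6 := by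
  decide +kernel

theorem triv {g : Equiv.Perm Cfsg.GolayPt} (hg : g ∈ Fx [[504864], [5279]]) (h : ∀ b ∈ six, g (pt b) = pt b) :
    g = 1 := by
  obtain ⟨h1, h2, h3, h4, -, -, -⟩ := six_checks
  obtain ⟨hM, hF⟩ := mem_Fx.mp hg
  obtain ⟨R, hR, hv, e⟩ := mem_cands tableOk (fun _ _ => true) (fun _ _ _ _ => rfl) _ _ _ valid_idP h1 h2 h3
    (show (permOf idP)⁻¹ * g ∈ Fix [] six by
      rw [permOf_idP, inv_one, one_mul]
      exact mem_Fix.mpr ⟨hM, fun x hx => absurd hx List.not_mem_nil, h⟩)
  have h5 := List.all_eq_true.mp h4 R hR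
  have himg : imgMask (get R) 504864 = 504864 := by
    have h6 := (smul_fam_single 504864).mp (hF _ (List.mem_cons_self ..))
    rw [← e, permOf_smul_pts hv] at h6
    refine pts_injOn ?_ (by norm_num) h6
    refine Nat.lt_pow_two_of_testBit _ fun i hi => Bool.eq_false_iff.mpr fun hb => ?_
    obtain ⟨j, hj, -, rfl⟩ := (testBit_imgMask _ _ _).mp hb
    have := (valid_iff.mp hv).2 j hj
    omega
  simp only [himg, beq_self_eq_true, Bool.not_true, Bool.false_or] at h5
  rw [← e, Nat.eq_of_beq_eq_true h5, permOf_idP]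

/-- In the group of the length-24 code, the joint stabiliser of two octads meeting in exactly two points is isomorphic to the symmetric group of degree 6. -/
theorem result (o o' : Finset Cfsg.GolayPt) (ho : o ∈ Cfsg.octads) (ho' : o' ∈ Cfsg.octads) (h₂ : (o ∩ o').card = 2) : Nonempty (↥(MulAction.stabilizer Cfsg.M24 o ⊓ MulAction.stabilizer Cfsg.M24 o') ≃* Equiv.Perm (Fin 6)) := by
  classical
  obtain ⟨a, ha, rfl⟩ := exists_smul_octA ho
  have h5 : octA = 5279 := rfl
  rw [h5] at ho h₂ ⊢
  have hz : a⁻¹ • o' ∈ oct2U.setSet := by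
    obtain ⟨-, hcov⟩ := parts_raw cover_check (fun z => (pts 5279 ∩ z).card = 2) (fun z => (pts 5279 ∩ z).card)
      (fun m _ => by
        rw [← card_inter_pts]
        exact ⟨Nat.eq_of_beq_eq_true, fun h => by
          show Nat.beq (pop (Nat.land 5279 m)) 2 = true
          rw [show Nat.land 5279 m = 5279 &&& m from rfl, h]; rfl⟩)
      (fun m _ => card_inter_pts _ _)
    obtain ⟨p, hp, hzp⟩ := hcov (a⁻¹ • o') (by rw [octU_setSet]; exact (octads_smul ha).mp ho')
      (by rw [← card_inter_smul]; exact h₂)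
    rw [List.mem_singleton] at hp
    rw [hp] at hzp
    exact hzp
  obtain ⟨g, hg, hag, e⟩ := exists_refine stageOct oct2U_ok oct2U_zero.1 ha hz
  have hfix : a • pts 5279 = (a * g) • pts 5279 := by
    rw [mul_smul, (smul_fam_single _).mp ((mem_Fx.mp hg).2 _ (List.mem_cons_self ..))]
  rw [hfix, ← e]
  set b : Cfsg.M24 := ⟨a * g, hag⟩ with hb
  rw [show (a * g) • pts 5279 = b • pts 5279 from rfl, show (a * g) • pts 504864 = b • pts 504864 from rfl,
    show MulAction.stabilizer Cfsg.M24 (b • pts 5279) ⊓ MulAction.stabilizer Cfsg.M24 (b • pts 504864) =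
      MulAction.stabilizer Cfsg.M24 (b • (pts 504864, pts 5279)) by
    ext x
    rw [Subgroup.mem_inf, MulAction.mem_stabilizer_iff, MulAction.mem_stabilizer_iff, MulAction.mem_stabilizer_iff,
      Prod.smul_mk, Prod.smul_mk, Prod.mk.injEq]
    exact and_comm]
  refine ⟨(stdEquiv (stabilizer_two 504864 5279) b).trans ?_⟩
  have hmap : ∀ (x : ↥(Fx [[504864], [5279]])) (p : Cfsg.GolayPt), (x : Equiv.Perm Cfsg.GolayPt) p ∈ pts 5279 \ pts 504864 ↔ p ∈ pts 5279 \ pts 504864 := by
    intro x p
    have h := (mem_Fx.mp x.2).2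
    have h1 := (smul_fam_single 504864).mp (h _ (List.mem_cons_self ..))
    have h2 := (smul_fam_single 5279).mp (h [5279] (by simp))
    have h3 : (x : Equiv.Perm Cfsg.GolayPt) • (pts 5279 \ pts 504864) = pts 5279 \ pts 504864 := by
      rw [Finset.smul_finset_sdiff, h1, h2]
    conv_lhs => rw [← h3, ← Equiv.Perm.smul_def, Finset.smul_mem_smul_finset_iff]
  let φ : ↥(Fx [[504864], [5279]]) →* Equiv.Perm ↥(pts 5279 \ pts 504864) :=
    { toFun := fun x => (x : Equiv.Perm Cfsg.GolayPt).subtypePerm (hmap x)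
      map_one' := by ext p; simp
      map_mul' := fun x y => Equiv.ext fun p => Subtype.ext rfl }
  have hinj : Function.Injective φ := (injective_iff_map_eq_one φ).mpr fun x hx => Subtype.ext (triv x.2 fun c hc => by
    have hmem : pt c ∈ pts 5279 \ pts 504864 := by
      rw [six_checks.2.2.2.2.2.1]
      exact List.mem_toFinset.mpr (List.mem_map_of_mem hc)
    exact congrArg Subtype.val (Equiv.congr_fun hx ⟨_, hmem⟩))
  have hc6 : (pts 5279 \ pts 504864).card = 6 := six_checks.2.2.2.2.2.2
  refine (MulEquiv.ofBijective φ ((Nat.bijective_iff_injective_and_card φ).mpr ⟨hinj, ?_⟩)).trans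
    (((pts 5279 \ pts 504864).equivFinOfCardEq hc6).permCongrHom)
  rw [Nat.card_perm, Nat.card_eq_fintype_card (α := ↥(pts 5279 \ pts 504864)), Fintype.card_coe, hc6, stageOct2.card_Fx]
  rfl

end Cfsg.Agent.S5614
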