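import Cfsg.Statements.S5615
import Cfsg.Agent.Lib.Spor.Golay.CensusNested
import Cfsg.Agent.Lib.Spor.Golay.CensusTrioChain

set_option autoImplicit false
open scoped Pointwise
open Cfsg

namespace Cfsg.Agent.S5615

open Cfsg.Agent.Spor.Golay Cfsg.Agent.Spor.Golay.Census

/-- The trios through the standard oct, as checked lists. -/
noncomputable def chk : Bool :=
  (allLt trioU.n fun i => !(trioU.obj i).contains 5279 || tr1U.has (trioU.obj i)) &&
    (allLt tr1U.n fun i => trioU.has (tr1U.obj i) && (tr1U.obj i).contains 5279) &&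
    allLt tr1U.n fun i => Nat.beq i 0 || tr2U.has (tr1U.obj i)

theorem chk_ok : chk = true := by decide +kernel

theorem containing (T : Finset (Finset GolayPt)) : T ∈ Cfsg.trios ∧ pts 5279 ∈ T ↔ T ∈ tr1U.famSet := by
  have h := chk_ok
  simp only [chk, Bool.and_eq_true] at h
  obtain ⟨⟨h1, h2⟩, -⟩ := h
  rw [← trioU_famSet]
  constructor
  · rintro ⟨⟨L, hL, rfl⟩, hc⟩
    have hsm := Orb.small_objs hL
    obtain ⟨i, hi, rfl⟩ := List.mem_map.mp hL
    obtain ⟨m, hm, e⟩ := List.mem_map.mp (List.mem_toFinset.mp hc)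
    have hm' : m = 5279 := pts_injOn (hsm m hm) (by norm_num) e
    have h3 := allLt_spec h1 i (List.mem_range.mp hi)
    rw [List.contains_iff_mem.mpr (hm' ▸ hm), Bool.not_true, Bool.false_or] at h3
    exact Orb.mem_famSet_of_has h3
  · rintro ⟨L, hL, rfl⟩
    obtain ⟨i, hi, rfl⟩ := List.mem_map.mp hL
    have h3 := allLt_spec h2 i (List.mem_range.mp hi)
    rw [Bool.and_eq_true] at h3
    exact ⟨Orb.mem_famSet_of_has h3.1, List.mem_toFinset.mpr (List.mem_map_of_mem (List.contains_iff_mem.mp h3.2))⟩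

theorem others {T : Finset (Finset GolayPt)} (hT : T ∈ tr1U.famSet) (hne : T ≠ fam [5279, 1009728, 15762208]) : T ∈ tr2U.famSet := by
  obtain ⟨L, hL, rfl⟩ := hT
  obtain ⟨i, hi, rfl⟩ := List.mem_map.mp hL
  have h := chk_ok
  simp only [chk, Bool.and_eq_true] at h
  have h3 := allLt_spec h.2 i (List.mem_range.mp hi)
  rw [Bool.or_eq_true] at h3
  rcases h3 with h3 | h3
  · exact absurd (by rw [Nat.eq_of_beq_eq_true h3, tr1U_zero.1]) hne
  · exact Orb.mem_famSet_of_has h3

theorem roots : tr1U.has [5279, 4645632, 12126304] = true ∧ tr1U.has [5279, 2220640, 14551296] = true ∧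
    tr1U.has [5279, 1256224, 15515712] = true ∧ tr1U.has [5279, 1009728, 15762208] = true := by decide +kernel

theorem fixAll : fixOk ((List.range 24).filterMap (fun j => if Nat.testBit 5279 j then some [2 ^ j] else none) ++
    (List.range 15).map tr1U.obj) tr4SG = true := by decide +kernel

theorem points {g : Equiv.Perm GolayPt} (hg : g ∈ grp tr4SG) (q : GolayPt) (hq : q ∈ pts 5279) : g q = q := by
  have h := (mem_Fx.mp ((grp_le_Fx fixAll).2 hg)).2 [2 ^ idx q] (List.mem_append_left _ (List.mem_filterMap.mpr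
    ⟨idx q, List.mem_range.mpr (idx_lt q), by rw [if_pos (mem_pts.mp hq)]⟩))
  rw [smul_fam_single, smul_pts_point (idx_lt q), pt_idx] at h
  exact h

theorem trios15 {g : Equiv.Perm GolayPt} (hg : g ∈ grp tr4SG) (T : Finset (Finset GolayPt)) (hT : T ∈ tr1U.famSet) :
    g • T = T := by
  obtain ⟨L, hL, rfl⟩ := hT
  refine (mem_Fx.mp ((grp_le_Fx fixAll).2 hg)).2 L (List.mem_append_right _ ?_)
  rwa [Orb.objs, tr1U_zero.2] at hL

theorem sixA_in : (sixA.all fun b => Nat.testBit 5279 b && decide (b < 24)) = true := by decide +kernel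

theorem sixteen {g : Equiv.Perm GolayPt} (hM : g ∈ Cfsg.M24) (h : ∀ q ∈ pts 5279, g q = q) : g ∈ grp tr4SG := by
  have hb : ∀ b ∈ sixA, pt b ∈ pts 5279 := fun b hb => by
    have := List.all_eq_true.mp sixA_in b hb
    simp only [Bool.and_eq_true, decide_eq_true_eq] at this
    exact (pt_mem_pts this.2).mpr this.1
  have hle : grp tr4SG ≤ Fix [] sixA := fun k hk => by
    refine mem_Fix.mpr ⟨(mem_Fx.mp ((grp_le_Fx fixAll).2 hk)).1, fun _ hx => ?_, fun b hb' => points hk _ (hb b hb')⟩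
    exact absurd hx List.not_mem_nil
  rw [Subgroup.eq_of_le_of_card_ge hle (by rw [card_Fix_sixA, stageTr4.2.2])]
  exact mem_Fix.mpr ⟨hM, fun _ hx => absurd hx List.not_mem_nil, fun b hb' => h _ (hb b hb')⟩

/-- An octad of the length-24 code lies in exactly 15 trios; the stabiliser of the octad in the code's group acts doubly transitively on these 15 trios, and the kernel of this action is the pointwise stabiliser of the octad. -/
theorem result (o : Finset Cfsg.GolayPt) (ho : o ∈ Cfsg.octads) : {T : Finset (Finset Cfsg.GolayPt) | T ∈ Cfsg.trios ∧ o ∈ T}.ncard = 15 ∧ (∀ T₁ T₂ T₁' T₂' : Finset (Finset Cfsg.GolayPt), T₁ ∈ Cfsg.trios → T₂ ∈ Cfsg.trios → T₁' ∈ Cfsg.trios → T₂' ∈ Cfsg.trios → o ∈ T₁ → o ∈ T₂ → o ∈ T₁' → o ∈ T₂' → T₁ ≠ T₂ → T₁' ≠ T₂' → ∃ g ∈ Cfsg.M24, g • o = o ∧ g • T₁ = T₁' ∧ g • T₂ = T₂') ∧ ∀ g ∈ Cfsg.M24, g • o = o → ((∀ T ∈ Cfsg.trios, o ∈ T → g • T = T) ↔ ∀ p ∈ o, g p = p) := by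
  obtain ⟨a0, ha0, e⟩ := exists_smul_octA ho
  subst e
  simp only [octA] at *
  have hcontains : ∀ T : Finset (Finset GolayPt), a0 • pts 5279 ∈ T ↔ pts 5279 ∈ a0⁻¹ • T := fun T => by
    rw [Finset.mem_inv_smul_finset_iff]
  have hset := containing
  have hfix : ∀ g ∈ Fx [[5279]], g • pts 5279 = pts 5279 := fun g hg =>
    (smul_fam_single _).mp ((mem_Fx.mp hg).2 _ (List.mem_singleton_self _))
  refine ⟨?_, ?_, fun g hg hgo => ⟨fun h => ?_, fun h => ?_⟩⟩
  · rw [ncard_transport (S := tr1U.famSet) a0 fun T => by rw [Set.mem_setOf_eq, trios_smul ha0, hcontains, hset],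
      (stageOct.orbit tr1U_ok).2]
    exact tr1U_zero.2
  · intro T₁ T₂ T₁' T₂' h1 h2 h1' h2' c1 c2 c1' c2' hne hne'
    have two : ∀ U V : Finset (Finset GolayPt), U ∈ Cfsg.trios → V ∈ Cfsg.trios → a0 • pts 5279 ∈ U →
        a0 • pts 5279 ∈ V → U ≠ V → ∃ b ∈ Cfsg.M24, b • pts 5279 = a0 • pts 5279 ∧ b • fam [5279, 1009728, 15762208] = U ∧
          b • fam [5279, 1256224, 15515712] = V := by
      intro U V hU hV cU cV hUV
      have hU1 : a0⁻¹ • U ∈ tr1U.famSet := (hset _).mp ⟨(trios_smul ha0).mp hU, (hcontains U).mp cU⟩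
      obtain ⟨g1, hg1, e1⟩ := stageOct.exists_to tr1U_ok hU1
      rw [tr1U_zero.1] at e1
      have hm1 := (mem_Fx.mp hg1).1
      have hb1 : a0 * g1 ∈ Cfsg.M24 := mul_mem ha0 hm1
      have eo : (a0 * g1) • pts 5279 = a0 • pts 5279 := by rw [mul_smul, hfix g1 hg1]
      have eU : (a0 * g1) • fam [5279, 1009728, 15762208] = U := by rw [mul_smul, e1, smul_inv_smul]
      have hV1 : (a0 * g1)⁻¹ • V ∈ tr1U.famSet := by
        refine (hset _).mp ⟨(trios_smul hb1).mp hV, ?_⟩
        rw [Finset.mem_inv_smul_finset_iff, eo]; exact cV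
      have hne1 : (a0 * g1)⁻¹ • V ≠ fam [5279, 1009728, 15762208] := fun e => hUV (by rw [← eU, ← e, smul_inv_smul])
      obtain ⟨g2, hg2, e2⟩ := stageTr1.exists_to tr2U_ok (others hV1 hne1)
      rw [tr2U_zero.1] at e2
      refine ⟨a0 * g1 * g2, mul_mem hb1 (mem_Fx.mp hg2).1, ?_, ?_, ?_⟩
      · rw [mul_smul, (smul_fam_single _).mp ((mem_Fx.mp hg2).2 [5279] (by simp)), eo]
      · rw [mul_smul, (mem_Fx.mp hg2).2 _ (List.mem_cons_self ..), eU]
      · rw [mul_smul, e2, smul_inv_smul]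
    obtain ⟨b, hb, b1, b2, b3⟩ := two _ _ h1 h2 c1 c2 hne
    obtain ⟨b', hb', b1', b2', b3'⟩ := two _ _ h1' h2' c1' c2' hne'
    exact ⟨b' * b⁻¹, mul_mem hb' (inv_mem hb), by rw [← b1, mul_smul, inv_smul_smul, b1', b1],
      by rw [← b2, mul_smul, inv_smul_smul, b2'], by rw [← b3, mul_smul, inv_smul_smul, b3']⟩
  · have hk : a0⁻¹ * g * a0 ∈ Fx [[5279, 4645632, 12126304], [5279, 2220640, 14551296], [5279, 1256224, 15515712], [5279, 1009728, 15762208], [5279]] := by
      refine mem_Fx.mpr ⟨mul_mem (mul_mem (inv_mem ha0) hg) ha0, fun L hL => ?_⟩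
      have tr : ∀ T ∈ tr1U.famSet, (a0⁻¹ * g * a0) • T = T := fun T hT => by
        obtain ⟨hT1, hT2⟩ := (hset T).mpr hT
        have hT3 : a0 • T ∈ Cfsg.trios := smul_trio ha0 hT1
        rw [mul_smul, mul_smul, h _ hT3 (Finset.smul_mem_smul_finset hT2), inv_smul_smul]
      simp only [List.mem_cons, List.not_mem_nil, or_false] at hL
      rcases hL with rfl | rfl | rfl | rfl | rfl
      · exact tr _ (Orb.mem_famSet_of_has roots.1)
      · exact tr _ (Orb.mem_famSet_of_has roots.2.1)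
      · exact tr _ (Orb.mem_famSet_of_has roots.2.2.1)
      · exact tr _ (Orb.mem_famSet_of_has roots.2.2.2)
      · rw [smul_fam_single, mul_smul, mul_smul, hgo, inv_smul_smul]
    intro p hp
    rw [← Finset.inv_smul_mem_iff] at hp
    have hp' := points (stageTr4.2.1.le hk) _ hp
    have e := congrArg a0 hp'
    simpa [mul_smul] using e
  · intro T hT cT
    have hk : a0⁻¹ * g * a0 ∈ grp tr4SG := sixteen (mul_mem (mul_mem (inv_mem ha0) hg) ha0) fun q hq => by
      have := h (a0 q) (by rw [← Equiv.Perm.smul_def]; exact Finset.smul_mem_smul_finset hq)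
      simp [this]
    have e := congrArg (a0 • ·) (trios15 hk _ ((hset _).mp ⟨(trios_smul ha0).mp hT, (hcontains T).mp cT⟩))
    simpa [mul_smul] using e

end Cfsg.Agent.S5615
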