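import Cfsg.Statements.S5616
import Cfsg.Agent.Lib.Spor.Golay.CensusParts
import Cfsg.Agent.Lib.Spor.Golay.CensusTripleSext

set_option autoImplicit false
open scoped Pointwise
open Cfsg

namespace Cfsg.Agent.S5616

open Cfsg.Agent.Spor.Golay Cfsg.Agent.Spor.Golay.Census

/-- Parts. -/
noncomputable def LS : List (Orb × ℕ) := [(tripleSext0, 1), (tripleSext1, 2), (tripleSext2, 3)]

theorem LS_ok : partFamOk sextU (meetCount 7) LS = true := by decide +kernel

/-- Let Y be a set of 3 of the 24 points. The sextets of the length-24 code whose tetrads meeting Y number 1, 2 or 3 are respectively 21, 630 and 1120 in number, and two sextets with the same number of tetrads meeting Y are conjugate under the setwise stabiliser of Y in the code's group. -/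
theorem result (Y : Finset Cfsg.GolayPt) (hY : Y.card = 3) : {S : Finset (Finset Cfsg.GolayPt) | S ∈ Cfsg.sextets ∧ (S.filter fun t => (t ∩ Y).Nonempty).card = 1}.ncard = 21 ∧ {S : Finset (Finset Cfsg.GolayPt) | S ∈ Cfsg.sextets ∧ (S.filter fun t => (t ∩ Y).Nonempty).card = 2}.ncard = 630 ∧ {S : Finset (Finset Cfsg.GolayPt) | S ∈ Cfsg.sextets ∧ (S.filter fun t => (t ∩ Y).Nonempty).card = 3}.ncard = 1120 ∧ ∀ S S' : Finset (Finset Cfsg.GolayPt), S ∈ Cfsg.sextets → S' ∈ Cfsg.sextets → (S.filter fun t => (t ∩ Y).Nonempty).card = (S'.filter fun t => (t ∩ Y).Nonempty).card → ∃ g ∈ Cfsg.M24, g • Y = Y ∧ g • S = S' := by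
  obtain ⟨a, ha, e⟩ := exists_triple hY
  subst e
  have hl : ∀ p ∈ LS, p.1.ok tripleSG = true := by
    intro p hp; simp only [LS, List.mem_cons, List.not_mem_nil, or_false] at hp
    rcases hp with rfl | rfl | rfl
    exacts [tripleSext0_ok, tripleSext1_ok, tripleSext2_ok]
  obtain ⟨hs, hc⟩ := parts_fam LS_ok (by
      have := sextU_ok
      simp only [Orb.ok, Bool.and_eq_true] at this
      exact this.2) (by decide) (fun X => (X.filter fun t => (t ∩ pts 7).Nonempty).card)
    (fun L h1 h2 => meetCount_eq (by norm_num) h1 h2) (fun p hp => by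
      have := hl p hp
      simp only [Orb.ok, Bool.and_eq_true] at this
      exact this.2)
  refine ⟨count_fam stageTriple hs hl tripleSext0 1 21 (by simp [LS]) (by decide +kernel) a _ fun z => by
      rw [sextU_famSet, Set.mem_setOf_eq, sextets_smul ha, card_filter_smul],
    count_fam stageTriple hs hl tripleSext1 2 630 (by simp [LS]) (by decide +kernel) a _ fun z => by
      rw [sextU_famSet, Set.mem_setOf_eq, sextets_smul ha, card_filter_smul],
    count_fam stageTriple hs hl tripleSext2 3 1120 (by simp [LS]) (by decide +kernel) a _ fun z => by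
      rw [sextU_famSet, Set.mem_setOf_eq, sextets_smul ha, card_filter_smul], fun S S' hS hS' h => ?_⟩
  rw [sextU_famSet] at hc
  exact move_fam stageTriple (stabilizer_pts 7) hl ha (exists_same_part (S := Orb.famSet) (l := LS) (by decide)
    (hc _ ((sextets_smul ha).mp hS)) (hc _ ((sextets_smul ha).mp hS')) (by rw [← card_filter_smul, ← card_filter_smul]; exact h))

end Cfsg.Agent.S5616
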