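import Cfsg.Statements.S5617
import Cfsg.Agent.Lib.Spor.Golay.CensusDuumSext

set_option autoImplicit false
open scoped Pointwise
open Cfsg

namespace Cfsg.Agent.S5617

open Cfsg.Agent.Spor.Golay Cfsg.Agent.Spor.Golay.Census

/-- The setwise stabiliser, in the group of the length-24 code, of a complementary pair of dodecads has exactly three orbits on the 1771 sextets, of sizes 396, 495 and 880. -/
theorem result (d : Finset Cfsg.GolayPt) (hd : d ∈ Cfsg.dodecads) : ∃ X₁ ∈ Cfsg.sextets, ∃ X₂ ∈ Cfsg.sextets, ∃ X₃ ∈ Cfsg.sextets, (MulAction.orbit ↥(MulAction.stabilizer Cfsg.M24 ({d, Finset.univ \ d} : Finset (Finset Cfsg.GolayPt))) X₁).ncard = 396 ∧ (MulAction.orbit ↥(MulAction.stabilizer Cfsg.M24 ({d, Finset.univ \ d} : Finset (Finset Cfsg.GolayPt))) X₂).ncard = 495 ∧ (MulAction.orbit ↥(MulAction.stabilizer Cfsg.M24 ({d, Finset.univ \ d} : Finset (Finset Cfsg.GolayPt))) X₃).ncard = 880 ∧ Cfsg.sextets = MulAction.orbit ↥(MulAction.stabilizer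 Cfsg.M24 ({d, Finset.univ \ d} : Finset (Finset Cfsg.GolayPt))) X₁ ∪ MulAction.orbit ↥(MulAction.stabilizer Cfsg.M24 ({d, Finset.univ \ d} : Finset (Finset Cfsg.GolayPt))) X₂ ∪ MulAction.orbit ↥(MulAction.stabilizer Cfsg.M24 ({d, Finset.univ \ d} : Finset (Finset Cfsg.GolayPt))) X₃ := by
  obtain ⟨a, ha, e⟩ := exists_duum hd
  rw [← Finset.compl_eq_univ_sdiff, ← e]
  obtain ⟨u1, u2⟩ := census_fam stageDuum (stabilizer_fam [499903, 16277312]) sextU_ok ![duumSext0, duumSext1, duumSext2]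
    (by intro i; fin_cases i; exacts [duumSext0_ok, duumSext1_ok, duumSext2_ok]) (by decide +kernel) (by simp [List.ofFn_succ]) duumSext_cover ⟨a, ha⟩
  rw [sextU_famSet] at u1 u2
  rw [iUnion_three] at u2
  exact ⟨_, (u1 0).1, _, (u1 1).1, _, (u1 2).1, ((u1 0).2.trans duumSext0_zero.2.1), ((u1 1).2.trans duumSext1_zero.2.1), ((u1 2).2.trans duumSext2_zero.2.1), u2⟩

end Cfsg.Agent.S5617
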