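import Cfsg.Statements.S5618
import Cfsg.Agent.Lib.Spor.Golay.Quartets
import Cfsg.Agent.Lib.Spor.Golay.OctStab
import Cfsg.Agent.Lib.Spor.Golay.M24Frames

set_option autoImplicit false
open scoped Pointwise
open Cfsg

namespace Cfsg.Agent.S5618

open Cfsg.Agent.Spor.Golay Cfsg.Agent.Spor.Golay.Census

/-- For a dodecad d of the length-24 code and a hexad C on it (a 6-point intersection of d with an octad): the joint stabiliser of d and C in the code's group is isomorphic to the symmetric group of degree 6, and it acts faithfully both on the six points of C and on the six points of d outside C. -/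
theorem result (d : Finset Cfsg.GolayPt) (hd : d ∈ Cfsg.dodecads) (C : Finset Cfsg.GolayPt) (hC : C ∈ Cfsg.hexadsOn d) : Nonempty (↥(MulAction.stabilizer Cfsg.M24 d ⊓ MulAction.stabilizer Cfsg.M24 C) ≃* Equiv.Perm (Fin 6)) ∧ (∀ g ∈ MulAction.stabilizer Cfsg.M24 d ⊓ MulAction.stabilizer Cfsg.M24 C, (∀ p ∈ C, ((g : ↥Cfsg.M24) : Equiv.Perm Cfsg.GolayPt) p = p) → g = 1) ∧ ∀ g ∈ MulAction.stabilizer Cfsg.M24 d ⊓ MulAction.stabilizer Cfsg.M24 C, (∀ p ∈ d \ C, ((g : ↥Cfsg.M24) : Equiv.Perm Cfsg.GolayPt) p = p) → g = 1 := by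
  obtain ⟨a0, ha0, e⟩ := exists_smul_dd hd
  subst e
  have hC0 : a0⁻¹ • C ∈ hexadsOn (pts dd) := by simpa using smul_hexad (inv_mem ha0) hC
  obtain ⟨m, hm, em⟩ := hexadsOn_dd.mp hC0
  obtain ⟨g0, hg0, ha, e⟩ := exists_refine stageDod hexadU_ok hexadU_zero.1 ha0 (z := C) (by
    rw [← em]; exact Orb.mem_setSet_of_has (Bool.and_eq_true_iff.mp (List.all_eq_true.mp hex_sound.2.2 m hm)).1)
  obtain ⟨a, hadef⟩ : ∃ a, a = a0 * g0 := ⟨_, rfl⟩
  rw [← hadef] at ha e
  have ead : a • pts dd = a0 • pts dd := by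
    rw [hadef, mul_smul, show g0 • pts dd = pts dd from (smul_fam_single _).mp ((mem_Fx.mp hg0).2 _ (List.mem_singleton_self _))]
  have hsub : C ⊆ a0 • pts dd := by obtain ⟨-, o, -, rfl⟩ := hC; exact Finset.inter_subset_right
  have faithful : ∀ g ∈ MulAction.stabilizer Cfsg.M24 (a0 • pts dd) ⊓ MulAction.stabilizer Cfsg.M24 C,
      ∀ s : Finset GolayPt, s ⊆ a0 • pts dd → 5 ≤ s.card →
      (∀ p ∈ s, ((g : ↥Cfsg.M24) : Equiv.Perm GolayPt) p = p) → g = 1 := by
    intro g hg s hs h5 hp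
    obtain ⟨x, hx⟩ := exists_five s h5
    exact Subtype.ext (eq_one_of_fix_dodecad hd x (fun i => hs (hx i)) g.2 hg.1 fun i => hp _ (hx i))
  refine ⟨?_, fun g hg h => faithful g hg C hsub (by rw [hC.1]; norm_num) h,
    fun g hg h => faithful g hg ((a0 • pts dd) \ C) Finset.sdiff_subset (by
      rw [Finset.card_sdiff_of_subset hsub, hC.1, hd.2]; norm_num) h⟩
  have hcard : Nat.card ↥(MulAction.stabilizer Cfsg.M24 (a0 • pts dd) ⊓ MulAction.stabilizer Cfsg.M24 C) = 720 := by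
    rw [← ead, ← e, inf_comm]
    exact (card_inf_smul (stabilizer_two 159 dd) ⟨a, ha⟩).trans stageHexad.card_Fx
  let ρ : ↥(MulAction.stabilizer Cfsg.M24 (a0 • pts dd) ⊓ MulAction.stabilizer Cfsg.M24 C) →* Equiv.Perm ↥C :=
    { toFun := fun g => ((g.1 : ↥Cfsg.M24) : Equiv.Perm GolayPt).subtypePerm (mem_iff_of_smul_eq g.2.2)
      map_one' := by ext; rfl
      map_mul' := fun g k => by ext; rfl }
  have hinj : Function.Injective ρ := by
    rw [← MonoidHom.ker_eq_bot_iff, eq_bot_iff]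
    exact fun g hg => Subtype.ext (faithful g.1 g.2 C hsub (by rw [hC.1]; norm_num)
      fun p hp => congrArg Subtype.val (Equiv.congr_fun hg ⟨p, hp⟩))
  have hr : ρ.range = ⊤ := Subgroup.eq_top_of_card_eq _ (by
    rw [← Nat.card_congr (MonoidHom.ofInjective hinj).toEquiv, hcard, Nat.card_perm, Nat.card_eq_fintype_card,
      Fintype.card_coe, hC.1]
    rfl)
  exact ⟨((MonoidHom.ofInjective hinj).trans ((MulEquiv.subgroupCongr hr).trans Subgroup.topEquiv)).trans
    (C.equivFinOfCardEq hC.1).permCongrHom⟩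

end Cfsg.Agent.S5618
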