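import Cfsg.Statements.S5619
import Cfsg.Agent.Lib.Spor.Golay.CensusDodPt3
import Cfsg.Agent.Lib.Spor.Golay.CensusNested
import Cfsg.Agent.Lib.Spor.Golay.CensusElem
import Cfsg.Agent.Lib.Spor.Golay.CensusClasses
import Cfsg.Agent.Lib.Spor.Golay.M24Frames

set_option autoImplicit false
open scoped Pointwise
open Cfsg

namespace Cfsg.Agent.S5619

open Cfsg.Agent.Spor.Golay Cfsg.Agent.Spor.Golay.Census
open scoped Pointwise

/-- The standard configuration. -/
def F4 : List (List ℕ) := [[4], [2], [1], [499903]]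

/-- Compatibility with the dodecad on the positions fixed so far. -/
def ddTest (Q : ℕ) (cs : List ℕ) : Bool :=
  cs.all fun b => !Nat.blt b 24 || (Nat.testBit 499903 b == Nat.testBit 499903 (get Q b))

/-- Candidates for the elements of the stabiliser. -/
def cand : List ℕ :=
  (cands table ddTest idP [2, 1, 0] (chainA.drop 3)).filter fun R => imgMask (get R) 499903 == 499903

/-- The ninth power. -/
def nine (R : ℕ) : ℕ := comp (comp R (comp R R)) (comp (comp R (comp R R)) (comp R (comp R R)))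

/-- The quaternion subgroup, as a table. -/
def q8 : List ℕ := [0xbdab49ca307b9ac5a928398a418820, 0x4ccccb3e24820b4555d71acf268820, 0x759749c23225ceca99096a86f28820, 0x44d4cb122f9247432eee2d5b038820, 0xad1d661e2d2ae53ba1468248378820, 0x53133a162369896439757de0790820, 0x5d2f6636271d613724ca921e520820, 0x33113a0e253a9f64deab23a4d80820]

/-- The entry of the table at a quaternion. -/
def qv : QuaternionGroup 2 → ℕ
  | .a i => q8.getD i.val 0
  | .xa i => q8.getD (4 + i.val) 0

theorem cand_checks : lowOk table [] [2, 1, 0] (chainA.drop 3) = true ∧ upOk [] [2, 1, 0] (chainA.drop 3) = true ∧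
    idxOk tableLen (chainA.drop 3) = true ∧
    (cand.filter fun R => Nat.beq (nine R) idP).length = 9 ∧
    (cand.all fun R => !Nat.beq (nine R) idP || Nat.beq (comp R (comp R R)) idP) = true ∧
    fixOk F4 q8 = true ∧
    (∀ g : QuaternionGroup 2, qv g ∈ q8) ∧
    (∀ g h : QuaternionGroup 2, comp (qv g) (qv h) = qv (g * h)) ∧
    (∀ g : QuaternionGroup 2, qv g = idP → g = 1) := by decide +kernel

theorem mem_cand {k : Equiv.Perm Cfsg.GolayPt} (hk : k ∈ Fx F4) :
    ∃ R ∈ cand, valid R = true ∧ permOf R = k := by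
  obtain ⟨hM, hF⟩ := mem_Fx.mp hk
  obtain ⟨h1, h2, h3, -⟩ := cand_checks
  have hb : ∀ b ∈ [2, 1, 0], k (pt b) = pt b := by
    intro b hb
    simp only [List.mem_cons, List.not_mem_nil, or_false] at hb
    rcases hb with rfl | rfl | rfl <;> exact fix_point hk (by norm_num) (by decide)
  have hd : k • pts 499903 = pts 499903 := (smul_fam_single _).mp (hF [499903] (by decide))
  obtain ⟨R, hR, hv, e⟩ := mem_cands tableOk ddTest (fun Q cs hQ hag => by
      simp only [ddTest, List.all_eq_true, Bool.or_eq_true, Bool.not_eq_true', beq_iff_eq]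
      intro b hb'
      by_cases hb24 : b < 24
      · refine Or.inr (Bool.eq_iff_iff.mpr ?_)
        have e1 : idx (k (pt b)) = get Q b := by rw [← hag b hb', idx_permOf hQ, idx_pt hb24]
        rw [← e1, ← pt_mem_pts hb24, ← mem_pts]
        conv_rhs => rw [← hd, ← Equiv.Perm.smul_def, Finset.smul_mem_smul_finset_iff]
      · refine Or.inl ?_
        cases hbl : Nat.blt b 24
        · rfl
        · exact absurd (lt_of_blt hbl) hb24)
    _ _ _ valid_idP h1 h2 h3 (show (permOf idP)⁻¹ * k ∈ Fix [] [2, 1, 0] by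
      rw [permOf_idP, inv_one, one_mul]
      exact mem_Fix.mpr ⟨hM, fun x hx => absurd hx List.not_mem_nil, hb⟩)
  refine ⟨R, List.mem_filter.mpr ⟨hR, ?_⟩, hv, e⟩
  rw [← e, permOf_smul_pts hv] at hd
  rw [beq_iff_eq]
  refine pts_injOn ?_ (by norm_num) hd
  refine Nat.lt_pow_two_of_testBit _ fun i hi => Bool.eq_false_iff.mpr fun hb => ?_
  obtain ⟨j, hj, -, rfl⟩ := (testBit_imgMask _ _ _).mp hb
  have := (valid_iff.mp hv).2 j hj
  omega

theorem nine_small : Nat.card {k : ↥(Fx F4) // k ^ 9 = 1} ≤ 9 ∧ ∀ k : ↥(Fx F4), k ^ 9 = 1 → k ^ 3 = 1 := by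
  classical
  obtain ⟨-, -, -, h4, h5, -⟩ := cand_checks
  have key : ∀ k : ↥(Fx F4), k ^ 9 = 1 → ∃ R ∈ cand.filter (fun R => Nat.beq (nine R) idP), permOf R = (k : Equiv.Perm Cfsg.GolayPt) ∧ k ^ 3 = 1 := by
    intro k hk
    obtain ⟨R, hR, hv, e⟩ := mem_cand k.2
    have v2 := valid_comp hv hv
    have v3 := valid_comp hv v2
    have h9 : nine R = idP := comp_eq_idP v3 (valid_comp v3 v3) (by
      rw [permOf_comp v3 v3, permOf_comp hv v2, permOf_comp hv hv, e]
      have := congrArg Subtype.val hk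
      rw [SubgroupClass.coe_pow, OneMemClass.coe_one] at this
      rw [← this]
      simp only [pow_succ, pow_zero, one_mul, mul_assoc])
    have hb : Nat.beq (nine R) idP = true := by rw [h9]; exact Nat.beq_refl _
    refine ⟨R, List.mem_filter.mpr ⟨hR, hb⟩, e, ?_⟩
    have h3 := List.all_eq_true.mp h5 R hR
    rw [hb, Bool.not_true, Bool.false_or] at h3
    refine Subtype.ext ?_
    rw [SubgroupClass.coe_pow, OneMemClass.coe_one, ← e, ← permOf_idP, ← Nat.eq_of_beq_eq_true h3, permOf_comp hv v2,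
      permOf_comp hv hv, pow_succ', pow_two]
  choose f hf1 hf2 hf3 using key
  refine ⟨?_, hf3⟩
  have := Nat.card_le_card_of_injective (fun k : {k : ↥(Fx F4) // k ^ 9 = 1} =>
      (⟨f k.1 k.2, List.mem_toFinset.mpr (hf1 k.1 k.2)⟩ : (cand.filter fun R => Nat.beq (nine R) idP).toFinset))
    fun a b e => by
      have e' : f a.1 a.2 = f b.1 b.2 := congrArg Subtype.val e
      exact Subtype.ext (Subtype.ext (by rw [← hf2 a.1 a.2, ← hf2 b.1 b.2, e']))
  refine this.trans ?_
  rw [Nat.card_eq_fintype_card, Fintype.card_coe]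
  exact (List.toFinset_card_le _).trans h4.le

theorem exists_quat : ∃ φ : QuaternionGroup 2 →* ↥(Fx F4), Function.Injective φ := by
  obtain ⟨-, -, -, -, -, hf, hm, hc, hi⟩ := cand_checks
  obtain ⟨hv, hle⟩ := grp_le_Fx hf
  have hvq : ∀ g, valid (qv g) = true := fun g => List.all_eq_true.mp hv _ (hm g)
  let φ : QuaternionGroup 2 →* ↥(Fx F4) :=
    MonoidHom.mk' (fun g => ⟨permOf (qv g), hle (mem_grp (hm g))⟩) fun g h => Subtype.ext (by
      show permOf (qv (g * h)) = permOf (qv g) * permOf (qv h)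
      rw [← hc, permOf_comp (hvq g) (hvq h)])
  refine ⟨φ, (injective_iff_map_eq_one φ).mpr fun g hg => hi g ?_⟩
  have e : permOf (qv g) = 1 := congrArg Subtype.val hg
  have hidem : comp (qv g) (qv 1) = qv g := by rw [hc, mul_one]
  have h1 : permOf (qv 1) = 1 := by
    have h := congrArg permOf (hc 1 1)
    rw [mul_one, permOf_comp (hvq _) (hvq _)] at h
    exact mul_left_cancel (h.trans (mul_one _).symm)
  rw [← hidem]
  exact comp_eq_idP (hvq g) (hvq 1) (by rw [e, h1, one_mul])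

theorem transfer {H : Type*} [Group H] [Finite H] (E : H ≃* ↥(Fx F4)) :
    (∀ Q : Sylow 3 H, (Q : Subgroup H).Normal ∧ Nat.card ↥Q = 9 ∧ ∀ x ∈ (Q : Subgroup H), x ^ 3 = 1) ∧
      ∀ P : Sylow 2 H, Nonempty (↥P ≃* QuaternionGroup 2) := by
  haveI : Fact (Nat.Prime 3) := ⟨Nat.prime_three⟩
  haveI : Fact (Nat.Prime 2) := ⟨Nat.prime_two⟩
  have hcard : Nat.card H = 2 ^ 3 * 3 ^ 2 := (Nat.card_congr E.toEquiv).trans stageDodPt3.card_Fx
  have hf3 : (Nat.card H).factorization 3 = 2 := by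
    rw [hcard, Nat.factorization_mul (by norm_num) (by norm_num), Finsupp.add_apply,
      Nat.Prime.factorization_pow Nat.prime_two, Nat.Prime.factorization_pow Nat.prime_three]
    simp
  have hf2 : (Nat.card H).factorization 2 = 3 := by
    rw [hcard, Nat.factorization_mul (by norm_num) (by norm_num), Finsupp.add_apply,
      Nat.Prime.factorization_pow Nat.prime_two, Nat.Prime.factorization_pow Nat.prime_three]
    simp
  refine ⟨fun Q => ?_, fun P => ?_⟩
  · have hQ : Nat.card ↥(Q : Subgroup H) = 9 := by rw [Q.card_eq_multiplicity, hf3]; norm_num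
    have h9 : ∀ x ∈ (Q : Subgroup H), x ^ 9 = 1 := fun x hx => by
      have := pow_card_eq_one' (x := (⟨x, hx⟩ : ↥(Q : Subgroup H)))
      rw [hQ] at this
      exact congrArg Subtype.val this
    have hset : ((Q : Subgroup H) : Set H) = {x | x ^ 9 = 1} := by
      refine Set.eq_of_subset_of_ncard_le h9 ?_ (Set.toFinite _)
      rw [← Nat.card_coe_set_eq, ← Nat.card_coe_set_eq]
      refine le_trans ?_ (le_of_eq hQ.symm)
      refine le_trans (le_of_eq (Nat.card_congr (E.toEquiv.subtypeEquiv fun x => ?_))) nine_small.1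
      show x ^ 9 = 1 ↔ E x ^ 9 = 1
      rw [← map_pow, MulEquiv.map_eq_one_iff]
    refine ⟨⟨fun x hx g => ?_⟩, hQ, fun x hx => E.injective ?_⟩
    · rw [← SetLike.mem_coe, hset, Set.mem_setOf_eq, conj_pow, h9 x hx, mul_one, mul_inv_cancel]
    · rw [map_pow, map_one]
      exact nine_small.2 _ (by rw [← map_pow, h9 x hx, map_one])
  · obtain ⟨φ, hφ⟩ := exists_quat
    let ψ : QuaternionGroup 2 →* H := E.symm.toMonoidHom.comp φ
    have hψ : Function.Injective ψ := E.symm.injective.comp hφ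
    have h8 : Nat.card ψ.range = 2 ^ (Nat.card H).factorization 2 := by
      rw [hf2, ← Nat.card_congr (MonoidHom.ofInjective hψ).toEquiv, Nat.card_eq_fintype_card, QuaternionGroup.card]
      norm_num
    exact ⟨((Sylow.equiv P (Sylow.ofCard ψ.range h8)).trans (MulEquiv.subgroupCongr (Sylow.coe_ofCard _ h8))).trans
      (MonoidHom.ofInjective hψ).symm⟩

/-- In the group of the length-24 code, the subgroup fixing a dodecad setwise and three of its points individually (a group of order 72) has a normal Sylow 3-subgroup that is elementary abelian of order 9, and its Sylow 2-subgroups are quaternion of order 8. -/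
theorem result (d : Finset Cfsg.GolayPt) (hd : d ∈ Cfsg.dodecads) (p q r : Cfsg.GolayPt) (hp : p ∈ d) (hq : q ∈ d) (hr : r ∈ d) (hpq : p ≠ q) (hpr : p ≠ r) (hqr : q ≠ r) : (∀ Q : Sylow 3 ↥(MulAction.stabilizer Cfsg.M24 d ⊓ MulAction.stabilizer Cfsg.M24 p ⊓ MulAction.stabilizer Cfsg.M24 q ⊓ MulAction.stabilizer Cfsg.M24 r), (Q : Subgroup ↥(MulAction.stabilizer Cfsg.M24 d ⊓ MulAction.stabilizer Cfsg.M24 p ⊓ MulAction.stabilizer Cfsg.M24 q ⊓ MulAction.stabilizer Cfsg.M24 r)).Normal ∧ Nat.card ↥Q = 9 ∧ ∀ x ∈ (Q : Subgroup ↥(MulAction.stabilizer Cfsg.M24 d ⊓ MulAction.stabilizer Cfsg.M24 p ⊓ MulAction.stabilizer Cfsg.M24 q ⊓ MulAction.stabilizer Cfsg.M24 r)), x ^ 3 = 1) ∧ ∀ P : Sylow 2 ↥(MulAction.stabilizer Cfsg.M24 d ⊓ MulAction.stabilizer Cfsg.M24 p ⊓ MulAction.stabilizer Cfsg.M24 q ⊓ MulAction.stabilizer Cfsg.M24 r), Nonempty (↥P ≃* QuaternionGroup 2) := by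
  classical
  obtain ⟨u, hu, hu2⟩ : ∃ u : Finset Cfsg.GolayPt, u ⊆ d \ {p, q, r} ∧ u.card = 2 := by
    refine Finset.exists_subset_card_eq ?_
    have := Finset.le_card_sdiff ({p, q, r} : Finset Cfsg.GolayPt) d
    have h3 : ({p, q, r} : Finset Cfsg.GolayPt).card ≤ 3 := Finset.card_le_three
    rw [hd.2] at this
    omega
  obtain ⟨v, w, hvw, rfl⟩ := Finset.card_eq_two.mp hu2
  simp only [Finset.insert_subset_iff, Finset.singleton_subset_iff, Finset.mem_sdiff, Finset.mem_insert,
    Finset.mem_singleton, not_or] at hu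
  obtain ⟨⟨hvd, hvp, hvq, hvr⟩, hwd, hwp, hwq, hwr⟩ := hu
  obtain ⟨a, ha, ead, hx⟩ := exists_frame_dodecad hd ⟨![p, q, r, v, w], fun i j e => by
      revert e
      fin_cases i <;> fin_cases j <;>
        simp [hpq, hpr, hqr, hpq.symm, hpr.symm, hqr.symm, hvw, hvw.symm, hvp, hvq, hvr, hwp, hwq, hwr,
          Ne.symm hvp, Ne.symm hvq, Ne.symm hvr, Ne.symm hwp, Ne.symm hwq, Ne.symm hwr]⟩
    (fun i => by fin_cases i <;> assumption)
  have e0 : a (pt 0) = p := by have := hx 0; rwa [triv_checks.2.2] at this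
  have e1 : a (pt 1) = q := by have := hx 1; rwa [triv_checks.2.2] at this
  have e2 : a (pt 2) = r := by have := hx 2; rwa [triv_checks.2.2] at this
  have hK : ∀ g : Cfsg.M24, g ∈ MulAction.stabilizer Cfsg.M24 (pts dd, pt 0, pt 1, pt 2) ↔
      (g : Equiv.Perm Cfsg.GolayPt) ∈ Fx F4 := by
    intro g
    rw [F4, MulAction.mem_stabilizer_iff, mem_Fx, Prod.smul_mk, Prod.smul_mk, Prod.smul_mk, Prod.mk.injEq, Prod.mk.injEq,
      Prod.mk.injEq, List.forall_mem_cons, List.forall_mem_cons, List.forall_mem_cons, List.forall_mem_singleton,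
      smul_fam_single, smul_fam_single, smul_fam_single, smul_fam_single]
    have s0 := smul_pts_point (g := (g : Equiv.Perm Cfsg.GolayPt)) (i := 0) (by norm_num)
    have s1 := smul_pts_point (g := (g : Equiv.Perm Cfsg.GolayPt)) (i := 1) (by norm_num)
    have s2 := smul_pts_point (g := (g : Equiv.Perm Cfsg.GolayPt)) (i := 2) (by norm_num)
    norm_num at s0 s1 s2
    rw [s0, s1, s2]
    exact ⟨fun ⟨hd', h0, h1, h2⟩ => ⟨g.2, h2, h1, h0, hd'⟩, fun ⟨_, h2, h1, h0, hd'⟩ => ⟨hd', h0, h1, h2⟩⟩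
  have hH : MulAction.stabilizer Cfsg.M24 d ⊓ MulAction.stabilizer Cfsg.M24 p ⊓ MulAction.stabilizer Cfsg.M24 q ⊓
      MulAction.stabilizer Cfsg.M24 r = MulAction.stabilizer Cfsg.M24 ((⟨a, ha⟩ : Cfsg.M24) • (pts dd, pt 0, pt 1, pt 2)) := by
    subst e0 e1 e2 ead
    ext g
    simp [MulAction.mem_stabilizer_iff, Subgroup.mem_inf, and_assoc, Subgroup.smul_def]
  exact transfer ((MulEquiv.subgroupCongr hH).trans (stdEquiv hK (⟨a, ha⟩ : Cfsg.M24)))

end Cfsg.Agent.S5619
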