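import Cfsg.Statements.S5620
import Cfsg.Agent.Lib.Fus.MathieuTwoGroups
import Cfsg.Agent.Lib.Spor.Golay.CensusParts
import Cfsg.Agent.Lib.Spor.Golay.CensusNested

set_option autoImplicit false
open scoped Pointwise
open Cfsg

namespace Cfsg.Agent.S5620

open Cfsg.Agent.Spor.Golay Cfsg.Agent.Spor.Golay.Census
open scoped Pointwise

/-- The element exchanging the dodecad and its complement. -/
def swapP : ℕ := 0x5883388a1c8f5140b46cd317aed7

/-- Generators fixing the dodecad and the last point. -/
def mG : List ℕ := [0xbd1f171a7229c8355980a89698202d, 0xbccf478e3253a09ad982285666a004]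

/-- Their orbit. -/
def mOrb : Orb where
  k := 1
  n := 12
  keys := 0x100000008000002000004001000040000000040000200010000000010002000000001
  ord := 0x60003000100070004000b00050002000a000800090000
  par := 0x800060005000500040003000200020001000000000000
  gen := 0x101000000010001010000
  tabs := [0x9280009080009200009000008280008080008200008000001280001080001200001000000280000080000200000000000c40400840400440400040400c40000840000440000040000c00400800400400400000400c00000800000400000000000000b80000b00000a80000a0000038000030000028000020000098000090000088000080000018000010000008000000401401401400400401400400001401001400000401000400401001401000400001400000001001001000000001000000200a04200804200204200004200a00200800200200200000000a04000804000204000004000a00000800000200000000012102010102012100010100012002010002012000010000002102000102002100000100002002000002002000000000, 0x980080880080980000880000900080800080900000800000180080080080180000080000100080000080100000000000068008028008048008008008068000028000048000008000060008020008040008000008060000020000040000000000014600014400004600004400010600010400000600000400014200014000004200004000010200010000000200000000601004601000600004600000201004201000200004200000401004401000400004400000001004001000000004000000000862000822000062000022000860000820000060000020000842000802000042000002000840000800000040000000002111002101002110002100002011002001002010002000000111000101000110000100000011000001000010000000]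
  imgs := [0x30009000b000a0005000800070006000400020001, 0x800010000000b0004000a000900070006000500030002]

theorem checks : inM24 swapP = true ∧ get swapP 0 = 23 ∧ imgMask (get swapP) 340831 = 16777215 ^^^ 340831 ∧
    fixOk [[340831], [8388608]] mG = true ∧ mOrb.ok mG = true ∧ mOrb.obj 0 = [1] ∧
    pointsOk mOrb (fun j => Nat.testBit 340831 j) = true ∧ pt 0 = some 0 ∧ pt 23 = none ∧ Nat.testBit 340831 0 = true := by
  decide +kernel

/-- Inside the stabiliser of the dodecad of squares (a Mathieu group of degree 12), the stabiliser of the residue 0 (a point of the dodecad) and the stabiliser of the extra point (a point outside the dodecad) are isomorphic but not conjugate; conjugation by a suitable element of the code's group that maps the dodecad of squares onto its complement carries the first onto the second. -/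
theorem result : Nonempty (↥(Cfsg.Spor.M12 ⊓ MulAction.stabilizer (Equiv.Perm Cfsg.GolayPt) (none : Cfsg.GolayPt)) ≃* ↥Cfsg.Spor.M11) ∧ (¬ ∃ k ∈ Cfsg.Spor.M12, MulAut.conj k • Cfsg.Spor.M11 = Cfsg.Spor.M12 ⊓ MulAction.stabilizer (Equiv.Perm Cfsg.GolayPt) (none : Cfsg.GolayPt)) ∧ ∃ g ∈ Cfsg.M24, g • Cfsg.Spor.squareDodecad = Finset.univ \ Cfsg.Spor.squareDodecad ∧ MulAut.conj g • Cfsg.Spor.M11 = Cfsg.Spor.M12 ⊓ MulAction.stabilizer (Equiv.Perm Cfsg.GolayPt) (none : Cfsg.GolayPt) := by
  obtain ⟨hg, h0, him, hf, hO, hO0, hpts, p0, p23, hb0⟩ := checks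
  have hv : valid swapP = true := by simp only [inM24, Bool.and_eq_true] at hg; exact hg.1
  set g := permOf swapP with hgdef
  have hgM : g ∈ Cfsg.M24 := permOf_mem_M24 hg
  have hsq : Cfsg.Spor.squareDodecad = pts 340831 := Cfsg.Agent.Fus.Mathieu.pts_square
  have hgd : g • Cfsg.Spor.squareDodecad = Finset.univ \ Cfsg.Spor.squareDodecad := by
    rw [hsq, ← Finset.compl_eq_univ_sdiff, pts_compl, hgdef, permOf_smul_pts hv, him]
  have hg0 : g (some 0) = none := by
    rw [← p0, ← p23]
    exact idx_injective (by rw [idx_permOf hv, idx_pt (by norm_num), h0, idx_pt (by norm_num)])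
  have hgc : g • Cfsg.Spor.squareDodecadᶜ = (g • Cfsg.Spor.squareDodecad)ᶜ := smul_compl' g _
  have hconj : MulAut.conj g • Cfsg.Spor.M11 =
      Cfsg.Spor.M12 ⊓ MulAction.stabilizer (Equiv.Perm Cfsg.GolayPt) (none : Cfsg.GolayPt) := by
    ext x
    rw [Subgroup.mem_pointwise_smul_iff_inv_smul_mem]
    show g⁻¹ * x * g⁻¹⁻¹ ∈ Cfsg.Spor.M11 ↔ _
    have hM : g⁻¹ * x * g ∈ Cfsg.M24 ↔ x ∈ Cfsg.M24 := by
      rw [Subgroup.mul_mem_cancel_right _ hgM, Subgroup.mul_mem_cancel_left _ (inv_mem hgM)]
    have e2 : g • (some 0 : Cfsg.GolayPt) = none := hg0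
    have e1 : x • (Finset.univ \ Cfsg.Spor.squareDodecad) = Finset.univ \ Cfsg.Spor.squareDodecad ↔
        x • Cfsg.Spor.squareDodecad = Cfsg.Spor.squareDodecad := by
      rw [← Finset.compl_eq_univ_sdiff, smul_compl', compl_inj_iff]
    simp only [inv_inv, Cfsg.Spor.M11, Cfsg.Spor.M12, Subgroup.mem_inf, hM]
    simp only [MulAction.mem_stabilizer_iff, mul_smul, inv_smul_eq_iff, hgd, e1, e2]
  refine ⟨⟨((MulEquiv.subgroupCongr hconj).symm.trans (Subgroup.equivSMul (MulAut.conj g) Cfsg.Spor.M11).symm)⟩, ?_,
    g, hgM, hgd, hconj⟩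
  rintro ⟨k, hk, hkeq⟩
  obtain ⟨-, hkd⟩ := Subgroup.mem_inf.mp hk
  rw [MulAction.mem_stabilizer_iff] at hkd
  have hp : k (some 0) ∈ Cfsg.Spor.squareDodecad := by
    rw [← hkd]
    refine Finset.smul_mem_smul_finset (a := k) ?_
    rw [hsq, ← p0, mem_pts, idx_pt (by norm_num), hb0]
  have hfix : ∀ x ∈ Cfsg.Spor.M12 ⊓ MulAction.stabilizer (Equiv.Perm Cfsg.GolayPt) (none : Cfsg.GolayPt),
      x (k (some 0)) = k (some 0) := by
    intro x hx
    rw [← hkeq, Subgroup.mem_pointwise_smul_iff_inv_smul_mem] at hx
    have h : (k⁻¹ * x * k⁻¹⁻¹) (some 0) = some 0 := (Subgroup.mem_inf.mp hx).2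
    rw [inv_inv, Equiv.Perm.mul_apply, Equiv.Perm.mul_apply, Equiv.Perm.inv_eq_iff_eq] at h
    exact h
  obtain ⟨hvm, hle⟩ := grp_le_Fx hf
  have hmem : ∀ x ∈ grp mG, x ∈ Cfsg.Spor.M12 ⊓ MulAction.stabilizer (Equiv.Perm Cfsg.GolayPt) (none : Cfsg.GolayPt) := by
    intro x hx
    obtain ⟨h1, h2⟩ := mem_Fx.mp (hle hx)
    refine Subgroup.mem_inf.mpr ⟨Subgroup.mem_inf.mpr ⟨h1, ?_⟩, ?_⟩
    · rw [MulAction.mem_stabilizer_iff, hsq]
      exact (smul_fam_single _).mp (h2 _ (by simp))
    · rw [MulAction.mem_stabilizer_iff, ← p23]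
      exact (smul_pts_point (by norm_num)).mp ((smul_fam_single _).mp (h2 [2 ^ 23] (by simp)))
  simp only [Orb.ok, Bool.and_eq_true] at hO
  have horb := Orb.orbit_eq hvm hO.1.1.1 hO.1.1.2 hO.1.2
  rw [hO0] at horb
  have horb' : MulAction.orbit ↥(grp mG) (pts 1) = mOrb.setSet := orbit_single 1 horb
  have hto : ∀ q : Cfsg.GolayPt, q ∈ Cfsg.Spor.squareDodecad → ∃ x ∈ grp mG, x (pt 0) = q := by
    intro q hq
    rw [hsq, mem_pts] at hq
    have h2 := allLt_spec hpts (idx q) (idx_lt q)
    simp only at h2
    rw [hq, Bool.not_true, Bool.false_or] at h2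
    have hm : pts (2 ^ idx q) ∈ mOrb.setSet := Orb.mem_setSet_of_has h2
    rw [← horb'] at hm
    obtain ⟨⟨x, hx⟩, e⟩ := hm
    refine ⟨x, hx, ?_⟩
    have e' : x • pts (2 ^ 0) = pts (2 ^ idx q) := e
    rwa [pts_two_pow (by norm_num), pts_two_pow (idx_lt q), Finset.smul_finset_singleton, Finset.singleton_inj,
      pt_idx] at e'
  obtain ⟨q, hq, hne⟩ := Finset.exists_mem_ne (s := Cfsg.Spor.squareDodecad) (by
    have : Cfsg.Spor.squareDodecad.card = 12 := Cfsg.Agent.Fus.Mathieu.square_mem.2
    omega) (k (some 0))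
  obtain ⟨x, hx, ex⟩ := hto _ hp
  obtain ⟨y, hy, ey⟩ := hto q hq
  refine hne ?_
  rw [← ey, ← hfix (y * x⁻¹) (hmem _ (mul_mem hy (inv_mem hx))), ← ex]
  simp

end Cfsg.Agent.S5620
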