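import Cfsg.Statements.S5622
import Mathlib
import Cfsg.Agent.Lib.Spor.GolayAbstract
-- import your own Cfsg.Agent.* helpers here

set_option autoImplicit false
open Cfsg

namespace Cfsg.Agent.S5622

/-- Let C be a self-dual binary code of length 24 with minimum weight at least 8 (a 12-dimensional subspace of the 24-dimensional space over the field with two elements, any two of whose words have dot product zero, with no non-zero word of weight below 8 — an abstract extended binary Golay code). Then the minimum weight of C is exactly 8, and the supports of the words of weight 8 (the octads) form a Steiner system S(5, 8, 24) on the 24 coordinates: every 5 coordinates lie in the support of exactly one word of weight 8. -/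
theorem result (C : Submodule (ZMod 2) (Fin 24 → ZMod 2)) (hdim : Module.finrank (ZMod 2) C = 12) (horth : ∀ v ∈ C, ∀ w ∈ C, ∑ i, v i * w i = 0) (hmin : ∀ w ∈ C, w ≠ 0 → 8 ≤ hammingNorm w) : (∃ w ∈ C, hammingNorm w = 8) ∧ Cfsg.IsSteinerSystem 5 8 (Cfsg.wordsOfWeight (C : Set (Fin 24 → ZMod 2)) 8) := by
  classical
  have h : Spor.GolayAbstract.Hyp C := ⟨hdim, horth, hmin⟩
  have hsup : ∀ f : Fin 24 → ZMod 2, support₂ f = Spor.GolayAbstract.supp f := fun f => by
    ext i; simp [support₂, Spor.GolayAbstract.supp]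
  obtain ⟨s, -, -, hs⟩ := Finset.exists_subsuperset_card_eq (Finset.subset_univ (∅ : Finset (Fin 24))) (show _ ≤ 5 by simp) (by simp)
  obtain ⟨f, hf, hf8, -⟩ := h.exists_octad hs
  refine ⟨⟨f, hf, hf8⟩, fun b hb => hb.2, fun t ht => ?_⟩
  obtain ⟨g, hg, hg8, hgt⟩ := h.exists_octad ht
  refine ⟨Spor.GolayAbstract.supp g, ⟨⟨⟨g, hg, hsup g⟩, hg8⟩, hgt⟩, ?_⟩
  rintro _ ⟨⟨⟨k, hk, rfl⟩, hk8⟩, hkt⟩
  rw [hsup] at hk8 hkt ⊢
  rw [h.octad_unique ht hk hg hk8 hg8 hkt hgt]

end Cfsg.Agent.S5622
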