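import Cfsg.Statements.S5623
import Mathlib
import Cfsg.Agent.Lib.Spor.GolayAbstract
-- import your own Cfsg.Agent.* helpers here

set_option autoImplicit false
open Cfsg

namespace Cfsg.Agent.S5623

/-- Let C be a self-dual binary code of length 24 with minimum weight at least 8 (a 12-dimensional subspace of the 24-dimensional space over the field with two elements, any two of whose words have dot product zero, with no non-zero word of weight below 8 — an abstract extended binary Golay code). Then every coset w + C of C in the ambient space contains either exactly one word of weight at most 4, which then has weight at most 3, or exactly six words of weight at most 4, all of weight exactly 4 and with pairwise disjoint supports (a sextet). -/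
theorem result (C : Submodule (ZMod 2) (Fin 24 → ZMod 2)) (hdim : Module.finrank (ZMod 2) C = 12) (horth : ∀ v ∈ C, ∀ w ∈ C, ∑ i, v i * w i = 0) (hmin : ∀ w ∈ C, w ≠ 0 → 8 ≤ hammingNorm w) (w : Fin 24 → ZMod 2) : (∃ u : Fin 24 → ZMod 2, {u : Fin 24 → ZMod 2 | u - w ∈ C ∧ hammingNorm u ≤ 4} = {u} ∧ hammingNorm u ≤ 3) ∨ ({u : Fin 24 → ZMod 2 | u - w ∈ C ∧ hammingNorm u ≤ 4}.ncard = 6 ∧ ∀ u ∈ {u : Fin 24 → ZMod 2 | u - w ∈ C ∧ hammingNorm u ≤ 4}, hammingNorm u = 4 ∧ ∀ u' ∈ {u : Fin 24 → ZMod 2 | u - w ∈ C ∧ hammingNorm u ≤ 4}, u ≠ u' → Disjoint (Finset.univ.filter fun i => u i ≠ 0) (Finset.univ.filter fun i => u' i ≠ 0)) := by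
  classical
  have h : Spor.GolayAbstract.Hyp C := ⟨hdim, horth, hmin⟩
  have mk : ∀ s : Finset (Fin 24), Spor.GolayAbstract.cls C s = Submodule.Quotient.mk w ↔ Spor.GolayAbstract.ind s - w ∈ C :=
    fun s => Submodule.Quotient.eq C
  rcases h.coset_dichotomy (Submodule.Quotient.mk w) with ⟨s, hs, e⟩ | h6
  · left
    have hw := (mk s).mp e
    refine ⟨Spor.GolayAbstract.ind s, ?_, by rw [Spor.GolayAbstract.norm_eq, Spor.GolayAbstract.supp_ind]; exact hs⟩
    ext v
    simp only [Set.mem_setOf_eq, Set.mem_singleton_iff]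
    constructor
    · rintro ⟨hv, hv4⟩
      rw [Spor.GolayAbstract.norm_eq] at hv4
      refine h.eq_of_small ?_ (by rw [Spor.GolayAbstract.supp_ind]; omega)
      simpa using C.sub_mem hv hw
    · rintro rfl
      exact ⟨hw, by rw [Spor.GolayAbstract.norm_eq, Spor.GolayAbstract.supp_ind]; omega⟩
  · right
    have hset : {u : Fin 24 → ZMod 2 | u - w ∈ C ∧ hammingNorm u ≤ 4} =
        Spor.GolayAbstract.ind '' (Spor.GolayAbstract.fours C (Submodule.Quotient.mk w) : Set (Finset (Fin 24))) := by
      ext v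
      simp only [Set.mem_setOf_eq, Set.mem_image, Finset.mem_coe, Spor.GolayAbstract.mem_fours]
      constructor
      · rintro ⟨hv, hv4⟩
        refine ⟨Spor.GolayAbstract.supp v, ⟨?_, (mk _).mpr (by rwa [Spor.GolayAbstract.ind_supp])⟩, Spor.GolayAbstract.ind_supp v⟩
        rw [Spor.GolayAbstract.norm_eq] at hv4
        by_contra hne
        obtain ⟨t, ht⟩ := Finset.card_pos.mp (show 0 < (Spor.GolayAbstract.fours C (Submodule.Quotient.mk w)).card by omega)
        obtain ⟨ht4, hte⟩ := Spor.GolayAbstract.mem_fours.mp ht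
        have e := h.cls_inj (s := Spor.GolayAbstract.supp v) (t := t) (((mk _).mpr (by rwa [Spor.GolayAbstract.ind_supp])).trans hte.symm) (by omega)
        exact hne (e ▸ ht4)
      · rintro ⟨t, ⟨ht4, hte⟩, rfl⟩
        exact ⟨(mk t).mp hte, by rw [Spor.GolayAbstract.norm_eq, Spor.GolayAbstract.supp_ind, ht4]⟩
    rw [hset]
    have hinj : Function.Injective Spor.GolayAbstract.ind := fun a b e => by
      rw [← Spor.GolayAbstract.supp_ind a, e, Spor.GolayAbstract.supp_ind]
    refine ⟨by rw [Set.ncard_image_of_injective _ hinj, Set.ncard_coe_finset, h6], ?_⟩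
    rintro _ ⟨t, ht, rfl⟩
    rw [Finset.mem_coe] at ht
    refine ⟨by rw [Spor.GolayAbstract.norm_eq, Spor.GolayAbstract.supp_ind, (Spor.GolayAbstract.mem_fours.mp ht).1], ?_⟩
    rintro _ ⟨t', ht', rfl⟩ hne
    show Disjoint (Spor.GolayAbstract.supp _) (Spor.GolayAbstract.supp _)
    rw [Spor.GolayAbstract.supp_ind, Spor.GolayAbstract.supp_ind]
    exact h.fours_disjoint ht (Finset.mem_coe.mp ht') (fun e => hne (by rw [e]))

end Cfsg.Agent.S5623
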