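import Cfsg.Statements.S5627
import Mathlib
-- import your own Cfsg.Agent.* helpers here

set_option autoImplicit false
open Cfsg

namespace Cfsg.Agent.S5627

section
variable {α : Type*} [Fintype α] [DecidableEq α]

/-- The plane of order four. -/
structure Plane (L : Set (Finset α)) : Prop where
  card : Fintype.card α = 21
  steiner : IsSteinerSystem 2 5 L

variable {L : Set (Finset α)}

/-- No three of the points on a line. -/
def Indep (L : Set (Finset α)) (S : Finset α) : Prop := ∀ l ∈ L, (l ∩ S).card ≤ 2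

theorem Indep.mono {S T : Finset α} (h : Indep L T) (hST : S ⊆ T) : Indep L S := fun l hl =>
  (Finset.card_le_card (Finset.inter_subset_inter_left hST)).trans (h l hl)

theorem Plane.eq_of_two (P : Plane L) {l m : Finset α} (hl : l ∈ L) (hm : m ∈ L) {x y : α} (hxy : x ≠ y)
    (hxl : x ∈ l) (hyl : y ∈ l) (hxm : x ∈ m) (hym : y ∈ m) : l = m := by
  obtain ⟨b, -, hu⟩ := P.steiner.2 {x, y} (Finset.card_pair hxy)
  rw [hu l ⟨hl, by simp [Finset.insert_subset_iff, hxl, hyl]⟩, hu m ⟨hm, by simp [Finset.insert_subset_iff, hxm, hym]⟩]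

theorem Plane.exists_line (P : Plane L) {x y : α} (hxy : x ≠ y) : ∃ l ∈ L, x ∈ l ∧ y ∈ l := by
  obtain ⟨b, ⟨hb, hs⟩, -⟩ := P.steiner.2 {x, y} (Finset.card_pair hxy)
  exact ⟨b, hb, hs (by simp), hs (by simp)⟩

theorem Plane.line_inter (P : Plane L) {l m : Finset α} (hl : l ∈ L) (hm : m ∈ L) (hne : l ≠ m) : (l ∩ m).card = 1 := by
  have hle : (l ∩ m).card ≤ 1 := Finset.card_le_one.mpr fun x hx y hy => by
    by_contra hxy
    rw [Finset.mem_inter] at hx hy
    exact hne (P.eq_of_two hl hm hxy hx.1 hy.1 hx.2 hy.2)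
  have hge : (l ∩ m).card ≠ 0 := by
    intro h0
    rw [Finset.card_eq_zero] at h0
    have hdis : ∀ z ∈ l, z ∉ m := fun z h1 h2 => by
      have : z ∈ l ∩ m := Finset.mem_inter.mpr ⟨h1, h2⟩
      rw [h0] at this; exact absurd this (Finset.notMem_empty z)
    obtain ⟨x, hx⟩ := Finset.card_pos.mp (show 0 < l.card by rw [P.steiner.1 l hl]; norm_num)
    have hxm : ∀ y ∈ m, x ≠ y := fun y hy e => hdis x hx (e ▸ hy)
    choose f hf hfx hfy using fun y : m => P.exists_line (hxm y y.2)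
    have finj : Function.Injective f := fun y z e => Subtype.ext (by
      by_contra hyz
      have := P.eq_of_two (hf y) hm hyz (hfy y) (e ▸ hfy z) y.2 z.2
      exact hxm y y.2 (by
        have hxm' : x ∈ m := this ▸ hfx y
        exact absurd hxm' (hdis x hx)))
    let Ls : Finset (Finset α) := insert l (Finset.univ.image f)
    have hcard : Ls.card = 6 := by
      rw [Finset.card_insert_of_notMem, Finset.card_image_of_injective _ finj, Finset.card_univ, Fintype.card_coe, P.steiner.1 m hm]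
      intro h
      obtain ⟨y, -, e⟩ := Finset.mem_image.mp h
      exact hdis y (e ▸ hfy y) y.2
    have hLs : ∀ b ∈ Ls, b ∈ L ∧ x ∈ b := by
      intro b hb
      rcases Finset.mem_insert.mp hb with rfl | h
      · exact ⟨hl, hx⟩
      · obtain ⟨y, -, rfl⟩ := Finset.mem_image.mp h; exact ⟨hf y, hfx y⟩
    have h24 : (Ls.biUnion fun b => b.erase x).card = Ls.card * 4 := by
      refine (Finset.card_biUnion ?_).trans (Finset.sum_const_nat fun b hb => by
        rw [Finset.card_erase_of_mem (hLs b hb).2, P.steiner.1 b (hLs b hb).1])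
      intro b hb c hc hbc
      refine Finset.disjoint_left.mpr fun z hz hz' => hbc ?_
      rw [Finset.mem_erase] at hz hz'
      exact P.eq_of_two (hLs b hb).1 (hLs c hc).1 hz.1 hz.2 (hLs b hb).2 hz'.2 (hLs c hc).2
    have h20 : (Ls.biUnion fun b => b.erase x).card ≤ (Finset.univ.erase x).card :=
      Finset.card_le_card fun z hz => by
        obtain ⟨b, -, hz'⟩ := Finset.mem_biUnion.mp hz
        exact Finset.mem_erase.mpr ⟨(Finset.mem_erase.mp hz').1, Finset.mem_univ z⟩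
    rw [Finset.card_erase_of_mem (Finset.mem_univ x), Finset.card_univ, P.card, h24, hcard] at h20
    omega
  omega

/-- Points that extend an independent set. -/
noncomputable def ext (L : Set (Finset α)) (A : Finset α) : Finset α := by
  classical exact Finset.univ.filter fun x => x ∉ A ∧ Indep L (insert x A)

theorem mem_ext {A : Finset α} {x : α} : x ∈ ext L A ↔ x ∉ A ∧ Indep L (insert x A) := by
  classical
  simp [ext]

theorem Plane.mem_ext_iff (P : Plane L) {A : Finset α} (hA : Indep L A) {x : α} :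
    x ∈ ext L A ↔ x ∉ A ∧ ∀ a ∈ A, ∀ b ∈ A, a ≠ b → ∀ l ∈ L, a ∈ l → b ∈ l → x ∉ l := by
  rw [mem_ext]
  refine and_congr_right fun hx => ⟨fun h a ha b hb hab l hl hal hbl hxl => ?_, fun h l hl => ?_⟩
  · have hs : ({x, a, b} : Finset α) ⊆ l ∩ insert x A := by
      simp [Finset.insert_subset_iff, hxl, hal, hbl, ha, hb]
    have := (Finset.card_le_card hs).trans (h l hl)
    rw [Finset.card_eq_three.mpr ⟨x, a, b, fun e => hx (e ▸ ha), fun e => hx (e ▸ hb), hab, rfl⟩] at this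
    omega
  · by_contra h3
    have h2 := hA l hl
    have hxl : x ∈ l := by
      by_contra hxl
      rw [Finset.inter_insert_of_notMem hxl] at h3; omega
    rw [Finset.inter_insert_of_mem hxl, Finset.card_insert_of_notMem (fun e => hx (Finset.mem_inter.mp e).2)] at h3
    obtain ⟨a, ha, b, hb, hab⟩ := Finset.one_lt_card.mp (show 1 < (l ∩ A).card by omega)
    rw [Finset.mem_inter] at ha hb
    exact h a ha.2 b hb.2 hab l hl ha.1 hb.1 hxl

/-- The triangle data. -/
theorem Plane.triangle (P : Plane L) {a b c : α} (hab : a ≠ b) (hac : a ≠ c) (hbc : b ≠ c)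
    (hA : Indep L {a, b, c}) : ∃ l₁ ∈ L, ∃ l₂ ∈ L, ∃ l₃ ∈ L, b ∈ l₁ ∧ c ∈ l₁ ∧ a ∉ l₁ ∧ a ∈ l₂ ∧ c ∈ l₂ ∧ b ∉ l₂ ∧
      a ∈ l₃ ∧ b ∈ l₃ ∧ c ∉ l₃ ∧ (l₁ ∪ l₂ ∪ l₃).card = 12 := by
  obtain ⟨l₁, h1, hb1, hc1⟩ := P.exists_line hbc
  obtain ⟨l₂, h2, ha2, hc2⟩ := P.exists_line hac
  obtain ⟨l₃, h3, ha3, hb3⟩ := P.exists_line hab
  have no3 : ∀ l ∈ L, a ∈ l → b ∈ l → c ∈ l → False := fun l hl ha hb hc => by
    have := hA l hl
    rw [Finset.inter_eq_right.mpr (by simp [Finset.insert_subset_iff, ha, hb, hc]),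
      Finset.card_eq_three.mpr ⟨a, b, c, hab, hac, hbc, rfl⟩] at this
    omega
  have ha1 : a ∉ l₁ := fun h => no3 l₁ h1 h hb1 hc1
  have hb2 : b ∉ l₂ := fun h => no3 l₂ h2 ha2 h hc2
  have hc3 : c ∉ l₃ := fun h => no3 l₃ h3 ha3 hb3 h
  refine ⟨l₁, h1, l₂, h2, l₃, h3, hb1, hc1, ha1, ha2, hc2, hb2, ha3, hb3, hc3, ?_⟩
  have n12 : l₁ ≠ l₂ := fun e => ha1 (e ▸ ha2)
  have n13 : l₁ ≠ l₃ := fun e => ha1 (e ▸ ha3)
  have n23 : l₂ ≠ l₃ := fun e => hb2 (e ▸ hb3)
  have e13 : l₁ ∩ l₃ = {b} := by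
    obtain ⟨z, hz⟩ := Finset.card_eq_one.mp (P.line_inter h1 h3 n13)
    rw [hz]; congr 1
    have : b ∈ l₁ ∩ l₃ := Finset.mem_inter.mpr ⟨hb1, hb3⟩
    rw [hz, Finset.mem_singleton] at this; exact this.symm
  have e23 : l₂ ∩ l₃ = {a} := by
    obtain ⟨z, hz⟩ := Finset.card_eq_one.mp (P.line_inter h2 h3 n23)
    rw [hz]; congr 1
    have : a ∈ l₂ ∩ l₃ := Finset.mem_inter.mpr ⟨ha2, ha3⟩
    rw [hz, Finset.mem_singleton] at this; exact this.symm
  have u12 := Finset.card_union_add_card_inter l₁ l₂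
  have u123 := Finset.card_union_add_card_inter (l₁ ∪ l₂) l₃
  rw [Finset.union_inter_distrib_right, e13, e23, show ({b} ∪ {a} : Finset α) = {b, a} from rfl, Finset.card_pair hab.symm] at u123
  rw [P.line_inter h1 h2 n12, P.steiner.1 l₁ h1, P.steiner.1 l₂ h2] at u12
  rw [P.steiner.1 l₃ h3] at u123
  omega

theorem Plane.ext_three (P : Plane L) {a b c : α} (hab : a ≠ b) (hac : a ≠ c) (hbc : b ≠ c) (hA : Indep L {a, b, c}) :
    (ext L {a, b, c}).card = 9 := by
  obtain ⟨l₁, h1, l₂, h2, l₃, h3, hb1, hc1, ha1, ha2, hc2, hb2, ha3, hb3, hc3, hu⟩ := P.triangle hab hac hbc hA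
  have : ext L {a, b, c} = (l₁ ∪ l₂ ∪ l₃)ᶜ := by
    ext x
    rw [P.mem_ext_iff hA, Finset.mem_compl]
    simp only [Finset.mem_insert, Finset.mem_singleton, Finset.mem_union, not_or]
    constructor
    · rintro ⟨-, h⟩
      exact ⟨⟨h b (Or.inr (Or.inl rfl)) c (Or.inr (Or.inr rfl)) hbc l₁ h1 hb1 hc1,
        h a (Or.inl rfl) c (Or.inr (Or.inr rfl)) hac l₂ h2 ha2 hc2⟩, h a (Or.inl rfl) b (Or.inr (Or.inl rfl)) hab l₃ h3 ha3 hb3⟩
    · rintro ⟨⟨n1, n2⟩, n3⟩
      refine ⟨⟨fun e => n2 (e ▸ ha2), fun e => n1 (e ▸ hb1), fun e => n1 (e ▸ hc1)⟩, ?_⟩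
      rintro u hu v hv huv l hl hul hvl hxl
      have key : ∀ m ∈ L, u ∈ m → v ∈ m → x ∈ m := fun m hm hum hvm => P.eq_of_two hl hm huv hul hvl hum hvm ▸ hxl
      rcases hu with rfl | rfl | rfl <;> rcases hv with rfl | rfl | rfl
      all_goals first
        | exact huv rfl
        | exact n1 (key l₁ h1 (by assumption) (by assumption))
        | exact n2 (key l₂ h2 (by assumption) (by assumption))
        | exact n3 (key l₃ h3 (by assumption) (by assumption))
  rw [this, Finset.card_compl, P.card, hu]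

theorem six_prop {A B C D E F : Prop} : (¬A ∧ ¬B ∧ ¬C ∧ ¬D ∧ ¬E ∧ ¬F) ↔
    ¬(((A ∨ B) ∨ C) ∨ (((D ∧ ¬((A ∨ B) ∨ C)) ∨ (E ∧ ¬((A ∨ B) ∨ C))) ∨ (F ∧ ¬((A ∨ B) ∨ C)))) := by
  tauto

set_option maxHeartbeats 800000 in
/-- The two points extending a quadrangle, and their independence. -/
theorem Plane.ext_four (P : Plane L) {a b c d : α} (hab : a ≠ b) (hac : a ≠ c) (hbc : b ≠ c)
    (hd : d ∉ ({a, b, c} : Finset α)) (hA : Indep L (insert d {a, b, c})) :
    (ext L (insert d {a, b, c})).card = 2 ∧ ∀ l ∈ L, d ∈ l → ∀ p ∈ ext L (insert d {a, b, c}),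
      ∀ q ∈ ext L (insert d {a, b, c}), p ≠ q → ¬ (p ∈ l ∧ q ∈ l) := by
  have hA3 : Indep L {a, b, c} := hA.mono (Finset.subset_insert _ _)
  have hd3 : d ∈ ext L {a, b, c} := mem_ext.mpr ⟨hd, hA⟩
  obtain ⟨l₁, h1, l₂, h2, l₃, h3, hb1, hc1, ha1, ha2, hc2, hb2, ha3, hb3, hc3, hu⟩ := P.triangle hab hac hbc hA3
  set T := l₁ ∪ l₂ ∪ l₃ with hT
  have hdn := (P.mem_ext_iff hA3).mp hd3
  have d1 : d ∉ l₁ := hdn.2 b (by simp) c (by simp) hbc l₁ h1 hb1 hc1
  have d2 : d ∉ l₂ := hdn.2 a (by simp) c (by simp) hac l₂ h2 ha2 hc2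
  have d3 : d ∉ l₃ := hdn.2 a (by simp) b (by simp) hab l₃ h3 ha3 hb3
  have da : d ≠ a := fun e => hd (by simp [e])
  have db : d ≠ b := fun e => hd (by simp [e])
  have dc : d ≠ c := fun e => hd (by simp [e])
  obtain ⟨ma, hma, hdma, hama⟩ := P.exists_line da
  obtain ⟨mb, hmb, hdmb, hbmb⟩ := P.exists_line db
  obtain ⟨mc, hmc, hdmc, hcmc⟩ := P.exists_line dc
  have no3 : ∀ {u v : α}, u ∈ ({a, b, c} : Finset α) → v ∈ ({a, b, c} : Finset α) → u ≠ v → ∀ m ∈ L, d ∈ m → u ∈ m → v ∉ m :=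
    fun hu hv huv m hm hdm hum hvm => hdn.2 _ hu _ hv huv m hm hum hvm hdm
  have bma : b ∉ ma := no3 (by simp) (by simp) hab ma hma hdma hama
  have cma : c ∉ ma := no3 (by simp) (by simp) hac ma hma hdma hama
  have amb : a ∉ mb := no3 (by simp) (by simp) hab.symm mb hmb hdmb hbmb
  have cmb : c ∉ mb := no3 (by simp) (by simp) hbc mb hmb hdmb hbmb
  have amc : a ∉ mc := no3 (by simp) (by simp) hac.symm mc hmc hdmc hcmc
  have bmc : b ∉ mc := no3 (by simp) (by simp) hbc.symm mc hmc hdmc hcmc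
  -- a secant through `d` meets the triangle twice
  have two : ∀ (m : Finset α) (v : α) (k k' k'' : Finset α), m ∈ L → k ∈ L → k' ∈ L → k'' ∈ L → T = k ∪ k' ∪ k'' →
      v ∈ m → v ∈ k' → v ∈ k'' → v ∉ k → d ∈ m → d ∉ k → d ∉ k' → d ∉ k'' → (m \ T).card = 3 := by
    intro m v k k' k'' hm hk hk' hk'' hTe hvm hv' hv'' hv hdm hdk hdk' hdk''
    have one : ∀ j ∈ L, v ∈ j → d ∉ j → m ∩ j = {v} := fun j hj hvj hdj => by
      obtain ⟨z, hz⟩ := Finset.card_eq_one.mp (P.line_inter hm hj (fun e => hdj (e ▸ hdm)))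
      rw [hz]; congr 1
      have : v ∈ m ∩ j := Finset.mem_inter.mpr ⟨hvm, hvj⟩
      rw [hz, Finset.mem_singleton] at this; exact this.symm
    obtain ⟨z, hz⟩ := Finset.card_eq_one.mp (P.line_inter hm hk (fun e => hdk (e ▸ hdm)))
    have hzv : z ≠ v := fun e => hv (by
      have : z ∈ m ∩ k := by rw [hz]; simp
      exact e ▸ (Finset.mem_inter.mp this).2)
    have hi : m ∩ T = {z, v} := by
      rw [hTe, Finset.inter_union_distrib_left, Finset.inter_union_distrib_left, hz, one k' hk' hv' hdk', one k'' hk'' hv'' hdk'']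
      ext; simp
    rw [Finset.card_sdiff, Finset.inter_comm, hi, Finset.card_pair hzv, P.steiner.1 m hm]
  have ca : (ma \ T).card = 3 := two ma a l₁ l₂ l₃ hma h1 h2 h3 rfl hama ha2 ha3 ha1 hdma d1 d2 d3
  have cb : (mb \ T).card = 3 := two mb b l₂ l₁ l₃ hmb h2 h1 h3 (by rw [hT, Finset.union_comm l₁]) hbmb hb1 hb3 hb2 hdmb d2 d1 d3
  have cc : (mc \ T).card = 3 := two mc c l₃ l₁ l₂ hmc h3 h1 h2 (by rw [hT, Finset.union_comm _ l₃, Finset.union_assoc]) hcmc hc1 hc2 hc3 hdmc d3 d1 d2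
  have hdT : d ∉ T := by simp [hT, d1, d2, d3]
  have meet : ∀ m ∈ L, ∀ m' ∈ L, d ∈ m → d ∈ m' → m ≠ m' → (m \ T) ∩ (m' \ T) = {d} := by
    intro m hm m' hm' hdm hdm' hne
    ext x
    simp only [Finset.mem_inter, Finset.mem_sdiff, Finset.mem_singleton]
    constructor
    · rintro ⟨⟨hx, -⟩, hx', -⟩
      by_contra hxd
      exact hne (P.eq_of_two hm hm' hxd hx hdm hx' hdm')
    · rintro rfl; exact ⟨⟨hdm, hdT⟩, hdm', hdT⟩
  have nab : ma ≠ mb := fun e => bma (e ▸ hbmb)
  have nac : ma ≠ mc := fun e => cma (e ▸ hcmc)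
  have nbc : mb ≠ mc := fun e => cmb (e ▸ hcmc)
  have hcov : (T ∪ ((ma \ T) ∪ (mb \ T) ∪ (mc \ T))).card = 19 := by
    rw [Finset.card_union_of_disjoint (by
      refine Finset.disjoint_left.mpr fun x hx hx' => ?_
      simp only [Finset.mem_union, Finset.mem_sdiff] at hx'
      exact hx'.elim (fun h => h.elim (fun h' => h'.2 hx) (fun h' => h'.2 hx)) (fun h' => h'.2 hx))]
    have u1 := Finset.card_union_add_card_inter (ma \ T) (mb \ T)
    have u2 := Finset.card_union_add_card_inter ((ma \ T) ∪ (mb \ T)) (mc \ T)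
    rw [meet ma hma mb hmb hdma hdmb nab, Finset.card_singleton, ca, cb] at u1
    rw [Finset.union_inter_distrib_right, meet ma hma mc hmc hdma hdmc nac, meet mb hmb mc hmc hdmb hdmc nbc, Finset.union_self, Finset.card_singleton, cc] at u2
    omega
  have hext : ∀ x, x ∈ ext L (insert d {a, b, c}) ↔ x ∉ l₁ ∧ x ∉ l₂ ∧ x ∉ l₃ ∧ x ∉ ma ∧ x ∉ mb ∧ x ∉ mc := by
    intro x
    rw [P.mem_ext_iff hA]
    simp only [Finset.mem_insert, Finset.mem_singleton, not_or]
    constructor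
    · rintro ⟨-, h⟩
      exact ⟨h b (by simp) c (by simp) hbc l₁ h1 hb1 hc1, h a (by simp) c (by simp) hac l₂ h2 ha2 hc2,
        h a (by simp) b (by simp) hab l₃ h3 ha3 hb3, h d (by simp) a (by simp) da ma hma hdma hama,
        h d (by simp) b (by simp) db mb hmb hdmb hbmb, h d (by simp) c (by simp) dc mc hmc hdmc hcmc⟩
    · rintro ⟨n1, n2, n3, na, nb, nc⟩
      refine ⟨⟨fun e => na (e ▸ hdma), fun e => na (e ▸ hama), fun e => nb (e ▸ hbmb), fun e => nc (e ▸ hcmc)⟩, ?_⟩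
      rintro u hu v hv huv l hl hul hvl hxl
      have key : ∀ m ∈ L, u ∈ m → v ∈ m → x ∈ m := fun m hm hum hvm => P.eq_of_two hl hm huv hul hvl hum hvm ▸ hxl
      rcases hu with rfl | rfl | rfl | rfl <;> rcases hv with rfl | rfl | rfl | rfl
      all_goals first
        | exact huv rfl
        | exact n1 (key l₁ h1 (by assumption) (by assumption))
        | exact n2 (key l₂ h2 (by assumption) (by assumption))
        | exact n3 (key l₃ h3 (by assumption) (by assumption))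
        | exact na (key ma hma (by assumption) (by assumption))
        | exact nb (key mb hmb (by assumption) (by assumption))
        | exact nc (key mc hmc (by assumption) (by assumption))
  constructor
  · have : ext L (insert d {a, b, c}) = (T ∪ ((ma \ T) ∪ (mb \ T) ∪ (mc \ T)))ᶜ := by
      ext x
      rw [hext, Finset.mem_compl]
      simp only [hT, Finset.mem_union, Finset.mem_sdiff]
      exact six_prop
    rw [this, Finset.card_compl, P.card, hcov]
  · intro l hl hdl p hp q hq hpq hpql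
    obtain ⟨p1, p2, p3, pa, pb, pc⟩ := (hext p).mp hp
    obtain ⟨q1, q2, q3, qa, qb, qc⟩ := (hext q).mp hq
    have al : a ∉ l := fun h => pa (P.eq_of_two hl hma da hdl h hdma hama ▸ hpql.1)
    have bl : b ∉ l := fun h => pb (P.eq_of_two hl hmb db hdl h hdmb hbmb ▸ hpql.1)
    have cl : c ∉ l := fun h => pc (P.eq_of_two hl hmc dc hdl h hdmc hcmc ▸ hpql.1)
    obtain ⟨x₁, hx₁⟩ := Finset.card_eq_one.mp (P.line_inter hl h1 (fun e => d1 (e ▸ hdl)))
    obtain ⟨x₂, hx₂⟩ := Finset.card_eq_one.mp (P.line_inter hl h2 (fun e => d2 (e ▸ hdl)))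
    obtain ⟨x₃, hx₃⟩ := Finset.card_eq_one.mp (P.line_inter hl h3 (fun e => d3 (e ▸ hdl)))
    have m1 : x₁ ∈ l ∧ x₁ ∈ l₁ := Finset.mem_inter.mp (by rw [hx₁]; simp)
    have m2 : x₂ ∈ l ∧ x₂ ∈ l₂ := Finset.mem_inter.mp (by rw [hx₂]; simp)
    have m3 : x₃ ∈ l ∧ x₃ ∈ l₃ := Finset.mem_inter.mp (by rw [hx₃]; simp)
    have x12 : x₁ ≠ x₂ := fun e => cl (by
      by_contra hcl
      exact ha1 (P.eq_of_two h1 h2 (fun e' : x₁ = c => hcl (e' ▸ m1.1 : c ∈ l)) m1.2 hc1 (e ▸ m2.2) hc2 ▸ ha2))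
    have x13 : x₁ ≠ x₃ := fun e => bl (by
      by_contra hbl
      exact ha1 (P.eq_of_two h1 h3 (fun e' : x₁ = b => hbl (e' ▸ m1.1 : b ∈ l)) m1.2 hb1 (e ▸ m3.2) hb3 ▸ ha3))
    have x23 : x₂ ≠ x₃ := fun e => al (by
      by_contra hal
      exact hb2 (P.eq_of_two h2 h3 (fun e' : x₂ = a => hal (e' ▸ m2.1 : a ∈ l)) m2.2 ha2 (e ▸ m3.2) ha3 ▸ hb3))
    have hsub : ({d, p, q, x₁, x₂, x₃} : Finset α) ⊆ l := by
      simp [Finset.insert_subset_iff, hdl, hpql.1, hpql.2, m1.1, m2.1, m3.1]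
    have h6 : ({d, p, q, x₁, x₂, x₃} : Finset α).card = 6 := by
      have dp : d ≠ p := fun e => (mem_ext.mp hp).1 (by simp [e])
      have dq : d ≠ q := fun e => (mem_ext.mp hq).1 (by simp [e])
      have : d ≠ x₁ := fun e => d1 (e ▸ m1.2)
      have : d ≠ x₂ := fun e => d2 (e ▸ m2.2)
      have : d ≠ x₃ := fun e => d3 (e ▸ m3.2)
      have : p ≠ x₁ := fun e => p1 (e ▸ m1.2)
      have : p ≠ x₂ := fun e => p2 (e ▸ m2.2)
      have : p ≠ x₃ := fun e => p3 (e ▸ m3.2)
      have : q ≠ x₁ := fun e => q1 (e ▸ m1.2)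
      have : q ≠ x₂ := fun e => q2 (e ▸ m2.2)
      have : q ≠ x₃ := fun e => q3 (e ▸ m3.2)
      rw [Finset.card_insert_of_notMem, Finset.card_insert_of_notMem, Finset.card_insert_of_notMem,
        Finset.card_insert_of_notMem, Finset.card_pair x23] <;> simp [*]
    have := Finset.card_le_card hsub
    rw [h6, P.steiner.1 l hl] at this
    omega

/-- The independent sets of a given size. -/
noncomputable def arcs (L : Set (Finset α)) (n : ℕ) : Finset (Finset α) := by
  classical exact (Finset.powersetCard n Finset.univ).filter (Indep L)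

theorem mem_arcs {n : ℕ} {S : Finset α} : S ∈ arcs L n ↔ S.card = n ∧ Indep L S := by
  classical
  simp [arcs]

theorem arcs_step (n k : ℕ) (h : ∀ A ∈ arcs L n, (ext L A).card = k) :
    (arcs L (n + 1)).card * (n + 1) = (arcs L n).card * k := by
  classical
  symm
  refine Finset.card_mul_eq_card_mul (fun A B => A ⊆ B) ?_ ?_
  · intro A hA
    rw [← h A hA]
    refine (Finset.card_bij (fun x _ => insert x A) ?_ ?_ ?_).symm
    · intro x hx
      obtain ⟨h1, h2⟩ := mem_ext.mp hx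
      rw [Finset.mem_bipartiteAbove, mem_arcs, Finset.card_insert_of_notMem h1, (mem_arcs.mp hA).1]
      exact ⟨⟨rfl, h2⟩, Finset.subset_insert x A⟩
    · intro x hx y hy e
      exact (Finset.insert_inj (mem_ext.mp hx).1).mp e
    · intro B hB
      rw [Finset.mem_bipartiteAbove, mem_arcs] at hB
      obtain ⟨x, hx⟩ := Finset.card_eq_one.mp (show (B \ A).card = 1 by
        rw [Finset.card_sdiff_of_subset hB.2, hB.1.1, (mem_arcs.mp hA).1]; omega)
      have hxB : x ∈ B ∧ x ∉ A := Finset.mem_sdiff.mp (by rw [hx]; simp)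
      have e : insert x A = B := by
        rw [Finset.insert_eq, ← hx, Finset.sdiff_union_of_subset hB.2]
      exact ⟨x, mem_ext.mpr ⟨hxB.2, e ▸ hB.1.2⟩, e⟩
  · intro B hB
    have : Finset.bipartiteBelow (fun A B => A ⊆ B) (arcs L n) B = Finset.powersetCard n B := by
      ext A
      rw [Finset.mem_bipartiteBelow, mem_arcs, Finset.mem_powersetCard]
      exact ⟨fun h => ⟨h.2, h.1.1⟩, fun h => ⟨⟨h.2, (mem_arcs.mp hB).2.mono h.1⟩, h.1⟩⟩
    rw [this, Finset.card_powersetCard, (mem_arcs.mp hB).1, Nat.choose_succ_self_right]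

theorem indep_of_card_le {S : Finset α} (h : S.card ≤ 2) : Indep L S := fun l _ =>
  (Finset.card_le_card Finset.inter_subset_right).trans h

theorem Plane.card_arcs_four (P : Plane L) : (arcs L 4).card = 2520 := by
  have h0 : (arcs L 0).card = 1 := Finset.card_eq_one.mpr ⟨∅, by
    ext S; rw [mem_arcs, Finset.card_eq_zero, Finset.mem_singleton]
    exact ⟨fun h => h.1, fun h => ⟨h, h ▸ indep_of_card_le (by simp)⟩⟩⟩
  have e1 := arcs_step (L := L) 0 21 fun A hA => by
    obtain rfl := Finset.card_eq_zero.mp (mem_arcs.mp hA).1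
    rw [show ext L ∅ = Finset.univ from Finset.eq_univ_iff_forall.mpr fun x => mem_ext.mpr ⟨by simp, indep_of_card_le (by simp)⟩,
      Finset.card_univ, P.card]
  have e2 := arcs_step (L := L) 1 20 fun A hA => by
    obtain ⟨a, rfl⟩ := Finset.card_eq_one.mp (mem_arcs.mp hA).1
    rw [show ext L {a} = Finset.univ.erase a by
      ext x; rw [mem_ext, Finset.mem_erase]
      exact ⟨fun h => ⟨by simpa using h.1, Finset.mem_univ x⟩, fun h => ⟨by simpa using h.1, indep_of_card_le (Finset.card_insert_le _ _)⟩⟩,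
      Finset.card_erase_of_mem (Finset.mem_univ a), Finset.card_univ, P.card]
  have e3 := arcs_step (L := L) 2 16 fun A hA => by
    obtain ⟨a, b, hab, rfl⟩ := Finset.card_eq_two.mp (mem_arcs.mp hA).1
    obtain ⟨l, hl, hal, hbl⟩ := P.exists_line hab
    rw [show ext L {a, b} = lᶜ by
      ext x; rw [P.mem_ext_iff (mem_arcs.mp hA).2, Finset.mem_compl]
      simp only [Finset.mem_insert, Finset.mem_singleton, not_or]
      constructor
      · exact fun h => h.2 a (Or.inl rfl) b (Or.inr rfl) hab l hl hal hbl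
      · intro h
        refine ⟨⟨fun e => h (e ▸ hal), fun e => h (e ▸ hbl)⟩, ?_⟩
        rintro u hu v hv huv m hm hum hvm hxm
        rcases hu with rfl | rfl <;> rcases hv with rfl | rfl
        all_goals first
          | exact huv rfl
          | exact h (P.eq_of_two hm hl huv hum hvm hal hbl ▸ hxm)
          | exact h (P.eq_of_two hm hl huv hum hvm hbl hal ▸ hxm),
      Finset.card_compl, P.card, P.steiner.1 l hl]
  have e4 := arcs_step (L := L) 3 9 fun A hA => by
    obtain ⟨a, b, c, hab, hac, hbc, rfl⟩ := Finset.card_eq_three.mp (mem_arcs.mp hA).1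
    exact P.ext_three hab hac hbc (mem_arcs.mp hA).2
  simp only [Nat.reduceAdd] at e1 e2 e3 e4
  omega

/-- The hyperoval through a quadrangle. -/
theorem Plane.existsUnique_hyperoval (P : Plane L) {S : Finset α} (hS : S ∈ arcs L 4) :
    ∃! H : Finset α, H ∈ arcs L 6 ∧ S ⊆ H := by
  obtain ⟨h4, hI⟩ := mem_arcs.mp hS
  have gen : ∀ d ∈ S, (ext L S).card = 2 ∧ ∀ l ∈ L, d ∈ l → ∀ p ∈ ext L S, ∀ q ∈ ext L S, p ≠ q → ¬ (p ∈ l ∧ q ∈ l) := by
    intro d hd
    obtain ⟨a, b, c, hab, hac, hbc, e⟩ := Finset.card_eq_three.mp (show (S.erase d).card = 3 by rw [Finset.card_erase_of_mem hd, h4])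
    have hSe : S = insert d {a, b, c} := by rw [← e, Finset.insert_erase hd]
    rw [hSe] at hI ⊢
    exact P.ext_four hab hac hbc (by rw [← e]; simp) hI
  obtain ⟨d₀, hd₀⟩ := Finset.card_pos.mp (show 0 < S.card by omega)
  obtain ⟨p, q, hpq, he⟩ := Finset.card_eq_two.mp (gen d₀ hd₀).1
  have hp : p ∈ ext L S := by simp [he]
  have hq : q ∈ ext L S := by simp [he]
  obtain ⟨hpS, hpI⟩ := mem_ext.mp hp
  obtain ⟨hqS, hqI⟩ := mem_ext.mp hq
  refine ⟨S ∪ {p, q}, ⟨mem_arcs.mpr ⟨?_, fun l hl => ?_⟩, Finset.subset_union_left⟩, ?_⟩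
  · rw [Finset.card_union_of_disjoint (by simp [hpS, hqS]), h4, Finset.card_pair hpq]
  · by_cases hpq' : p ∈ l ∧ q ∈ l
    · have h0 : l ∩ S = ∅ := Finset.eq_empty_of_forall_notMem fun x hx => by
        rw [Finset.mem_inter] at hx
        exact (gen x hx.2).2 l hl hx.1 p hp q hq hpq hpq'
      rw [Finset.inter_union_distrib_left, h0, Finset.empty_union]
      exact (Finset.card_le_card Finset.inter_subset_right).trans Finset.card_le_two
    · rcases not_and_or.mp hpq' with h | h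
      · refine le_trans (Finset.card_le_card fun x hx => ?_) (hqI l hl)
        simp only [Finset.mem_inter, Finset.mem_union, Finset.mem_insert, Finset.mem_singleton] at hx ⊢
        rcases hx with ⟨hxl, hxS | rfl | rfl⟩
        · exact ⟨hxl, Or.inr hxS⟩
        · exact absurd hxl h
        · exact ⟨hxl, Or.inl rfl⟩
      · refine le_trans (Finset.card_le_card fun x hx => ?_) (hpI l hl)
        simp only [Finset.mem_inter, Finset.mem_union, Finset.mem_insert, Finset.mem_singleton] at hx ⊢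
        rcases hx with ⟨hxl, hxS | rfl | rfl⟩
        · exact ⟨hxl, Or.inr hxS⟩
        · exact ⟨hxl, Or.inl rfl⟩
        · exact absurd hxl h
  · rintro H ⟨hH, hSH⟩
    obtain ⟨h6, hHI⟩ := mem_arcs.mp hH
    have hsub : H \ S ⊆ ext L S := fun x hx => by
      rw [Finset.mem_sdiff] at hx
      exact mem_ext.mpr ⟨hx.2, hHI.mono (Finset.insert_subset hx.1 hSH)⟩
    have e : H \ S = {p, q} := by
      rw [← he]
      exact Finset.eq_of_subset_of_card_le hsub (by rw [Finset.card_sdiff_of_subset hSH, h6, h4, (gen d₀ hd₀).1])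
    rw [← e, Finset.union_sdiff_of_subset hSH]

theorem Plane.card_arcs_six (P : Plane L) : (arcs L 6).card = 168 := by
  classical
  have h : (arcs L 4).card * 1 = (arcs L 6).card * 15 := by
    refine Finset.card_mul_eq_card_mul (fun A B => A ⊆ B) ?_ ?_
    · intro A hA
      obtain ⟨H, hH, hu⟩ := P.existsUnique_hyperoval hA
      refine Finset.card_eq_one.mpr ⟨H, ?_⟩
      ext B
      rw [Finset.mem_bipartiteAbove, Finset.mem_singleton]
      exact ⟨hu B, fun e => e ▸ hH⟩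
    · intro B hB
      have : Finset.bipartiteBelow (fun A B => A ⊆ B) (arcs L 4) B = Finset.powersetCard 4 B := by
        ext A
        rw [Finset.mem_bipartiteBelow, mem_arcs, Finset.mem_powersetCard]
        exact ⟨fun h => ⟨h.2, h.1.1⟩, fun h => ⟨⟨h.2, (mem_arcs.mp hB).2.mono h.1⟩, h.1⟩⟩
      rw [this, Finset.card_powersetCard, (mem_arcs.mp hB).1]
      decide
  rw [P.card_arcs_four] at h
  omega

theorem setOf_eq_arcs (n : ℕ) : {S : Finset α | (S.card = n ∧ ∀ l ∈ L, (l ∩ S).card ≤ 2)} = (arcs L n : Set (Finset α)) := by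
  ext S; rw [Finset.mem_coe, mem_arcs]; rfl

end

/-- In a projective plane of order 4 (a Steiner system S(2, 5, 21)), call a set of points independent when no line meets it in more than two points. There are exactly 2520 independent 4-sets and exactly 168 independent 6-sets (hyperovals), and every independent 4-set lies in exactly one hyperoval. -/
theorem result {α : Type*} [Fintype α] [DecidableEq α] (hα : Fintype.card α = 21) (L : Set (Finset α)) (hL : Cfsg.IsSteinerSystem 2 5 L) : {S : Finset α | (S.card = 4 ∧ ∀ l ∈ L, (l ∩ S).card ≤ 2)}.ncard = 2520 ∧ {H : Finset α | (H.card = 6 ∧ ∀ l ∈ L, (l ∩ H).card ≤ 2)}.ncard = 168 ∧ ∀ S : Finset α, (S.card = 4 ∧ ∀ l ∈ L, (l ∩ S).card ≤ 2) → ∃! H : Finset α, (H.card = 6 ∧ ∀ l ∈ L, (l ∩ H).card ≤ 2) ∧ S ⊆ H := by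
  classical
  have P : Plane L := ⟨hα, hL⟩
  refine ⟨?_, ?_, fun S hS => ?_⟩
  · rw [setOf_eq_arcs, Set.ncard_coe_finset, P.card_arcs_four]
  · rw [setOf_eq_arcs, Set.ncard_coe_finset, P.card_arcs_six]
  · obtain ⟨H, ⟨hH, hSH⟩, hu⟩ := P.existsUnique_hyperoval (mem_arcs.mpr hS)
    exact ⟨H, ⟨mem_arcs.mp hH, hSH⟩, fun K hK => hu K ⟨mem_arcs.mpr hK.1, hK.2⟩⟩

end Cfsg.Agent.S5627
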