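import Cfsg.Statements.S5651
import Cfsg.Agent.Lib.Classical.CliffordTwo.Bridge
import Cfsg.Agent.Lib.Classical.CliffordTwo.Proper
import Cfsg.Agent.Lib.Classical.MaxTransvection

set_option autoImplicit false
open Cfsg

namespace Cfsg.Agent.S5651

open Matrix Module Cfsg.Agent.Classical.CliffordTwo

/-- Let p be an odd prime, F the field with p elements, and m ≥ 7. Let R be a 2-subgroup of GL_2m(F) of exponent 4 in which every characteristic abelian subgroup is cyclic, of order 2^(1+2k) with centre of order 2 and with no elementary abelian subgroup of order 2^(k+1) (minus type), acting absolutely irreducibly on F^(2m) and consisting of isometries of the standard alternating form. Then the elements of Sp_2m(F) normalising R form a maximal subgroup of Sp_2m(F). -/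
theorem result {F : Type*} [Field F] [Fintype F] (m : ℕ) (hm : 7 ≤ m) (p k : ℕ) (hp : p.Prime) (hpo : Odd p) (hF : Fintype.card F = p) (R : Subgroup (Matrix.GeneralLinearGroup (Fin m ⊕ Fin m) F)) (hR : Cfsg.Geo.IsSymplecticTypeGroup 2 R) (hirr : Cfsg.Geo.ActsAbsolutelyIrreducibly (Cfsg.Geo.matrixSet R)) (hRD : R ≤ Cfsg.spGL m F) (hcard : Nat.card R = 2 ^ (1 + 2 * k)) (hZ : Nat.card (Subgroup.center R) = 2) (hminus : Cfsg.Geo.IsOfMinusType k R) : Cfsg.Geo.IsMaximalIn (Cfsg.spGL m F) (Cfsg.Geo.subgroupNormalizer R ⊓ Cfsg.spGL m F) := by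
  classical
  have h2 : (2 : F) ≠ 0 := by
    intro h
    haveI : Fact p.Prime := ⟨hp⟩
    haveI := charP_of_card_eq_prime hF
    have h' : ((2 : ℕ) : F) = 0 := by exact_mod_cast h
    have := (CharP.cast_eq_zero_iff F p 2).1 h'
    have := (Nat.prime_dvd_prime_iff_eq hp Nat.prime_two).1 this
    subst this
    exact absurd hpo (by decide)
  obtain ⟨τ, hτdef⟩ : ∃ τ : Matrix (Fin m ⊕ Fin m) (Fin m ⊕ Fin m) F →ₗ[F] Matrix (Fin m ⊕ Fin m) (Fin m ⊕ Fin m) F,
      ∀ X, τ X = -(Matrix.J (Fin m) F * Xᵀ * Matrix.J (Fin m) F) :=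
    ⟨-((LinearMap.mulRight F (Matrix.J (Fin m) F)).comp ((LinearMap.mulLeft F (Matrix.J (Fin m) F)).comp
      (Matrix.transposeLinearEquiv (Fin m ⊕ Fin m) (Fin m ⊕ Fin m) F F).toLinearMap)), fun X => by simp⟩
  have hJJ : Matrix.J (Fin m) F * Matrix.J (Fin m) F = -1 := Matrix.J_squared _ _
  have hτmul : ∀ a b, τ (a * b) = τ b * τ a := fun a b => by
    rw [hτdef, hτdef, hτdef, transpose_mul, neg_mul_neg]
    simp only [← mul_assoc]
    rw [mul_assoc _ (Matrix.J (Fin m) F) (Matrix.J (Fin m) F), hJJ]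
    simp [mul_assoc]
  have hadj : ∀ X (x y : Fin m ⊕ Fin m → F), sympForm m F (τ X *ᵥ x) y = sympForm m F x (X *ᵥ y) := fun X x y => by
    simp only [sympForm, mulVec_mulVec]
    rw [← vecMul_transpose, ← dotProduct_mulVec, mulVec_mulVec, hτdef, transpose_neg, transpose_mul, transpose_mul,
      transpose_transpose, J_transpose]
    simp [mul_assoc, hJJ]
  have hiso : ∀ g : GL (Fin m ⊕ Fin m) F,
      τ (g : Matrix (Fin m ⊕ Fin m) (Fin m ⊕ Fin m) F) * g = 1 ↔ g ∈ spGL m F := fun g => by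
    show _ ↔ ∀ x y, sympForm m F ((g : Matrix (Fin m ⊕ Fin m) (Fin m ⊕ Fin m) F) *ᵥ x) ((g : Matrix (Fin m ⊕ Fin m) (Fin m ⊕ Fin m) F) *ᵥ y) = sympForm m F x y
    constructor
    · intro h x y
      rw [← hadj, mulVec_mulVec, h, one_mulVec]
    · intro h
      refine Matrix.ext_iff_mulVec.2 fun v => sub_eq_zero.1 (Classical.eq_zero_of_sympForm_eq_zero fun y => ?_)
      rw [one_mulVec, Classical.sympForm_sub_left, ← mulVec_mulVec, hadj, h, sub_self]
  obtain E := Bridge.ext_of h2 (by simp; omega) hR hirr hcard hZ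
  obtain ⟨S, hSτ, hSR, hsurj, hdim⟩ := E.exists_sys τ hτmul fun g hg => (hiso g).2 (hRD hg)
  rw [Fintype.card_sum, Fintype.card_fin] at hdim
  obtain ⟨j, rfl⟩ : ∃ j, k = j + 1 := ⟨k - 1, by
    rcases k with _ | k
    · simp at hdim; omega
    · omega⟩
  obtain rfl : m = 2 ^ j := by rw [pow_succ] at hdim; omega
  have hj : 3 ≤ j := by
    by_contra hj
    have := Nat.pow_le_pow_right (show 1 ≤ 2 by norm_num) (show j ≤ 2 by omega)
    omega
  have hfr : finrank (ZMod 2) (Fin (2 * (j + 1)) → ZMod 2) = 2 * (j + 1) := Module.finrank_fin_fun _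
  have hIso : ∀ g, g ∈ S.Iso ↔ g ∈ spGL (2 ^ j) F := fun g => by rw [S.mem_Iso, hSτ]; exact hiso g
  have hN : ∀ g : S.Iso, g ∈ S.gsys.N ↔ (g : GL _ F) ∈ Geo.subgroupNormalizer R := Bridge.mem_N_iff hSR hsurj E
  refine Classical.MaxTv.isMaximalIn_intro inf_le_right (fun hle => ?_) fun M hHM hMK g hg hgH => ?_
  · obtain ⟨g, -, hgN⟩ := S.exists_not_mem_N (by omega)
    exact hgN ((hN g).2 (hle ((hIso g).1 g.2)).1)
  · obtain ⟨H, hH⟩ : ∃ H, H = M.comap S.Iso.subtype := ⟨_, rfl⟩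
    have hNO : S.NO ≤ H := fun x hx => by
      rw [hH, Subgroup.mem_comap]
      exact hHM ⟨(hN x).1 hx.1, (hIso x).1 x.2⟩
    have hnot : ¬ H ≤ S.gsys.N := fun hle => hgH ⟨(hN ⟨g, (hIso g).2 (hMK hg)⟩).1 (hle (by rw [hH]; exact hg)),
      hMK hg⟩
    have P : S.SRep (2 ^ (j + 1 - 1)) := by
      rw [Nat.add_sub_cancel]
      exact ⟨AlgEquiv.refl, fun a x y => by rw [hSτ]; exact hadj a x y⟩
    have htop : H = ⊤ := symp_top (hF ▸ hp) (j + 1) (by omega) S hfr P
      (fun U hU => Bridge.noHalf hSR hsurj E hminus U hU) H hNO (S.hasCC_of_not_le (by omega) hfr hNO hnot)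
    intro x hx
    have : (⟨x, (hIso x).2 hx⟩ : S.Iso) ∈ H := htop ▸ Subgroup.mem_top _
    rw [hH, Subgroup.mem_comap] at this
    exact this

end Cfsg.Agent.S5651
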