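import Cfsg.Statements.S5666
import Cfsg.Agent.Lib.Classical.MaxTensorRootApp
-- import your own Cfsg.Agent.* helpers here

set_option autoImplicit false
open Cfsg Cfsg.Agent.Classical

namespace Cfsg.Agent.S5666

/-- For a finite field F of odd order q and m ≥ 7, suppose the standard alternating form on F^(2m) is similar, through a change of basis P and a bijection of index sets e, to the tensor product of a non-degenerate symplectic form f₁ on F^(n₁) and a non-degenerate symmetric bilinear form f₂ on F^(n₂) with n₂ ≥ 3. Unless q = 3 and n₂ = 3, the elements of Sp_2m(F) in the stabiliser of this tensor decomposition (the conjugate by P of the Kronecker-product subgroup transported along e) form a maximal subgroup of Sp_2m(F). -/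
theorem result {F : Type*} [Field F] [Fintype F] (m : ℕ) (hm : 7 ≤ m) (hodd : Odd (Fintype.card F)) (n₁ n₂ : ℕ) (hn₂ : 3 ≤ n₂) (hex : ¬ (Fintype.card F = 3 ∧ n₂ = 3)) (e : (Fin m ⊕ Fin m) ≃ Fin n₁ × Fin n₂) (P : Matrix.GeneralLinearGroup (Fin m ⊕ Fin m) F) (f₁ : (Fin n₁ → F) → (Fin n₁ → F) → F) (f₂ : (Fin n₂ → F) → (Fin n₂ → F) → F) (hf₁ : Cfsg.Geo.IsSymplecticForm f₁) (hf₂ : Cfsg.Geo.IsSymmetricForm f₂) (hT : Cfsg.Geo.IsTensorFormStructure id (Cfsg.sympForm m F) f₁ f₂ e P) : Cfsg.Geo.IsMaximalIn (Cfsg.spGL m F) (Cfsg.Geo.tensorProductSubgroup n₁ n₂ e P ⊓ Cfsg.spGL m F) := by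
  obtain ⟨k, L, hk, -⟩ := TensorRoot.exists_std_form f₁ hf₁
  have hcard := Fintype.card_congr e
  rw [Fintype.card_sum, Fintype.card_prod, Fintype.card_fin, Fintype.card_fin, Fintype.card_fin] at hcard
  by_cases h2 : n₁ = 2
  · subst h2
    exact TensorTwo.symplectic_tensor_two_maximal hodd (Or.inr (by omega)) e P f₁ f₂ hf₁ hf₂ hT
  have hn : 4 ≤ n₁ := by
    rcases Nat.eq_zero_or_pos n₁ with h0 | h0
    · rw [h0, zero_mul] at hcard; omega
    · omega
  have h2F : (2 : F) ≠ 0 := fun h0 => by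
    have hch : CharP F 2 := CharTwo.of_one_ne_zero_of_two_eq_zero one_ne_zero h0
    have := FiniteField.even_card_of_char_two (F := F) (ringChar.eq F 2 (C := hch))
    rw [Nat.odd_iff] at hodd
    omega
  refine TensorRoot.symplectic_tensor_maximal h2F hn₂ ?_ hn e P f₁ f₂ hf₁ hf₂ hT
  rcases Nat.lt_or_ge n₂ 4 with h | h
  · have hq : 4 ≤ Fintype.card F := by
      have := Fintype.one_lt_card (α := F)
      rw [Nat.odd_iff] at hodd
      by_contra hc
      exact hex ⟨by omega, by omega⟩
    obtain ⟨s, hs, hs'⟩ := exists_sq_ne_one_field (F := F) (by omega)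
    exact Or.inl ⟨s, hs, by rwa [← pow_two]⟩
  · exact Or.inr h

end Cfsg.Agent.S5666
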