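import Cfsg.Statements.S5674
import Cfsg.Agent.Lib.Classical.AschOrthParabolic
import Cfsg.Agent.Lib.Classical.OrthCount

set_option autoImplicit false
open Cfsg Cfsg.Agent.Classical Cfsg.Agent.Classical.AschOrthTwo

namespace Cfsg.Agent.S5674

/-- Let F be a finite field of odd order, m ≥ 6, Q the standard quadratic form x₀² + Σ x_i y_i on F^(2m+1) and Ω the commutator subgroup of its isometry group inside GL_(2m+1)(F). The elements of Ω stabilising a non-zero subspace on which Q vanishes form a maximal subgroup of Ω. -/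
theorem result {F : Type*} [Field F] [Fintype F] (hodd : Odd (Fintype.card F)) (m : ℕ) (hm : 6 ≤ m) (W : Submodule F (Unit ⊕ (Fin m ⊕ Fin m) → F)) (hW0 : W ≠ ⊥) (hW : Cfsg.Geo.IsTotallySingularQuad (Cfsg.quadFormOdd m F) W) : Cfsg.Geo.IsMaximalIn (Cfsg.Geo.omegaGL (Cfsg.quadFormOdd m F)) (Cfsg.Geo.subspaceStabilizer W ⊓ Cfsg.Geo.omegaGL (Cfsg.quadFormOdd m F)) := by
  have h2F : (2 : F) ≠ 0 := by
    intro h
    have : CharP F 2 := (CharP.charP_iff_prime_eq_zero Nat.prime_two).2 (by exact_mod_cast h)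
    obtain ⟨j, hj, hcard⟩ := FiniteField.card F 2
    rw [hcard, Nat.odd_pow_iff j.pos.ne'] at hodd
    exact absurd hodd (by decide)
  have hnd := Cfsg.Agent.Classical.nondegenerate_qfOdd (F := F) m h2F
  rw [← Cfsg.Agent.Classical.coe_qfOdd] at hW ⊢
  have hcard : Fintype.card (Unit ⊕ (Fin m ⊕ Fin m)) = 2 * m + 1 := by simp; omega
  exact parabolic_maximal hnd (by omega) hW0 hW fun y _ _ _ => by omega

end Cfsg.Agent.S5674
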