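import Cfsg.Statements.S5675
import Cfsg.Agent.Lib.Classical.MaxOrthSubMain
import Cfsg.Agent.Lib.Classical.OrthCount

set_option autoImplicit false
open Cfsg Cfsg.Agent.Classical Cfsg.Agent.Classical.OrthAut

namespace Cfsg.Agent.S5675

/-- Let F be a finite field of odd order q, m ≥ 6, Q the standard quadratic form on F^(2m+1) and Ω the commutator subgroup of its isometry group. Let W be a non-zero subspace of even dimension on which the polar form of Q is non-degenerate; exclude the case q = 3, dim W = 2 with Q vanishing on some line of W (a plus-type plane). Then the elements of Ω stabilising W (equivalently, stabilising its orthogonal complement, of odd dimension) form a maximal subgroup of Ω. -/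
theorem result {F : Type*} [Field F] [Fintype F] (hodd : Odd (Fintype.card F)) (m : ℕ) (hm : 6 ≤ m) (W : Submodule F (Unit ⊕ (Fin m ⊕ Fin m) → F)) (hW0 : W ≠ ⊥) (hev : Even (Module.finrank F W)) (hW : Cfsg.Geo.IsNondegenerateOn (QuadraticMap.polar (Cfsg.quadFormOdd m F)) W) (hex : ¬ (Fintype.card F = 3 ∧ Module.finrank F W = 2 ∧ Cfsg.Geo.IsPlusTypeOn (Cfsg.quadFormOdd m F) W)) : Cfsg.Geo.IsMaximalIn (Cfsg.Geo.omegaGL (Cfsg.quadFormOdd m F)) (Cfsg.Geo.subspaceStabilizer W ⊓ Cfsg.Geo.omegaGL (Cfsg.quadFormOdd m F)) := by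
  have h2F : (2 : F) ≠ 0 := by
    intro h
    have : CharP F 2 := (CharP.charP_iff_prime_eq_zero Nat.prime_two).2 (by exact_mod_cast h)
    obtain ⟨j, hj, hcard⟩ := FiniteField.card F 2
    rw [hcard, Nat.odd_pow_iff j.pos.ne'] at hodd
    exact absurd hodd (by decide)
  have hQ : Geo.IsNondegenerateQuadraticForm (quadFormOdd m F) := by
    have hnd := nondegenerate_qfOdd (F := F) m h2F
    rw [← coe_qfOdd]
    exact MaxTv.isNondegenerateQuadraticForm_of hnd
  have hcard : Fintype.card (Unit ⊕ (Fin m ⊕ Fin m)) = 2 * m + 1 := by simp; omega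
  have hQf : ∀ c x, quadFormOdd m F (c • x) = c ^ 2 * quadFormOdd m F x := hQ.smul
  refine MaxTv.orthogonal_nondeg_maximal _ hQ (by omega) W hW0 (fun h => ?_) hW ?_
    (fun U _ _ he hsum g _ _ => by omega)
  · rw [h, finrank_top, Module.finrank_pi, hcard] at hev
    exact Nat.not_odd_iff_even.2 hev ⟨m, rfl⟩
  intro U h2 _ hsel hq z hz hQz
  rcases hsel with rfl | ⟨-, hsum⟩
  · by_contra h0
    refine hex ⟨?_, h2, ?_⟩
    · obtain ⟨j, hj⟩ := hodd
      have := Fintype.one_lt_card (α := F)
      omega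
    refine ⟨Submodule.span F {z}, (Submodule.span_singleton_le_iff_mem z _).2 hz, fun w hw => ?_, ?_⟩
    · obtain ⟨c, rfl⟩ := Submodule.mem_span_singleton.1 hw
      rw [hQf c, hQz, mul_zero]
    · rw [finrank_span_singleton h0, h2]
  · exfalso
    obtain ⟨j, hj⟩ := hev
    omega

end Cfsg.Agent.S5675
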