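import Cfsg.Statements.S5677
import Cfsg.Agent.Lib.Classical.MaxOrthWreathMain
-- import your own Cfsg.Agent.* helpers here

set_option autoImplicit false
open Cfsg Cfsg.Agent.Classical

namespace Cfsg.Agent.S5677

/-- Let F be a finite field of odd order q, m ≥ 6, Q the standard quadratic form on F^(2m+1) and Ω the commutator subgroup of its isometry group. Let D be a decomposition of F^(2m+1) into t ≥ 2 pairwise orthogonal, pairwise Q-isometric subspaces of equal dimension k > 1 on which the polar form is non-degenerate. Unless q = 3 and k = 3, the elements of Ω permuting the members of D form a maximal subgroup of Ω. -/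
theorem result {F : Type*} [Field F] [Fintype F] (hodd : Odd (Fintype.card F)) (m : ℕ) (hm : 6 ≤ m) {t : ℕ} (k : ℕ) (hk : 1 < k) (D : Fin t → Submodule F (Unit ⊕ (Fin m ⊕ Fin m) → F)) (hD : Cfsg.Geo.IsOrthogonalMDecomposition (Cfsg.quadFormOdd m F) k D) (hex : ¬ (Fintype.card F = 3 ∧ k = 3)) : Cfsg.Geo.IsMaximalIn (Cfsg.Geo.omegaGL (Cfsg.quadFormOdd m F)) (Cfsg.Geo.decompositionStabilizer D ⊓ Cfsg.Geo.omegaGL (Cfsg.quadFormOdd m F)) := by
  have h2 : (2 : F) ≠ 0 := MaxTv.two_ne_zero_of_card_odd hodd
  have hnd := nondegenerate_qfOdd (F := F) m h2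
  have hQ : Geo.IsNondegenerateQuadraticForm (quadFormOdd m F) := by
    rw [← coe_qfOdd]
    exact MaxTv.isNondegenerateQuadraticForm_of hnd
  obtain ⟨ht, -, hdim, hind, htop⟩ := hD.decomp.1
  obtain ⟨p, hp⟩ := MaxTv.exists_proj hind htop
  have hsum : t * k = 2 * m + 1 := by
    let e : (Unit ⊕ (Fin m ⊕ Fin m) → F) ≃ₗ[F] (∀ i, D i) :=
      LinearEquiv.ofLinear (LinearMap.pi fun i => (p i).codRestrict (D i) fun x => hp.mem i x)
        (∑ i, (D i).subtype.comp (LinearMap.proj i))
        (LinearMap.ext fun y => funext fun i => Subtype.ext (by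
          simp only [LinearMap.comp_apply, LinearMap.pi_apply, LinearMap.codRestrict_apply, LinearMap.sum_apply,
            map_sum, LinearMap.id_apply, LinearMap.proj_apply, Submodule.coe_subtype, Submodule.coe_sum]
          rw [Finset.sum_eq_single i (fun j _ hj => hp.other i j (Ne.symm hj) _ (y j).2) (by simp)]
          exact hp.self i _ (y i).2))
        (LinearMap.ext fun x => by simp [LinearMap.sum_apply, hp.sum])
    have h := e.finrank_eq
    rw [Module.finrank_pi, Module.finrank_pi_fintype] at h
    simp [hdim] at h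
    omega
  have hk3 : 3 ≤ k := by
    by_contra h
    obtain rfl : k = 2 := by omega
    omega
  exact MaxTv.orthogonal_wreath_maximal _ hQ hodd (by simp; omega) k hk3 D hD hex

end Cfsg.Agent.S5677
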