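import Cfsg.Statements.S5680
import Cfsg.Agent.Lib.Classical.MaxOrthFieldThreeMain
import Cfsg.Agent.Lib.Classical.OrthCount
-- import your own Cfsg.Agent.* helpers here

set_option autoImplicit false
open Cfsg Cfsg.Agent.Classical

namespace Cfsg.Agent.S5680

/-- Let F be a finite field of odd order, m ≥ 6, Q the standard quadratic form on F^(2m+1) and Ω the commutator subgroup of its isometry group. Let K be a subfield of the algebra of (2m+1) × (2m+1) matrices over F containing the scalars, of prime degree r over F with r ≠ 2m + 1, whose elements are self-adjoint for the polar form of Q. Then the elements of Ω normalising K form a maximal subgroup of Ω. -/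
theorem result {F : Type*} [Field F] [Fintype F] (hodd : Odd (Fintype.card F)) (m : ℕ) (hm : 6 ≤ m) (r : ℕ) (hr : r.Prime) (hrn : 2 * m + 1 ≠ r) (K : Subalgebra F (Matrix (Unit ⊕ (Fin m ⊕ Fin m)) (Unit ⊕ (Fin m ⊕ Fin m)) F)) (hK : Cfsg.Geo.IsFieldSubalgebra r K) (hsa : Cfsg.Geo.IsSelfAdjointFor (QuadraticMap.polar (Cfsg.quadFormOdd m F)) K) : Cfsg.Geo.IsMaximalIn (Cfsg.Geo.omegaGL (Cfsg.quadFormOdd m F)) (Cfsg.Geo.subalgebraNormalizer K ⊓ Cfsg.Geo.omegaGL (Cfsg.quadFormOdd m F)) := by
  have h2F : (2 : F) ≠ 0 := MaxTv.two_ne_zero_of_card_odd hodd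
  have hQ : Geo.IsNondegenerateQuadraticForm (quadFormOdd m F) := by
    have hnd := nondegenerate_qfOdd (F := F) m h2F
    rw [← coe_qfOdd]
    exact MaxTv.isNondegenerateQuadraticForm_of hnd
  have hcard : Fintype.card (Unit ⊕ (Fin m ⊕ Fin m)) = 2 * m + 1 := by simp; omega
  have hdim : ∀ d, r * d = Fintype.card (Unit ⊕ (Fin m ⊕ Fin m)) → d % 2 = 1 ∧ 3 ≤ d ∧ (d = 3 → 5 ≤ r) := by
    intro d hd
    rw [hcard] at hd
    have h1 : r * d % 2 = 1 := by omega
    rw [Nat.mul_mod] at h1
    have h2 := hr.two_le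
    have hd2 : d % 2 = 1 := by
      rcases Nat.mod_two_eq_zero_or_one d with e | e <;> simp [e] at h1 ⊢
    refine ⟨hd2, ?_, fun e => ?_⟩
    · by_contra hlt
      obtain rfl : d = 1 := by omega
      omega
    · subst e; omega
  refine OrthField.orthogonal_overfield_maximal_core _ hQ hodd (by rw [hcard]; omega) hr (fun d hd => (hdim d hd).2.1)
    ?_ K hK hsa
  intro E _ _ _ _ _ Q h M O hF hd _ hT g hg hgn
  obtain ⟨hd2, hd3, hd5⟩ := hdim _ hd
  rcases eq_or_lt_of_le hd3 with e | e
  · exact O.omega_le_three (hF.symm ▸ hr) (by rw [hF]; exact hd5 e.symm) e.symm hT hg hgn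
  · exact O.omega_le_four (hF.symm ▸ hr) (by omega) hT hg hgn

end Cfsg.Agent.S5680
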