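import Cfsg.Statements.S5684
import Cfsg.Agent.Lib.Classical.TensorPowOrth.App
import Cfsg.Agent.Lib.Classical.OrthCount
-- import your own Cfsg.Agent.* helpers here

set_option autoImplicit false
open Cfsg Cfsg.Agent.Classical

namespace Cfsg.Agent.S5684

/-- Let F be a finite field of odd order q, m ≥ 6, Q the standard quadratic form on F^(2m+1) and Ω the commutator subgroup of its isometry group. Suppose the polar form of Q is similar, through a change of basis P and a bijection of index sets e, to the t-fold tensor power (t ≥ 2) of a non-degenerate symmetric bilinear form f₁ on F^k with k ≥ 3 and (q, k) ≠ (3, 3). Then the elements of Ω in the stabiliser of this decomposition form a maximal subgroup of Ω. -/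
theorem result {F : Type*} [Field F] [Fintype F] (hodd : Odd (Fintype.card F)) (m : ℕ) (hm : 6 ≤ m) (k t : ℕ) (hk : 3 ≤ k) (ht : 2 ≤ t) (hex : ¬ (Fintype.card F = 3 ∧ k = 3)) (e : (Unit ⊕ (Fin m ⊕ Fin m)) ≃ (Fin t → Fin k)) (P : Matrix.GeneralLinearGroup (Unit ⊕ (Fin m ⊕ Fin m)) F) (f₁ : (Fin k → F) → (Fin k → F) → F) (hf₁ : Cfsg.Geo.IsSymmetricForm f₁) (hT : Cfsg.Geo.IsTensorPowerFormStructure id (QuadraticMap.polar (Cfsg.quadFormOdd m F)) f₁ e P) : Cfsg.Geo.IsMaximalIn (Cfsg.Geo.omegaGL (Cfsg.quadFormOdd m F)) (Cfsg.Geo.tensorWreathSubgroup k t e P ⊓ Cfsg.Geo.omegaGL (Cfsg.quadFormOdd m F)) := by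
  have h2F : (2 : F) ≠ 0 := MaxTv.two_ne_zero_of_card_odd hodd
  have hQ : Geo.IsNondegenerateQuadraticForm (quadFormOdd m F) := by
    have hnd := nondegenerate_qfOdd (F := F) m h2F
    rw [← coe_qfOdd]
    exact MaxTv.isNondegenerateQuadraticForm_of hnd
  obtain ⟨c, hc, hT⟩ := hT
  have hcard : 2 * m + 1 = k ^ t := by
    have h1 := Fintype.card_congr e
    simp [Fintype.card_pi] at h1
    omega
  have hkodd : Odd k := by
    have h1 : Odd (k ^ t) := ⟨m, hcard.symm⟩
    exact (Nat.odd_pow_iff (by omega)).1 h1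
  have hD : TensorPowOrth.TData c f₁ :=
    ⟨h2F, by simpa using TensorOrth.sym_of_symmetricForm hf₁ (one_ne_zero (α := F)), hc,
      by rwa [Fintype.card_fin], fun h4 => absurd hkodd (by rw [Fintype.card_fin] at h4; rw [h4]; decide)⟩
  exact hD.orth_pow_maximal hex ht hQ (TensorPowOrth.pow_form_eq hT)

end Cfsg.Agent.S5684
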