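import Cfsg.Statements.S5687
import Cfsg.Agent.Lib.Classical.AschOrthParabolic
import Cfsg.Agent.Lib.Classical.OrthCount

set_option autoImplicit false
open Cfsg Cfsg.Agent.Classical Cfsg.Agent.Classical.AschOrthTwo

namespace Cfsg.Agent.S5687

/-- Let F be a finite field with q elements, n ≥ 13 even, Q a non-degenerate quadratic form on F^n of minus type (no subspace of dimension n/2 is totally singular), and Ω the commutator subgroup of the isometry group of Q, viewed inside GL_n(F). The elements of Ω stabilising a non-zero subspace on which Q vanishes form a maximal subgroup of Ω. -/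
theorem result {F : Type*} [Field F] [Fintype F] {n : ℕ} (hn : 13 ≤ n) (heven : Even n) (Q : (Fin n → F) → F) (hQ : Cfsg.Geo.IsNondegenerateQuadraticForm Q) (hminus : ¬ Cfsg.Geo.IsPlusTypeOn Q ⊤) (W : Submodule F (Fin n → F)) (hW0 : W ≠ ⊥) (hW : Cfsg.Geo.IsTotallySingularQuad Q W) : Cfsg.Geo.IsMaximalIn (Cfsg.Geo.omegaGL Q) (Cfsg.Geo.subspaceStabilizer W ⊓ Cfsg.Geo.omegaGL Q) := by
  obtain ⟨Qf, rfl⟩ := MaxTv.exists_form hQ
  refine parabolic_maximal (MaxTv.nd_of_isNondegenerateQuadraticForm hQ) (by rw [Fintype.card_fin]; omega) hW0 hW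
    fun y hy hyW hperp h => hminus ⟨W ⊔ Submodule.span F {y}, le_top, fun u hu => ?_, ?_⟩
  · obtain ⟨w, hw, z, hz, rfl⟩ := Submodule.mem_sup.1 hu
    obtain ⟨c, rfl⟩ := Submodule.mem_span_singleton.1 hz
    rw [OrthAut.quad_add, hW w hw, QuadraticMap.map_smul, hy, QuadraticMap.polar_smul_right, hperp w hw]
    simp
  · rw [Submodule.finrank_sup_span_singleton hyW, finrank_top, Module.finrank_fin_fun]
    rw [Fintype.card_fin] at h
    omega

end Cfsg.Agent.S5687
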