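import Cfsg.Statements.S5692
import Cfsg.Agent.Lib.Classical.MaxOrthRefMain

set_option autoImplicit false
open Cfsg

namespace Cfsg.Agent.S5692

/-- Let F be a finite field with q elements, n ≥ 13 even, Q a non-degenerate quadratic form on F^n of plus type (some subspace of dimension n/2 is totally singular), and Ω the commutator subgroup of the isometry group of Q, viewed inside GL_n(F). Let D be a decomposition of F^n into t ≥ 2 pairwise orthogonal, pairwise Q-isometric subspaces of equal dimension k ≥ 2 on which the polar form is non-degenerate, such that: if k is even, either every member is of plus type or t is even; if k is odd, q is odd and the discriminant of Q is a square. Exclude the cases k = 2 with q = 3, k = 2 with plus-type members and q ∈ {2, 4, 5}, k = 3 with q = 3, and k = 4 with plus-type members and q = 2. Then the elements of Ω permuting the members of D form a maximal subgroup of Ω. -/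
theorem result {F : Type*} [Field F] [Fintype F] {n : ℕ} (hn : 13 ≤ n) (heven : Even n) (Q : (Fin n → F) → F) (hQ : Cfsg.Geo.IsNondegenerateQuadraticForm Q) (hplus : Cfsg.Geo.IsPlusTypeOn Q ⊤) {t : ℕ} (k : ℕ) (hk : 2 ≤ k) (D : Fin t → Submodule F (Fin n → F)) (hD : Cfsg.Geo.IsOrthogonalMDecomposition Q k D) (hke : Even k → ((∀ i, Cfsg.Geo.IsPlusTypeOn Q (D i)) ∨ Even t)) (hko : Odd k → (Odd (Fintype.card F) ∧ Cfsg.Geo.HasSquareDiscriminant Q)) (hex : ¬ ((k = 2 ∧ (Fintype.card F = 3 ∨ ((∀ i, Cfsg.Geo.IsPlusTypeOn Q (D i)) ∧ (Fintype.card F = 2 ∨ Fintype.card F = 4 ∨ Fintype.card F = 5)))) ∨ (k = 3 ∧ Fintype.card F = 3) ∨ (k = 4 ∧ Fintype.card F = 2 ∧ ∀ i, Cfsg.Geo.IsPlusTypeOn Q (D i)))) : Cfsg.Geo.IsMaximalIn (Cfsg.Geo.omegaGL Q) (Cfsg.Geo.decompositionStabilizer D ⊓ Cfsg.Geo.omegaGL Q) := by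
  classical
  have hn' : 13 ≤ Fintype.card (Fin n) := by simpa using hn
  rcases Nat.even_or_odd k with hke' | hko'
  · rcases eq_or_lt_of_le hk with rfl | hk2
    · exact Cfsg.Agent.Classical.OrthRef.orthogonal_wreath_two_maximal Q hQ (by omega) D hD
        (fun h => hex (Or.inl ⟨rfl, Or.inl h⟩))
        fun h => ⟨fun e => hex (Or.inl ⟨rfl, Or.inr ⟨h, Or.inl e⟩⟩),
          fun e => hex (Or.inl ⟨rfl, Or.inr ⟨h, Or.inr (Or.inl e)⟩⟩),
          fun e => hex (Or.inl ⟨rfl, Or.inr ⟨h, Or.inr (Or.inr e)⟩⟩)⟩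
    have hk4 : 4 ≤ k := by
      obtain ⟨m, hm⟩ := hke'
      omega
    rcases Nat.even_or_odd (Fintype.card F) with hq | hq
    · exact Cfsg.Agent.Classical.OrthRef.orthogonal_wreath_even_maximal Q hQ (by omega) hq hk4 D hD
        fun h => hex (Or.inr (Or.inr h))
    · exact Cfsg.Agent.Classical.MaxTv.orthogonal_wreath_maximal Q hQ hq (by omega) k (by omega) D hD
        fun h => by omega
  · exact Cfsg.Agent.Classical.MaxTv.orthogonal_wreath_maximal Q hQ (hko hko').1 (by omega) k
      (by obtain ⟨m, hm⟩ := hko'; omega) D hD fun h => hex (Or.inr (Or.inl ⟨h.2, h.1⟩))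

end Cfsg.Agent.S5692
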