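import Cfsg.Statements.S5694
import Cfsg.Agent.Lib.Classical.MaxOrthRefMain

set_option autoImplicit false
open Cfsg

namespace Cfsg.Agent.S5694

/-- Let F be a finite field with q elements, n ≥ 13 even, Q a non-degenerate quadratic form on F^n of minus type (no subspace of dimension n/2 is totally singular), and Ω the commutator subgroup of the isometry group of Q, viewed inside GL_n(F). Let D be a decomposition of F^n into t ≥ 2 pairwise orthogonal, pairwise Q-isometric subspaces of equal dimension k ≥ 2 on which the polar form is non-degenerate, such that: if k is odd, q is odd and the discriminant of Q is a square; if k is even, t is odd and no member is of plus type. Unless q = 3 and k ∈ {2, 3}, the elements of Ω permuting the members of D form a maximal subgroup of Ω. -/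
theorem result {F : Type*} [Field F] [Fintype F] {n : ℕ} (hn : 13 ≤ n) (heven : Even n) (Q : (Fin n → F) → F) (hQ : Cfsg.Geo.IsNondegenerateQuadraticForm Q) (hminus : ¬ Cfsg.Geo.IsPlusTypeOn Q ⊤) {t : ℕ} (k : ℕ) (hk : 2 ≤ k) (D : Fin t → Submodule F (Fin n → F)) (hD : Cfsg.Geo.IsOrthogonalMDecomposition Q k D) (hko : Odd k → (Odd (Fintype.card F) ∧ Cfsg.Geo.HasSquareDiscriminant Q)) (hke : Even k → (Odd t ∧ ∀ i, ¬ Cfsg.Geo.IsPlusTypeOn Q (D i))) (hex : ¬ (Fintype.card F = 3 ∧ (k = 2 ∨ k = 3))) : Cfsg.Geo.IsMaximalIn (Cfsg.Geo.omegaGL Q) (Cfsg.Geo.decompositionStabilizer D ⊓ Cfsg.Geo.omegaGL Q) := by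
  classical
  have hn' : 13 ≤ Fintype.card (Fin n) := by simpa using hn
  rcases Nat.even_or_odd k with hke' | hko'
  · have ht : 0 < t := lt_of_lt_of_le (by norm_num) hD.decomp.decomp.two_le
    have hnp := (hke hke').2 ⟨0, ht⟩
    rcases eq_or_lt_of_le hk with rfl | hk2
    · exact Cfsg.Agent.Classical.OrthRef.orthogonal_wreath_two_maximal Q hQ (by omega) D hD
        (fun h => hex ⟨h, Or.inl rfl⟩) fun h => absurd (h _) hnp
    have hk4 : 4 ≤ k := by
      obtain ⟨m, hm⟩ := hke'
      omega
    rcases Nat.even_or_odd (Fintype.card F) with hq | hq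
    · exact Cfsg.Agent.Classical.OrthRef.orthogonal_wreath_even_maximal Q hQ (by omega) hq hk4 D hD
        fun h => hnp (h.2.2 _)
    · exact Cfsg.Agent.Classical.MaxTv.orthogonal_wreath_maximal Q hQ hq (by omega) k (by omega) D hD
        fun h => by omega
  · exact Cfsg.Agent.Classical.MaxTv.orthogonal_wreath_maximal Q hQ (hko hko').1 (by omega) k
      (by obtain ⟨m, hm⟩ := hko'; omega) D hD fun h => hex ⟨h.1, Or.inr h.2⟩

end Cfsg.Agent.S5694
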