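import Cfsg.Statements.S5699
import Cfsg.Agent.Lib.Classical.MaxOrthSub

set_option autoImplicit false
open Cfsg Cfsg.Agent.Classical Cfsg.Agent.Classical.OrthAut
open Matrix

namespace Cfsg.Agent.S5699

/-- Let F be a finite field with q elements, n ≥ 13 even, Q a non-degenerate quadratic form on F^n (of either type), and Ω the commutator subgroup of the isometry group of Q, viewed inside GL_n(F). Let D be a decomposition of F^n into two orthogonal subspaces of odd dimension n/2 on which the polar form is non-degenerate and which are not Q-isometric to each other. Then the elements of Ω permuting (necessarily fixing) the two subspaces form a maximal subgroup of Ω. -/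
theorem result {F : Type*} [Field F] [Fintype F] {n : ℕ} (hn : 13 ≤ n) (heven : Even n) (Q : (Fin n → F) → F) (hQ : Cfsg.Geo.IsNondegenerateQuadraticForm Q) (k : ℕ) (hk : 2 * k = n) (hko : Odd k) (D : Fin 2 → Submodule F (Fin n → F)) (hD : Cfsg.Geo.IsNondegenerateMDecomposition (QuadraticMap.polar Q) k D) (hni : ¬ Cfsg.Geo.AreIsometricFor Q (D 0) (D 1)) : Cfsg.Geo.IsMaximalIn (Cfsg.Geo.omegaGL Q) (Cfsg.Geo.decompositionStabilizer D ⊓ Cfsg.Geo.omegaGL Q) := by
  classical
  obtain ⟨Qf, hQf⟩ : ∃ Qf : QuadraticForm F (Fin n → F), ⇑Qf = Q :=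
    ⟨QuadraticMap.ofPolar Q (fun a x => by rw [hQ.smul, smul_eq_mul, sq])
      (fun x x' y => hQ.polar_bilinear.add_left x x' y) (fun a x y => hQ.polar_bilinear.smul_left a x y), rfl⟩
  subst hQf
  obtain ⟨pr, hpr⟩ := MaxTv.exists_proj hD.decomp.indep hD.decomp.iSup_eq_top
  have hdim : ∀ i l, Module.finrank F (D i) = Module.finrank F (D l) := fun i l => by
    rw [hD.decomp.finrank_eq, hD.decomp.finrank_eq]
  have hne : ∀ i, D i ≠ ⊥ := fun i h => by
    have := hD.decomp.finrank_eq i; rw [h, finrank_bot] at this; omega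
  have htop : D 0 ⊔ D 1 = ⊤ := eq_top_iff.2 fun x _ => by
    rw [← hpr.sum x, Fin.sum_univ_two]; exact Submodule.add_mem_sup (hpr.mem 0 x) (hpr.mem 1 x)
  have horth : ∀ w ∈ D 0, ∀ u ∈ D 1, QuadraticMap.polar (⇑Qf) w u = 0 := hD.orthogonal 0 1 (by decide)
  have hmemS : ∀ t ∈ Geo.omegaGL ⇑Qf,
      (∀ w ∈ D 0, (t : Matrix (Fin n) (Fin n) F) *ᵥ w ∈ D 0) →
      (∀ u ∈ D 1, (t : Matrix (Fin n) (Fin n) F) *ᵥ u ∈ D 1) →
      t ∈ Geo.decompositionStabilizer D ⊓ Geo.omegaGL ⇑Qf := fun t ht h0 h1 =>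
    ⟨hpr.mem_stabilizer hdim id (fun i y hy => by
      fin_cases i
      · exact h0 y hy
      · exact h1 y hy) hne, ht⟩
  have hiso : ∀ g ∈ Geo.omegaGL ⇑Qf, ∀ x, Qf ((g : Matrix (Fin n) (Fin n) F) *ᵥ x) = Qf x := fun g hg => by
    obtain ⟨k', -, rfl⟩ := Subgroup.mem_map.1 hg
    exact fun x => mem_isometryGroup.1 k'.2 x
  have hcross : ∀ g ∈ Geo.omegaGL ⇑Qf, ¬ ∀ w ∈ D 0, (g : Matrix (Fin n) (Fin n) F) *ᵥ w ∈ D 1 := fun g hg h => by
    let L : D 0 →ₗ[F] D 1 := ((Matrix.toLin' (g : Matrix (Fin n) (Fin n) F)).comp (D 0).subtype).codRestrict (D 1)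
      fun w => by simpa using h w w.2
    have hL : Function.Injective L := fun a b hab => Subtype.ext (MaxTv.gl_mulVec_injective g (by
      simpa [L] using congrArg Subtype.val hab))
    exact hni ⟨LinearEquiv.ofBijective L ⟨hL,
      (LinearMap.injective_iff_surjective_of_finrank_eq_finrank (hdim 0 1)).1 hL⟩, fun w => by
        show Qf ((L w : D 1) : Fin n → F) = _
        simp [L, hiso g hg]⟩
  refine MaxTv.orthogonal_subspace_maximal (⇑Qf) hQ (D 0) (D 1) _ htop horth (hD.nondegenerate 0) (hD.nondegenerate 1)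
    (Or.inl (by rw [hD.decomp.finrank_eq]; omega)) (by rw [hD.decomp.finrank_eq, hD.decomp.finrank_eq]; omega)
    inf_le_right hmemS ?_ (fun g hg hgS => ⟨fun h => hgS ?_, hcross g hg⟩)
    (fun Q' _ M _ h => absurd h (by rw [hD.decomp.finrank_eq]; omega))
    (fun Q' _ M _ h => absurd h (by rw [hD.decomp.finrank_eq]; omega))
  · -- an element of `Ω` moving the pair
    intro hle
    have hnd : (QuadraticMap.polarBilin Qf).Nondegenerate := by
      have key : ∀ u, (∀ v, QuadraticMap.polar ⇑Qf v u = 0) → u = 0 := fun u hu => by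
        by_contra h0
        obtain ⟨x, hx⟩ := (hQ.nondegenerate u h0).1
        exact hx (hu x)
      exact ⟨fun u hu => key u fun v => by rw [QuadraticMap.polar_comm]; exact hu v, fun u hu => key u hu⟩
    have hW : MaxTv.NdQ Qf (D 0) := MaxTv.ndQ_of_isNondegenerateOn (hD.nondegenerate 0)
    have hk7 : 7 ≤ Module.finrank F (D 0) := by rw [hD.decomp.finrank_eq]; omega
    obtain ⟨a, ha, -, ha0, hQa, z, hz, haz⟩ := MaxTv.exists_hyp_in (Q := Qf) (T := D 0) (by
      have : D 0 ⊓ LinearMap.BilinForm.orthogonal (QuadraticMap.polarBilin Qf) (D 0) = ⊥ :=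
        (Submodule.eq_bot_iff _).2 fun x hx => by
          by_contra h0
          obtain ⟨y, hy, hxy⟩ := hW x hx.1 h0
          exact hxy (by rw [QuadraticMap.polar_comm]; exact hx.2 y hy)
      rw [this, finrank_bot]; omega)
    obtain ⟨b, hb, hb0⟩ := Submodule.exists_mem_ne_zero_of_ne_bot (hne 1)
    have hT : Tri Qf := MaxTv.tri_of_ndQ hnd hW hk7
    have hOK : OK Qf a b := ⟨hQa, horth a ha b hb⟩
    obtain ⟨t, ht, htx⟩ : ∃ t ∈ Geo.omegaGL ⇑Qf, (t : Matrix (Fin n) (Fin n) F) = eMat Qf a b :=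
      ⟨_, Subgroup.mem_map_of_mem _ (sR_le_omega hnd hT (eOG_mem hnd hT hOK)), eOG_val hOK⟩
    obtain ⟨π, hπ⟩ := (hle ht).1
    have h0 : ∀ w ∈ D 0, (t : Matrix (Fin n) (Fin n) F) *ᵥ w ∈ D (π 0) := fun w hw =>
      hπ 0 ▸ ⟨w, hw, Matrix.toLin'_apply _ _⟩
    generalize π 0 = l at h0
    fin_cases l
    · have h1 : (t : Matrix (Fin n) (Fin n) F) *ᵥ z ∈ D 0 := h0 z hz
      rw [htx, eMat_mulVec, QuadraticMap.polar_comm _ b z, horth z hz b hb, zero_smul, sub_zero] at h1
      have h2 := (D 0).sub_mem ((D 0).add_mem h1 ((D 0).smul_mem (Qf b * QuadraticMap.polar (⇑Qf) a z) ha)) hz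
      rw [sub_add_cancel, add_sub_cancel_left] at h2
      have h3 := hpr.other 1 0 (by decide) _ h2
      rw [hpr.self 1 _ ((D 1).smul_mem _ hb), smul_eq_zero] at h3
      exact h3.elim haz hb0
    · exact hcross t ht h0
  · refine hmemS g hg h fun u hu => ?_
    -- the complement is the perpendicular space
    have h2 : ∀ w ∈ D 0, QuadraticMap.polar (⇑Qf) w ((g : Matrix (Fin n) (Fin n) F) *ᵥ u) = 0 := fun w hw => by
      obtain ⟨w', hw', rfl⟩ : ∃ w' ∈ D 0, (g : Matrix (Fin n) (Fin n) F) *ᵥ w' = w := by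
        let L : D 0 →ₗ[F] D 0 := ((Matrix.toLin' (g : Matrix (Fin n) (Fin n) F)).comp (D 0).subtype).codRestrict (D 0)
          fun w => by simpa using h w w.2
        have hL : Function.Injective L := fun a b hab => Subtype.ext (MaxTv.gl_mulVec_injective g (by
          simpa [L] using congrArg Subtype.val hab))
        obtain ⟨w', hw'⟩ := (LinearMap.injective_iff_surjective.1 hL) ⟨w, hw⟩
        exact ⟨w', w'.2, by simpa [L] using congrArg Subtype.val hw'⟩
      rw [isometry_polar (hiso g hg)]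
      exact horth w' hw' u hu
    have h3 : pr 0 ((g : Matrix (Fin n) (Fin n) F) *ᵥ u) = 0 := by
      by_contra h0
      obtain ⟨y, hy, hy'⟩ := MaxTv.ndQ_of_isNondegenerateOn (hD.nondegenerate 0) _ (hpr.mem 0 _) h0
      have h4 := h2 y hy
      rw [← hpr.sum ((g : Matrix (Fin n) (Fin n) F) *ᵥ u), Fin.sum_univ_two, QuadraticMap.polar_add_right,
        horth y hy _ (hpr.mem 1 _), add_zero, QuadraticMap.polar_comm] at h4
      exact hy' h4
    rw [← hpr.sum ((g : Matrix (Fin n) (Fin n) F) *ᵥ u), Fin.sum_univ_two, h3, zero_add]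
    exact hpr.mem 1 _

end Cfsg.Agent.S5699
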