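import Cfsg.Statements.S5703
import Cfsg.Agent.Lib.Classical.CliffordTwo.OrthEnd
import Cfsg.Agent.Lib.Classical.CliffordTwo.Bridge
import Cfsg.Agent.Lib.Classical.CliffordTwo.Proper

set_option autoImplicit false
open Cfsg

namespace Cfsg.Agent.S5703

open Matrix Module Cfsg.Agent.Classical Cfsg.Agent.Classical.CliffordTwo Cfsg.Agent.Classical.MaxTv Cfsg.Agent.Classical.OrthAut

/-- Let p be an odd prime, F the field with p elements, n ≥ 13 even, Q a non-degenerate quadratic form on F^n of plus type and Ω the commutator subgroup of its isometry group. Let R be a 2-subgroup of GL_n(F) of exponent 4 in which every characteristic abelian subgroup is cyclic, of order 2^(1+2k) with centre of order 2 and containing an elementary abelian subgroup of order 2^(k+1) (plus type), acting absolutely irreducibly and consisting of isometries of Q. Then the elements of Ω normalising R form a maximal subgroup of Ω. -/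
theorem result {F : Type*} [Field F] [Fintype F] {n : ℕ} (hn : 13 ≤ n) (heven : Even n) (Q : (Fin n → F) → F) (hQ : Cfsg.Geo.IsNondegenerateQuadraticForm Q) (hplus : Cfsg.Geo.IsPlusTypeOn Q ⊤) (p k : ℕ) (hp : p.Prime) (hpo : Odd p) (hF : Fintype.card F = p) (R : Subgroup (Matrix.GeneralLinearGroup (Fin n) F)) (hR : Cfsg.Geo.IsSymplecticTypeGroup 2 R) (hirr : Cfsg.Geo.ActsAbsolutelyIrreducibly (Cfsg.Geo.matrixSet R)) (hRD : R ≤ Cfsg.isometryGroup F Q) (hcard : Nat.card R = 2 ^ (1 + 2 * k)) (hZ : Nat.card (Subgroup.center R) = 2) (hpt : Cfsg.Geo.IsOfPlusType k R) : Cfsg.Geo.IsMaximalIn (Cfsg.Geo.omegaGL Q) (Cfsg.Geo.subgroupNormalizer R ⊓ Cfsg.Geo.omegaGL Q) := by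
  classical
  obtain ⟨q, hq⟩ := exists_form hQ
  subst hq
  have hnd₀ := nd_of_isNondegenerateQuadraticForm hQ
  have h2 : (2 : F) ≠ 0 := two_ne_zero_of_card_odd (hF ▸ hpo)
  obtain ⟨G, hG⟩ : ∃ G : Matrix (Fin n) (Fin n) F, ∀ x y, QuadraticMap.polar ⇑q x y = x ⬝ᵥ G *ᵥ y :=
    ⟨LinearMap.toMatrix₂' F (QuadraticMap.polarBilin q), fun x y => by
      rw [← Matrix.toLinearMap₂'_apply', Matrix.toLinearMap₂'_toMatrix']; rfl⟩
  have hGs : Gᵀ = G := Matrix.ext fun i j => by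
    have h1 := hG (Pi.single j 1) (Pi.single i 1)
    rw [QuadraticMap.polar_comm, hG] at h1
    simpa [mulVec_single] using h1.symm
  have hGu : IsUnit G := Matrix.mulVec_injective_iff_isUnit.1 fun x y e => sub_eq_zero.1 (hnd₀.1 (x - y) fun z => by
    show QuadraticMap.polar ⇑q (x - y) z = 0
    rw [QuadraticMap.polar_comm, hG, mulVec_sub, show G *ᵥ x = G *ᵥ y from e, sub_self, dotProduct_zero])
  have hdG := (Matrix.isUnit_iff_isUnit_det G).1 hGu
  obtain ⟨τ, hτdef⟩ : ∃ τ : Matrix (Fin n) (Fin n) F →ₗ[F] Matrix (Fin n) (Fin n) F, ∀ X, τ X = G⁻¹ * Xᵀ * G :=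
    ⟨(LinearMap.mulRight F G).comp ((LinearMap.mulLeft F G⁻¹).comp
      (Matrix.transposeLinearEquiv (Fin n) (Fin n) F F).toLinearMap), fun X => by simp⟩
  have hτmul : ∀ a b, τ (a * b) = τ b * τ a := fun a b => by
    rw [hτdef, hτdef, hτdef, transpose_mul]
    simp only [← mul_assoc]
    rw [Matrix.mul_nonsing_inv_cancel_right _ _ hdG]
  have hadj : ∀ X x y, QuadraticMap.polar ⇑q (τ X *ᵥ x) y = QuadraticMap.polar ⇑q x (X *ᵥ y) := fun X x y => by
    rw [hG, hG, ← vecMul_transpose, ← dotProduct_mulVec, mulVec_mulVec, mulVec_mulVec, hτdef, transpose_mul,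
      transpose_mul, transpose_transpose, transpose_nonsing_inv, hGs, mul_assoc, mul_assoc,
      Matrix.nonsing_inv_mul G hdG, mul_one]
  have hiso : ∀ g : GL (Fin n) F, τ (g : Matrix (Fin n) (Fin n) F) * g = 1 ↔ g ∈ isometryGroup F ⇑q := fun g => by
    rw [mem_isometryGroup]
    constructor
    · intro h x
      refine mul_left_cancel₀ h2 ?_
      rw [← polar_self2, ← polar_self2, ← hadj, mulVec_mulVec, h, one_mulVec]
    · intro h
      refine Matrix.ext_iff_mulVec.2 fun v => sub_eq_zero.1 (hnd₀.1 _ fun y => ?_)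
      show QuadraticMap.polar ⇑q _ y = 0
      rw [one_mulVec, QuadraticMap.polar_sub_left, ← mulVec_mulVec, hadj]
      simp only [QuadraticMap.polar, ← mulVec_add, h, sub_self]
  obtain E := Bridge.ext_of h2 (by simp; omega) hR hirr hcard hZ
  obtain ⟨S, hSτ, hSR, hsurj, hdim⟩ := E.exists_sys τ hτmul fun g hg => (hiso g).2 (hRD hg)
  rw [Fintype.card_fin] at hdim
  have hk : 4 ≤ k := by
    by_contra hk
    have := Nat.pow_le_pow_right (show 1 ≤ 2 by norm_num) (show k ≤ 3 by omega)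
    omega
  have hfr : finrank (ZMod 2) (Fin (2 * k) → ZMod 2) = 2 * k := Module.finrank_fin_fun _
  have hIsoEq : S.Iso = isometryGroup F ⇑q := SetLike.ext fun g => by rw [S.mem_Iso, hSτ]; exact hiso g
  have hΩ : ∀ g : GL (Fin n) F, g ∈ Geo.omegaGL ⇑q ↔ ∃ x ∈ _root_.commutator S.Iso, (x : GL (Fin n) F) = g := fun g => by
    rw [OrthFrame.omegaGL_eq, ← hIsoEq, ← Subgroup.map_subtype_commutator, Subgroup.mem_map]
    rfl
  have hN : ∀ g : S.Iso, g ∈ S.gsys.N ↔ (g : GL (Fin n) F) ∈ Geo.subgroupNormalizer R := Bridge.mem_N_iff hSR hsurj E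
  refine MaxTv.isMaximalIn_intro inf_le_right (fun hle => ?_) fun M hHM hMK g hg hgH => ?_
  · obtain ⟨g, hgc, hgN⟩ := S.exists_not_mem_N (by omega)
    exact hgN ((hN g).2 (hle ((hΩ _).2 ⟨g, hgc, rfl⟩)).1)
  obtain ⟨H₀, hH₀⟩ : ∃ H₀, H₀ = M.comap S.Iso.subtype := ⟨_, rfl⟩
  have hNO : S.NO ≤ H₀ := fun x hx => by
    rw [hH₀, Subgroup.mem_comap]
    exact hHM ⟨(hN x).1 hx.1, (hΩ _).2 ⟨x, hx.2, rfl⟩⟩
  have hnot : ¬ H₀ ≤ S.gsys.N := fun hle => hgH ⟨by
    obtain ⟨x, -, hx⟩ := (hΩ g).1 (hMK hg)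
    exact hx ▸ (hN x).1 (hle (by rw [hH₀, Subgroup.mem_comap, Subgroup.subtype_apply, hx]; exact hg)), hMK hg⟩
  have hcc := S.hasCC_of_not_le (by omega) hfr hNO hnot
  have hmemM : ∀ x : S.Iso, x ∈ H₀ → (x : GL (Fin n) F) ∈ M := fun x hx => by rwa [hH₀, Subgroup.mem_comap] at hx
  -- the frame
  obtain ⟨U, hU, hUk⟩ := Bridge.exists_half hSR hsurj E hpt
  obtain ⟨D⟩ := S.toQd.exists_std hfr U hU hUk
  haveI : Nonempty (Fin n) := ⟨⟨0, by omega⟩⟩
  obtain ⟨v, hv0, hv⟩ := S.exists_fixed D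
  obtain ⟨ξ⟩ : Nonempty (Fin n ≃ (Fin k → ZMod 2)) :=
    ⟨Fintype.equivOfCardEq (by rw [Fintype.card_fin, Fintype.card_fun, ZMod.card, Fintype.card_fin, hdim])⟩
  obtain ⟨L, hL⟩ : ∃ L : (Fin n → F) ≃ₗ[F] (Fin n → F), ∀ m, L (Pi.single m 1) = S.fr D v (ξ m) := by
    have hsp : ⊤ ≤ Submodule.span F (Set.range fun m => S.fr D v (ξ m)) := by
      rw [show (fun m => S.fr D v (ξ m)) = S.fr D v ∘ ξ from rfl, ξ.surjective.range_comp]
      exact S.fr_span D hv hv0
    refine ⟨(basisOfTopLeSpanOfCardEqFinrank (fun m => S.fr D v (ξ m)) hsp (by simp)).equivFun.symm, fun m => ?_⟩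
    simp [Basis.equivFun_symm_apply, Pi.single_apply]
  obtain ⟨c, hc⟩ : ∃ c, c = q v := ⟨_, rfl⟩
  have hfrQ : ∀ a, q (S.fr D v a) = c := fun a =>
    hc ▸ mem_isometryGroup.1 (hIsoEq ▸ (S.rI (D.xa a)).2) v
  have hpol : ∀ i j, QuadraticMap.polar ⇑q (S.fr D v (ξ i)) (S.fr D v (ξ j)) = if i = j then 2 * c else 0 := fun i j => by
    rcases eq_or_ne i j with rfl | hij
    · rw [if_pos rfl, polar_self2, hfrQ]
    · rw [if_neg hij]
      refine S.fr_orth D hv (f := QuadraticMap.polar ⇑q) (fun X x y => by rw [hSτ]; exact hadj X x y)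
        (fun a x y => by rw [QuadraticMap.polar_smul_left, smul_eq_mul])
        (fun a x y => by rw [QuadraticMap.polar_smul_right, smul_eq_mul]) fun e => hij (ξ.injective e)
  have hLs : ∀ x : Fin n → F, L x = ∑ i, x i • S.fr D v (ξ i) := fun x => by
    conv_lhs => rw [← Finset.univ_sum_single x]
    rw [map_sum]
    exact Finset.sum_congr rfl fun i _ => by rw [← hL, ← map_smul, ← Pi.single_smul, smul_eq_mul, mul_one]
  have hQL : ∀ x, q (L x) = c * OrthFrame.qs F n x := fun x => by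
    refine mul_left_cancel₀ h2 ?_
    rw [← polar_self2, ← QuadraticMap.polarBilin_apply_apply, hLs]
    simp only [map_sum, map_smul, LinearMap.sum_apply, LinearMap.smul_apply, QuadraticMap.polarBilin_apply_apply, hpol,
      smul_eq_mul, mul_ite, mul_zero, Finset.sum_ite_eq', Finset.sum_ite_eq, Finset.mem_univ, if_true,
      OrthFrame.qs_apply, Finset.mul_sum]
    exact Finset.sum_congr rfl fun i _ => by ring
  have hc0 : c ≠ 0 := fun h0 => hv0 (hnd₀.1 v fun y => by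
    show QuadraticMap.polar ⇑q v y = 0
    have hz : ∀ w, q w = 0 := fun w => by rw [← L.apply_symm_apply w, hQL, h0, zero_mul]
    simp [QuadraticMap.polar, hz])
  have hmap := OrthFrame.map_omegaGL L hc0 ⇑q hQL
  obtain ⟨H, hH⟩ : ∃ H, H = M.map (OrthFrame.chg L) := ⟨_, rfl⟩
  have hHo : H ≤ Geo.omegaGL ⇑(OrthFrame.qs F n) := by rw [hH, ← hmap]; exact Subgroup.map_mono hMK
  have hHiso : ∀ h ∈ H, ∀ x, OrthFrame.qs F n ((h : Matrix (Fin n) (Fin n) F) *ᵥ x) = OrthFrame.qs F n x :=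
    fun h hh => isometry_of_mem_omegaGL (hHo hh)
  have hdet : ∀ h ∈ H, (h : Matrix (Fin n) (Fin n) F).det = 1 := fun h hh => by
    obtain ⟨x, hx, rfl⟩ := hHo hh
    exact OrthAut.det_omega hx
  have hsp : ∀ (x : S.Iso), x ∈ H₀ → ∀ (π : Equiv.Perm (Fin k → ZMod 2)) (s : (Fin k → ZMod 2) → Fˣ),
      (∀ a, ((x : GL (Fin n) F) : Matrix (Fin n) (Fin n) F) *ᵥ S.fr D v a = (s a : F) • S.fr D v (π a)) →
      (OrthFrame.sp (pc ξ π) (fun m => s (ξ m)) : GL (Fin n) F) ∈ H := fun x hx π s hs => by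
    rw [hH]
    refine ⟨x, hmemM x hx, OrthFrame.ext_single fun m => L.injective ?_⟩
    rw [OrthFrame.chg_mulVec, L.apply_symm_apply, hL, hs, OrthFrame.sp_single,
      show (Pi.single (pc ξ π m) (s (ξ m) : F) : Fin n → F) = (s (ξ m) : F) • Pi.single (pc ξ π m) 1 by
        rw [← Pi.single_smul, smul_eq_mul, mul_one], map_smul, hL, pc_apply, Equiv.apply_symm_apply]
  obtain ⟨su, hsu⟩ : ∃ su : ZMod 2 → Fˣ, ∀ s, (su s : F) = sg F s :=
    ⟨fun s => if s = 0 then 1 else -1, fun s => by rcases z2_cases s with rfl | rfl <;> simp [sg_zero, sg_one]⟩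
  have O : OrthFrame.Fr H := by
    refine frame_mon h2 ξ hk hHiso hdet (fun b => ?_) (fun A t hA ht => ?_) fun i j t hij hit hjt => ?_
    · choose s hs using fun a => S.x_fr D hv b a
      exact ⟨_, hsp (S.rI (D.xa b)) (hNO (S.R_le_NO (by omega) (S.gsys.r_mem _))) (Cube.tr b) (fun a => su (s a))
        fun a => by rw [hsu]; exact hs a⟩
    · obtain ⟨i, j, hij, rfl⟩ := Finset.card_eq_two.1 hA
      simp only [Finset.mem_insert, Finset.mem_singleton, not_or] at ht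
      obtain ⟨x, hx, hval⟩ := hcc _ _ _ _ _ (D.ccok (w := D.x t) hij
        (by rw [S.toQd.symm, D.xz, if_neg ht.1]) (D.xx i t) (by rw [S.toQd.symm, D.xz, if_neg ht.2]) (D.xx j t))
      choose s hs using fun a => S.cc_x_fr D hv (Ne.symm ht.1) (Ne.symm ht.2) (i := i) (j := j) a
      exact ⟨_, hsp x hx (Cube.flip {i, j} t) (fun a => su (s a)) fun a => by rw [hsu, hval]; exact hs a⟩
    · obtain ⟨x, hx, hval⟩ := hcc _ _ _ _ _ (D.ccok (w := D.z t) hij
        (D.zz i t) (by rw [D.xz, if_neg hit]) (D.zz j t) (by rw [D.xz, if_neg hjt]))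
      have h1 := hsp x hx 1 (fun a => if a i = 1 ∧ a j = 1 ∧ a t = 1 then -1 else 1) fun a => by
        rw [hval, S.cc_z_fr D hv, Equiv.Perm.one_apply]
        split_ifs <;> simp
      convert h1 using 1
      rw [OrthFrame.dg, show pc ξ (1 : Equiv.Perm (Fin k → ZMod 2)) = 1 from Equiv.ext fun m => by simp [pc_apply]]
      congr 1
      funext m
      simp [OrthFrame.sgn]
  rcases OrthFrame.dich n (by omega) (Or.inr (by omega)) O (hF ▸ hp) with hmon | hconcl
  · exfalso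
    obtain ⟨i, j, hij⟩ : ∃ i j : Fin k, i ≠ j := ⟨⟨0, by omega⟩, ⟨1, by omega⟩, by simp⟩
    obtain ⟨h, hz, hx'⟩ : ∃ h : HPair S.toQd, h.z = D.x i ∧ h.x = D.z i :=
      ⟨⟨D.x i, D.z i, D.qx i, D.qz i, by rw [D.xz, if_pos rfl]⟩, rfl, rfl⟩
    obtain ⟨w, hw⟩ : ∃ w : h.W, (w : Fin (2 * k) → ZMod 2) = D.x j := by
      refine ⟨⟨D.x j, h.mem_W.2 ⟨by rw [hz]; exact D.xx i j, ?_⟩⟩, rfl⟩
      rw [hx', S.toQd.symm, D.xz, if_neg hij.symm]
    refine S.not_mon_val D hv hij L ξ hL (g := ((S.ctl h ((S.sub h).rI w) : S.Iso) : GL (Fin n) F)) ?_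
      (hmon _ (hH ▸ Subgroup.mem_map_of_mem _ (hmemM _ (hNO (S.ctl_rI_mem_NO h (by omega) w)))))
    rw [Sys.ctl_val, ← hw, ← hz]
    rfl
  · have hle := O.omega_le (by omega) hconcl
    rw [hH, ← hmap, Subgroup.map_le_map_iff_of_injective (OrthFrame.chg_injective L)] at hle
    exact hle

end Cfsg.Agent.S5703
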