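import Cfsg.Statements.S5704
import Cfsg.Agent.Lib.Classical.MaxTensorSymp
import Cfsg.Agent.Lib.Classical.MaxTensorGram

set_option autoImplicit false
open Cfsg
open scoped Kronecker
open Cfsg.Agent.Classical Cfsg.Agent.Classical.TensorMax

namespace Cfsg.Agent.S5704

/-- Let F be a finite field with q elements, n ≥ 13 even, Q a non-degenerate quadratic form on F^n of plus type (some subspace of dimension n/2 is totally singular), and Ω the commutator subgroup of the isometry group of Q, viewed inside GL_n(F). Suppose that, through a change of basis P and a bijection of index sets e, the polar form of Q is similar to the tensor product of non-degenerate symplectic forms f₁ on F^(n₁) and f₂ on F^(n₂) with n₁ < n₂, and Q vanishes on the images of all pure tensors. Unless q = 2 and n₁ = 2, the elements of Ω in the stabiliser of this tensor decomposition form a maximal subgroup of Ω. -/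
theorem result {F : Type*} [Field F] [Fintype F] {n : ℕ} (hn : 13 ≤ n) (heven : Even n) (Q : (Fin n → F) → F) (hQ : Cfsg.Geo.IsNondegenerateQuadraticForm Q) (hplus : Cfsg.Geo.IsPlusTypeOn Q ⊤) (n₁ n₂ : ℕ) (h12 : n₁ < n₂) (hex : ¬ (Fintype.card F = 2 ∧ n₁ = 2)) (e : (Fin n) ≃ Fin n₁ × Fin n₂) (P : Matrix.GeneralLinearGroup (Fin n) F) (f₁ : (Fin n₁ → F) → (Fin n₁ → F) → F) (f₂ : (Fin n₂ → F) → (Fin n₂ → F) → F) (hf₁ : Cfsg.Geo.IsSymplecticForm f₁) (hf₂ : Cfsg.Geo.IsSymplecticForm f₂) (hT : Cfsg.Geo.IsTensorFormStructure id (QuadraticMap.polar Q) f₁ f₂ e P) (hpure : (∀ (x₁ : Fin n₁ → F) (x₂ : Fin n₂ → F), Q (Matrix.mulVec (P : Matrix (Fin n) (Fin n) F) ((fun a : Fin n₁ × Fin n₂ => x₁ a.1 * x₂ a.2) ∘ e)) = 0)) : Cfsg.Geo.IsMaximalIn (Cfsg.Geo.omegaGL Q) (Cfsg.Geo.tensorProductSubgroup n₁ n₂ e P ⊓ Cfsg.Geo.omegaGL Q) := by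
  classical
  obtain ⟨c, hc, hpol⟩ := hT
  have hA := alt_gramMap hf₁ hc
  have hB := alt_gramMap hf₂ (one_ne_zero (α := F))
  have hev₁ := hA.even_card
  have hev₂ := hB.even_card
  rw [Fintype.card_fin] at hev₁ hev₂
  have hcard : n = n₁ * n₂ := by simpa using Fintype.card_congr e
  obtain ⟨k₁, hk₁⟩ := hev₁
  obtain ⟨k₂, hk₂⟩ := hev₂
  have hn1 : 2 ≤ n₁ := by
    rcases Nat.eq_zero_or_pos n₁ with h | h
    · rw [h, Nat.zero_mul] at hcard; omega
    · omega
  have hb6 : 6 ≤ n₂ := by
    by_contra h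
    have : n₁ * n₂ ≤ 4 * 4 := Nat.mul_le_mul (by omega) (by omega)
    have h1 : n₁ = 2 := by omega
    subst h1
    omega
  obtain ⟨Qf, rfl⟩ : ∃ Qf : QuadraticForm F (Fin n → F), ⇑Qf = Q :=
    ⟨QuadraticMap.ofPolar Q (fun a x => by rw [hQ.smul, smul_eq_mul, sq])
      (fun x x' y => hQ.polar_bilinear.add_left x x' y) (fun a x y => hQ.polar_bilinear.smul_left a x y), rfl⟩
  have hnd : (QuadraticMap.polarBilin Qf).Nondegenerate := by
    have key : ∀ u, (∀ v, QuadraticMap.polar ⇑Qf v u = 0) → u = 0 := fun u hu => by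
      by_contra h0
      obtain ⟨x, hx⟩ := (hQ.nondegenerate u h0).1
      exact hx (hu x)
    exact ⟨fun u hu => key u fun v => by rw [QuadraticMap.polar_comm]; exact hu v, fun u hu => key u hu⟩
  have hs : SympPair Qf (coordEquiv e P) (gramMap c f₁) (gramMap 1 f₂)
      ((Geo.glReindex e.symm).trans (MulAut.conj P)) :=
    { altA := hA
      altB := hB
      compat := coord_compat e P
      pure := fun x y => hpure x y
      pol := fun x y x' y' => by
        rw [coordEquiv_apply, coordEquiv_apply, hpol, formOfGram_tmul hf₁.bilinear hf₂.bilinear]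
      nd := hnd
      dimB := by simpa using hb6
      gap := by simp only [Fintype.card_fin]; omega
      two := by simpa using hn1
      big := by simp only [Fintype.card_fin]; omega }
  refine hs.maximal ?_ _ fun g => ?_
  · have := Fintype.one_lt_card (α := F)
    simp only [Fintype.card_fin]
    omega
  · rw [Subgroup.mem_inf, Geo.tensorProductSubgroup, Subgroup.map_map]
    refine and_congr_left' ⟨fun h => ?_, fun h => ?_⟩
    · obtain ⟨k, hk, rfl⟩ := Subgroup.mem_map.1 h
      have he : ((MulAut.conj P).toMonoidHom.comp (Geo.glReindex e.symm).toMonoidHom) k =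
          ((Geo.glReindex e.symm).trans (MulAut.conj P)) k := rfl
      rw [he, MulEquiv.symm_apply_apply]
      exact hk
    · refine Subgroup.mem_map.2 ⟨((Geo.glReindex e.symm).trans (MulAut.conj P)).symm g, h, ?_⟩
      exact ((Geo.glReindex e.symm).trans (MulAut.conj P)).apply_symm_apply g

end Cfsg.Agent.S5704
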