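import Cfsg.Statements.S5726
import Mathlib


set_option autoImplicit false
open Cfsg

namespace Cfsg.Agent.S5726


/-- If a finite group acts faithfully and transitively on a set with p^k elements, p a prime and k ≥ 1, then some element of order p fixes no point. -/
theorem result {G Ω : Type*} [Group G] [Finite G] [MulAction G Ω] [FaithfulSMul G Ω] [Fintype Ω] (htr : MulAction.IsPretransitive G Ω)
    (p k : ℕ) (hp : p.Prime) (hk : 1 ≤ k) (hΩ : Fintype.card Ω = p ^ k) :
    ∃ g : G, orderOf g = p ∧ ∀ ω : Ω, g • ω ≠ ω := by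
  have := Fact.mk hp
  obtain ⟨P⟩ : Nonempty (Sylow p G) := inferInstance
  have hne : Nonempty Ω := Fintype.card_pos_iff.mp (hΩ ▸ Nat.pow_pos hp.pos)
  have hP : ∀ ω : Ω, MulAction.orbit P ω = Set.univ := by
    intro ω
    have hG : Nat.card Ω * Nat.card (MulAction.stabilizer G ω) = Nat.card G := by
      rw [← MulAction.index_stabilizer_of_transitive G ω, Subgroup.index_mul_card]
    have h1 : Nat.card (MulAction.orbit P ω) * Nat.card (MulAction.stabilizer P ω) = Nat.card P := by
      have := Subgroup.index_mul_card (MulAction.stabilizer P ω)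
      rwa [MulAction.index_stabilizer, ← Nat.card_coe_set_eq] at this
    have h2 : Nat.card (MulAction.stabilizer P ω) ∣ Nat.card (MulAction.stabilizer G ω) := by
      refine Subgroup.card_dvd_of_injective
        (((P : Subgroup G).subtype.comp (MulAction.stabilizer P ω).subtype).codRestrict _
          (fun x => x.2)) ?_
      intro x y h
      exact Subtype.ext (Subtype.ext (congrArg (fun z : MulAction.stabilizer G ω => (z : G)) h))
    obtain ⟨j, hj⟩ := (Nat.dvd_prime_pow hp).mp (P.card_eq_multiplicity ▸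
      Dvd.intro_left _ h1 : Nat.card (MulAction.stabilizer P ω) ∣ _)
    have h3 : p ^ j * p ^ k ∣ Nat.card P := by
      rw [P.card_eq_multiplicity, ← pow_add]
      refine pow_dvd_pow p ?_
      refine (hp.pow_dvd_iff_le_factorization Nat.card_pos.ne').mp ?_
      rw [pow_add, ← hG, Nat.card_eq_fintype_card, hΩ, mul_comm]
      exact Nat.mul_dvd_mul_left _ (hj.2 ▸ h2)
    rw [← hj.2, ← h1, mul_comm] at h3
    have h4 : p ^ k ≤ Nat.card (MulAction.orbit P ω) :=
      have := (MulAction.nonempty_orbit (M := P) ω).to_subtype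
      Nat.le_of_dvd Nat.card_pos (Nat.dvd_of_mul_dvd_mul_right Nat.card_pos h3)
    refine Set.eq_of_subset_of_ncard_le (Set.subset_univ _) ?_ (Set.toFinite _)
    rw [Set.ncard_univ, ← Nat.card_coe_set_eq, Nat.card_eq_fintype_card, hΩ]
    exact h4
  obtain ⟨ω₀⟩ := hne
  have : Nontrivial P := by
    rw [← Finite.one_lt_card_iff_nontrivial]
    by_contra hlt
    have h5 : (MulAction.orbit P ω₀).ncard ≤ 1 := by
      rw [← MulAction.index_stabilizer]
      exact (Nat.le_of_dvd Nat.card_pos (Subgroup.index_dvd_card _)).trans (not_lt.mp hlt)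
    rw [hP, Set.ncard_univ, Nat.card_eq_fintype_card, hΩ] at h5
    exact absurd h5 (not_le.mpr (Nat.one_lt_pow (by omega) hp.one_lt))
  have := P.isPGroup'.center_nontrivial
  obtain ⟨z, hz⟩ := exists_prime_orderOf_dvd_card' p
    (by
      obtain ⟨m, hm⟩ := IsPGroup.iff_card.mp (P.isPGroup'.to_subgroup (Subgroup.center P))
      rw [hm]
      refine dvd_pow_self p (fun h0 => ?_)
      rw [h0, pow_zero] at hm
      exact absurd hm (Finite.one_lt_card_iff_nontrivial.mpr inferInstance).ne')
  refine ⟨((z : P) : G), by rw [Subgroup.orderOf_coe, Subgroup.orderOf_coe, hz], fun ω hω => ?_⟩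
  have hz1 : ((z : P) : G) = 1 := by
    refine FaithfulSMul.eq_of_smul_eq_smul (M := G) (α := Ω) fun x => ?_
    obtain ⟨y, rfl⟩ : x ∈ MulAction.orbit P ω := (hP ω).symm ▸ Set.mem_univ x
    have h6 : (y : P) * (z : P) = (z : P) * y := Subgroup.mem_center_iff.mp z.2 y
    show ((z : P) : G) • (y : G) • ω = (1 : G) • (y : G) • ω
    rw [← mul_smul, ← Subgroup.coe_mul, ← h6, Subgroup.coe_mul, mul_smul, hω, one_smul]
  rw [OneMemClass.coe_eq_one, OneMemClass.coe_eq_one] at hz1
  rw [hz1, orderOf_one] at hz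
  exact hp.ne_one hz.symm

end Cfsg.Agent.S5726
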