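import Cfsg.Statements.S5727
-- import your own Cfsg.Agent.* helpers here

set_option autoImplicit false
open Cfsg

namespace Cfsg.Agent.S5727

/-- If a finite group acts faithfully and transitively on a set with m·p elements, where p is a prime and 1 ≤ m ≤ p, then some element of order p fixes no point. -/
theorem result {G Ω : Type*} [Group G] [Finite G] [MulAction G Ω] [FaithfulSMul G Ω] [Fintype Ω] (htr : MulAction.IsPretransitive G Ω)
    (p m : ℕ) (hp : p.Prime) (hm : 1 ≤ m) (hmp : m ≤ p) (hΩ : Fintype.card Ω = m * p) :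
    ∃ g : G, orderOf g = p ∧ ∀ ω : Ω, g • ω ≠ ω := by
  classical
  haveI : Fact p.Prime := ⟨hp⟩
  haveI := htr
  obtain ⟨P⟩ : Nonempty (Sylow p G) := inferInstance
  haveI : Fintype P := Fintype.ofFinite _
  have hpΩ : p ∣ Fintype.card Ω := hΩ ▸ dvd_mul_left p m
  obtain ⟨ω₀⟩ : Nonempty Ω := Fintype.card_pos_iff.mp (by rw [hΩ]; exact Nat.mul_pos hm hp.pos)
  have horb : ∀ ω : Ω, p ∣ Nat.card (MulAction.orbit P ω) := by
    intro ω
    have h1 : Nat.card (MulAction.stabilizer G ω) * Fintype.card Ω = Nat.card G := by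
      rw [← Nat.card_eq_fintype_card, ← MulAction.index_stabilizer_of_transitive G ω, Subgroup.card_mul_index]
    have h2 : (MulAction.stabilizer P ω).index ≠ 1 := by
      intro h
      have hle : (P : Subgroup G) ≤ MulAction.stabilizer G ω := fun g hg => by
        have := Subgroup.index_eq_one.mp h
        have hm : (⟨g, hg⟩ : P) ∈ MulAction.stabilizer P ω := this ▸ Subgroup.mem_top _
        exact hm
      have h3 : (P : Subgroup G).index = (P : Subgroup G).relIndex (MulAction.stabilizer G ω) *
          (MulAction.stabilizer G ω).index := (Subgroup.relIndex_mul_index hle).symm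
      rw [MulAction.index_stabilizer_of_transitive G ω, Nat.card_eq_fintype_card] at h3
      exact P.not_dvd_index (h3 ▸ hpΩ.mul_left _)
    have h3 : Nat.card (MulAction.orbit P ω) = (MulAction.stabilizer P ω).index :=
      (MulAction.index_stabilizer P ω).symm ▸ rfl
    rw [h3]
    obtain ⟨k, hk⟩ := P.isPGroup'.index (MulAction.stabilizer P ω)
    rw [hk] at h2 ⊢
    exact dvd_pow_self p (fun h0 => h2 (by rw [h0, pow_zero]))
  by_cases hbig : ∃ ω : Ω, MulAction.orbit P ω = Set.univ
  · obtain ⟨ω₁, hω₁⟩ := hbig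
    have hnt : Nontrivial P := by
      rw [← not_subsingleton_iff_nontrivial]
      intro hs
      have h := horb ω₁
      haveI : Subsingleton (MulAction.orbit P ω₁) := ⟨fun a b => Subtype.ext (by
        obtain ⟨x, hx⟩ := a.2
        obtain ⟨y, hy⟩ := b.2
        rw [← hx, ← hy, Subsingleton.elim x y])⟩
      haveI : Nonempty (MulAction.orbit P ω₁) := ⟨⟨ω₁, MulAction.mem_orbit_self _⟩⟩
      rw [Nat.card_unique] at h
      exact hp.one_lt.ne' (Nat.dvd_one.mp h)
    haveI := P.isPGroup'.center_nontrivial
    have hdvd : p ∣ Nat.card (Subgroup.center P) := by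
      obtain ⟨k, hk0, hk⟩ := ((P.isPGroup'.to_subgroup (Subgroup.center P)).nontrivial_iff_card).mp inferInstance
      rw [hk]; exact dvd_pow_self p hk0.ne'
    obtain ⟨z, hz⟩ := exists_prime_orderOf_dvd_card' p hdvd
    refine ⟨(z : P), by rw [Subgroup.orderOf_coe, Subgroup.orderOf_coe, hz], fun ω hω => ?_⟩
    have hall : ∀ ω' : Ω, ((z : P) : G) • ω' = ω' := by
      intro ω'
      obtain ⟨a, ha⟩ := (hω₁ ▸ Set.mem_univ ω : ω ∈ MulAction.orbit P ω₁)
      obtain ⟨b, hb⟩ := (hω₁ ▸ Set.mem_univ ω' : ω' ∈ MulAction.orbit P ω₁)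
      have hc : ((z : P) : G) * ((b * a⁻¹ : P) : G) = ((b * a⁻¹ : P) : G) * ((z : P) : G) :=
        congrArg Subtype.val (Subgroup.mem_center_iff.mp z.2 (b * a⁻¹)).symm
      have hto : ((b * a⁻¹ : P) : G) • ω = ω' := by
        rw [← ha, ← hb]
        show (b * a⁻¹) • a • ω₁ = b • ω₁
        rw [smul_smul, inv_mul_cancel_right]
      rw [← hto, smul_smul, hc, mul_smul, hω]
    have h1 : ((z : P) : G) = 1 := eq_of_smul_eq_smul (α := Ω) fun ω' => by rw [hall, one_smul]
    have : orderOf ((z : P) : G) = p := by rw [Subgroup.orderOf_coe, Subgroup.orderOf_coe, hz]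
    rw [h1, orderOf_one] at this
    exact hp.one_lt.ne this
  · push Not at hbig
    let Q : Type _ := MulAction.orbitRel.Quotient P Ω
    have hsum : ∑ o : Q, Nat.card o.orbit = m * p := by
      rw [← hΩ, ← Nat.card_sigma, ← Nat.card_eq_fintype_card]
      exact Nat.card_congr (MulAction.selfEquivSigmaOrbits' P Ω).symm
    have hoeq : ∀ o : Q, ∃ ω, o.orbit = MulAction.orbit P ω := fun o => by
      induction o using Quotient.inductionOn' with | h ω => exact ⟨ω, rfl⟩
    have hdp : ∀ ω : Ω, Nat.card (MulAction.orbit P ω) = p := by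
      intro ω
      obtain ⟨k, hk⟩ := P.isPGroup'.card_orbit ω
      have hlt : Nat.card (MulAction.orbit P ω) < m * p := by
        rw [← hΩ, Nat.card_coe_set_eq, ← Nat.card_eq_fintype_card, ← Set.ncard_univ]
        exact Set.ncard_lt_ncard ((Set.subset_univ _).ssubset_of_ne (hbig ω)) Set.finite_univ
      rcases k with _ | _ | k
      · have h := horb ω
        rw [hk, pow_zero] at h
        exact absurd (Nat.dvd_one.mp h) hp.one_lt.ne'
      · rw [hk, pow_one]
      · rw [hk, show k + 1 + 1 = k + 2 from rfl] at hlt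
        have h1 : p ^ 2 ≤ p ^ (k + 2) := Nat.pow_le_pow_right hp.pos (by omega)
        have h2 : m * p ≤ p ^ 2 := by rw [pow_two]; exact Nat.mul_le_mul_right _ hmp
        omega
    have hQ : Fintype.card Q = m := by
      have : ∑ _o : Q, p = m * p := by
        rw [← hsum]; exact Finset.sum_congr rfl fun o _ => by
          obtain ⟨ω, e⟩ := hoeq o
          rw [e, hdp]
      rw [Finset.sum_const, Finset.card_univ, smul_eq_mul] at this
      exact Nat.eq_of_mul_eq_mul_right hp.pos this
    let S : Ω → Finset P := fun ω => Finset.univ.filter fun g => g • ω = ω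
    have hSc : ∀ ω, p * (S ω).card = Nat.card P := by
      intro ω
      have h := Subgroup.card_mul_index (MulAction.stabilizer P ω)
      rw [MulAction.index_stabilizer, ← Nat.card_coe_set_eq, hdp] at h
      rw [← h, mul_comm]
      congr 1
      rw [Nat.card_eq_fintype_card, ← Fintype.card_coe]
      exact Fintype.card_congr (Equiv.subtypeEquivRight fun g => by simp [S, MulAction.mem_stabilizer_iff])
    have hconst : ∀ ω ω' : Ω, ω' ∈ MulAction.orbit P ω → ∀ g : P, g • ω = ω → g • ω' = ω' := by
      intro ω ω' hω' g hg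
      obtain ⟨k, hk⟩ := P.isPGroup' g
      by_contra hne
      -- the orbit of `g` on the fibre is too small
      have h1 : Nat.card (MulAction.orbit (Subgroup.zpowers g) ω') < p := by
        refine lt_of_lt_of_eq ?_ (hdp ω)
        rw [Nat.card_coe_set_eq, Nat.card_coe_set_eq]
        refine Set.ncard_lt_ncard ⟨?_, fun h => ?_⟩ (Set.toFinite _)
        · rintro _ ⟨x, rfl⟩
          obtain ⟨b, hb⟩ := hω'
          exact ⟨(x : P) * b, by
            show ((x : P) * b) • ω = (x : P) • ω'
            rw [mul_smul, ← hb]⟩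
        · obtain ⟨⟨x, hx⟩, hxω⟩ := h (MulAction.mem_orbit_self ω)
          obtain ⟨j, rfl⟩ := hx
          have hfix : (g ^ j) • ω = ω := by
            have : g ∈ MulAction.stabilizer P ω := hg
            exact Subgroup.zpow_mem _ this j
          have : (g ^ j) • ω' = (g ^ j) • ω := hxω.trans hfix.symm
          exact hne (by rw [smul_left_cancel _ this, hg])
      obtain ⟨l, hl⟩ := (P.isPGroup'.to_subgroup (Subgroup.zpowers g)).card_orbit ω'
      replace h1 : p ^ l < p := lt_of_eq_of_lt hl.symm h1
      have hl0 : l = 0 := by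
        by_contra h0
        have : p ^ 1 ≤ p ^ l := Nat.pow_le_pow_right hp.pos (Nat.pos_of_ne_zero h0)
        rw [pow_one] at this
        omega
      rw [hl0, pow_zero] at hl
      haveI := (Nat.card_eq_one_iff_unique.mp hl).1
      exact hne (congrArg Subtype.val (Subsingleton.elim
        (⟨g • ω', ⟨g, Subgroup.mem_zpowers g⟩, rfl⟩ : MulAction.orbit (Subgroup.zpowers g) ω')
        ⟨ω', MulAction.mem_orbit_self _⟩))
    let R : Finset Ω := Finset.univ.image (fun o : Q => o.out)
    have hR : R.card ≤ m := hQ ▸ (Finset.card_image_le.trans (le_of_eq Finset.card_univ))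
    obtain ⟨g, hg⟩ : ∃ g : P, ∀ ω : Ω, g • ω ≠ ω := by
      by_contra hc
      push Not at hc
      have hcov : (Finset.univ : Finset P).erase 1 ⊆ R.biUnion fun ω => (S ω).erase 1 := by
        intro g hg
        obtain ⟨ω, hω⟩ := hc g
        rw [Finset.mem_biUnion]
        refine ⟨(Quotient.mk'' ω : Q).out, Finset.mem_image_of_mem _ (Finset.mem_univ _), ?_⟩
        rw [Finset.mem_erase, Finset.mem_filter]
        refine ⟨(Finset.mem_erase.mp hg).1, Finset.mem_univ _, hconst ω _ ?_ g hω⟩
        exact MulAction.orbitRel_apply.mp (Quotient.exact' (Quotient.out_eq' (Quotient.mk'' ω : Q)))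
      have h1 := (Finset.card_le_card hcov).trans Finset.card_biUnion_le
      rw [Finset.card_erase_of_mem (Finset.mem_univ _), Finset.card_univ, ← Nat.card_eq_fintype_card] at h1
      set s := (S ω₀).card with hs
      have hS1 : ∀ ω, ((S ω).erase 1).card = s - 1 := fun ω => by
        rw [Finset.card_erase_of_mem (show (1 : P) ∈ S ω from Finset.mem_filter.mpr ⟨Finset.mem_univ _, one_smul _ _⟩), hs]
        congr 1
        exact Nat.eq_of_mul_eq_mul_left hp.pos ((hSc ω).trans (hSc ω₀).symm)
      rw [Finset.sum_congr rfl (fun ω _ => hS1 ω), Finset.sum_const, smul_eq_mul] at h1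
      have hs1 : 1 ≤ s := Finset.card_pos.mpr ⟨1, Finset.mem_filter.mpr ⟨Finset.mem_univ _, one_smul _ _⟩⟩
      have h2 := hSc ω₀
      rw [← hs] at h2
      have h3 : R.card * (s - 1) ≤ p * (s - 1) := Nat.mul_le_mul_right _ (hR.trans hmp)
      have h4 : p * (s - 1) + p = p * s := by rw [← Nat.mul_succ, Nat.succ_eq_add_one, Nat.sub_add_cancel hs1]
      have := hp.two_le
      omega
    refine ⟨g, ?_, fun ω => hg ω⟩
    rw [Subgroup.orderOf_coe]
    refine orderOf_eq_prime ?_ (fun h1 => hg ω₀ (by rw [h1, one_smul]))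
    refine Subtype.ext (eq_of_smul_eq_smul (α := Ω) fun ω => ?_)
    have hord : g ^ p ∈ MulAction.stabilizer P ω := by
      obtain ⟨l, hl⟩ := (P.isPGroup'.to_subgroup (Subgroup.zpowers g)).card_orbit ω
      have hle : Nat.card (MulAction.orbit (Subgroup.zpowers g) ω) ≤ p := by
        refine le_trans ?_ (le_of_eq (hdp ω))
        exact Nat.card_mono (Set.toFinite _) (by rintro _ ⟨x, rfl⟩; exact ⟨(x : P), rfl⟩)
      replace hle : p ^ l ≤ p := le_of_eq_of_le hl.symm hle
      have hl1 : l ≤ 1 := by
        by_contra h0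
        have : p ^ 2 ≤ p ^ l := Nat.pow_le_pow_right hp.pos (by omega)
        have h2 : p * 2 ≤ p * p := Nat.mul_le_mul_left _ hp.two_le
        rw [pow_two] at this
        have := hp.two_le
        omega
      have hidx : (MulAction.stabilizer (Subgroup.zpowers g) ω).index ∣ p := by
        rw [MulAction.index_stabilizer, ← Nat.card_coe_set_eq]
        exact hl.dvd.trans ((Nat.pow_dvd_pow p hl1).trans (pow_one p).dvd)
      obtain ⟨c, hc⟩ := hidx
      haveI : (MulAction.stabilizer (Subgroup.zpowers g) ω).Normal := inferInstance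
      have hm := Subgroup.pow_index_mem (MulAction.stabilizer (Subgroup.zpowers g) ω)
        (⟨g, Subgroup.mem_zpowers g⟩ : Subgroup.zpowers g)
      have := Subgroup.pow_mem _ hm c
      rw [← pow_mul, ← hc] at this
      exact this
    have h := MulAction.mem_stabilizer_iff.mp hord
    show ((g ^ p : P) : G) • ω = ((1 : P) : G) • ω
    rw [Subgroup.coe_one, one_smul]
    exact h

end Cfsg.Agent.S5727
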