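import Cfsg.Statements.S5728
-- import your own Cfsg.Agent.* helpers here

set_option autoImplicit false
open Cfsg

namespace Cfsg.Agent.S5728

/-- An elusive transitive action. Let p = 2^s − 1 be a prime and let F be the field with p² elements. Inside the group of affine maps x ↦ a·x + b of F (a ≠ 0), consider the subgroup of maps with both coefficients in the prime field. Then every element of prime order of the affine group is conjugate, within the affine group, to an element of that subgroup; equivalently, in the transitive action of the affine group on the cosets of that subgroup (of degree p(p + 1)) every element of prime order fixes a point. -/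
theorem result (p s : ℕ) [Fact p.Prime] (hs : p = 2 ^ s - 1)
    (g : Equiv.Perm (GaloisField p 2)) (hg : g ∈ Cfsg.affineGroup (GaloisField p 2)) (hord : (orderOf g).Prime) :
    ∃ x ∈ Cfsg.affineGroup (GaloisField p 2), ∃ a b : ZMod p, a ≠ 0 ∧
      ∀ y : GaloisField p 2, (x * g * x⁻¹) y = algebraMap (ZMod p) (GaloisField p 2) a * y + algebraMap (ZMod p) (GaloisField p 2) b := by
  obtain ⟨a, b, hab⟩ := hg
  have hp : p.Prime := Fact.out
  by_cases ha : (a : GaloisField p 2) = 1
  · have hb : b ≠ 0 := fun hb => by
      have : g = 1 := Equiv.ext fun y => by rw [hab, ha, hb]; simp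
      rw [this, orderOf_one] at hord
      exact Nat.not_prime_one hord
    refine ⟨Equiv.mulLeft₀ b⁻¹ (inv_ne_zero hb), ⟨Units.mk0 b⁻¹ (inv_ne_zero hb), 0, fun x => by simp⟩,
      1, 1, one_ne_zero, fun y => ?_⟩
    obtain ⟨z, rfl⟩ := (Equiv.mulLeft₀ b⁻¹ (inv_ne_zero hb)).surjective y
    simp [hab, ha, mul_add, inv_mul_cancel₀ hb, mul_inv_cancel_left₀ hb]
  · have hpow : ∀ k : ℕ, ∃ c, ∀ y, (g ^ k) y = (a : GaloisField p 2) ^ k * y + c := by
      intro k
      induction k with
      | zero => exact ⟨0, fun y => by simp⟩
      | succ k ih =>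
        obtain ⟨c, hc⟩ := ih
        exact ⟨(a : GaloisField p 2) ^ k * b + c, fun y => by
          rw [pow_succ g, Equiv.Perm.mul_apply, hab, hc, pow_succ]; ring⟩
    obtain ⟨c, hc⟩ := hpow (orderOf g)
    rw [pow_orderOf_eq_one] at hc
    have har : (a : GaloisField p 2) ^ orderOf g = 1 := by
      have h0 := hc 0
      have h1 := hc 1
      simp only [Equiv.Perm.coe_one, id_eq, mul_zero, zero_add, mul_one] at h0 h1
      rw [← h0, add_zero] at h1
      exact h1.symm
    have hap : (a : GaloisField p 2) ^ p = (a : GaloisField p 2) := by
      haveI : Fact (orderOf g).Prime := ⟨hord⟩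
      have ho : orderOf (a : GaloisField p 2) = orderOf g := orderOf_eq_prime har ha
      by_cases h2 : orderOf g = 2
      · rw [h2] at har
        rcases sq_eq_one_iff.1 har with h | h
        · exact absurd h ha
        · have hpodd : Odd p := hp.odd_of_ne_two fun e => by
            subst e
            have h3 : 2 ^ s = 3 := by omega
            have h2' := dvd_pow_self 2 (show s ≠ 0 by rintro rfl; norm_num at h3)
            rw [h3] at h2'
            norm_num at h2'
          rw [h, hpodd.neg_one_pow]
      · have hd : orderOf g ∣ Nat.card (GaloisField p 2) - 1 := by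
          rw [← ho]
          rw [orderOf_units, ← Nat.card_units]
          exact orderOf_dvd_natCard a
        rw [GaloisField.card p 2 two_ne_zero, show p ^ 2 - 1 = (p + 1) * (p - 1) by
          rw [← Nat.sq_sub_sq, one_pow]] at hd
        rcases (Nat.Prime.dvd_mul hord).1 hd with h | h
        · have e : p + 1 = 2 ^ s := by have := Nat.one_le_two_pow (n := s); omega
          rw [e] at h
          exact absurd ((Nat.prime_dvd_prime_iff_eq hord Nat.prime_two).1 (hord.dvd_of_dvd_pow h)) h2
        · obtain ⟨d, hd⟩ := h
          calc (a : GaloisField p 2) ^ p = (a : GaloisField p 2) ^ (orderOf g * d + 1) :=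
                congrArg _ (by have := hp.one_le; omega)
            _ = (a : GaloisField p 2) := by rw [pow_succ, pow_mul, har, one_pow, one_mul]
    obtain ⟨α, hα⟩ : ∃ α : ZMod p, algebraMap (ZMod p) (GaloisField p 2) α = a := by
      have h := (Subfield.mem_bot_iff_pow_eq_self (p := p) (F := GaloisField p 2)).2 hap
      rw [← ZMod.fieldRange_castHom_eq_bot p] at h
      obtain ⟨α, hα⟩ := h
      exact ⟨α, by rw [← hα]; exact RingHom.congr_fun (Subsingleton.elim _ _) α⟩
    set z := b / (1 - (a : GaloisField p 2)) with hz
    have hzb : (a : GaloisField p 2) * z + b = z := by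
      have : 1 - (a : GaloisField p 2) ≠ 0 := sub_ne_zero.2 (Ne.symm ha)
      rw [hz]; field_simp; ring
    refine ⟨Equiv.addRight (-z), ⟨1, -z, fun x => by simp⟩, α, 0, fun e => a.ne_zero (by
      rw [← hα, e, map_zero]), fun y => ?_⟩
    obtain ⟨w, rfl⟩ := (Equiv.addRight (-z)).surjective y
    simp [hab, hα]
    linear_combination hzb

end Cfsg.Agent.S5728
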