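import Cfsg.Statements.S5729
import Mathlib


set_option autoImplicit false
open Cfsg

namespace Cfsg.Agent.S5729
open MulAction


/-- Let a finite group G act faithfully and transitively on a set with n ≥ 3 points. Then either G is a Frobenius permutation group (Frobenius as a permutation group: transitive, some non-identity element fixes a point, and no non-identity element fixes two points) of order n(n − 1) and exactly |G|/n of its elements are derangements (fix no point), or the number of derangements is greater than |G|/n. -/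
theorem result {G Ω : Type*} [Group G] [Finite G] [MulAction G Ω] [FaithfulSMul G Ω] [Fintype Ω] (htr : MulAction.IsPretransitive G Ω) (hn : 3 ≤ Fintype.card Ω) :
    ((MulAction.IsPretransitive G Ω ∧ (∃ g : G, g ≠ 1 ∧ ∃ ω : Ω, g • ω = ω) ∧ ∀ g : G, g ≠ 1 → Nat.card (MulAction.fixedBy Ω g) ≤ 1) ∧ Nat.card G = Fintype.card Ω * (Fintype.card Ω - 1) ∧ Fintype.card Ω * Nat.card {g : G // ∀ ω : Ω, g • ω ≠ ω} = Nat.card G) ∨
    Nat.card G < Fintype.card Ω * Nat.card {g : G // ∀ ω : Ω, g • ω ≠ ω} := by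
  classical
  have := Fintype.ofFinite G
  set n := Fintype.card Ω with hnn
  let f : G → ℕ := fun g => Fintype.card (fixedBy Ω g)
  have hf : ∀ g, f g ≤ n := fun g => Fintype.card_subtype_le _
  have hne : Nonempty Ω := Fintype.card_pos_iff.mp (by omega)
  obtain ⟨ω₀⟩ := hne
  have h1 : ∑ g : G, f g = Fintype.card G := by
    have := sum_card_fixedBy_eq_card_orbits_mul_card_group G Ω
    have hu : Fintype.card (orbitRel.Quotient G Ω) = 1 := by
      rw [Fintype.card_eq_one_iff]
      exact ⟨Quotient.mk'' ω₀, fun q => Quotient.inductionOn' q fun x =>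
        Quotient.sound' (exists_smul_eq G ω₀ x)⟩
    simpa [hu, f] using this
  obtain ⟨ω₁, hω₁⟩ : ∃ ω₁, ω₁ ≠ ω₀ := Fintype.exists_ne_of_one_lt_card (by omega) ω₀
  set r := Fintype.card (orbitRel.Quotient G (Ω × Ω)) with hr
  have h2 : ∑ g : G, f g * f g = r * Fintype.card G := by
    rw [hr, ← sum_card_fixedBy_eq_card_orbits_mul_card_group G (Ω × Ω)]
    refine Finset.sum_congr rfl fun g _ => ?_
    rw [← Fintype.card_prod]
    refine Fintype.card_congr
      { toFun := fun x => ⟨(x.1.1, x.2.1), Prod.ext x.1.2 x.2.2⟩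
        invFun := fun x => (⟨x.1.1, congrArg Prod.fst x.2⟩, ⟨x.1.2, congrArg Prod.snd x.2⟩)
        left_inv := fun x => rfl
        right_inv := fun x => rfl }
  have hq : (Quotient.mk'' (ω₀, ω₀) : orbitRel.Quotient G (Ω × Ω)) ≠ Quotient.mk'' (ω₀, ω₁) := by
    intro h
    obtain ⟨g, hg⟩ := Quotient.exact' h
    have ha : g • ω₀ = ω₀ := congrArg Prod.fst hg
    have hb : g • ω₁ = ω₀ := congrArg Prod.snd hg
    exact hω₁ (smul_left_cancel g (hb.trans ha.symm))
  have hr2 : 2 ≤ r := Fintype.one_lt_card_iff.mpr ⟨_, _, hq⟩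
  have key : ∑ g : G, ((f g : ℤ) - 1) * ((f g : ℤ) - n) = ((r : ℤ) - 1) * Fintype.card G := by
    have h1' : ∑ g : G, (f g : ℤ) = Fintype.card G := by exact_mod_cast h1
    have h2' : ∑ g : G, (f g : ℤ) * f g = r * Fintype.card G := by exact_mod_cast h2
    have : ∀ g : G, ((f g : ℤ) - 1) * ((f g : ℤ) - n) = f g * f g - (n + 1) * f g + n :=
      fun g => by ring
    simp only [this, Finset.sum_add_distrib, Finset.sum_sub_distrib, ← Finset.mul_sum, h1', h2',
      Finset.sum_const, Finset.card_univ, nsmul_eq_mul]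
    ring
  set D := Finset.univ.filter (fun g : G => f g = 0) with hD
  have hDiff : ∀ g : G, f g = 0 ↔ ∀ ω : Ω, g • ω ≠ ω := fun g => by
    simp [f, Fintype.card_eq_zero_iff, isEmpty_subtype]
  have hDcard : Nat.card {g : G // ∀ ω : Ω, g • ω ≠ ω} = D.card := by
    rw [Nat.card_eq_fintype_card, Fintype.card_subtype]
    congr 1
    ext g; simp [hD, hDiff g]
  have hsplit := Finset.sum_filter_add_sum_filter_not Finset.univ (fun g : G => f g = 0)
    (fun g : G => ((f g : ℤ) - 1) * ((f g : ℤ) - n))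
  have hs0 : ∑ g ∈ D, ((f g : ℤ) - 1) * ((f g : ℤ) - n) = D.card * n := by
    rw [Finset.sum_congr rfl (fun g hg => ?_), Finset.sum_const, nsmul_eq_mul]
    simp [(Finset.mem_filter.mp hg).2]
  set R := ∑ g ∈ Finset.univ.filter (fun g : G => ¬ f g = 0), ((f g : ℤ) - 1) * ((f g : ℤ) - n)
  have hterm : ∀ g ∈ Finset.univ.filter (fun g : G => ¬ f g = 0),
      ((f g : ℤ) - 1) * ((f g : ℤ) - n) ≤ 0 := by
    intro g hg
    have h0 := (Finset.mem_filter.mp hg).2
    have := hf g
    exact mul_nonpos_of_nonneg_of_nonpos (by omega) (by omega)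
  have hR : R ≤ 0 := Finset.sum_nonpos hterm
  have htot : (D.card : ℤ) * n + R = ((r : ℤ) - 1) * Fintype.card G := by
    rw [← key, ← hsplit, hs0]
  have hGpos : (0 : ℤ) < Fintype.card G := by exact_mod_cast Fintype.card_pos
  have hlow : (Fintype.card G : ℤ) ≤ D.card * n := by nlinarith
  rw [Nat.card_eq_fintype_card, hDcard]
  rcases eq_or_lt_of_le hlow with heq | hlt
  swap
  · right
    have : Fintype.card G < D.card * n := by exact_mod_cast hlt
    rwa [Nat.mul_comm]
  left
  have hr' : r = 2 := by nlinarith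
  have hR0 : R = 0 := by rw [hr', ← heq] at htot; push_cast at htot; linarith
  have hfix : ∀ g : G, g ≠ 1 → f g ≤ 1 := by
    intro g hg
    by_contra hlt1
    have h0 := (Finset.sum_eq_zero_iff_of_nonpos hterm).mp hR0 g
      (Finset.mem_filter.mpr ⟨Finset.mem_univ _, by omega⟩)
    rcases mul_eq_zero.mp h0 with h | h
    · omega
    · apply hg
      refine FaithfulSMul.eq_of_smul_eq_smul (M := G) (α := Ω) fun x => ?_
      have hall : (Finset.univ.filter fun x : Ω => g • x = x) = Finset.univ := by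
        refine Finset.eq_univ_of_card _ ?_
        rw [← Fintype.card_subtype]
        have hfg : f g = n := by omega
        exact hfg
      rw [one_smul]
      have hx := Finset.mem_univ x
      rw [← hall, Finset.mem_filter] at hx
      exact hx.2
  have h2t : ∀ a b c d : Ω, a ≠ b → c ≠ d → ∃ g : G, g • a = c ∧ g • b = d := by
    intro a b c d hab hcd
    have e1 : ∀ a b : Ω, a ≠ b →
        (Quotient.mk'' (a, b) : orbitRel.Quotient G (Ω × Ω)) ≠ Quotient.mk'' (ω₀, ω₀) := by
      intro a b hab h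
      obtain ⟨g, hg⟩ := Quotient.exact' h
      have ha : g • ω₀ = a := congrArg Prod.fst hg
      have hb : g • ω₀ = b := congrArg Prod.snd hg
      exact hab (ha.symm.trans hb)
    have hc : (Finset.univ.erase (Quotient.mk'' (ω₀, ω₀) : orbitRel.Quotient G (Ω × Ω))).card = 1 := by
      rw [Finset.card_erase_of_mem (Finset.mem_univ _), Finset.card_univ, ← hr, hr']
    obtain ⟨q, hq'⟩ := Finset.card_eq_one.mp hc
    have m : ∀ a b : Ω, a ≠ b → (Quotient.mk'' (a, b) : orbitRel.Quotient G (Ω × Ω)) = q :=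
      fun a b h => Finset.mem_singleton.mp
        (hq' ▸ Finset.mem_erase.mpr ⟨e1 a b h, Finset.mem_univ _⟩)
    obtain ⟨g, hg⟩ := Quotient.exact' ((m c d hcd).trans (m a b hab).symm)
    exact ⟨g, congrArg Prod.fst hg, congrArg Prod.snd hg⟩
  have hbij : Function.Bijective (fun g : G => (⟨(g • ω₀, g • ω₁),
      fun h => hω₁ (smul_left_cancel g h).symm⟩ : {p : Ω × Ω // p.1 ≠ p.2})) := by
    constructor
    · intro g g' h
      have ha : g • ω₀ = g' • ω₀ := congrArg (fun p => p.1.1) h
      have hb : g • ω₁ = g' • ω₁ := congrArg (fun p => p.1.2) h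
      by_contra hne
      have hle := hfix (g'⁻¹ * g) (fun h => hne (inv_mul_eq_one.mp h).symm)
      have htwo : 1 < f (g'⁻¹ * g) := Fintype.one_lt_card_iff.mpr
        ⟨⟨ω₀, by simp [mem_fixedBy, mul_smul, ha]⟩, ⟨ω₁, by simp [mem_fixedBy, mul_smul, hb]⟩,
          fun h => hω₁ (congrArg Subtype.val h).symm⟩
      omega
    · rintro ⟨⟨c, d⟩, hcd⟩
      obtain ⟨g, h1, h2⟩ := h2t ω₀ ω₁ c d hω₁.symm hcd
      exact ⟨g, Subtype.ext (Prod.ext h1 h2)⟩
  have hG : Fintype.card G = n * (n - 1) := by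
    rw [Fintype.card_congr (Equiv.ofBijective _ hbij), Fintype.card_subtype,
      Nat.mul_sub, Nat.mul_one]
    have : (Finset.univ.filter fun p : Ω × Ω => p.1 ≠ p.2) = Finset.univ.offDiag := by
      ext p; simp
    rw [this, Finset.offDiag_card, Finset.card_univ]
  refine ⟨⟨htr, ?_, fun g hg => ?_⟩, hG, ?_⟩
  · obtain ⟨ω₂, hω₂⟩ : ∃ x : Ω, x ∉ ({ω₀, ω₁} : Finset Ω) :=
      (Finset.exists_mem_notMem_of_card_lt_card (t := (Finset.univ : Finset Ω)) (by
        rw [Finset.card_univ]; exact lt_of_le_of_lt Finset.card_le_two (by omega))).imp fun _ h => h.2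
    simp only [Finset.mem_insert, Finset.mem_singleton, not_or] at hω₂
    obtain ⟨g, hga, hgb⟩ := h2t ω₀ ω₁ ω₀ ω₂ hω₁.symm (Ne.symm hω₂.1)
    exact ⟨g, fun h => hω₂.2 (by rw [← hgb, h, one_smul]), ω₀, hga⟩
  · rw [Nat.card_eq_fintype_card]; exact hfix g hg
  · rw [Nat.mul_comm]; exact_mod_cast heq.symm

end Cfsg.Agent.S5729
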