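import Cfsg.Statements.S5730
import Cfsg.Agent.Lib.Char.DerangeTwoTrans

set_option autoImplicit false
open Cfsg

namespace Cfsg.Agent.S5730

/-- Let a finite group G act faithfully and transitively on a set with n ≥ 7 points. Then either G is a Frobenius permutation group (Frobenius as a permutation group: transitive, some non-identity element fixes a point, and no non-identity element fixes two points) of order n(n − 1)/a with a ∈ {1, 2}, in which case exactly a|G|/n of its elements are derangements, or the number of derangements is at least 2|G|/n. (Equality does occur: PSL₃(2) acting on the 7 points of the Fano plane has exactly 2|G|/7 derangements.) -/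
theorem result {G Ω : Type*} [Group G] [Finite G] [MulAction G Ω] [FaithfulSMul G Ω] [Fintype Ω] (htr : MulAction.IsPretransitive G Ω) (hn : 7 ≤ Fintype.card Ω) :
    (∃ a : ℕ, (a = 1 ∨ a = 2) ∧ (MulAction.IsPretransitive G Ω ∧ (∃ g : G, g ≠ 1 ∧ ∃ ω : Ω, g • ω = ω) ∧ ∀ g : G, g ≠ 1 → Nat.card (MulAction.fixedBy Ω g) ≤ 1) ∧ a * Nat.card G = Fintype.card Ω * (Fintype.card Ω - 1) ∧ Fintype.card Ω * Nat.card {g : G // ∀ ω : Ω, g • ω ≠ ω} = a * Nat.card G) ∨
    2 * Nat.card G ≤ Fintype.card Ω * Nat.card {g : G // ∀ ω : Ω, g • ω ≠ ω} := by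
  classical
  let _ : Fintype G := Fintype.ofFinite G
  have e1 : Nat.card {g : G // ∀ ω : Ω, g • ω ≠ ω} =
      (Finset.univ.filter fun g : G => ∀ x : Ω, g • x ≠ x).card := by
    rw [Nat.card_eq_fintype_card, Fintype.card_subtype]
  obtain ⟨a, b, hab⟩ : ∃ a b : Ω, a ≠ b := Fintype.exists_pair_of_one_lt_card (by omega)
  rw [e1, Nat.card_eq_fintype_card]
  by_cases h2 : Derange.Trans2 G Ω
  · have hid := Derange.card_mul_derangements_trans2 (G := G) htr h2 hab
    have hcard := Derange.card_stab_pair a b h2 hab
    change (Fintype.card Ω : ℚ) * _ = (Fintype.card G : ℚ) +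
      _ * ∑ g ∈ Derange.ps G a b, Derange.wt Ω g at hid
    by_cases hh : (Derange.ps G a b).card = 1
    · left
      have h1 : ∀ g ∈ Derange.ps G a b, g = 1 := fun g hg =>
        Finset.card_le_one.1 hh.le g hg 1 (Derange.one_mem_ps a b)
      have hps : Derange.ps G a b = {1} :=
        Finset.eq_singleton_iff_unique_mem.2 ⟨Derange.one_mem_ps a b, h1⟩
      have h0 : Derange.wt Ω (1 : G) = 0 := by simp [Derange.wt, Derange.fx_one]
      rw [hps, Finset.sum_singleton, h0, mul_zero, add_zero] at hid
      refine ⟨1, Or.inl rfl, ⟨htr, ?_, ?_⟩, ?_, ?_⟩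
      · obtain ⟨c, hca, hcb⟩ : ∃ c : Ω, c ≠ a ∧ c ≠ b := by
          by_contra hne
          push Not at hne
          have hs : (Finset.univ : Finset Ω) ⊆ {a, b} := fun c _ => by
            by_cases hc : c = a
            · simp [hc]
            · simp [hne c hc]
          have := (Finset.card_le_card hs).trans Finset.card_le_two
          rw [Finset.card_univ] at this
          omega
        obtain ⟨g, hga, hgb⟩ := h2 a b a c hab (Ne.symm hca)
        refine ⟨g, ?_, a, hga⟩
        rintro rfl
        exact hcb (by rw [← hgb, one_smul])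
      · intro g hg
        by_contra hlt
        rw [Nat.card_eq_fintype_card, not_le, Fintype.one_lt_card_iff] at hlt
        obtain ⟨⟨x, hx⟩, ⟨y, hy⟩, hxy⟩ := hlt
        have hxy' : x ≠ y := fun h => hxy (Subtype.ext h)
        have hc := Derange.card_ps (G := G) h2 hab hxy'
        rw [hh] at hc
        exact hg (Finset.card_le_one.1 hc.le g (Derange.mem_ps.2 ⟨hx, hy⟩) 1
          (Derange.one_mem_ps x y))
      · rw [hh, mul_one, Finset.offDiag_card, Finset.card_univ] at hcard
        rw [one_mul, ← hcard, Nat.mul_sub, mul_one]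
      · rw [one_mul]
        exact_mod_cast hid
    · right
      have hge : 2 ≤ (Derange.ps G a b).card := by
        have := Finset.card_pos.2 ⟨1, Derange.one_mem_ps (G := G) a b⟩
        omega
      have hex := Derange.excess_ge_one a b h2 hab hn hge
      rw [Derange.sum_wt a b] at hid
      have hm : (Finset.univ : Finset Ω).offDiag.card * ((Derange.ps G a b).card : ℚ) =
          (Fintype.card G : ℚ) := by exact_mod_cast hcard
      have hle := mul_le_mul_of_nonneg_left hex
        (Nat.cast_nonneg (α := ℚ) (Finset.univ : Finset Ω).offDiag.card)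
      have hgoal : ((2 * Fintype.card G : ℕ) : ℚ) ≤ ((Fintype.card Ω *
          (Finset.univ.filter fun g : G => ∀ x : Ω, g • x ≠ x).card : ℕ) : ℚ) := by
        push_cast
        linarith
      exact_mod_cast hgoal
  · right
    exact Derange.two_mul_le_of_not_trans2 htr a h2

end Cfsg.Agent.S5730
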