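import Cfsg.Statements.S5736
import Cfsg.Agent.Lib.Classical.PSLBinary

set_option autoImplicit false
open Cfsg Cfsg.Agent Cfsg.Agent.Dickson

namespace Cfsg.Agent.S5736

/-- Let F be a finite field with q ≥ 4 elements, q ≠ 5, let G = PSL₂(F) and let H be a proper subgroup of G. Then the action of G on the cosets of H is binary if and only if H is trivial, or q is a power of 2 and H is a Sylow 2-subgroup, or q = 2^a with a odd and H has order 3. Here an action is binary (relational complexity 2) when, for every n ≥ 2 and all n-tuples I, J of points, if for every pair of positions some group element carries the corresponding pair of entries of I to those of J, then a single group element carries I to J. -/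
theorem result {F : Type*} [Field F] [Fintype F] (h4 : 4 ≤ Fintype.card F) (h5 : Fintype.card F ≠ 5)
    (H : Subgroup (Matrix.ProjectiveSpecialLinearGroup (Fin 2) F)) (hH : H ≠ ⊤) :
    (∀ (n : ℕ) (I J : Fin n → Matrix.ProjectiveSpecialLinearGroup (Fin 2) F ⧸ H), 2 ≤ n →
        (∀ i j : Fin n, i ≠ j → ∃ g : Matrix.ProjectiveSpecialLinearGroup (Fin 2) F, g • I i = J i ∧ g • I j = J j) → ∃ g : Matrix.ProjectiveSpecialLinearGroup (Fin 2) F, ∀ i, g • I i = J i) ↔
      (H = ⊥ ∨ ((∃ a : ℕ, Fintype.card F = 2 ^ a) ∧ ∃ P : Sylow 2 (Matrix.ProjectiveSpecialLinearGroup (Fin 2) F), H = P) ∨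
        ((∃ a : ℕ, Odd a ∧ Fintype.card F = 2 ^ a) ∧ Nat.card H = 3)) := by
  refine (PSLBin.isBin_iff h4 h5 hH).trans (or_congr Iff.rfl (or_congr (and_congr_right fun hq => ?_) Iff.rfl))
  obtain ⟨a, ha⟩ := hq
  haveI : Fact (Nat.Prime 2) := ⟨Nat.prime_two⟩
  have heven : Even (Fintype.card F) := by
    rw [ha, Nat.even_pow]
    refine ⟨even_two, fun e => ?_⟩
    rw [ha, e] at h4
    norm_num at h4
  have hdel : del F = 1 :=
    ((del_cases F).resolve_right fun h => Nat.not_even_iff_odd.2 h.2 heven).1
  have hG := card_psl (F := F)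
  rw [hdel, mul_one] at hG
  have hfac : (Nat.card (Matrix.ProjectiveSpecialLinearGroup (Fin 2) F)).factorization 2 = a := by
    rw [hG]
    have h1 : (Fintype.card F - 1) * (Fintype.card F + 1) ≠ 0 := by
      apply Nat.mul_ne_zero <;> omega
    have hz : ((Fintype.card F - 1) * (Fintype.card F + 1)).factorization 2 = 0 := by
      refine Nat.factorization_eq_zero_of_not_dvd fun hd => ?_
      rcases (Nat.Prime.dvd_mul Nat.prime_two).1 hd with h | h <;>
        · obtain ⟨k, hk⟩ := heven
          omega
    rw [Nat.factorization_mul (by omega) h1, Finsupp.add_apply, hz, ha, Nat.factorization_pow,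
      Finsupp.smul_apply, Nat.Prime.factorization_self Nat.prime_two]
    simp
  constructor
  · intro hc
    exact ⟨Sylow.ofCard H (by rw [hc, ha, hfac]), rfl⟩
  · rintro ⟨P, rfl⟩
    exact (Sylow.card_eq_multiplicity P).trans (by rw [hfac, ha])

end Cfsg.Agent.S5736
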