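import Cfsg.Statements.S5737
import Cfsg.Agent.Lib.Classical.SzBinary
import Cfsg.Agent.Lib.Lie.Sz.LieEquiv

set_option autoImplicit false
open Cfsg Cfsg.Agent

namespace Cfsg.Agent.S5737

/-- Let G = Sz(q) be a Suzuki group, q = 2^(2a+1) with a ≥ 1 (realised inside Sp₄ over the field with q elements), and let H be a proper subgroup of G. Then the action of G on the cosets of H is binary if and only if H is trivial or H is the centre of a Sylow 2-subgroup of G. Here an action is binary (relational complexity 2) when, for every n ≥ 2 and all n-tuples I, J of points, if for every pair of positions some group element carries the corresponding pair of entries of I to those of J, then a single group element carries I to J. -/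
theorem result {F : Type*} [Field F] [Fintype F] (a : ℕ) (ha : 1 ≤ a) (hF : Fintype.card F = 2 ^ (2 * a + 1))
    (H : Subgroup (Cfsg.Lie.Sz F (2 ^ (a + 1)))) (hH : H ≠ ⊤) :
    (∀ (n : ℕ) (I J : Fin n → (Cfsg.Lie.Sz F (2 ^ (a + 1))) ⧸ H), 2 ≤ n →
        (∀ i j : Fin n, i ≠ j → ∃ g : (Cfsg.Lie.Sz F (2 ^ (a + 1))), g • I i = J i ∧ g • I j = J j) → ∃ g : (Cfsg.Lie.Sz F (2 ^ (a + 1))), ∀ i, g • I i = J i) ↔
      (H = ⊥ ∨ ∃ P : Sylow 2 (Cfsg.Lie.Sz F (2 ^ (a + 1))), H = (Subgroup.center (P : Subgroup (Cfsg.Lie.Sz F (2 ^ (a + 1))))).map (P : Subgroup (Cfsg.Lie.Sz F (2 ^ (a + 1)))).subtype) := by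
  have hS : Suz.SzField F a := ⟨ha, hF⟩
  set e := Suz.szEquiv hS
  set H₀ := H.map e.symm.toMonoidHom with hH₀
  have hbot : H₀ = ⊥ ↔ H = ⊥ := Subgroup.map_eq_bot_iff_of_injective _ e.symm.injective
  have hH₀top : H₀ ≠ ⊤ := fun h => hH (by
    have := congrArg (Subgroup.map e.toMonoidHom) h
    rwa [hH₀, Subgroup.map_map, show e.toMonoidHom.comp e.symm.toMonoidHom = MonoidHom.id _ from
      MonoidHom.ext e.apply_symm_apply, Subgroup.map_id,
      Subgroup.map_top_of_surjective e.toMonoidHom e.surjective] at this)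
  refine (BinAct.isBin_map_iff e.symm H).symm.trans ((SzBin.isBin_iff hS hH₀top).trans ?_)
  rw [hbot]
  refine or_congr Iff.rfl ⟨?_, ?_⟩
  · rintro ⟨g, hg⟩
    haveI : Fact (Nat.Prime 2) := ⟨Nat.prime_two⟩
    set f := (MulAut.conj g).trans e
    have hf : Function.Surjective ⇑f.toMonoidHom := f.surjective
    refine ⟨(Suz.sylowU hS).mapSurjective hf, ?_⟩
    rw [Sylow.coe_mapSurjective, Suz.coe_sylowU, ← SzBin.center_map_map]
    have h := congrArg (Subgroup.map e.toMonoidHom) hg
    rw [hH₀, Subgroup.map_map, show e.toMonoidHom.comp e.symm.toMonoidHom = MonoidHom.id _ from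
      MonoidHom.ext e.apply_symm_apply, Subgroup.map_id, Subgroup.map_map] at h
    rw [h]
    rfl
  · rintro ⟨P, hP⟩
    haveI : Fact (Nat.Prime 2) := ⟨Nat.prime_two⟩
    have hf : Function.Surjective ⇑e.symm.toMonoidHom := e.symm.surjective
    obtain ⟨g, hg⟩ := Suz.exists_conj_unip hS (P.mapSurjective hf)
    refine ⟨g, ?_⟩
    rw [Sylow.coe_mapSurjective] at hg
    rw [hH₀, hP, SzBin.center_map_map, hg, ← SzBin.center_map_map]
    rfl

end Cfsg.Agent.S5737
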