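import Cfsg.Statements.S5735
import Cfsg.Agent.Lib.Classical.PSUBinaryIff
import Cfsg.Agent.Lib.Invol.Bender.Cor.Structure
import Cfsg.Agent.Lib.Invol.Bender.Main
import Cfsg.Agent.Lib.Local.CoreConsumers.SimpleBorel
import Cfsg.Agent.S5736
import Cfsg.Agent.S5737

set_option autoImplicit false
open Cfsg

namespace Cfsg.Agent.S5735

open Cfsg.Agent.BinAct

theorem map_ne_top {G G' : Type*} [Group G] [Group G'] (φ : G ≃* G') {H : Subgroup G} (hH : H ≠ ⊤) :
    H.map φ.toMonoidHom ≠ ⊤ := fun h => hH (Subgroup.map_injective (f := φ.toMonoidHom) φ.injective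
  (h.trans (Subgroup.map_top_of_surjective φ.toMonoidHom φ.surjective).symm))

theorem surj {G G' : Type*} [Group G] [Group G'] (φ : G ≃* G') : Function.Surjective ⇑φ.toMonoidHom :=
  φ.surjective

theorem eq_of_map {G G' : Type*} [Group G] [Group G'] (φ : G ≃* G') {H : Subgroup G} {K : Subgroup G'}
    (h : H.map φ.toMonoidHom = K) : H = K.map φ.symm.toMonoidHom := by
  rw [← h, Subgroup.map_map, show φ.symm.toMonoidHom.comp φ.toMonoidHom = MonoidHom.id G from
    MonoidHom.ext φ.symm_apply_apply, Subgroup.map_id]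

/-- `SL₂` over a field of characteristic two is `PSL₂`. -/
noncomputable def slEquiv {F : Type} [Field F] [Fintype F] (h2 : (2 : F) = 0) :
    Matrix.ProjectiveSpecialLinearGroup (Fin 2) F ≃* Matrix.SpecialLinearGroup (Fin 2) F :=
  (QuotientGroup.quotientMulEquivOfEq (Fus.CTSimple.center_eq_bot_of_two h2)).trans QuotientGroup.quotientBot


/-- Let G be a finite simple group with exactly one conjugacy class of involutions, and let H be a proper subgroup of even order. Then the action of G on the cosets of H is binary if and only if one of the following holds: G ≅ SL₂(2^a) with a ≥ 2 and H is a Sylow 2-subgroup; G is a Suzuki group Sz(2^(2a+1)) with a ≥ 1 and H is the centre of a Sylow 2-subgroup; G ≅ PSU₃(2^a) with a ≥ 2 and H is the centre of a Sylow 2-subgroup. Here an action is binary (relational complexity 2) when, for every n ≥ 2 and all n-tuples I, J of points, if for every pair of positions some group element carries the corresponding pair of entries of I to those of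 J, then a single group element carries I to J. -/
theorem result {G : Type*} [Group G] [Finite G] [IsSimpleGroup G] (hinv : ∃ s : G, orderOf s = 2)
    (hone : ∀ s t : G, orderOf s = 2 → orderOf t = 2 → IsConj s t)
    (H : Subgroup G) (hH : H ≠ ⊤) (heven : Even (Nat.card H)) :
    (∀ (n : ℕ) (I J : Fin n → G ⧸ H), 2 ≤ n →
        (∀ i j : Fin n, i ≠ j → ∃ g : G, g • I i = J i ∧ g • I j = J j) → ∃ g : G, ∀ i, g • I i = J i) ↔
      (((∃ (F : Type) (_ : Field F) (_ : Fintype F) (a : ℕ), 2 ≤ a ∧ Fintype.card F = 2 ^ a ∧ Nonempty (G ≃* Matrix.SpecialLinearGroup (Fin 2) F)) ∧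
          ∃ P : Sylow 2 G, H = P) ∨
        (Cfsg.Lie.IsoSuzuki G ∧ ∃ P : Sylow 2 G, H = (Subgroup.center (P : Subgroup G)).map (P : Subgroup G).subtype) ∨
        ((∃ (F : Type) (_ : Field F) (_ : Fintype F) (a : ℕ), 2 ≤ a ∧ Fintype.card F = (2 ^ a) ^ 2 ∧ Nonempty (G ≃* Cfsg.PSU 3 F (2 ^ a))) ∧
          ∃ P : Sylow 2 G, H = (Subgroup.center (P : Subgroup G)).map (P : Subgroup G).subtype)) := by
  haveI : Fact (Nat.Prime 2) := ⟨Nat.prime_two⟩
  show IsBin H ↔ _
  constructor
  · intro hb
    obtain ⟨M, hM⟩ := BinInvol.exists_stronglyEmbedded hone hb hH heven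
    obtain ⟨s, hs⟩ := hinv
    have hna : ¬ IsMulCommutative G := fun hc => by
      haveI := hc
      obtain ⟨hs2, hs1⟩ := BinInvol.invol_iff.1 hs
      have hn : (Subgroup.zpowers s).Normal := ⟨fun x hx g => by
        rwa [mul_comm' g x, mul_inv_cancel_right]⟩
      have htop := hn.eq_bot_or_eq_top.resolve_left fun h => hs1 (Subgroup.zpowers_eq_bot.1 h)
      obtain ⟨t, ht⟩ := exists_prime_orderOf_dvd_card' (G := H) 2 (even_iff_two_dvd.1 heven)
      have htG : orderOf (t : G) = 2 := by rw [Subgroup.orderOf_coe]; exact ht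
      have hst : s = t := by
        obtain ⟨c, hc'⟩ := isConj_iff.1 (hone s t hs htG)
        rwa [mul_comm' c s, mul_inv_cancel_right] at hc'
      exact hH (top_unique (htop ▸ Subgroup.zpowers_le.2 (hst ▸ t.2)))
    have h2G : 2 ∣ Nat.card G := hs ▸ orderOf_dvd_natCard s
    have hX : Cfsg.IsStronglyPEmbedded 2 M := Invol.isStronglyPEmbedded_iff.2
      ⟨even_iff_two_dvd.1 hM.2.1, hM.1, fun g hg h => Nat.not_even_iff_odd.2 (hM.2.2 g hg) (even_iff_two_dvd.2 h)⟩
    rcases (CoreConsumers.simple_borel hna h2G (Invol.Bender.Cor.s2798_of Invol.Bender.below M hX)).1 with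
      ⟨F, iF, iFF, k, hk, hq, ⟨φ⟩⟩ | ⟨F, iF, iFF, m, hm, hq, ⟨φ⟩⟩ | ⟨F, iF, iFF, k, hk, hq, ⟨φ⟩⟩
    · left
      haveI := Invol.Bender.Cor.charP_two_of_card hq
      have h4 := Invol.Bender.Cor.four_le_two_pow hk
      refine ⟨⟨F, iF, iFF, k, hk, hq, ⟨φ.trans (slEquiv CharTwo.two_eq_zero)⟩⟩, ?_⟩
      have h5 : Fintype.card F ≠ 5 := fun h => by
        have h2 : 2 ∣ 2 ^ k := dvd_pow_self 2 (by omega)
        rw [← hq, h] at h2
        omega
      have hc : Nat.card (H.map φ.toMonoidHom) = Nat.card H :=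
        (Nat.card_congr (H.equivMapOfInjective φ.toMonoidHom φ.injective).toEquiv).symm
      rcases (S5736.result (by omega) h5 _ (map_ne_top φ hH)).1 ((isBin_map_iff φ H).2 hb) with
        h | ⟨-, P, hP⟩ | ⟨-, h⟩
      · rw [h, Subgroup.card_bot] at hc
        rw [← hc] at heven
        exact absurd heven (by decide)
      · refine ⟨P.mapSurjective (surj φ.symm), ?_⟩
        rw [Sylow.coe_mapSurjective]
        exact eq_of_map φ hP
      · rw [← hc, h] at heven
        exact absurd heven (by decide)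
    · refine Or.inr (Or.inl ⟨⟨F, iF, iFF, m, hm, hq, ⟨φ⟩⟩, ?_⟩)
      rcases (S5737.result m hm hq _ (map_ne_top φ hH)).1 ((isBin_map_iff φ H).2 hb) with h | ⟨P, hP⟩
      · rw [Subgroup.map_eq_bot_iff_of_injective _ φ.injective] at h
        rw [h, Subgroup.card_bot] at heven
        exact absurd heven (by decide)
      · refine ⟨P.mapSurjective (surj φ.symm), ?_⟩
        rw [eq_of_map φ hP, PSUBin.center_map_equiv, Sylow.coe_mapSurjective]
    · refine Or.inr (Or.inr ⟨⟨F, iF, iFF, k, hk, hq, ⟨φ⟩⟩, ?_⟩)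
      haveI := Invol.Bender.Cor.charP_two_of_card (hq.trans (pow_mul 2 k 2).symm)
      have hone' : ∀ s t : Cfsg.PSU 3 F (2 ^ k), orderOf s = 2 → orderOf t = 2 → IsConj s t := fun s t hs ht => by
        have h1 := φ.toMonoidHom.map_isConj (hone (φ.symm s) (φ.symm t) (by rwa [MulEquiv.orderOf_eq])
          (by rwa [MulEquiv.orderOf_eq]))
        simpa using h1
      have hc : Nat.card (H.map φ.toMonoidHom) = Nat.card H :=
        (Nat.card_congr (H.equivMapOfInjective φ.toMonoidHom φ.injective).toEquiv).symm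
      obtain ⟨P, hP⟩ := PSUBin.eq_center hq (Invol.Bender.Cor.four_le_two_pow hk) hone' (map_ne_top φ hH)
        (hc ▸ heven) ((isBin_map_iff φ H).2 hb)
      refine ⟨P.mapSurjective (surj φ.symm), ?_⟩
      rw [eq_of_map φ hP, PSUBin.center_map_equiv, Sylow.coe_mapSurjective]
  · rintro (⟨⟨F, iF, iFF, k, hk, hq, ⟨φ₀⟩⟩, P, rfl⟩ | ⟨⟨F, iF, iFF, m, hm, hq, ⟨φ⟩⟩, P, rfl⟩ |
      ⟨⟨F, iF, iFF, k, hk, hq, ⟨φ⟩⟩, P, rfl⟩)
    · haveI := Invol.Bender.Cor.charP_two_of_card hq
      have h4 := Invol.Bender.Cor.four_le_two_pow hk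
      let φ := φ₀.trans (slEquiv (CharTwo.two_eq_zero (R := F))).symm
      have h5 : Fintype.card F ≠ 5 := fun h => by
        have h2 : 2 ∣ 2 ^ k := dvd_pow_self 2 (by omega)
        rw [← hq, h] at h2
        omega
      refine (isBin_map_iff φ _).1 ((S5736.result (by omega) h5 _ (map_ne_top φ hH)).2
        (Or.inr (Or.inl ⟨⟨k, hq⟩, P.mapSurjective (surj φ), ?_⟩)))
      rw [Sylow.coe_mapSurjective]
    · refine (isBin_map_iff φ _).1 ((S5737.result m hm hq _ (map_ne_top φ hH)).2
        (Or.inr ⟨P.mapSurjective (surj φ), ?_⟩))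
      rw [PSUBin.center_map_equiv, Sylow.coe_mapSurjective]
    · haveI := Invol.Bender.Cor.charP_two_of_card (hq.trans (pow_mul 2 k 2).symm)
      refine (isBin_map_iff φ _).1 ?_
      rw [PSUBin.center_map_equiv]
      have := PSUBin.isBin_center hq (P.mapSurjective (surj φ))
      rwa [Sylow.coe_mapSurjective] at this

end Cfsg.Agent.S5735
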