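import Cfsg.Statements.S5738
-- import your own Cfsg.Agent.* helpers here

set_option autoImplicit false
open Cfsg

namespace Cfsg.Agent.S5738

/-- Let F ⊆ K be finite fields with |F| = q and [K : F] = n ≥ 2, so |K| = q^n. Regard K as an n-dimensional F-vector space; the multiplications by non-zero elements of K form a cyclic subgroup of GL_F(K) of order q^n − 1 acting regularly on the non-zero vectors (a Singer group). Its normaliser in GL_F(K) has order n·(q^n − 1). -/
theorem result {F K : Type*} [Field F] [Fintype F] [Field K] [Fintype K] [Algebra F K] (n : ℕ) (hn : 2 ≤ n) (hdim : Module.finrank F K = n) :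
    Nat.card (Subgroup.normalizer (((Units.map ((Algebra.lmul F K : K →ₐ[F] Module.End F K) : K →* Module.End F K)).range : Subgroup (Module.End F K)ˣ) : Set (Module.End F K)ˣ)) = n * (Fintype.card K - 1) := by
  classical
  set L := (Units.map ((Algebra.lmul F K : K →ₐ[F] Module.End F K) : K →* Module.End F K)) with hL
  have hLx : ∀ (a : Kˣ) (x : K), ((L a : (Module.End F K)ˣ) : Module.End F K) x = (a : K) * x := fun a x => rfl
  set N := Subgroup.normalizer (L.range : Set (Module.End F K)ˣ) with hN
  -- a semilinear element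
  let mk : (K ≃ₐ[F] K) → Kˣ → (Module.End F K)ˣ := fun σ b =>
    L b * LinearMap.GeneralLinearGroup.ofLinearEquiv σ.toLinearEquiv
  have hmk : ∀ σ b (x : K), (mk σ b : Module.End F K) x = (b : K) * σ x := fun σ b x => rfl
  have hconj : ∀ σ b (a : Kˣ), mk σ b * L a = L (Units.map (σ : K →* K) a) * mk σ b := by
    intro σ b a
    refine Units.ext (LinearMap.ext fun x => ?_)
    simp only [Units.val_mul, Module.End.mul_apply, hLx, hmk, map_mul, Units.coe_map]
    exact mul_left_comm _ _ _
  have hmem : ∀ σ b, mk σ b ∈ N := by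
    intro σ b
    rw [hN, Subgroup.mem_normalizer_iff]
    intro h
    constructor
    · rintro ⟨a, rfl⟩
      exact ⟨_, eq_mul_inv_iff_mul_eq.2 (hconj σ b a).symm⟩
    · rintro ⟨a, ha⟩
      refine ⟨Units.map (σ.symm : K →* K) a, mul_left_cancel (a := mk σ b) ?_⟩
      rw [hconj, show (Units.map (σ : K →* K)) (Units.map (σ.symm : K →* K) a) = a from Units.ext (σ.apply_symm_apply _),
        ha, inv_mul_cancel_right]
  let Φ : (K ≃ₐ[F] K) × Kˣ → N := fun p => ⟨mk p.1 p.2, hmem p.1 p.2⟩
  have hinj : Function.Injective Φ := by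
    rintro ⟨σ, b⟩ ⟨σ', b'⟩ h
    have h1 : ∀ x, (b : K) * σ x = (b' : K) * σ' x := fun x =>
      LinearMap.congr_fun (congrArg (fun u : N => ((u : (Module.End F K)ˣ) : Module.End F K)) h) x
    have hb : b = b' := Units.ext (by simpa using h1 1)
    subst hb
    simp only [Prod.mk.injEq, and_true]
    exact AlgEquiv.ext fun x => mul_left_cancel₀ b.ne_zero (h1 x)
  have hsurj : Function.Surjective Φ := by
    rintro ⟨g, hg⟩
    have hex : ∀ x : K, ∃ y : K, ∀ z, (g : Module.End F K) (x * z) = y * (g : Module.End F K) z := by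
      intro x
      rcases eq_or_ne x 0 with rfl | hx
      · exact ⟨0, fun z => by simp⟩
      obtain ⟨a, ha⟩ := ((Subgroup.mem_normalizer_iff.1 hg) (L (Units.mk0 x hx))).1 ⟨_, rfl⟩
      refine ⟨a, fun z => ?_⟩
      have h := congrArg (fun u : (Module.End F K)ˣ => (u : Module.End F K) ((g : Module.End F K) z)) ha
      have hz : ((g⁻¹ : (Module.End F K)ˣ) : Module.End F K) ((g : Module.End F K) z) = z := by
        rw [← Module.End.mul_apply, Units.inv_mul]; rfl
      simp only [Units.val_mul, Module.End.mul_apply, hLx, hz] at h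
      exact h.symm
    choose s hs using hex
    set b := (g : Module.End F K) 1
    have hginj : Function.Injective (g : Module.End F K) := fun x y h => by
      simpa [← Module.End.mul_apply] using congrArg (((g⁻¹ : (Module.End F K)ˣ) : Module.End F K)) h
    have hb : b ≠ 0 := fun h => one_ne_zero (hginj (h.trans (map_zero _).symm))
    have hg1 : ∀ x, (g : Module.End F K) x = s x * b := fun x => by simpa using hs x 1
    have hadd : ∀ x y, s (x + y) = s x + s y := fun x y => mul_right_cancel₀ hb (by
      rw [← hg1, map_add, add_mul, ← hg1, ← hg1])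
    have hmul : ∀ x y, s (x * y) = s x * s y := fun x y => mul_right_cancel₀ hb (by
      rw [← hg1, hs x y, hg1, mul_assoc])
    have halg : ∀ c : F, s (algebraMap F K c) = algebraMap F K c := fun c => mul_right_cancel₀ hb (by
      rw [← hg1, Algebra.algebraMap_eq_smul_one, map_smul, ← Algebra.algebraMap_eq_smul_one, Algebra.smul_def])
    let σ₀ : K →ₐ[F] K :=
      { toFun := s
        map_one' := mul_right_cancel₀ hb (by rw [← hg1, one_mul])
        map_mul' := hmul
        map_zero' := mul_right_cancel₀ hb (by rw [← hg1, map_zero, zero_mul])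
        map_add' := hadd
        commutes' := halg }
    let σ : K ≃ₐ[F] K := AlgEquiv.ofBijective σ₀ (Finite.injective_iff_bijective.1 fun x y h =>
      hginj (by rw [hg1, hg1, show s x = s y from h]))
    refine ⟨(σ, Units.mk0 b hb), Subtype.ext (Units.ext (LinearMap.ext fun x => ?_))⟩
    show (mk σ (Units.mk0 b hb) : Module.End F K) x = _
    rw [hmk, hg1]
    exact mul_comm _ _
  rw [← Nat.card_eq_of_bijective Φ ⟨hinj, hsurj⟩, Nat.card_prod, Nat.card_units, Nat.card_eq_fintype_card (α := K),
    IsGalois.card_aut_eq_finrank, hdim]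

end Cfsg.Agent.S5738
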