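import Cfsg.Statements.S5747
-- import your own Cfsg.Agent.* helpers here

set_option autoImplicit false
open Cfsg

namespace Cfsg.Agent.S5747

section
variable {G Ω : Type*} [Group G] [MulAction G Ω]

/-- An irredundant base of a subgroup. -/
def IrrBase (H : Subgroup G) {t : ℕ} (f : Fin t → Ω) : Prop :=
  (∀ g ∈ H, (∀ i, g • f i = f i) → g = 1) ∧ ∀ i, ∃ g ∈ H, (∀ j, j < i → g • f j = f j) ∧ g • f i ≠ f i

theorem irrBase_top {t : ℕ} (f : Fin t → Ω) : IrrBase (⊤ : Subgroup G) f ↔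
    ((∀ g : G, (∀ i : Fin t, g • f i = f i) → g = 1) ∧
      ∀ i : Fin t, ∃ g : G, (∀ j : Fin t, j < i → g • f j = f j) ∧ g • f i ≠ f i) := by
  simp [IrrBase]

theorem irrBase_cons (H : Subgroup G) {t : ℕ} (f : Fin (t + 1) → Ω) :
    IrrBase H f ↔ (∃ g ∈ H, g • f 0 ≠ f 0) ∧ IrrBase (H ⊓ MulAction.stabilizer G (f 0)) (Fin.tail f) := by
  constructor
  · rintro ⟨h1, h2⟩
    obtain ⟨g, hg, -, hg0⟩ := h2 0
    refine ⟨⟨g, hg, hg0⟩, fun g hg hfix => h1 g hg.1 (Fin.cases hg.2 hfix), fun i => ?_⟩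
    obtain ⟨g, hg, hfix, hmov⟩ := h2 i.succ
    exact ⟨g, ⟨hg, hfix 0 (Fin.succ_pos i)⟩, fun j hj => hfix j.succ (Fin.succ_lt_succ_iff.2 hj), hmov⟩
  · rintro ⟨⟨g, hg, hg0⟩, h1, h2⟩
    refine ⟨fun g hg hfix => h1 g ⟨hg, hfix 0⟩ fun i => hfix i.succ, Fin.cases ⟨g, hg, fun j hj => ?_, hg0⟩ fun i => ?_⟩
    · exact absurd hj (Fin.not_lt_zero _)
    · obtain ⟨g, hg, hfix, hmov⟩ := h2 i
      exact ⟨g, hg.1, Fin.cases (fun _ => hg.2) fun j hj => hfix j (Fin.succ_lt_succ_iff.1 hj), hmov⟩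

theorem inf_stab_lt {H : Subgroup G} {a : Ω} (h : ∃ g ∈ H, g • a ≠ a) : H ⊓ MulAction.stabilizer G a < H := by
  refine lt_of_le_of_ne inf_le_left fun he => ?_
  obtain ⟨g, hg, hga⟩ := h
  rw [← he] at hg
  exact hga hg.2

theorem exists_irrBase [Finite G] (H : Subgroup G) (hfaith : ∀ g ∈ H, (∀ a : Ω, g • a = a) → g = 1) :
    ∃ (t : ℕ) (f : Fin t → Ω), IrrBase H f := by
  induction H using WellFoundedLT.induction with
  | ind H ih =>
    by_cases hmov : ∃ g ∈ H, ∃ a : Ω, g • a ≠ a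
    · obtain ⟨g, hg, a, hga⟩ := hmov
      obtain ⟨t, f, hf⟩ := ih _ (inf_stab_lt (a := a) ⟨g, hg, hga⟩) fun x hx => hfaith x hx.1
      refine ⟨t + 1, Fin.cons a f, (irrBase_cons H _).2 ⟨⟨g, hg, by simpa using hga⟩, ?_⟩⟩
      simpa using hf
    · push Not at hmov
      exact ⟨0, Fin.elim0, fun g hg _ => hfaith g hg (hmov g hg), fun i => i.elim0⟩

theorem prune (t : ℕ) : ∀ (H : Subgroup G) (f : Fin t → Ω), (∀ g ∈ H, (∀ i, g • f i = f i) → g = 1) →
    ∃ (t' : ℕ) (f' : Fin t' → Ω), IrrBase H f' ∧ t' ≤ t ∧ (t' = t → IrrBase H f) := by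
  induction t with
  | zero => exact fun H f h => ⟨0, f, ⟨h, fun i => i.elim0⟩, le_rfl, fun _ => ⟨h, fun i => i.elim0⟩⟩
  | succ t ih =>
    intro H f h
    by_cases hmov : ∃ g ∈ H, g • f 0 ≠ f 0
    · obtain ⟨t', f', hf', hle, heq⟩ := ih (H ⊓ MulAction.stabilizer G (f 0)) (Fin.tail f)
        fun g hg hfix => h g hg.1 (Fin.cases hg.2 hfix)
      refine ⟨t' + 1, Fin.cons (f 0) f', (irrBase_cons H _).2 ⟨by simpa using hmov, by simpa using hf'⟩,
        Nat.succ_le_succ hle, fun he => (irrBase_cons H f).2 ⟨hmov, heq (by omega)⟩⟩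
    · push Not at hmov
      obtain ⟨t', f', hf', hle, -⟩ := ih H (Fin.tail f) fun g hg hfix => h g hg (Fin.cases (hmov g hg) hfix)
      exact ⟨t', f', hf', hle.trans (Nat.le_succ t), fun he => by omega⟩

/-- Irredundant bases are preserved by reordering. -/
def Reorder (Ω : Type*) [MulAction G Ω] (H : Subgroup G) : Prop :=
  ∀ (t : ℕ) (f : Fin t → Ω) (σ : Equiv.Perm (Fin t)), IrrBase H f → IrrBase H (f ∘ σ)

theorem reorder_stab {H : Subgroup G} (hP : Reorder Ω H) {a : Ω} (h : ∃ g ∈ H, g • a ≠ a) :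
    Reorder Ω (H ⊓ MulAction.stabilizer G a) := by
  intro t f σ hf
  have h1 := hP (t + 1) (Fin.cons a f) (Equiv.Perm.decomposeFin.symm (0, σ))
    ((irrBase_cons H _).2 ⟨by simpa using h, by simpa using hf⟩)
  have e : (Fin.cons a f : Fin (t + 1) → Ω) ∘ Equiv.Perm.decomposeFin.symm (0, σ) = Fin.cons a (f ∘ σ) := by
    funext i
    refine Fin.cases ?_ (fun j => ?_) i <;> simp
  rw [e] at h1
  simpa using ((irrBase_cons H _).1 h1).2

theorem swap_two {H : Subgroup G} (hP : Reorder Ω H) {a b : Ω} {t : ℕ} {f : Fin t → Ω}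
    (ha : ∃ g ∈ H, g • a ≠ a) (hb : ∃ g ∈ H ⊓ MulAction.stabilizer G a, g • b ≠ b)
    (hf : IrrBase (H ⊓ MulAction.stabilizer G a ⊓ MulAction.stabilizer G b) f) :
    IrrBase (H ⊓ MulAction.stabilizer G a) (Fin.cons b f : Fin (t + 1) → Ω) ∧
      (∃ g ∈ H ⊓ MulAction.stabilizer G b, g • a ≠ a) ∧
      IrrBase (H ⊓ MulAction.stabilizer G b) (Fin.cons a f : Fin (t + 1) → Ω) := by
  have h1 : IrrBase (H ⊓ MulAction.stabilizer G a) (Fin.cons b f : Fin (t + 1) → Ω) :=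
    (irrBase_cons _ _).2 ⟨by simpa using hb, by simpa using hf⟩
  have h2 := hP (t + 1 + 1) (Fin.cons a (Fin.cons b f : Fin (t + 1) → Ω)) (Equiv.swap 0 1)
    ((irrBase_cons H _).2 ⟨by simpa using ha, by simpa using h1⟩)
  have e : (Fin.cons a (Fin.cons b f : Fin (t + 1) → Ω) : Fin (t + 1 + 1) → Ω) ∘ Equiv.swap 0 1 =
      Fin.cons b (Fin.cons a f : Fin (t + 1) → Ω) := by
    funext i
    refine Fin.cases ?_ (fun j => ?_) i
    · simp
    · refine Fin.cases ?_ (fun k => ?_) j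
      · simp
      · rw [Function.comp_apply, Equiv.swap_apply_of_ne_of_ne (Fin.succ_ne_zero _) (show k.succ.succ ≠ 1 from fun h =>
          Fin.succ_ne_zero k (Fin.succ_injective _ (h.trans Fin.succ_zero_eq_one.symm)))]
        simp
  rw [e, irrBase_cons] at h2
  have h3 := h2.2
  simp only [Fin.cons_zero, Fin.tail_cons] at h3
  exact ⟨h1, by simpa using ((irrBase_cons _ _).1 h3).1, h3⟩

theorem same_size [Finite G] (H : Subgroup G) (hP : Reorder Ω H) :
    ∀ (t t' : ℕ) (f : Fin t → Ω) (f' : Fin t' → Ω), IrrBase H f → IrrBase H f' → t = t' := by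
  induction H using WellFoundedLT.induction with
  | ind H ih =>
    rintro (_ | t) (_ | t') f f' hf hf'
    · rfl
    · obtain ⟨g, hg, -, hne⟩ := hf'.2 0
      exact absurd (by rw [hf.1 g hg fun i => i.elim0, one_smul]) hne
    · obtain ⟨g, hg, -, hne⟩ := hf.2 0
      exact absurd (by rw [hf'.1 g hg fun i => i.elim0, one_smul]) hne
    obtain ⟨ha, hfa⟩ := (irrBase_cons H f).1 hf
    obtain ⟨hb, hfb⟩ := (irrBase_cons H f').1 hf'
    set a := f 0
    set b := f' 0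
    have iha := ih _ (inf_stab_lt ha) (reorder_stab hP ha)
    have ihb := ih _ (inf_stab_lt hb) (reorder_stab hP hb)
    have hfaith : ∀ g ∈ H, (∀ x : Ω, g • x = x) → g = 1 := fun g hg h => hf.1 g hg fun i => h _
    by_cases hba : ∃ g ∈ H ⊓ MulAction.stabilizer G a, g • b ≠ b
    · obtain ⟨s, l, hl⟩ := exists_irrBase (H ⊓ MulAction.stabilizer G a ⊓ MulAction.stabilizer G b)
        fun g hg => hfaith g hg.1.1
      obtain ⟨h1, -, h3⟩ := swap_two hP ha hba hl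
      rw [iha _ _ _ _ hfa h1, ihb _ _ _ _ hfb h3]
    by_cases hab : ∃ g ∈ H ⊓ MulAction.stabilizer G b, g • a ≠ a
    · obtain ⟨s, l, hl⟩ := exists_irrBase (H ⊓ MulAction.stabilizer G b ⊓ MulAction.stabilizer G a)
        fun g hg => hfaith g hg.1.1
      exact absurd (swap_two hP hb hab hl).2.1 hba
    push Not at hba hab
    have he : H ⊓ MulAction.stabilizer G a = H ⊓ MulAction.stabilizer G b :=
      le_antisymm (fun g hg => ⟨hg.1, hba g hg⟩) fun g hg => ⟨hg.1, hab g hg⟩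
    rw [he] at hfa
    rw [ihb _ _ _ _ hfa hfb]

end

/-- Let a finite group G act on a finite set Ω. An irredundant base is a sequence of points ω₁, …, ω_t whose pointwise stabiliser is trivial and in which each ω_i is moved by some element fixing ω₁, …, ω_{i−1}. Then all irredundant bases have the same length if and only if every reordering of an irredundant base is again an irredundant base. -/
theorem result {G Ω : Type*} [Group G] [Finite G] [MulAction G Ω] [Fintype Ω] :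
    (∀ (t t' : ℕ) (f : Fin t → Ω) (f' : Fin t' → Ω), ((∀ g : G, (∀ i : Fin t, g • f i = f i) → g = 1) ∧ ∀ i : Fin t, ∃ g : G, (∀ j : Fin t, j < i → g • f j = f j) ∧ g • f i ≠ f i) → ((∀ g : G, (∀ i : Fin t', g • f' i = f' i) → g = 1) ∧ ∀ i : Fin t', ∃ g : G, (∀ j : Fin t', j < i → g • f' j = f' j) ∧ g • f' i ≠ f' i) → t = t') ↔
    (∀ (t : ℕ) (f : Fin t → Ω) (σ : Equiv.Perm (Fin t)), ((∀ g : G, (∀ i : Fin t, g • f i = f i) → g = 1) ∧ ∀ i : Fin t, ∃ g : G, (∀ j : Fin t, j < i → g • f j = f j) ∧ g • f i ≠ f i) → ((∀ g : G, (∀ i : Fin t, g • (f ∘ σ) i = (f ∘ σ) i) → g = 1) ∧ ∀ i : Fin t, ∃ g : G, (∀ j : Fin t, j < i → g • (f ∘ σ) j = (f ∘ σ) j) ∧ g • (f ∘ σ) i ≠ (f ∘ σ) i)) := by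
  simp only [← irrBase_top]
  constructor
  · intro hsize t f σ hf
    have hbase : ∀ g ∈ (⊤ : Subgroup G), (∀ i, g • (f ∘ σ) i = (f ∘ σ) i) → g = 1 := fun g hg hfix =>
      hf.1 g hg fun i => by simpa using hfix (σ.symm i)
    obtain ⟨t', f', hf', -, heq⟩ := prune t ⊤ (f ∘ σ) hbase
    exact heq (hsize t' t f' f hf' hf)
  · intro hP t t' f f' hf hf'
    exact same_size ⊤ hP t t' f f' hf hf'

end Cfsg.Agent.S5747
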