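import Cfsg.Statements.S5752
import Cfsg.Agent.Lib.Perm.ThompsonWielandtAction
-- import your own Cfsg.Agent.* helpers here

set_option autoImplicit false
open Cfsg

namespace Cfsg.Agent.S5752

theorem pCore_transport.{u} {X Y : Type u} [Group X] [Group Y] [Finite X] [Finite Y] {p : ℕ} [Fact p.Prime]
    (e : X ≃* Y) (h : Cfsg.generalizedFittingSubgroup X = Cfsg.pCore p X) :
    Cfsg.generalizedFittingSubgroup Y = Cfsg.pCore p Y := by
  have key : ∀ {A B : Type u} [Group A] [Group B] [Finite A] [Finite B] (f : A ≃* B),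
      (Cfsg.generalizedFittingSubgroup A).map f.toMonoidHom ≤ Cfsg.generalizedFittingSubgroup B := by
    intro A B _ _ _ _ f
    rw [Cfsg.generalizedFittingSubgroup, Cfsg.generalizedFittingSubgroup, Subgroup.map_sup]
    refine sup_le_sup (Grp.layer_map_le f) ?_
    haveI := Grp.fittingSubgroup_isNilpotent (G := A)
    exact Grp.le_fittingSubgroup (Grp.fittingSubgroup_isNormal.map _ f.surjective)
      (Group.nilpotent_of_surjective (f.toMonoidHom.subgroupMap (Cfsg.fittingSubgroup A))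
        (f.toMonoidHom.subgroupMap_surjective _))
  refine le_antisymm ?_ (Grp.pCore_le_fittingSubgroup.trans le_sup_right)
  intro y hy
  have h1 : e.symm y ∈ Cfsg.pCore p X := h ▸ key e.symm (Subgroup.mem_map_of_mem _ hy)
  exact Grp.le_pCore (Grp.pCore_isNormal.map e.toMonoidHom e.surjective) (Grp.pCore_isPGroup.map _)
    ⟨e.symm y, h1, e.apply_symm_apply y⟩

theorem firstCore_gfitting.{u} {G : Type u} [Group G] [Finite G] {p : ℕ} [Fact p.Prime]
    {M N : Subgroup G} (hM : Cfsg.generalizedFittingSubgroup ↥M = Cfsg.pCore p ↥M) :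
    Cfsg.generalizedFittingSubgroup ↥(TW.coreInto M N) = Cfsg.pCore p ↥(TW.coreInto M N) := by
  haveI : ((TW.coreInto M N).subgroupOf M).Normal :=
    Subgroup.normal_subgroupOf_of_le_normalizer (TW.le_normalizer_coreInto M N)
  have h := TW.normal_gfitting_eq_pCore hM ((TW.coreInto M N).subgroupOf M)
  exact pCore_transport (Subgroup.subgroupOfEquivOfLe (TW.coreInto_le_left M N)) h

/-- A form of the Thompson–Wielandt Theorem on primitive permutation groups. Let G be a finite group and M₁, M₂ two distinct conjugate maximal subgroups of G with trivial core in G; define two descending sequences of subgroups by A₀ = M₁, B₀ = M₂ and, for every i, A_{i+1} = the core in M₁ of A_i ∩ B_i and B_{i+1} = the core in M₂ of A_i ∩ B_i (the core in M of a subgroup Y ≤ M is the largest normal subgroup of M contained in Y). If A₂ and B₂ are both non-trivial, then for some prime p the subgroup generated by A₂ and B₂ is a p-group, and for each j the generalized Fitting subgroups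 of M_j and of its first core (A₁, resp. B₁) are their largest normal p-subgroups. -/
theorem result {G : Type*} [Group G] [Finite G] (M₁ M₂ : Subgroup G) (hmax : IsCoatom M₁) (g : G)
    (hconj : M₂ = M₁.map (MulAut.conj g).toMonoidHom) (hne : M₁ ≠ M₂) (hcore : M₁.normalCore = ⊥)
    (A B : ℕ → Subgroup G) (hA0 : A 0 = M₁) (hB0 : B 0 = M₂)
    (hA : ∀ i, A (i + 1) = ((A i ⊓ B i).subgroupOf M₁).normalCore.map M₁.subtype)
    (hB : ∀ i, B (i + 1) = ((A i ⊓ B i).subgroupOf M₂).normalCore.map M₂.subtype) (hA2 : A 2 ≠ ⊥) (hB2 : B 2 ≠ ⊥) :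
    ∃ p : ℕ, p.Prime ∧ IsPGroup p ↥(A 2 ⊔ B 2) ∧
      Cfsg.generalizedFittingSubgroup ↥M₁ = Cfsg.pCore p ↥M₁ ∧ Cfsg.generalizedFittingSubgroup ↥(A 1) = Cfsg.pCore p ↥(A 1) ∧
      Cfsg.generalizedFittingSubgroup ↥M₂ = Cfsg.pCore p ↥M₂ ∧ Cfsg.generalizedFittingSubgroup ↥(B 1) = Cfsg.pCore p ↥(B 1) := by
  have h2M := TW.loc_of_maximal hmax hcore
  have h2N : TW.Loc M₂ := hconj ▸ TW.loc_conj h2M g
  obtain ⟨e⟩ : Nonempty (↥M₁ ≃* ↥M₂) :=
    hconj ▸ ⟨M₁.equivMapOfInjective (MulAut.conj g).toMonoidHom (MulAut.conj g).injective⟩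
  have k1 : A 1 = TW.coreInto M₁ M₂ := by
    rw [hA 0, hA0, hB0, TW.coreInto, Subgroup.inf_subgroupOf_left]
  have k2 : B 1 = TW.coreInto M₂ M₁ := by
    rw [hB 0, hA0, hB0, TW.coreInto, inf_comm, Subgroup.inf_subgroupOf_left]
  have k3 : A 2 = TW.secondCore M₁ M₂ := by
    rw [hA 1, k1, k2]; rfl
  have k4 : B 2 = TW.secondCore M₂ M₁ := by
    rw [hB 1, k1, k2, inf_comm]; rfl
  rw [k3] at hA2
  rw [k4] at hB2
  have hp := TW.pair_secondCore h2M h2N hne e hA2 hB2
  obtain ⟨p, hp', hpA, hpB, hM, hN⟩ := TW.thompson_wielandt hp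
  haveI := Fact.mk hp'
  refine ⟨p, hp', ?_, hM, ?_, hN, ?_⟩
  · rw [k3, k4]
    exact hpA.to_sup_of_normal_right' hpB
      (hp.A_leN.trans (TW.le_normalizer_coreInto M₂ (TW.coreInto M₂ M₁ ⊓ TW.coreInto M₁ M₂)))
  · rw [k1]; exact firstCore_gfitting hM
  · rw [k2]; exact firstCore_gfitting hN

end Cfsg.Agent.S5752
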