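import Cfsg.Statements.S5754
-- import your own Cfsg.Agent.* helpers here

set_option autoImplicit false
open Cfsg

namespace Cfsg.Agent.S5754

/-- Let V be a finite-dimensional vector space over a finite field F carrying an anisotropic quadratic form Q (Q(v) = 0 only for v = 0). Then the group of all maps v ↦ φ(v) + c, with φ an isometry of Q and c ∈ V, acts on V as a binary permutation group: given n ≥ 2 and two n-tuples u, u' of vectors such that every pair of corresponding entries of u is carried to that of u' by such a map, one such map carries u to u'. -/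
theorem result {F V : Type*} [Field F] [Finite F] [AddCommGroup V] [Module F V] [Module.Finite F V]
    (Q : QuadraticForm F V) (hQ : Q.Anisotropic) (n : ℕ) (hn : 2 ≤ n) (u u' : Fin n → V)
    (h2 : ∀ i j : Fin n, i ≠ j → ∃ (φ : Q.IsometryEquiv Q) (c : V), φ (u i) + c = u' i ∧ φ (u j) + c = u' j) :
    ∃ (φ : Q.IsometryEquiv Q) (c : V), ∀ i, φ (u i) + c = u' i := by
  classical
  obtain ⟨i₀⟩ : Nonempty (Fin n) := ⟨⟨0, by omega⟩⟩
  let v : Fin n → V := fun i => u i - u i₀
  let w : Fin n → V := fun i => u' i - u' i₀
  have hdata : ∀ i j, Q (v i) = Q (w i) ∧ Q (v i - v j) = Q (w i - w j) := by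
    have hd : ∀ i j, Q (u i - u j) = Q (u' i - u' j) := by
      intro i j
      by_cases hij : i = j
      · subst hij; simp
      obtain ⟨φ, c, h1, h2'⟩ := h2 i j hij
      rw [← h1, ← h2', add_sub_add_right_eq_sub, ← map_sub]
      exact (φ.map_app _).symm
    intro i j
    refine ⟨hd i i₀, ?_⟩
    simp only [v, w, sub_sub_sub_cancel_right]
    exact hd i j
  have qadd : ∀ a b, Q (a + b) = Q a + Q b + QuadraticMap.polar Q a b := fun a b => by
    simp [QuadraticMap.polar]
  have key : ∀ s : Finset (Fin n), ∃ φ : Q.IsometryEquiv Q, ∀ i ∈ s, φ (v i) = w i := by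
    intro s
    induction s using Finset.induction with
    | empty => exact ⟨QuadraticMap.IsometryEquiv.refl Q, by simp⟩
    | @insert a s has ih =>
      obtain ⟨φ, hφ⟩ := ih
      by_cases he : φ (v a) = w a
      · exact ⟨φ, by simpa [he] using hφ⟩
      set x := φ (v a) with hx
      set d := x - w a with hd
      have hd0 : Q d ≠ 0 := fun h => he (sub_eq_zero.1 (hQ _ h))
      let g : V →ₗ[F] V := LinearMap.id - (((Q d)⁻¹) • (QuadraticMap.polarBilin Q d)).smulRight d
      have hg : ∀ y, g y = y - ((Q d)⁻¹ * QuadraticMap.polar Q d y) • d := fun y => by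
        simp [g, smul_eq_mul]
      have hgQ : ∀ y, Q (g y) = Q y := by
        intro y
        rw [hg, sub_eq_add_neg, qadd, ← neg_smul, QuadraticMap.map_smul,
          QuadraticMap.polar_smul_right, QuadraticMap.polar_comm _ y d, smul_eq_mul, smul_eq_mul]
        field_simp
        ring
      have hgi : Function.Injective g := by
        rw [injective_iff_map_eq_zero]
        intro y hy
        exact hQ y (by rw [← hgQ, hy, QuadraticMap.map_zero])
      let ψ : Q.IsometryEquiv Q := { LinearEquiv.ofInjectiveEndo g hgi with map_app' := hgQ }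
      refine ⟨φ.trans ψ, fun i hi => ?_⟩
      show g (φ (v i)) = w i
      have hQx : Q x = Q (w a) := (φ.map_app _).trans (hdata a a).1
      rcases Finset.mem_insert.1 hi with rfl | hi
      · rw [hg, ← hx]
        have : QuadraticMap.polar Q d x = Q d := by
          have hxx : QuadraticMap.polar Q x x = 2 * Q x := by
            rw [QuadraticMap.polar_self, two_nsmul, two_mul]
          rw [hd, QuadraticMap.polar_sub_left, hxx, sub_eq_add_neg x, qadd, QuadraticMap.map_neg,
            QuadraticMap.polar_neg_right, QuadraticMap.polar_comm _ x, ← hQx]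
          ring
        rw [this, inv_mul_cancel₀ hd0, one_smul, hd, sub_sub_cancel]
      · rw [hg, hφ i hi]
        have hQi : Q (w i) = Q (v i) := (hdata i i).1.symm
        have h1 : Q (x - w i) = Q (w a - w i) := by
          rw [hx, ← hφ i hi, ← map_sub, φ.map_app, (hdata a i).2, hφ i hi]
        have : QuadraticMap.polar Q d (w i) = 0 := by
          rw [hd, QuadraticMap.polar_sub_left]
          rw [sub_eq_add_neg x, sub_eq_add_neg (w a), qadd, qadd,
            QuadraticMap.map_neg, QuadraticMap.polar_neg_right, QuadraticMap.polar_neg_right, hQx] at h1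
          linear_combination -h1
        rw [this, mul_zero, zero_smul, sub_zero]
  obtain ⟨φ, hφ⟩ := key Finset.univ
  refine ⟨φ, u' i₀ - φ (u i₀), fun i => ?_⟩
  have h := hφ i (Finset.mem_univ i)
  simp only [v, w, map_sub] at h
  rw [add_sub_left_comm, h, add_sub_cancel]

end Cfsg.Agent.S5754
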