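import Cfsg.Statements.S5763
import Mathlib.GroupTheory.Sylow
import Mathlib.GroupTheory.Perm.Cycle.Type
-- import your own Cfsg.Agent.* helpers here

set_option autoImplicit false
open Cfsg

namespace Cfsg.Agent.S5763

/-- Coset representatives, their inverses, the action of the adjacent transpositions and a witness. -/
def tbl : List (List Nat × List Nat × List Nat × List Nat) :=
  [([0,1,2,3,4,5,6,7],[0,1,2,3,4,5,6,7],[0,45,0,3,0,1,0],[0,1,2,3,4,5,7,6]),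
  ([0,1,2,3,4,6,5,7],[0,1,2,3,4,6,5,7],[1,46,1,4,2,0,2],[0,1,2,3,5,4,7,6]),
  ([0,1,2,3,4,7,5,6],[0,1,2,3,4,6,7,5],[2,47,2,5,1,2,1],[0,1,2,3,5,4,7,6]),
  ([0,1,2,4,3,5,6,7],[0,1,2,4,3,5,6,7],[3,48,15,0,6,4,3],[0,1,2,3,4,5,7,6]),
  ([0,1,2,4,3,6,5,7],[0,1,2,4,3,6,5,7],[4,49,16,1,7,3,5],[1,0,2,3,4,5,6,7]),
  ([0,1,2,4,3,7,5,6],[0,1,2,4,3,6,7,5],[5,50,17,2,8,5,4],[1,0,2,3,4,5,6,7]),
  ([0,1,2,5,3,4,6,7],[0,1,2,4,5,3,6,7],[6,51,18,6,3,9,6],[0,1,2,3,4,5,7,6]),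
  ([0,1,2,5,3,6,4,7],[0,1,2,4,6,3,5,7],[7,52,19,8,4,10,8],[1,0,2,3,4,5,6,7]),
  ([0,1,2,5,3,7,4,6],[0,1,2,4,6,3,7,5],[8,53,20,7,5,11,7],[1,0,2,3,4,5,6,7]),
  ([0,1,2,6,3,4,5,7],[0,1,2,4,5,6,3,7],[9,54,21,9,10,6,12],[1,0,2,3,4,5,6,7]),
  ([0,1,2,6,3,5,4,7],[0,1,2,4,6,5,3,7],[10,55,22,11,9,7,13],[1,0,2,3,4,5,6,7]),
  ([0,1,2,6,3,7,4,5],[0,1,2,4,6,7,3,5],[11,56,23,10,11,8,14],[0,1,2,3,5,4,6,7]),
  ([0,1,2,7,3,4,5,6],[0,1,2,4,5,6,7,3],[12,57,24,12,13,12,9],[1,0,2,3,4,5,6,7]),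
  ([0,1,2,7,3,5,4,6],[0,1,2,4,6,5,7,3],[13,58,25,14,12,14,10],[1,0,2,3,4,5,6,7]),
  ([0,1,2,7,3,6,4,5],[0,1,2,4,6,7,5,3],[14,59,26,13,14,13,11],[0,1,2,3,5,4,6,7]),
  ([0,1,3,4,2,5,6,7],[0,1,4,2,3,5,6,7],[15,60,3,15,18,16,15],[0,1,2,3,4,5,7,6]),
  ([0,1,3,4,2,6,5,7],[0,1,4,2,3,6,5,7],[16,61,4,16,19,15,17],[1,0,2,3,4,5,6,7]),
  ([0,1,3,4,2,7,5,6],[0,1,4,2,3,6,7,5],[17,62,5,17,20,17,16],[1,0,2,3,4,5,6,7]),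
  ([0,1,3,5,2,4,6,7],[0,1,4,2,5,3,6,7],[18,63,6,27,15,21,18],[0,1,2,3,4,5,7,6]),
  ([0,1,3,5,2,6,4,7],[0,1,4,2,6,3,5,7],[19,64,7,28,16,22,20],[1,0,2,3,4,5,6,7]),
  ([0,1,3,5,2,7,4,6],[0,1,4,2,6,3,7,5],[20,65,8,29,17,23,19],[1,0,2,3,4,5,6,7]),
  ([0,1,3,6,2,4,5,7],[0,1,4,2,5,6,3,7],[21,66,9,30,22,18,24],[1,0,2,3,4,5,6,7]),
  ([0,1,3,6,2,5,4,7],[0,1,4,2,6,5,3,7],[22,67,10,31,21,19,25],[1,0,2,3,4,5,6,7]),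
  ([0,1,3,6,2,7,4,5],[0,1,4,2,6,7,3,5],[23,68,11,32,23,20,26],[0,1,2,3,5,4,6,7]),
  ([0,1,3,7,2,4,5,6],[0,1,4,2,5,6,7,3],[24,69,12,33,25,24,21],[1,0,2,3,4,5,6,7]),
  ([0,1,3,7,2,5,4,6],[0,1,4,2,6,5,7,3],[25,70,13,34,24,26,22],[1,0,2,3,4,5,6,7]),
  ([0,1,3,7,2,6,4,5],[0,1,4,2,6,7,5,3],[26,71,14,35,26,25,23],[0,1,2,3,5,4,6,7]),
  ([0,1,4,5,2,3,6,7],[0,1,4,5,2,3,6,7],[27,72,27,18,27,30,27],[0,1,2,3,4,5,7,6]),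
  ([0,1,4,5,2,6,3,7],[0,1,4,6,2,3,5,7],[28,73,29,19,28,31,29],[0,1,2,3,5,4,6,7]),
  ([0,1,4,5,2,7,3,6],[0,1,4,6,2,3,7,5],[29,74,28,20,29,32,28],[0,1,2,3,5,4,6,7]),
  ([0,1,4,6,2,3,5,7],[0,1,4,5,2,6,3,7],[30,75,30,21,36,27,33],[0,1,2,3,6,7,4,5]),
  ([0,1,4,6,2,5,3,7],[0,1,4,6,2,5,3,7],[31,76,32,22,37,28,34],[0,1,3,2,6,7,4,5]),
  ([0,1,4,6,2,7,3,5],[0,1,4,6,2,7,3,5],[32,77,31,23,38,29,35],[0,1,3,2,6,7,4,5]),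
  ([0,1,4,7,2,3,5,6],[0,1,4,5,2,6,7,3],[33,78,33,24,39,33,30],[0,1,2,3,7,6,5,4]),
  ([0,1,4,7,2,5,3,6],[0,1,4,6,2,5,7,3],[34,79,35,25,40,35,31],[0,1,3,2,7,6,5,4]),
  ([0,1,4,7,2,6,3,5],[0,1,4,6,2,7,5,3],[35,80,34,26,41,34,32],[0,1,3,2,7,6,5,4]),
  ([0,1,5,6,2,3,4,7],[0,1,4,5,6,2,3,7],[36,81,36,37,30,36,39],[0,1,2,3,7,6,5,4]),
  ([0,1,5,6,2,4,3,7],[0,1,4,6,5,2,3,7],[37,82,38,36,31,37,40],[0,1,3,2,7,6,5,4]),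
  ([0,1,5,6,2,7,3,4],[0,1,4,6,7,2,3,5],[38,83,37,38,32,38,41],[0,1,3,2,7,6,5,4]),
  ([0,1,5,7,2,3,4,6],[0,1,4,5,6,2,7,3],[39,84,39,40,33,42,36],[0,1,2,3,6,7,4,5]),
  ([0,1,5,7,2,4,3,6],[0,1,4,6,5,2,7,3],[40,85,41,39,34,43,37],[0,1,3,2,6,7,4,5]),
  ([0,1,5,7,2,6,3,4],[0,1,4,6,7,2,5,3],[41,86,40,41,35,44,38],[0,1,3,2,6,7,4,5]),
  ([0,1,6,7,2,3,4,5],[0,1,4,5,6,7,2,3],[42,87,42,43,42,39,42],[0,1,2,3,4,5,7,6]),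
  ([0,1,6,7,2,4,3,5],[0,1,4,6,5,7,2,3],[43,88,44,42,44,40,43],[0,1,2,3,4,5,7,6]),
  ([0,1,6,7,2,5,3,4],[0,1,4,6,7,5,2,3],[44,89,43,44,43,41,44],[0,1,2,3,4,5,7,6]),
  ([0,2,1,3,4,5,6,7],[0,2,1,3,4,5,6,7],[90,0,90,48,45,46,45],[0,1,2,3,4,5,7,6]),
  ([0,2,1,3,4,6,5,7],[0,2,1,3,4,6,5,7],[91,1,91,49,47,45,47],[0,1,2,3,5,4,7,6]),
  ([0,2,1,3,4,7,5,6],[0,2,1,3,4,6,7,5],[92,2,92,50,46,47,46],[0,1,2,3,5,4,7,6]),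
  ([0,2,1,4,3,5,6,7],[0,2,1,4,3,5,6,7],[135,3,93,45,51,49,48],[0,1,2,3,4,5,7,6]),
  ([0,2,1,4,3,6,5,7],[0,2,1,4,3,6,5,7],[136,4,94,46,52,48,50],[7,6,5,4,3,2,1,0]),
  ([0,2,1,4,3,7,5,6],[0,2,1,4,3,6,7,5],[137,5,95,47,53,50,49],[6,7,5,4,3,2,0,1]),
  ([0,2,1,5,3,4,6,7],[0,2,1,4,5,3,6,7],[180,6,96,51,48,54,51],[0,1,2,3,4,5,7,6]),
  ([0,2,1,5,3,6,4,7],[0,2,1,4,6,3,5,7],[181,7,97,53,49,55,53],[7,6,4,5,2,3,1,0]),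
  ([0,2,1,5,3,7,4,6],[0,2,1,4,6,3,7,5],[182,8,98,52,50,56,52],[6,7,4,5,2,3,0,1]),
  ([0,2,1,6,3,4,5,7],[0,2,1,4,5,6,3,7],[225,9,99,54,55,51,57],[5,4,7,6,1,0,3,2]),
  ([0,2,1,6,3,5,4,7],[0,2,1,4,6,5,3,7],[226,10,100,56,54,52,58],[4,5,7,6,0,1,3,2]),
  ([0,2,1,6,3,7,4,5],[0,2,1,4,6,7,3,5],[227,11,101,55,56,53,59],[0,1,2,3,5,4,6,7]),
  ([0,2,1,7,3,4,5,6],[0,2,1,4,5,6,7,3],[270,12,102,57,58,57,54],[5,4,6,7,1,0,2,3]),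
  ([0,2,1,7,3,5,4,6],[0,2,1,4,6,5,7,3],[271,13,103,59,57,59,55],[4,5,6,7,0,1,2,3]),
  ([0,2,1,7,3,6,4,5],[0,2,1,4,6,7,5,3],[272,14,104,58,59,58,56],[0,1,2,3,5,4,6,7]),
  ([0,2,3,4,1,5,6,7],[0,4,1,2,3,5,6,7],[222,15,105,60,63,61,60],[0,1,2,3,4,5,7,6]),
  ([0,2,3,4,1,6,5,7],[0,4,1,2,3,6,5,7],[267,16,106,61,64,60,62],[5,4,7,6,1,0,3,2]),
  ([0,2,3,4,1,7,5,6],[0,4,1,2,3,6,7,5],[312,17,107,62,65,62,61],[5,4,6,7,1,0,2,3]),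
  ([0,2,3,5,1,4,6,7],[0,4,1,2,5,3,6,7],[177,18,108,72,60,66,63],[0,1,2,3,4,5,7,6]),
  ([0,2,3,5,1,6,4,7],[0,4,1,2,6,3,5,7],[264,19,109,73,61,67,65],[4,5,7,6,0,1,3,2]),
  ([0,2,3,5,1,7,4,6],[0,4,1,2,6,3,7,5],[309,20,110,74,62,68,64],[4,5,6,7,0,1,2,3]),
  ([0,2,3,6,1,4,5,7],[0,4,1,2,5,6,3,7],[174,21,111,75,67,63,69],[7,6,5,4,3,2,1,0]),
  ([0,2,3,6,1,5,4,7],[0,4,1,2,6,5,3,7],[219,22,112,76,66,64,70],[7,6,4,5,2,3,1,0]),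
  ([0,2,3,6,1,7,4,5],[0,4,1,2,6,7,3,5],[306,23,113,77,68,65,71],[0,1,2,3,5,4,6,7]),
  ([0,2,3,7,1,4,5,6],[0,4,1,2,5,6,7,3],[171,24,114,78,70,69,66],[6,7,5,4,3,2,0,1]),
  ([0,2,3,7,1,5,4,6],[0,4,1,2,6,5,7,3],[216,25,115,79,69,71,67],[6,7,4,5,2,3,0,1]),
  ([0,2,3,7,1,6,4,5],[0,4,1,2,6,7,5,3],[261,26,116,80,71,70,68],[0,1,2,3,5,4,6,7]),
  ([0,2,4,5,1,3,6,7],[0,4,1,5,2,3,6,7],[132,27,117,63,72,75,72],[0,1,2,3,4,5,7,6]),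
  ([0,2,4,5,1,6,3,7],[0,4,1,6,2,3,5,7],[258,28,118,64,73,76,74],[0,1,2,3,5,4,6,7]),
  ([0,2,4,5,1,7,3,6],[0,4,1,6,2,3,7,5],[303,29,119,65,74,77,73],[0,1,2,3,5,4,6,7]),
  ([0,2,4,6,1,3,5,7],[0,4,1,5,2,6,3,7],[129,30,120,66,81,72,78],[0,1,2,3,6,7,4,5]),
  ([0,2,4,6,1,5,3,7],[0,4,1,6,2,5,3,7],[213,31,121,67,82,73,79],[2,3,0,1,6,7,4,5]),
  ([0,2,4,6,1,7,3,5],[0,4,1,6,2,7,3,5],[300,32,122,68,83,74,80],[2,3,0,1,6,7,4,5]),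
  ([0,2,4,7,1,3,5,6],[0,4,1,5,2,6,7,3],[126,33,123,69,84,78,75],[0,1,2,3,7,6,5,4]),
  ([0,2,4,7,1,5,3,6],[0,4,1,6,2,5,7,3],[210,34,124,70,85,80,76],[2,3,0,1,7,6,5,4]),
  ([0,2,4,7,1,6,3,5],[0,4,1,6,2,7,5,3],[255,35,125,71,86,79,77],[2,3,0,1,7,6,5,4]),
  ([0,2,5,6,1,3,4,7],[0,4,1,5,6,2,3,7],[123,36,126,82,75,81,84],[0,1,2,3,7,6,5,4]),
  ([0,2,5,6,1,4,3,7],[0,4,1,6,5,2,3,7],[168,37,127,81,76,82,85],[2,3,0,1,7,6,5,4]),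
  ([0,2,5,6,1,7,3,4],[0,4,1,6,7,2,3,5],[297,38,128,83,77,83,86],[2,3,0,1,7,6,5,4]),
  ([0,2,5,7,1,3,4,6],[0,4,1,5,6,2,7,3],[120,39,129,85,78,87,81],[0,1,2,3,6,7,4,5]),
  ([0,2,5,7,1,4,3,6],[0,4,1,6,5,2,7,3],[165,40,130,84,79,88,82],[2,3,0,1,6,7,4,5]),
  ([0,2,5,7,1,6,3,4],[0,4,1,6,7,2,5,3],[252,41,131,86,80,89,83],[2,3,0,1,6,7,4,5]),
  ([0,2,6,7,1,3,4,5],[0,4,1,5,6,7,2,3],[117,42,132,88,87,84,87],[0,1,2,3,4,5,7,6]),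
  ([0,2,6,7,1,4,3,5],[0,4,1,6,5,7,2,3],[162,43,133,87,89,85,88],[0,1,2,3,4,5,7,6]),
  ([0,2,6,7,1,5,3,4],[0,4,1,6,7,5,2,3],[207,44,134,89,88,86,89],[0,1,2,3,4,5,7,6]),
  ([0,3,1,2,4,5,6,7],[0,2,3,1,4,5,6,7],[45,90,45,135,90,91,90],[0,1,2,3,4,5,7,6]),
  ([0,3,1,2,4,6,5,7],[0,2,3,1,4,6,5,7],[46,91,46,136,92,90,92],[0,1,2,3,5,4,7,6]),
  ([0,3,1,2,4,7,5,6],[0,2,3,1,4,6,7,5],[47,92,47,137,91,92,91],[0,1,2,3,5,4,7,6]),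
  ([0,3,1,4,2,5,6,7],[0,2,4,1,3,5,6,7],[138,105,48,138,96,94,93],[0,1,2,3,4,5,7,6]),
  ([0,3,1,4,2,6,5,7],[0,2,4,1,3,6,5,7],[139,106,49,139,97,93,95],[7,6,4,5,2,3,1,0]),
  ([0,3,1,4,2,7,5,6],[0,2,4,1,3,6,7,5],[140,107,50,140,98,95,94],[6,7,4,5,2,3,0,1]),
  ([0,3,1,5,2,4,6,7],[0,2,4,1,5,3,6,7],[183,108,51,141,93,99,96],[0,1,2,3,4,5,7,6]),
  ([0,3,1,5,2,6,4,7],[0,2,4,1,6,3,5,7],[184,109,52,142,94,100,98],[7,6,5,4,3,2,1,0]),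
  ([0,3,1,5,2,7,4,6],[0,2,4,1,6,3,7,5],[185,110,53,143,95,101,97],[6,7,5,4,3,2,0,1]),
  ([0,3,1,6,2,4,5,7],[0,2,4,1,5,6,3,7],[228,111,54,144,100,96,102],[5,4,6,7,1,0,2,3]),
  ([0,3,1,6,2,5,4,7],[0,2,4,1,6,5,3,7],[229,112,55,145,99,97,103],[4,5,6,7,0,1,2,3]),
  ([0,3,1,6,2,7,4,5],[0,2,4,1,6,7,3,5],[230,113,56,146,101,98,104],[0,1,2,3,5,4,6,7]),
  ([0,3,1,7,2,4,5,6],[0,2,4,1,5,6,7,3],[273,114,57,147,103,102,99],[5,4,7,6,1,0,3,2]),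
  ([0,3,1,7,2,5,4,6],[0,2,4,1,6,5,7,3],[274,115,58,148,102,104,100],[4,5,7,6,0,1,3,2]),
  ([0,3,1,7,2,6,4,5],[0,2,4,1,6,7,5,3],[275,116,59,149,104,103,101],[0,1,2,3,5,4,6,7]),
  ([0,3,2,4,1,5,6,7],[0,4,2,1,3,5,6,7],[223,93,60,150,108,106,105],[0,1,2,3,4,5,7,6]),
  ([0,3,2,4,1,6,5,7],[0,4,2,1,3,6,5,7],[268,94,61,151,109,105,107],[5,4,6,7,1,0,2,3]),
  ([0,3,2,4,1,7,5,6],[0,4,2,1,3,6,7,5],[313,95,62,152,110,107,106],[5,4,7,6,1,0,3,2]),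
  ([0,3,2,5,1,4,6,7],[0,4,2,1,5,3,6,7],[178,96,63,153,105,111,108],[0,1,2,3,4,5,7,6]),
  ([0,3,2,5,1,6,4,7],[0,4,2,1,6,3,5,7],[265,97,64,154,106,112,110],[4,5,6,7,0,1,2,3]),
  ([0,3,2,5,1,7,4,6],[0,4,2,1,6,3,7,5],[310,98,65,155,107,113,109],[4,5,7,6,0,1,3,2]),
  ([0,3,2,6,1,4,5,7],[0,4,2,1,5,6,3,7],[175,99,66,156,112,108,114],[7,6,4,5,2,3,1,0]),
  ([0,3,2,6,1,5,4,7],[0,4,2,1,6,5,3,7],[220,100,67,157,111,109,115],[7,6,5,4,3,2,1,0]),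
  ([0,3,2,6,1,7,4,5],[0,4,2,1,6,7,3,5],[307,101,68,158,113,110,116],[0,1,2,3,5,4,6,7]),
  ([0,3,2,7,1,4,5,6],[0,4,2,1,5,6,7,3],[172,102,69,159,115,114,111],[6,7,4,5,2,3,0,1]),
  ([0,3,2,7,1,5,4,6],[0,4,2,1,6,5,7,3],[217,103,70,160,114,116,112],[6,7,5,4,3,2,0,1]),
  ([0,3,2,7,1,6,4,5],[0,4,2,1,6,7,5,3],[262,104,71,161,116,115,113],[0,1,2,3,5,4,6,7]),
  ([0,3,4,5,1,2,6,7],[0,4,5,1,2,3,6,7],[87,117,72,162,117,120,117],[0,1,2,3,4,5,7,6]),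
  ([0,3,4,5,1,6,2,7],[0,4,6,1,2,3,5,7],[249,119,73,163,118,121,119],[0,1,2,3,5,4,6,7]),
  ([0,3,4,5,1,7,2,6],[0,4,6,1,2,3,7,5],[294,118,74,164,119,122,118],[0,1,2,3,5,4,6,7]),
  ([0,3,4,6,1,2,5,7],[0,4,5,1,2,6,3,7],[84,120,75,165,126,117,123],[0,1,2,3,6,7,4,5]),
  ([0,3,4,6,1,5,2,7],[0,4,6,1,2,5,3,7],[204,122,76,166,127,118,124],[3,2,1,0,6,7,4,5]),
  ([0,3,4,6,1,7,2,5],[0,4,6,1,2,7,3,5],[291,121,77,167,128,119,125],[3,2,1,0,6,7,4,5]),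
  ([0,3,4,7,1,2,5,6],[0,4,5,1,2,6,7,3],[81,123,78,168,129,123,120],[0,1,2,3,7,6,5,4]),
  ([0,3,4,7,1,5,2,6],[0,4,6,1,2,5,7,3],[201,125,79,169,130,125,121],[3,2,1,0,7,6,5,4]),
  ([0,3,4,7,1,6,2,5],[0,4,6,1,2,7,5,3],[246,124,80,170,131,124,122],[3,2,1,0,7,6,5,4]),
  ([0,3,5,6,1,2,4,7],[0,4,5,1,6,2,3,7],[78,126,81,171,120,126,129],[0,1,2,3,7,6,5,4]),
  ([0,3,5,6,1,4,2,7],[0,4,6,1,5,2,3,7],[159,128,82,172,121,127,130],[3,2,1,0,7,6,5,4]),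
  ([0,3,5,6,1,7,2,4],[0,4,6,1,7,2,3,5],[288,127,83,173,122,128,131],[3,2,1,0,7,6,5,4]),
  ([0,3,5,7,1,2,4,6],[0,4,5,1,6,2,7,3],[75,129,84,174,123,132,126],[0,1,2,3,6,7,4,5]),
  ([0,3,5,7,1,4,2,6],[0,4,6,1,5,2,7,3],[156,131,85,175,124,133,127],[3,2,1,0,6,7,4,5]),
  ([0,3,5,7,1,6,2,4],[0,4,6,1,7,2,5,3],[243,130,86,176,125,134,128],[3,2,1,0,6,7,4,5]),
  ([0,3,6,7,1,2,4,5],[0,4,5,1,6,7,2,3],[72,132,87,177,132,129,132],[0,1,2,3,4,5,7,6]),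
  ([0,3,6,7,1,4,2,5],[0,4,6,1,5,7,2,3],[153,134,88,178,134,130,133],[0,1,2,3,4,5,7,6]),
  ([0,3,6,7,1,5,2,4],[0,4,6,1,7,5,2,3],[198,133,89,179,133,131,134],[0,1,2,3,4,5,7,6]),
  ([0,4,1,2,3,5,6,7],[0,2,3,4,1,5,6,7],[48,135,138,90,180,136,135],[0,1,2,3,4,5,7,6]),
  ([0,4,1,2,3,6,5,7],[0,2,3,4,1,6,5,7],[49,136,139,91,181,135,137],[6,7,5,4,3,2,0,1]),
  ([0,4,1,2,3,7,5,6],[0,2,3,4,1,6,7,5],[50,137,140,92,182,137,136],[7,6,5,4,3,2,1,0]),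
  ([0,4,1,3,2,5,6,7],[0,2,4,3,1,5,6,7],[93,150,135,93,183,139,138],[0,1,2,3,4,5,7,6]),
  ([0,4,1,3,2,6,5,7],[0,2,4,3,1,6,5,7],[94,151,136,94,184,138,140],[6,7,4,5,2,3,0,1]),
  ([0,4,1,3,2,7,5,6],[0,2,4,3,1,6,7,5],[95,152,137,95,185,140,139],[7,6,4,5,2,3,1,0]),
  ([0,4,1,5,2,3,6,7],[0,2,4,5,1,3,6,7],[186,153,141,96,186,144,141],[0,1,2,3,4,5,7,6]),
  ([0,4,1,5,2,6,3,7],[0,2,4,6,1,3,5,7],[187,154,143,97,187,145,143],[0,1,3,2,4,5,7,6]),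
  ([0,4,1,5,2,7,3,6],[0,2,4,6,1,3,7,5],[188,155,142,98,188,146,142],[0,1,3,2,4,5,7,6]),
  ([0,4,1,6,2,3,5,7],[0,2,4,5,1,6,3,7],[231,156,144,99,189,141,147],[0,1,3,2,4,5,6,7]),
  ([0,4,1,6,2,5,3,7],[0,2,4,6,1,5,3,7],[232,157,146,100,190,142,148],[1,0,3,2,6,7,4,5]),
  ([0,4,1,6,2,7,3,5],[0,2,4,6,1,7,3,5],[233,158,145,101,191,143,149],[1,0,3,2,6,7,4,5]),
  ([0,4,1,7,2,3,5,6],[0,2,4,5,1,6,7,3],[276,159,147,102,192,147,144],[0,1,3,2,4,5,6,7]),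
  ([0,4,1,7,2,5,3,6],[0,2,4,6,1,5,7,3],[277,160,149,103,193,149,145],[1,0,3,2,7,6,5,4]),
  ([0,4,1,7,2,6,3,5],[0,2,4,6,1,7,5,3],[278,161,148,104,194,148,146],[1,0,3,2,7,6,5,4]),
  ([0,4,2,3,1,5,6,7],[0,4,2,3,1,5,6,7],[224,138,150,105,195,151,150],[0,1,2,3,4,5,7,6]),
  ([0,4,2,3,1,6,5,7],[0,4,2,3,1,6,5,7],[269,139,151,106,196,150,152],[0,1,3,2,4,5,6,7]),
  ([0,4,2,3,1,7,5,6],[0,4,2,3,1,6,7,5],[314,140,152,107,197,152,151],[0,1,3,2,4,5,6,7]),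
  ([0,4,2,5,1,3,6,7],[0,4,2,5,1,3,6,7],[133,141,162,108,198,156,153],[0,1,2,3,4,5,7,6]),
  ([0,4,2,5,1,6,3,7],[0,4,2,6,1,3,5,7],[259,142,163,109,199,157,155],[1,0,3,2,6,7,4,5]),
  ([0,4,2,5,1,7,3,6],[0,4,2,6,1,3,7,5],[304,143,164,110,200,158,154],[1,0,3,2,7,6,5,4]),
  ([0,4,2,6,1,3,5,7],[0,4,2,5,1,6,3,7],[130,144,165,111,201,153,159],[2,3,0,1,6,7,4,5]),
  ([0,4,2,6,1,5,3,7],[0,4,2,6,1,5,3,7],[214,145,166,112,202,154,160],[1,0,3,2,5,4,7,6]),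
  ([0,4,2,6,1,7,3,5],[0,4,2,6,1,7,3,5],[301,146,167,113,203,155,161],[1,0,3,2,7,6,5,4]),
  ([0,4,2,7,1,3,5,6],[0,4,2,5,1,6,7,3],[127,147,168,114,204,159,156],[2,3,0,1,7,6,5,4]),
  ([0,4,2,7,1,5,3,6],[0,4,2,6,1,5,7,3],[211,148,169,115,205,161,157],[1,0,3,2,5,4,7,6]),
  ([0,4,2,7,1,6,3,5],[0,4,2,6,1,7,5,3],[256,149,170,116,206,160,158],[1,0,3,2,6,7,4,5]),
  ([0,4,3,5,1,2,6,7],[0,4,5,2,1,3,6,7],[88,162,153,117,207,165,162],[0,1,2,3,4,5,7,6]),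
  ([0,4,3,5,1,6,2,7],[0,4,6,2,1,3,5,7],[250,164,154,118,208,166,164],[1,0,3,2,6,7,4,5]),
  ([0,4,3,5,1,7,2,6],[0,4,6,2,1,3,7,5],[295,163,155,119,209,167,163],[1,0,3,2,7,6,5,4]),
  ([0,4,3,6,1,2,5,7],[0,4,5,2,1,6,3,7],[85,165,156,120,210,162,168],[3,2,1,0,6,7,4,5]),
  ([0,4,3,6,1,5,2,7],[0,4,6,2,1,5,3,7],[205,167,157,121,211,163,169],[1,0,3,2,5,4,7,6]),
  ([0,4,3,6,1,7,2,5],[0,4,6,2,1,7,3,5],[292,166,158,122,212,164,170],[1,0,3,2,7,6,5,4]),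
  ([0,4,3,7,1,2,5,6],[0,4,5,2,1,6,7,3],[82,168,159,123,213,168,165],[3,2,1,0,7,6,5,4]),
  ([0,4,3,7,1,5,2,6],[0,4,6,2,1,5,7,3],[202,170,160,124,214,170,166],[1,0,3,2,5,4,7,6]),
  ([0,4,3,7,1,6,2,5],[0,4,6,2,1,7,5,3],[247,169,161,125,215,169,167],[1,0,3,2,6,7,4,5]),
  ([0,4,5,6,1,2,3,7],[0,4,5,6,1,2,3,7],[69,171,172,126,216,171,174],[7,6,5,4,3,2,1,0]),
  ([0,4,5,6,1,3,2,7],[0,4,6,5,1,2,3,7],[114,173,171,127,217,172,175],[7,6,4,5,2,3,1,0]),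
  ([0,4,5,6,1,7,2,3],[0,4,6,7,1,2,3,5],[285,172,173,128,218,173,176],[0,1,3,2,4,5,6,7]),
  ([0,4,5,7,1,2,3,6],[0,4,5,6,1,2,7,3],[66,174,175,129,219,177,171],[6,7,5,4,3,2,0,1]),
  ([0,4,5,7,1,3,2,6],[0,4,6,5,1,2,7,3],[111,176,174,130,220,178,172],[6,7,4,5,2,3,0,1]),
  ([0,4,5,7,1,6,2,3],[0,4,6,7,1,2,5,3],[240,175,176,131,221,179,173],[0,1,3,2,4,5,6,7]),
  ([0,4,6,7,1,2,3,5],[0,4,5,6,1,7,2,3],[63,177,178,132,222,174,177],[0,1,2,3,4,5,7,6]),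
  ([0,4,6,7,1,3,2,5],[0,4,6,5,1,7,2,3],[108,179,177,133,223,175,178],[0,1,2,3,4,5,7,6]),
  ([0,4,6,7,1,5,2,3],[0,4,6,7,1,5,2,3],[195,178,179,134,224,176,179],[0,1,2,3,4,5,7,6]),
  ([0,5,1,2,3,4,6,7],[0,2,3,4,5,1,6,7],[51,180,183,180,135,225,180],[0,1,2,3,4,5,7,6]),
  ([0,5,1,2,3,6,4,7],[0,2,3,4,6,1,5,7],[52,181,184,182,136,226,182],[6,7,4,5,2,3,0,1]),
  ([0,5,1,2,3,7,4,6],[0,2,3,4,6,1,7,5],[53,182,185,181,137,227,181],[7,6,4,5,2,3,1,0]),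
  ([0,5,1,3,2,4,6,7],[0,2,4,3,5,1,6,7],[96,195,180,186,138,228,183],[0,1,2,3,4,5,7,6]),
  ([0,5,1,3,2,6,4,7],[0,2,4,3,6,1,5,7],[97,196,181,187,139,229,185],[6,7,5,4,3,2,0,1]),
  ([0,5,1,3,2,7,4,6],[0,2,4,3,6,1,7,5],[98,197,182,188,140,230,184],[7,6,5,4,3,2,1,0]),
  ([0,5,1,4,2,3,6,7],[0,2,4,5,3,1,6,7],[141,198,186,183,141,231,186],[0,1,2,3,4,5,7,6]),
  ([0,5,1,4,2,6,3,7],[0,2,4,6,3,1,5,7],[142,199,188,184,142,232,188],[0,1,3,2,4,5,7,6]),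
  ([0,5,1,4,2,7,3,6],[0,2,4,6,3,1,7,5],[143,200,187,185,143,233,187],[0,1,3,2,4,5,7,6]),
  ([0,5,1,6,2,3,4,7],[0,2,4,5,6,1,3,7],[234,201,189,190,144,234,192],[0,1,3,2,4,5,6,7]),
  ([0,5,1,6,2,4,3,7],[0,2,4,6,5,1,3,7],[235,202,191,189,145,235,193],[1,0,3,2,7,6,5,4]),
  ([0,5,1,6,2,7,3,4],[0,2,4,6,7,1,3,5],[236,203,190,191,146,236,194],[1,0,3,2,7,6,5,4]),
  ([0,5,1,7,2,3,4,6],[0,2,4,5,6,1,7,3],[279,204,192,193,147,237,189],[0,1,3,2,4,5,6,7]),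
  ([0,5,1,7,2,4,3,6],[0,2,4,6,5,1,7,3],[280,205,194,192,148,238,190],[1,0,3,2,6,7,4,5]),
  ([0,5,1,7,2,6,3,4],[0,2,4,6,7,1,5,3],[281,206,193,194,149,239,191],[1,0,3,2,6,7,4,5]),
  ([0,5,2,3,1,4,6,7],[0,4,2,3,5,1,6,7],[179,183,195,198,150,240,195],[0,1,2,3,4,5,7,6]),
  ([0,5,2,3,1,6,4,7],[0,4,2,3,6,1,5,7],[266,184,196,199,151,241,197],[0,1,3,2,4,5,6,7]),
  ([0,5,2,3,1,7,4,6],[0,4,2,3,6,1,7,5],[311,185,197,200,152,242,196],[0,1,3,2,4,5,6,7]),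
  ([0,5,2,4,1,3,6,7],[0,4,2,5,3,1,6,7],[134,186,207,195,153,243,198],[0,1,2,3,4,5,7,6]),
  ([0,5,2,4,1,6,3,7],[0,4,2,6,3,1,5,7],[260,187,208,196,154,244,200],[1,0,3,2,7,6,5,4]),
  ([0,5,2,4,1,7,3,6],[0,4,2,6,3,1,7,5],[305,188,209,197,155,245,199],[1,0,3,2,6,7,4,5]),
  ([0,5,2,6,1,3,4,7],[0,4,2,5,6,1,3,7],[124,189,210,202,156,246,204],[2,3,0,1,7,6,5,4]),
  ([0,5,2,6,1,4,3,7],[0,4,2,6,5,1,3,7],[169,190,211,201,157,247,205],[1,0,3,2,5,4,7,6]),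
  ([0,5,2,6,1,7,3,4],[0,4,2,6,7,1,3,5],[298,191,212,203,158,248,206],[1,0,3,2,6,7,4,5]),
  ([0,5,2,7,1,3,4,6],[0,4,2,5,6,1,7,3],[121,192,213,205,159,249,201],[2,3,0,1,6,7,4,5]),
  ([0,5,2,7,1,4,3,6],[0,4,2,6,5,1,7,3],[166,193,214,204,160,250,202],[1,0,3,2,5,4,7,6]),
  ([0,5,2,7,1,6,3,4],[0,4,2,6,7,1,5,3],[253,194,215,206,161,251,203],[1,0,3,2,7,6,5,4]),
  ([0,5,3,4,1,2,6,7],[0,4,5,2,3,1,6,7],[89,207,198,207,162,252,207],[0,1,2,3,4,5,7,6]),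
  ([0,5,3,4,1,6,2,7],[0,4,6,2,3,1,5,7],[251,209,199,208,163,253,209],[1,0,3,2,7,6,5,4]),
  ([0,5,3,4,1,7,2,6],[0,4,6,2,3,1,7,5],[296,208,200,209,164,254,208],[1,0,3,2,6,7,4,5]),
  ([0,5,3,6,1,2,4,7],[0,4,5,2,6,1,3,7],[79,210,201,216,165,255,213],[3,2,1,0,7,6,5,4]),
  ([0,5,3,6,1,4,2,7],[0,4,6,2,5,1,3,7],[160,212,202,217,166,256,214],[1,0,3,2,5,4,7,6]),
  ([0,5,3,6,1,7,2,4],[0,4,6,2,7,1,3,5],[289,211,203,218,167,257,215],[1,0,3,2,6,7,4,5]),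
  ([0,5,3,7,1,2,4,6],[0,4,5,2,6,1,7,3],[76,213,204,219,168,258,210],[3,2,1,0,6,7,4,5]),
  ([0,5,3,7,1,4,2,6],[0,4,6,2,5,1,7,3],[157,215,205,220,169,259,211],[1,0,3,2,5,4,7,6]),
  ([0,5,3,7,1,6,2,4],[0,4,6,2,7,1,5,3],[244,214,206,221,170,260,212],[1,0,3,2,7,6,5,4]),
  ([0,5,4,6,1,2,3,7],[0,4,5,6,2,1,3,7],[70,216,217,210,171,261,219],[7,6,4,5,2,3,1,0]),
  ([0,5,4,6,1,3,2,7],[0,4,6,5,2,1,3,7],[115,218,216,211,172,262,220],[7,6,5,4,3,2,1,0]),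
  ([0,5,4,6,1,7,2,3],[0,4,6,7,2,1,3,5],[286,217,218,212,173,263,221],[0,1,3,2,4,5,6,7]),
  ([0,5,4,7,1,2,3,6],[0,4,5,6,2,1,7,3],[67,219,220,213,174,264,216],[6,7,4,5,2,3,0,1]),
  ([0,5,4,7,1,3,2,6],[0,4,6,5,2,1,7,3],[112,221,219,214,175,265,217],[6,7,5,4,3,2,0,1]),
  ([0,5,4,7,1,6,2,3],[0,4,6,7,2,1,5,3],[241,220,221,215,176,266,218],[0,1,3,2,4,5,6,7]),
  ([0,5,6,7,1,2,3,4],[0,4,5,6,7,1,2,3],[60,222,223,222,177,267,222],[0,1,2,3,4,5,7,6]),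
  ([0,5,6,7,1,3,2,4],[0,4,6,5,7,1,2,3],[105,224,222,224,178,268,223],[0,1,2,3,4,5,7,6]),
  ([0,5,6,7,1,4,2,3],[0,4,6,7,5,1,2,3],[150,223,224,223,179,269,224],[0,1,2,3,4,5,7,6]),
  ([0,6,1,2,3,4,5,7],[0,2,3,4,5,6,1,7],[54,225,228,225,226,180,270],[4,5,7,6,0,1,3,2]),
  ([0,6,1,2,3,5,4,7],[0,2,3,4,6,5,1,7],[55,226,229,227,225,181,271],[5,4,7,6,1,0,3,2]),
  ([0,6,1,2,3,7,4,5],[0,2,3,4,6,7,1,5],[56,227,230,226,227,182,272],[0,1,2,3,5,4,6,7]),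
  ([0,6,1,3,2,4,5,7],[0,2,4,3,5,6,1,7],[99,240,225,231,229,183,273],[4,5,6,7,0,1,2,3]),
  ([0,6,1,3,2,5,4,7],[0,2,4,3,6,5,1,7],[100,241,226,232,228,184,274],[5,4,6,7,1,0,2,3]),
  ([0,6,1,3,2,7,4,5],[0,2,4,3,6,7,1,5],[101,242,227,233,230,185,275],[0,1,2,3,5,4,6,7]),
  ([0,6,1,4,2,3,5,7],[0,2,4,5,3,6,1,7],[144,243,231,228,234,186,276],[0,1,3,2,4,5,6,7]),
  ([0,6,1,4,2,5,3,7],[0,2,4,6,3,5,1,7],[145,244,233,229,235,187,277],[1,0,3,2,6,7,4,5]),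
  ([0,6,1,4,2,7,3,5],[0,2,4,6,3,7,1,5],[146,245,232,230,236,188,278],[1,0,3,2,6,7,4,5]),
  ([0,6,1,5,2,3,4,7],[0,2,4,5,6,3,1,7],[189,246,234,235,231,189,279],[0,1,3,2,4,5,6,7]),
  ([0,6,1,5,2,4,3,7],[0,2,4,6,5,3,1,7],[190,247,236,234,232,190,280],[1,0,3,2,7,6,5,4]),
  ([0,6,1,5,2,7,3,4],[0,2,4,6,7,3,1,5],[191,248,235,236,233,191,281],[1,0,3,2,7,6,5,4]),
  ([0,6,1,7,2,3,4,5],[0,2,4,5,6,7,1,3],[282,249,237,238,237,192,282],[0,1,2,3,5,4,6,7]),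
  ([0,6,1,7,2,4,3,5],[0,2,4,6,5,7,1,3],[283,250,239,237,239,193,283],[0,1,3,2,5,4,6,7]),
  ([0,6,1,7,2,5,3,4],[0,2,4,6,7,5,1,3],[284,251,238,239,238,194,284],[0,1,3,2,5,4,6,7]),
  ([0,6,2,3,1,4,5,7],[0,4,2,3,5,6,1,7],[176,228,240,243,241,195,285],[0,1,3,2,4,5,6,7]),
  ([0,6,2,3,1,5,4,7],[0,4,2,3,6,5,1,7],[221,229,241,244,240,196,286],[0,1,3,2,4,5,6,7]),
  ([0,6,2,3,1,7,4,5],[0,4,2,3,6,7,1,5],[308,230,242,245,242,197,287],[0,1,2,3,5,4,6,7]),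
  ([0,6,2,4,1,3,5,7],[0,4,2,5,3,6,1,7],[131,231,252,240,246,198,288],[2,3,0,1,6,7,4,5]),
  ([0,6,2,4,1,5,3,7],[0,4,2,6,3,5,1,7],[215,232,253,241,247,199,289],[1,0,3,2,7,6,5,4]),
  ([0,6,2,4,1,7,3,5],[0,4,2,6,3,7,1,5],[302,233,254,242,248,200,290],[1,0,3,2,5,4,7,6]),
  ([0,6,2,5,1,3,4,7],[0,4,2,5,6,3,1,7],[125,234,255,247,243,201,291],[2,3,0,1,7,6,5,4]),
  ([0,6,2,5,1,4,3,7],[0,4,2,6,5,3,1,7],[170,235,256,246,244,202,292],[1,0,3,2,6,7,4,5]),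
  ([0,6,2,5,1,7,3,4],[0,4,2,6,7,3,1,5],[299,236,257,248,245,203,293],[1,0,3,2,5,4,7,6]),
  ([0,6,2,7,1,3,4,5],[0,4,2,5,6,7,1,3],[118,237,258,250,249,204,294],[0,1,2,3,5,4,6,7]),
  ([0,6,2,7,1,4,3,5],[0,4,2,6,5,7,1,3],[163,238,259,249,251,205,295],[1,0,3,2,6,7,4,5]),
  ([0,6,2,7,1,5,3,4],[0,4,2,6,7,5,1,3],[208,239,260,251,250,206,296],[1,0,3,2,7,6,5,4]),
  ([0,6,3,4,1,2,5,7],[0,4,5,2,3,6,1,7],[86,252,243,252,255,207,297],[3,2,1,0,6,7,4,5]),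
  ([0,6,3,4,1,5,2,7],[0,4,6,2,3,5,1,7],[206,254,244,253,256,208,298],[1,0,3,2,7,6,5,4]),
  ([0,6,3,4,1,7,2,5],[0,4,6,2,3,7,1,5],[293,253,245,254,257,209,299],[1,0,3,2,5,4,7,6]),
  ([0,6,3,5,1,2,4,7],[0,4,5,2,6,3,1,7],[80,255,246,261,252,210,300],[3,2,1,0,7,6,5,4]),
  ([0,6,3,5,1,4,2,7],[0,4,6,2,5,3,1,7],[161,257,247,262,253,211,301],[1,0,3,2,6,7,4,5]),
  ([0,6,3,5,1,7,2,4],[0,4,6,2,7,3,1,5],[290,256,248,263,254,212,302],[1,0,3,2,5,4,7,6]),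
  ([0,6,3,7,1,2,4,5],[0,4,5,2,6,7,1,3],[73,258,249,264,258,213,303],[0,1,2,3,5,4,6,7]),
  ([0,6,3,7,1,4,2,5],[0,4,6,2,5,7,1,3],[154,260,250,265,260,214,304],[1,0,3,2,6,7,4,5]),
  ([0,6,3,7,1,5,2,4],[0,4,6,2,7,5,1,3],[199,259,251,266,259,215,305],[1,0,3,2,7,6,5,4]),
  ([0,6,4,5,1,2,3,7],[0,4,5,6,2,3,1,7],[71,261,262,255,261,216,306],[0,1,2,3,5,4,6,7]),
  ([0,6,4,5,1,3,2,7],[0,4,6,5,2,3,1,7],[116,263,261,256,262,217,307],[0,1,2,3,5,4,6,7]),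
  ([0,6,4,5,1,7,2,3],[0,4,6,7,2,3,1,5],[287,262,263,257,263,218,308],[0,1,2,3,5,4,6,7]),
  ([0,6,4,7,1,2,3,5],[0,4,5,6,2,7,1,3],[64,264,265,258,267,219,309],[5,4,7,6,1,0,3,2]),
  ([0,6,4,7,1,3,2,5],[0,4,6,5,2,7,1,3],[109,266,264,259,268,220,310],[5,4,6,7,1,0,2,3]),
  ([0,6,4,7,1,5,2,3],[0,4,6,7,2,5,1,3],[196,265,266,260,269,221,311],[0,1,3,2,4,5,6,7]),
  ([0,6,5,7,1,2,3,4],[0,4,5,6,7,2,1,3],[61,267,268,267,264,222,312],[4,5,7,6,0,1,3,2]),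
  ([0,6,5,7,1,3,2,4],[0,4,6,5,7,2,1,3],[106,269,267,269,265,223,313],[4,5,6,7,0,1,2,3]),
  ([0,6,5,7,1,4,2,3],[0,4,6,7,5,2,1,3],[151,268,269,268,266,224,314],[0,1,3,2,4,5,6,7]),
  ([0,7,1,2,3,4,5,6],[0,2,3,4,5,6,7,1],[57,270,273,270,271,270,225],[4,5,6,7,0,1,2,3]),
  ([0,7,1,2,3,5,4,6],[0,2,3,4,6,5,7,1],[58,271,274,272,270,272,226],[5,4,6,7,1,0,2,3]),
  ([0,7,1,2,3,6,4,5],[0,2,3,4,6,7,5,1],[59,272,275,271,272,271,227],[0,1,2,3,5,4,6,7]),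
  ([0,7,1,3,2,4,5,6],[0,2,4,3,5,6,7,1],[102,285,270,276,274,273,228],[4,5,7,6,0,1,3,2]),
  ([0,7,1,3,2,5,4,6],[0,2,4,3,6,5,7,1],[103,286,271,277,273,275,229],[5,4,7,6,1,0,3,2]),
  ([0,7,1,3,2,6,4,5],[0,2,4,3,6,7,5,1],[104,287,272,278,275,274,230],[0,1,2,3,5,4,6,7]),
  ([0,7,1,4,2,3,5,6],[0,2,4,5,3,6,7,1],[147,288,276,273,279,276,231],[0,1,3,2,4,5,6,7]),
  ([0,7,1,4,2,5,3,6],[0,2,4,6,3,5,7,1],[148,289,278,274,280,278,232],[1,0,3,2,7,6,5,4]),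
  ([0,7,1,4,2,6,3,5],[0,2,4,6,3,7,5,1],[149,290,277,275,281,277,233],[1,0,3,2,7,6,5,4]),
  ([0,7,1,5,2,3,4,6],[0,2,4,5,6,3,7,1],[192,291,279,280,276,282,234],[0,1,3,2,4,5,6,7]),
  ([0,7,1,5,2,4,3,6],[0,2,4,6,5,3,7,1],[193,292,281,279,277,283,235],[1,0,3,2,6,7,4,5]),
  ([0,7,1,5,2,6,3,4],[0,2,4,6,7,3,5,1],[194,293,280,281,278,284,236],[1,0,3,2,6,7,4,5]),
  ([0,7,1,6,2,3,4,5],[0,2,4,5,6,7,3,1],[237,294,282,283,282,279,237],[0,1,2,3,5,4,6,7]),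
  ([0,7,1,6,2,4,3,5],[0,2,4,6,5,7,3,1],[238,295,284,282,284,280,238],[0,1,3,2,5,4,6,7]),
  ([0,7,1,6,2,5,3,4],[0,2,4,6,7,5,3,1],[239,296,283,284,283,281,239],[0,1,3,2,5,4,6,7]),
  ([0,7,2,3,1,4,5,6],[0,4,2,3,5,6,7,1],[173,273,285,288,286,285,240],[0,1,3,2,4,5,6,7]),
  ([0,7,2,3,1,5,4,6],[0,4,2,3,6,5,7,1],[218,274,286,289,285,287,241],[0,1,3,2,4,5,6,7]),
  ([0,7,2,3,1,6,4,5],[0,4,2,3,6,7,5,1],[263,275,287,290,287,286,242],[0,1,2,3,5,4,6,7]),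
  ([0,7,2,4,1,3,5,6],[0,4,2,5,3,6,7,1],[128,276,297,285,291,288,243],[2,3,0,1,7,6,5,4]),
  ([0,7,2,4,1,5,3,6],[0,4,2,6,3,5,7,1],[212,277,298,286,292,290,244],[1,0,3,2,6,7,4,5]),
  ([0,7,2,4,1,6,3,5],[0,4,2,6,3,7,5,1],[257,278,299,287,293,289,245],[1,0,3,2,5,4,7,6]),
  ([0,7,2,5,1,3,4,6],[0,4,2,5,6,3,7,1],[122,279,300,292,288,294,246],[2,3,0,1,6,7,4,5]),
  ([0,7,2,5,1,4,3,6],[0,4,2,6,5,3,7,1],[167,280,301,291,289,295,247],[1,0,3,2,7,6,5,4]),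
  ([0,7,2,5,1,6,3,4],[0,4,2,6,7,3,5,1],[254,281,302,293,290,296,248],[1,0,3,2,5,4,7,6]),
  ([0,7,2,6,1,3,4,5],[0,4,2,5,6,7,3,1],[119,282,303,295,294,291,249],[0,1,2,3,5,4,6,7]),
  ([0,7,2,6,1,4,3,5],[0,4,2,6,5,7,3,1],[164,283,304,294,296,292,250],[1,0,3,2,7,6,5,4]),
  ([0,7,2,6,1,5,3,4],[0,4,2,6,7,5,3,1],[209,284,305,296,295,293,251],[1,0,3,2,6,7,4,5]),
  ([0,7,3,4,1,2,5,6],[0,4,5,2,3,6,7,1],[83,297,288,297,300,297,252],[3,2,1,0,7,6,5,4]),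
  ([0,7,3,4,1,5,2,6],[0,4,6,2,3,5,7,1],[203,299,289,298,301,299,253],[1,0,3,2,6,7,4,5]),
  ([0,7,3,4,1,6,2,5],[0,4,6,2,3,7,5,1],[248,298,290,299,302,298,254],[1,0,3,2,5,4,7,6]),
  ([0,7,3,5,1,2,4,6],[0,4,5,2,6,3,7,1],[77,300,291,306,297,303,255],[3,2,1,0,6,7,4,5]),
  ([0,7,3,5,1,4,2,6],[0,4,6,2,5,3,7,1],[158,302,292,307,298,304,256],[1,0,3,2,7,6,5,4]),
  ([0,7,3,5,1,6,2,4],[0,4,6,2,7,3,5,1],[245,301,293,308,299,305,257],[1,0,3,2,5,4,7,6]),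
  ([0,7,3,6,1,2,4,5],[0,4,5,2,6,7,3,1],[74,303,294,309,303,300,258],[0,1,2,3,5,4,6,7]),
  ([0,7,3,6,1,4,2,5],[0,4,6,2,5,7,3,1],[155,305,295,310,305,301,259],[1,0,3,2,7,6,5,4]),
  ([0,7,3,6,1,5,2,4],[0,4,6,2,7,5,3,1],[200,304,296,311,304,302,260],[1,0,3,2,6,7,4,5]),
  ([0,7,4,5,1,2,3,6],[0,4,5,6,2,3,7,1],[68,306,307,300,306,309,261],[0,1,2,3,5,4,6,7]),
  ([0,7,4,5,1,3,2,6],[0,4,6,5,2,3,7,1],[113,308,306,301,307,310,262],[0,1,2,3,5,4,6,7]),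
  ([0,7,4,5,1,6,2,3],[0,4,6,7,2,3,5,1],[242,307,308,302,308,311,263],[0,1,2,3,5,4,6,7]),
  ([0,7,4,6,1,2,3,5],[0,4,5,6,2,7,3,1],[65,309,310,303,312,306,264],[5,4,6,7,1,0,2,3]),
  ([0,7,4,6,1,3,2,5],[0,4,6,5,2,7,3,1],[110,311,309,304,313,307,265],[5,4,7,6,1,0,3,2]),
  ([0,7,4,6,1,5,2,3],[0,4,6,7,2,5,3,1],[197,310,311,305,314,308,266],[0,1,3,2,4,5,6,7]),
  ([0,7,5,6,1,2,3,4],[0,4,5,6,7,2,3,1],[62,312,313,312,309,312,267],[4,5,6,7,0,1,2,3]),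
  ([0,7,5,6,1,3,2,4],[0,4,6,5,7,2,3,1],[107,314,312,314,310,313,268],[4,5,7,6,0,1,3,2]),
  ([0,7,5,6,1,4,2,3],[0,4,6,7,5,2,3,1],[152,313,314,313,311,314,269],[0,1,3,2,4,5,6,7])]

def at' (l : List Nat) (i : Fin 8) : Fin 8 := Fin.ofNat 8 (l.getD i.val 0)

def good (g : Fin 8 → Fin 8) : Bool :=
  (List.range 8).all fun a => (List.range 8).all fun b =>
    (!Nat.beq (a / 2) (b / 2) || Nat.beq ((g (Fin.ofNat 8 a)).val / 2) ((g (Fin.ofNat 8 b)).val / 2)) &&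
    (!Nat.beq (a / 4) (b / 4) || Nat.beq ((g (Fin.ofNat 8 a)).val / 4) ((g (Fin.ofNat 8 b)).val / 4))

def row (k : Nat) : List Nat × List Nat × List Nat × List Nat := tbl.getD k ([], [], [], [])

def sw (j : Nat) (i : Fin 8) : Fin 8 :=
  if Nat.beq i.val j then Fin.ofNat 8 (j + 1) else if Nat.beq i.val (j + 1) then Fin.ofNat 8 j else i

def allFin (p : Fin 8 → Bool) : Bool := (List.range 8).all fun a => p (Fin.ofNat 8 a)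

def check (k : Nat) : Bool :=
  allFin (fun i => Nat.beq (at' (row k).1 (at' (row k).2.1 i)).val i.val) &&
  allFin (fun i => Nat.beq (at' (row k).2.1 (at' (row k).1 i)).val i.val) &&
  ((List.range 7).all fun j => Nat.blt ((row k).2.2.1.getD j 0) 315 &&
    good fun i => at' (row ((row k).2.2.1.getD j 0)).2.1 (sw j (at' (row k).1 i))) &&
  good (fun i => at' (row k).2.2.2 i) &&
  allFin (fun i => allFin fun j => Nat.beq i.val j.val || !Nat.beq (at' (row k).2.2.2 i).val (at' (row k).2.2.2 j).val) &&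
  !allFin (fun i => Nat.beq (at' (row k).2.2.2 i).val i.val) &&
  good fun i => at' (row k).2.1 (at' (row k).2.2.2 (at' (row k).1 i))

theorem check_ok : ((List.range 315).all check) = true := by decide +kernel

theorem allFin_iff (p : Fin 8 → Bool) : allFin p = true ↔ ∀ i, p i = true := by
  simp only [allFin, List.all_eq_true, List.mem_range]
  exact ⟨fun h i => by simpa using h i.val i.2, fun h a _ => h _⟩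

theorem good_iff (g : Fin 8 → Fin 8) : good g = true ↔
    ∀ a b : Fin 8, (a.val / 2 = b.val / 2 → (g a).val / 2 = (g b).val / 2) ∧
      (a.val / 4 = b.val / 4 → (g a).val / 4 = (g b).val / 4) := by
  simp only [good, List.all_eq_true, List.mem_range, Bool.and_eq_true, Bool.or_eq_true, Bool.not_eq_true',
    Nat.beq_eq]
  constructor
  · intro h a b
    have h' := h a.val a.2 b.val b.2
    simp only [Fin.ofNat_eq_cast, Fin.cast_val_eq_self] at h'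
    obtain ⟨h1, h2⟩ := h'
    refine ⟨fun e => h1.resolve_left ?_, fun e => h2.resolve_left ?_⟩ <;> simp [e]
  · intro h a ha b hb
    have h' := h (Fin.ofNat 8 a) (Fin.ofNat 8 b)
    simp only [Fin.val_ofNat, Nat.mod_eq_of_lt ha, Nat.mod_eq_of_lt hb] at h'
    refine ⟨?_, ?_⟩
    · by_cases e : a / 2 = b / 2
      · exact Or.inr (h'.1 e)
      · exact Or.inl (Bool.eq_false_iff.2 fun h => e (Nat.eq_of_beq_eq_true h))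
    · by_cases e : a / 4 = b / 4
      · exact Or.inr (h'.2 e)
      · exact Or.inl (Bool.eq_false_iff.2 fun h => e (Nat.eq_of_beq_eq_true h))

/-- The stabiliser of the nested partition into pairs and quadruples. -/
def std : Subgroup (Equiv.Perm (Fin 8)) where
  carrier := {g | good g = true}
  one_mem' := (good_iff _).2 fun a b => ⟨id, id⟩
  mul_mem' {g h} hg hh := by
    simp only [Set.mem_setOf_eq, good_iff] at *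
    exact fun a b => ⟨fun e => (hg _ _).1 ((hh a b).1 e), fun e => (hg _ _).2 ((hh a b).2 e)⟩
  inv_mem' {g} hg := by
    simp only [Set.mem_setOf_eq] at *
    have hpow : ∀ m : ℕ, good ((g ^ m : Equiv.Perm (Fin 8))) = true := by
      intro m
      induction m with
      | zero => exact (good_iff _).2 fun a b => ⟨id, id⟩
      | succ m ih =>
        rw [good_iff] at ih hg ⊢
        intro a b
        rw [pow_succ]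
        exact ⟨fun e => (ih _ _).1 ((hg a b).1 e), fun e => (ih _ _).2 ((hg a b).2 e)⟩
    have : g⁻¹ = g ^ (orderOf g - 1) := by
      refine inv_eq_of_mul_eq_one_right ?_
      rw [← pow_succ', Nat.sub_add_cancel (orderOf_pos g), pow_orderOf_eq_one]
    rw [this]; exact hpow _

theorem mem_std {g : Equiv.Perm (Fin 8)} : g ∈ std ↔ good g = true := Iff.rfl

theorem pow_eight {g : Equiv.Perm (Fin 8)} (hg : g ∈ std) : g ^ 8 = 1 := by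
  have key : ∀ g : Equiv.Perm (Fin 8), good g = true →
      (∀ x, ((g * g) x).val / 4 = x.val / 4) ∧
      ((∀ x, (g x).val / 4 = x.val / 4) → ∀ x, ((g * g) x).val / 2 = x.val / 2) ∧
      ((∀ x, (g x).val / 2 = x.val / 2) → g * g = 1) := by
    intro g hg
    rw [good_iff] at hg
    refine ⟨fun x => ?_, fun h4 x => ?_, fun h2 => Equiv.ext fun x => ?_⟩
    · show (g (g x)).val / 4 = x.val / 4
      by_cases hfix : ∀ y, (g y).val / 4 = y.val / 4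
      · rw [hfix, hfix]
      push Not at hfix
      obtain ⟨y, hy⟩ := hfix
      have hne : ∀ z, (g z).val / 4 ≠ z.val / 4 := by
        intro z hz
        by_cases e : z.val / 4 = y.val / 4
        · have := (hg z y).2 e; omega
        · obtain ⟨w, hw⟩ := g.surjective (Fin.ofNat 8 (4 * (y.val / 4)))
          have hwv : (g w).val / 4 = y.val / 4 := by rw [hw, Fin.val_ofNat]; omega
          have := (hg w y).2; have := (hg w z).2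
          omega
      have := hne x; have := hne (g x)
      omega
    · show (g (g x)).val / 2 = x.val / 2
      by_cases hfix : (g x).val / 2 = x.val / 2
      · rw [(hg (g x) x).1 hfix, hfix]
      by_contra hne
      obtain ⟨w, hw⟩ := g.surjective (Fin.ofNat 8 (2 * (x.val / 2)))
      have hwv : (g w).val / 2 = x.val / 2 := by rw [hw, Fin.val_ofNat]; omega
      have e1 := h4 x
      have e2 := h4 (g x)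
      have e3 := h4 w
      have k1 := (hg w (g x)).1
      have k2 := (hg w x).1
      omega
    · show g (g x) = x
      have e1 := h2 x
      have e2 := h2 (g x)
      by_cases hfix : g x = x
      · rw [hfix, hfix]
      have : g (g x) ≠ g x := fun h => hfix (g.injective h)
      simp only [ne_eq, Fin.ext_iff] at hfix this ⊢
      omega
  have h2 := mul_mem hg hg
  have h4 := mul_mem h2 h2
  have a := (key g hg).1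
  have b := (key _ h2).2.1 a
  have c := (key _ h4).2.2 b
  rw [← c]; simp only [pow_succ, pow_zero, one_mul, mul_assoc]

/-- A permutation from a row of the table. -/
def rep (k : Nat) (hk : k < 315) : Equiv.Perm (Fin 8) where
  toFun := at' (row k).1
  invFun := at' (row k).2.1
  left_inv i := by
    have h := List.all_eq_true.1 check_ok k (List.mem_range.2 hk)
    simp only [check, Bool.and_eq_true, allFin_iff, Nat.beq_eq] at h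
    exact Fin.ext (h.1.1.1.1.1.2 i)
  right_inv i := by
    have h := List.all_eq_true.1 check_ok k (List.mem_range.2 hk)
    simp only [check, Bool.and_eq_true, allFin_iff, Nat.beq_eq] at h
    exact Fin.ext (h.1.1.1.1.1.1 i)

theorem sw_eq : ∀ (j : Fin 7) (z : Fin 8), Equiv.swap j.castSucc j.succ z = sw j z := by decide

theorem exists_rep (x : Equiv.Perm (Fin 8)) : ∃ k hk, (rep k hk)⁻¹ * x ∈ std := by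
  have hx : x ∈ Submonoid.closure (Set.range fun i : Fin 7 => Equiv.swap i.castSucc i.succ) := by
    rw [Equiv.Perm.mclosure_swap_castSucc_succ]; trivial
  induction hx using Submonoid.closure_induction_left with
  | one =>
    refine ⟨0, by norm_num, ?_⟩
    rw [show rep 0 (by norm_num) = 1 by ext i; fin_cases i <;> rfl]
    simp
  | mul_left t ht y _ ih =>
    obtain ⟨j, rfl⟩ := ht
    obtain ⟨k, hk, hy⟩ := ih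
    have h := List.all_eq_true.1 check_ok k (List.mem_range.2 hk)
    simp only [check, Bool.and_eq_true, List.all_eq_true, List.mem_range] at h
    obtain ⟨hlt, hgood⟩ := h.1.1.1.1.2 j j.2
    have hlt' : (row k).2.2.1.getD j 0 < 315 := by simpa using hlt
    refine ⟨_, hlt', ?_⟩
    have hmem : (rep _ hlt')⁻¹ * Equiv.swap j.castSucc j.succ * rep k hk ∈ std := by
      rw [mem_std]
      convert hgood using 2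
      funext i
      show at' _ (Equiv.swap j.castSucc j.succ (at' _ i)) = _
      congr 1
      exact sw_eq j _
    have := mul_mem hmem hy
    simpa [mul_assoc] using this

theorem std_card : Nat.card std = 2 ^ 7 := by
  have hp : IsPGroup 2 std := fun g => ⟨3, Subtype.ext (by simpa using pow_eight g.2)⟩
  obtain ⟨a, ha⟩ := IsPGroup.iff_card.1 hp
  have hdvd := Subgroup.card_subgroup_dvd_card std
  rw [ha, Nat.card_eq_fintype_card, Fintype.card_perm, Fintype.card_fin] at hdvd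
  have hle : std.index ≤ 315 := by
    rw [Subgroup.index_eq_card]
    refine (Nat.card_le_card_of_surjective (fun k : Fin 315 => QuotientGroup.mk (rep k k.2)) ?_).trans
      (by rw [Nat.card_fin])
    intro c
    induction c using QuotientGroup.induction_on with
    | H x =>
      obtain ⟨k, hk, h⟩ := exists_rep x
      exact ⟨⟨k, hk⟩, QuotientGroup.eq.2 h⟩
  have hmul := std.card_mul_index
  rw [ha, Nat.card_eq_fintype_card, Fintype.card_perm, Fintype.card_fin] at hmul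
  have ha7 : a ≤ 7 := by
    by_contra hlt
    have h8 : 2 ^ 8 ∣ Nat.factorial 8 := (pow_dvd_pow 2 (by omega)).trans hdvd
    revert h8; decide
  rw [ha]
  interval_cases a <;> simp [Nat.factorial] at hmul ⊢ <;> omega

theorem meets (x : Equiv.Perm (Fin 8)) : std ⊓ std.map (MulAut.conj x).toMonoidHom ≠ ⊥ := by
  obtain ⟨k, hk, hx⟩ := exists_rep x
  have h := List.all_eq_true.1 check_ok k (List.mem_range.2 hk)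
  simp only [check, Bool.and_eq_true, allFin_iff] at h
  obtain ⟨⟨⟨⟨-, hg⟩, hi⟩, hne⟩, hc⟩ := h
  have hinj : Function.Injective fun i => at' (row k).2.2.2 i := fun a b e => by
    have := hi a b
    simp only [e] at this
    simpa [Fin.ext_iff] using this
  let w : Equiv.Perm (Fin 8) := Equiv.ofBijective _ (Finite.injective_iff_bijective.1 hinj)
  have hw : w ∈ std := hg
  have hw' : (rep k hk)⁻¹ * w * rep k hk ∈ std := hc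
  intro hb
  have : w ∈ std ⊓ std.map (MulAut.conj x).toMonoidHom := ⟨hw, x⁻¹ * w * x, ?_, by simp [mul_assoc]⟩
  · rw [hb, Subgroup.mem_bot] at this
    simp only [Bool.not_eq_true', ← Bool.not_eq_true, allFin_iff] at hne
    exact hne fun i => by
      have h1 : at' (row k).2.2.2 i = i := congrArg (fun e : Equiv.Perm (Fin 8) => e i) this
      rw [h1]; simp
  · have e : x⁻¹ * w * x = ((rep k hk)⁻¹ * x)⁻¹ * ((rep k hk)⁻¹ * w * rep k hk) * ((rep k hk)⁻¹ * x) := by group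
    rw [e]
    exact mul_mem (mul_mem (inv_mem hx) hw') hx


/-- In the symmetric group on 8 letters any two Sylow 2-subgroups have non-trivial intersection: for a Sylow 2-subgroup H and every element x, H ∩ xHx⁻¹ ≠ 1. -/
theorem result (H : Sylow 2 (Equiv.Perm (Fin 8))) (x : Equiv.Perm (Fin 8)) :
    (H : Subgroup (Equiv.Perm (Fin 8))) ⊓ (H : Subgroup (Equiv.Perm (Fin 8))).map (MulAut.conj x).toMonoidHom ≠ ⊥ := by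
  haveI : Fact (Nat.Prime 2) := ⟨Nat.prime_two⟩
  let P : Sylow 2 (Equiv.Perm (Fin 8)) := Sylow.ofCard std (by
    rw [std_card, Nat.card_eq_fintype_card, Fintype.card_perm, Fintype.card_fin]
    have h1 : Nat.factorial 8 = 2 ^ 7 * 315 := by decide
    rw [h1, Nat.factorization_mul (by norm_num) (by norm_num), Nat.Prime.factorization_pow Nat.prime_two]
    simp [Nat.factorization_eq_zero_of_not_dvd (show ¬ 2 ∣ 315 by norm_num)])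
  obtain ⟨g, rfl⟩ := MulAction.exists_smul_eq (Equiv.Perm (Fin 8)) P H
  intro hb
  refine meets (g⁻¹ * x * g) ((Subgroup.eq_bot_iff_forall _).2 fun w hw => ?_)
  obtain ⟨h1, y, hy, hyw⟩ := hw
  have : g * w * g⁻¹ = 1 := by
    rw [← Subgroup.mem_bot, ← hb]
    refine ⟨⟨w, h1, rfl⟩, g * y * g⁻¹, ⟨y, hy, rfl⟩, ?_⟩
    rw [← hyw]
    simp [mul_assoc]
  exact mul_eq_left.1 (mul_inv_eq_one.1 this)

end Cfsg.Agent.S5763
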