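import Cfsg.Statements.S5769
import Cfsg.Agent.Lib.Lie.Chev.E7SixtyFive
import Cfsg.Agent.Lib.Classical.OrderSixtyFive
-- import your own Cfsg.Agent.* helpers here

set_option autoImplicit false
open Cfsg

namespace Cfsg.Agent.S5769

theorem not_iso {X G : Type*} [Group X] [Group G] {H : Subgroup X} (key : ∀ x : X, orderOf x ≠ 65)
    (hG : ∃ g : G, orderOf g = 65) (e : ↥H ≃* G) : False :=
  let ⟨g, hg⟩ := hG
  key (e.symm g : ↥H) (by rw [Subgroup.orderOf_coe, MulEquiv.orderOf_eq, hg])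

/-- The Chevalley group of type E₇ over the field with two elements (generated by its root elements in the adjoint representation) has no subgroup isomorphic to any of PSL₂(64), PSp₄(8), PSL₄(8), PSU₄(8) or PSp₆(8). Here F₈ and F₆₄ denote fields with 8 and 64 elements. -/
theorem result {F₈ F₆₄ : Type*} [Field F₈] [Fintype F₈] (h8 : Fintype.card F₈ = 8) [Field F₆₄] [Fintype F₆₄] (h64 : Fintype.card F₆₄ = 64)
    (H : Subgroup ↥(Cfsg.Lie.chevE7.group (ZMod 2))) :
    IsEmpty (↥H ≃* Matrix.ProjectiveSpecialLinearGroup (Fin 2) F₆₄) ∧ IsEmpty (↥H ≃* Cfsg.PSp 2 F₈) ∧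
    IsEmpty (↥H ≃* Matrix.ProjectiveSpecialLinearGroup (Fin 4) F₈) ∧ IsEmpty (↥H ≃* Cfsg.PSU 4 F₆₄ 8) ∧ IsEmpty (↥H ≃* Cfsg.PSp 3 F₈) := by
  classical
  haveI : Fact (Nat.Prime 2) := ⟨Nat.prime_two⟩
  haveI : NeZero (12 : ℕ) := ⟨by norm_num⟩
  letI : Fintype (FiniteField.Extension (ZMod 2) 2 12) := Fintype.ofFinite _
  haveI : CharP (FiniteField.Extension (ZMod 2) 2 12) 2 :=
    charP_of_injective_ringHom (algebraMap (ZMod 2) (FiniteField.Extension (ZMod 2) 2 12)).injective 2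
  have key : ∀ x : ↥(Cfsg.Lie.chevE7.group (ZMod 2)), orderOf x ≠ 65 :=
    Cfsg.Agent.Lie.Chev.E7SixtyFive.orderOf_ne
      (algebraMap (ZMod 2) (FiniteField.Extension (ZMod 2) 2 12)) (ZMod.card 2)
      (frobenius (FiniteField.Extension (ZMod 2) 2 12) 2) (fun t => frobenius_def _ t)
      (by rw [← Nat.card_eq_fintype_card, FiniteField.natCard_extension, Nat.card_zmod])
  exact ⟨⟨not_iso key (SixtyFive.exists_psl_two h64)⟩, ⟨not_iso key (SixtyFive.exists_psp_four h8)⟩,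
    ⟨not_iso key (SixtyFive.exists_psl_four h8)⟩, ⟨not_iso key (SixtyFive.exists_psu_four h64)⟩,
    ⟨not_iso key (SixtyFive.exists_psp_six h8)⟩⟩

end Cfsg.Agent.S5769
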