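import Cfsg.Statements.S5775
import Cfsg.Agent.Lib.Classical.AschSLn

set_option autoImplicit false
set_option synthInstance.maxSize 4000
set_option synthInstance.maxHeartbeats 400000
set_option maxRecDepth 8000
open Cfsg Cfsg.Agent.Classical.Asch

namespace Cfsg.Agent.S5775

/-- Every maximal subgroup of SL_3(q) is of one of the listed geometric types or lies in the residual class. Let F be a finite field with q elements and H a maximal subgroup of SL_3(F) (viewed inside GL_3(F)). Then H is the intersection with SL_3(F) of one of: the stabiliser of a proper non-zero subspace; for q ≥ 5, the stabiliser of a decomposition of F^3 into three independent lines; for q ≠ 4, the normaliser of a degree-3 subfield of the matrix algebra; a subfield group for a subfield F₀ with |F| = |F₀|^r, r prime; for q = p ≡ 1 mod 3 prime, the normaliser of an absolutely irreducible 3-subgroup R of exponent 3 with centre of order 3, all of whose characteristic abelian subgroups are cyclic, of order 3^(1+2m)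 for some m ≥ 1, with F the smallest field of characteristic p containing the cube roots of unity (so R is extraspecial of order 27); for q odd, the similarity group of a non-degenerate quadratic form; the similarity group of a non-degenerate unitary form — or else H lies in the residual class of the linear case (modulo scalars H is almost simple, with absolutely irreducible perfect socle preimage realisable over no proper subfield and fixing no non-degenerate quadratic, symplectic or unitary form). -/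
theorem result {F : Type*} [Field F] [Fintype F] (H : Subgroup (Matrix.GeneralLinearGroup (Fin 3) F)) (hH : Cfsg.Geo.IsMaximalIn (Cfsg.Geo.specialLinear (Fin 3) F) H) :
    (∃ W : Submodule F (Fin 3 → F), W ≠ ⊥ ∧ W ≠ ⊤ ∧ H = Cfsg.Geo.subspaceStabilizer W ⊓ Cfsg.Geo.specialLinear (Fin 3) F) ∨
    (5 ≤ Fintype.card F ∧ ∃ D : Fin 3 → Submodule F (Fin 3 → F), Cfsg.Geo.IsMDecomposition 1 D ∧ H = Cfsg.Geo.decompositionStabilizer D ⊓ Cfsg.Geo.specialLinear (Fin 3) F) ∨
    (Fintype.card F ≠ 4 ∧ ∃ K : Subalgebra F (Matrix (Fin 3) (Fin 3) F), Cfsg.Geo.IsFieldSubalgebra 3 K ∧ H = Cfsg.Geo.subalgebraNormalizer K ⊓ Cfsg.Geo.specialLinear (Fin 3) F) ∨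
    (∃ (F₀ : Subfield F) (r : ℕ) (P : Matrix.GeneralLinearGroup (Fin 3) F), r.Prime ∧ Fintype.card F = Nat.card F₀ ^ r ∧ H = Cfsg.Geo.subfieldSubgroup F₀ P ⊓ Cfsg.Geo.specialLinear (Fin 3) F) ∨
    (∃ (p : ℕ) (R : Subgroup (Matrix.GeneralLinearGroup (Fin 3) F)), p.Prime ∧ Fintype.card F = p ∧ p % 3 = 1 ∧ Cfsg.Geo.IsLinearSymplecticTypeData 3 R ∧ H = Cfsg.Geo.subgroupNormalizer R ⊓ Cfsg.Geo.specialLinear (Fin 3) F) ∨
    (Odd (Fintype.card F) ∧ ∃ Q : (Fin 3 → F) → F, Cfsg.Geo.IsNondegenerateQuadraticForm Q ∧ H = Cfsg.Geo.quadSimilarityGroup Q ⊓ Cfsg.Geo.specialLinear (Fin 3) F) ∨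
    (∃ (σ : F ≃+* F) (f : (Fin 3 → F) → (Fin 3 → F) → F), Cfsg.Geo.IsUnitaryForm σ f ∧ H = Cfsg.Geo.similarityGroup f ⊓ Cfsg.Geo.specialLinear (Fin 3) F) ∨
    Cfsg.Geo.InLinearResidualClass H := by
  have hn : (3 : ℕ) ≤ 3 := by norm_num
  rcases (slShape hn hH).shape with ⟨W, h1, h2, h⟩ | ⟨t, m, D, hD, htm, hdvd, hlt, h⟩ |
    ⟨r, K, hr, hdvd, hK, h⟩ | ⟨a, b, e, P, ha, hab, hprod, h⟩ | ⟨m, t, e, P, hm, ht, hpow, h⟩ |
    ⟨F₀, r, P, hr, hc, h⟩ | ⟨r, m, R, hR, hrm, h⟩ | ⟨hodd, Q, hQ, h⟩ | ⟨heven, f, hf, h⟩ | ⟨σ, f, hf, h⟩ | h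
  · exact Or.inl (⟨W, h1, h2, h⟩)
  · obtain rfl : m = 1 := by
      have h1 : m ≠ 0 := hD.pos.ne'
      interval_cases m <;> omega
    · by_cases hq : 5 ≤ Fintype.card F
      · obtain rfl : t = 3 := by omega
        exact Or.inr (Or.inl (⟨hq, D, hD, h⟩))
      · have hq5 : Fintype.card F < 5 := by omega
        rcases lines_small hn hH hq5 htm hD h with h' | h' | h'
        · exact Or.inl (h')
        · exact Or.inr (Or.inr (Or.inr (Or.inr (Or.inr (Or.inl (h'))))))
        · exact Or.inr (Or.inr (Or.inr (Or.inr (Or.inr (Or.inr (Or.inl (h')))))))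
  · obtain rfl : r = 3 := by
      have h1 := hr.two_le
      have h2 := Nat.le_of_dvd (by norm_num) hdvd
      interval_cases r <;> first | omega | (exfalso; revert hr; norm_num)
    by_cases hq : Fintype.card F = 4
    · exact Or.inr (Or.inr (Or.inr (Or.inl (cubic_small hH hq hK h))))
    · exact Or.inr (Or.inr (Or.inl (⟨hq, K, hK, h⟩)))
  · exfalso
    have h1 : a ≤ 3 := by nlinarith
    interval_cases a <;> omega
  · have h1 := (wreath_shape hm ht (by norm_num) hpow).2.2
    omega
  · exact Or.inr (Or.inr (Or.inr (Or.inl (⟨F₀, r, P, hr, hc, h⟩))))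
  · have hrp := hR.symplecticType.prime
    obtain rfl := prime_pow_eq hrp hrm (k := 3) (by norm_num) (by norm_num)
    obtain ⟨p, hp, hc, hp1⟩ := class_six_one hR (by decide) (by decide)
    exact Or.inr (Or.inr (Or.inr (Or.inr (Or.inl (⟨p, R, hp, hc, hp1, hR, h⟩)))))
  · exact Or.inr (Or.inr (Or.inr (Or.inr (Or.inr (Or.inl (⟨hodd, Q, hQ, h⟩))))))
  · exact absurd heven (by decide)
  · exact Or.inr (Or.inr (Or.inr (Or.inr (Or.inr (Or.inr (Or.inl (⟨σ, f, hf, h⟩)))))))
  · exact Or.inr (Or.inr (Or.inr (Or.inr (Or.inr (Or.inr (Or.inr (h)))))))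

end Cfsg.Agent.S5775
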