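import Cfsg.Statements.S5776
import Cfsg.Agent.Lib.Classical.Residual.Bridge

set_option autoImplicit false
open Cfsg Cfsg.Geo
open Cfsg.Agent.Classical.Residual

namespace Cfsg.Agent.S5776

/-- The maximal subgroups of SL_3(q) in the residual class. Let F be a finite field with q elements of characteristic p, and let H be a maximal subgroup of SL_3(F) lying in the residual class of the linear case. Then the perfect socle preimage P of H (the subgroup given by the residual-class conditions) satisfies one of: P modulo scalars is isomorphic to the simple group of order 168 (written here as PSL_3(2)) and q = p with p ≠ 2 and p ≡ 1, 2 or 4 mod 7; or P modulo scalars is isomorphic to the alternating group A_6 and either q = p with p ≡ 1 or 4 mod 15, or q = p² with p ≡ 2 or 3 mod 5 and p ≠ 3. -/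
theorem result {F : Type*} [Field F] [Fintype F] (H : Subgroup (Matrix.GeneralLinearGroup (Fin 3) F)) (hH : Cfsg.Geo.IsMaximalIn (Cfsg.Geo.specialLinear (Fin 3) F) H) (hS : Cfsg.Geo.InLinearResidualClass H) :
    ∃ (P : Subgroup (Matrix.GeneralLinearGroup (Fin 3) F)) (p : ℕ), Cfsg.Geo.IsResidualCore H P ∧ p.Prime ∧ CharP F p ∧
    ((Nonempty ((P ⧸ (Cfsg.Geo.scalars (Fin 3) F).subgroupOf P) ≃* Matrix.ProjectiveSpecialLinearGroup (Fin 3) (ZMod 2)) ∧
        Fintype.card F = p ∧ p ≠ 2 ∧ (p % 7 = 1 ∨ p % 7 = 2 ∨ p % 7 = 4)) ∨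
     (Nonempty ((P ⧸ (Cfsg.Geo.scalars (Fin 3) F).subgroupOf P) ≃* alternatingGroup (Fin 6)) ∧
        ((Fintype.card F = p ∧ (p % 15 = 1 ∨ p % 15 = 4)) ∨ (Fintype.card F = p ^ 2 ∧ p ≠ 3 ∧ (p % 5 = 2 ∨ p % 5 = 3))))) := by
  obtain ⟨P, hC, hQ, -, hU⟩ := hS
  obtain ⟨p, hpF⟩ := CharP.exists F
  haveI := hpF
  obtain ⟨α, hp, hα⟩ := FiniteField.card F p
  haveI : Fact p.Prime := ⟨hp⟩
  have K := core_of_residual hC hQ
  have hno : NoUnit (sPart P) := by
    rintro ⟨σ, f, hf, hfix⟩
    refine hU ⟨σ, f, hf, ?_⟩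
    rintro _ ⟨x, hx, rfl⟩ u v
    obtain ⟨g, hg, rfl⟩ := exists_lift hC hx
    exact hfix g hg u v
  have htop : sPart P ≠ ⊤ := fun h => by
    refine hH.1.ne (le_antisymm hH.1.le (le_trans ?_ hC.le))
    rw [← sPart_map hC, h, ← MonoidHom.range_eq_map, special_eq_range]
  refine ⟨P, p, hC, hp, hpF, ?_⟩
  rcases K.cases_all p α hα with h | h | h | h
  · rcases h with h | ⟨r, -, -, hn, -⟩
    · exact absurd h htop
    · exact absurd hno hn
  · left
    obtain ⟨h1, hmod⟩ := id h.2 |>.elim (fun a => a) (fun a => absurd hno (K.unitary_of_unitTr a.1 a.2.2))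
    refine ⟨iso_psl32 hC h, h1, fun e => ?_, hmod⟩
    subst e
    refine htop ?_
    haveI : Fact (Nat.Prime 2) := ⟨Nat.prime_two⟩
    let f : F ≃+* ZMod 2 := FiniteField.ringEquivOfCardEq (by rw [h1, ZMod.card])
    have hc : Nat.card (Matrix.SpecialLinearGroup (Fin 3) F) = 168 := by
      obtain ⟨g⟩ : Nonempty (Matrix.SpecialLinearGroup (Fin 3) F ≃* Cfsg.Agent.Fus.HeUniq.SL3) :=
        ⟨MonoidHom.toMulEquiv
          (Matrix.SpecialLinearGroup.map (f : F →+* ZMod 2)) (Matrix.SpecialLinearGroup.map (f.symm : ZMod 2 →+* F))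
          (MonoidHom.ext fun x => by ext i j; exact f.symm_apply_apply _)
          (MonoidHom.ext fun x => by ext i j; exact f.apply_symm_apply _)⟩
      rw [Nat.card_congr g.toEquiv, Cfsg.Agent.Fus.HeUniq.card_sl3]
    obtain ⟨e⟩ := h.1
    refine Subgroup.eq_top_of_le_card _ ?_
    rw [hc, ← card_psl7, ← Nat.card_congr e.toEquiv]
    exact Nat.le_of_dvd Nat.card_pos (Subgroup.card_map_dvd _ _)
  · right
    refine ⟨iso_of_map hC h.1, ?_⟩
    rcases h.2 with h2 | ⟨hF, hp3, -, hnU⟩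
    · exact Or.inl h2
    · exact Or.inr ⟨hF, hp3, hnU fun hu => absurd hno (K.unitary_of_unitTr hF hu)⟩
  · exact absurd hno (K.unitary_of_unitTr (r := 5) (by rw [h.2.2.1]; norm_num) h.2.2.2)

end Cfsg.Agent.S5776
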