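import Cfsg.Statements.S5778
import Cfsg.Agent.Lib.Classical.AschUnitShape
import Cfsg.Agent.Lib.Classical.AschUnitThree
import Cfsg.Agent.Lib.Classical.AschUnitThreeFrame
import Cfsg.Agent.Lib.Classical.AschUnitThreeField
import Cfsg.Agent.Lib.Classical.AschUnitThreeExtra
-- import your own Cfsg.Agent.* helpers here

set_option autoImplicit false
open Cfsg

namespace Cfsg.Agent.S5778
open Cfsg.Agent.Classical Cfsg.Agent.Classical.Asch Module Cfsg.Geo

/-- Every maximal subgroup of SU_3(q), q ≥ 3, is of one of the listed geometric types or lies in the residual class. Let F be the field with q² elements, f the standard unitary form Σ u_i v_i^q on F^3, and H a maximal subgroup of SU_3(q) (the determinant-one isometries of f, inside GL_3(F)). Then H is the intersection with SU_3(q) of one of: the stabiliser of a non-zero subspace on which f vanishes; the stabiliser of a non-degenerate 1-space; for q ≠ 5, the stabiliser of a decomposition into three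 mutually orthogonal non-degenerate 1-spaces; for q ≠ 3, 5, the normaliser of an adjoint-closed degree-3 subfield of the matrix algebra; a subfield group of odd prime index whose F₀-structure carries f; for q odd, q ≥ 7, a subfield group of index 2 whose F₀-structure carries f; for q = p ≡ 2 mod 3 prime with p ≥ 11, the normaliser of an absolutely irreducible subgroup of order 27 with centre of order 3, exponent 3 and all characteristic abelian subgroups cyclic, contained in the similarity group of f — or else H lies in the residual class of the unitary case. -/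
theorem result {F : Type*} [Field F] [Fintype F] (q : ℕ) (hF : Fintype.card F = q ^ 2) (hq : 3 ≤ q) (H : Subgroup (Matrix.GeneralLinearGroup (Fin 3) F)) (hH : Cfsg.Geo.IsMaximalIn (Cfsg.GU 3 F q ⊓ Cfsg.Geo.specialLinear (Fin 3) F) H) :
    (∃ W : Submodule F (Fin 3 → F), W ≠ ⊥ ∧ Cfsg.Geo.IsTotallySingularFor (Cfsg.hermForm 3 F q) W ∧ H = Cfsg.Geo.subspaceStabilizer W ⊓ (Cfsg.GU 3 F q ⊓ Cfsg.Geo.specialLinear (Fin 3) F)) ∨
    (∃ W : Submodule F (Fin 3 → F), W ≠ ⊥ ∧ Cfsg.Geo.IsNondegenerateOn (Cfsg.hermForm 3 F q) W ∧ 2 * Module.finrank F W < 3 ∧ H = Cfsg.Geo.subspaceStabilizer W ⊓ (Cfsg.GU 3 F q ⊓ Cfsg.Geo.specialLinear (Fin 3) F)) ∨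
    (q ≠ 5 ∧ ∃ D : Fin 3 → Submodule F (Fin 3 → F), Cfsg.Geo.IsNondegenerateMDecomposition (Cfsg.hermForm 3 F q) 1 D ∧ H = Cfsg.Geo.decompositionStabilizer D ⊓ (Cfsg.GU 3 F q ⊓ Cfsg.Geo.specialLinear (Fin 3) F)) ∨
    (q ≠ 3 ∧ q ≠ 5 ∧ ∃ K : Subalgebra F (Matrix (Fin 3) (Fin 3) F), Cfsg.Geo.IsFieldSubalgebra 3 K ∧ Cfsg.Geo.IsAdjointClosedFor (Cfsg.hermForm 3 F q) K ∧ H = Cfsg.Geo.subalgebraNormalizer K ⊓ (Cfsg.GU 3 F q ⊓ Cfsg.Geo.specialLinear (Fin 3) F)) ∨
    (∃ (F₀ : Subfield F) (r : ℕ) (P : Matrix.GeneralLinearGroup (Fin 3) F), r.Prime ∧ Odd r ∧ Fintype.card F = Nat.card F₀ ^ r ∧ Cfsg.Geo.IsFormRationalStructure (Cfsg.hermForm 3 F q) F₀ 1 P ∧ H = Cfsg.Geo.subfieldSubgroup F₀ P ⊓ (Cfsg.GU 3 F q ⊓ Cfsg.Geo.specialLinear (Fin 3) F)) ∨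
    (Odd q ∧ 7 ≤ q ∧ ∃ (F₀ : Subfield F) (P : Matrix.GeneralLinearGroup (Fin 3) F), Fintype.card F = Nat.card F₀ ^ 2 ∧ Cfsg.Geo.IsFormRationalStructure (Cfsg.hermForm 3 F q) F₀ 1 P ∧ H = Cfsg.Geo.subfieldSubgroup F₀ P ⊓ (Cfsg.GU 3 F q ⊓ Cfsg.Geo.specialLinear (Fin 3) F)) ∨
    (∃ (p : ℕ) (R : Subgroup (Matrix.GeneralLinearGroup (Fin 3) F)), p.Prime ∧ q = p ∧ p % 3 = 2 ∧ 11 ≤ p ∧ Cfsg.Geo.IsSymplecticTypeGroup 3 R ∧ Cfsg.Geo.ActsAbsolutelyIrreducibly (Cfsg.Geo.matrixSet R) ∧ R ≤ Cfsg.Geo.similarityGroup (Cfsg.hermForm 3 F q) ∧ Nat.card R = 27 ∧ Nat.card (Subgroup.center R) = 3 ∧ H = Cfsg.Geo.subgroupNormalizer R ⊓ (Cfsg.GU 3 F q ⊓ Cfsg.Geo.specialLinear (Fin 3) F)) ∨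
    Cfsg.Geo.InUnitaryResidualClass H := by
  haveI : Nonempty (Fin 3) := ⟨0⟩
  rcases aschbacher_unit_dim (le_refl 3) hF (hH.1.le.trans inf_le_left) with ⟨M, hM, hle⟩ | h
  swap
  · exact Or.inr (Or.inr (Or.inr (Or.inr (Or.inr (Or.inr (Or.inr h))))))
  rcases hM with (⟨W, h1, h2, rfl⟩ | ⟨W, h1, h2, h3, rfl⟩ | ⟨t, k, D, hD, rfl⟩ | ⟨k, D, hk, hD, hts, rfl⟩ |
    ⟨F₀, r, P, hr, hro, hc, hrat, rfl⟩ | ⟨F₀, P, hodd, hc, hrat, rfl⟩ |
    ⟨F₀, P, ζ, hev, hc, hζ, hz, hrat, halt, rfl⟩ |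
    ⟨r, R, p, e, k, hR, hai, hsim, hrp, hmin, hcases, hscal, hdim, rfl⟩) |
    ⟨r, K, hr, hro, hK, hac, rfl⟩ | ⟨a, b, e, P, f₁, f₂, ha, hab, hf₁, hf₂, hst, rfl⟩ |
    ⟨k, t, e, P, f₁, hk, ht, hex, hf₁, hst, rfl⟩
  · have hWtop : W ≠ ⊤ := by
      intro h
      subst h
      obtain ⟨v, hv0, -, hv⟩ := exists_iso_not_perp hF (le_refl 3) (u := (Pi.single 0 1 : Fin 3 → F)) (by simp)
      exact hv (h2 _ trivial v trivial)
    exact Or.inl ⟨W, h1, h2, su_eq_inter hH (hle.trans inf_le_left) (not_su_le_subspace hF le_rfl h1 hWtop)⟩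
  · have hWtop : W ≠ ⊤ := by
      intro h
      subst h
      rw [finrank_top, Module.finrank_fin_fun] at h3
      omega
    exact Or.inr (Or.inl ⟨W, h1, h2, h3,
      su_eq_inter hH (hle.trans inf_le_left) (not_su_le_subspace hF le_rfl h1 hWtop)⟩)
  · have hc : t * k = 3 := by simpa using MaxMon.decomp_card hD.decomp
    have hk1 := hD.decomp.pos
    have ht2 := hD.decomp.two_le
    obtain rfl : k = 1 := by nlinarith
    obtain rfl : t = 3 := by omega
    by_cases h5 : q = 5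
    · subst h5
      exact (UnitThree.frame_five hF hH hD (hle.trans inf_le_left)).elim
    · exact Or.inr (Or.inr (Or.inl ⟨h5, D, hD,
        su_eq_inter hH (hle.trans inf_le_left) (UnitThree.not_su_le_lines hF le_rfl hq hD.decomp)⟩))
  · omega
  · exact Or.inr (Or.inr (Or.inr (Or.inr (Or.inl ⟨F₀, r, P, hr, hro, hc, hrat,
      su_eq_inter hH (hle.trans inf_le_left)
        (UnitThree.not_su_le_subfield_three hF (subfield_ne_top hr hc) P)⟩))))
  · by_cases h7 : 7 ≤ q
    · exact Or.inr (Or.inr (Or.inr (Or.inr (Or.inr (Or.inl ⟨hodd, h7, F₀, P, hc, hrat,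
        su_eq_inter hH (hle.trans inf_le_left)
          (UnitThree.not_su_le_subfield_three hF (subfield_two_ne_top hc) P)⟩)))))
    · have hq35 : q = 3 ∨ q = 5 := by
        obtain ⟨m, rfl⟩ := hodd
        omega
      exact (UnitThree.rational_small hF hq35 hH hc hrat (hle.trans inf_le_left)).elim
  · exact absurd hev (by decide)
  · have hk : k ≠ 0 := by rintro rfl; norm_num at hdim
    rcases hcases with ⟨ho, hcen, -, hcard⟩ | ⟨rfl, rfl, hcen, hcard⟩
    · obtain ⟨rfl, rfl⟩ := Nat.Prime.pow_inj' hR.prime Nat.prime_three hk one_ne_zero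
        (hdim.symm.trans (pow_one 3).symm)
      rw [hcen] at hmin
      obtain ⟨hp, hchar, d, he2, hqd, hd, hlt, he, hm⟩ := unit_class_six ho hR.prime hrp hF hmin
      obtain rfl : d = 1 := by omega
      rw [pow_one] at hqd
      subst hqd
      have hq3 : q % 3 = 2 := by
        have h1 := hm 1 one_pos (by omega)
        rw [pow_one, Nat.mod_mod] at h1
        have h0 : q % 3 ≠ 0 := fun h0 =>
          hrp ((Nat.prime_dvd_prime_iff_eq Nat.prime_three hp).1 (Nat.dvd_of_mod_eq_zero h0))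
        omega
      have h5 : 5 ≤ q := by
        rcases hp.eq_two_or_odd with h | h <;> omega
      have hexp : ∀ x ∈ R, x ^ 3 = 1 := fun x hx => by
        have h1 := Monoid.pow_exponent_eq_one (⟨x, hx⟩ : R)
        rw [hR.exponent_eq] at h1
        simpa using congrArg Subtype.val h1
      have h27 : Nat.card R = 27 := hcard.trans (by norm_num)
      by_cases h11 : 11 ≤ q
      · exact Or.inr (Or.inr (Or.inr (Or.inr (Or.inr (Or.inr (Or.inl ⟨q, R, hp, rfl, hq3, h11, hR, hai, hsim, h27,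
          hcen, su_eq_inter hH (hle.trans inf_le_left)
            (UnitThree.not_su_le_normalizer_three hF hp h5 hai h27 hcen)⟩))))))
      · obtain rfl : q = 5 := by
          interval_cases q <;> first | rfl | omega | exact absurd hp (by norm_num)
        exact (UnitThree.extraspecial_five hF hH hexp hsim hai hscal h27 (hle.trans inf_le_left)).elim
    · have := Nat.Prime.pow_inj' Nat.prime_two Nat.prime_three hk one_ne_zero (hdim.symm.trans (pow_one 3).symm)
      omega
  · have hdvd : r ∣ 3 := by simpa using field_degree_dvd hK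
    obtain rfl := (Nat.prime_dvd_prime_iff_eq hr Nat.prime_three).1 hdvd
    by_cases h35 : q = 3 ∨ q = 5
    · exact (UnitThree.field_small hF h35 hH hK hac (hle.trans inf_le_left)).elim
    · exact Or.inr (Or.inr (Or.inr (Or.inl ⟨fun h => h35 (Or.inl h), fun h => h35 (Or.inr h), K, hK, hac,
        su_eq_inter hH (hle.trans inf_le_left) (not_su_le_field hF le_rfl (by norm_num) hK)⟩)))
  · exfalso
    have hc : a * b = 3 := by
      have := Fintype.card_congr e
      simpa using this.symm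
    nlinarith
  · exfalso
    have hc : k ^ t = 3 := by
      have := Fintype.card_congr e
      simpa using this.symm
    have hkt : k ^ 2 ≤ k ^ t := Nat.pow_le_pow_right (by omega) ht
    have : 3 ^ 2 ≤ k ^ 2 := Nat.pow_le_pow_left hk 2
    omega

end Cfsg.Agent.S5778
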