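import Cfsg.Statements.S5779
import Cfsg.Agent.Lib.Classical.Residual.Bridge

set_option autoImplicit false
open Cfsg Cfsg.Geo
open Cfsg.Agent.Classical.Residual

namespace Cfsg.Agent.S5779

/-- The maximal subgroups of SU_3(q), q ≥ 3, in the residual class. Let F be the field with q² elements and H a maximal subgroup of SU_3(q) (determinant-one isometries of the standard unitary form on F^3) lying in the residual class of the unitary case. Then q = p is prime and the perfect socle preimage P of H satisfies one of: P modulo scalars is isomorphic to the simple group of order 168 (written PSL_3(2)) and p ≡ 3, 5 or 6 mod 7 with p ≠ 5; or P modulo scalars is isomorphic to A_6 and either p ≡ 11 or 14 mod 15 or p = 5; or P modulo scalars is isomorphic to A_7 and p = 5. -/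
theorem result {F : Type*} [Field F] [Fintype F] (q : ℕ) (hF : Fintype.card F = q ^ 2) (hq : 3 ≤ q) (H : Subgroup (Matrix.GeneralLinearGroup (Fin 3) F)) (hH : Cfsg.Geo.IsMaximalIn (Cfsg.GU 3 F q ⊓ Cfsg.Geo.specialLinear (Fin 3) F) H) (hS : Cfsg.Geo.InUnitaryResidualClass H) :
    ∃ P : Subgroup (Matrix.GeneralLinearGroup (Fin 3) F), Cfsg.Geo.IsResidualCore H P ∧ q.Prime ∧
    ((Nonempty ((P ⧸ (Cfsg.Geo.scalars (Fin 3) F).subgroupOf P) ≃* Matrix.ProjectiveSpecialLinearGroup (Fin 3) (ZMod 2)) ∧ q ≠ 5 ∧ (q % 7 = 3 ∨ q % 7 = 5 ∨ q % 7 = 6)) ∨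
     (Nonempty ((P ⧸ (Cfsg.Geo.scalars (Fin 3) F).subgroupOf P) ≃* alternatingGroup (Fin 6)) ∧ (q % 15 = 11 ∨ q % 15 = 14 ∨ q = 5)) ∨
     (Nonempty ((P ⧸ (Cfsg.Geo.scalars (Fin 3) F).subgroupOf P) ≃* alternatingGroup (Fin 7)) ∧ q = 5)) := by
  obtain ⟨P, hC, hQ, -⟩ := hS
  obtain ⟨p, hpF⟩ := CharP.exists F
  haveI := hpF
  obtain ⟨α, hp, hα⟩ := FiniteField.card F p
  haveI : Fact p.Prime := ⟨hp⟩
  have K := core_of_residual hC hQ
  have hle : (sPart P).map Matrix.SpecialLinearGroup.toGL ≤ H := (sPart_map hC).le.trans hC.le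
  have htr : UnitTr (sPart P) q := unitTr_of_le hF (hle.trans (hH.1.le.trans inf_le_left))
  have not_prime : Fintype.card F ≠ p := fun e => by
    have hdvd : q ∣ p := by rw [← e, hF]; exact dvd_pow_self q two_ne_zero
    rcases (Nat.dvd_prime hp).1 hdvd with h | h
    · omega
    · rw [e, h] at hF
      have := Nat.pow_lt_pow_right hp.one_lt (show 1 < 2 by norm_num)
      rw [pow_one] at this
      omega
  have hqp : Fintype.card F = p ^ 2 → q = p := fun e =>
    Nat.pow_left_injective two_ne_zero (hF.symm.trans e)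
  refine ⟨P, hC, ?_⟩
  rcases K.cases_all p α hα with h | h | h | h
  · exfalso
    rcases h with h | ⟨r, hr, -, -, hcard⟩
    · refine hH.1.ne (le_antisymm hH.1.le ?_)
      refine le_trans inf_le_right (le_trans ?_ hle)
      rw [h, ← MonoidHom.range_eq_map, special_eq_range]
    · rw [show r = q from Nat.pow_left_injective two_ne_zero (hr.symm.trans hF), ← card_SU3,
        ← Subgroup.card_map_of_injective (K := sPart P) toGL_inj] at hcard
      exact hH.1.ne (le_antisymm hH.1.le
        ((Subgroup.eq_of_le_of_card_ge (hle.trans hH.1.le) hcard.ge).ge.trans hle))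
  · rcases h.2 with h2 | ⟨hc, hmod, -⟩
    · exact absurd h2.1 not_prime
    obtain rfl := hqp hc
    refine ⟨hp, Or.inl ⟨iso_psl32 hC h, fun e => ?_, hmod⟩⟩
    subst e
    refine K.seven_five_false h hF hH hle fun y hy x hx => ?_
    rw [sPart_map hC] at hx ⊢
    exact hC.normal y hy x hx
  · rcases h.2 with h2 | ⟨hc, -, hmod, -⟩
    · exact absurd h2.1 not_prime
    obtain rfl := hqp hc
    exact ⟨hp, Or.inr (Or.inl ⟨iso_of_map hC h.1, hmod htr⟩)⟩
  · obtain ⟨h1, h5, h25, -⟩ := h
    subst h5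
    obtain rfl := hqp (by rw [h25]; norm_num)
    exact ⟨hp, Or.inr (Or.inr ⟨iso_of_map hC h1, rfl⟩)⟩

end Cfsg.Agent.S5779
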