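import Cfsg.Statements.S5780
import Cfsg.Agent.Lib.Classical.LinFour.Lines
import Cfsg.Agent.Lib.Classical.LinFour.C6
import Cfsg.Agent.Lib.Classical.MaxLinWreath
import Cfsg.Agent.Lib.Classical.MaxLinearSubfield
import Cfsg.Agent.Lib.Classical.MaxLinearSubspace
import Cfsg.Agent.Lib.Classical.MaxOverfieldMain
import Cfsg.Agent.Lib.Classical.MaxQuadratic
import Cfsg.Agent.Lib.Classical.MaxHermitian
import Cfsg.Agent.Lib.Classical.MaxLinApps

set_option autoImplicit false
open Cfsg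

namespace Cfsg.Agent.S5780

/-- Maximal subgroups of SL_4(q) of geometric type, for a finite field F with q elements (any q). Each of the following subgroups of GL_4(F), intersected with SL_4(F), is a maximal subgroup of SL_4(F): (1) the stabiliser of any proper non-zero subspace of F^4; (2) for q ≥ 7, the stabiliser of any decomposition of F^4 into four independent lines; (3) for q ≥ 4, the stabiliser of any decomposition of F^4 into two independent planes; (4) the normaliser of any degree-2 subfield of the 4 × 4 matrix algebra over F; (5) every subfield group for a subfield F₀ with |F| = |F₀|^r, r prime; (6) for q = p prime with p ≡ 1 mod 4, the normaliser of any absolutely irreducible 2-subgroup R of exponent 4 with centre of order 4, all of whose characteristic abelian subgroups are cyclic, of order 2^(2+2m) for some m (here |R| = 64), with 4 dividing p − 1; (7) for q odd, the group of similarities of any non-degenerate quadratic form on F^4 (of either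 sign); (8) the group of similarities of any non-degenerate symplectic form on F^4; (9) the group of similarities of any non-degenerate unitary form on F^4. -/
theorem result {F : Type*} [Field F] [Fintype F] :
    (∀ W : Submodule F (Fin 4 → F), W ≠ ⊥ → W ≠ ⊤ → Cfsg.Geo.IsMaximalIn (Cfsg.Geo.specialLinear (Fin 4) F) (Cfsg.Geo.subspaceStabilizer W ⊓ Cfsg.Geo.specialLinear (Fin 4) F)) ∧
    (7 ≤ Fintype.card F → ∀ D : Fin 4 → Submodule F (Fin 4 → F), Cfsg.Geo.IsMDecomposition 1 D → Cfsg.Geo.IsMaximalIn (Cfsg.Geo.specialLinear (Fin 4) F) (Cfsg.Geo.decompositionStabilizer D ⊓ Cfsg.Geo.specialLinear (Fin 4) F)) ∧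
    (4 ≤ Fintype.card F → ∀ D : Fin 2 → Submodule F (Fin 4 → F), Cfsg.Geo.IsMDecomposition 2 D → Cfsg.Geo.IsMaximalIn (Cfsg.Geo.specialLinear (Fin 4) F) (Cfsg.Geo.decompositionStabilizer D ⊓ Cfsg.Geo.specialLinear (Fin 4) F)) ∧
    (∀ K : Subalgebra F (Matrix (Fin 4) (Fin 4) F), Cfsg.Geo.IsFieldSubalgebra 2 K → Cfsg.Geo.IsMaximalIn (Cfsg.Geo.specialLinear (Fin 4) F) (Cfsg.Geo.subalgebraNormalizer K ⊓ Cfsg.Geo.specialLinear (Fin 4) F)) ∧
    (∀ (F₀ : Subfield F) (r : ℕ) (P : Matrix.GeneralLinearGroup (Fin 4) F), r.Prime → Fintype.card F = Nat.card F₀ ^ r → Cfsg.Geo.IsMaximalIn (Cfsg.Geo.specialLinear (Fin 4) F) (Cfsg.Geo.subfieldSubgroup F₀ P ⊓ Cfsg.Geo.specialLinear (Fin 4) F)) ∧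
    (∀ (p : ℕ) (R : Subgroup (Matrix.GeneralLinearGroup (Fin 4) F)), p.Prime → Fintype.card F = p → p % 4 = 1 → Cfsg.Geo.IsLinearSymplecticTypeData 2 R → Cfsg.Geo.IsMaximalIn (Cfsg.Geo.specialLinear (Fin 4) F) (Cfsg.Geo.subgroupNormalizer R ⊓ Cfsg.Geo.specialLinear (Fin 4) F)) ∧
    (Odd (Fintype.card F) → ∀ Q : (Fin 4 → F) → F, Cfsg.Geo.IsNondegenerateQuadraticForm Q → Cfsg.Geo.IsMaximalIn (Cfsg.Geo.specialLinear (Fin 4) F) (Cfsg.Geo.quadSimilarityGroup Q ⊓ Cfsg.Geo.specialLinear (Fin 4) F)) ∧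
    (∀ f : (Fin 4 → F) → (Fin 4 → F) → F, Cfsg.Geo.IsSymplecticForm f → Cfsg.Geo.IsMaximalIn (Cfsg.Geo.specialLinear (Fin 4) F) (Cfsg.Geo.similarityGroup f ⊓ Cfsg.Geo.specialLinear (Fin 4) F)) ∧
    (∀ (σ : F ≃+* F) (f : (Fin 4 → F) → (Fin 4 → F) → F), Cfsg.Geo.IsUnitaryForm σ f → Cfsg.Geo.IsMaximalIn (Cfsg.Geo.specialLinear (Fin 4) F) (Cfsg.Geo.similarityGroup f ⊓ Cfsg.Geo.specialLinear (Fin 4) F)) := by
  exact ⟨fun W hW0 hW1 => Cfsg.Agent.Classical.MaxTv.linear_subspace_maximal W hW0 hW1,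
    fun hq D hD => Cfsg.Agent.Classical.LinFour.lines_maximal_four hq hD,
    fun hq D hD => Cfsg.Agent.Classical.MaxTv.linear_wreath_maximal' 2 hD le_rfl fun _ => Or.inr ⟨rfl, hq⟩,
    fun K hK => (Cfsg.Agent.Classical.Overfield.fieldSubalgebra_maximal Nat.prime_two (by simp) hK).2,
    fun F₀ r P hr hcard => Cfsg.Agent.Classical.MaxTv.linear_subfield_maximal_of' (Or.inl (by simp)) F₀ r hr hcard P,
    fun p R hp hF hp4 hR => Cfsg.Agent.Classical.LinFour.linear_four_normalizer_maximal ⟨p, hp, hF, hp4⟩ R hR,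
    fun hodd Q hQ => Cfsg.Agent.Classical.MaxTv.quadratic_similarity_maximal (Cfsg.Agent.Classical.MaxApps.two_ne_zero_of_odd hodd) (by simp) Q hQ,
    fun f hf => Cfsg.Agent.Classical.MaxTv.symplectic_similitude_maximal (by simp) hf,
    fun σ f hf => Cfsg.Agent.Classical.MaxTv.unitary_similitude_maximal (by simp) hf⟩

end Cfsg.Agent.S5780
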