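import Cfsg.Statements.S5784
import Cfsg.Agent.Lib.Classical.AschUnitShape
import Cfsg.Agent.Lib.Classical.AschUnitFourFrame
import Cfsg.Agent.Lib.Classical.AschUnitFourPair
-- import your own Cfsg.Agent.* helpers here

set_option autoImplicit false
open Cfsg

namespace Cfsg.Agent.S5784
open Cfsg.Agent.Classical Cfsg.Agent.Classical.Asch Module Cfsg.Geo
open MaxTv (herm_hermForm)


/-- Every maximal subgroup of SU_4(q) is of one of the listed geometric types or lies in the residual class. Let F be the field with q² elements, f the standard unitary form Σ u_i v_i^q on F^4, and H a maximal subgroup of SU_4(q) (inside GL_4(F)). Then H is the intersection with SU_4(q) of one of: the stabiliser of a non-zero subspace on which f vanishes; the stabiliser of a non-degenerate 1-space; for q ≠ 3, the stabiliser of a decomposition into four mutually orthogonal non-degenerate 1-spaces; for q ≥ 3, of a decomposition into two orthogonal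 non-degenerate 2-spaces; for q ≥ 4, of a decomposition into two totally isotropic 2-spaces; a subfield group of odd prime index whose F₀-structure carries f; a subfield group of index 2 whose F₀-structure carries ζ f, vanishing on pairs (u, u), for some non-zero ζ with ζ + ζ^q = 0; for q odd, a subfield group of index 2 whose F₀-structure carries f; for q = p ≡ 3 mod 4 prime, the normaliser of an absolutely irreducible symplectic-type 2-group of exponent 4, order 64 and centre of order 4 inside the similarity group of f — or else H lies in the residual class of the unitary case. -/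
theorem result {F : Type*} [Field F] [Fintype F] (q : ℕ) (hF : Fintype.card F = q ^ 2) (H : Subgroup (Matrix.GeneralLinearGroup (Fin 4) F)) (hH : Cfsg.Geo.IsMaximalIn (Cfsg.GU 4 F q ⊓ Cfsg.Geo.specialLinear (Fin 4) F) H) :
    (∃ W : Submodule F (Fin 4 → F), W ≠ ⊥ ∧ Cfsg.Geo.IsTotallySingularFor (Cfsg.hermForm 4 F q) W ∧ H = Cfsg.Geo.subspaceStabilizer W ⊓ (Cfsg.GU 4 F q ⊓ Cfsg.Geo.specialLinear (Fin 4) F)) ∨
    (∃ W : Submodule F (Fin 4 → F), W ≠ ⊥ ∧ Cfsg.Geo.IsNondegenerateOn (Cfsg.hermForm 4 F q) W ∧ 2 * Module.finrank F W < 4 ∧ H = Cfsg.Geo.subspaceStabilizer W ⊓ (Cfsg.GU 4 F q ⊓ Cfsg.Geo.specialLinear (Fin 4) F)) ∨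
    (q ≠ 3 ∧ ∃ D : Fin 4 → Submodule F (Fin 4 → F), Cfsg.Geo.IsNondegenerateMDecomposition (Cfsg.hermForm 4 F q) 1 D ∧ H = Cfsg.Geo.decompositionStabilizer D ⊓ (Cfsg.GU 4 F q ⊓ Cfsg.Geo.specialLinear (Fin 4) F)) ∨
    (3 ≤ q ∧ ∃ D : Fin 2 → Submodule F (Fin 4 → F), Cfsg.Geo.IsNondegenerateMDecomposition (Cfsg.hermForm 4 F q) 2 D ∧ H = Cfsg.Geo.decompositionStabilizer D ⊓ (Cfsg.GU 4 F q ⊓ Cfsg.Geo.specialLinear (Fin 4) F)) ∨
    (4 ≤ q ∧ ∃ D : Fin 2 → Submodule F (Fin 4 → F), Cfsg.Geo.IsMDecomposition 2 D ∧ (∀ i, Cfsg.Geo.IsTotallySingularFor (Cfsg.hermForm 4 F q) (D i)) ∧ H = Cfsg.Geo.decompositionStabilizer D ⊓ (Cfsg.GU 4 F q ⊓ Cfsg.Geo.specialLinear (Fin 4) F)) ∨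
    (∃ (F₀ : Subfield F) (r : ℕ) (P : Matrix.GeneralLinearGroup (Fin 4) F), r.Prime ∧ Odd r ∧ Fintype.card F = Nat.card F₀ ^ r ∧ Cfsg.Geo.IsFormRationalStructure (Cfsg.hermForm 4 F q) F₀ 1 P ∧ H = Cfsg.Geo.subfieldSubgroup F₀ P ⊓ (Cfsg.GU 4 F q ⊓ Cfsg.Geo.specialLinear (Fin 4) F)) ∨
    (∃ (F₀ : Subfield F) (P : Matrix.GeneralLinearGroup (Fin 4) F) (ζ : F), Fintype.card F = Nat.card F₀ ^ 2 ∧ ζ ≠ 0 ∧ ζ + ζ ^ q = 0 ∧ Cfsg.Geo.IsFormRationalStructure (Cfsg.hermForm 4 F q) F₀ ζ P ∧ (∀ u : Fin 4 → F, (∀ i, u i ∈ F₀) → (Cfsg.hermForm 4 F q) (Matrix.mulVec (P : Matrix (Fin 4) (Fin 4) F) u) (Matrix.mulVec (P : Matrix (Fin 4) (Fin 4) F) u) = 0) ∧ H = Cfsg.Geo.subfieldSubgroup F₀ P ⊓ (Cfsg.GU 4 F q ⊓ Cfsg.Geo.specialLinear (Fin 4) F)) ∨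
    (Odd q ∧ ∃ (F₀ : Subfield F) (P : Matrix.GeneralLinearGroup (Fin 4) F), Fintype.card F = Nat.card F₀ ^ 2 ∧ Cfsg.Geo.IsFormRationalStructure (Cfsg.hermForm 4 F q) F₀ 1 P ∧ H = Cfsg.Geo.subfieldSubgroup F₀ P ⊓ (Cfsg.GU 4 F q ⊓ Cfsg.Geo.specialLinear (Fin 4) F)) ∨
    (∃ (p : ℕ) (R : Subgroup (Matrix.GeneralLinearGroup (Fin 4) F)), p.Prime ∧ q = p ∧ p % 4 = 3 ∧ Cfsg.Geo.IsSymplecticTypeGroup 2 R ∧ Cfsg.Geo.ActsAbsolutelyIrreducibly (Cfsg.Geo.matrixSet R) ∧ R ≤ Cfsg.Geo.similarityGroup (Cfsg.hermForm 4 F q) ∧ Nat.card R = 64 ∧ Nat.card (Subgroup.center R) = 4 ∧ H = Cfsg.Geo.subgroupNormalizer R ⊓ (Cfsg.GU 4 F q ⊓ Cfsg.Geo.specialLinear (Fin 4) F)) ∨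
    Cfsg.Geo.InUnitaryResidualClass H := by
  haveI : Nonempty (Fin 4) := ⟨0⟩
  have hn : (4 : ℕ) ≤ 4 := le_refl 4
  have hq2 := two_le_q hF
  rcases aschbacher_unit_dim (show 3 ≤ 4 by norm_num) hF (hH.1.le.trans inf_le_left) with ⟨M, hM, hle⟩ | h
  swap
  · exact Or.inr (Or.inr (Or.inr (Or.inr (Or.inr (Or.inr (Or.inr (Or.inr (Or.inr (h)))))))))
  rcases hM with (⟨W, h1, h2, rfl⟩ | ⟨W, h1, h2, h3, rfl⟩ | ⟨t, k, D, hD, rfl⟩ | ⟨k, D, hk, hD, hts, rfl⟩ |
    ⟨F₀, r, P, hr, hro, hc, hrat, rfl⟩ | ⟨F₀, P, hq, hc, hrat, rfl⟩ |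
    ⟨F₀, P, ζ, hev, hc, hζ, hz, hrat, halt, rfl⟩ |
    ⟨r, R, p, e, k, hR, hai, hsim, hrp, hmin, hcases, hscal, hdim, rfl⟩) |
    ⟨r, K, hr, hro, hK, hac, rfl⟩ | ⟨a, b, e, P, f₁, f₂, ha, hab, hf₁, hf₂, hst, rfl⟩ |
    ⟨k, t, e, P, f₁, hk, ht, hex, hf₁, hst, rfl⟩
  · have hWtop : W ≠ ⊤ := by
      intro h
      subst h
      obtain ⟨v, hv0, -, hv⟩ := exists_iso_not_perp hF (show 3 ≤ 4 by norm_num)
        (u := (Pi.single 0 1 : Fin 4 → F)) (by simp)
      exact hv (h2 _ trivial v trivial)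
    exact Or.inl ⟨W, h1, h2, su_eq_inter hH (hle.trans inf_le_left) (not_su_le_subspace hF (by omega) h1 hWtop)⟩
  · have hWtop : W ≠ ⊤ := by
      intro h
      subst h
      rw [finrank_top, Module.finrank_fin_fun] at h3
      omega
    exact Or.inr (Or.inl ⟨W, h1, h2, h3, su_eq_inter hH (hle.trans inf_le_left) (not_su_le_subspace hF (by omega) h1 hWtop)⟩)
  · have hc : t * k = 4 := by simpa using MaxMon.decomp_card hD.decomp
    have hk1 := hD.decomp.pos
    have ht2 := hD.decomp.two_le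
    have hk2 : k ≤ 2 := by nlinarith
    interval_cases k
    · obtain rfl : t = 4 := by omega
      by_cases hq : q = 3
      · subst hq
        obtain ⟨R, hR, hai, hsim, h64, hZ, hscal, hsub⟩ := UnitFour.frame_normalizer hF hD
        exact Or.inr (Or.inr (Or.inr (Or.inr (Or.inr (Or.inr (Or.inr (Or.inr (Or.inl ⟨3, R, Nat.prime_three, rfl, by norm_num, hR, hai, hsim, h64, hZ,
          su_eq_inter hH ((le_inf (hle.trans inf_le_left) hH.1.le).trans hsub)
            (not_su_le_normalizer_four hF Nat.prime_three (by norm_num) hai hscal h64 hZ)⟩))))))))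
      · exact Or.inr (Or.inr (Or.inl ⟨hq, D, hD, su_eq_inter hH (hle.trans inf_le_left) (not_su_le_decomp_four hF hn hD.decomp)⟩))
    · obtain rfl : t = 2 := by omega
      by_cases hq : 3 ≤ q
      · exact Or.inr (Or.inr (Or.inr (Or.inl ⟨hq, D, hD, su_eq_inter hH (hle.trans inf_le_left) (not_su_le_decomp_four hF hn hD.decomp)⟩)))
      · obtain rfl : q = 2 := by omega
        obtain ⟨D', hD', hsub⟩ := planes_lines hF hD
        exact Or.inr (Or.inr (Or.inl ⟨by norm_num, D', hD', su_eq_inter hH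
          ((le_inf (hle.trans inf_le_left) (hH.1.le.trans inf_le_left)).trans hsub)
          (not_su_le_decomp_four hF hn hD'.decomp)⟩))
  · obtain rfl : k = 2 := by omega
    by_cases hq : 4 ≤ q
    · exact Or.inr (Or.inr (Or.inr (Or.inr (Or.inl ⟨hq, D, hD, hts, su_eq_inter hH (hle.trans inf_le_left) (not_su_le_decomp_four hF hn hD)⟩))))
    · obtain ⟨F₀, P, ζ, hc, hζ, hz, hrat, halt, hsub⟩ := pair_subfield hF (by omega) hD hts
      exact Or.inr (Or.inr (Or.inr (Or.inr (Or.inr (Or.inr (Or.inl ⟨F₀, P, ζ, hc, hζ, hz, hrat, halt, su_eq_inter hH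
        ((le_inf (hle.trans inf_le_left) hH.1.le).trans hsub) (not_su_le_subfield hF hn (subfield_two_ne_top hc) P)⟩))))))
  · exact Or.inr (Or.inr (Or.inr (Or.inr (Or.inr (Or.inl ⟨F₀, r, P, hr, hro, hc, hrat,
      su_eq_inter hH (hle.trans inf_le_left) (not_su_le_subfield hF hn (subfield_ne_top hr hc) P)⟩)))))
  · exact Or.inr (Or.inr (Or.inr (Or.inr (Or.inr (Or.inr (Or.inr (Or.inl ⟨hq, F₀, P, hc, hrat,
      su_eq_inter hH (hle.trans inf_le_left) (not_su_le_subfield hF hn (subfield_two_ne_top hc) P)⟩)))))))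
  · exact Or.inr (Or.inr (Or.inr (Or.inr (Or.inr (Or.inr (Or.inl ⟨F₀, P, ζ, hc, hζ, hz, hrat, halt,
      su_eq_inter hH (hle.trans inf_le_left) (not_su_le_subfield hF hn (subfield_two_ne_top hc) P)⟩))))))
  · have hk : k ≠ 0 := by rintro rfl; norm_num at hdim
    have hr4 : r ∣ 4 := hdim ▸ dvd_pow_self r hk
    rcases hcases with ⟨hro, -, -, -⟩ | ⟨rfl, rfl, hZ, hcard⟩
    · exfalso
      have := Nat.le_of_dvd (by norm_num) hr4
      have := hR.prime.two_le
      interval_cases r <;> first | omega | exact absurd hro (by decide)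
    · obtain rfl : k = 2 := Nat.pow_right_injective (le_refl 2) (hdim.symm.trans (by norm_num : (4 : ℕ) = 2 ^ 2))
      obtain ⟨hp, hqp, hp4⟩ := unit_class_six_two hF (hZ ▸ hmin)
      subst hqp
      exact Or.inr (Or.inr (Or.inr (Or.inr (Or.inr (Or.inr (Or.inr (Or.inr (Or.inl ⟨_, R, hp, rfl, hp4, hR, hai, hsim, by simpa using hcard, hZ,
        su_eq_inter hH (hle.trans inf_le_left)
          (not_su_le_normalizer_four hF hp hp4 hai hscal (by simpa using hcard) hZ)⟩))))))))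
  · exfalso
    have hdvd : r ∣ 4 := by simpa using field_degree_dvd hK
    have := Nat.le_of_dvd (by norm_num) hdvd
    have := hr.two_le
    interval_cases r <;> first | omega | exact absurd hro (by decide)
  · exfalso
    have hc : a * b = 4 := by
      have := Fintype.card_congr e
      simpa using this.symm
    nlinarith
  · exfalso
    have hc : k ^ t = 4 := by
      have := Fintype.card_congr e
      simpa using this.symm
    have hkt : k ^ 2 ≤ k ^ t := Nat.pow_le_pow_right (by omega) ht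
    have : 3 ^ 2 ≤ k ^ 2 := Nat.pow_le_pow_left hk 2
    omega

end Cfsg.Agent.S5784
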