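import Cfsg.Statements.S5787
import Cfsg.Agent.Lib.Classical.AschSpShape
import Cfsg.Agent.Lib.Classical.AschSpFour
-- import your own Cfsg.Agent.* helpers here

set_option autoImplicit false
open Cfsg

namespace Cfsg.Agent.S5787
set_option synthInstance.maxSize 4000
set_option synthInstance.maxHeartbeats 400000
set_option maxRecDepth 8000
open Cfsg.Agent.Classical.Asch

/-- Every maximal subgroup of Sp_4(q), q odd, is of one of the listed geometric types or lies in the residual class. Let F be a finite field of odd order q, f the standard alternating form on F^4 (coordinates Fin 2 ⊕ Fin 2), and H a maximal subgroup of the isometry group Sp_4(F) (inside GL_4(F)). Then H is the intersection with Sp_4(F) of one of: the stabiliser of a non-zero totally isotropic subspace; the stabiliser of a decomposition into two orthogonal non-degenerate 2-spaces; for q ≥ 5, of a decomposition into two totally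 isotropic 2-spaces; the normaliser of a degree-2 subfield K of the matrix algebra, self-adjoint with f(k v, v) = 0; for q ≥ 5, the normaliser of a degree-2 subfield closed under adjoints but not self-adjoint; a subfield group whose F₀-structure carries a non-zero multiple of f, |F| = |F₀|^r with r prime; for q = p prime, the normaliser of an absolutely irreducible symplectic-type 2-group of exponent 4, order 32, centre of order 2 and minus type inside the similarity group of f — or else H lies in the residual class of the symplectic case. -/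
theorem result {F : Type*} [Field F] [Fintype F] (hodd : Odd (Fintype.card F)) (H : Subgroup (Matrix.GeneralLinearGroup (Fin 2 ⊕ Fin 2) F)) (hH : Cfsg.Geo.IsMaximalIn (Cfsg.spGL 2 F) H) :
    (∃ W : Submodule F (Fin 2 ⊕ Fin 2 → F), W ≠ ⊥ ∧ Cfsg.Geo.IsTotallySingularFor (Cfsg.sympForm 2 F) W ∧ H = Cfsg.Geo.subspaceStabilizer W ⊓ Cfsg.spGL 2 F) ∨
    (∃ D : Fin 2 → Submodule F (Fin 2 ⊕ Fin 2 → F), Cfsg.Geo.IsNondegenerateMDecomposition (Cfsg.sympForm 2 F) 2 D ∧ H = Cfsg.Geo.decompositionStabilizer D ⊓ Cfsg.spGL 2 F) ∨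
    (5 ≤ Fintype.card F ∧ ∃ D : Fin 2 → Submodule F (Fin 2 ⊕ Fin 2 → F), Cfsg.Geo.IsMDecomposition 2 D ∧ (∀ i, Cfsg.Geo.IsTotallySingularFor (Cfsg.sympForm 2 F) (D i)) ∧ H = Cfsg.Geo.decompositionStabilizer D ⊓ Cfsg.spGL 2 F) ∨
    (∃ K : Subalgebra F (Matrix (Fin 2 ⊕ Fin 2) (Fin 2 ⊕ Fin 2) F), Cfsg.Geo.IsFieldSubalgebra 2 K ∧ Cfsg.Geo.IsSelfAdjointFor (Cfsg.sympForm 2 F) K ∧ (∀ k ∈ K, ∀ v : (Fin 2 ⊕ Fin 2 → F), (Cfsg.sympForm 2 F) (Matrix.mulVec k v) v = 0) ∧ H = Cfsg.Geo.subalgebraNormalizer K ⊓ Cfsg.spGL 2 F) ∨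
    (5 ≤ Fintype.card F ∧ ∃ K : Subalgebra F (Matrix (Fin 2 ⊕ Fin 2) (Fin 2 ⊕ Fin 2) F), Cfsg.Geo.IsFieldSubalgebra 2 K ∧ Cfsg.Geo.IsAdjointClosedFor (Cfsg.sympForm 2 F) K ∧ ¬ Cfsg.Geo.IsSelfAdjointFor (Cfsg.sympForm 2 F) K ∧ H = Cfsg.Geo.subalgebraNormalizer K ⊓ Cfsg.spGL 2 F) ∨
    (∃ (F₀ : Subfield F) (r : ℕ) (P : Matrix.GeneralLinearGroup (Fin 2 ⊕ Fin 2) F) (ζ : F), r.Prime ∧ Fintype.card F = Nat.card F₀ ^ r ∧ ζ ≠ 0 ∧ Cfsg.Geo.IsFormRationalStructure (Cfsg.sympForm 2 F) F₀ ζ P ∧ H = Cfsg.Geo.subfieldSubgroup F₀ P ⊓ Cfsg.spGL 2 F) ∨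
    (∃ (p : ℕ) (R : Subgroup (Matrix.GeneralLinearGroup (Fin 2 ⊕ Fin 2) F)), p.Prime ∧ Fintype.card F = p ∧ Cfsg.Geo.IsSymplecticTypeGroup 2 R ∧ Cfsg.Geo.ActsAbsolutelyIrreducibly (Cfsg.Geo.matrixSet R) ∧ R ≤ Cfsg.Geo.similarityGroup (Cfsg.sympForm 2 F) ∧ Nat.card R = 32 ∧ Nat.card (Subgroup.center R) = 2 ∧ Cfsg.Geo.IsOfMinusType 2 R ∧ H = Cfsg.Geo.subgroupNormalizer R ⊓ Cfsg.spGL 2 F) ∨
    Cfsg.Geo.InSymplecticResidualClass H := by
  have h1 : 1 < Fintype.card F := Fintype.one_lt_card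
  have hsmall : ¬ 5 ≤ Fintype.card F → Fintype.card F = 3 := fun h => by
    rcases hodd with ⟨j, hj⟩
    omega
  rcases (spShape (show 2 ≤ 2 by norm_num) hH).shape with ⟨W, h1, h2, h⟩ | ⟨W, h1, h2, h3, h⟩ | ⟨t, k, D, hD, ht, htk, h⟩ |
    ⟨ho, D, hD, hts, h⟩ | ⟨r, K, hr, hrm, hK, hsa, halt, h⟩ | ⟨ho, K, hK, hac, hns, h⟩ |
    ⟨a, b, e, P, f₁, f₂, ho, ha, hae, hb, hab, hf₁, hf₂, hst, h⟩ |
    ⟨k, t, e, P, f₁, ho, hk, hke, hto, ht, hkt, hq3, hf₁, hst, h⟩ |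
    ⟨F₀, r, P, ζ, hr, hc, hζ, hrat, h⟩ | ⟨R, p, k, hp, hpo, hc, hR, hai, hsim, hcR, hcen, hmin, hdim, h⟩ |
    ⟨he, Q, hQ, hpol, h⟩ | h
  · exact Or.inl ⟨W, h1, h2, h⟩
  · obtain ⟨j, hj⟩ := nondeg_finrank_even h2
    have : Module.finrank F W ≠ 0 := fun h0 => h1 (Submodule.finrank_eq_zero.1 h0)
    omega
  · obtain ⟨j, rfl⟩ : Even k := hD.decomp.finrank_eq ⟨0, by omega⟩ ▸ nondeg_finrank_even (hD.nondegenerate _)
    obtain rfl : j = 1 := by
      have := hD.decomp.pos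
      nlinarith
    obtain rfl : t = 2 := by omega
    exact Or.inr (Or.inl ⟨D, hD, h⟩)
  · by_cases h5 : 5 ≤ Fintype.card F
    · exact Or.inr (Or.inr (Or.inl ⟨h5, D, hD, hts, h⟩))
    · obtain ⟨D', hD', h'⟩ := Cfsg.Agent.Classical.SpFourThree.sp_pair_small (hsmall h5) hH hD hts h
      exact Or.inr (Or.inl ⟨D', hD', h'⟩)
  · obtain rfl := (Nat.prime_dvd_prime_iff_eq hr Nat.prime_two).1 hrm
    exact Or.inr (Or.inr (Or.inr (Or.inl ⟨K, hK, hsa, halt, h⟩)))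
  · by_cases h5 : 5 ≤ Fintype.card F
    · exact Or.inr (Or.inr (Or.inr (Or.inr (Or.inl ⟨h5, K, hK, hac, hns, h⟩))))
    · exact absurd h (Cfsg.Agent.Classical.SpFourThree.unitary_field_not_maximal (hsmall h5) hH hK hac hns)
  · obtain ⟨j, rfl⟩ := hae
    nlinarith
  · have : 2 ^ 3 ≤ k ^ t := le_trans (Nat.pow_le_pow_left hk 3) (Nat.pow_le_pow_right (by omega) ht)
    omega
  · exact Or.inr (Or.inr (Or.inr (Or.inr (Or.inr (Or.inl ⟨F₀, r, P, ζ, hr, hc, hζ, hrat, h⟩)))))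
  · obtain rfl : k = 2 := Nat.pow_right_injective le_rfl (show 2 ^ k = 2 ^ 2 by omega)
    exact Or.inr (Or.inr (Or.inr (Or.inr (Or.inr (Or.inr (Or.inl ⟨p, R, hp, hc, hR, hai, hsim, by rw [hcR]; norm_num,
      hcen, hmin, h⟩))))))
  · exact absurd hodd he
  · exact Or.inr (Or.inr (Or.inr (Or.inr (Or.inr (Or.inr (Or.inr h))))))

end Cfsg.Agent.S5787
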