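import Cfsg.Statements.S5808
import Cfsg.Agent.Lib.Classical.AschSLn

set_option autoImplicit false
set_option synthInstance.maxSize 4000
set_option synthInstance.maxHeartbeats 400000
set_option maxRecDepth 8000
open Cfsg Cfsg.Agent.Classical.Asch

namespace Cfsg.Agent.S5808

/-- Every maximal subgroup of SL_7(q) is of one of the listed geometric types or lies in the residual class. Let F be a finite field with q elements (p its characteristic) and H a maximal subgroup of SL_7(F) (inside GL_7(F)). Then H is the intersection with SL_7(F) of one of: the stabiliser of a proper non-zero subspace; for q ≥ 5, the stabiliser of a decomposition into 7 independent 1-spaces; the normaliser of a degree-7 subfield of the matrix algebra; a subfield group for a subfield F₀ with |F| = |F₀|^r, r prime; for q = p prime with p ≡ 1 mod 7, or q = p³ with p ≡ 2 or 4 mod 7, the normaliser of an absolutely irreducible 7-subgroup R of exponent 7 and order 7^(1+2m) with centre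 of order 7, all of whose characteristic abelian subgroups are cyclic, F being the smallest field of characteristic p containing the seventh roots of unity (here R is extraspecial of order 343); for q odd, the similarity group of a non-degenerate quadratic form; the similarity group of a non-degenerate unitary form — or else H lies in the residual class of the linear case (modulo scalars H is almost simple, with absolutely irreducible perfect socle preimage realisable over no proper subfield and fixing no non-degenerate quadratic, symplectic or unitary form). -/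
theorem result {F : Type*} [Field F] [Fintype F] (H : Subgroup (Matrix.GeneralLinearGroup (Fin 7) F)) (hH : Cfsg.Geo.IsMaximalIn (Cfsg.Geo.specialLinear (Fin 7) F) H) :
    (∃ W : Submodule F (Fin 7 → F), W ≠ ⊥ ∧ W ≠ ⊤ ∧ H = Cfsg.Geo.subspaceStabilizer W ⊓ Cfsg.Geo.specialLinear (Fin 7) F) ∨
    (5 ≤ Fintype.card F ∧ ∃ D : Fin 7 → Submodule F (Fin 7 → F), Cfsg.Geo.IsMDecomposition 1 D ∧ H = Cfsg.Geo.decompositionStabilizer D ⊓ Cfsg.Geo.specialLinear (Fin 7) F) ∨
    (∃ K : Subalgebra F (Matrix (Fin 7) (Fin 7) F), Cfsg.Geo.IsFieldSubalgebra 7 K ∧ H = Cfsg.Geo.subalgebraNormalizer K ⊓ Cfsg.Geo.specialLinear (Fin 7) F) ∨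
    (∃ (F₀ : Subfield F) (r : ℕ) (P : Matrix.GeneralLinearGroup (Fin 7) F), r.Prime ∧ Fintype.card F = Nat.card F₀ ^ r ∧ H = Cfsg.Geo.subfieldSubgroup F₀ P ⊓ Cfsg.Geo.specialLinear (Fin 7) F) ∨
    ((∃ p : ℕ, p.Prime ∧ CharP F p ∧ ((Fintype.card F = p ∧ p % 7 = 1) ∨ (Fintype.card F = p ^ 3 ∧ (p % 7 = 2 ∨ p % 7 = 4)))) ∧ ∃ R : Subgroup (Matrix.GeneralLinearGroup (Fin 7) F), Cfsg.Geo.IsLinearSymplecticTypeData 7 R ∧ H = Cfsg.Geo.subgroupNormalizer R ⊓ Cfsg.Geo.specialLinear (Fin 7) F) ∨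
    (Odd (Fintype.card F) ∧ ∃ Q : (Fin 7 → F) → F, Cfsg.Geo.IsNondegenerateQuadraticForm Q ∧ H = Cfsg.Geo.quadSimilarityGroup Q ⊓ Cfsg.Geo.specialLinear (Fin 7) F) ∨
    (∃ (σ : F ≃+* F) (f : (Fin 7 → F) → (Fin 7 → F) → F), Cfsg.Geo.IsUnitaryForm σ f ∧ H = Cfsg.Geo.similarityGroup f ⊓ Cfsg.Geo.specialLinear (Fin 7) F) ∨
    Cfsg.Geo.InLinearResidualClass H := by
  have hn : (3 : ℕ) ≤ 7 := by norm_num
  rcases (slShape hn hH).shape with ⟨W, h1, h2, h⟩ | ⟨t, m, D, hD, htm, hdvd, hlt, h⟩ |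
    ⟨r, K, hr, hdvd, hK, h⟩ | ⟨a, b, e, P, ha, hab, hprod, h⟩ | ⟨m, t, e, P, hm, ht, hpow, h⟩ |
    ⟨F₀, r, P, hr, hc, h⟩ | ⟨r, m, R, hR, hrm, h⟩ | ⟨hodd, Q, hQ, h⟩ | ⟨heven, f, hf, h⟩ | ⟨σ, f, hf, h⟩ | h
  · exact Or.inl (⟨W, h1, h2, h⟩)
  · obtain rfl : m = 1 := by
      have h1 : m ≠ 0 := hD.pos.ne'
      interval_cases m <;> omega
    · by_cases hq : 5 ≤ Fintype.card F
      · obtain rfl : t = 7 := by omega
        exact Or.inr (Or.inl (⟨hq, D, hD, h⟩))
      · have hq5 : Fintype.card F < 5 := by omega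
        rcases lines_small hn hH hq5 htm hD h with h' | h' | h'
        · exact Or.inl (h')
        · exact Or.inr (Or.inr (Or.inr (Or.inr (Or.inr (Or.inl (h'))))))
        · exact Or.inr (Or.inr (Or.inr (Or.inr (Or.inr (Or.inr (Or.inl (h')))))))
  · obtain rfl : r = 7 := by
      have h1 := hr.two_le
      have h2 := Nat.le_of_dvd (by norm_num) hdvd
      interval_cases r <;> first | omega | (exfalso; revert hr; norm_num)
    exact Or.inr (Or.inr (Or.inl (⟨K, hK, h⟩)))
  · exfalso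
    have h1 : a ≤ 7 := by nlinarith
    interval_cases a <;> omega
  · have h1 := (wreath_shape hm ht (by norm_num) hpow).2.2
    omega
  · exact Or.inr (Or.inr (Or.inr (Or.inl (⟨F₀, r, P, hr, hc, h⟩))))
  · have hrp := hR.symplecticType.prime
    obtain rfl := prime_pow_eq hrp hrm (k := 7) (by norm_num) (by norm_num)
    obtain ⟨p, e, hp, hchar, hc, her, heo, hpe, hmin⟩ := class_six_odd hR (by decide)
    have key : ∀ a < 7, ∀ e < 7, (∀ d < e, 0 < d → a ^ d % 7 ≠ 1) → e % 2 = 1 → a ^ e % 7 = 1 →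
        (e = 1 ∧ a = 1) ∨ (e = 3 ∧ (a = 2 ∨ a = 4)) := by decide
    rcases key _ (Nat.mod_lt _ hrp.pos) e her hmin (Nat.odd_iff.1 heo) hpe with ⟨rfl, hp1⟩ | ⟨rfl, hp1⟩
    · exact Or.inr (Or.inr (Or.inr (Or.inr (Or.inl (⟨⟨p, hp, hchar, Or.inl ⟨hc.trans (pow_one p), hp1⟩⟩, R, hR, h⟩)))))
    · exact Or.inr (Or.inr (Or.inr (Or.inr (Or.inl (⟨⟨p, hp, hchar, Or.inr ⟨hc, hp1⟩⟩, R, hR, h⟩)))))
  · exact Or.inr (Or.inr (Or.inr (Or.inr (Or.inr (Or.inl (⟨hodd, Q, hQ, h⟩))))))
  · exact absurd heven (by decide)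
  · exact Or.inr (Or.inr (Or.inr (Or.inr (Or.inr (Or.inr (Or.inl (⟨σ, f, hf, h⟩)))))))
  · exact Or.inr (Or.inr (Or.inr (Or.inr (Or.inr (Or.inr (Or.inr (h)))))))

end Cfsg.Agent.S5808
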