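import Cfsg.Statements.S5811
import Cfsg.Agent.Lib.Classical.AschUnitShape
import Cfsg.Agent.Lib.Classical.AschUnitShape

set_option autoImplicit false
set_option maxHeartbeats 1000000
set_option synthInstance.maxSize 4000
set_option synthInstance.maxHeartbeats 400000
set_option maxRecDepth 8000
open Cfsg Cfsg.Agent.Classical.Asch

namespace Cfsg.Agent.S5811

/-- Every maximal subgroup of SU_7(q) is of one of the listed geometric types or lies in the residual class. Let F be the field with q² elements (characteristic p), f the standard unitary form Σ u_i v_i^q on F^7, and H a maximal subgroup of SU_7(q) (inside GL_7(F)). Then H is the intersection with SU_7(q) of one of: the stabiliser of a non-zero totally isotropic subspace; the stabiliser of a non-degenerate 1-, 2- or 3-space; the stabiliser of a decomposition into seven mutually orthogonal non-degenerate 1-spaces; the normaliser of an adjoint-closed degree-7 subfield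 of the matrix algebra; a subfield group of odd prime index whose F₀-structure carries f; for q odd, a subfield group of index 2 whose F₀-structure carries f; for q = p prime with p ≡ 6 mod 7, or q = p³ with p ≡ 3 or 5 mod 7, the normaliser of an absolutely irreducible 7-group R of exponent 7, order 343 and centre of order 7, all of whose characteristic abelian subgroups are cyclic, contained in the similarity group of f — or else H lies in the residual class of the unitary case (modulo scalars H is almost simple, with absolutely irreducible perfect socle preimage realisable over no proper subfield and fixing no non-degenerate quadratic or symplectic form). -/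
theorem result {F : Type*} [Field F] [Fintype F] (q : ℕ) (hF : Fintype.card F = q ^ 2) (H : Subgroup (Matrix.GeneralLinearGroup (Fin 7) F)) (hH : Cfsg.Geo.IsMaximalIn (Cfsg.GU 7 F q ⊓ Cfsg.Geo.specialLinear (Fin 7) F) H) :
    (∃ W : Submodule F (Fin 7 → F), W ≠ ⊥ ∧ Cfsg.Geo.IsTotallySingularFor (Cfsg.hermForm 7 F q) W ∧ H = Cfsg.Geo.subspaceStabilizer W ⊓ (Cfsg.GU 7 F q ⊓ Cfsg.Geo.specialLinear (Fin 7) F)) ∨
    (∃ W : Submodule F (Fin 7 → F), W ≠ ⊥ ∧ Cfsg.Geo.IsNondegenerateOn (Cfsg.hermForm 7 F q) W ∧ 2 * Module.finrank F W < 7 ∧ H = Cfsg.Geo.subspaceStabilizer W ⊓ (Cfsg.GU 7 F q ⊓ Cfsg.Geo.specialLinear (Fin 7) F)) ∨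
    (∃ D : Fin 7 → Submodule F (Fin 7 → F), Cfsg.Geo.IsNondegenerateMDecomposition (Cfsg.hermForm 7 F q) 1 D ∧ H = Cfsg.Geo.decompositionStabilizer D ⊓ (Cfsg.GU 7 F q ⊓ Cfsg.Geo.specialLinear (Fin 7) F)) ∨
    (∃ K : Subalgebra F (Matrix (Fin 7) (Fin 7) F), Cfsg.Geo.IsFieldSubalgebra 7 K ∧ Cfsg.Geo.IsAdjointClosedFor (Cfsg.hermForm 7 F q) K ∧ H = Cfsg.Geo.subalgebraNormalizer K ⊓ (Cfsg.GU 7 F q ⊓ Cfsg.Geo.specialLinear (Fin 7) F)) ∨
    (∃ (F₀ : Subfield F) (r : ℕ) (P : Matrix.GeneralLinearGroup (Fin 7) F), r.Prime ∧ Odd r ∧ Fintype.card F = Nat.card F₀ ^ r ∧ Cfsg.Geo.IsFormRationalStructure (Cfsg.hermForm 7 F q) F₀ 1 P ∧ H = Cfsg.Geo.subfieldSubgroup F₀ P ⊓ (Cfsg.GU 7 F q ⊓ Cfsg.Geo.specialLinear (Fin 7) F)) ∨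
    (Odd q ∧ ∃ (F₀ : Subfield F) (P : Matrix.GeneralLinearGroup (Fin 7) F), Fintype.card F = Nat.card F₀ ^ 2 ∧ Cfsg.Geo.IsFormRationalStructure (Cfsg.hermForm 7 F q) F₀ 1 P ∧ H = Cfsg.Geo.subfieldSubgroup F₀ P ⊓ (Cfsg.GU 7 F q ⊓ Cfsg.Geo.specialLinear (Fin 7) F)) ∨
    (∃ (p : ℕ) (R : Subgroup (Matrix.GeneralLinearGroup (Fin 7) F)), p.Prime ∧ CharP F p ∧ ((q = p ∧ p % 7 = 6) ∨ (q = p ^ 3 ∧ (p % 7 = 3 ∨ p % 7 = 5))) ∧ Cfsg.Geo.IsSymplecticTypeGroup 7 R ∧ Cfsg.Geo.ActsAbsolutelyIrreducibly (Cfsg.Geo.matrixSet R) ∧ R ≤ Cfsg.Geo.similarityGroup (Cfsg.hermForm 7 F q) ∧ Nat.card R = 343 ∧ Nat.card (Subgroup.center R) = 7 ∧ H = Cfsg.Geo.subgroupNormalizer R ⊓ (Cfsg.GU 7 F q ⊓ Cfsg.Geo.specialLinear (Fin 7) F)) ∨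
    Cfsg.Geo.InUnitaryResidualClass H := by
  rcases (unitShape (show 5 ≤ 7 by norm_num) hF hH).shape with ⟨W, h1, h2, h⟩ | ⟨W, h1, h2, h3, h⟩ |
    ⟨t, k, D, hD, ht, hk1, hc, h⟩ | ⟨k, D, hk, hD, hts, h⟩ | ⟨F₀, r, P, hr, hro, hc, hrat, h⟩ |
    ⟨ho, F₀, P, hc, hrat, h⟩ | ⟨hev, F₀, P, ζ, hc, hζ, hz, hrat, halt, h⟩ |
    ⟨r, R, p, e, k, hR, hai, hsim, hrp, hmin, hcases, hdim, h⟩ | ⟨r, K, hr, hro, hdvd, hK, hac, h⟩ |
    ⟨a, b, e, P, f₁, f₂, ha, hab, hc, hf₁, hf₂, hst, h⟩ |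
    ⟨k, t, e, P, f₁, hk, ht, hc, hex, hf₁, hst, h⟩ | h
  · exact Or.inl (⟨W, h1, h2, h⟩)
  · exact Or.inr (Or.inl (⟨W, h1, h2, h3, h⟩))
  · have hk2 : k ≤ 3 := by nlinarith
    interval_cases k
    · obtain rfl : t = 7 := by omega
      exact Or.inr (Or.inr (Or.inl (⟨D, hD, h⟩)))
    · omega
    · omega
  · omega
  · exact Or.inr (Or.inr (Or.inr (Or.inr (Or.inl (⟨F₀, r, P, hr, hro, hc, hrat, h⟩)))))
  · exact Or.inr (Or.inr (Or.inr (Or.inr (Or.inr (Or.inl (⟨ho, F₀, P, hc, hrat, h⟩))))))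
  · exact absurd hev (by decide)
  · have hk : k ≠ 0 := by rintro rfl; norm_num at hdim
    rcases hcases with ⟨ho, hcen, -, hcard⟩ | ⟨rfl, rfl, hcen, hcard⟩
    · obtain ⟨rfl, rfl⟩ := Nat.Prime.pow_inj' hR.prime (show Nat.Prime 7 by norm_num) hk one_ne_zero
        (hdim.symm.trans (pow_one 7).symm)
      rw [hcen] at hmin
      obtain ⟨hp, hchar, d, rfl, rfl, hd, hlt, he, hm⟩ := unit_class_six ho hR.prime hrp hF hmin
      have hd' : d ≤ 3 := by omega
      have hcond : (p ^ d = p ∧ p % 7 = 6) ∨ (p ^ d = p ^ 3 ∧ (p % 7 = 3 ∨ p % 7 = 5)) := by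
        have hlt : p % 7 < 7 := Nat.mod_lt _ (by norm_num)
        have hm1 := hm 1
        have hm2 := hm 2
        have hm3 := hm 3
        generalize p % 7 = x at hlt he hm1 hm2 hm3 ⊢
        interval_cases d <;> interval_cases x <;> first | (left; exact ⟨pow_one p, rfl⟩) | (right; refine ⟨rfl, ?_⟩; decide) | (exfalso; revert he hm1 hm2 hm3; decide)
      exact Or.inr (Or.inr (Or.inr (Or.inr (Or.inr (Or.inr (Or.inl (⟨p, R, hp, hchar, hcond, hR, hai, hsim, hcard.trans (by norm_num), hcen, h⟩)))))))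
    · have := Nat.Prime.pow_inj' Nat.prime_two (show Nat.Prime 7 by norm_num) hk one_ne_zero
        (hdim.symm.trans (pow_one 7).symm)
      omega
  · obtain rfl := (Nat.prime_dvd_prime_iff_eq hr (show Nat.Prime 7 by norm_num)).1 hdvd
    exact Or.inr (Or.inr (Or.inr (Or.inl (⟨K, hK, hac, h⟩))))
  · have ha3 : a ≤ 3 := by nlinarith
    interval_cases a
    · omega
    · omega
  · have hkt : k ^ 2 ≤ k ^ t := Nat.pow_le_pow_right (by omega) ht
    nlinarith
  · exact Or.inr (Or.inr (Or.inr (Or.inr (Or.inr (Or.inr (Or.inr (h)))))))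

end Cfsg.Agent.S5811
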