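import Cfsg.Statements.S5825
import Cfsg.Agent.Lib.Classical.AschOrthPoint
import Cfsg.Agent.Lib.Classical.AschOrthParabolic
import Cfsg.Agent.Lib.Classical.MaxOrthSubFour
import Cfsg.Agent.Lib.Classical.MaxOrthFieldMain
import Cfsg.Agent.Lib.Classical.MaxOrthSubfield
import Cfsg.Agent.Lib.Classical.AschEvenType
import Cfsg.Agent.Lib.Classical.OrthGenApps
-- import your own Cfsg.Agent.* helpers here

set_option autoImplicit false
open Cfsg Cfsg.Agent.Classical

namespace Cfsg.Agent.S5825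

theorem bot_ne {F : Type*} [Field F] {W : Submodule F (Fin 8 → F)} {d : ℕ} [NeZero d]
    (h : Module.finrank F W = d) : W ≠ ⊥ := fun e => NeZero.ne d (by rw [← h, e, finrank_bot])

theorem top_ne {F : Type*} [Field F] {W : Submodule F (Fin 8 → F)} {d : ℕ} (h : Module.finrank F W = d)
    (hd : d ≠ 8 := by norm_num) : W ≠ ⊤ := fun e => hd (by rw [← h, e, finrank_top, Module.finrank_fin_fun])

/-- Maximal subgroups of Ω_8^-(q) of geometric type (any q). Let F be a finite field with q elements, Q a non-degenerate quadratic form on F^8 (non-degenerate polar form) of minus type (Witt index 3: no totally singular 4-space), and Ω = Ω_8^-(q) the commutator subgroup of the isometry group of Q, inside GL_8(F). Each of the following, intersected with Ω, is a maximal subgroup of Ω: (1) the stabiliser of any non-zero subspace on which Q vanishes identically (totally singular 1-, 2- and 3-spaces); (2) for q odd, the stabiliser of any proper subspace of odd dimension (1, 3,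 5 or 7) on which the polar form of Q is non-degenerate; (3) the stabiliser of any non-degenerate 2-space of minus type (containing no non-zero singular vector); (4) for q ≥ 4, the stabiliser of any non-degenerate 2-space of plus type (containing a non-zero singular vector); (5) the stabiliser of any non-degenerate 4-space (its orthogonal complement is then a non-degenerate 4-space of the opposite type); (6) for q even, the stabiliser of the 1-space spanned by any non-singular vector v (Q(v) ≠ 0); (7) for q odd, the normaliser of any degree-2 subfield K of the matrix algebra whose elements are self-adjoint for the polar form of Q (Q is then the trace of a quadratic form over K); (8) every subfield group for a subfield F₀ of odd prime index r in F whose F₀-structure carries a non-zero scalar multiple of Q. -/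
theorem result {F : Type*} [Field F] [Fintype F] (Q : (Fin 8 → F) → F) (hQ : Cfsg.Geo.IsNondegenerateQuadraticForm Q) (hminus : ¬ Cfsg.Geo.IsPlusTypeOn Q ⊤) :
    (∀ W : Submodule F (Fin 8 → F), W ≠ ⊥ → Cfsg.Geo.IsTotallySingularQuad Q W → Cfsg.Geo.IsMaximalIn (Cfsg.Geo.omegaGL Q) (Cfsg.Geo.subspaceStabilizer W ⊓ Cfsg.Geo.omegaGL Q)) ∧
    (Odd (Fintype.card F) → ∀ W : Submodule F (Fin 8 → F), W ≠ ⊥ → W ≠ ⊤ → Odd (Module.finrank F W) → Cfsg.Geo.IsNondegenerateOn (QuadraticMap.polar Q) W → Cfsg.Geo.IsMaximalIn (Cfsg.Geo.omegaGL Q) (Cfsg.Geo.subspaceStabilizer W ⊓ Cfsg.Geo.omegaGL Q)) ∧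
    (∀ W : Submodule F (Fin 8 → F), Module.finrank F W = 2 → Cfsg.Geo.IsNondegenerateOn (QuadraticMap.polar Q) W → ¬ Cfsg.Geo.IsPlusTypeOn Q W → Cfsg.Geo.IsMaximalIn (Cfsg.Geo.omegaGL Q) (Cfsg.Geo.subspaceStabilizer W ⊓ Cfsg.Geo.omegaGL Q)) ∧
    (4 ≤ Fintype.card F → ∀ W : Submodule F (Fin 8 → F), Module.finrank F W = 2 → Cfsg.Geo.IsNondegenerateOn (QuadraticMap.polar Q) W → Cfsg.Geo.IsPlusTypeOn Q W → Cfsg.Geo.IsMaximalIn (Cfsg.Geo.omegaGL Q) (Cfsg.Geo.subspaceStabilizer W ⊓ Cfsg.Geo.omegaGL Q)) ∧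
    (∀ W : Submodule F (Fin 8 → F), Module.finrank F W = 4 → Cfsg.Geo.IsNondegenerateOn (QuadraticMap.polar Q) W → Cfsg.Geo.IsMaximalIn (Cfsg.Geo.omegaGL Q) (Cfsg.Geo.subspaceStabilizer W ⊓ Cfsg.Geo.omegaGL Q)) ∧
    (¬ Odd (Fintype.card F) → ∀ v : (Fin 8 → F), Q v ≠ 0 → Cfsg.Geo.IsMaximalIn (Cfsg.Geo.omegaGL Q) (Cfsg.Geo.subspaceStabilizer (Submodule.span F {v}) ⊓ Cfsg.Geo.omegaGL Q)) ∧
    (Odd (Fintype.card F) → ∀ K : Subalgebra F (Matrix (Fin 8) (Fin 8) F), Cfsg.Geo.IsFieldSubalgebra 2 K → Cfsg.Geo.IsSelfAdjointFor (QuadraticMap.polar Q) K → Cfsg.Geo.IsMaximalIn (Cfsg.Geo.omegaGL Q) (Cfsg.Geo.subalgebraNormalizer K ⊓ Cfsg.Geo.omegaGL Q)) ∧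
    (∀ (F₀ : Subfield F) (r : ℕ) (P : Matrix.GeneralLinearGroup (Fin 8) F) (ζ : F), r.Prime → Odd r → Fintype.card F = Nat.card F₀ ^ r → ζ ≠ 0 → Cfsg.Geo.IsQuadFormRationalStructure (fun v : Fin 8 → F => ζ * Q v) F₀ P → Cfsg.Geo.IsMaximalIn (Cfsg.Geo.omegaGL Q) (Cfsg.Geo.subfieldSubgroup F₀ P ⊓ Cfsg.Geo.omegaGL Q)) := by
  classical
  have hcard : Fintype.card (Fin 8) = 8 := Fintype.card_fin 8
  refine ⟨fun W hW0 hW => ?_, fun hodd W hW0 hW1 ho hW => ?_, fun W hd hW hnp => ?_, fun h4 W hd hW _ => ?_,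
    fun W hd hW => ?_, fun hchar v hv => ?_, fun hodd K hK hsa => ?_, fun F₀ r P ζ hr ho hc hζ hP => ?_⟩
  · obtain ⟨Qf, rfl⟩ := MaxTv.exists_form hQ
    refine AschOrthTwo.parabolic_maximal (MaxTv.nd_of_isNondegenerateQuadraticForm hQ) (by omega) hW0 hW
      fun y hy hyW hperp h => hminus ⟨W ⊔ Submodule.span F {y}, le_top, fun u hu => ?_, ?_⟩
    · obtain ⟨w, hw, z, hz, rfl⟩ := Submodule.mem_sup.1 hu
      obtain ⟨c, rfl⟩ := Submodule.mem_span_singleton.1 hz
      rw [OrthAut.quad_add, hW w hw, QuadraticMap.map_smul, hy, QuadraticMap.polar_smul_right, hperp w hw]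
      simp
    · rw [Submodule.finrank_sup_span_singleton hyW, finrank_top, Module.finrank_fin_fun]
      omega
  · refine MaxTv.orthogonal_nondeg_maximal_seven _ hQ (by omega) (Or.inr (MaxTv.two_ne_zero_of_card_odd hodd)) W
      hW0 hW1 hW (fun U h2 hU hsel hq z hz hQz => ?_) (fun U _ _ he hsum g _ _ => ?_)
    · rcases hsel with rfl | ⟨-, hsum⟩
      · rw [h2] at ho
        exact absurd ho (by decide)
      · obtain ⟨m, hm⟩ := ho
        omega
    · obtain ⟨m, hm⟩ := ho
      omega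
  · refine MaxTv.nondeg_small_maximal Q hQ (by omega) W (bot_ne hd) hW (by omega) (by omega) fun _ _ z hz hQz => ?_
    obtain ⟨Qf, rfl⟩ := MaxTv.exists_form hQ
    by_contra h0
    exact hnp (MaxTv.plusType_plane hd hz hQz h0)
  · exact MaxTv.nondeg_small_maximal Q hQ (by omega) W (bot_ne hd) hW (by omega) (by omega) fun _ h => by omega
  · by_cases h2 : (2 : F) = 0
    · exact MaxTv.nondeg_four_even_maximal Q hQ hcard h2 hminus W hd hW
    refine MaxTv.orthogonal_nondeg_maximal_seven _ hQ (by omega) (Or.inr h2) W (bot_ne hd) (top_ne hd) hW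
      (fun U h2' hU hsel hq z hz hQz => ?_) (fun U hUW hU he hsum g hg h => ?_)
    · rcases hsel with rfl | ⟨-, hsum⟩ <;> omega
    · obtain ⟨Qf, rfl⟩ := MaxTv.exists_form hQ
      exact hminus (MaxTv.plusType_of_swap (MaxTv.ndQ_of_isNondegenerateOn hW)
        (fun w hw u hu => by rw [QuadraticMap.polar_comm]; exact hUW u hu w hw) (by rw [hd]; decide)
        (by rw [hd, hcard]) (MaxTv.isometry_of_mem_omegaGL hg) h)
  · obtain ⟨Qf, rfl⟩ := MaxTv.exists_form hQ
    refine AschOrthTwo.point_maximal ?_ (MaxTv.nd_of_isNondegenerateQuadraticForm hQ) (by omega) hv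
    by_contra h2
    exact hchar (Asch.odd_card_of_two_ne h2)
  · refine OrthField.orthogonal_overfield_maximal_four Q hQ hodd (by omega) Nat.prime_two (fun d hd => ?_) K hK hsa
    rw [hcard] at hd
    omega
  · refine MaxTv.orthogonal_subfield_maximal_gen Q (Or.inr ⟨hcard, ho, fun h2 hm => ?_⟩) hQ hr F₀ hc P hζ hP
    obtain ⟨Qf, rfl⟩ := MaxTv.exists_form hQ
    obtain ⟨g, hg, hgv⟩ := Subgroup.mem_map.1 hm
    have hnd := MaxTv.nd_of_isNondegenerateQuadraticForm hQ
    have hsq := (OrthAut.negOne_mem_omega_iff hnd (OrthAut.genQ_odd hnd h2) h2 (by rw [hcard]; decide)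
      (Pi.basisFun F (Fin 8))).1 ⟨g, hg, congrArg Units.val hgv⟩
    refine hminus (EvenType.plus_top_iff.1 ((EvenType.plus_iff_disc h2 hnd (m := 3)
      (by rw [Module.finrank_fin_fun]) (Pi.basisFun F (Fin 8))).2 ?_))
    rw [show ((-1 : F) ^ (3 + 1)) = 1 by norm_num, one_mul]
    exact hsq

end Cfsg.Agent.S5825
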