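import Cfsg.Statements.S5826
import Cfsg.Agent.Lib.Classical.AschEven
import Cfsg.Agent.Lib.Classical.AschOrthProper
import Cfsg.Agent.Lib.Classical.AschOrthPlane
-- import your own Cfsg.Agent.* helpers here

set_option autoImplicit false
open Cfsg

namespace Cfsg.Agent.S5826
open Cfsg.Agent.Classical

/-- Every maximal subgroup of Ω_8^-(q) is of one of the listed geometric types or lies in the residual class. Let F be a finite field with q elements, Q a non-degenerate quadratic form on F^8 of minus type (no totally singular 4-space), Ω the commutator subgroup of its isometry group, and H a maximal subgroup of Ω (inside GL_8(F)). Then H is the intersection with Ω of one of: the stabiliser of a non-zero totally singular subspace; for q odd, the stabiliser of a non-degenerate subspace of odd dimension; the stabiliser of a non-degenerate 2-space of minus type; for q ≥ 4, the stabiliser of a non-degenerate 2-space of plus type; the stabiliser of a non-degenerate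 4-space; for q even, the stabiliser of the span of a non-singular vector; the normaliser of a degree-2 subfield of the matrix algebra; a subfield group of odd prime index whose F₀-structure carries a non-zero multiple of Q — or else H lies in the residual class of the orthogonal case (modulo scalars H is almost simple, with absolutely irreducible perfect socle preimage realisable over no proper subfield and fixing no non-degenerate unitary form). -/
theorem result {F : Type*} [Field F] [Fintype F] (Q : (Fin 8 → F) → F) (hQ : Cfsg.Geo.IsNondegenerateQuadraticForm Q) (hminus : ¬ Cfsg.Geo.IsPlusTypeOn Q ⊤) (H : Subgroup (Matrix.GeneralLinearGroup (Fin 8) F)) (hH : Cfsg.Geo.IsMaximalIn (Cfsg.Geo.omegaGL Q) H) :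
    (∃ W : Submodule F (Fin 8 → F), W ≠ ⊥ ∧ Cfsg.Geo.IsTotallySingularQuad Q W ∧ H = Cfsg.Geo.subspaceStabilizer W ⊓ Cfsg.Geo.omegaGL Q) ∨
    (Odd (Fintype.card F) ∧ ∃ W : Submodule F (Fin 8 → F), W ≠ ⊥ ∧ W ≠ ⊤ ∧ Odd (Module.finrank F W) ∧ Cfsg.Geo.IsNondegenerateOn (QuadraticMap.polar Q) W ∧ H = Cfsg.Geo.subspaceStabilizer W ⊓ Cfsg.Geo.omegaGL Q) ∨
    (∃ W : Submodule F (Fin 8 → F), Module.finrank F W = 2 ∧ Cfsg.Geo.IsNondegenerateOn (QuadraticMap.polar Q) W ∧ ¬ Cfsg.Geo.IsPlusTypeOn Q W ∧ H = Cfsg.Geo.subspaceStabilizer W ⊓ Cfsg.Geo.omegaGL Q) ∨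
    (4 ≤ Fintype.card F ∧ ∃ W : Submodule F (Fin 8 → F), Module.finrank F W = 2 ∧ Cfsg.Geo.IsNondegenerateOn (QuadraticMap.polar Q) W ∧ Cfsg.Geo.IsPlusTypeOn Q W ∧ H = Cfsg.Geo.subspaceStabilizer W ⊓ Cfsg.Geo.omegaGL Q) ∨
    (∃ W : Submodule F (Fin 8 → F), Module.finrank F W = 4 ∧ Cfsg.Geo.IsNondegenerateOn (QuadraticMap.polar Q) W ∧ H = Cfsg.Geo.subspaceStabilizer W ⊓ Cfsg.Geo.omegaGL Q) ∨
    (¬ Odd (Fintype.card F) ∧ ∃ v : (Fin 8 → F), Q v ≠ 0 ∧ H = Cfsg.Geo.subspaceStabilizer (Submodule.span F {v}) ⊓ Cfsg.Geo.omegaGL Q) ∨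
    (∃ K : Subalgebra F (Matrix (Fin 8) (Fin 8) F), Cfsg.Geo.IsFieldSubalgebra 2 K ∧ H = Cfsg.Geo.subalgebraNormalizer K ⊓ Cfsg.Geo.omegaGL Q) ∨
    (∃ (F₀ : Subfield F) (r : ℕ) (P : Matrix.GeneralLinearGroup (Fin 8) F) (ζ : F), r.Prime ∧ Odd r ∧ Fintype.card F = Nat.card F₀ ^ r ∧ ζ ≠ 0 ∧ Cfsg.Geo.IsQuadFormRationalStructure (fun v : Fin 8 → F => ζ * Q v) F₀ P ∧ H = Cfsg.Geo.subfieldSubgroup F₀ P ⊓ Cfsg.Geo.omegaGL Q) ∨
    Cfsg.Geo.InOrthogonalResidualClass H := by
  classical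
  obtain ⟨Qf, rfl, hnd⟩ := AschEven.exists_qf hQ
  have h8 : Fintype.card (Fin 8) = 8 := Fintype.card_fin 8
  have h7 : 7 ≤ Fintype.card (Fin 8) := by omega
  have hiso : H ≤ isometryGroup F ⇑Qf := hH.1.le.trans (Subgroup.map_subtype_le _)
  have hsub : ∀ W : Submodule F (Fin 8 → F), W ≠ ⊥ → W ≠ ⊤ → H ≤ Geo.subspaceStabilizer W →
      H = Geo.subspaceStabilizer W ⊓ Geo.omegaGL ⇑Qf := fun W h1 h2 hle =>
    AschOrthTwo.omega_eq_inter hH hle (AschOrthTwo.not_omega_le_subspace hnd h7 h1 h2)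
  by_cases hirr : Asch.Irr H
  swap
  · rcases AschEven.reducible_even hnd hiso hirr with ⟨U, h0, hU, hle⟩ | ⟨h2, v, hv, hle⟩ | ⟨W, h0, hW, hd, hle⟩
    · exact Or.inl ⟨U, h0, hU, hsub U h0 (AschEven.ts_ne_top hnd hU) hle⟩
    · have hv0 : v ≠ 0 := fun h => hv (by rw [h, QuadraticMap.map_zero])
      refine Or.inr (Or.inr (Or.inr (Or.inr (Or.inr (Or.inl ⟨fun hodd => ?_, v, hv, hsub _ (by simpa using hv0)
        (fun h => ?_) hle⟩)))))
      · exact AschOrthTwo.two_ne_zero_of_odd_card hodd h2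
      · have h1 := finrank_top F (Fin 8 → F)
        rw [← h, finrank_span_singleton hv0, Module.finrank_fin_fun] at h1
        omega
    have hWt : W ≠ ⊤ := fun h => by
      rw [h, finrank_top, Module.finrank_fin_fun] at hd
      omega
    have hpos : 0 < Module.finrank F W :=
      Nat.pos_of_ne_zero fun h => h0 (Submodule.finrank_eq_zero.1 h)
    have heq := hsub W h0 hWt hle
    rcases Nat.even_or_odd (Module.finrank F W) with hev | hod
    · obtain ⟨j, hj⟩ := hev
      by_cases h4 : Module.finrank F W = 4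
      · exact Or.inr (Or.inr (Or.inr (Or.inr (Or.inl ⟨W, h4, hW, heq⟩))))
      have h2 : Module.finrank F W = 2 := by omega
      by_cases hp : Geo.IsPlusTypeOn (⇑Qf) W
      · by_cases hq : 4 ≤ Fintype.card F
        · exact Or.inr (Or.inr (Or.inr (Or.inl ⟨hq, W, h2, hW, hp, heq⟩)))
        · obtain ⟨K, hK, hKlt⟩ := AschOrthTwo.plane_not_maximal (by omega) hnd h7 h2 hW hp
          rcases hH.2 K (heq.le.trans hK.le) hKlt.le with h | h
          · exact absurd (h.trans heq) hK.ne'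
          · exact absurd h hKlt.ne
      · exact Or.inr (Or.inr (Or.inl ⟨W, h2, hW, hp, heq⟩))
    · exact Or.inr (Or.inl ⟨AschEven.odd_card_of_odd hod hW, W, h0, hWt, hod, hW, heq⟩)
  rcases AschEven.irr_even hnd (by omega) hiso hirr with ⟨t, k, D, htk, hD, -⟩ | ⟨k, D, hk, hM, hts, -⟩ |
    ⟨r, K, hr, hK, -, hle, -⟩ | ⟨a, b, e, P, C, D, hab, hT⟩ | h | h | ⟨F₁, r, P, ζ, hr, hc, hζ, hP, hle⟩ | h
  · refine absurd ?_ hminus
    have ht := hD.decomp.decomp.two_le
    have hk0 := hD.decomp.decomp.pos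
    rw [h8] at htk
    have hkd : k ∈ Nat.divisors 8 := Nat.mem_divisors.2 ⟨⟨t, by rw [mul_comm]; omega⟩, by omega⟩
    rw [show Nat.divisors 8 = {1, 2, 4, 8} by decide] at hkd
    simp only [Finset.mem_insert, Finset.mem_singleton] at hkd
    rcases hkd with rfl | rfl | rfl | rfl
    · have h2 : (2 : F) ≠ 0 := AschOrthTwo.two_ne_zero_of_odd_card
        (AschEven.odd_card_of_odd (by rw [hD.decomp.decomp.finrank_eq]; exact odd_one)
          (hD.decomp.nondegenerate ⟨0, by omega⟩))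
      exact (EvenType.decomp_plus_disc h2 hnd (m := 3) (by omega) ⟨4, by omega⟩ hD).2 ⟨1, by norm_num⟩
    · exact (EvenType.decomp_plus_even ⟨1, rfl⟩ hD ⟨0, by omega⟩).2 (Or.inr ⟨2, by omega⟩)
    · exact (EvenType.decomp_plus_even ⟨2, rfl⟩ hD ⟨0, by omega⟩).2 (Or.inr ⟨1, by omega⟩)
    · omega
  · exact absurd (AschEven.plus_of_half (hts 0) (by rw [hM.finrank_eq, hk])) hminus
  · have hr2 : r = 2 := by
      have h1 := Asch.field_degree_dvd hK
      rw [h8, show (8 : ℕ) = 2 ^ 3 by rfl] at h1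
      exact (Nat.prime_dvd_prime_iff_eq hr Nat.prime_two).1 (hr.dvd_of_dvd_pow h1)
    subst hr2
    exact Or.inr (Or.inr (Or.inr (Or.inr (Or.inr (Or.inr (Or.inl ⟨K, hK,
      AschOrthTwo.omega_eq_inter hH hle (AschOrthTwo.not_omega_le_field hnd h7 le_rfl hK)⟩))))))
  · have hcard : a * b = 8 := by rw [← Asch.card_of_equiv e, h8]
    have ha := hT.ha
    have ha3 : a ≤ 3 := by nlinarith
    rcases AschEven.tensor_cases hnd (by omega) hiso hirr hT ha3 with h | h | ⟨-, -, -, -, -, -, hp, -⟩ | ⟨h3, -⟩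
    · obtain ⟨k, D', hk, hM, hts, -⟩ := AschEven.ts_pair hnd (by omega) hiso hirr h
      exact absurd (AschEven.plus_of_half (hts 0) (by rw [hM.finrank_eq, hk])) hminus
    · obtain ⟨r, K, hr, hK, -, hle, -⟩ := h
      have hr2 : r = 2 := by
        have h1 := Asch.field_degree_dvd hK
        rw [h8, show (8 : ℕ) = 2 ^ 3 by rfl] at h1
        exact (Nat.prime_dvd_prime_iff_eq hr Nat.prime_two).1 (hr.dvd_of_dvd_pow h1)
      subst hr2
      exact Or.inr (Or.inr (Or.inr (Or.inr (Or.inr (Or.inr (Or.inl ⟨K, hK,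
        AschOrthTwo.omega_eq_inter hH hle (AschOrthTwo.not_omega_le_field hnd h7 le_rfl hK)⟩))))))
    · exact absurd hp hminus
    · subst h3; omega
  · exact absurd (AschEven.abelian_case hnd (by omega) hiso h).2 hminus
  · exact absurd (AschEven.family_eight hnd h8 hiso hirr h) hminus
  · rcases hr.eq_two_or_odd' with rfl | hodd
    · exact absurd (AschEven.plus_of_rat_two hnd (m := 3) (by omega) hc hζ hP) hminus
    refine Or.inr (Or.inr (Or.inr (Or.inr (Or.inr (Or.inr (Or.inr (Or.inl ⟨F₁, r, P, ζ, hr, hodd, hc, hζ, hP,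
      AschOrthTwo.omega_eq_inter hH hle (AschOrthTwo.not_omega_le_subfield hnd h7 (fun ht => ?_) P)⟩)))))))
    subst ht
    rw [Nat.card_congr (Equiv.subtypeUnivEquiv fun x => Subfield.mem_top x), Nat.card_eq_fintype_card] at hc
    have h1 : (Fintype.card F) ^ 1 < Fintype.card F ^ r := Nat.pow_lt_pow_right Fintype.one_lt_card hr.one_lt
    rw [pow_one, ← hc] at h1
    exact lt_irrefl _ h1
  · exact Or.inr (Or.inr (Or.inr (Or.inr (Or.inr (Or.inr (Or.inr (Or.inr h)))))))

end Cfsg.Agent.S5826
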