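import Cfsg.Statements.S5832
import Cfsg.Agent.Lib.Classical.AschUnitShape
import Cfsg.Agent.Lib.Classical.AschUnitShape

set_option autoImplicit false
set_option maxHeartbeats 1000000
set_option synthInstance.maxSize 4000
set_option synthInstance.maxHeartbeats 400000
set_option maxRecDepth 8000
open Cfsg Cfsg.Agent.Classical.Asch

namespace Cfsg.Agent.S5832

/-- Every maximal subgroup of SU_9(q) is of one of the listed geometric types or lies in the residual class. Let F be the field with q² elements, f the standard unitary form Σ u_i v_i^q on F^9, and H a maximal subgroup of SU_9(q) (inside GL_9(F)). Then H is the intersection with SU_9(q) of one of: the stabiliser of a non-zero totally isotropic subspace; the stabiliser of a non-degenerate 1-, 2-, 3- or 4-space; the stabiliser of a decomposition into nine mutually orthogonal non-degenerate 1-spaces; of a decomposition into three mutually orthogonal non-degenerate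 3-spaces; the normaliser of an adjoint-closed degree-3 subfield of the matrix algebra; a subfield group of odd prime index whose F₀-structure carries f; for q odd, a subfield group of index 2 whose F₀-structure carries f; for q = p ≡ 2 mod 3 prime, the normaliser of an absolutely irreducible extraspecial group 3_+^(1+4) of exponent 3 inside the similarity group of f; for q ≥ 3, the stabiliser of a tensor decomposition of f as a tensor square of a unitary form on F^3 — or else H lies in the residual class of the unitary case. -/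
theorem result {F : Type*} [Field F] [Fintype F] (q : ℕ) (hF : Fintype.card F = q ^ 2) (H : Subgroup (Matrix.GeneralLinearGroup (Fin 9) F)) (hH : Cfsg.Geo.IsMaximalIn (Cfsg.GU 9 F q ⊓ Cfsg.Geo.specialLinear (Fin 9) F) H) :
    (∃ W : Submodule F (Fin 9 → F), W ≠ ⊥ ∧ Cfsg.Geo.IsTotallySingularFor (Cfsg.hermForm 9 F q) W ∧ H = Cfsg.Geo.subspaceStabilizer W ⊓ (Cfsg.GU 9 F q ⊓ Cfsg.Geo.specialLinear (Fin 9) F)) ∨
    (∃ W : Submodule F (Fin 9 → F), W ≠ ⊥ ∧ Cfsg.Geo.IsNondegenerateOn (Cfsg.hermForm 9 F q) W ∧ 2 * Module.finrank F W < 9 ∧ H = Cfsg.Geo.subspaceStabilizer W ⊓ (Cfsg.GU 9 F q ⊓ Cfsg.Geo.specialLinear (Fin 9) F)) ∨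
    (∃ D : Fin 9 → Submodule F (Fin 9 → F), Cfsg.Geo.IsNondegenerateMDecomposition (Cfsg.hermForm 9 F q) 1 D ∧ H = Cfsg.Geo.decompositionStabilizer D ⊓ (Cfsg.GU 9 F q ⊓ Cfsg.Geo.specialLinear (Fin 9) F)) ∨
    (∃ D : Fin 3 → Submodule F (Fin 9 → F), Cfsg.Geo.IsNondegenerateMDecomposition (Cfsg.hermForm 9 F q) 3 D ∧ H = Cfsg.Geo.decompositionStabilizer D ⊓ (Cfsg.GU 9 F q ⊓ Cfsg.Geo.specialLinear (Fin 9) F)) ∨
    (∃ K : Subalgebra F (Matrix (Fin 9) (Fin 9) F), Cfsg.Geo.IsFieldSubalgebra 3 K ∧ Cfsg.Geo.IsAdjointClosedFor (Cfsg.hermForm 9 F q) K ∧ H = Cfsg.Geo.subalgebraNormalizer K ⊓ (Cfsg.GU 9 F q ⊓ Cfsg.Geo.specialLinear (Fin 9) F)) ∨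
    (∃ (F₀ : Subfield F) (r : ℕ) (P : Matrix.GeneralLinearGroup (Fin 9) F), r.Prime ∧ Odd r ∧ Fintype.card F = Nat.card F₀ ^ r ∧ Cfsg.Geo.IsFormRationalStructure (Cfsg.hermForm 9 F q) F₀ 1 P ∧ H = Cfsg.Geo.subfieldSubgroup F₀ P ⊓ (Cfsg.GU 9 F q ⊓ Cfsg.Geo.specialLinear (Fin 9) F)) ∨
    (Odd q ∧ ∃ (F₀ : Subfield F) (P : Matrix.GeneralLinearGroup (Fin 9) F), Fintype.card F = Nat.card F₀ ^ 2 ∧ Cfsg.Geo.IsFormRationalStructure (Cfsg.hermForm 9 F q) F₀ 1 P ∧ H = Cfsg.Geo.subfieldSubgroup F₀ P ⊓ (Cfsg.GU 9 F q ⊓ Cfsg.Geo.specialLinear (Fin 9) F)) ∨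
    (∃ (p : ℕ) (R : Subgroup (Matrix.GeneralLinearGroup (Fin 9) F)), p.Prime ∧ q = p ∧ p % 3 = 2 ∧ Cfsg.Geo.IsSymplecticTypeGroup 3 R ∧ Cfsg.Geo.ActsAbsolutelyIrreducibly (Cfsg.Geo.matrixSet R) ∧ R ≤ Cfsg.Geo.similarityGroup (Cfsg.hermForm 9 F q) ∧ Nat.card R = 243 ∧ Nat.card (Subgroup.center R) = 3 ∧ H = Cfsg.Geo.subgroupNormalizer R ⊓ (Cfsg.GU 9 F q ⊓ Cfsg.Geo.specialLinear (Fin 9) F)) ∨
    (3 ≤ q ∧ ∃ (e : Fin 9 ≃ (Fin 2 → Fin 3)) (P : Matrix.GeneralLinearGroup (Fin 9) F) (f₁ : (Fin 3 → F) → (Fin 3 → F) → F), Cfsg.Geo.IsUnitaryFormPow q f₁ ∧ Cfsg.Geo.IsTensorPowerFormStructure (fun x : F => x ^ q) (Cfsg.hermForm 9 F q) f₁ e P ∧ H = Cfsg.Geo.tensorWreathSubgroup 3 2 e P ⊓ (Cfsg.GU 9 F q ⊓ Cfsg.Geo.specialLinear (Fin 9) F)) ∨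
    Cfsg.Geo.InUnitaryResidualClass H := by
  rcases (unitShape (show 5 ≤ 9 by norm_num) hF hH).shape with ⟨W, h1, h2, h⟩ | ⟨W, h1, h2, h3, h⟩ |
    ⟨t, k, D, hD, ht, hk1, hc, h⟩ | ⟨k, D, hk, hD, hts, h⟩ | ⟨F₀, r, P, hr, hro, hc, hrat, h⟩ |
    ⟨ho, F₀, P, hc, hrat, h⟩ | ⟨hev, F₀, P, ζ, hc, hζ, hz, hrat, halt, h⟩ |
    ⟨r, R, p, e, k, hR, hai, hsim, hrp, hmin, hcases, hdim, h⟩ | ⟨r, K, hr, hro, hdvd, hK, hac, h⟩ |
    ⟨a, b, e, P, f₁, f₂, ha, hab, hc, hf₁, hf₂, hst, h⟩ |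
    ⟨k, t, e, P, f₁, hk, ht, hc, hex, hf₁, hst, h⟩ | h
  · exact Or.inl (⟨W, h1, h2, h⟩)
  · exact Or.inr (Or.inl (⟨W, h1, h2, h3, h⟩))
  · have hk2 : k ≤ 4 := by nlinarith
    interval_cases k
    · obtain rfl : t = 9 := by omega
      exact Or.inr (Or.inr (Or.inl (⟨D, hD, h⟩)))
    · omega
    · obtain rfl : t = 3 := by omega
      exact Or.inr (Or.inr (Or.inr (Or.inl (⟨D, hD, h⟩))))
    · omega
  · omega
  · exact Or.inr (Or.inr (Or.inr (Or.inr (Or.inr (Or.inl (⟨F₀, r, P, hr, hro, hc, hrat, h⟩))))))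
  · exact Or.inr (Or.inr (Or.inr (Or.inr (Or.inr (Or.inr (Or.inl (⟨ho, F₀, P, hc, hrat, h⟩)))))))
  · exact absurd hev (by decide)
  · have hk : k ≠ 0 := by rintro rfl; norm_num at hdim
    rcases hcases with ⟨ho, hcen, -, hcard⟩ | ⟨rfl, rfl, hcen, hcard⟩
    · obtain ⟨rfl, rfl⟩ := Nat.Prime.pow_inj' hR.prime Nat.prime_three hk two_ne_zero
        (hdim.symm.trans (by norm_num : 9 = 3 ^ 2))
      rw [hcen] at hmin
      obtain ⟨hp, hchar, d, rfl, rfl, hd, hlt, he, hm⟩ := unit_class_six ho hR.prime hrp hF hmin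
      obtain rfl : d = 1 := by omega
      have hp3 : p % 3 = 2 := by
        have := hm 1 one_pos (by norm_num)
        have hlt : p % 3 < 3 := Nat.mod_lt _ (by norm_num)
        generalize p % 3 = x at hlt he this ⊢
        interval_cases x <;> (revert he this; decide)
      exact Or.inr (Or.inr (Or.inr (Or.inr (Or.inr (Or.inr (Or.inr (Or.inl (⟨p, R, hp, pow_one p, hp3, hR, hai, hsim, hcard.trans (by norm_num), hcen, h⟩))))))))
    · have := Nat.Prime.pow_inj' Nat.prime_two Nat.prime_three hk two_ne_zero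
        (hdim.symm.trans (by norm_num : 9 = 3 ^ 2))
      omega
  · obtain rfl : r = 3 := by
      have := Nat.le_of_dvd (by norm_num) hdvd
      interval_cases r <;> first | rfl | (revert hr hro hdvd; decide)
    exact Or.inr (Or.inr (Or.inr (Or.inr (Or.inl (⟨K, hK, hac, h⟩)))))
  · have ha3 : a ≤ 3 := by nlinarith
    interval_cases a
    · omega
    · omega
  · have hkt : k ^ 2 ≤ k ^ t := Nat.pow_le_pow_right (by omega) ht
    obtain rfl : k = 3 := by nlinarith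
    obtain rfl : t = 2 := Nat.pow_right_injective (by norm_num : 2 ≤ 3) (hc.trans (by norm_num))
    have hq : 3 ≤ q := by
      have := Cfsg.Agent.Classical.two_le_q hF
      rcases Nat.lt_or_ge q 3 with h3 | h3
      · exact absurd ⟨by omega, rfl⟩ hex
      · exact h3
    exact Or.inr (Or.inr (Or.inr (Or.inr (Or.inr (Or.inr (Or.inr (Or.inr (Or.inl (⟨hq, e, P, f₁, hf₁, hst, h⟩)))))))))
  · exact Or.inr (Or.inr (Or.inr (Or.inr (Or.inr (Or.inr (Or.inr (Or.inr (Or.inr (h)))))))))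

end Cfsg.Agent.S5832
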