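import Cfsg.Statements.S5846
import Cfsg.Agent.Lib.Classical.AschOrthPoint
import Cfsg.Agent.Lib.Classical.MaxOrthSubMinus
import Cfsg.Agent.Lib.Classical.MaxFrameMain
import Cfsg.Agent.Lib.Classical.MaxOrthRefMain
import Cfsg.Agent.Lib.Classical.MaxOrthWreathMain
import Cfsg.Agent.Lib.Classical.MaxOrthHalves
import Cfsg.Agent.Lib.Classical.MaxOrthFieldMain
import Cfsg.Agent.Lib.Classical.MaxOrthSubfield


set_option autoImplicit false
open Cfsg Cfsg.Agent.Classical

namespace Cfsg.Agent.S5846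

theorem bot_ne {F : Type*} [Field F] {W : Submodule F (Fin 10 → F)} {d : ℕ} [NeZero d]
    (h : Module.finrank F W = d) : W ≠ ⊥ := fun e => NeZero.ne d (by rw [← h, e, finrank_bot])

theorem top_ne {F : Type*} [Field F] {W : Submodule F (Fin 10 → F)} {d : ℕ} (h : Module.finrank F W = d)
    (hd : d ≠ 10 := by norm_num) : W ≠ ⊤ := fun e => hd (by rw [← h, e, finrank_top, Module.finrank_fin_fun])

/-- Maximal subgroups of Ω_10^+(q) of geometric type (any q). Let F be a finite field with q elements (characteristic p), Q a non-degenerate quadratic form on F^10 (non-degenerate polar form) of plus type (Witt index 5: some totally singular 5-space), and Ω = Ω_10^+(q) the commutator subgroup of the isometry group of Q, inside GL_10(F). Each of the following, intersected with Ω, is a maximal subgroup of Ω: (1) the stabiliser of any non-zero subspace on which Q vanishes identically other than those of dimension 4 (totally singular subspaces, dimensions 1, 2, 3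 and 5); (2) for q odd, the stabiliser of any proper subspace of odd dimension other than 5 on which the polar form of Q is non-degenerate; (3) the stabiliser of any non-degenerate 2-space of minus type (containing no non-zero singular vector); (4) for q ≥ 4, the stabiliser of any non-degenerate 2-space of plus type (containing a non-zero singular vector); (5) the stabiliser of any non-degenerate 4-space (either type); (6) for q even, the stabiliser of the 1-space spanned by any non-singular vector v (Q(v) ≠ 0); (7) for q = p prime with p ≡ 1 mod 4, the stabiliser of any decomposition of F^10 into 10 pairwise orthogonal, pairwise Q-isometric non-degenerate 1-spaces; (8) for q ≥ 7, the stabiliser of any decomposition of F^10 into 5 pairwise orthogonal, pairwise Q-isometric non-degenerate 2-spaces; (9) for q ≡ 1 mod 4, the stabiliser of any decomposition of F^10 into 2 pairwise orthogonal, pairwise Q-isometric non-degenerate 5-spaces; (10) for q ≡ 3 mod 4,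 the stabiliser of any decomposition of F^10 into two orthogonal non-degenerate 5-spaces that are not Q-isometric; (11) for q odd, the normaliser of any degree-2 subfield K of the matrix algebra whose elements are self-adjoint for the polar form of Q (Q is then the trace of a quadratic form over K); (12) every subfield group for a subfield F₀ with |F| = |F₀|^r, r prime, whose F₀-structure carries a non-zero scalar multiple of Q. -/
theorem result {F : Type*} [Field F] [Fintype F] (Q : (Fin 10 → F) → F) (hQ : Cfsg.Geo.IsNondegenerateQuadraticForm Q) (hplus : Cfsg.Geo.IsPlusTypeOn Q ⊤) :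
    (∀ W : Submodule F (Fin 10 → F), W ≠ ⊥ → Cfsg.Geo.IsTotallySingularQuad Q W → Module.finrank F W ≠ 4 → Cfsg.Geo.IsMaximalIn (Cfsg.Geo.omegaGL Q) (Cfsg.Geo.subspaceStabilizer W ⊓ Cfsg.Geo.omegaGL Q)) ∧
    (Odd (Fintype.card F) → ∀ W : Submodule F (Fin 10 → F), W ≠ ⊥ → W ≠ ⊤ → Odd (Module.finrank F W) → 2 * Module.finrank F W ≠ 10 → Cfsg.Geo.IsNondegenerateOn (QuadraticMap.polar Q) W → Cfsg.Geo.IsMaximalIn (Cfsg.Geo.omegaGL Q) (Cfsg.Geo.subspaceStabilizer W ⊓ Cfsg.Geo.omegaGL Q)) ∧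
    (∀ W : Submodule F (Fin 10 → F), Module.finrank F W = 2 → Cfsg.Geo.IsNondegenerateOn (QuadraticMap.polar Q) W → ¬ Cfsg.Geo.IsPlusTypeOn Q W → Cfsg.Geo.IsMaximalIn (Cfsg.Geo.omegaGL Q) (Cfsg.Geo.subspaceStabilizer W ⊓ Cfsg.Geo.omegaGL Q)) ∧
    (4 ≤ Fintype.card F → ∀ W : Submodule F (Fin 10 → F), Module.finrank F W = 2 → Cfsg.Geo.IsNondegenerateOn (QuadraticMap.polar Q) W → Cfsg.Geo.IsPlusTypeOn Q W → Cfsg.Geo.IsMaximalIn (Cfsg.Geo.omegaGL Q) (Cfsg.Geo.subspaceStabilizer W ⊓ Cfsg.Geo.omegaGL Q)) ∧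
    (∀ W : Submodule F (Fin 10 → F), Module.finrank F W = 4 → Cfsg.Geo.IsNondegenerateOn (QuadraticMap.polar Q) W → Cfsg.Geo.IsMaximalIn (Cfsg.Geo.omegaGL Q) (Cfsg.Geo.subspaceStabilizer W ⊓ Cfsg.Geo.omegaGL Q)) ∧
    (¬ Odd (Fintype.card F) → ∀ v : (Fin 10 → F), Q v ≠ 0 → Cfsg.Geo.IsMaximalIn (Cfsg.Geo.omegaGL Q) (Cfsg.Geo.subspaceStabilizer (Submodule.span F {v}) ⊓ Cfsg.Geo.omegaGL Q)) ∧
    ((∃ p : ℕ, p.Prime ∧ Fintype.card F = p ∧ (p % 4 = 1)) → ∀ D : Fin 10 → Submodule F (Fin 10 → F), Cfsg.Geo.IsOrthogonalMDecomposition Q 1 D → Cfsg.Geo.IsMaximalIn (Cfsg.Geo.omegaGL Q) (Cfsg.Geo.decompositionStabilizer D ⊓ Cfsg.Geo.omegaGL Q)) ∧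
    (7 ≤ Fintype.card F → ∀ D : Fin 5 → Submodule F (Fin 10 → F), Cfsg.Geo.IsOrthogonalMDecomposition Q 2 D → Cfsg.Geo.IsMaximalIn (Cfsg.Geo.omegaGL Q) (Cfsg.Geo.decompositionStabilizer D ⊓ Cfsg.Geo.omegaGL Q)) ∧
    (Fintype.card F % 4 = 1 → ∀ D : Fin 2 → Submodule F (Fin 10 → F), Cfsg.Geo.IsOrthogonalMDecomposition Q 5 D → Cfsg.Geo.IsMaximalIn (Cfsg.Geo.omegaGL Q) (Cfsg.Geo.decompositionStabilizer D ⊓ Cfsg.Geo.omegaGL Q)) ∧
    (Fintype.card F % 4 = 3 → ∀ D : Fin 2 → Submodule F (Fin 10 → F), Cfsg.Geo.IsNondegenerateMDecomposition (QuadraticMap.polar Q) 5 D → ¬ Cfsg.Geo.AreIsometricFor Q (D 0) (D 1) → Cfsg.Geo.IsMaximalIn (Cfsg.Geo.omegaGL Q) (Cfsg.Geo.decompositionStabilizer D ⊓ Cfsg.Geo.omegaGL Q)) ∧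
    (Odd (Fintype.card F) → ∀ K : Subalgebra F (Matrix (Fin 10) (Fin 10) F), Cfsg.Geo.IsFieldSubalgebra 2 K → Cfsg.Geo.IsSelfAdjointFor (QuadraticMap.polar Q) K → Cfsg.Geo.IsMaximalIn (Cfsg.Geo.omegaGL Q) (Cfsg.Geo.subalgebraNormalizer K ⊓ Cfsg.Geo.omegaGL Q)) ∧
    (∀ (F₀ : Subfield F) (r : ℕ) (P : Matrix.GeneralLinearGroup (Fin 10) F) (ζ : F), r.Prime → Fintype.card F = Nat.card F₀ ^ r → ζ ≠ 0 → Cfsg.Geo.IsQuadFormRationalStructure (fun v : Fin 10 → F => ζ * Q v) F₀ P → Cfsg.Geo.IsMaximalIn (Cfsg.Geo.omegaGL Q) (Cfsg.Geo.subfieldSubgroup F₀ P ⊓ Cfsg.Geo.omegaGL Q)) := by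
  classical
  have hcard : Fintype.card (Fin 10) = 10 := Fintype.card_fin 10
  refine ⟨fun W hW0 hW hd => ?_, fun hodd W hW0 hW1 ho hd hW => ?_, fun W hd hW hnp => ?_, fun h4 W hd hW _ => ?_,
    fun W hd hW => ?_, fun hchar v hv => ?_, fun hpr D hD => ?_, fun h7 D hD => ?_, fun hq D hD => ?_,
    fun hq D hD hni => ?_, fun hodd K hK hsa => ?_, fun F₀ r P ζ hr hc hζ hP => ?_⟩
  · obtain ⟨Qf, rfl⟩ := MaxTv.exists_form hQ
    exact AschOrthTwo.parabolic_maximal (MaxTv.nd_of_isNondegenerateQuadraticForm hQ) (by omega) hW0 hW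
      fun y _ _ _ h => hd (by omega)
  · refine MaxTv.orthogonal_nondeg_maximal _ hQ (by omega) W hW0 hW1 hW
      (fun U h2 hU hsel hq z hz hQz => ?_) (fun U _ _ he hsum g _ _ => by omega)
    rcases hsel with rfl | ⟨-, hsum⟩
    · rw [h2] at ho
      exact absurd ho (by decide)
    · obtain ⟨m, hm⟩ := ho
      omega
  · refine MaxTv.orthogonal_nondeg_maximal _ hQ (by omega) W (bot_ne hd) (top_ne hd) hW
      (fun U h2 hU hsel hq z hz hQz => ?_) (fun U _ _ he hsum g _ _ => by omega)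
    rcases hsel with rfl | ⟨-, hsum⟩
    · obtain ⟨Qf, rfl⟩ := MaxTv.exists_form hQ
      by_contra h0
      exact hnp (MaxTv.plusType_plane h2 hz hQz h0)
    · omega
  · refine MaxTv.orthogonal_nondeg_maximal _ hQ (by omega) W (bot_ne hd) (top_ne hd) hW
      (fun U h2 hU hsel hq z hz hQz => by omega) (fun U _ _ he hsum g _ _ => by omega)
  · refine MaxTv.orthogonal_nondeg_maximal _ hQ (by omega) W (bot_ne hd) (top_ne hd) hW
      (fun U h2 hU hsel hq z hz hQz => ?_) (fun U _ _ he hsum g _ _ => by omega)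
    rcases hsel with rfl | ⟨-, hsum⟩ <;> omega
  · obtain ⟨Qf, rfl⟩ := MaxTv.exists_form hQ
    refine AschOrthTwo.point_maximal ?_ (MaxTv.nd_of_isNondegenerateQuadraticForm hQ) (by omega) hv
    by_contra h2
    exact hchar (Asch.odd_card_of_two_ne h2)
  · obtain ⟨p, hp, hpF, hp4⟩ := hpr
    exact OrthFrame.orthogonal_frame_maximal Q hQ (by rw [hpF, Nat.odd_iff]; omega) (hpF ▸ hp) (Or.inr (by omega)) D hD
  · exact OrthRef.orthogonal_wreath_two_maximal Q hQ (by omega) D hD (by omega) fun _ => ⟨by omega, by omega, by omega⟩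
  · exact MaxTv.orthogonal_wreath_maximal Q hQ (by rw [Nat.odd_iff]; omega) (by omega) 5 (by norm_num) D hD
      fun h => by omega
  · exact OrthHalves.orthogonal_halves_maximal le_rfl Q hQ 5 rfl D hD hni
  · refine OrthField.orthogonal_overfield_maximal Q hQ hodd (by omega) Nat.prime_two (fun d hd => ?_) K hK hsa
    rw [hcard] at hd
    exact ⟨by omega, fun _ => by omega⟩
  · exact MaxTv.orthogonal_subfield_maximal (Or.inl (Or.inr hcard)) Q hQ hr F₀ hc P hζ hP

end Cfsg.Agent.S5846
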