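import Cfsg.Statements.S5847
import Cfsg.Agent.Lib.Classical.AschEvenCase
-- import your own Cfsg.Agent.* helpers here

set_option autoImplicit false
open Cfsg

namespace Cfsg.Agent.S5847
open Cfsg.Agent.Classical

/-- Every maximal subgroup of Ω_10^+(q) is of one of the listed geometric types or lies in the residual class. Let F be a finite field with q elements (characteristic p), Q a non-degenerate quadratic form on F^10 of plus type (Witt index 5: some totally singular 5-space), Ω the commutator subgroup of its isometry group, and H a maximal subgroup of Ω (inside GL_10(F)). Then H is the intersection with Ω of one of: the stabiliser of a non-zero totally singular subspace of dimension ≠ 4; for q odd, the stabiliser of a non-degenerate subspace of odd dimension ≠ 5; the stabiliser of a non-degenerate 2-space of minus type; for q ≥ 4, the stabiliser of a non-degenerate 2-space of plus type; the stabiliser of a non-degenerate 4-space; for q even, the stabiliser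 of the span of a non-singular vector; for q = p prime with p ≡ 1 mod 4, the stabiliser of a decomposition into 10 pairwise orthogonal, pairwise isometric non-degenerate 1-spaces; for q ≥ 7, the stabiliser of a decomposition into 5 pairwise orthogonal, pairwise isometric non-degenerate 2-spaces; for q ≡ 1 mod 4, the stabiliser of a decomposition into 2 pairwise orthogonal, pairwise isometric non-degenerate 5-spaces; for q ≡ 3 mod 4, the stabiliser of a decomposition into two orthogonal, non-isometric non-degenerate 5-spaces; for q odd, the normaliser of a degree-2 subfield of the matrix algebra, self-adjoint for the polar form; a subfield group (|F| = |F₀|^r, r prime) whose F₀-structure carries a non-zero multiple of Q — or else H lies in the residual class of the orthogonal case (modulo scalars H is almost simple, with absolutely irreducible perfect socle preimage realisable over no proper subfield and fixing no non-degenerate unitary form). -/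
theorem result {F : Type*} [Field F] [Fintype F] (Q : (Fin 10 → F) → F) (hQ : Cfsg.Geo.IsNondegenerateQuadraticForm Q) (hplus : Cfsg.Geo.IsPlusTypeOn Q ⊤) (H : Subgroup (Matrix.GeneralLinearGroup (Fin 10) F)) (hH : Cfsg.Geo.IsMaximalIn (Cfsg.Geo.omegaGL Q) H) :
    (∃ W : Submodule F (Fin 10 → F), W ≠ ⊥ ∧ Cfsg.Geo.IsTotallySingularQuad Q W ∧ Module.finrank F W ≠ 4 ∧ H = Cfsg.Geo.subspaceStabilizer W ⊓ Cfsg.Geo.omegaGL Q) ∨
    (Odd (Fintype.card F) ∧ ∃ W : Submodule F (Fin 10 → F), W ≠ ⊥ ∧ W ≠ ⊤ ∧ Odd (Module.finrank F W) ∧ 2 * Module.finrank F W ≠ 10 ∧ Cfsg.Geo.IsNondegenerateOn (QuadraticMap.polar Q) W ∧ H = Cfsg.Geo.subspaceStabilizer W ⊓ Cfsg.Geo.omegaGL Q) ∨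
    (∃ W : Submodule F (Fin 10 → F), Module.finrank F W = 2 ∧ Cfsg.Geo.IsNondegenerateOn (QuadraticMap.polar Q) W ∧ ¬ Cfsg.Geo.IsPlusTypeOn Q W ∧ H = Cfsg.Geo.subspaceStabilizer W ⊓ Cfsg.Geo.omegaGL Q) ∨
    (4 ≤ Fintype.card F ∧ ∃ W : Submodule F (Fin 10 → F), Module.finrank F W = 2 ∧ Cfsg.Geo.IsNondegenerateOn (QuadraticMap.polar Q) W ∧ Cfsg.Geo.IsPlusTypeOn Q W ∧ H = Cfsg.Geo.subspaceStabilizer W ⊓ Cfsg.Geo.omegaGL Q) ∨
    (∃ W : Submodule F (Fin 10 → F), Module.finrank F W = 4 ∧ Cfsg.Geo.IsNondegenerateOn (QuadraticMap.polar Q) W ∧ H = Cfsg.Geo.subspaceStabilizer W ⊓ Cfsg.Geo.omegaGL Q) ∨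
    (¬ Odd (Fintype.card F) ∧ ∃ v : (Fin 10 → F), Q v ≠ 0 ∧ H = Cfsg.Geo.subspaceStabilizer (Submodule.span F {v}) ⊓ Cfsg.Geo.omegaGL Q) ∨
    ((∃ p : ℕ, p.Prime ∧ Fintype.card F = p ∧ (p % 4 = 1)) ∧ ∃ D : Fin 10 → Submodule F (Fin 10 → F), Cfsg.Geo.IsOrthogonalMDecomposition Q 1 D ∧ H = Cfsg.Geo.decompositionStabilizer D ⊓ Cfsg.Geo.omegaGL Q) ∨
    (7 ≤ Fintype.card F ∧ ∃ D : Fin 5 → Submodule F (Fin 10 → F), Cfsg.Geo.IsOrthogonalMDecomposition Q 2 D ∧ H = Cfsg.Geo.decompositionStabilizer D ⊓ Cfsg.Geo.omegaGL Q) ∨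
    (Fintype.card F % 4 = 1 ∧ ∃ D : Fin 2 → Submodule F (Fin 10 → F), Cfsg.Geo.IsOrthogonalMDecomposition Q 5 D ∧ H = Cfsg.Geo.decompositionStabilizer D ⊓ Cfsg.Geo.omegaGL Q) ∨
    (Fintype.card F % 4 = 3 ∧ ∃ D : Fin 2 → Submodule F (Fin 10 → F), Cfsg.Geo.IsNondegenerateMDecomposition (QuadraticMap.polar Q) 5 D ∧ ¬ Cfsg.Geo.AreIsometricFor Q (D 0) (D 1) ∧ H = Cfsg.Geo.decompositionStabilizer D ⊓ Cfsg.Geo.omegaGL Q) ∨
    (Odd (Fintype.card F) ∧ ∃ K : Subalgebra F (Matrix (Fin 10) (Fin 10) F), Cfsg.Geo.IsFieldSubalgebra 2 K ∧ Cfsg.Geo.IsSelfAdjointFor (QuadraticMap.polar Q) K ∧ H = Cfsg.Geo.subalgebraNormalizer K ⊓ Cfsg.Geo.omegaGL Q) ∨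
    (∃ (F₀ : Subfield F) (r : ℕ) (P : Matrix.GeneralLinearGroup (Fin 10) F) (ζ : F), r.Prime ∧ Fintype.card F = Nat.card F₀ ^ r ∧ ζ ≠ 0 ∧ Cfsg.Geo.IsQuadFormRationalStructure (fun v : Fin 10 → F => ζ * Q v) F₀ P ∧ H = Cfsg.Geo.subfieldSubgroup F₀ P ⊓ Cfsg.Geo.omegaGL Q) ∨
    Cfsg.Geo.InOrthogonalResidualClass H := by
  classical
  obtain ⟨Qf, rfl, hnd⟩ := AschEven.exists_qf hQ
  refine id (α := ?G) ?_
  have h10 : Fintype.card (Fin 10) = 10 := Fintype.card_fin 10
  have h7 : 7 ≤ Fintype.card (Fin 10) := by omega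
  have hiso : H ≤ isometryGroup F ⇑Qf := hH.1.le.trans AschEven.omega_le_iso
  obtain ⟨U₀, -, hU₀, hU₀d⟩ := id hplus
  have hhalf : OrthAut.Half Qf U₀ :=
    ⟨hU₀, by rw [hU₀d, finrank_top, Module.finrank_pi]⟩
  by_cases hirr : Asch.Irr H
  swap
  · rcases AschEven.reducible_cases hnd h7 hH hirr with ⟨U, h0, hU, heq⟩ | h | ⟨hodd, W, h0, hWt, hod, hd, hW, heq⟩ |
      h | h | ⟨W, h0, hWt, hev, h4, hd, hW, heq⟩
    · refine Or.inl ⟨U, h0, hU, fun h4 => ?_, heq⟩
      obtain ⟨K, hK, hKlt⟩ := AschOrthTwo.nearly_half_not_maximal hnd (AschOrthTwo.tri_of_card hnd h7) hhalf hU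
        (by rw [h4, h10]) (by have := hhalf.2; omega)
      exact AschEven.absurd_between hH heq.le hK hKlt
    · exact Or.inr (Or.inr (Or.inr (Or.inr (Or.inr (Or.inl h)))))
    · by_cases h5 : Module.finrank F W = 5
      swap
      · exact Or.inr (Or.inl ⟨hodd, W, h0, hWt, hod, by omega, hW, heq⟩)
      have h2 : (2 : F) ≠ 0 := AschOrthTwo.two_ne_zero_of_odd_card hodd
      obtain ⟨D, hD, hle⟩ := AschEven.half_pair hnd (k := 5) (by omega) (by omega) hiso hW h5 (heq.le.trans inf_le_left)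
      have hDeq : H = Geo.decompositionStabilizer D ⊓ Geo.omegaGL ⇑Qf :=
        AschOrthTwo.omega_eq_inter hH hle (AschOrthTwo.not_omega_le_decomp hnd h7 h2 hD)
      by_cases hi : Geo.AreIsometricFor (⇑Qf) (D 0) (D 1)
      · have hsq := (EvenType.decomp_plus_disc h2 hnd (m := 4) (by omega) ⟨1, rfl⟩
          (AschEven.ortho_pair hD hi)).1 hplus
        rw [show ((-1 : F) ^ (4 + 1)) = -1 by norm_num] at hsq
        exact Or.inr (Or.inr (Or.inr (Or.inr (Or.inr (Or.inr (Or.inr (Or.inr (Or.inl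
          ⟨(EvenType.neg_one_square_iff h2).1 hsq, D, AschEven.ortho_pair hD hi, hDeq⟩))))))))
      · have hsq := (EvenType.halves_noniso h2 hnd (j := 2) (by omega) hD hi).1 hplus
        exact Or.inr (Or.inr (Or.inr (Or.inr (Or.inr (Or.inr (Or.inr (Or.inr (Or.inr (Or.inl
          ⟨AschEven.mod_four_of_square h2 hsq, D, hD, hi, hDeq⟩)))))))))
    · exact Or.inr (Or.inr (Or.inl h))
    · exact Or.inr (Or.inr (Or.inr (Or.inl h)))
    · obtain ⟨j, hj⟩ := hev
      exact Or.inr (Or.inr (Or.inr (Or.inr (Or.inl ⟨W, by omega, hW, heq⟩))))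
  have hrat : ∀ (F₁ : Subfield F) (r : ℕ) (P : GL (Fin 10) F) (ζ : F), r.Prime →
      Fintype.card F = Nat.card F₁ ^ r → ζ ≠ 0 →
      Geo.IsQuadFormRationalStructure (fun v => ζ * Qf v) F₁ P → H ≤ Geo.subfieldSubgroup F₁ P → ?G :=
    fun F₁ r P ζ hr hc hζ hP hle =>
      Or.inr (Or.inr (Or.inr (Or.inr (Or.inr (Or.inr (Or.inr (Or.inr (Or.inr (Or.inr (Or.inr (Or.inl
        ⟨F₁, r, P, ζ, hr, hc, hζ, hP, AschOrthTwo.omega_eq_inter hH hle
          (AschOrthTwo.not_omega_le_subfield hnd h7 (AschEven.not_prime_pow_of hr hc) P)⟩)))))))))))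
  have hdec : ∀ (t k : ℕ) (D : Fin t → Submodule F (Fin 10 → F)), t * k = Fintype.card (Fin 10) →
      Geo.IsOrthogonalMDecomposition (⇑Qf) k D → H ≤ Geo.decompositionStabilizer D → ?G := by
    intro t k D htk hD hle
    rw [h10] at htk
    have ht := hD.decomp.decomp.two_le
    have hnle := AschEven.not_omega_le_parts hnd (by omega) hD.decomp fun _ => hD
    have hle' : H ≤ Geo.decompositionStabilizer D ⊓ isometryGroup F ⇑Qf := le_inf hle hiso
    have hkd : k ∈ Nat.divisors 10 := Nat.mem_divisors.2 ⟨⟨t, by rw [mul_comm]; omega⟩, by omega⟩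
    rw [show Nat.divisors 10 = {1, 2, 5, 10} by decide] at hkd
    simp only [Finset.mem_insert, Finset.mem_singleton] at hkd
    rcases hkd with rfl | rfl | rfl | rfl
    · obtain rfl : t = 10 := by omega
      have h2 : (2 : F) ≠ 0 := AschOrthTwo.two_ne_zero_of_odd_card
        (AschEven.odd_card_of_odd (by rw [hD.decomp.decomp.finrank_eq]; exact odd_one) (hD.decomp.nondegenerate 0))
      have hsq := (EvenType.decomp_plus_disc h2 hnd (m := 4) (by omega) ⟨5, rfl⟩ hD).1 hplus
      rw [show ((-1 : F) ^ (4 + 1)) = -1 by norm_num] at hsq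
      by_cases hp : (Fintype.card F).Prime
      · exact Or.inr (Or.inr (Or.inr (Or.inr (Or.inr (Or.inr (Or.inl ⟨⟨_, hp, rfl,
          (EvenType.neg_one_square_iff h2).1 hsq⟩, D, hD, AschOrthTwo.omega_eq_inter hH hle hnle⟩))))))
      · obtain ⟨F₁, r, P, ζ, hr, hc, hζ, hP, hsub⟩ := AschEven.lines_subfield hnd h2 hp hD
        exact hrat F₁ r P ζ hr hc hζ hP (hle'.trans hsub)
    · obtain rfl : t = 5 := by omega
      have hp : ∀ i, Geo.IsPlusTypeOn (⇑Qf) (D i) := fun i =>
        ((EvenType.decomp_plus_even ⟨1, rfl⟩ hD i).1 hplus).resolve_right (by decide)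
      by_cases hq : 7 ≤ Fintype.card F
      · exact Or.inr (Or.inr (Or.inr (Or.inr (Or.inr (Or.inr (Or.inr (Or.inl
          ⟨hq, D, hD, AschOrthTwo.omega_eq_inter hH hle hnle⟩)))))))
      have hq1 := Fintype.one_lt_card (α := F)
      have hq6 := AschEven.card_ne_six (F := F)
      rcases (by omega : Fintype.card F = 2 ∨ Fintype.card F = 3 ∨ Fintype.card F = 4 ∨ Fintype.card F = 5) with
        hq | hq | hq | hq
      · obtain ⟨v, hv, -, hfix⟩ := AschEven.planes_two hD hq hp
        exact (AschEven.not_irr_of_span hirr (by omega) hv (hle'.trans hfix)).elim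
      · obtain ⟨U, hUd, -, hfix⟩ := AschEven.planes_three_plus hD hq hp
        refine (AschEven.not_irr_of_stab hirr (fun h => ?_) (fun h => ?_) (hle'.trans hfix)).elim
        · rw [h, finrank_bot] at hUd; omega
        · rw [h, finrank_top, Module.finrank_pi] at hUd; omega
      · obtain ⟨F₀, P, hc, hP, hsub⟩ := AschEven.planes_four hD hnd hq hp
        exact hrat F₀ 2 P 1 Nat.prime_two hc one_ne_zero hP (hle'.trans hsub)
      · obtain ⟨D', hD', hsub⟩ := AschEven.planes_five hD hq hp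
        exact Or.inr (Or.inr (Or.inr (Or.inr (Or.inr (Or.inr (Or.inl ⟨⟨5, by norm_num, hq, by norm_num⟩, D', hD',
          AschOrthTwo.omega_eq_inter hH (hle'.trans hsub)
            (AschEven.not_omega_le_parts hnd (by omega) hD'.decomp fun _ => hD')⟩))))))
    · obtain rfl : t = 2 := by omega
      have h2 : (2 : F) ≠ 0 := AschOrthTwo.two_ne_zero_of_odd_card
        (AschEven.odd_card_of_odd (by rw [hD.decomp.decomp.finrank_eq]; decide) (hD.decomp.nondegenerate 0))
      have hsq := (EvenType.decomp_plus_disc h2 hnd (m := 4) (by omega) ⟨1, rfl⟩ hD).1 hplus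
      rw [show ((-1 : F) ^ (4 + 1)) = -1 by norm_num] at hsq
      exact Or.inr (Or.inr (Or.inr (Or.inr (Or.inr (Or.inr (Or.inr (Or.inr (Or.inl
        ⟨(EvenType.neg_one_square_iff h2).1 hsq, D, hD, AschOrthTwo.omega_eq_inter hH hle hnle⟩))))))))
    · omega
  have hpair : ∀ (k : ℕ) (D : Fin 2 → Submodule F (Fin 10 → F)), 2 * k = Fintype.card (Fin 10) →
      Geo.IsMDecomposition k D → (∀ i, Geo.IsTotallySingularQuad (⇑Qf) (D i)) →
      H ≤ Geo.decompositionStabilizer D → False := by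
    intro k D hk hM hts hle
    obtain rfl : k = 5 := by omega
    obtain ⟨K, hK, hKlt⟩ := AschOrthTwo.odd_pair_not_maximal hnd (AschOrthTwo.tri_of_card hnd h7) (by decide)
      (by norm_num) hM hts hk
    exact AschEven.absurd_between hH (le_inf hle hH.1.le) hK hKlt
  have hf2 : ∀ K : Subalgebra F (Matrix (Fin 10) (Fin 10) F), Geo.IsFieldSubalgebra 2 K →
      (∀ k ∈ K, Asch.adj (RingEquiv.refl F) (AschEven.gQ Qf) k ∈ K) → H ≤ Geo.subalgebraNormalizer K → ?G := by
    intro K hK hcl hle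
    rcases AschEven.field2_data hnd (by omega) hiso hirr hK hcl hle with ⟨hsa, h4⟩ | ⟨-, -, -, hty⟩
    · have h2 : (2 : F) ≠ 0 := fun h => by have := h4 h; omega
      exact Or.inr (Or.inr (Or.inr (Or.inr (Or.inr (Or.inr (Or.inr (Or.inr (Or.inr (Or.inr (Or.inl
        ⟨AschEven.odd_of_two_ne h2, K, hK, hsa, AschOrthTwo.omega_eq_inter hH hle
          (AschOrthTwo.not_omega_le_field hnd h7 le_rfl hK)⟩))))))))))
    · exact absurd ((hty 4 (by omega)).1 hplus) (by decide)
  have hfield : Asch.FieldCase (RingEquiv.refl F) (AschEven.gQ Qf) H → ?G := by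
    rintro ⟨r, K, hr, hK, hcl, hle, -⟩
    have hr5 : r = 2 ∨ r = 5 := by
      have h1 := Asch.field_degree_dvd hK
      rw [h10, show (10 : ℕ) = 2 * 5 by rfl] at h1
      exact ((Nat.Prime.dvd_mul hr).1 h1).imp (fun h => (Nat.prime_dvd_prime_iff_eq hr Nat.prime_two).1 h)
        fun h => (Nat.prime_dvd_prime_iff_eq hr (by norm_num)).1 h
    rcases hr5 with rfl | rfl
    · exact hf2 K hK hcl hle
    · rcases AschEven.five_case hnd h10 hH.1.le hirr hK hcl hle with h | h | ⟨L, hL, hLc, hLle⟩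
      · obtain ⟨t, k, D, htk, hD, hDle⟩ := AschEven.orth_decomp_data hiso h
        exact hdec t k D htk hD hDle
      · obtain ⟨k, D, hk, hM, hts, hDle⟩ := AschEven.ts_pair hnd (by omega) hiso hirr h
        exact (hpair k D hk hM hts hDle).elim
      · exact hf2 L hL hLc hLle
  rcases AschEven.irr_even hnd (by omega) hiso hirr with ⟨t, k, D, htk, hD, hle⟩ | ⟨k, D, hk, hM, hts, hle⟩ | h |
    ⟨a, b, e, P, C, D, hab, hT⟩ | h | h | ⟨F₁, r, P, ζ, hr, hc, hζ, hP, hle⟩ | h
  · exact hdec t k D htk hD hle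
  · exact (hpair k D hk hM hts hle).elim
  · exact hfield h
  · have hcard : a * b = 10 := by rw [← Asch.card_of_equiv e, h10]
    have ha := hT.ha
    have ha3 : a ≤ 3 := by nlinarith
    rcases AschEven.tensor_cases hnd (by omega) hiso hirr hT ha3 with h | h | ⟨ha2, hb, -⟩ | ⟨h3, -⟩
    · obtain ⟨k, D', hk, hM, hts, hDle⟩ := AschEven.ts_pair hnd (by omega) hiso hirr h
      exact (hpair k D' hk hM hts hDle).elim
    · exact hfield h
    · obtain ⟨j, rfl⟩ := hb
      subst ha2
      omega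
    · subst h3; omega
  · obtain ⟨⟨j, hj⟩, -⟩ := AschEven.abelian_case hnd (by omega) hiso h
    rw [h10] at hj
    rcases Nat.lt_or_ge j 4 with hj4 | hj4
    · interval_cases j <;> simp at hj
    · have : 2 ^ 4 ≤ 2 ^ j := Nat.pow_le_pow_right (by norm_num) hj4
      omega
  · obtain ⟨k, t, hk, ht, hkt⟩ := AschEven.family_pow hnd hiso h
    rw [h10] at hkt
    have ht4 : t < 4 := by
      by_contra hge
      have : 2 ^ 4 ≤ k ^ t := (Nat.pow_le_pow_left hk 4).trans (Nat.pow_le_pow_right (by omega) (by omega))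
      omega
    have hk4 : k < 4 := by
      by_contra hge
      have : 4 ^ 2 ≤ k ^ t := (Nat.pow_le_pow_left (by omega) 2).trans (Nat.pow_le_pow_right (by omega) ht)
      omega
    interval_cases t <;> interval_cases k <;> simp at hkt
  · exact hrat F₁ r P ζ hr hc hζ hP hle
  · exact Or.inr (Or.inr (Or.inr (Or.inr (Or.inr (Or.inr (Or.inr (Or.inr (Or.inr (Or.inr (Or.inr (Or.inr h)))))))))))

end Cfsg.Agent.S5847
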