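import Cfsg.Statements.S5858
import Cfsg.Agent.Lib.Classical.AschOrthParabolic
import Cfsg.Agent.Lib.Classical.MaxOrthSubMain
import Cfsg.Agent.Lib.Classical.MaxFrameMain
import Cfsg.Agent.Lib.Classical.MaxOrthSubfield
import Cfsg.Agent.Lib.Classical.OrthCount
-- import your own Cfsg.Agent.* helpers here

set_option autoImplicit false
open Cfsg Cfsg.Agent.Classical Module

namespace Cfsg.Agent.S5858

/-- Maximal subgroups of Ω_11(q) of geometric type, q odd. Let F be a finite field of odd order q, Q the standard quadratic form x₀² + Σ x_i y_i on F^11 (coordinates Unit ⊕ (Fin 5 ⊕ Fin 5)), and Ω = Ω_11(q) the commutator subgroup of its isometry group, inside GL_11(F). Each of the following, intersected with Ω, is a maximal subgroup of Ω: (1) the stabiliser of any non-zero subspace on which Q vanishes identically (totally singular 1- to 5-spaces); (2) the stabiliser of any non-zero even-dimensional subspace W (dimension 2 to 10) on which the polar form of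 Q is non-degenerate (equivalently of its odd-dimensional orthogonal complement), except when q = 3 and W is a 2-space containing a non-zero singular vector (a plus-type plane); (3) for q = p prime, the stabiliser of any decomposition of F^11 into eleven pairwise orthogonal, pairwise Q-isometric non-degenerate 1-spaces; (4) every subfield group for a subfield F₀ with |F| = |F₀|^r, r prime, whose F₀-structure carries Q. -/
theorem result {F : Type*} [Field F] [Fintype F] (hodd : Odd (Fintype.card F)) :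
    (∀ W : Submodule F (Unit ⊕ (Fin 5 ⊕ Fin 5) → F), W ≠ ⊥ → Cfsg.Geo.IsTotallySingularQuad (Cfsg.quadFormOdd 5 F) W → Cfsg.Geo.IsMaximalIn (Cfsg.Geo.omegaGL (Cfsg.quadFormOdd 5 F)) (Cfsg.Geo.subspaceStabilizer W ⊓ Cfsg.Geo.omegaGL (Cfsg.quadFormOdd 5 F))) ∧
    (∀ W : Submodule F (Unit ⊕ (Fin 5 ⊕ Fin 5) → F), W ≠ ⊥ → Even (Module.finrank F W) → Cfsg.Geo.IsNondegenerateOn (QuadraticMap.polar (Cfsg.quadFormOdd 5 F)) W → ¬ (Fintype.card F = 3 ∧ Module.finrank F W = 2 ∧ Cfsg.Geo.IsPlusTypeOn (Cfsg.quadFormOdd 5 F) W) → Cfsg.Geo.IsMaximalIn (Cfsg.Geo.omegaGL (Cfsg.quadFormOdd 5 F)) (Cfsg.Geo.subspaceStabilizer W ⊓ Cfsg.Geo.omegaGL (Cfsg.quadFormOdd 5 F))) ∧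
    ((Fintype.card F).Prime → ∀ D : Fin 11 → Submodule F (Unit ⊕ (Fin 5 ⊕ Fin 5) → F), Cfsg.Geo.IsOrthogonalMDecomposition (Cfsg.quadFormOdd 5 F) 1 D → Cfsg.Geo.IsMaximalIn (Cfsg.Geo.omegaGL (Cfsg.quadFormOdd 5 F)) (Cfsg.Geo.decompositionStabilizer D ⊓ Cfsg.Geo.omegaGL (Cfsg.quadFormOdd 5 F))) ∧
    (∀ (F₀ : Subfield F) (r : ℕ) (P : Matrix.GeneralLinearGroup (Unit ⊕ (Fin 5 ⊕ Fin 5)) F), r.Prime → Fintype.card F = Nat.card F₀ ^ r → Cfsg.Geo.IsQuadFormRationalStructure (Cfsg.quadFormOdd 5 F) F₀ P → Cfsg.Geo.IsMaximalIn (Cfsg.Geo.omegaGL (Cfsg.quadFormOdd 5 F)) (Cfsg.Geo.subfieldSubgroup F₀ P ⊓ Cfsg.Geo.omegaGL (Cfsg.quadFormOdd 5 F))) := by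
  have h2F : (2 : F) ≠ 0 := MaxTv.two_ne_zero_of_card_odd hodd
  have hnd := nondegenerate_qfOdd (F := F) 5 h2F
  have hQ : Geo.IsNondegenerateQuadraticForm (quadFormOdd 5 F) := by
    rw [← coe_qfOdd]
    exact MaxTv.isNondegenerateQuadraticForm_of hnd
  have hcard : Fintype.card (Unit ⊕ (Fin 5 ⊕ Fin 5)) = 11 := by simp
  refine ⟨fun W hW0 hW => ?_, fun W hW0 hev hW hex => ?_, fun hp D hD => ?_, fun F₀ r P hr hcF hP => ?_⟩
  · rw [← coe_qfOdd] at hW ⊢
    exact AschOrthTwo.parabolic_maximal hnd (by omega) hW0 hW fun y _ _ _ => by omega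
  · have hQf : ∀ c x, quadFormOdd 5 F (c • x) = c ^ 2 * quadFormOdd 5 F x := hQ.smul
    refine MaxTv.orthogonal_nondeg_maximal_seven _ hQ (by omega) (Or.inr h2F) W hW0 (fun h => ?_) hW ?_
      (fun U _ _ he hsum g _ _ => by omega)
    · rw [h, finrank_top, Module.finrank_pi, hcard] at hev
      exact absurd hev (by decide)
    intro U h2 _ hsel hq z hz hQz
    rcases hsel with rfl | ⟨-, hsum⟩
    · by_contra h0
      refine hex ⟨?_, h2, ?_⟩
      · obtain ⟨j, hj⟩ := hodd
        have := Fintype.one_lt_card (α := F)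
        omega
      refine ⟨Submodule.span F {z}, (Submodule.span_singleton_le_iff_mem z _).2 hz, fun w hw => ?_, ?_⟩
      · obtain ⟨c, rfl⟩ := Submodule.mem_span_singleton.1 hw
        rw [hQf c, hQz, mul_zero]
      · rw [finrank_span_singleton h0, h2]
    · exfalso
      obtain ⟨j, hj⟩ := hev
      omega
  · exact OrthFrame.orthogonal_frame_maximal _ hQ hodd hp (Or.inl ⟨by rw [hcard]; decide, by omega⟩) D hD
  · refine MaxTv.orthogonal_subfield_maximal (Or.inr ⟨by rw [hcard]; decide, h2F, by omega⟩) _ hQ hr F₀ hcF P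
      one_ne_zero fun u hu => ?_
    show (1 : F) * _ ∈ F₀
    rw [one_mul]
    exact hP u hu

end Cfsg.Agent.S5858
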