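import Cfsg.Statements.S5870
import Cfsg.Agent.Lib.Classical.AschOrthPoint
import Cfsg.Agent.Lib.Classical.MaxOrthSubMinus
import Cfsg.Agent.Lib.Classical.MaxFrameMain
import Cfsg.Agent.Lib.Classical.MaxOrthRefMain
import Cfsg.Agent.Lib.Classical.MaxOrthWreathMain
import Cfsg.Agent.Lib.Classical.MaxOrthPair
import Cfsg.Agent.Lib.Classical.MaxOrthFieldFour
import Cfsg.Agent.Lib.Classical.MaxTensorSymp
import Cfsg.Agent.Lib.Classical.MaxTensorGram
import Cfsg.Agent.Lib.Classical.MaxOrthSubfield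

set_option autoImplicit false
open Cfsg Cfsg.Agent.Classical Cfsg.Agent.Classical.TensorMax
open scoped Kronecker

namespace Cfsg.Agent.S5870

theorem bot_ne {F : Type*} [Field F] {W : Submodule F (Fin 12 → F)} {d : ℕ} [NeZero d]
    (h : Module.finrank F W = d) : W ≠ ⊥ := fun e => NeZero.ne d (by rw [← h, e, finrank_bot])

theorem top_ne {F : Type*} [Field F] {W : Submodule F (Fin 12 → F)} {d : ℕ} (h : Module.finrank F W = d)
    (hd : d ≠ 12 := by norm_num) : W ≠ ⊤ := fun e => hd (by rw [← h, e, finrank_top, Module.finrank_fin_fun])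

/-- Maximal subgroups of Ω_12^+(q) of geometric type (any q). Let F be a finite field with q elements (characteristic p), Q a non-degenerate quadratic form on F^12 (non-degenerate polar form) of plus type (Witt index 6: some totally singular 6-space), and Ω = Ω_12^+(q) the commutator subgroup of the isometry group of Q, inside GL_12(F). Each of the following, intersected with Ω, is a maximal subgroup of Ω: (1) the stabiliser of any non-zero subspace on which Q vanishes identically other than those of dimension 5 (totally singular subspaces, dimensions 1, 2, 3, 4 and 6); (2) for q odd, the stabiliser of any subspace of odd dimension on which the polar form of Q is non-degenerate; (3) the stabiliser of any non-degenerate 2-space of minus type (containing no non-zero singular vector); (4) for q ≥ 4, the stabiliser of any non-degenerate 2-space of plus type (containing a non-zero singular vector); (5) the stabiliser of any non-degenerate 4-space (either type);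 (6) for q even, the stabiliser of the 1-space spanned by any non-singular vector v (Q(v) ≠ 0); (7) for q = p an odd prime, the stabiliser of any decomposition of F^12 into 12 pairwise orthogonal, pairwise Q-isometric non-degenerate 1-spaces; (8) for q ≥ 7, the stabiliser of any decomposition of F^12 into 6 pairwise orthogonal, pairwise Q-isometric non-degenerate 2-spaces of plus type; (9) for q ≠ 3, the stabiliser of any decomposition of F^12 into 6 pairwise orthogonal, pairwise Q-isometric non-degenerate 2-spaces of minus type; (10) for q odd with q ≥ 5, the stabiliser of any decomposition of F^12 into 4 pairwise orthogonal, pairwise Q-isometric non-degenerate 3-spaces; (11) for q ≥ 3, the stabiliser of any decomposition of F^12 into 3 pairwise orthogonal, pairwise Q-isometric non-degenerate 4-spaces; (12) the stabiliser of any decomposition of F^12 into 2 pairwise orthogonal, pairwise Q-isometric non-degenerate 6-spaces; (13) the stabiliser of any decomposition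 into two totally singular 6-spaces; (14) for q odd, the normaliser of any degree-2 subfield K of the matrix algebra whose elements are self-adjoint for the polar form of Q (Q is then the trace of a quadratic form over K); (15) for q odd, the normaliser of any degree-3 subfield K of the matrix algebra whose elements are self-adjoint for the polar form of Q (Q is then the trace of a quadratic form over K); (16) the normaliser of any degree-2 subfield K of the matrix algebra, closed under adjoints for the polar form but not self-adjoint, whose elements act as similarities of Q (so F^12 becomes a 6-dimensional space over K with a hermitian form, and the subgroup is of the type of the unitary group GU_6(q)); (17) for q ≥ 3, the stabiliser of any tensor decomposition F^12 = F^2 ⊗ F^6 in which the polar form of Q is (alternating form) ⊗ (alternating form) up to a scalar and Q vanishes on all pure tensors; (18) every subfield group for a subfield F₀ with |F| = |F₀|^r,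 r prime, whose F₀-structure carries a non-zero scalar multiple of Q. -/
theorem result {F : Type*} [Field F] [Fintype F] (Q : (Fin 12 → F) → F) (hQ : Cfsg.Geo.IsNondegenerateQuadraticForm Q) (hplus : Cfsg.Geo.IsPlusTypeOn Q ⊤) :
    (∀ W : Submodule F (Fin 12 → F), W ≠ ⊥ → Cfsg.Geo.IsTotallySingularQuad Q W → Module.finrank F W ≠ 5 → Cfsg.Geo.IsMaximalIn (Cfsg.Geo.omegaGL Q) (Cfsg.Geo.subspaceStabilizer W ⊓ Cfsg.Geo.omegaGL Q)) ∧
    (Odd (Fintype.card F) → ∀ W : Submodule F (Fin 12 → F), W ≠ ⊥ → W ≠ ⊤ → Odd (Module.finrank F W) → 2 * Module.finrank F W ≠ 12 → Cfsg.Geo.IsNondegenerateOn (QuadraticMap.polar Q) W → Cfsg.Geo.IsMaximalIn (Cfsg.Geo.omegaGL Q) (Cfsg.Geo.subspaceStabilizer W ⊓ Cfsg.Geo.omegaGL Q)) ∧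
    (∀ W : Submodule F (Fin 12 → F), Module.finrank F W = 2 → Cfsg.Geo.IsNondegenerateOn (QuadraticMap.polar Q) W → ¬ Cfsg.Geo.IsPlusTypeOn Q W → Cfsg.Geo.IsMaximalIn (Cfsg.Geo.omegaGL Q) (Cfsg.Geo.subspaceStabilizer W ⊓ Cfsg.Geo.omegaGL Q)) ∧
    (4 ≤ Fintype.card F → ∀ W : Submodule F (Fin 12 → F), Module.finrank F W = 2 → Cfsg.Geo.IsNondegenerateOn (QuadraticMap.polar Q) W → Cfsg.Geo.IsPlusTypeOn Q W → Cfsg.Geo.IsMaximalIn (Cfsg.Geo.omegaGL Q) (Cfsg.Geo.subspaceStabilizer W ⊓ Cfsg.Geo.omegaGL Q)) ∧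
    (∀ W : Submodule F (Fin 12 → F), Module.finrank F W = 4 → Cfsg.Geo.IsNondegenerateOn (QuadraticMap.polar Q) W → Cfsg.Geo.IsMaximalIn (Cfsg.Geo.omegaGL Q) (Cfsg.Geo.subspaceStabilizer W ⊓ Cfsg.Geo.omegaGL Q)) ∧
    (¬ Odd (Fintype.card F) → ∀ v : (Fin 12 → F), Q v ≠ 0 → Cfsg.Geo.IsMaximalIn (Cfsg.Geo.omegaGL Q) (Cfsg.Geo.subspaceStabilizer (Submodule.span F {v}) ⊓ Cfsg.Geo.omegaGL Q)) ∧
    ((∃ p : ℕ, p.Prime ∧ Odd p ∧ Fintype.card F = p) → ∀ D : Fin 12 → Submodule F (Fin 12 → F), Cfsg.Geo.IsOrthogonalMDecomposition Q 1 D → Cfsg.Geo.IsMaximalIn (Cfsg.Geo.omegaGL Q) (Cfsg.Geo.decompositionStabilizer D ⊓ Cfsg.Geo.omegaGL Q)) ∧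
    (7 ≤ Fintype.card F → ∀ D : Fin 6 → Submodule F (Fin 12 → F), Cfsg.Geo.IsOrthogonalMDecomposition Q 2 D → (∀ i, Cfsg.Geo.IsPlusTypeOn Q (D i)) → Cfsg.Geo.IsMaximalIn (Cfsg.Geo.omegaGL Q) (Cfsg.Geo.decompositionStabilizer D ⊓ Cfsg.Geo.omegaGL Q)) ∧
    (Fintype.card F ≠ 3 → ∀ D : Fin 6 → Submodule F (Fin 12 → F), Cfsg.Geo.IsOrthogonalMDecomposition Q 2 D → (∀ i, ¬ Cfsg.Geo.IsPlusTypeOn Q (D i)) → Cfsg.Geo.IsMaximalIn (Cfsg.Geo.omegaGL Q) (Cfsg.Geo.decompositionStabilizer D ⊓ Cfsg.Geo.omegaGL Q)) ∧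
    (Odd (Fintype.card F) ∧ 5 ≤ Fintype.card F → ∀ D : Fin 4 → Submodule F (Fin 12 → F), Cfsg.Geo.IsOrthogonalMDecomposition Q 3 D → Cfsg.Geo.IsMaximalIn (Cfsg.Geo.omegaGL Q) (Cfsg.Geo.decompositionStabilizer D ⊓ Cfsg.Geo.omegaGL Q)) ∧
    (3 ≤ Fintype.card F → ∀ D : Fin 3 → Submodule F (Fin 12 → F), Cfsg.Geo.IsOrthogonalMDecomposition Q 4 D → Cfsg.Geo.IsMaximalIn (Cfsg.Geo.omegaGL Q) (Cfsg.Geo.decompositionStabilizer D ⊓ Cfsg.Geo.omegaGL Q)) ∧
    (∀ D : Fin 2 → Submodule F (Fin 12 → F), Cfsg.Geo.IsOrthogonalMDecomposition Q 6 D → Cfsg.Geo.IsMaximalIn (Cfsg.Geo.omegaGL Q) (Cfsg.Geo.decompositionStabilizer D ⊓ Cfsg.Geo.omegaGL Q)) ∧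
    (∀ D : Fin 2 → Submodule F (Fin 12 → F), Cfsg.Geo.IsMDecomposition 6 D → (∀ i, Cfsg.Geo.IsTotallySingularQuad Q (D i)) → Cfsg.Geo.IsMaximalIn (Cfsg.Geo.omegaGL Q) (Cfsg.Geo.decompositionStabilizer D ⊓ Cfsg.Geo.omegaGL Q)) ∧
    (Odd (Fintype.card F) → ∀ K : Subalgebra F (Matrix (Fin 12) (Fin 12) F), Cfsg.Geo.IsFieldSubalgebra 2 K → Cfsg.Geo.IsSelfAdjointFor (QuadraticMap.polar Q) K → Cfsg.Geo.IsMaximalIn (Cfsg.Geo.omegaGL Q) (Cfsg.Geo.subalgebraNormalizer K ⊓ Cfsg.Geo.omegaGL Q)) ∧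
    (Odd (Fintype.card F) → ∀ K : Subalgebra F (Matrix (Fin 12) (Fin 12) F), Cfsg.Geo.IsFieldSubalgebra 3 K → Cfsg.Geo.IsSelfAdjointFor (QuadraticMap.polar Q) K → Cfsg.Geo.IsMaximalIn (Cfsg.Geo.omegaGL Q) (Cfsg.Geo.subalgebraNormalizer K ⊓ Cfsg.Geo.omegaGL Q)) ∧
    (∀ K : Subalgebra F (Matrix (Fin 12) (Fin 12) F), Cfsg.Geo.IsFieldSubalgebra 2 K → Cfsg.Geo.IsAdjointClosedFor (QuadraticMap.polar Q) K → ¬ Cfsg.Geo.IsSelfAdjointFor (QuadraticMap.polar Q) K → (∀ k ∈ K, ∃ c : F, ∀ v : (Fin 12 → F), Q (Matrix.mulVec k v) = c * Q v) → Cfsg.Geo.IsMaximalIn (Cfsg.Geo.omegaGL Q) (Cfsg.Geo.subalgebraNormalizer K ⊓ Cfsg.Geo.omegaGL Q)) ∧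
    (3 ≤ Fintype.card F → ∀ (e : Fin 12 ≃ Fin 2 × Fin 6) (P : Matrix.GeneralLinearGroup (Fin 12) F) (f₁ : (Fin 2 → F) → (Fin 2 → F) → F) (f₂ : (Fin 6 → F) → (Fin 6 → F) → F), Cfsg.Geo.IsSymplecticForm f₁ → Cfsg.Geo.IsSymplecticForm f₂ → Cfsg.Geo.IsTensorFormStructure id (QuadraticMap.polar Q) f₁ f₂ e P → (∀ (x₁ : Fin 2 → F) (x₂ : Fin 6 → F), Q (Matrix.mulVec (P : Matrix (Fin 12) (Fin 12) F) ((fun a : Fin 2 × Fin 6 => x₁ a.1 * x₂ a.2) ∘ e)) = 0) → Cfsg.Geo.IsMaximalIn (Cfsg.Geo.omegaGL Q) (Cfsg.Geo.tensorProductSubgroup 2 6 e P ⊓ Cfsg.Geo.omegaGL Q)) ∧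
    (∀ (F₀ : Subfield F) (r : ℕ) (P : Matrix.GeneralLinearGroup (Fin 12) F) (ζ : F), r.Prime → Fintype.card F = Nat.card F₀ ^ r → ζ ≠ 0 → Cfsg.Geo.IsQuadFormRationalStructure (fun v : Fin 12 → F => ζ * Q v) F₀ P → Cfsg.Geo.IsMaximalIn (Cfsg.Geo.omegaGL Q) (Cfsg.Geo.subfieldSubgroup F₀ P ⊓ Cfsg.Geo.omegaGL Q)) := by
  classical
  have hcard : Fintype.card (Fin 12) = 12 := Fintype.card_fin 12
  refine ⟨fun W hW0 hW hd => ?_, fun hodd W hW0 hW1 ho hd hW => ?_, fun W hd hW hnp => ?_, fun h4 W hd hW _ => ?_,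
    fun W hd hW => ?_, fun hchar v hv => ?_, fun hpr D hD => ?_, fun h7 D hD _ => ?_, fun h3 D hD hnp => ?_,
    fun hq D hD => ?_, fun hq D hD => ?_, fun D hD => ?_, fun D hD hts => ?_, fun hodd K hK hsa => ?_,
    fun hodd K hK hsa => ?_, fun K hK hac hnsa hsc => ?_, fun hq e P f₁ f₂ hf₁ hf₂ hT hpure => ?_,
    fun F₀ r P ζ hr hc hζ hP => ?_⟩
  · obtain ⟨Qf, rfl⟩ := MaxTv.exists_form hQ
    exact AschOrthTwo.parabolic_maximal (MaxTv.nd_of_isNondegenerateQuadraticForm hQ) (by omega) hW0 hW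
      fun y _ _ _ h => hd (by omega)
  · refine MaxTv.orthogonal_nondeg_maximal _ hQ (by omega) W hW0 hW1 hW
      (fun U h2 hU hsel hq z hz hQz => ?_) (fun U _ _ he hsum g _ _ => by omega)
    rcases hsel with rfl | ⟨-, hsum⟩
    · rw [h2] at ho
      exact absurd ho (by decide)
    · obtain ⟨m, hm⟩ := ho
      omega
  · refine MaxTv.orthogonal_nondeg_maximal _ hQ (by omega) W (bot_ne hd) (top_ne hd) hW
      (fun U h2 hU hsel hq z hz hQz => ?_) (fun U _ _ he hsum g _ _ => by omega)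
    rcases hsel with rfl | ⟨-, hsum⟩
    · obtain ⟨Qf, rfl⟩ := MaxTv.exists_form hQ
      by_contra h0
      exact hnp (MaxTv.plusType_plane h2 hz hQz h0)
    · omega
  · refine MaxTv.orthogonal_nondeg_maximal _ hQ (by omega) W (bot_ne hd) (top_ne hd) hW
      (fun U h2 hU hsel hq z hz hQz => by omega) (fun U _ _ he hsum g _ _ => by omega)
  · refine MaxTv.orthogonal_nondeg_maximal _ hQ (by omega) W (bot_ne hd) (top_ne hd) hW
      (fun U h2 hU hsel hq z hz hQz => ?_) (fun U _ _ he hsum g _ _ => by omega)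
    rcases hsel with rfl | ⟨-, hsum⟩ <;> omega
  · obtain ⟨Qf, rfl⟩ := MaxTv.exists_form hQ
    refine AschOrthTwo.point_maximal ?_ (MaxTv.nd_of_isNondegenerateQuadraticForm hQ) (by omega) hv
    by_contra h2
    exact hchar (Asch.odd_card_of_two_ne h2)
  · obtain ⟨p, hp, hp2, hpF⟩ := hpr
    exact OrthFrame.orthogonal_frame_maximal Q hQ (hpF ▸ hp2) (hpF ▸ hp) (Or.inr (by omega)) D hD
  · exact OrthRef.orthogonal_wreath_two_maximal Q hQ (by omega) D hD (by omega) fun _ => ⟨by omega, by omega, by omega⟩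
  · exact OrthRef.orthogonal_wreath_two_maximal Q hQ (by omega) D hD h3 fun hp => absurd (hp 0) (hnp 0)
  · exact MaxTv.orthogonal_wreath_maximal Q hQ hq.1 (by omega) 3 (by norm_num) D hD fun h => by omega
  · rcases Nat.even_or_odd (Fintype.card F) with he | ho
    · exact OrthRef.orthogonal_wreath_even_maximal Q hQ (by omega) he (k := 4) le_rfl D hD fun h => by omega
    · exact MaxTv.orthogonal_wreath_maximal Q hQ ho (by omega) 4 (by norm_num) D hD fun h => by omega
  · rcases Nat.even_or_odd (Fintype.card F) with he | ho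
    · exact OrthRef.orthogonal_wreath_even_maximal Q hQ (by omega) he (k := 6) (by norm_num) D hD fun h => by omega
    · exact MaxTv.orthogonal_wreath_maximal Q hQ ho (by omega) 6 (by norm_num) D hD fun h => by omega
  · exact MaxTv.orthogonal_pair_maximal Q hQ (k := 6) (by norm_num) ⟨3, rfl⟩ D hD hts
  · refine OrthField.orthogonal_overfield_maximal Q hQ hodd (by omega) Nat.prime_two (fun d hd => ?_) K hK hsa
    rw [hcard] at hd
    exact ⟨by omega, fun _ => by omega⟩
  · exact OrthField.orthogonal_overfield_four_maximal Q hQ hplus hodd hcard K hK hsa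
  · exact MaxTv.orthogonal_unitary_overfield_maximal (by omega) Q hQ K hK hac hnsa hsc
  · obtain ⟨c, hc, hpol⟩ := hT
    have hA := alt_gramMap hf₁ hc
    have hB := alt_gramMap hf₂ (one_ne_zero (α := F))
    obtain ⟨Qf, rfl⟩ := MaxTv.exists_form hQ
    have hs : SympPair Qf (coordEquiv e P) (gramMap c f₁) (gramMap 1 f₂)
        ((Geo.glReindex e.symm).trans (MulAut.conj P)) :=
      { altA := hA
        altB := hB
        compat := coord_compat e P
        pure := fun x y => hpure x y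
        pol := fun x y x' y' => by
          rw [coordEquiv_apply, coordEquiv_apply, hpol, formOfGram_tmul hf₁.bilinear hf₂.bilinear]
        nd := MaxTv.nd_of_isNondegenerateQuadraticForm hQ
        dimB := by simp
        gap := by simp
        two := by simp
        big := by simp }
    refine hs.maximal (Or.inr hq) _ fun g => ?_
    rw [Subgroup.mem_inf, Geo.tensorProductSubgroup, Subgroup.map_map]
    refine and_congr_left' ⟨fun h => ?_, fun h => ?_⟩
    · obtain ⟨k, hk, rfl⟩ := Subgroup.mem_map.1 h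
      have he : ((MulAut.conj P).toMonoidHom.comp (Geo.glReindex e.symm).toMonoidHom) k =
          ((Geo.glReindex e.symm).trans (MulAut.conj P)) k := rfl
      rw [he, MulEquiv.symm_apply_apply]
      exact hk
    · refine Subgroup.mem_map.2 ⟨((Geo.glReindex e.symm).trans (MulAut.conj P)).symm g, h, ?_⟩
      exact ((Geo.glReindex e.symm).trans (MulAut.conj P)).apply_symm_apply g
  · exact MaxTv.orthogonal_subfield_maximal (Or.inl (Or.inl hcard.ge)) Q hQ hr F₀ hc P hζ hP

end Cfsg.Agent.S5870
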