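import Cfsg.Statements.S5871
import Cfsg.Agent.Lib.Classical.AschEvenCase
-- import your own Cfsg.Agent.* helpers here

set_option autoImplicit false
open Cfsg

namespace Cfsg.Agent.S5871
open Cfsg.Agent.Classical

/-- Every maximal subgroup of Ω_12^+(q) is of one of the listed geometric types or lies in the residual class. Let F be a finite field with q elements (characteristic p), Q a non-degenerate quadratic form on F^12 of plus type (Witt index 6: some totally singular 6-space), Ω the commutator subgroup of its isometry group, and H a maximal subgroup of Ω (inside GL_12(F)). Then H is the intersection with Ω of one of: the stabiliser of a non-zero totally singular subspace of dimension ≠ 5; for q odd, the stabiliser of a non-degenerate subspace of odd dimension; the stabiliser of a non-degenerate 2-space of minus type; for q ≥ 4, the stabiliser of a non-degenerate 2-space of plus type; the stabiliser of a non-degenerate 4-space; for q even,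 the stabiliser of the span of a non-singular vector; for q = p an odd prime, the stabiliser of a decomposition into 12 pairwise orthogonal, pairwise isometric non-degenerate 1-spaces; for q ≥ 7, the stabiliser of a decomposition into 6 pairwise orthogonal, pairwise isometric non-degenerate 2-spaces of plus type; for q ≠ 3, the stabiliser of a decomposition into 6 pairwise orthogonal, pairwise isometric non-degenerate 2-spaces of minus type; for q odd with q ≥ 5, the stabiliser of a decomposition into 4 pairwise orthogonal, pairwise isometric non-degenerate 3-spaces; for q ≥ 3, the stabiliser of a decomposition into 3 pairwise orthogonal, pairwise isometric non-degenerate 4-spaces; the stabiliser of a decomposition into 2 pairwise orthogonal, pairwise isometric non-degenerate 6-spaces; of a decomposition into two totally singular 6-spaces; the normaliser of a degree-2 subfield of the matrix algebra; the normaliser of a degree-3 subfield of the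 matrix algebra; the normaliser of a degree-2 subfield K, adjoint-closed but not self-adjoint, acting by similarities of Q; for q ≥ 3, the stabiliser of a tensor decomposition of Q into alternating forms on F^2 and F^6 (Q vanishing on pure tensors); a subfield group (|F| = |F₀|^r, r prime) whose F₀-structure carries a non-zero multiple of Q — or else H lies in the residual class of the orthogonal case (modulo scalars H is almost simple, with absolutely irreducible perfect socle preimage realisable over no proper subfield and fixing no non-degenerate unitary form). -/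
theorem result {F : Type*} [Field F] [Fintype F] (Q : (Fin 12 → F) → F) (hQ : Cfsg.Geo.IsNondegenerateQuadraticForm Q) (hplus : Cfsg.Geo.IsPlusTypeOn Q ⊤) (H : Subgroup (Matrix.GeneralLinearGroup (Fin 12) F)) (hH : Cfsg.Geo.IsMaximalIn (Cfsg.Geo.omegaGL Q) H) :
    (∃ W : Submodule F (Fin 12 → F), W ≠ ⊥ ∧ Cfsg.Geo.IsTotallySingularQuad Q W ∧ Module.finrank F W ≠ 5 ∧ H = Cfsg.Geo.subspaceStabilizer W ⊓ Cfsg.Geo.omegaGL Q) ∨
    (Odd (Fintype.card F) ∧ ∃ W : Submodule F (Fin 12 → F), W ≠ ⊥ ∧ W ≠ ⊤ ∧ Odd (Module.finrank F W) ∧ 2 * Module.finrank F W ≠ 12 ∧ Cfsg.Geo.IsNondegenerateOn (QuadraticMap.polar Q) W ∧ H = Cfsg.Geo.subspaceStabilizer W ⊓ Cfsg.Geo.omegaGL Q) ∨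
    (∃ W : Submodule F (Fin 12 → F), Module.finrank F W = 2 ∧ Cfsg.Geo.IsNondegenerateOn (QuadraticMap.polar Q) W ∧ ¬ Cfsg.Geo.IsPlusTypeOn Q W ∧ H = Cfsg.Geo.subspaceStabilizer W ⊓ Cfsg.Geo.omegaGL Q) ∨
    (4 ≤ Fintype.card F ∧ ∃ W : Submodule F (Fin 12 → F), Module.finrank F W = 2 ∧ Cfsg.Geo.IsNondegenerateOn (QuadraticMap.polar Q) W ∧ Cfsg.Geo.IsPlusTypeOn Q W ∧ H = Cfsg.Geo.subspaceStabilizer W ⊓ Cfsg.Geo.omegaGL Q) ∨
    (∃ W : Submodule F (Fin 12 → F), Module.finrank F W = 4 ∧ Cfsg.Geo.IsNondegenerateOn (QuadraticMap.polar Q) W ∧ H = Cfsg.Geo.subspaceStabilizer W ⊓ Cfsg.Geo.omegaGL Q) ∨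
    (¬ Odd (Fintype.card F) ∧ ∃ v : (Fin 12 → F), Q v ≠ 0 ∧ H = Cfsg.Geo.subspaceStabilizer (Submodule.span F {v}) ⊓ Cfsg.Geo.omegaGL Q) ∨
    ((∃ p : ℕ, p.Prime ∧ Odd p ∧ Fintype.card F = p) ∧ ∃ D : Fin 12 → Submodule F (Fin 12 → F), Cfsg.Geo.IsOrthogonalMDecomposition Q 1 D ∧ H = Cfsg.Geo.decompositionStabilizer D ⊓ Cfsg.Geo.omegaGL Q) ∨
    (7 ≤ Fintype.card F ∧ ∃ D : Fin 6 → Submodule F (Fin 12 → F), Cfsg.Geo.IsOrthogonalMDecomposition Q 2 D ∧ (∀ i, Cfsg.Geo.IsPlusTypeOn Q (D i)) ∧ H = Cfsg.Geo.decompositionStabilizer D ⊓ Cfsg.Geo.omegaGL Q) ∨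
    (Fintype.card F ≠ 3 ∧ ∃ D : Fin 6 → Submodule F (Fin 12 → F), Cfsg.Geo.IsOrthogonalMDecomposition Q 2 D ∧ (∀ i, ¬ Cfsg.Geo.IsPlusTypeOn Q (D i)) ∧ H = Cfsg.Geo.decompositionStabilizer D ⊓ Cfsg.Geo.omegaGL Q) ∨
    (Odd (Fintype.card F) ∧ 5 ≤ Fintype.card F ∧ ∃ D : Fin 4 → Submodule F (Fin 12 → F), Cfsg.Geo.IsOrthogonalMDecomposition Q 3 D ∧ H = Cfsg.Geo.decompositionStabilizer D ⊓ Cfsg.Geo.omegaGL Q) ∨
    (3 ≤ Fintype.card F ∧ ∃ D : Fin 3 → Submodule F (Fin 12 → F), Cfsg.Geo.IsOrthogonalMDecomposition Q 4 D ∧ H = Cfsg.Geo.decompositionStabilizer D ⊓ Cfsg.Geo.omegaGL Q) ∨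
    (∃ D : Fin 2 → Submodule F (Fin 12 → F), Cfsg.Geo.IsOrthogonalMDecomposition Q 6 D ∧ H = Cfsg.Geo.decompositionStabilizer D ⊓ Cfsg.Geo.omegaGL Q) ∨
    (∃ D : Fin 2 → Submodule F (Fin 12 → F), Cfsg.Geo.IsMDecomposition 6 D ∧ (∀ i, Cfsg.Geo.IsTotallySingularQuad Q (D i)) ∧ H = Cfsg.Geo.decompositionStabilizer D ⊓ Cfsg.Geo.omegaGL Q) ∨
    (∃ K : Subalgebra F (Matrix (Fin 12) (Fin 12) F), Cfsg.Geo.IsFieldSubalgebra 2 K ∧ H = Cfsg.Geo.subalgebraNormalizer K ⊓ Cfsg.Geo.omegaGL Q) ∨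
    (∃ K : Subalgebra F (Matrix (Fin 12) (Fin 12) F), Cfsg.Geo.IsFieldSubalgebra 3 K ∧ H = Cfsg.Geo.subalgebraNormalizer K ⊓ Cfsg.Geo.omegaGL Q) ∨
    (∃ K : Subalgebra F (Matrix (Fin 12) (Fin 12) F), Cfsg.Geo.IsFieldSubalgebra 2 K ∧ Cfsg.Geo.IsAdjointClosedFor (QuadraticMap.polar Q) K ∧ ¬ Cfsg.Geo.IsSelfAdjointFor (QuadraticMap.polar Q) K ∧ (∀ k ∈ K, ∃ c : F, ∀ v : (Fin 12 → F), Q (Matrix.mulVec k v) = c * Q v) ∧ H = Cfsg.Geo.subalgebraNormalizer K ⊓ Cfsg.Geo.omegaGL Q) ∨
    (3 ≤ Fintype.card F ∧ ∃ (e : Fin 12 ≃ Fin 2 × Fin 6) (P : Matrix.GeneralLinearGroup (Fin 12) F) (f₁ : (Fin 2 → F) → (Fin 2 → F) → F) (f₂ : (Fin 6 → F) → (Fin 6 → F) → F), Cfsg.Geo.IsSymplecticForm f₁ ∧ Cfsg.Geo.IsSymplecticForm f₂ ∧ Cfsg.Geo.IsTensorFormStructure id (QuadraticMap.polar Q) f₁ f₂ e P ∧ (∀ (x₁ : Fin 2 → F) (x₂ : Fin 6 → F), Q (Matrix.mulVec (P : Matrix (Fin 12) (Fin 12) F) ((fun a : Fin 2 × Fin 6 => x₁ a.1 * x₂ a.2) ∘ e)) = 0) ∧ H = Cfsg.Geo.tensorProductSubgroup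 2 6 e P ⊓ Cfsg.Geo.omegaGL Q) ∨
    (∃ (F₀ : Subfield F) (r : ℕ) (P : Matrix.GeneralLinearGroup (Fin 12) F) (ζ : F), r.Prime ∧ Fintype.card F = Nat.card F₀ ^ r ∧ ζ ≠ 0 ∧ Cfsg.Geo.IsQuadFormRationalStructure (fun v : Fin 12 → F => ζ * Q v) F₀ P ∧ H = Cfsg.Geo.subfieldSubgroup F₀ P ⊓ Cfsg.Geo.omegaGL Q) ∨
    Cfsg.Geo.InOrthogonalResidualClass H := by
  classical
  obtain ⟨Qf, rfl, hnd⟩ := AschEven.exists_qf hQ
  refine id (α := ?G) ?_
  have h12 : Fintype.card (Fin 12) = 12 := Fintype.card_fin 12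
  have h7 : 7 ≤ Fintype.card (Fin 12) := by omega
  have hiso : H ≤ isometryGroup F ⇑Qf := hH.1.le.trans AschEven.omega_le_iso
  obtain ⟨U₀, -, hU₀, hU₀d⟩ := id hplus
  have hhalf : OrthAut.Half Qf U₀ := ⟨hU₀, by rw [hU₀d, finrank_top, Module.finrank_pi]⟩
  by_cases hirr : Asch.Irr H
  swap
  · rcases AschEven.reducible_cases hnd h7 hH hirr with ⟨U, h0, hU, heq⟩ | h | ⟨hodd, W, h0, hWt, hod, hd, hW, heq⟩ |
      h | h | ⟨W, h0, hWt, hev, h4, hd, hW, heq⟩
    · by_cases h5 : Module.finrank F U = 5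
      · obtain ⟨K, hK, hKlt⟩ := AschOrthTwo.nearly_half_not_maximal hnd (AschOrthTwo.tri_of_card hnd h7) hhalf hU
          (by rw [h5, h12]) (by have := hhalf.2; omega)
        exact (AschEven.absurd_between hH heq.le hK hKlt).elim
      · exact Or.inl ⟨U, h0, hU, h5, heq⟩
    · exact Or.inr (Or.inr (Or.inr (Or.inr (Or.inr (Or.inl h)))))
    · obtain ⟨j, hj⟩ := id hod
      exact Or.inr (Or.inl ⟨hodd, W, h0, hWt, hod, by omega, hW, heq⟩)
    · exact Or.inr (Or.inr (Or.inl h))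
    · exact Or.inr (Or.inr (Or.inr (Or.inl h)))
    · obtain ⟨j, hj⟩ := hev
      by_cases h6 : Module.finrank F W = 6
      · obtain ⟨D, hD, hle⟩ := AschEven.half_pair hnd (k := 2 * (2 + 1)) (by omega) (by omega) hiso hW (by omega)
          (heq.le.trans inf_le_left)
        have hD' := AschEven.ortho_pair hD (AschEven.pair_isometric hnd hD hplus)
        exact Or.inr (Or.inr (Or.inr (Or.inr (Or.inr (Or.inr (Or.inr (Or.inr (Or.inr (Or.inr (Or.inr (Or.inl ⟨D, hD', AschOrthTwo.omega_eq_inter hH hle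
          (AschEven.not_omega_le_decomp_three hnd h7 (by norm_num) hD.decomp)⟩)))))))))))
      · exact Or.inr (Or.inr (Or.inr (Or.inr (Or.inl ⟨W, by omega, hW, heq⟩))))
  have hrat : ∀ (F₁ : Subfield F) (r : ℕ) (P : GL (Fin 12) F) (ζ : F), r.Prime →
      Fintype.card F = Nat.card F₁ ^ r → ζ ≠ 0 →
      Geo.IsQuadFormRationalStructure (fun v => ζ * Qf v) F₁ P → H ≤ Geo.subfieldSubgroup F₁ P → ?G := by
    intro F₁ r P ζ hr hc hζ hP hle
    exact Or.inr (Or.inr (Or.inr (Or.inr (Or.inr (Or.inr (Or.inr (Or.inr (Or.inr (Or.inr (Or.inr (Or.inr (Or.inr (Or.inr (Or.inr (Or.inr (Or.inr (Or.inl ⟨F₁, r, P, ζ, hr, hc, hζ, hP, AschOrthTwo.omega_eq_inter hH hle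
      (AschOrthTwo.not_omega_le_subfield hnd h7 (AschEven.not_prime_pow_of hr hc) P)⟩)))))))))))))))))
  have hframe : ∀ (D : Fin 12 → Submodule F (Fin 12 → F)), Geo.IsOrthogonalMDecomposition (⇑Qf) 1 D →
      H ≤ Geo.decompositionStabilizer D → (Fintype.card F).Prime → ?G := by
    intro D hD hle hp
    exact Or.inr (Or.inr (Or.inr (Or.inr (Or.inr (Or.inr (Or.inl ⟨⟨_, hp, AschEven.odd_card_of_odd (by rw [hD.decomp.decomp.finrank_eq]; exact odd_one)
      (hD.decomp.nondegenerate 0), rfl⟩, D, hD,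
      AschOrthTwo.omega_eq_inter hH hle (AschEven.not_omega_le_parts hnd (by omega) hD.decomp fun _ => hD)⟩))))))
  have hdec : ∀ (t k : ℕ) (D : Fin t → Submodule F (Fin 12 → F)), t * k = Fintype.card (Fin 12) →
      Geo.IsOrthogonalMDecomposition (⇑Qf) k D → H ≤ Geo.decompositionStabilizer D → ?G := by
    intro t k D htk hD hle
    rw [h12] at htk
    have ht := hD.decomp.decomp.two_le
    have hnle := AschEven.not_omega_le_parts hnd (by omega) hD.decomp fun _ => hD
    have heq := AschOrthTwo.omega_eq_inter hH hle hnle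
    have hle' : H ≤ Geo.decompositionStabilizer D ⊓ isometryGroup F ⇑Qf := le_inf hle hiso
    have hkd : k ∈ Nat.divisors 12 := Nat.mem_divisors.2 ⟨⟨t, by rw [mul_comm]; omega⟩, by omega⟩
    rw [show Nat.divisors 12 = {1, 2, 3, 4, 6, 12} by decide] at hkd
    simp only [Finset.mem_insert, Finset.mem_singleton] at hkd
    have hq1 := Fintype.one_lt_card (α := F)
    rcases hkd with rfl | rfl | rfl | rfl | rfl | rfl
    · obtain rfl : t = 12 := by omega
      by_cases hp : (Fintype.card F).Prime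
      · exact hframe D hD hle hp
      · have h2 : (2 : F) ≠ 0 := AschOrthTwo.two_ne_zero_of_odd_card
          (AschEven.odd_card_of_odd (by rw [hD.decomp.decomp.finrank_eq]; exact odd_one) (hD.decomp.nondegenerate 0))
        obtain ⟨F₁, r, P, ζ, hr, hc, hζ, hP, hsub⟩ := AschEven.lines_subfield hnd h2 hp hD
        exact hrat F₁ r P ζ hr hc hζ hP (hle'.trans hsub)
    · obtain rfl : t = 6 := by omega
      by_cases h0 : Geo.IsPlusTypeOn (⇑Qf) (D 0)
      · have hp : ∀ i, Geo.IsPlusTypeOn (⇑Qf) (D i) := fun i => EvenType.plus_of_isometric (hD.isometric 0 i) h0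
        by_cases hq : 7 ≤ Fintype.card F
        · exact Or.inr (Or.inr (Or.inr (Or.inr (Or.inr (Or.inr (Or.inr (Or.inl ⟨hq, D, hD, hp, heq⟩)))))))
        have hq6 := AschEven.card_ne_six (F := F)
        rcases (by omega : Fintype.card F = 2 ∨ Fintype.card F = 3 ∨ Fintype.card F = 4 ∨ Fintype.card F = 5) with
          hq | hq | hq | hq
        · obtain ⟨v, hv, -, hfix⟩ := AschEven.planes_two hD hq hp
          exact (AschEven.not_irr_of_span hirr (by omega) hv (hle'.trans hfix)).elim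
        · obtain ⟨U, hUd, -, hfix⟩ := AschEven.planes_three_plus hD hq hp
          refine (AschEven.not_irr_of_stab hirr (fun h => ?_) (fun h => ?_) (hle'.trans hfix)).elim
          · rw [h, finrank_bot] at hUd; omega
          · rw [h, finrank_top, Module.finrank_pi] at hUd; omega
        · obtain ⟨F₀, P, hc, hP, hsub⟩ := AschEven.planes_four hD hnd hq hp
          exact hrat F₀ 2 P 1 Nat.prime_two hc one_ne_zero hP (hle'.trans hsub)
        · obtain ⟨D', hD', hsub⟩ := AschEven.planes_five hD hq hp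
          exact hframe D' hD' (hle'.trans hsub) (by rw [hq]; norm_num)
      · have hp : ∀ i, ¬ Geo.IsPlusTypeOn (⇑Qf) (D i) := fun i h =>
          h0 (EvenType.plus_of_isometric (hD.isometric i 0) h)
        by_cases hq : Fintype.card F = 3
        · obtain ⟨D', hD', hsub⟩ := AschEven.planes_three_minus hD hq hp
          exact hframe D' hD' (hle'.trans hsub) (by rw [hq]; norm_num)
        · exact Or.inr (Or.inr (Or.inr (Or.inr (Or.inr (Or.inr (Or.inr (Or.inr (Or.inl ⟨hq, D, hD, hp, heq⟩))))))))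
    · obtain rfl : t = 4 := by omega
      have hodd : Odd (Fintype.card F) :=
        AschEven.odd_card_of_odd (by rw [hD.decomp.decomp.finrank_eq]; decide) (hD.decomp.nondegenerate 0)
      by_cases hq : Fintype.card F = 3
      · obtain ⟨D', hD', hsub⟩ := AschOrthTwo.triples_lines hq hD
        exact hframe D' hD' ((le_inf hle hH.1.le).trans hsub) (by rw [hq]; norm_num)
      · exact Or.inr (Or.inr (Or.inr (Or.inr (Or.inr (Or.inr (Or.inr (Or.inr (Or.inr (Or.inl ⟨hodd, AschOrthTwo.five_le_of_odd_card hodd hq, D, hD, heq⟩)))))))))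
    · obtain rfl : t = 3 := by omega
      by_cases hq : Fintype.card F = 2
      · have hp : ∀ i, Geo.IsPlusTypeOn (⇑Qf) (D i) := fun i =>
          ((EvenType.decomp_plus_even ⟨2, rfl⟩ hD i).1 hplus).resolve_right (by decide)
        obtain ⟨D', hD', hp', hsub⟩ := AschEven.fours_two hq hD hp
        exact Or.inr (Or.inr (Or.inr (Or.inr (Or.inr (Or.inr (Or.inr (Or.inr (Or.inl ⟨by omega, D', hD', hp', AschOrthTwo.omega_eq_inter hH (hle'.trans hsub)
          (AschEven.not_omega_le_parts hnd (by omega) hD'.decomp fun _ => hD')⟩))))))))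
      · exact Or.inr (Or.inr (Or.inr (Or.inr (Or.inr (Or.inr (Or.inr (Or.inr (Or.inr (Or.inr (Or.inl ⟨by omega, D, hD, heq⟩))))))))))
    · obtain rfl : t = 2 := by omega
      exact Or.inr (Or.inr (Or.inr (Or.inr (Or.inr (Or.inr (Or.inr (Or.inr (Or.inr (Or.inr (Or.inr (Or.inl ⟨D, hD, heq⟩)))))))))))
    · omega
  have hpair : ∀ (k : ℕ) (D : Fin 2 → Submodule F (Fin 12 → F)), 2 * k = Fintype.card (Fin 12) →
      Geo.IsMDecomposition k D → (∀ i, Geo.IsTotallySingularQuad (⇑Qf) (D i)) →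
      H ≤ Geo.decompositionStabilizer D → ?G := by
    intro k D hk hM hts hle
    obtain rfl : k = 6 := by omega
    exact Or.inr (Or.inr (Or.inr (Or.inr (Or.inr (Or.inr (Or.inr (Or.inr (Or.inr (Or.inr (Or.inr (Or.inr (Or.inl ⟨D, hM, hts, AschOrthTwo.omega_eq_inter hH hle
      (AschEven.not_omega_le_decomp_three hnd h7 (by norm_num) hM)⟩))))))))))))
  have hfield : Asch.FieldCase (RingEquiv.refl F) (AschEven.gQ Qf) H → ?G := by
    rintro ⟨r, K, hr, hK, -, hle, -⟩
    have heq : H = Geo.subalgebraNormalizer K ⊓ Geo.omegaGL ⇑Qf :=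
      AschOrthTwo.omega_eq_inter hH hle (AschOrthTwo.not_omega_le_field hnd h7 hr.two_le hK)
    have hr3 : r = 2 ∨ r = 3 := by
      have h1 := Asch.field_degree_dvd hK
      rw [h12, show (12 : ℕ) = 2 ^ 2 * 3 by rfl] at h1
      exact ((Nat.Prime.dvd_mul hr).1 h1).imp
        (fun h => (Nat.prime_dvd_prime_iff_eq hr Nat.prime_two).1 (hr.dvd_of_dvd_pow h))
        fun h => (Nat.prime_dvd_prime_iff_eq hr Nat.prime_three).1 h
    rcases hr3 with rfl | rfl
    · exact Or.inr (Or.inr (Or.inr (Or.inr (Or.inr (Or.inr (Or.inr (Or.inr (Or.inr (Or.inr (Or.inr (Or.inr (Or.inr (Or.inl ⟨K, hK, heq⟩)))))))))))))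
    · exact Or.inr (Or.inr (Or.inr (Or.inr (Or.inr (Or.inr (Or.inr (Or.inr (Or.inr (Or.inr (Or.inr (Or.inr (Or.inr (Or.inr (Or.inl ⟨K, hK, heq⟩))))))))))))))
  rcases AschEven.irr_even hnd (by omega) hiso hirr with ⟨t, k, D, htk, hD, hle⟩ | ⟨k, D, hk, hM, hts, hle⟩ | h |
    ⟨a, b, e, P, C, D, hab, hT⟩ | h | h | ⟨F₁, r, P, ζ, hr, hc, hζ, hP, hle⟩ | h
  · exact hdec t k D htk hD hle
  · exact hpair k D hk hM hts hle
  · exact hfield h
  · have hcard : a * b = 12 := by rw [← Asch.card_of_equiv e, h12]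
    have ha := hT.ha
    have ha3 : a ≤ 3 := by nlinarith
    rcases AschEven.tensor_cases hnd (by omega) hiso hirr hT ha3 with h | h |
      ⟨ha2, -, hCd, hCs, hDd, hDs, -, hsing⟩ | ⟨ha3', h2, hC, hD⟩
    · obtain ⟨k, D', hk, hM, hts, hDle⟩ := AschEven.ts_pair hnd (by omega) hiso hirr h
      exact hpair k D' hk hM hts hDle
    · exact hfield h
    · subst ha2
      obtain rfl : b = 6 := by omega
      by_cases hq : Fintype.card F = 2
      · obtain ⟨K, hK, hKle⟩ := Asch.tensor_two_field hq (by norm_num) e P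
        exact Or.inr (Or.inr (Or.inr (Or.inr (Or.inr (Or.inr (Or.inr (Or.inr (Or.inr (Or.inr (Or.inr (Or.inr (Or.inr (Or.inl ⟨K, hK, AschOrthTwo.omega_eq_inter hH (hT.le.trans hKle)
          (AschOrthTwo.not_omega_le_field hnd h7 le_rfl hK)⟩)))))))))))))
      · have hq1 := Fintype.one_lt_card (α := F)
        exact Or.inr (Or.inr (Or.inr (Or.inr (Or.inr (Or.inr (Or.inr (Or.inr (Or.inr (Or.inr (Or.inr (Or.inr (Or.inr (Or.inr (Or.inr (Or.inr (Or.inl ⟨by omega, e, P, _, _, AschEven.symplectic_gram hT.unit_left hCs hCd,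
          AschEven.symplectic_gram hT.unit_right hDs hDd, AschEven.tensor_structure hT.gram, hsing,
          AschOrthTwo.omega_eq_inter hH hT.le (AschEven.not_omega_le_tensor hnd h7 le_rfl (by norm_num) e P)⟩))))))))))))))))
    · subst ha3'
      obtain rfl : b = 4 := by omega
      obtain ⟨E, hE, hEplus, -⟩ := AschEven.three_fours h2 hT hC hD
      have hp := ((EvenType.decomp_plus_even ⟨2, rfl⟩ hE 0).1 hplus).resolve_right (by decide)
      obtain ⟨e', P', C₁, D₁, hC₁, hD₁, hst, hs, hle⟩ := AschEven.three_four_plus h2 hT hC hD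
        (fun g hg => AschEven.det_one_of_omega (hH.1.le hg)) ((hEplus 0).1 hp)
      have hq := Nat.odd_iff.1 (AschEven.odd_of_two_ne h2)
      have hq1 := Fintype.one_lt_card (α := F)
      exact Or.inr (Or.inr (Or.inr (Or.inr (Or.inr (Or.inr (Or.inr (Or.inr (Or.inr (Or.inr (Or.inr (Or.inr (Or.inr (Or.inr (Or.inr (Or.inr (Or.inl ⟨by omega, e', P', _, _, hC₁, hD₁, hst, hs,
        AschOrthTwo.omega_eq_inter hH hle (AschEven.not_omega_le_tensor hnd h7 le_rfl (by norm_num) e' P')⟩))))))))))))))))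
  · obtain ⟨⟨j, hj⟩, -⟩ := AschEven.abelian_case hnd (by omega) hiso h
    rw [h12] at hj
    rcases Nat.lt_or_ge j 4 with hj4 | hj4
    · interval_cases j <;> simp at hj
    · have : 2 ^ 4 ≤ 2 ^ j := Nat.pow_le_pow_right (by norm_num) hj4
      omega
  · obtain ⟨k, t, hk, ht, hkt⟩ := AschEven.family_pow hnd hiso h
    rw [h12] at hkt
    have ht4 : t < 4 := by
      by_contra hge
      have : 2 ^ 4 ≤ k ^ t := (Nat.pow_le_pow_left hk 4).trans (Nat.pow_le_pow_right (by omega) (by omega))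
      omega
    have hk4 : k < 4 := by
      by_contra hge
      have : 4 ^ 2 ≤ k ^ t := (Nat.pow_le_pow_left (by omega) 2).trans (Nat.pow_le_pow_right (by omega) ht)
      omega
    interval_cases t <;> interval_cases k <;> simp at hkt
  · exact hrat F₁ r P ζ hr hc hζ hP hle
  · exact Or.inr (Or.inr (Or.inr (Or.inr (Or.inr (Or.inr (Or.inr (Or.inr (Or.inr (Or.inr (Or.inr (Or.inr (Or.inr (Or.inr (Or.inr (Or.inr (Or.inr (Or.inr (h))))))))))))))))))

end Cfsg.Agent.S5871
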