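import Cfsg.Statements.S5873
import Cfsg.Agent.Lib.Classical.AschOrthPoint
import Cfsg.Agent.Lib.Classical.MaxOrthSubMinus
import Cfsg.Agent.Lib.Classical.MaxOrthRefMain
import Cfsg.Agent.Lib.Classical.MaxOrthWreathMain
import Cfsg.Agent.Lib.Classical.MaxOrthFieldMain
import Cfsg.Agent.Lib.Classical.MaxOrthSubfield
import Cfsg.Agent.Lib.Classical.MaxTensorOrthApp

set_option autoImplicit false
open Cfsg Cfsg.Agent.Classical

namespace Cfsg.Agent.S5873

theorem bot_ne {F : Type*} [Field F] {W : Submodule F (Fin 12 → F)} {d : ℕ} [NeZero d]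
    (h : Module.finrank F W = d) : W ≠ ⊥ := fun e => NeZero.ne d (by rw [← h, e, finrank_bot])

theorem top_ne {F : Type*} [Field F] {W : Submodule F (Fin 12 → F)} {d : ℕ} (h : Module.finrank F W = d)
    (hd : d ≠ 12 := by norm_num) : W ≠ ⊤ := fun e => hd (by rw [← h, e, finrank_top, Module.finrank_fin_fun])

/-- Maximal subgroups of Ω_12^-(q) of geometric type (any q). Let F be a finite field with q elements (characteristic p), Q a non-degenerate quadratic form on F^12 (non-degenerate polar form) of minus type (Witt index 5: no totally singular 6-space), and Ω = Ω_12^-(q) the commutator subgroup of the isometry group of Q, inside GL_12(F). Each of the following, intersected with Ω, is a maximal subgroup of Ω: (1) the stabiliser of any non-zero subspace on which Q vanishes identically (totally singular subspaces, dimensions 1 to 5); (2) for q odd, the stabiliser of any subspace of odd dimension on which the polar form of Q is non-degenerate; (3) the stabiliser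 of any non-degenerate 2-space of minus type (containing no non-zero singular vector); (4) for q ≥ 4, the stabiliser of any non-degenerate 2-space of plus type (containing a non-zero singular vector); (5) the stabiliser of any non-degenerate 4-space (either type); (6) the stabiliser of any non-degenerate 6-space (either type); (7) for q even, the stabiliser of the 1-space spanned by any non-singular vector v (Q(v) ≠ 0); (8) the stabiliser of any decomposition of F^12 into 3 pairwise orthogonal, pairwise Q-isometric non-degenerate 4-spaces of minus type; (9) for q odd, the normaliser of any degree-2 subfield K of the matrix algebra whose elements are self-adjoint for the polar form of Q (Q is then the trace of a quadratic form over K); (10) for q odd, the normaliser of any degree-3 subfield K of the matrix algebra whose elements are self-adjoint for the polar form of Q (Q is then the trace of a quadratic form over K); (11) for q odd with q ≥ 5, the stabiliser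 of any tensor decomposition F^12 = F^3 ⊗ F^4 in which the polar form of Q is the product of non-degenerate symmetric bilinear forms, the second of minus type, up to a scalar; (12) every subfield group for a subfield F₀ with |F| = |F₀|^r, r an odd prime, whose F₀-structure carries a non-zero scalar multiple of Q. -/
theorem result {F : Type*} [Field F] [Fintype F] (Q : (Fin 12 → F) → F) (hQ : Cfsg.Geo.IsNondegenerateQuadraticForm Q) (hminus : ¬ Cfsg.Geo.IsPlusTypeOn Q ⊤) :
    (∀ W : Submodule F (Fin 12 → F), W ≠ ⊥ → Cfsg.Geo.IsTotallySingularQuad Q W → Cfsg.Geo.IsMaximalIn (Cfsg.Geo.omegaGL Q) (Cfsg.Geo.subspaceStabilizer W ⊓ Cfsg.Geo.omegaGL Q)) ∧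
    (Odd (Fintype.card F) → ∀ W : Submodule F (Fin 12 → F), W ≠ ⊥ → W ≠ ⊤ → Odd (Module.finrank F W) → 2 * Module.finrank F W ≠ 12 → Cfsg.Geo.IsNondegenerateOn (QuadraticMap.polar Q) W → Cfsg.Geo.IsMaximalIn (Cfsg.Geo.omegaGL Q) (Cfsg.Geo.subspaceStabilizer W ⊓ Cfsg.Geo.omegaGL Q)) ∧
    (∀ W : Submodule F (Fin 12 → F), Module.finrank F W = 2 → Cfsg.Geo.IsNondegenerateOn (QuadraticMap.polar Q) W → ¬ Cfsg.Geo.IsPlusTypeOn Q W → Cfsg.Geo.IsMaximalIn (Cfsg.Geo.omegaGL Q) (Cfsg.Geo.subspaceStabilizer W ⊓ Cfsg.Geo.omegaGL Q)) ∧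
    (4 ≤ Fintype.card F → ∀ W : Submodule F (Fin 12 → F), Module.finrank F W = 2 → Cfsg.Geo.IsNondegenerateOn (QuadraticMap.polar Q) W → Cfsg.Geo.IsPlusTypeOn Q W → Cfsg.Geo.IsMaximalIn (Cfsg.Geo.omegaGL Q) (Cfsg.Geo.subspaceStabilizer W ⊓ Cfsg.Geo.omegaGL Q)) ∧
    (∀ W : Submodule F (Fin 12 → F), Module.finrank F W = 4 → Cfsg.Geo.IsNondegenerateOn (QuadraticMap.polar Q) W → Cfsg.Geo.IsMaximalIn (Cfsg.Geo.omegaGL Q) (Cfsg.Geo.subspaceStabilizer W ⊓ Cfsg.Geo.omegaGL Q)) ∧
    (∀ W : Submodule F (Fin 12 → F), Module.finrank F W = 6 → Cfsg.Geo.IsNondegenerateOn (QuadraticMap.polar Q) W → Cfsg.Geo.IsMaximalIn (Cfsg.Geo.omegaGL Q) (Cfsg.Geo.subspaceStabilizer W ⊓ Cfsg.Geo.omegaGL Q)) ∧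
    (¬ Odd (Fintype.card F) → ∀ v : (Fin 12 → F), Q v ≠ 0 → Cfsg.Geo.IsMaximalIn (Cfsg.Geo.omegaGL Q) (Cfsg.Geo.subspaceStabilizer (Submodule.span F {v}) ⊓ Cfsg.Geo.omegaGL Q)) ∧
    (∀ D : Fin 3 → Submodule F (Fin 12 → F), Cfsg.Geo.IsOrthogonalMDecomposition Q 4 D → (∀ i, ¬ Cfsg.Geo.IsPlusTypeOn Q (D i)) → Cfsg.Geo.IsMaximalIn (Cfsg.Geo.omegaGL Q) (Cfsg.Geo.decompositionStabilizer D ⊓ Cfsg.Geo.omegaGL Q)) ∧
    (Odd (Fintype.card F) → ∀ K : Subalgebra F (Matrix (Fin 12) (Fin 12) F), Cfsg.Geo.IsFieldSubalgebra 2 K → Cfsg.Geo.IsSelfAdjointFor (QuadraticMap.polar Q) K → Cfsg.Geo.IsMaximalIn (Cfsg.Geo.omegaGL Q) (Cfsg.Geo.subalgebraNormalizer K ⊓ Cfsg.Geo.omegaGL Q)) ∧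
    (Odd (Fintype.card F) → ∀ K : Subalgebra F (Matrix (Fin 12) (Fin 12) F), Cfsg.Geo.IsFieldSubalgebra 3 K → Cfsg.Geo.IsSelfAdjointFor (QuadraticMap.polar Q) K → Cfsg.Geo.IsMaximalIn (Cfsg.Geo.omegaGL Q) (Cfsg.Geo.subalgebraNormalizer K ⊓ Cfsg.Geo.omegaGL Q)) ∧
    (Odd (Fintype.card F) ∧ 5 ≤ Fintype.card F → ∀ (e : Fin 12 ≃ Fin 3 × Fin 4) (P : Matrix.GeneralLinearGroup (Fin 12) F) (f₁ : (Fin 3 → F) → (Fin 3 → F) → F) (f₂ : (Fin 4 → F) → (Fin 4 → F) → F), Cfsg.Geo.IsSymmetricForm f₁ → Cfsg.Geo.IsSymmetricForm f₂ → ¬ Cfsg.Geo.IsPlusTypeOn (fun v : Fin 4 → F => f₂ v v) ⊤ → Cfsg.Geo.IsTensorFormStructure id (QuadraticMap.polar Q) f₁ f₂ e P → Cfsg.Geo.IsMaximalIn (Cfsg.Geo.omegaGL Q) (Cfsg.Geo.tensorProductSubgroup 3 4 e P ⊓ Cfsg.Geo.omegaGL Q)) ∧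
    (∀ (F₀ : Subfield F) (r : ℕ) (P : Matrix.GeneralLinearGroup (Fin 12) F) (ζ : F), r.Prime → Odd r → Fintype.card F = Nat.card F₀ ^ r → ζ ≠ 0 → Cfsg.Geo.IsQuadFormRationalStructure (fun v : Fin 12 → F => ζ * Q v) F₀ P → Cfsg.Geo.IsMaximalIn (Cfsg.Geo.omegaGL Q) (Cfsg.Geo.subfieldSubgroup F₀ P ⊓ Cfsg.Geo.omegaGL Q)) := by
  classical
  have hcard : Fintype.card (Fin 12) = 12 := Fintype.card_fin 12
  refine ⟨fun W hW0 hW => ?_, fun hodd W hW0 hW1 ho hd hW => ?_, fun W hd hW hnp => ?_, fun h4 W hd hW _ => ?_,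
    fun W hd hW => ?_, fun W hd hW => ?_, fun hchar v hv => ?_, fun D hD hnp => ?_, fun hodd K hK hsa => ?_,
    fun hodd K hK hsa => ?_, fun hq e P f₁ f₂ hf₁ hf₂ hm hT => ?_, fun F₀ r P ζ hr _ hc hζ hP => ?_⟩
  · obtain ⟨Qf, rfl⟩ := MaxTv.exists_form hQ
    refine AschOrthTwo.parabolic_maximal (MaxTv.nd_of_isNondegenerateQuadraticForm hQ) (by omega) hW0 hW
      fun y hy hyW hperp h => hminus ⟨W ⊔ Submodule.span F {y}, le_top, fun u hu => ?_, ?_⟩
    · obtain ⟨w, hw, z, hz, rfl⟩ := Submodule.mem_sup.1 hu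
      obtain ⟨c, rfl⟩ := Submodule.mem_span_singleton.1 hz
      rw [OrthAut.quad_add, hW w hw, QuadraticMap.map_smul, hy, QuadraticMap.polar_smul_right, hperp w hw]
      simp
    · rw [Submodule.finrank_sup_span_singleton hyW, finrank_top, Module.finrank_fin_fun]
      omega
  · refine MaxTv.orthogonal_nondeg_maximal _ hQ (by omega) W hW0 hW1 hW
      (fun U h2 hU hsel hq z hz hQz => ?_) (fun U _ _ he hsum g _ _ => by omega)
    rcases hsel with rfl | ⟨-, hsum⟩
    · rw [h2] at ho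
      exact absurd ho (by decide)
    · obtain ⟨m, hm⟩ := ho
      omega
  · refine MaxTv.orthogonal_nondeg_maximal _ hQ (by omega) W (bot_ne hd) (top_ne hd) hW
      (fun U h2 hU hsel hq z hz hQz => ?_) (fun U _ _ he hsum g _ _ => by omega)
    rcases hsel with rfl | ⟨-, hsum⟩
    · obtain ⟨Qf, rfl⟩ := MaxTv.exists_form hQ
      by_contra h0
      exact hnp (MaxTv.plusType_plane h2 hz hQz h0)
    · omega
  · refine MaxTv.orthogonal_nondeg_maximal _ hQ (by omega) W (bot_ne hd) (top_ne hd) hW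
      (fun U h2 hU hsel hq z hz hQz => by omega) (fun U _ _ he hsum g _ _ => by omega)
  · refine MaxTv.orthogonal_nondeg_maximal _ hQ (by omega) W (bot_ne hd) (top_ne hd) hW
      (fun U h2 hU hsel hq z hz hQz => ?_) (fun U _ _ he hsum g _ _ => by omega)
    rcases hsel with rfl | ⟨-, hsum⟩ <;> omega
  · obtain ⟨Qf, rfl⟩ := MaxTv.exists_form hQ
    refine MaxTv.orthogonal_nondeg_maximal _ hQ (by omega) W (bot_ne hd) (top_ne hd) hW
      (fun U h2 hU hsel hq z hz hQz => ?_) (fun U hperp _ he hsum g hg hgW => hminus ?_)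
    · rcases hsel with rfl | ⟨-, hsum⟩ <;> omega
    · refine MaxTv.plusType_of_swap (MaxTv.ndQ_of_isNondegenerateOn hW) (fun w hw u hu => ?_) ⟨3, hd⟩
        (by omega) (MaxTv.isometry_of_mem_omegaGL hg) hgW
      rw [QuadraticMap.polar_comm]
      exact hperp u hu w hw
  · obtain ⟨Qf, rfl⟩ := MaxTv.exists_form hQ
    refine AschOrthTwo.point_maximal ?_ (MaxTv.nd_of_isNondegenerateQuadraticForm hQ) (by omega) hv
    by_contra h2
    exact hchar (Asch.odd_card_of_two_ne h2)
  · rcases Nat.even_or_odd (Fintype.card F) with he | ho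
    · exact OrthRef.orthogonal_wreath_even_maximal Q hQ (by omega) he (k := 4) le_rfl D hD fun h => hnp 0 (h.2.2 0)
    · exact MaxTv.orthogonal_wreath_maximal Q hQ ho (by omega) 4 (by norm_num) D hD fun h => by omega
  · refine OrthField.orthogonal_overfield_maximal Q hQ hodd (by omega) Nat.prime_two (fun d hd => ?_) K hK hsa
    rw [hcard] at hd
    exact ⟨by omega, fun _ => by omega⟩
  · exact OrthField.orthogonal_overfield_maximal_four Q hQ hodd (by omega) Nat.prime_three (fun d hd => by omega) K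
      hK hsa
  · exact TensorOrth.orth_tensor_maximal Q hQ hq.1 le_rfl (by norm_num) le_rfl (fun h => by omega) e P f₁ f₂ hf₁ hf₂
      (fun h => by omega) (fun h4 a c => TensorOrth.not_tsp_of_not_plus hf₂ hm h4 a c) hT
  · exact MaxTv.orthogonal_subfield_maximal (Or.inl (Or.inl hcard.ge)) Q hQ hr F₀ hc P hζ hP

end Cfsg.Agent.S5873
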