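import Cfsg.Statements.S5874
import Cfsg.Agent.Lib.Classical.AschEvenCase
-- import your own Cfsg.Agent.* helpers here

set_option autoImplicit false
open Cfsg

namespace Cfsg.Agent.S5874
open Cfsg.Agent.Classical

/-- Every maximal subgroup of Ω_12^-(q) is of one of the listed geometric types or lies in the residual class. Let F be a finite field with q elements (characteristic p), Q a non-degenerate quadratic form on F^12 of minus type (Witt index 5: no totally singular 6-space), Ω the commutator subgroup of its isometry group, and H a maximal subgroup of Ω (inside GL_12(F)). Then H is the intersection with Ω of one of: the stabiliser of a non-zero totally singular subspace; for q odd, the stabiliser of a non-degenerate subspace of odd dimension; the stabiliser of a non-degenerate 2-space of minus type; for q ≥ 4, the stabiliser of a non-degenerate 2-space of plus type; the stabiliser of a non-degenerate 4-space; the stabiliser of a non-degenerate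 6-space; for q even, the stabiliser of the span of a non-singular vector; the stabiliser of a decomposition into 3 pairwise orthogonal, pairwise isometric non-degenerate 4-spaces of minus type; the normaliser of a degree-2 subfield of the matrix algebra; the normaliser of a degree-3 subfield of the matrix algebra; for q odd with q ≥ 5, the stabiliser of a tensor decomposition of the polar form into symmetric forms on F^3 and F^4 (minus type); a subfield group (|F| = |F₀|^r, r odd prime) whose F₀-structure carries a non-zero multiple of Q — or else H lies in the residual class of the orthogonal case (modulo scalars H is almost simple, with absolutely irreducible perfect socle preimage realisable over no proper subfield and fixing no non-degenerate unitary form). -/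
theorem result {F : Type*} [Field F] [Fintype F] (Q : (Fin 12 → F) → F) (hQ : Cfsg.Geo.IsNondegenerateQuadraticForm Q) (hminus : ¬ Cfsg.Geo.IsPlusTypeOn Q ⊤) (H : Subgroup (Matrix.GeneralLinearGroup (Fin 12) F)) (hH : Cfsg.Geo.IsMaximalIn (Cfsg.Geo.omegaGL Q) H) :
    (∃ W : Submodule F (Fin 12 → F), W ≠ ⊥ ∧ Cfsg.Geo.IsTotallySingularQuad Q W ∧ H = Cfsg.Geo.subspaceStabilizer W ⊓ Cfsg.Geo.omegaGL Q) ∨
    (Odd (Fintype.card F) ∧ ∃ W : Submodule F (Fin 12 → F), W ≠ ⊥ ∧ W ≠ ⊤ ∧ Odd (Module.finrank F W) ∧ 2 * Module.finrank F W ≠ 12 ∧ Cfsg.Geo.IsNondegenerateOn (QuadraticMap.polar Q) W ∧ H = Cfsg.Geo.subspaceStabilizer W ⊓ Cfsg.Geo.omegaGL Q) ∨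
    (∃ W : Submodule F (Fin 12 → F), Module.finrank F W = 2 ∧ Cfsg.Geo.IsNondegenerateOn (QuadraticMap.polar Q) W ∧ ¬ Cfsg.Geo.IsPlusTypeOn Q W ∧ H = Cfsg.Geo.subspaceStabilizer W ⊓ Cfsg.Geo.omegaGL Q) ∨
    (4 ≤ Fintype.card F ∧ ∃ W : Submodule F (Fin 12 → F), Module.finrank F W = 2 ∧ Cfsg.Geo.IsNondegenerateOn (QuadraticMap.polar Q) W ∧ Cfsg.Geo.IsPlusTypeOn Q W ∧ H = Cfsg.Geo.subspaceStabilizer W ⊓ Cfsg.Geo.omegaGL Q) ∨
    (∃ W : Submodule F (Fin 12 → F), Module.finrank F W = 4 ∧ Cfsg.Geo.IsNondegenerateOn (QuadraticMap.polar Q) W ∧ H = Cfsg.Geo.subspaceStabilizer W ⊓ Cfsg.Geo.omegaGL Q) ∨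
    (∃ W : Submodule F (Fin 12 → F), Module.finrank F W = 6 ∧ Cfsg.Geo.IsNondegenerateOn (QuadraticMap.polar Q) W ∧ H = Cfsg.Geo.subspaceStabilizer W ⊓ Cfsg.Geo.omegaGL Q) ∨
    (¬ Odd (Fintype.card F) ∧ ∃ v : (Fin 12 → F), Q v ≠ 0 ∧ H = Cfsg.Geo.subspaceStabilizer (Submodule.span F {v}) ⊓ Cfsg.Geo.omegaGL Q) ∨
    (∃ D : Fin 3 → Submodule F (Fin 12 → F), Cfsg.Geo.IsOrthogonalMDecomposition Q 4 D ∧ (∀ i, ¬ Cfsg.Geo.IsPlusTypeOn Q (D i)) ∧ H = Cfsg.Geo.decompositionStabilizer D ⊓ Cfsg.Geo.omegaGL Q) ∨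
    (∃ K : Subalgebra F (Matrix (Fin 12) (Fin 12) F), Cfsg.Geo.IsFieldSubalgebra 2 K ∧ H = Cfsg.Geo.subalgebraNormalizer K ⊓ Cfsg.Geo.omegaGL Q) ∨
    (∃ K : Subalgebra F (Matrix (Fin 12) (Fin 12) F), Cfsg.Geo.IsFieldSubalgebra 3 K ∧ H = Cfsg.Geo.subalgebraNormalizer K ⊓ Cfsg.Geo.omegaGL Q) ∨
    (Odd (Fintype.card F) ∧ 5 ≤ Fintype.card F ∧ ∃ (e : Fin 12 ≃ Fin 3 × Fin 4) (P : Matrix.GeneralLinearGroup (Fin 12) F) (f₁ : (Fin 3 → F) → (Fin 3 → F) → F) (f₂ : (Fin 4 → F) → (Fin 4 → F) → F), Cfsg.Geo.IsSymmetricForm f₁ ∧ Cfsg.Geo.IsSymmetricForm f₂ ∧ ¬ Cfsg.Geo.IsPlusTypeOn (fun v : Fin 4 → F => f₂ v v) ⊤ ∧ Cfsg.Geo.IsTensorFormStructure id (QuadraticMap.polar Q) f₁ f₂ e P ∧ H = Cfsg.Geo.tensorProductSubgroup 3 4 e P ⊓ Cfsg.Geo.omegaGL Q) ∨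
    (∃ (F₀ : Subfield F) (r : ℕ) (P : Matrix.GeneralLinearGroup (Fin 12) F) (ζ : F), r.Prime ∧ Odd r ∧ Fintype.card F = Nat.card F₀ ^ r ∧ ζ ≠ 0 ∧ Cfsg.Geo.IsQuadFormRationalStructure (fun v : Fin 12 → F => ζ * Q v) F₀ P ∧ H = Cfsg.Geo.subfieldSubgroup F₀ P ⊓ Cfsg.Geo.omegaGL Q) ∨
    Cfsg.Geo.InOrthogonalResidualClass H := by
  classical
  obtain ⟨Qf, rfl, hnd⟩ := AschEven.exists_qf hQ
  refine id (α := ?G) ?_
  have h12 : Fintype.card (Fin 12) = 12 := Fintype.card_fin 12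
  have h7 : 7 ≤ Fintype.card (Fin 12) := by omega
  have hiso : H ≤ isometryGroup F ⇑Qf := hH.1.le.trans AschEven.omega_le_iso
  by_cases hirr : Asch.Irr H
  swap
  · rcases AschEven.reducible_cases hnd h7 hH hirr with h | h | ⟨hodd, W, h0, hWt, hod, hd, hW, heq⟩ |
      h | h | ⟨W, h0, hWt, hev, h4, hd, hW, heq⟩
    · exact Or.inl h
    · exact Or.inr (Or.inr (Or.inr (Or.inr (Or.inr (Or.inr (Or.inl h))))))
    · obtain ⟨j, hj⟩ := id hod
      exact Or.inr (Or.inl ⟨hodd, W, h0, hWt, hod, by omega, hW, heq⟩)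
    · exact Or.inr (Or.inr (Or.inl h))
    · exact Or.inr (Or.inr (Or.inr (Or.inl h)))
    · obtain ⟨j, hj⟩ := hev
      by_cases h6 : Module.finrank F W = 6
      · exact Or.inr (Or.inr (Or.inr (Or.inr (Or.inr (Or.inl ⟨W, h6, hW, heq⟩)))))
      · exact Or.inr (Or.inr (Or.inr (Or.inr (Or.inl ⟨W, by omega, hW, heq⟩))))
  have hrat : ∀ (F₁ : Subfield F) (r : ℕ) (P : GL (Fin 12) F) (ζ : F), r.Prime →
      Fintype.card F = Nat.card F₁ ^ r → ζ ≠ 0 →
      Geo.IsQuadFormRationalStructure (fun v => ζ * Qf v) F₁ P → H ≤ Geo.subfieldSubgroup F₁ P → ?G := by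
    intro F₁ r P ζ hr hc hζ hP hle
    rcases hr.eq_two_or_odd' with rfl | hodd
    · exact absurd (AschEven.plus_of_rat_two hnd (m := 5) (by omega) hc hζ hP) hminus
    exact Or.inr (Or.inr (Or.inr (Or.inr (Or.inr (Or.inr (Or.inr (Or.inr (Or.inr (Or.inr (Or.inr (Or.inl ⟨F₁, r, P, ζ, hr, hodd, hc, hζ, hP, AschOrthTwo.omega_eq_inter hH hle
      (AschOrthTwo.not_omega_le_subfield hnd h7 (AschEven.not_prime_pow_of hr hc) P)⟩)))))))))))
  have hfours : ∀ (D : Fin 3 → Submodule F (Fin 12 → F)), Geo.IsOrthogonalMDecomposition (⇑Qf) 4 D →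
      H ≤ Geo.decompositionStabilizer D → ?G := by
    intro D hD hle
    exact Or.inr (Or.inr (Or.inr (Or.inr (Or.inr (Or.inr (Or.inr (Or.inl ⟨D, hD, fun i h => hminus ((EvenType.decomp_plus_even ⟨2, rfl⟩ hD i).2 (Or.inl h)),
      AschOrthTwo.omega_eq_inter hH hle (AschEven.not_omega_le_parts hnd (by omega) hD.decomp fun _ => hD)⟩)))))))
  have hdec : ∀ (t k : ℕ) (D : Fin t → Submodule F (Fin 12 → F)), t * k = Fintype.card (Fin 12) →
      Geo.IsOrthogonalMDecomposition (⇑Qf) k D → H ≤ Geo.decompositionStabilizer D → ?G := by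
    intro t k D htk hD hle
    rw [h12] at htk
    have ht := hD.decomp.decomp.two_le
    have hkd : k ∈ Nat.divisors 12 := Nat.mem_divisors.2 ⟨⟨t, by rw [mul_comm]; omega⟩, by omega⟩
    rw [show Nat.divisors 12 = {1, 2, 3, 4, 6, 12} by decide] at hkd
    simp only [Finset.mem_insert, Finset.mem_singleton] at hkd
    have hoddk : ∀ j, k = 2 * j + 1 → Even t → False := fun j hj hte => by
      have h2 : (2 : F) ≠ 0 := AschOrthTwo.two_ne_zero_of_odd_card
        (AschEven.odd_card_of_odd (by rw [hD.decomp.decomp.finrank_eq]; exact ⟨j, hj⟩)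
          (hD.decomp.nondegenerate ⟨0, by omega⟩))
      exact hminus ((EvenType.decomp_plus_disc h2 hnd (m := 5) (by omega) hte hD).2 ⟨1, by norm_num⟩)
    rcases hkd with rfl | rfl | rfl | rfl | rfl | rfl
    · exact (hoddk 0 rfl ⟨6, by omega⟩).elim
    · exact absurd ((EvenType.decomp_plus_even ⟨1, rfl⟩ hD ⟨0, by omega⟩).2 (Or.inr ⟨3, by omega⟩)) hminus
    · exact (hoddk 1 rfl ⟨2, by omega⟩).elim
    · obtain rfl : t = 3 := by omega
      exact hfours D hD hle
    · exact absurd ((EvenType.decomp_plus_even ⟨3, rfl⟩ hD ⟨0, by omega⟩).2 (Or.inr ⟨1, by omega⟩)) hminus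
    · omega
  have hpair : ∀ (k : ℕ) (D : Fin 2 → Submodule F (Fin 12 → F)), 2 * k = Fintype.card (Fin 12) →
      Geo.IsMDecomposition k D → (∀ i, Geo.IsTotallySingularQuad (⇑Qf) (D i)) → False :=
    fun k D hk hM hts => hminus (AschEven.plus_of_half (hts 0) (by rw [hM.finrank_eq, hk]))
  have hfield : Asch.FieldCase (RingEquiv.refl F) (AschEven.gQ Qf) H → ?G := by
    rintro ⟨r, K, hr, hK, -, hle, -⟩
    have heq : H = Geo.subalgebraNormalizer K ⊓ Geo.omegaGL ⇑Qf :=
      AschOrthTwo.omega_eq_inter hH hle (AschOrthTwo.not_omega_le_field hnd h7 hr.two_le hK)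
    have hr3 : r = 2 ∨ r = 3 := by
      have h1 := Asch.field_degree_dvd hK
      rw [h12, show (12 : ℕ) = 2 ^ 2 * 3 by rfl] at h1
      exact ((Nat.Prime.dvd_mul hr).1 h1).imp
        (fun h => (Nat.prime_dvd_prime_iff_eq hr Nat.prime_two).1 (hr.dvd_of_dvd_pow h))
        fun h => (Nat.prime_dvd_prime_iff_eq hr Nat.prime_three).1 h
    rcases hr3 with rfl | rfl
    · exact Or.inr (Or.inr (Or.inr (Or.inr (Or.inr (Or.inr (Or.inr (Or.inr (Or.inl ⟨K, hK, heq⟩))))))))
    · exact Or.inr (Or.inr (Or.inr (Or.inr (Or.inr (Or.inr (Or.inr (Or.inr (Or.inr (Or.inl ⟨K, hK, heq⟩)))))))))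
  rcases AschEven.irr_even hnd (by omega) hiso hirr with ⟨t, k, D, htk, hD, hle⟩ | ⟨k, D, hk, hM, hts, hle⟩ | h |
    ⟨a, b, e, P, C, D, hab, hT⟩ | h | h | ⟨F₁, r, P, ζ, hr, hc, hζ, hP, hle⟩ | h
  · exact hdec t k D htk hD hle
  · exact (hpair k D hk hM hts).elim
  · exact hfield h
  · have hcard : a * b = 12 := by rw [← Asch.card_of_equiv e, h12]
    have ha := hT.ha
    have ha3 : a ≤ 3 := by nlinarith
    rcases AschEven.tensor_cases hnd (by omega) hiso hirr hT ha3 with h | h |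
      ⟨-, -, -, -, -, -, hp, -⟩ | ⟨ha3', h2, hC, hD⟩
    · obtain ⟨k, D', hk, hM, hts, -⟩ := AschEven.ts_pair hnd (by omega) hiso hirr h
      exact (hpair k D' hk hM hts).elim
    · exact hfield h
    · exact absurd hp hminus
    · subst ha3'
      obtain rfl : b = 4 := by omega
      obtain ⟨E, hE, hEplus, hE3⟩ := AschEven.three_fours h2 hT hC hD
      have hodd := AschEven.odd_of_two_ne h2
      by_cases hq : Fintype.card F = 3
      · exact hfours E hE (hE3 hq)
      · exact Or.inr (Or.inr (Or.inr (Or.inr (Or.inr (Or.inr (Or.inr (Or.inr (Or.inr (Or.inr (Or.inl ⟨hodd, AschOrthTwo.five_le_of_odd_card hodd hq, e, P, _, _,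
          Asch.isSymmetricForm_gram hT.unit_left hC, Asch.isSymmetricForm_gram hT.unit_right hD,
          fun h => hminus ((EvenType.decomp_plus_even ⟨2, rfl⟩ hE 0).2 (Or.inl ((hEplus 0).2 h))),
          AschEven.tensor_structure hT.gram,
          AschOrthTwo.omega_eq_inter hH hT.le (AschEven.not_omega_le_tensor hnd h7 (by norm_num) (by norm_num) e P)⟩))))))))))
  · obtain ⟨⟨j, hj⟩, -⟩ := AschEven.abelian_case hnd (by omega) hiso h
    rw [h12] at hj
    rcases Nat.lt_or_ge j 4 with hj4 | hj4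
    · interval_cases j <;> simp at hj
    · have : 2 ^ 4 ≤ 2 ^ j := Nat.pow_le_pow_right (by norm_num) hj4
      omega
  · obtain ⟨k, t, hk, ht, hkt⟩ := AschEven.family_pow hnd hiso h
    rw [h12] at hkt
    have ht4 : t < 4 := by
      by_contra hge
      have : 2 ^ 4 ≤ k ^ t := (Nat.pow_le_pow_left hk 4).trans (Nat.pow_le_pow_right (by omega) (by omega))
      omega
    have hk4 : k < 4 := by
      by_contra hge
      have : 4 ^ 2 ≤ k ^ t := (Nat.pow_le_pow_left (by omega) 2).trans (Nat.pow_le_pow_right (by omega) ht)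
      omega
    interval_cases t <;> interval_cases k <;> simp at hkt
  · exact hrat F₁ r P ζ hr hc hζ hP hle
  · exact Or.inr (Or.inr (Or.inr (Or.inr (Or.inr (Or.inr (Or.inr (Or.inr (Or.inr (Or.inr (Or.inr (Or.inr (h))))))))))))

end Cfsg.Agent.S5874
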