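import Cfsg.Statements.S5876
import Cfsg.Agent.Lib.Classical.SolubleLinear

set_option autoImplicit false
open Cfsg

namespace Cfsg.Agent.S5876

open Cfsg.Agent.Classical

theorem result {F : Type*} [Field F] [Fintype F] {n : ℕ} (G : Subgroup (Matrix.GeneralLinearGroup (Fin n) F)) (hsol : IsSolvable G) (hirr : Cfsg.Geo.ActsIrreducibly (Cfsg.Geo.matrixSet G)) (hprim : ∀ (m t : ℕ) (D : Fin t → Submodule F (Fin n → F)), 2 ≤ t → Cfsg.Geo.IsMDecomposition m D → ¬ G ≤ Cfsg.Geo.decompositionStabilizer D) (g : Matrix.GeneralLinearGroup (Fin n) F) (hg : g ∈ G) (hg1 : g ≠ 1) :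
    4 * Module.finrank F (Module.End.eigenspace (Matrix.toLin' (g : Matrix (Fin n) (Fin n) F)) 1) ≤ 3 * n := by
  have hsol' : Group.IsSolvable G := hsol
  let ρ : G →* Module.End F (Fin n → F) :=
    { toFun := fun x => Matrix.toLin' ((x : Matrix.GeneralLinearGroup (Fin n) F) : Matrix (Fin n) (Fin n) F)
      map_one' := by
        simp only [OneMemClass.coe_one, Units.val_one, Matrix.toLin'_one]; rfl
      map_mul' := fun x y => by
        simp only [Subgroup.coe_mul, Units.val_mul, Matrix.toLin'_mul]; rfl }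
  have hρ : Function.Injective ρ := fun x y h =>
    Subtype.ext (Units.ext (Matrix.toLin'.injective h))
  have h1 : SolubleLinear.Irred ρ := by
    intro W hW
    refine hirr W ?_
    rintro _ ⟨s, hs, rfl⟩
    exact hW ⟨s, hs⟩
  have h2 : SolubleLinear.Primitive ρ := by
    intro t D ht hind htop hne hfr hperm
    refine hprim (Module.finrank F (D ⟨0, by omega⟩)) t D ht
      ⟨ht, ?_, fun i => hfr i _, hind, htop⟩ fun x hx => hperm ⟨x, hx⟩
    exact Submodule.one_le_finrank_iff.2 (hne _)
  have h := SolubleLinear.four_mul_fix_le ρ h1 h2 hρ (g := ⟨g, hg⟩)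
    (fun h => hg1 (congrArg Subtype.val h))
  rw [Module.finrank_fin_fun] at h
  rw [Module.End.eigenspace_def, one_smul]
  exact h

end Cfsg.Agent.S5876
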