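import Cfsg.Statements.S5877
import Cfsg.Agent.Lib.Classical.ExtraspecialEigenspace
-- import your own Cfsg.Agent.* helpers here

set_option autoImplicit false
open Cfsg
open scoped commutatorElement

namespace Cfsg.Agent.S5877
open Cfsg.Agent.Classical in
theorem sympl_of_extraspecial {F : Type*} [Field F] {n r : ℕ}
    (R : Subgroup (Matrix.GeneralLinearGroup (Fin n) F)) (hr : r.Prime)
    (hZ : Nat.card (Subgroup.center R) = r) (hext : commutator R = Subgroup.center R)
    (hirr : Geo.ActsAbsolutelyIrreducibly (Geo.matrixSet R)) :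
    ExtraspecialEigen.Sympl r (R ⊔ Geo.scalars (Fin n) F) := by
  have hmem : ∀ a ∈ R ⊔ Geo.scalars (Fin n) F,
      ∃ x ∈ R, ∃ z ∈ Geo.scalars (Fin n) F, a = z * x := by
    intro a ha
    have ha' : a ∈ ((R ⊔ Geo.scalars (Fin n) F : Subgroup _) : Set _) := ha
    rw [Subgroup.mul_normal] at ha'
    obtain ⟨x, hx, z, hz, rfl⟩ := ha'
    exact ⟨x, hx, z, hz, (ExtraspecialEigen.scalar_comm hz x).symm⟩
  have hcentR : ∀ a : Matrix.GeneralLinearGroup (Fin n) F, (∀ b ∈ R, a * b = b * a) →
      a ∈ Geo.scalars (Fin n) F := by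
    intro a ha
    obtain ⟨c, hc⟩ := hirr.2 (a : Matrix (Fin n) (Fin n) F) (by
      rintro _ ⟨b, hb, rfl⟩
      exact congrArg (fun z : Matrix.GeneralLinearGroup (Fin n) F => (z : Matrix (Fin n) (Fin n) F)) (ha b hb))
    rw [Geo.mem_scalars_iff]
    rcases Nat.eq_zero_or_pos n with h | h
    · subst h
      exact ⟨1, Subsingleton.elim _ _⟩
    · refine ⟨Units.mk0 c ?_, hc⟩
      rintro rfl
      apply a.det_ne_zero
      have : Nonempty (Fin n) := ⟨⟨0, h⟩⟩
      rw [hc, zero_smul, Matrix.det_zero]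
  have hcen : ∀ q : R, q ∈ Subgroup.center R → (q : Matrix.GeneralLinearGroup (Fin n) F) ∈
      Geo.scalars (Fin n) F := fun q hq => hcentR _ fun b hb =>
    congrArg (fun z : R => (z : Matrix.GeneralLinearGroup (Fin n) F))
      ((Subgroup.mem_center_iff.1 hq ⟨b, hb⟩).symm)
  have hcR : ∀ x y : R, ⁅x, y⁆ ∈ Subgroup.center R := fun x y => by
    rw [← hext, commutator_def]
    exact Subgroup.commutator_mem_commutator trivial trivial
  refine ⟨hr, ?_, ?_, ?_, ?_⟩
  · intro a ha b hb
    obtain ⟨x, hx, z, hz, rfl⟩ := hmem a ha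
    obtain ⟨y, hy, w, hw, rfl⟩ := hmem b hb
    rw [(ExtraspecialEigen.scalar_comm_left hz _ _).1, (ExtraspecialEigen.scalar_comm_left hw _ _).2]
    exact hcen _ (hcR ⟨x, hx⟩ ⟨y, hy⟩)
  · intro a ha
    obtain ⟨x, hx, z, hz, rfl⟩ := hmem a ha
    rw [(show Commute z x from ExtraspecialEigen.scalar_comm hz x).mul_pow]
    refine mul_mem (pow_mem hz r) (hcen (⟨x, hx⟩ ^ r) ?_)
    rw [Subgroup.mem_center_iff]
    intro b
    have hc := hcR b ⟨x, hx⟩
    have hk : ∀ k : ℕ, b * (⟨x, hx⟩ : R) ^ k = ⁅b, (⟨x, hx⟩ : R)⁆ ^ k * ((⟨x, hx⟩ : R) ^ k * b) := by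
      intro k
      induction k with
      | zero => simp
      | succ k ih =>
        have e : b * (⟨x, hx⟩ : R) = ⁅b, (⟨x, hx⟩ : R)⁆ * (⟨x, hx⟩ * b) := by
          rw [commutatorElement_def]; group
        rw [pow_succ, ← mul_assoc, ih, mul_assoc, mul_assoc _ b, e,
          ← mul_assoc _ ⁅b, (⟨x, hx⟩ : R)⁆, Subgroup.mem_center_iff.1 hc, pow_succ, mul_assoc,
          mul_assoc, mul_assoc]
    rw [hk r]
    have hr1 : (⟨_, hc⟩ : Subgroup.center R) ^ r = 1 := by rw [← hZ]; exact pow_card_eq_one'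
    have := congrArg Subtype.val hr1
    rw [SubmonoidClass.coe_pow] at this
    rw [this, OneMemClass.coe_one, one_mul]
  · intro a ha
    exact hcentR a fun b hb => ha b (Subgroup.mem_sup_left hb)
  · by_contra hno
    have hall : ∀ q : R, q ∈ Subgroup.center R := fun q => by
      rw [Subgroup.mem_center_iff]
      intro b
      apply Subtype.ext
      have := not_exists.1 hno (q : Matrix.GeneralLinearGroup (Fin n) F)
      push_neg at this
      exact (ExtraspecialEigen.scalar_comm (this (Subgroup.mem_sup_left q.2)) _).symm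
    have h1 : commutator R = ⊥ := by
      rw [commutator_def, eq_bot_iff, Subgroup.commutator_le]
      intro a _ b _
      rw [Subgroup.mem_bot, commutatorElement_eq_one_iff_mul_comm]
      exact (Subgroup.mem_center_iff.1 (hall b) a)
    rw [← hext, h1, Subgroup.card_bot] at hZ
    exact hr.one_lt.ne hZ


/-- Eigenspaces of elements normalising an absolutely irreducible extraspecial group. Let F be a finite field, r a prime, and R ≤ GL_n(F) an absolutely irreducible extraspecial r-group (an r-group whose centre equals its derived subgroup and has order r) of exponent r or 4. Let g ∈ GL_n(F) normalise the product of R with the scalar matrices, have prime order ϖ and not be scalar, and let W be the eigenspace of g for any c ∈ F (W may be the zero subspace). Then dim W ≤ 3n/4 if ϖ = 2, dim W ≤ 2n/3 if ϖ = 3, and dim W ≤ n/2 if ϖ > 3; moreover if ϖ = 3 and 3 does not divide n then dim W ≤ n/2. -/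
theorem result {F : Type*} [Field F] [Fintype F] {n r ϖ : ℕ} (R : Subgroup (Matrix.GeneralLinearGroup (Fin n) F)) (hr : r.Prime) (hR : IsPGroup r R) (hZ : Nat.card (Subgroup.center R) = r) (hext : commutator R = Subgroup.center R) (hexp : Monoid.exponent R = r ∨ Monoid.exponent R = 4) (hirr : Cfsg.Geo.ActsAbsolutelyIrreducibly (Cfsg.Geo.matrixSet R)) (g : Matrix.GeneralLinearGroup (Fin n) F) (hg : g ∈ Cfsg.Geo.subgroupNormalizer (R ⊔ Cfsg.Geo.scalars (Fin n) F)) (hϖ : ϖ.Prime) (hord : orderOf g = ϖ) (hns : g ∉ Cfsg.Geo.scalars (Fin n) F) (c : F) :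
    (ϖ = 2 → 4 * Module.finrank F (Module.End.eigenspace (Matrix.toLin' (g : Matrix (Fin n) (Fin n) F)) c) ≤ 3 * n) ∧
    (ϖ = 3 → 3 * Module.finrank F (Module.End.eigenspace (Matrix.toLin' (g : Matrix (Fin n) (Fin n) F)) c) ≤ 2 * n) ∧
    (3 < ϖ → 2 * Module.finrank F (Module.End.eigenspace (Matrix.toLin' (g : Matrix (Fin n) (Fin n) F)) c) ≤ n) ∧
    (ϖ = 3 → ¬ 3 ∣ n → 2 * Module.finrank F (Module.End.eigenspace (Matrix.toLin' (g : Matrix (Fin n) (Fin n) F)) c) ≤ n) := by
  have hH := sympl_of_extraspecial R hr hZ hext hirr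
  have hgn := Subgroup.mem_normalizer_iff.1 hg
  have hgϖ : g ^ ϖ = 1 := hord ▸ pow_orderOf_eq_one g
  obtain ⟨h4, hodd⟩ := Cfsg.Agent.Classical.ExtraspecialEigen.eigen_bounds hH
    (fun a ha => (hgn a).1 ha) (fun a ha => (hgn (g⁻¹ * a * g)).2 (by simpa [mul_assoc] using ha))
    hϖ hgϖ hns c
  have hdvd := hH.dvd
  rw [show Cfsg.Agent.Classical.ExtraspecialEigen.lin g =
    Matrix.toLin' (g : Matrix (Fin n) (Fin n) F) from rfl] at h4 hodd
  refine ⟨fun _ => h4, fun h => ?_, fun h => ?_, fun h h3 => ?_⟩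
  · rcases hodd (by omega) with hh | ⟨-, -, hh⟩ <;> omega
  · rcases hodd (by omega) with hh | ⟨-, hh, -⟩ <;> omega
  · rcases hodd (by omega) with hh | ⟨hh, -, -⟩
    · exact hh
    · subst hh
      exact absurd hdvd h3

end Cfsg.Agent.S5877
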