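import Mathlib
import Cfsg.Statements.S5885

set_option autoImplicit false
open Cfsg

namespace Cfsg.Agent.S5885

open scoped Pointwise

theorem exists_smul_eq_of_even {G : Type*} [Group G] (n : ℕ)
    (hA : ∀ P : Subgroup (Equiv.Perm (Fin n)), MulAction.IsPreprimitive P (Fin n) → alternatingGroup (Fin n) ≤ P)
    (M : Subgroup G) (hM : IsCoatom M) [Fintype (G ⧸ M)] [DecidableEq (G ⧸ M)] (hn : M.index = n)
    (σ : Equiv.Perm (G ⧸ M)) (hσ : Equiv.Perm.sign σ = 1) : ∃ g : G, ∀ x : G ⧸ M, g • x = σ x := by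
  classical
  have hcard : Fintype.card (G ⧸ M) = n := by
    rw [← hn, Subgroup.index_eq_card, Nat.card_eq_fintype_card]
  let e : G ⧸ M ≃ Fin n := Fintype.equivFinOfCardEq hcard
  let ψ : G →* Equiv.Perm (Fin n) := e.permCongrHom.toMonoidHom.comp (MulAction.toPermHom G (G ⧸ M))
  haveI hnt : Nontrivial (G ⧸ M) := by
    rw [← Finite.one_lt_card_iff_nontrivial, ← Subgroup.index_eq_card]
    exact M.one_lt_index_of_ne_top hM.1
  haveI hpre : MulAction.IsPreprimitive G (G ⧸ M) := by
    rw [← MulAction.isCoatom_stabilizer_iff_preprimitive G ((1 : G) : G ⧸ M), MulAction.stabilizer_quotient]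
    exact hM
  let f : (G ⧸ M) →ₑ[ψ.rangeRestrict] Fin n :=
    { toFun := e
      map_smul' := fun g x => by
        show e (g • x) = ψ g (e x)
        simp [ψ, Equiv.permCongr_apply] }
  have hprim : MulAction.IsPreprimitive ψ.range (Fin n) :=
    MulAction.IsPreprimitive.of_surjective (f := f) e.surjective
  obtain ⟨g, hg⟩ := hA ψ.range hprim (Equiv.Perm.mem_alternatingGroup.2
    (by rw [Equiv.Perm.sign_permCongr]; exact hσ : Equiv.Perm.sign (e.permCongr σ) = 1))
  refine ⟨g, fun x => e.injective ?_⟩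
  have := congrArg (fun τ : Equiv.Perm (Fin n) => τ (e x)) hg
  simpa [ψ, Equiv.permCongr_apply] using this

/-- Let n be an odd positive integer such that every primitive permutation group of degree n contains the alternating group (so the symmetric and alternating groups are the only primitive groups of degree n). Let G be a finite group, M a maximal subgroup of G of index n, and H a maximal subgroup of M. Then H is a second maximal subgroup of G: H is maximal in every maximal subgroup K of G containing H. -/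
theorem result {G : Type*} [Group G]
    [Finite G] (n : ℕ) (hodd : Odd n)
    (hA : ∀ P : Subgroup (Equiv.Perm (Fin n)), MulAction.IsPreprimitive P (Fin n) → alternatingGroup (Fin n) ≤ P)
    (M : Subgroup G) (hM : IsCoatom M) (hn : M.index = n) (H : Subgroup G) (hHM : H ≤ M)
    (hmax : IsCoatom (H.subgroupOf M)) (K : Subgroup G) (hK : IsCoatom K) (hHK : H ≤ K) :
    IsCoatom (H.subgroupOf K) := by
  classical
  rcases eq_or_ne K M with rfl | hKM
  · exact hmax
  letI : Fintype (G ⧸ M) := Fintype.ofFinite _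
  have alt := exists_smul_eq_of_even n hA M hM hn
  set a : G ⧸ M := ((1 : G) : G ⧸ M) with ha
  have hstab : ∀ g : G, g • a = a ↔ g ∈ M := fun g => by
    rw [← MulAction.mem_stabilizer_iff, ha, MulAction.stabilizer_quotient]
  have maxdich : ∀ X : Subgroup G, H ≤ X → X ≤ M → X = H ∨ X = M := by
    intro X h1 h2
    rcases eq_or_lt_of_le (show H.subgroupOf M ≤ X.subgroupOf M from fun x hx => h1 hx) with h | h
    · exact Or.inl (by rw [← Subgroup.map_subgroupOf_eq_of_le h2, ← h, Subgroup.map_subgroupOf_eq_of_le hHM])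
    · exact Or.inr (le_antisymm h2 (Subgroup.subgroupOf_eq_top.1 (hmax.2 _ h)))
  have hKMH : K ⊓ M = H := by
    rcases maxdich (K ⊓ M) (le_inf hHK hHM) inf_le_right with h | h
    · exact h
    · refine absurd ?_ hKM
      rcases hM.le_iff.1 (inf_eq_right.1 h) with h' | h'
      · exact absurd h' hK.1
      · exact h'
  have hKnle : ¬ K ≤ M := fun h => by
    rcases hK.le_iff.1 h with h' | h'
    · exact hM.1 h'
    · exact hKM h'.symm
  -- it suffices to treat intermediate subgroups
  suffices hmain : ∀ L : Subgroup G, H < L → L ≤ K → L = K by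
    constructor
    · intro h
      rw [Subgroup.subgroupOf_eq_top] at h
      exact hKnle (h.trans hHM)
    · intro L hL
      have h1 : H < L.map K.subtype := by
        rw [← Subgroup.map_subgroupOf_eq_of_le hHK]
        exact (Subgroup.map_lt_map_iff_of_injective K.subtype_injective).2 hL
      have h2 := hmain _ h1 (Subgroup.map_subtype_le L)
      apply Subgroup.map_injective K.subtype_injective
      rw [h2, ← MonoidHom.range_eq_map, K.range_subtype]
  intro L hHL hLK
  by_contra hne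
  -- `B = L • a` is a block for `K`
  have hblock : ∀ g ∈ K, ∀ l ∈ L, ∀ l' ∈ L, (g * l) • a = l' • a → g ∈ L := by
    intro g hg l hl l' hl' h
    have h1 : l'⁻¹ * (g * l) ∈ M := (hstab _).1 (by rw [mul_smul, h, inv_smul_smul])
    have h2 : l'⁻¹ * (g * l) ∈ H :=
      hKMH ▸ ⟨K.mul_mem (K.inv_mem (hLK hl')) (K.mul_mem hg (hLK hl)), h1⟩
    have h3 := hHL.le h2
    simpa using L.mul_mem (L.mul_mem hl' h3) (L.inv_mem hl)
  obtain ⟨l₀, hl₀, hl₀H⟩ := SetLike.exists_of_lt hHL
  set b := l₀ • a with hb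
  have hba : b ≠ a := fun h => hl₀H (hKMH ▸ ⟨hLK hl₀, (hstab _).1 h⟩)
  obtain ⟨g, hgK, hgL⟩ := SetLike.exists_of_lt (lt_of_le_of_ne hLK hne)
  set c := g • a with hc
  set x := g • b with hx
  have hgB : ∀ l ∈ L, ∀ l' ∈ L, (g * l) • a ≠ l' • a := fun l hl l' hl' h =>
    hgL (hblock g hgK l hl l' hl' h)
  have hca : c ≠ a := by simpa [hc] using hgB 1 L.one_mem 1 L.one_mem
  have hcb : c ≠ b := by simpa [hc, hb] using hgB 1 L.one_mem l₀ hl₀
  have hxa : x ≠ a := by simpa [hx, hb, mul_smul] using hgB l₀ hl₀ 1 L.one_mem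
  have hxb : x ≠ b := by simpa [hx, hb, mul_smul] using hgB l₀ hl₀ l₀ hl₀
  have hxc : x ≠ c := fun h => hba (smul_left_cancel g h)
  -- an element moving `b` to `c` and fixing `a`
  let σ : Equiv.Perm (G ⧸ M) := Equiv.swap b c * Equiv.swap c x
  have hσs : Equiv.Perm.sign σ = 1 := by
    simp [σ, Equiv.Perm.sign_swap hcb.symm, Equiv.Perm.sign_swap hxc.symm]
  obtain ⟨m, hm⟩ := alt σ hσs
  have hma : m • a = a := by
    rw [hm]
    simp [σ, Equiv.swap_apply_of_ne_of_ne hba.symm hca.symm, Equiv.swap_apply_of_ne_of_ne hca.symm hxa.symm]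
  have hmb : m • b = c := by
    rw [hm]
    simp [σ, Equiv.swap_apply_of_ne_of_ne hcb.symm hxb.symm]
  have hmM : m ∈ M := (hstab _).1 hma
  -- any element of `K` acting like `σ` gives a contradiction
  have contra : ∀ k ∈ K, k • a = a → k • b = c → False := by
    intro k hk hka hkb
    have hkH : k ∈ L := hHL.le (hKMH ▸ ⟨hk, (hstab _).1 hka⟩)
    apply hgB 1 L.one_mem (k * l₀) (L.mul_mem hkH hl₀)
    rw [mul_one, mul_smul, ← hb, hkb]
  -- the orbit of `a` under `K`
  let O : Set (G ⧸ M) := MulAction.orbit K a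
  have hmemO : ∀ k ∈ K, k • a ∈ O := fun k hk => ⟨⟨k, hk⟩, rfl⟩
  by_cases hO : O = Set.univ
  swap
  · -- intransitive case
    have hKO : MulAction.stabilizer G O = K := by
      have hle : K ≤ MulAction.stabilizer G O := fun k hk => by
        rw [MulAction.mem_stabilizer_iff]
        exact MulAction.smul_orbit (⟨k, hk⟩ : K) a
      rcases hK.le_iff.1 hle with h | h
      · exfalso
        apply hO
        refine Set.eq_univ_of_forall fun y => ?_
        obtain ⟨t, rfl⟩ := MulAction.exists_smul_eq G a y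
        have ht : t ∈ MulAction.stabilizer G O := h ▸ Subgroup.mem_top t
        rw [MulAction.mem_stabilizer_iff] at ht
        rw [← ht]
        exact Set.smul_mem_smul_set (by simpa using hmemO 1 K.one_mem)
      · exact h
    refine contra m ?_ hma hmb
    rw [← hKO, MulAction.mem_stabilizer_iff]
    have hbO : b ∈ O := hmemO _ (hLK hl₀)
    have hcO : c ∈ O := hmemO _ hgK
    have hxO : x ∈ O := by
      simpa [hx, hb, mul_smul] using hmemO _ (K.mul_mem hgK (hLK hl₀))
    have hmaps : ∀ y ∈ O, m • y ∈ O := by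
      intro y hy
      rw [hm]
      simp only [σ, Equiv.Perm.mul_apply, Equiv.swap_apply_def]
      split_ifs <;> assumption
    exact Set.eq_of_subset_of_ncard_le (by rintro _ ⟨y, hy, rfl⟩; exact hmaps y hy)
      (Set.ncard_smul_set m O).ge (Set.toFinite _)
  -- transitive case
  have htr : ∀ y, ∃ k ∈ K, k • a = y := fun y => by
    obtain ⟨k, hk⟩ : y ∈ O := hO ▸ Set.mem_univ y
    exact ⟨k, k.2, hk⟩
  by_cases hN : (M.normalCore) ≤ K
  swap
  · have hNK : K ⊔ M.normalCore = ⊤ := by
      refine hK.2 _ (lt_of_le_of_ne le_sup_left fun h => hN ?_)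
      exact h ▸ le_sup_right
    obtain ⟨k, hk, t, ht, rfl⟩ := Subgroup.mem_sup_of_normal_right.1 (hNK ▸ Subgroup.mem_top m : m ∈ K ⊔ M.normalCore)
    have hfix : ∀ y : G ⧸ M, t • y = y := fun y => by
      have := M.normalCore_eq_ker ▸ ht
      exact congrArg (fun τ : Equiv.Perm (G ⧸ M) => τ y) (MonoidHom.mem_ker.1 this)
    refine contra k hk ?_ ?_
    · simpa [mul_smul, hfix] using hma
    · simpa [mul_smul, hfix] using hmb
  let B : Set (G ⧸ M) := MulAction.orbit L a
  have hmemB : ∀ l ∈ L, l • a ∈ B := fun l hl => ⟨⟨l, hl⟩, rfl⟩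
  -- the stabiliser in `M` of `B`
  let S : Subgroup G := M ⊓ MulAction.stabilizer G B
  have hHS : H ≤ S := le_inf hHM fun t ht => by
    rw [MulAction.mem_stabilizer_iff]
    exact MulAction.smul_orbit (⟨t, hHL.le ht⟩ : L) a
  rcases maxdich S hHS inf_le_left with hS | hS
  swap
  · have hmS : m ∈ MulAction.stabilizer G B := (hS ▸ hmM : m ∈ S).2
    rw [MulAction.mem_stabilizer_iff] at hmS
    have : c ∈ B := hmS ▸ hmb ▸ Set.smul_mem_smul_set (hmemB l₀ hl₀)
    obtain ⟨l, hl⟩ := this
    exact hgB 1 L.one_mem l l.2 (by rw [mul_one]; exact hl.symm)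
  -- a third block
  obtain ⟨y, hyB, hygB⟩ : ∃ y, y ∉ B ∧ y ∉ g • B := by
    by_contra hcon
    push_neg at hcon
    have hdis : Disjoint B (g • B) := by
      rw [Set.disjoint_left]
      rintro _ ⟨l, rfl⟩ ⟨_, ⟨l', rfl⟩, h⟩
      exact hgB l' l'.2 l l.2 ((mul_smul g (l' : G) a).trans h)
    have hu : B ∪ g • B = Set.univ := Set.eq_univ_of_forall fun y => by
      by_cases hy : y ∈ B
      · exact Or.inl hy
      · exact Or.inr (hcon y hy)
    have hcard := Set.ncard_union_eq hdis (Set.toFinite _) (Set.toFinite _)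
    rw [hu, Set.ncard_univ, ← Subgroup.index_eq_card, hn, Set.ncard_smul_set] at hcard
    exact Nat.not_even_iff_odd.2 hodd ⟨_, hcard⟩
  have hcB : c ∈ g • B := Set.smul_mem_smul_set (by simpa using hmemB 1 L.one_mem)
  have hxB : x ∈ g • B := Set.smul_mem_smul_set (hmemB l₀ hl₀)
  have hyc : y ≠ c := fun h => hygB (h ▸ hcB)
  have hyx : y ≠ x := fun h => hygB (h ▸ hxB)
  let τ : Equiv.Perm (G ⧸ M) := Equiv.swap c x * Equiv.swap x y
  obtain ⟨t, ht⟩ := alt τ (by simp [τ, Equiv.Perm.sign_swap hxc.symm, Equiv.Perm.sign_swap hyx.symm])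
  have hdisB : ∀ z ∈ g • B, z ∉ B := by
    rintro _ ⟨_, ⟨l', rfl⟩, rfl⟩ ⟨l, h⟩
    exact hgB l' l'.2 l l.2 (by rw [mul_smul]; exact h.symm)
  have hfixB : ∀ z ∈ B, t • z = z := fun z hz => by
    rw [ht]
    have h1 : z ≠ c := fun h => hdisB c hcB (h ▸ hz)
    have h2 : z ≠ x := fun h => hdisB x hxB (h ▸ hz)
    have h3 : z ≠ y := fun h => hyB (h ▸ hz)
    simp [τ, Equiv.swap_apply_of_ne_of_ne h1 h2, Equiv.swap_apply_of_ne_of_ne h2 h3]
  have htS : t ∈ S := by
    refine ⟨(hstab _).1 (hfixB a (by simpa using hmemB 1 L.one_mem)), ?_⟩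
    show t • B = B
    ext z
    constructor
    · rintro ⟨w, hw, rfl⟩; show t • w ∈ B; rw [hfixB w hw]; exact hw
    · exact fun hz => ⟨z, hz, hfixB z hz⟩
  have htK : t ∈ K := hHK (hS ▸ htS)
  -- `t` maps `c` to `x` and `x` to `y`, contradicting the block property
  have htc : t • c = x := by
    rw [ht]
    simp [τ, Equiv.swap_apply_of_ne_of_ne hxc.symm hyc.symm]
  have htx : t • x = y := by
    rw [ht]
    simp [τ, Equiv.swap_apply_of_ne_of_ne hyc hyx]
  have hu : g⁻¹ * t * g ∈ L :=
    hblock _ (K.mul_mem (K.mul_mem (K.inv_mem hgK) htK) hgK) 1 L.one_mem l₀ hl₀ (by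
      rw [mul_one, mul_smul, mul_smul, ← hc, htc, hx, inv_smul_smul, hb])
  apply hygB
  rw [← htx, hx, hb, show t • g • l₀ • a = g • ((g⁻¹ * t * g * l₀) • a) by simp [mul_smul]]
  exact Set.smul_mem_smul_set (hmemB _ (L.mul_mem hu hl₀))

end Cfsg.Agent.S5885
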