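import Cfsg.Statements.S5890
import Cfsg.Agent.Lib.Classical.DicksonPGLCoatom
-- import your own Cfsg.Agent.* helpers here

set_option autoImplicit false
open Cfsg

namespace Cfsg.Agent.S5890
open Cfsg.Agent.Dickson


/-- Let F be a finite field with q ≥ 4 elements, let L ≤ PGL₂(F) be the image of SL₂(F) (a copy of PSL₂(F), of index gcd(2, q − 1)), and let M be a maximal subgroup of PGL₂(F) that does not contain L. Suppose q ∉ {7, 9, 11} and that q is not a prime congruent to ±11 or ±19 modulo 40. Then M ∩ L is a maximal subgroup of L. (For the excluded q there are maximal subgroups of PGL₂(q) — dihedral groups of order 12 and 16 at q = 7, of order 20 and 16 at q = 9, of order 20 at q = 11, and S₄ at the excluded primes — whose intersection with L is not maximal in L.) -/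
theorem result {F : Type*} [Field F]
    [Fintype F] (h4 : 4 ≤ Fintype.card F) (h7 : Fintype.card F ≠ 7) (h9 : Fintype.card F ≠ 9) (h11 : Fintype.card F ≠ 11)
    (h40 : (Fintype.card F).Prime → Fintype.card F % 40 ∉ ({11, 19, 21, 29} : Finset ℕ))
    (M : Subgroup (Matrix.ProjGenLinGroup (Fin 2) F)) (hM : IsCoatom M)
    (hML : ¬ (Matrix.ProjGenLinGroup.mk.comp Matrix.SpecialLinearGroup.toGL).range ≤ M) :
    IsCoatom ((M ⊓ (Matrix.ProjGenLinGroup.mk.comp Matrix.SpecialLinearGroup.toGL).range).subgroupOf
      (Matrix.ProjGenLinGroup.mk.comp Matrix.SpecialLinearGroup.toGL).range) := by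
  classical
  obtain ⟨p, hp'⟩ := CharP.exists F
  haveI : Fact p.Prime := ⟨CharP.char_is_prime F p⟩
  have key : IsCoatom (M.comap (Matrix.ProjectiveSpecialLinearGroup.toPGL (n := Fin 2) (R := F))) := by
    rw [PGLMax.toPGL_range_eq] at hML
    rcases Nat.even_or_odd (Fintype.card F) with he | ho
    · have hs : Function.Surjective (Matrix.ProjectiveSpecialLinearGroup.toPGL (n := Fin 2) (R := F)) := fun x => by
        induction x using Matrix.ProjGenLinGroup.induction_on with | mk g => ?_
        exact (mem_range_toPGL_iff g).mpr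
          (FiniteField.isSquare_of_char_two (FiniteField.even_card_iff_char_two.mpr (Nat.even_iff.mp he)) _)
      let e := MulEquiv.ofBijective _ ⟨Matrix.ProjectiveSpecialLinearGroup.toPGL_injective (n := Fin 2) (R := F), hs⟩
      exact (OrderIso.isCoatom_iff (MulEquiv.comapSubgroup e) M).mpr hM
    · obtain ⟨m, hm⟩ := id ho
      exact PGLMax.comap_coatom p ho (by omega) h7 h9 h11 h40 hM hML
  let j := (MonoidHom.ofInjective
    (Matrix.ProjectiveSpecialLinearGroup.toPGL_injective (n := Fin 2) (R := F))).trans
      (MulEquiv.subgroupCongr (PGLMax.toPGL_range_eq (F := F)).symm)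
  refine (OrderIso.isCoatom_iff (MulEquiv.comapSubgroup j) _).mp ?_
  convert key using 1
  ext x
  simp only [MulEquiv.comapSubgroup_apply, Subgroup.mem_comap, Subgroup.mem_subgroupOf, Subgroup.mem_inf]
  exact ⟨fun h => h.1, fun h => ⟨h, SetLike.coe_mem (j x)⟩⟩

end Cfsg.Agent.S5890
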