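import Cfsg.Statements.S5893
import Cfsg.Agent.Lib.Classical.DicksonSmallQ
-- import your own Cfsg.Agent.* helpers here

set_option autoImplicit false
open Cfsg

namespace Cfsg.Agent.S5893
open Cfsg.Agent.Dickson

/-- Let F be a finite field of even order q ≥ 4 and let M be a maximal subgroup of PSL₂(F) (= SL₂(F) = PGL₂(F)). Then one of the following holds: |M| = q(q − 1) (the stabiliser of a point of the projective line, elementary abelian of order q extended by a cyclic group of order q − 1); M is dihedral of order 2(q − 1); M is dihedral of order 2(q + 1); or q = q₀^r for a prime r with q₀ ≠ 2 and M ≅ PSL₂(F₀) with |F₀| = q₀. -/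
theorem result {F : Type*} [Field F] [Fintype F]
    (heven : Even (Fintype.card F)) (h4 : 4 ≤ Fintype.card F) (M : Subgroup (Matrix.ProjectiveSpecialLinearGroup (Fin 2) F)) (hM : IsCoatom M) :
    Nat.card M = Fintype.card F * (Fintype.card F - 1) ∨
    Nonempty (M ≃* DihedralGroup (Fintype.card F - 1)) ∨
    Nonempty (M ≃* DihedralGroup (Fintype.card F + 1)) ∨
    (∃ (F₀ : Type) (_ : Field F₀) (_ : Fintype F₀) (r : ℕ), r.Prime ∧ Fintype.card F₀ ≠ 2 ∧
        Fintype.card F = Fintype.card F₀ ^ r ∧ Nonempty (M ≃* Matrix.ProjectiveSpecialLinearGroup (Fin 2) F₀)) := by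
  classical
  obtain ⟨p, hc⟩ := CharP.exists F
  haveI : Fact p.Prime := ⟨CharP.char_is_prime F p⟩
  have hd : del F = 1 := by
    rcases del_cases F with ⟨hd, -⟩ | ⟨-, ho⟩
    · exact hd
    · exact absurd heven (Nat.not_even_iff_odd.mpr ho)
  have hp2 := p_eq_two p heven
  cases coatom_cases p h4 hM with
  | torus a ha hap h =>
    obtain ⟨h1, ⟨i⟩⟩ := normalizer_tor p ha hap
    subst h
    rcases card_tor_semi p ha hap with e | e <;> rw [hd, Nat.div_one] at e
    · exact Or.inr (Or.inl ⟨e ▸ i⟩)
    · exact Or.inr (Or.inr (Or.inl ⟨e ▸ i⟩))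
  | borel a ha hap h =>
    subst h
    refine Or.inl ?_
    rw [← card_borel p ha hap, hd, mul_one]
  | alt4 hq h8 h10 iso => omega
  | perm4 hq h8 iso => omega
  | alt5 hq h10 iso =>
    obtain ⟨k, hk⟩ := heven
    omega
  | subfield L r x hr hc h3 h =>
    subst h
    haveI : Fintype L := Fintype.ofFinite L
    obtain ⟨K, iK, iK', ⟨e⟩⟩ := exists_type_model L
    have hK : Nat.card L = Fintype.card K := by
      rw [← Nat.card_eq_fintype_card (α := K), Nat.card_congr e.toEquiv]
    obtain ⟨i⟩ := (nonempty_sfOver hr hc x).2 (Or.inr heven)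
    obtain ⟨c⟩ := nonempty_psl_congr e
    exact Or.inr (Or.inr (Or.inr ⟨K, iK, iK', r, hr, by omega, by rw [← hc, hK], ⟨i.trans c.symm⟩⟩))

end Cfsg.Agent.S5893
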