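import Cfsg.Statements.S5894
import Mathlib


set_option autoImplicit false
open Cfsg

namespace Cfsg.Agent.S5894
open MulAction Pointwise


/-- For every m ≥ 2 the symmetric group on 2m letters has a maximal subgroup M of index 2m together with a maximal subgroup H of M that is not second maximal: some maximal subgroup K of the symmetric group contains H without H being maximal in K. (One may take M the stabiliser of a letter, H ≅ S_m × S_{m−1} inside it, and K ≅ S_m ≀ S₂ the stabiliser of a partition into two m-sets, with H < S_m × S_m < K.) So the prime-index hypothesis in the second-maximality criterion cannot be relaxed to any even index ≥ 4. -/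
theorem result (m : ℕ) (hm : 2 ≤ m) :
    ∃ M H K : Subgroup (Equiv.Perm (Fin (2 * m))), IsCoatom M ∧ M.index = 2 * m ∧ H ≤ M ∧ IsCoatom (H.subgroupOf M) ∧
      IsCoatom K ∧ H ≤ K ∧ ¬ IsCoatom (H.subgroupOf K) := by
  classical
  have hcard : Nat.card (Fin (2 * m)) = 2 * m := Nat.card_fin _
  let z : Fin (2 * m) := ⟨0, by omega⟩
  let A : Set (Fin (2 * m)) := {x | (x : ℕ) < m}
  let M := stabilizer (Equiv.Perm (Fin (2 * m))) z
  let H := M ⊓ stabilizer (Equiv.Perm (Fin (2 * m))) A
  let K0 := stabilizer (Equiv.Perm (Fin (2 * m))) ({A, Aᶜ} : Set (Set (Fin (2 * m))))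
  have : Nontrivial (Fin (2 * m)) := Fin.nontrivial_iff_two_le.mpr (by omega)
  have hA : stabilizer (Equiv.Perm (Fin (2 * m))) A ≤ K0 := by
    intro g hg
    have hg' : g ∈ stabilizer (Equiv.Perm (Fin (2 * m))) Aᶜ := by
      rw [stabilizer_compl]; exact hg
    rw [mem_stabilizer_iff] at hg hg' ⊢
    simp [Set.smul_set_insert, hg, hg']
  -- a permutation exchanging A and its complement
  let g0 : Equiv.Perm (Fin (2 * m)) := Equiv.ofBijective
    (fun x => if h : (x : ℕ) < m then ⟨x + m, by omega⟩ else ⟨x - m, by omega⟩) (by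
      refine Finite.injective_iff_bijective.mp (fun x y hxy => ?_)
      split_ifs at hxy <;> simp [Fin.ext_iff] at hxy <;> ext <;> omega)
  have hg0 : g0 • A = Aᶜ := by
    ext x
    constructor
    · rintro ⟨y, hy, rfl⟩
      simp only [A, Set.mem_setOf_eq] at hy
      simp [A, g0, hy]
    · intro hx
      simp only [A, Set.mem_compl_iff, Set.mem_setOf_eq, not_lt] at hx
      refine ⟨⟨(x : ℕ) - m, by omega⟩, by simp [A]; omega, ?_⟩
      simp [g0]
      rw [dif_pos (by omega)]
      ext; simp; omega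
  have hAne : A ≠ Aᶜ := fun h => by
    have hz : z ∈ A := by simp [A, z]; omega
    exact (h ▸ hz : z ∈ Aᶜ) hz
  have hg0K : g0 ∈ K0 := by
    rw [mem_stabilizer_iff, Set.smul_set_insert, Set.smul_set_singleton, Set.smul_set_compl, hg0,
      compl_compl, Set.pair_comm]
  have hg0A : g0 ∉ stabilizer (Equiv.Perm (Fin (2 * m))) A := by
    rw [mem_stabilizer_iff, hg0]; exact hAne.symm
  have hK0 : K0 ≠ ⊤ := by
    intro h
    let a : Fin (2 * m) := ⟨0, by omega⟩
    let a' : Fin (2 * m) := ⟨1, by omega⟩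
    let b : Fin (2 * m) := ⟨m, by omega⟩
    have hmem : Equiv.swap a b ∈ K0 := h ▸ Subgroup.mem_top _
    rw [mem_stabilizer_iff, Set.smul_set_insert, Set.smul_set_singleton] at hmem
    have h1 : Equiv.swap a b • A ∈ ({A, Aᶜ} : Set (Set (Fin (2 * m)))) :=
      hmem ▸ Set.mem_insert _ _
    have ha : a ∈ A := by simp [A, a]; omega
    have hb : b ∈ Equiv.swap a b • A := ⟨a, ha, Equiv.swap_apply_left a b⟩
    have ha' : a' ∈ A := by simp [A, a']; omega
    have ha'' : a' ∈ Equiv.swap a b • A := ⟨a', ha', Equiv.swap_apply_of_ne_of_ne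
      (by simp [a, a', Fin.ext_iff]) (by simp [a', b, Fin.ext_iff]; omega)⟩
    rcases h1 with h1 | h1
    · rw [h1] at hb; simp [A, b] at hb
    · rw [Set.mem_singleton_iff.mp h1] at ha''; exact ha'' ha'
  obtain ⟨K, hK, hK0K⟩ : ∃ K, IsCoatom K ∧ K0 ≤ K :=
    (eq_top_or_exists_le_coatom K0).resolve_left hK0
  have hMi : M.index = 2 * m := by rw [index_stabilizer_of_transitive, hcard]
  refine ⟨M, H, K, IsPreprimitive.isCoatom_stabilizer_of_isPreprimitive _ z, hMi, inf_le_left, ?_, hK,
    (inf_le_right.trans hA).trans hK0K, ?_⟩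
  · -- S_{2m-1} picture
    let ψ : Equiv.Perm {x : Fin (2 * m) // x ≠ z} →* M :=
      (Equiv.Perm.ofSubtype).codRestrict M (fun π => mem_stabilizer_iff.mpr
        (Equiv.Perm.ofSubtype_apply_of_not_mem π (by simp)))
    have hψ : Function.Bijective ψ := by
      refine ⟨fun a b h => Equiv.Perm.ofSubtype_injective (congrArg Subtype.val h), fun g => ?_⟩
      have hgz : (g : Equiv.Perm (Fin (2 * m))) z = z := g.2
      refine ⟨Equiv.Perm.subtypePerm (g : Equiv.Perm (Fin (2 * m))) (fun x => ?_), Subtype.ext ?_⟩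
      · rw [not_iff_not]
        conv_lhs => rw [← hgz]
        exact (EmbeddingLike.apply_eq_iff_eq _)
      · exact Equiv.Perm.ofSubtype_subtypePerm _ (fun x hx h => hx (h ▸ hgz))
    let e := MulEquiv.ofBijective ψ hψ
    let A' : Set {x : Fin (2 * m) // x ≠ z} := {x | (x : Fin (2 * m)) ∈ A}
    have hA' : (H.subgroupOf M).map e.symm.toMonoidHom = stabilizer _ A' := by
      rw [Subgroup.map_equiv_eq_comap_symm']
      ext π
      simp only [Subgroup.mem_comap, MulEquiv.symm_symm, Subgroup.mem_subgroupOf, H, Subgroup.mem_inf]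
      refine (and_iff_right (e π).2).trans ?_
      show Equiv.Perm.ofSubtype π ∈ stabilizer _ A ↔ _
      rw [mem_stabilizer_set_iff_subset_smul_set (Set.toFinite _),
        mem_stabilizer_set_iff_subset_smul_set (Set.toFinite _)]
      constructor
      · rintro h ⟨x, hx⟩ hxA
        obtain ⟨y, hy, hyx⟩ := h (show x ∈ A from hxA)
        have hyz : y ≠ z := fun h0 => hx (by
          rw [← hyx, h0]; exact Equiv.Perm.ofSubtype_apply_of_not_mem π (by simp))
        exact ⟨⟨y, hyz⟩, hy, Subtype.ext
          ((Equiv.Perm.ofSubtype_apply_coe π ⟨y, hyz⟩).symm.trans hyx)⟩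
      · intro h x hxA
        by_cases hxz : x = z
        · exact ⟨z, hxz ▸ hxA, by
            rw [hxz]; exact Equiv.Perm.ofSubtype_apply_of_not_mem π (by simp)⟩
        · obtain ⟨y, hy, hyx⟩ := h (show (⟨x, hxz⟩ : {x // x ≠ z}) ∈ A' from hxA)
          exact ⟨y, hy, by
            show Equiv.Perm.ofSubtype π y = x
            rw [Equiv.Perm.ofSubtype_apply_coe]
            exact congrArg Subtype.val hyx⟩
    have hco : IsCoatom (stabilizer (Equiv.Perm {x : Fin (2 * m) // x ≠ z}) A') := by
      refine Equiv.Perm.isCoatom_stabilizer ⟨⟨⟨1, by omega⟩, by simp [z, Fin.ext_iff]⟩, ?_⟩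
        ⟨⟨⟨m, by omega⟩, by simp [z, Fin.ext_iff]; omega⟩, ?_⟩ ?_
      · simp [A', A]; omega
      · simp [A', A]
      · rw [Nat.card_eq_fintype_card, Fintype.card_subtype_compl, Fintype.card_fin,
          Fintype.card_subtype_eq]
        omega
    rw [← hA'] at hco
    exact (OrderIso.isCoatom_iff e.symm.mapSubgroup _).mp hco
  · intro hc
    have hle : stabilizer (Equiv.Perm (Fin (2 * m))) A ≤ K := hA.trans hK0K
    have hlt : H.subgroupOf K < (stabilizer (Equiv.Perm (Fin (2 * m))) A).subgroupOf K := by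
      refine lt_of_le_of_ne (fun x hx => hx.2) (fun h => ?_)
      let s : Equiv.Perm (Fin (2 * m)) := Equiv.swap z ⟨1, by omega⟩
      have hs : s ∈ stabilizer (Equiv.Perm (Fin (2 * m))) A :=
        Equiv.Perm.swap_mem_stabilizer (by simp [A, z]; omega) (by simp [A]; omega)
      have h1 : (⟨s, hle hs⟩ : K) ∈ H.subgroupOf K := h ▸ hs
      have h2 : s z = z := (Subgroup.mem_subgroupOf.mp h1).1
      simp [s, z, Fin.ext_iff] at h2
    have := hc.2 _ hlt
    rw [Subgroup.subgroupOf_eq_top] at this
    exact hg0A (this (hK0K hg0K))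

end Cfsg.Agent.S5894
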