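import Cfsg.Statements.S5902
import Mathlib
import Cfsg.Agent.Lib.Classical.LatticeComplement


set_option autoImplicit false
open Cfsg

namespace Cfsg.Agent.S5902


/-- Let G be a finite group, X a subgroup whose own subgroup lattice is complemented, and suppose X lies in exactly one maximal subgroup M of G. Then every subgroup H of G not contained in the normal core of M has a complement in the subgroup lattice of G (some C with H ⊔ C = G and H ⊓ C = 1); in particular the subgroup lattice of G modulo the normal core of M is complemented. -/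
theorem result {G : Type*} [Group G] [Finite G] (X M : Subgroup G)
    (hK : ComplementedLattice (Subgroup X))
    (hM : IsCoatom M) (hXM : X ≤ M) (huniq : ∀ M' : Subgroup G, IsCoatom M' → X ≤ M' → M' = M) :
    (∀ H : Subgroup G, ¬ H ≤ M.normalCore → ∃ C : Subgroup G, H ⊔ C = ⊤ ∧ H ⊓ C = ⊥) ∧
    ComplementedLattice (Subgroup (G ⧸ M.normalCore)) := by
  have hint : ∀ Y : Subgroup G, ⊥ ≤ Y → Y ≤ X →
      ∃ C : Subgroup G, ⊥ ≤ C ∧ C ≤ X ∧ Y ⊔ C = X ∧ Y ⊓ C = ⊥ := by
    intro Y _ hY
    obtain ⟨C, hC⟩ := exists_isCompl (Y.subgroupOf X)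
    have e : ∀ D : Subgroup X, D.map X.subtype ≤ X := fun D => Subgroup.map_subtype_le D
    refine ⟨C.map X.subtype, bot_le, e C, ?_, ?_⟩
    · have := congrArg (Subgroup.map X.subtype) hC.sup_eq_top
      rw [Subgroup.map_sup, Subgroup.map_subgroupOf_eq_of_le hY, ← MonoidHom.range_eq_map,
        Subgroup.range_subtype] at this
      exact this
    · have := congrArg (Subgroup.map X.subtype) hC.inf_eq_bot
      rw [Subgroup.map_inf_eq _ _ _ X.subtype_injective, Subgroup.map_subgroupOf_eq_of_le hY,
        Subgroup.map_bot] at this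
      exact this
  have h1 : ∀ H : Subgroup G, ¬ H ≤ M.normalCore →
      ∃ C : Subgroup G, H ⊔ C = ⊤ ∧ H ⊓ C = ⊥ := by
    intro H hH
    obtain ⟨x, hxH, hx⟩ := SetLike.not_le_iff_exists.mp hH
    have : ∃ g : G, g * x * g⁻¹ ∉ M := by
      by_contra hcon
      push Not at hcon
      exact hx hcon
    obtain ⟨g, hg⟩ := this
    refine Cfsg.Agent.Classical.exists_complement_of_map_conj g H ?_
    refine Cfsg.Agent.Classical.exists_complement_of_unique_maximal ⊥ X M bot_le hint huniq _ ?_
      (inf_bot_eq _)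
    exact fun hle => hg (hle ⟨x, hxH, rfl⟩)
  refine ⟨h1, ⟨fun K => ?_⟩⟩
  set q := QuotientGroup.mk' M.normalCore
  by_cases hK' : K = ⊥
  · exact ⟨⊤, hK' ▸ isCompl_bot_top⟩
  have hker : M.normalCore ≤ K.comap q := by
    intro y hy
    rw [Subgroup.mem_comap, show q y = 1 from (QuotientGroup.eq_one_iff y).mpr hy]
    exact K.one_mem
  have hq : Function.Surjective q := QuotientGroup.mk'_surjective _
  obtain ⟨C, hC1, hC2⟩ := h1 (K.comap q) (fun hle => hK' (le_bot_iff.mp (by
    rw [← Subgroup.map_comap_eq_self_of_surjective hq K]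
    rintro _ ⟨y, hy, rfl⟩
    exact (QuotientGroup.eq_one_iff y).mpr (hle hy))))
  refine ⟨C.map q, isCompl_iff.mpr ⟨disjoint_iff.mpr ?_, codisjoint_iff.mpr ?_⟩⟩
  · refine le_bot_iff.mp ?_
    rintro y ⟨hy, c, hc, rfl⟩
    have : c ∈ K.comap q ⊓ C := ⟨hy, hc⟩
    rw [hC2, Subgroup.mem_bot] at this
    rw [this, map_one]; exact Subgroup.one_mem _
  · have := congrArg (Subgroup.map q) hC1
    rw [Subgroup.map_sup, Subgroup.map_comap_eq_self_of_surjective hq,
      Subgroup.map_top_of_surjective q hq] at this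
    exact this

end Cfsg.Agent.S5902
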