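import Cfsg.Statements.S5903
import Mathlib
import Cfsg.Agent.Lib.Classical.LatticeComplement


set_option autoImplicit false
open Cfsg

namespace Cfsg.Agent.S5903


/-- Let G be a finite simple group, X a subgroup lying in exactly one maximal subgroup M of G, and N a subgroup of prime order with N ≤ X that is central in M. If the subgroup lattice of X/N is complemented, then the subgroup lattice of G is complemented. -/
theorem result {G : Type*} [Group G] [Finite G] [IsSimpleGroup G] (X M N : Subgroup G)
    (hM : IsCoatom M) (hXM : X ≤ M) (huniq : ∀ M' : Subgroup G, IsCoatom M' → X ≤ M' → M' = M)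
    (hNX : N ≤ X) (hN : (Nat.card N).Prime) (hcen : ∀ n ∈ N, ∀ m ∈ M, m * n = n * m)
    [(N.subgroupOf X).Normal] (hK : ComplementedLattice (Subgroup (X ⧸ N.subgroupOf X))) :
    ComplementedLattice (Subgroup G) := by
  set Nx := N.subgroupOf X
  set q := QuotientGroup.mk' Nx
  have hq : Function.Surjective q := QuotientGroup.mk'_surjective _
  have hqN : ∀ D : Subgroup (X ⧸ Nx), Nx ≤ D.comap q := fun D y hy => by
    rw [Subgroup.mem_comap, show q y = 1 from (QuotientGroup.eq_one_iff y).mpr hy]
    exact D.one_mem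
  have hint : ∀ Y : Subgroup G, N ≤ Y → Y ≤ X →
      ∃ C : Subgroup G, N ≤ C ∧ C ≤ X ∧ Y ⊔ C = X ∧ Y ⊓ C = N := by
    intro Y hNY hY
    have hY' : ((Y.subgroupOf X).map q).comap q = Y.subgroupOf X :=
      Subgroup.comap_map_eq_self (by
        rw [QuotientGroup.ker_mk']; exact fun y hy => hNY hy)
    obtain ⟨C, hC⟩ := exists_isCompl ((Y.subgroupOf X).map q)
    refine ⟨(C.comap q).map X.subtype, ?_, Subgroup.map_subtype_le _, ?_, ?_⟩
    · rw [← Subgroup.map_subgroupOf_eq_of_le hNX]
      exact Subgroup.map_mono (hqN C)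
    · have h : Y.subgroupOf X ⊔ C.comap q = ⊤ := by
        rw [← hY', Subgroup.comap_sup_eq _ _ _ hq, hC.sup_eq_top, Subgroup.comap_top]
      have := congrArg (Subgroup.map X.subtype) h
      rw [Subgroup.map_sup, Subgroup.map_subgroupOf_eq_of_le hY, ← MonoidHom.range_eq_map,
        Subgroup.range_subtype] at this
      exact this
    · have h : Y.subgroupOf X ⊓ C.comap q = Nx := by
        rw [← hY', ← Subgroup.comap_inf, hC.inf_eq_bot, MonoidHom.comap_bot, QuotientGroup.ker_mk']
      have := congrArg (Subgroup.map X.subtype) h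
      rw [Subgroup.map_inf_eq _ _ _ X.subtype_injective, Subgroup.map_subgroupOf_eq_of_le hY,
        Subgroup.map_subgroupOf_eq_of_le hNX] at this
      exact this
  have hN0 : N ≠ ⊥ := by
    intro h; rw [h, Subgroup.card_bot] at hN; exact Nat.not_prime_one hN
  have hNtop : Subgroup.normalClosure (N : Set G) = ⊤ := by
    rcases (Subgroup.normalClosure_normal (s := (N : Set G))).eq_bot_or_eq_top with h | h
    · exact absurd (le_bot_iff.mp (h ▸ Subgroup.le_normalClosure)) hN0
    · exact h
  refine ⟨fun H => ?_⟩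
  by_cases hb : H = ⊥
  · exact ⟨⊤, hb ▸ isCompl_bot_top⟩
  by_cases ht : H = ⊤
  · exact ⟨⊥, ht ▸ isCompl_top_bot⟩
  suffices hg : ∃ g : G, ¬ H.map (MulAut.conj g).toMonoidHom ≤ M ∧
      H.map (MulAut.conj g).toMonoidHom ⊓ N = ⊥ by
    obtain ⟨g, hg1, hg2⟩ := hg
    obtain ⟨C, h1, h2⟩ := Cfsg.Agent.Classical.exists_complement_of_map_conj g H
      (Cfsg.Agent.Classical.exists_complement_of_unique_maximal N X M hNX hint huniq _ hg1 hg2)
    exact ⟨C, isCompl_iff.mpr ⟨disjoint_iff.mpr h2, codisjoint_iff.mpr h1⟩⟩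
  by_contra hcon
  push Not at hcon
  have hnorm : Subgroup.normalClosure (N : Set G) ≤ Subgroup.normalizer (H : Set G) := by
    refine (Subgroup.closure_le _).mpr ?_
    intro y hy
    obtain ⟨n, hn, hconj⟩ := Group.mem_conjugatesOfSet_iff.mp hy
    obtain ⟨c, rfl⟩ := isConj_iff.mp hconj
    set K := H.map (MulAut.conj c⁻¹).toMonoidHom
    have hK : n ∈ Subgroup.normalizer (K : Set G) := by
      by_cases hKM : K ≤ M
      · rw [Subgroup.mem_normalizer_iff]
        intro k
        constructor
        · intro hk; rw [← hcen n hn k (hKM hk)]; simpa using hk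
        · intro hk
          have h1 := hcen n hn _ (hKM hk)
          have : n * k * n⁻¹ = k := by
            calc n * k * n⁻¹ = n⁻¹ * ((n * k * n⁻¹) * n) := by rw [h1]; group
              _ = k := by group
          rwa [this] at hk
      · have hne := hcon c⁻¹ hKM
        have hle : N ≤ K := by
          have hd : Nat.card ↥(K ⊓ N) ∣ Nat.card N := Subgroup.card_dvd_of_le inf_le_right
          rcases (Nat.dvd_prime hN).mp hd with h | h
          · exact absurd (Subgroup.card_eq_one.mp h) hne
          · exact (Subgroup.eq_of_le_of_card_ge inf_le_right h.ge) ▸ inf_le_left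
        exact Subgroup.le_normalizer (hle hn)
    rw [SetLike.mem_coe, Subgroup.mem_normalizer_iff]
    intro k
    rw [Subgroup.mem_normalizer_iff] at hK
    have key : ∀ z : G, z ∈ H ↔ c⁻¹ * z * c ∈ K := fun z => by
      constructor
      · exact fun hz => ⟨z, hz, by simp⟩
      · rintro ⟨w, hw, hwz⟩
        simp at hwz
        rwa [← hwz]
    rw [key k, key, hK]
    simp [mul_assoc]
  rw [hNtop, top_le_iff, Subgroup.normalizer_eq_top_iff] at hnorm
  exact hnorm.eq_bot_or_eq_top.elim hb ht

end Cfsg.Agent.S5903
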