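import Cfsg.Statements.S5904
import Mathlib


set_option autoImplicit false
open scoped Pointwise
open Cfsg

namespace Cfsg.Agent.S5904
open Pointwise


/-- Let Ω be a finite set with more than two elements and O ⊆ Ω a subset with exactly as many elements as its complement. Then the setwise stabilizer of O in the symmetric group on Ω is not a maximal subgroup (it is properly contained in the stabilizer of the partition {O, Ω ∖ O}, which is proper). -/
theorem result {Ω : Type*} [Fintype Ω] [DecidableEq Ω] (hΩ : 2 < Fintype.card Ω)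
    (O : Set Ω) (hO : Nat.card O = Nat.card ↥Oᶜ) :
    ¬ IsCoatom (MulAction.stabilizer (Equiv.Perm Ω) O) := by
  have hO' : O.ncard = Oᶜ.ncard := by
    simpa [Nat.card_coe_set_eq] using hO
  have hsum := Set.ncard_add_ncard_compl O
  rw [Nat.card_eq_fintype_card] at hsum
  have h2 : 1 < O.ncard := by omega
  obtain ⟨a, a', ha, ha', haa⟩ := (Set.one_lt_ncard_iff (Set.toFinite _)).mp h2
  obtain ⟨b, hb⟩ : Oᶜ.Nonempty := Set.nonempty_of_ncard_ne_zero (by omega)
  let K : Subgroup (Equiv.Perm Ω) := MulAction.stabilizer (Equiv.Perm Ω) ({O, Oᶜ} : Set (Set Ω))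
  have hle : MulAction.stabilizer (Equiv.Perm Ω) O ≤ K := by
    intro g hg
    have hg' : g ∈ MulAction.stabilizer (Equiv.Perm Ω) Oᶜ := by
      rw [stabilizer_compl]; exact hg
    rw [MulAction.mem_stabilizer_iff] at hg hg' ⊢
    simp [Set.smul_set_insert, hg, hg']
  intro hco
  rcases eq_or_lt_of_le hle with h | h
  · let e : ↥O ≃ ↥Oᶜ := (Finite.card_eq.mp hO).some
    classical
    let g : Equiv.Perm Ω := Equiv.ofBijective
      (fun x => if h : x ∈ O then (e ⟨x, h⟩ : Ω) else (e.symm ⟨x, h⟩ : Ω)) (by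
        refine Finite.injective_iff_bijective.mp (fun x y hxy => ?_)
        by_cases h1 : x ∈ O <;> by_cases h2 : y ∈ O <;> simp only [h1, h2, dite_true, dite_false] at hxy
        · simpa using e.injective (Subtype.ext hxy)
        · exact absurd (hxy ▸ (e.symm ⟨y, h2⟩).2) (e ⟨x, h1⟩).2
        · exact absurd (hxy.symm ▸ (e.symm ⟨x, h1⟩).2) (e ⟨y, h2⟩).2
        · simpa using e.symm.injective (Subtype.ext hxy))
    have hgO : g • O = Oᶜ := by
      ext x
      constructor
      · rintro ⟨y, hy, rfl⟩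
        simpa [g, Equiv.Perm.smul_def, hy] using (e ⟨y, hy⟩).2
      · intro hx
        refine ⟨e.symm ⟨x, hx⟩, (e.symm ⟨x, hx⟩).2, ?_⟩
        simp [g, Equiv.Perm.smul_def]
    have hgK : g ∈ K := by
      rw [MulAction.mem_stabilizer_iff, Set.smul_set_insert, Set.smul_set_singleton,
        Set.smul_set_compl, hgO, compl_compl, Set.pair_comm]
    rw [← h, MulAction.mem_stabilizer_iff, hgO] at hgK
    exact (hgK.symm ▸ ha : a ∈ Oᶜ) ha
  · have hmem : Equiv.swap a b ∈ K := (hco.2 K h).symm ▸ Subgroup.mem_top _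
    rw [MulAction.mem_stabilizer_iff, Set.smul_set_insert, Set.smul_set_singleton] at hmem
    have : Equiv.swap a b • O ∈ ({O, Oᶜ} : Set (Set Ω)) := hmem ▸ Set.mem_insert _ _
    have hb' : b ∈ Equiv.swap a b • O := ⟨a, ha, Equiv.swap_apply_left a b⟩
    have ha'' : a' ∈ Equiv.swap a b • O :=
      ⟨a', ha', Equiv.swap_apply_of_ne_of_ne haa.symm (fun h => hb (h ▸ ha'))⟩
    rcases this with h1 | h1
    · exact hb (h1 ▸ hb')
    · rw [Set.mem_singleton_iff] at h1
      exact (h1 ▸ ha'' : a' ∈ Oᶜ) ha'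

end Cfsg.Agent.S5904
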