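import Cfsg.Statements.S5905
-- import your own Cfsg.Agent.* helpers here

set_option autoImplicit false
open Cfsg

namespace Cfsg.Agent.S5905

/-- Let Ω be a finite set and f : Ω → Fin b a map onto b ≥ 2 labels whose fibres all have the same size a ≥ 2 (a partition of Ω into b blocks of size a, so |Ω| = ab). Then the stabilizer of this partition in the symmetric group on Ω — the permutations g such that x and y lie in the same block exactly when g x and g y do, a group isomorphic to the imprimitive wreath product S_a ≀ S_b — is a maximal subgroup of the symmetric group. -/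
theorem result {Ω : Type*} [Fintype Ω] [DecidableEq Ω] (a b : ℕ) (ha : 2 ≤ a) (hb : 2 ≤ b)
    (f : Ω → Fin b) (hf : ∀ i : Fin b, Nat.card {x : Ω // f x = i} = a) :
    IsCoatom (Subgroup.closure {g : Equiv.Perm Ω | ∀ x y : Ω, f x = f y ↔ f (g x) = f (g y)}) := by
  classical
  set W : Subgroup (Equiv.Perm Ω) := Subgroup.closure {g : Equiv.Perm Ω | ∀ x y : Ω, f x = f y ↔ f (g x) = f (g y)}
    with hW
  have hpres : ∀ g ∈ W, ∀ x y : Ω, f x = f y ↔ f (g x) = f (g y) := by
    intro g hg
    induction hg using Subgroup.closure_induction with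
    | mem g hg => exact hg
    | one => exact fun x y => Iff.rfl
    | mul g h _ _ ihg ihh => exact fun x y => (ihh x y).trans (ihg (h x) (h y))
    | inv g _ ih =>
      intro x y
      have h := ih (g⁻¹ x) (g⁻¹ y)
      simp only [Equiv.Perm.coe_inv, Equiv.apply_symm_apply] at h
      exact h.symm
  have hblock : ∀ x y, f x = f y → Equiv.swap x y ∈ W := by
    intro x y hxy
    refine Subgroup.subset_closure ?_
    intro u v
    have hf' : ∀ z, f (Equiv.swap x y z) = f z := fun z => by
      rw [Equiv.swap_apply_def]; split_ifs with h1 h2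
      · rw [h1, hxy]
      · rw [h2, hxy]
      · rfl
    rw [hf', hf']
  have hfib : ∀ i : Fin b, ∀ z : Ω, f z = i → ∃ z', f z' = i ∧ z' ≠ z := by
    intro i z hz
    by_contra hc
    push Not at hc
    haveI : Subsingleton {x : Ω // f x = i} := ⟨fun u v => Subtype.ext ((hc u u.2).trans (hc v v.2).symm)⟩
    have := Finite.card_le_one_iff_subsingleton.mpr ‹Subsingleton {x : Ω // f x = i}›
    rw [hf i] at this
    omega
  have hne : ∀ i : Fin b, ∃ z, f z = i := fun i => by
    have : Nonempty {x : Ω // f x = i} := (Nat.card_pos_iff.mp (by rw [hf i]; omega)).1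
    exact ⟨this.some, this.some.2⟩
  obtain ⟨e, he⟩ : ∃ e : Ω ≃ Fin b × Fin a, ∀ x, (e x).1 = f x := by
    have eq : ∀ i : Fin b, {x : Ω // f x = i} ≃ Fin a := fun i =>
      (Finite.equivFin _).trans (finCongr (hf i))
    exact ⟨(Equiv.sigmaFiberEquiv f).symm.trans ((Equiv.sigmaCongrRight eq).trans (Equiv.sigmaEquivProd _ _)),
      fun x => rfl⟩
  have hperm : ∀ π : Equiv.Perm (Fin b), ∃ w ∈ W, ∀ x, f (w x) = π (f x) := by
    intro π
    refine ⟨(e.trans (Equiv.prodCongr π (Equiv.refl _))).trans e.symm, Subgroup.subset_closure ?_, fun x => ?_⟩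
    · intro x y
      simp [← he]
    · simp [← he]
  obtain ⟨x₀, hx₀⟩ := hne ⟨0, by omega⟩
  obtain ⟨y₀, hy₀, hy₀'⟩ := hfib _ x₀ hx₀
  obtain ⟨z₀, hz₀⟩ := hne ⟨1, by omega⟩
  have hxz : f x₀ ≠ f z₀ := by rw [hx₀, hz₀]; simp
  refine ⟨fun h => ?_, fun G hG => ?_⟩
  · have hm : Equiv.swap y₀ z₀ ∈ W := h ▸ Subgroup.mem_top _
    have h1 := (hpres _ hm x₀ y₀).mp (hx₀.trans hy₀.symm)
    rw [Equiv.swap_apply_left, Equiv.swap_apply_of_ne_of_ne hy₀'.symm (fun e => hxz (by rw [e]))] at h1
    exact hxz h1
  · obtain ⟨g, hgG, hgW⟩ := SetLike.exists_of_lt hG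
    have hle : W ≤ G := hG.le
    obtain ⟨x, y, hxy, hgxy⟩ : ∃ x y, f x = f y ∧ f (g x) ≠ f (g y) := by
      by_contra hc
      push Not at hc
      -- the images of the blocks give a permutation of the block labels
      choose sec hsec using hne
      let σ : Fin b → Fin b := fun i => f (g (sec i))
      have hσ : ∀ x, f (g x) = σ (f x) := fun x => hc x (sec (f x)) (hsec (f x)).symm
      have hsurj : Function.Surjective σ := fun i => ⟨f (g⁻¹ (sec i)), by rw [← hσ]; simp [hsec]⟩
      have hinj : Function.Injective σ := Finite.injective_iff_surjective.mpr hsurj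
      exact hgW (Subgroup.subset_closure fun u v => by
        rw [hσ u, hσ v]; exact ⟨fun e => congrArg σ e, fun e => hinj e⟩)
    have hcross : Equiv.swap (g x) (g y) ∈ G := by
      rw [show Equiv.swap (g x) (g y) = g * Equiv.swap x y * g⁻¹ from Equiv.swap_apply_apply g x y]
      exact G.mul_mem (G.mul_mem hgG (hle (hblock x y hxy))) (G.inv_mem hgG)
    set P := g x
    set R := g y
    have hmove : ∀ u v u', f u = f u' → Equiv.swap u v ∈ G → f u ≠ f v → Equiv.swap u' v ∈ G := by
      intro u v u' huu hm huv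
      rcases eq_or_ne u u' with rfl | hne'
      · exact hm
      have hv1 : Equiv.swap u u' v = v :=
        Equiv.swap_apply_of_ne_of_ne (fun e => huv (by rw [e])) (fun e => huv (huu.trans (by rw [e])))
      have := Equiv.swap_apply_apply (Equiv.swap u u') u v
      rw [Equiv.swap_apply_left, hv1] at this
      rw [this]
      exact G.mul_mem (G.mul_mem (hle (hblock u u' huu)) hm) (G.inv_mem (hle (hblock u u' huu)))
    have hall : ∀ u v, f u ≠ f v → Equiv.swap u v ∈ G := by
      intro u v huv
      obtain ⟨π, hπ1, hπ2⟩ : ∃ π : Equiv.Perm (Fin b), π (f P) = f u ∧ π (f R) = f v := by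
        refine ⟨Equiv.swap (Equiv.swap (f P) (f u) (f R)) (f v) * Equiv.swap (f P) (f u), ?_, ?_⟩
        · rw [Equiv.Perm.mul_apply, Equiv.swap_apply_left]
          refine Equiv.swap_apply_of_ne_of_ne (fun e => hgxy ?_) huv
          exact (Equiv.swap (f P) (f u)).injective ((Equiv.swap_apply_left _ _).trans e)
        · rw [Equiv.Perm.mul_apply, Equiv.swap_apply_left]
      obtain ⟨w, hw, hwf⟩ := hperm π
      have h1 : Equiv.swap (w P) (w R) ∈ G := by
        rw [Equiv.swap_apply_apply w P R]
        exact G.mul_mem (G.mul_mem (hle hw) hcross) (G.inv_mem (hle hw))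
      have h2 : Equiv.swap u (w R) ∈ G :=
        hmove _ _ u (by rw [hwf, hπ1]) h1 (by rw [hwf, hwf, hπ1, hπ2]; exact huv)
      rw [Equiv.swap_comm] at h2 ⊢
      exact hmove _ _ v (by rw [hwf, hπ2]) h2 (by rw [hwf, hπ2]; exact Ne.symm huv)
    suffices h : ∀ p, p ∈ G from eq_top_iff.mpr fun p _ => h p
    intro p
    induction p using Equiv.Perm.swap_induction_on with
    | one => exact G.one_mem
    | swap_mul p u v huv ih =>
      refine G.mul_mem ?_ ih
      by_cases h : f u = f v
      · exact hle (hblock u v h)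
      · exact hall u v h

end Cfsg.Agent.S5905
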