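import Cfsg.Statements.S5908
import Cfsg.Agent.Lib.Spor.PSUThreeTwo
-- import your own Cfsg.Agent.* helpers here

set_option autoImplicit false
open Cfsg

namespace Cfsg.Agent.S5908

/-- The subgroup lattice of PSU₃(2) (the solvable group of order 72, realised over the field with 4 elements) is not complemented: some subgroup H has no subgroup X with H ⊔ X = ⊤ and H ⊓ X = ⊥. -/
theorem result {F : Type*} [Field F] [Fintype F] (hF : Fintype.card F = 4) :
    ¬ ComplementedLattice (Subgroup (Cfsg.PSU 3 F 2)) := by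
  intro hC
  obtain ⟨π, hπ⟩ := Spor.SU32.model hF
  let κ := Spor.SU32.kappaP.comp π
  have hsurj : Function.Surjective κ := Spor.SU32.kappaP_surjective.comp hπ.2
  let H : Subgroup (Cfsg.PSU 3 F 2) := (Subgroup.zpowers (QuaternionGroup.a 2 : QuaternionGroup 2)).comap κ
  haveI : Finite (Cfsg.PSU 3 F 2) := Nat.finite_of_card_ne_zero (by
    rw [Nat.card_congr (Equiv.ofBijective π hπ), Spor.SU32.card_PSU]; norm_num)
  obtain ⟨K, hK⟩ := hC.exists_isCompl H
  have hKbot : K = ⊥ := by
    refine K.eq_bot_iff_forall.2 fun k hk => ?_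
    by_contra hne
    obtain ⟨r, hr, hrd⟩ := Nat.exists_prime_and_dvd (show orderOf k ≠ 1 from fun h => hne (orderOf_eq_one_iff.1 h))
    haveI : Fact r.Prime := ⟨hr⟩
    set y := k ^ (orderOf k / r)
    have hy : orderOf y = r := orderOf_pow_orderOf_div (orderOf_pos k).ne' hrd
    have hr72 : r ∣ 72 := by
      rw [← Spor.SU32.card_PSU, ← Nat.card_congr (Equiv.ofBijective π hπ)]
      exact hy ▸ orderOf_dvd_natCard y
    have h23 : r = 2 ∨ r = 3 := by
      rcases hr.dvd_mul.1 (show r ∣ 2 ^ 3 * 3 ^ 2 from hr72) with h | h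
      · exact Or.inl ((Nat.prime_dvd_prime_iff_eq hr Nat.prime_two).1 (hr.dvd_of_dvd_pow h))
      · exact Or.inr ((Nat.prime_dvd_prime_iff_eq hr Nat.prime_three).1 (hr.dvd_of_dvd_pow h))
    have hyH : y ∈ H := by
      have h := Spor.SU32.small_order (π y) (by
        rw [← map_pow, ← map_pow]
        have h1 := pow_orderOf_eq_one y
        rw [hy] at h1
        rcases h23 with rfl | rfl
        · exact Or.inl (by rw [h1, map_one])
        · exact Or.inr (by rw [h1, map_one]))
      rw [Subgroup.mem_comap]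
      rcases h with h | h
      · rw [show κ y = 1 from h]; exact one_mem _
      · rw [show κ y = QuaternionGroup.a 2 from h]; exact Subgroup.mem_zpowers _
    have h1 : y = 1 := Subgroup.disjoint_def.1 hK.disjoint hyH (pow_mem hk _)
    rw [h1, orderOf_one] at hy
    exact hr.ne_one hy.symm
  have htop : H = ⊤ := by simpa [hKbot] using hK.sup_eq_top
  obtain ⟨g, hg⟩ := hsurj (QuaternionGroup.a 1)
  have hgH : QuaternionGroup.a 1 ∈ Subgroup.zpowers (QuaternionGroup.a 2 : QuaternionGroup 2) := by
    rw [← hg]; exact (htop ▸ Subgroup.mem_top g : g ∈ H)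
  rw [mem_zpowers_iff_mem_range_orderOf] at hgH
  revert hgH
  rw [show orderOf (QuaternionGroup.a 2 : QuaternionGroup 2) = 2 from
    orderOf_eq_prime (by decide) (by decide)]
  decide

end Cfsg.Agent.S5908
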