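import Cfsg.Statements.S5910
import Cfsg.Agent.Lib.Classical.AltWreathMax
-- import your own Cfsg.Agent.* helpers here

set_option autoImplicit false
open Cfsg

namespace Cfsg.Agent.S5910

open Cfsg.Agent.Classical.AltWreath

/-- A point of the affine space. -/
abbrev P8 : Type := Fin 4 × Fin 2

/-- The coordinates. -/
def vecOf (x : P8) : Bool × Bool × Bool := (decide (2 ≤ x.1.val), decide (x.1.val % 2 = 1), decide (x.2.val = 1))

/-- The fourth point of an affine plane. -/
def add3 (x y z : P8) : P8 :=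
  (⟨(x.1.val.xor y.1.val).xor z.1.val % 4, Nat.mod_lt _ (by norm_num)⟩, x.2 + y.2 + z.2)

/-- Preserving the affine planes. -/
def Aff (g : Equiv.Perm P8) : Prop := ∀ x y z : P8, g (add3 x y z) = add3 (g x) (g y) (g z)

/-- A permutation preserving the pairs. -/
def shear (p : Equiv.Perm (Fin 4)) (ε : Fin 4 → Fin 2) : Equiv.Perm P8 :=
  Equiv.prodShear p fun i => Equiv.addRight (ε i)

theorem shear_aff : ∀ (p : Equiv.Perm (Fin 4)) (ε : Fin 4 → Fin 2), Equiv.Perm.sign (shear p ε) = 1 →
    ∀ x y z : P8, shear p ε (add3 x y z) = add3 (shear p ε x) (shear p ε y) (shear p ε z) := by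
  decide +kernel

/-- The witness. -/
def wit : Equiv.Perm P8 := Equiv.swap (0, 1) (1, 0) * Equiv.swap (2, 1) (3, 0)

theorem wit_aff : ∀ x y z : P8, wit (add3 x y z) = add3 (wit x) (wit y) (wit z) := by decide +kernel

theorem cyc_not_aff : ¬ ∀ x y z : P8,
    (Equiv.swap (0, 0) (1, 0) * Equiv.swap (0, 0) (2, 1) : Equiv.Perm P8) (add3 x y z) =
      add3 ((Equiv.swap (0, 0) (1, 0) * Equiv.swap (0, 0) (2, 1) : Equiv.Perm P8) x)
        ((Equiv.swap (0, 0) (1, 0) * Equiv.swap (0, 0) (2, 1) : Equiv.Perm P8) y)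
        ((Equiv.swap (0, 0) (1, 0) * Equiv.swap (0, 0) (2, 1) : Equiv.Perm P8) z) := by decide +kernel

theorem exists_shear {g : Equiv.Perm P8} (hg : ∀ x y : P8, x.1 = y.1 ↔ (g x).1 = (g y).1) :
    ∃ p ε, g = shear p ε := by
  have hinj : Function.Injective fun i => (g (i, 0)).1 := fun i j h => (hg (i, 0) (j, 0)).mpr h
  refine ⟨Equiv.ofBijective _ (Finite.injective_iff_bijective.mp hinj), fun i => (g (i, 0)).2, Equiv.ext ?_⟩
  rintro ⟨i, c⟩
  have h1 : (g (i, c)).1 = (g (i, 0)).1 := (hg (i, c) (i, 0)).mp rfl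
  refine Prod.ext h1 ?_
  show (g (i, c)).2 = c + (g (i, 0)).2
  rcases (by fin_cases c <;> simp : c = 0 ∨ c = 1) with rfl | rfl
  · simp
  · have h2 : (g (i, 1)).2 ≠ (g (i, 0)).2 := fun e => by
      simpa using g.injective (Prod.ext h1 e)
    revert h2
    generalize (g (i, 1)).2 = u
    generalize (g (i, 0)).2 = w
    revert u w
    decide


/-- Let Ω be a set with 8 elements and f : Ω → Fin 4 a labelling whose four fibres all have size 2 (a partition of the 8 points into 4 pairs). Then the group of even permutations preserving this partition, (S₂ ≀ S₄) ∩ A₈, is not a maximal subgroup of the alternating group A₈ (it lies in a subgroup isomorphic to the affine group AGL₃(2)). -/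
theorem result {Ω : Type*} [Fintype Ω] [DecidableEq Ω] (h8 : Fintype.card Ω = 8)
    (f : Ω → Fin 4) (hf : ∀ i : Fin 4, Nat.card {x : Ω // f x = i} = 2) :
    ¬ IsCoatom ((Subgroup.closure {g : Equiv.Perm Ω | ∀ x y : Ω, f x = f y ↔ f (g x) = f (g y)} ⊓ alternatingGroup Ω).subgroupOf (alternatingGroup Ω)) := by
  classical
  intro hco
  obtain ⟨e, he⟩ : ∃ e : Ω ≃ P8, ∀ x, (e x).1 = f x := by
    have eq : ∀ i : Fin 4, {x : Ω // f x = i} ≃ Fin 2 := fun i => (Finite.equivFin _).trans (finCongr (hf i))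
    exact ⟨(Equiv.sigmaFiberEquiv f).symm.trans ((Equiv.sigmaCongrRight eq).trans (Equiv.sigmaEquivProd _ _)),
      fun x => rfl⟩
  let φ : Equiv.Perm Ω ≃* Equiv.Perm P8 :=
    { e.permCongr with map_mul' := fun g h => Equiv.ext fun x => by simp [Equiv.permCongr_apply] }
  have hφ : ∀ g x, φ g x = e (g (e.symm x)) := fun g x => rfl
  let K : Subgroup (Equiv.Perm P8) :=
    { carrier := {g | Aff g}
      one_mem' := fun x y z => rfl
      mul_mem' := fun {g h} hg hh x y z => by
        show g (h _) = add3 (g (h _)) (g (h _)) (g (h _))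
        rw [hh x y z, hg]
      inv_mem' := fun {g} hg x y z => by
        apply g.injective
        rw [hg]
        simp [Equiv.Perm.coe_inv] }
  set A := alternatingGroup Ω
  set H := (Subgroup.closure {g : Equiv.Perm Ω | ∀ x y : Ω, f x = f y ↔ f (g x) = f (g y)} ⊓ A).subgroupOf A
  set L := (K.comap φ.toMonoidHom).subgroupOf A
  have hpres : ∀ g, Pres f g → ∀ x y : P8, x.1 = y.1 ↔ (φ g x).1 = (φ g y).1 := by
    intro g hg x y
    rw [hφ, hφ, he, he]
    simpa [← he] using hg (e.symm x) (e.symm y)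
  have hle : H ≤ L := by
    intro g hg
    obtain ⟨hp, hs⟩ := mem_evenPres.mp (Subgroup.mem_subgroupOf.mp hg)
    obtain ⟨p, ε, hpe⟩ := exists_shear (hpres _ hp)
    show Aff (φ (g : Equiv.Perm Ω))
    rw [hpe]
    refine shear_aff p ε ?_
    rw [← hpe]
    exact (Equiv.Perm.sign_permCongr e _).trans hs
  have hsgn : ∀ g, Equiv.Perm.sign (φ.symm g) = Equiv.Perm.sign g := fun g => by
    conv_rhs => rw [← φ.apply_symm_apply g]
    exact (Equiv.Perm.sign_permCongr e _).symm
  have hwit : φ.symm wit ∈ A := by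
    rw [Equiv.Perm.mem_alternatingGroup, hsgn]; decide +kernel
  have hcyc : φ.symm (Equiv.swap (0, 0) (1, 0) * Equiv.swap (0, 0) (2, 1)) ∈ A := by
    rw [Equiv.Perm.mem_alternatingGroup, hsgn]; decide +kernel
  rcases eq_or_lt_of_le hle with h | h
  · have hm : (⟨_, hwit⟩ : A) ∈ L := by
      show Aff (φ (φ.symm wit))
      rw [φ.apply_symm_apply]; exact wit_aff
    rw [← h] at hm
    have hp := hpres _ (mem_evenPres.mp (Subgroup.mem_subgroupOf.mp hm)).1 (0, 0) (0, 1)
    rw [show φ ((⟨_, hwit⟩ : A) : Equiv.Perm Ω) = wit from φ.apply_symm_apply wit] at hp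
    revert hp
    decide +kernel
  · have hm : (⟨_, hcyc⟩ : A) ∈ L := (hco.2 L h) ▸ Subgroup.mem_top _
    change Aff (φ (φ.symm _)) at hm
    rw [φ.apply_symm_apply] at hm
    exact cyc_not_aff hm

end Cfsg.Agent.S5910
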