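import Cfsg.Statements.S5912
import Cfsg.Agent.Lib.Classical.SixSubgroups
-- import your own Cfsg.Agent.* helpers here

set_option autoImplicit false
open Cfsg

namespace Cfsg.Agent.S5912
open Cfsg.Agent.Classical.SixSub

/-- The symmetric group on a 6-element set Ω has exactly two conjugacy classes of subgroups of index 6: there are two non-conjugate subgroups of index 6 (a point stabilizer and a transitive subgroup isomorphic to S₅), and every subgroup of index 6 is conjugate to one of them. -/
theorem result {Ω : Type*} [Fintype Ω] [DecidableEq Ω] (h6 : Fintype.card Ω = 6) :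
    ∃ H₁ H₂ : Subgroup (Equiv.Perm Ω), H₁.index = 6 ∧ H₂.index = 6 ∧
      (¬ ∃ g : Equiv.Perm Ω, Subgroup.map (MulAut.conj g).toMonoidHom H₁ = H₂) ∧
      ∀ H : Subgroup (Equiv.Perm Ω), H.index = 6 →
        ∃ g : Equiv.Perm Ω, Subgroup.map (MulAut.conj g).toMonoidHom H₁ = H ∨ Subgroup.map (MulAut.conj g).toMonoidHom H₂ = H := by
  classical
  let e := Fintype.equivFinOfCardEq h6
  let φ : Equiv.Perm (Fin 6) ≃* Equiv.Perm Ω := Equiv.permCongrHom e.symm
  have hidx : ∀ H : Subgroup (Equiv.Perm (Fin 6)), (H.map φ.toMonoidHom).index = H.index := fun H =>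
    Subgroup.index_map_equiv H φ
  have hcm : ∀ (g : Equiv.Perm (Fin 6)) (H : Subgroup (Equiv.Perm (Fin 6))),
      (cm g H).map φ.toMonoidHom = (H.map φ.toMonoidHom).map (MulAut.conj (φ g)).toMonoidHom := by
    intro g H
    rw [cm, Subgroup.map_map, Subgroup.map_map]
    congr 1
    ext x : 1
    simp
  refine ⟨(MulAction.stabilizer (Equiv.Perm (Fin 6)) (0 : Fin 6)).map φ.toMonoidHom, exotic.map φ.toMonoidHom,
    (hidx _).trans (index_stab 0), (hidx _).trans index_exotic, ?_, ?_⟩
  · rintro ⟨g, hg⟩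
    refine conj_stab_ne_exotic (φ.symm g) 0 ?_
    apply Subgroup.map_injective (f := φ.toMonoidHom) φ.injective
    rw [hcm, φ.apply_symm_apply]
    exact hg
  · intro H hH
    have hback : H = (H.map φ.symm.toMonoidHom).map φ.toMonoidHom := by
      rw [Subgroup.map_map]
      ext x; simp
    have h6' : (H.map φ.symm.toMonoidHom).index = 6 := (Subgroup.index_map_equiv H φ.symm).trans hH
    rcases classify6 h6' with ⟨a, ha⟩ | ⟨k, hk⟩
    · refine ⟨φ (Equiv.swap 0 a), Or.inl ?_⟩
      rw [← hcm, cm_stab, Equiv.swap_apply_left, ← ha]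
      exact hback.symm
    · refine ⟨φ k, Or.inr ?_⟩
      rw [← hcm, ← hk]
      exact hback.symm

end Cfsg.Agent.S5912
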