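import Cfsg.Statements.S5913
import Mathlib


set_option autoImplicit false
open Cfsg

namespace Cfsg.Agent.S5913


/-- Let S be a non-abelian simple group and n a natural number. Every normal subgroup N of the direct power S^n (functions Fin n → S) is a subproduct: there is a set T of coordinates such that N consists exactly of the elements whose coordinates outside T are trivial. In particular the minimal normal subgroups of S^n are its n factors. -/
theorem result {S : Type*} [Group S] [IsSimpleGroup S] (hS : ¬ IsMulCommutative S) (n : ℕ)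
    (N : Subgroup (Fin n → S)) [N.Normal] :
    ∃ T : Finset (Fin n), ∀ x : Fin n → S, x ∈ N ↔ ∀ i, i ∉ T → x i = 1 := by
  classical
  refine ⟨Finset.univ.filter (fun i => ∃ x ∈ N, x i ≠ 1), fun x => ⟨fun hx i hi => ?_, fun hx => ?_⟩⟩
  · by_contra h
    exact hi (Finset.mem_filter.mpr ⟨Finset.mem_univ _, x, hx, h⟩)
  · refine Subgroup.pi_mem_of_mulSingle_mem x (fun i => ?_)
    by_cases hi : i ∈ Finset.univ.filter (fun i => ∃ x ∈ N, x i ≠ 1)
    swap
    · rw [hx i hi, Pi.mulSingle_one]; exact N.one_mem
    obtain ⟨y, hy, hyi⟩ := (Finset.mem_filter.mp hi).2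
    set K : Subgroup S := N.comap (MonoidHom.mulSingle (fun _ : Fin n => S) i)
    rcases (inferInstance : K.Normal).eq_bot_or_eq_top with h | h
    · exfalso
      have hc : Subgroup.center S = ⊥ := by
        rcases (inferInstance : (Subgroup.center S).Normal).eq_bot_or_eq_top with hc | hc
        · exact hc
        · exact absurd ⟨⟨fun a b => (Subgroup.mem_center_iff.mp (hc ▸ Subgroup.mem_top b) a)⟩⟩ hS
      apply hyi
      rw [← Subgroup.mem_bot, ← hc, Subgroup.mem_center_iff]
      intro s
      have hm : y * Pi.mulSingle i s * y⁻¹ * (Pi.mulSingle i s)⁻¹ ∈ N := by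
        rw [show y * Pi.mulSingle i s * y⁻¹ * (Pi.mulSingle i s)⁻¹
          = y * (Pi.mulSingle i s * y⁻¹ * (Pi.mulSingle i s)⁻¹) by group]
        exact N.mul_mem hy (‹N.Normal›.conj_mem _ (N.inv_mem hy) _)
      have heq : y * Pi.mulSingle i s * y⁻¹ * (Pi.mulSingle i s)⁻¹
          = Pi.mulSingle i (y i * s * (y i)⁻¹ * s⁻¹) := by
        ext j
        by_cases hj : j = i
        · subst hj; simp
        · simp [hj]
      have : y i * s * (y i)⁻¹ * s⁻¹ ∈ K := by
        show MonoidHom.mulSingle (fun _ : Fin n => S) i _ ∈ N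
        rw [MonoidHom.mulSingle_apply, ← heq]; exact hm
      rw [h, Subgroup.mem_bot] at this
      calc s * y i = 1 * s * y i := by group
        _ = y i * s * (y i)⁻¹ * s⁻¹ * s * y i := by rw [this]
        _ = y i * s := by group
    · exact (h ▸ Subgroup.mem_top (x i) : x i ∈ K)

end Cfsg.Agent.S5913
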