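import Cfsg.Statements.S5939
import Cfsg.Agent.Lib.Classical.DicksonOvergroups
-- import your own Cfsg.Agent.* helpers here

set_option autoImplicit false
open Cfsg

namespace Cfsg.Agent.S5939
open Cfsg.Agent.Dickson Cfsg.Agent.PSL2Spec

/-- Let p be a prime and F a finite field of characteristic p such that either F has p elements and p ≡ ±1 (mod 10), or F has p² elements and p ≡ ±3 (mod 10). Then PSL_2(F) has a maximal subgroup isomorphic to the alternating group A_5. -/
theorem result {F : Type*} [Field F] [Fintype F] (p : ℕ) [Fact p.Prime] [CharP F p] (h : (Fintype.card F = p ∧ (p % 10 = 1 ∨ p % 10 = 9)) ∨ (Fintype.card F = p ^ 2 ∧ (p % 10 = 3 ∨ p % 10 = 7))) : ∃ H : Subgroup (Matrix.ProjectiveSpecialLinearGroup (Fin 2) F), IsCoatom H ∧ Nonempty (H ≃* alternatingGroup (Fin 5)) := by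
  classical
  have hp := (Fact.out : p.Prime)
  have h10 : Fintype.card F % 10 = 1 ∨ Fintype.card F % 10 = 9 := by
    rcases h with ⟨e, h⟩ | ⟨e, h⟩
    · omega
    · rw [e, Nat.pow_mod]
      rcases h with h | h <;> rw [h] <;> norm_num
  have hodd : Odd (Fintype.card F) := Nat.odd_iff.mpr (by omega)
  have h9 : 9 ≤ Fintype.card F := by
    have := Fintype.one_lt_card (α := F)
    omega
  have h5 : 5 ∣ Nat.card (Matrix.ProjectiveSpecialLinearGroup (Fin 2) F) :=
    five_dvd_card_psl (by rw [Nat.pow_mod]; rcases (show Fintype.card F % 5 = 1 ∨ Fintype.card F % 5 = 4 by omega) with e | e <;> rw [e])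
  obtain ⟨H, ⟨i⟩⟩ := Ico.exists_alt5_iff.mpr h5
  have hH : Nat.card H = 60 := by rw [Nat.card_congr i.toEquiv, nat_card_alternatingGroup, Nat.card_fin]; rfl
  have hHt : H ≠ ⊤ := fun e => by
    have h2 := card_psl (F := F)
    rw [← Subgroup.card_top (G := Matrix.ProjectiveSpecialLinearGroup (Fin 2) F), ← e, hH] at h2
    have hd := two_del_le (F := F)
    have : 9 * (8 * 10) ≤ Fintype.card F * ((Fintype.card F - 1) * (Fintype.card F + 1)) :=
      Nat.mul_le_mul h9 (Nat.mul_le_mul (by omega) (by omega))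
    omega
  refine ⟨H, isCoatom_of_forall hHt fun M hM hle => ?_, ⟨i⟩⟩
  have hg : Function.Injective ((H.subtype.comp i.symm.toMonoidHom).comp altIncl) :=
    (H.subtype_injective.comp i.symm.injective).comp altIncl_injective
  have hgM : ((H.subtype.comp i.symm.toMonoidHom).comp altIncl).range ≤ M := by
    rintro _ ⟨s, rfl⟩
    exact hle (i.symm (altIncl s)).2
  have hd := Subgroup.card_dvd_of_le hle
  rw [hH] at hd
  rcases alt4_cases p hodd (by omega) hM _ hg hgM with ⟨-, -, -, hc⟩ | ⟨-, -, hc⟩ | ⟨-, -, hc⟩ |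
    ⟨L, r, z, hr, hc, h3, hM'⟩
  · rw [hc] at hd; norm_num at hd
  · rw [hc] at hd; norm_num at hd
  · exact (Subgroup.eq_of_le_of_card_ge hle (by rw [hc, hH])).symm
  · exfalso
    rcases h with ⟨e, -⟩ | ⟨e, h37⟩
    · rw [e] at hc
      exact absurd (hc ▸ hp) (Nat.Prime.not_prime_pow hr.two_le)
    · rw [e] at hc
      obtain ⟨j, -, hj⟩ := (Nat.dvd_prime_pow hp).mp (hc ▸ dvd_pow_self (Nat.card L) hr.ne_zero)
      rw [hj, ← pow_mul] at hc
      have hjr := Nat.pow_right_injective hp.two_le hc
      rcases (Nat.dvd_prime Nat.prime_two).mp ⟨r, hjr.symm⟩ with hj1 | hj2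
      · rw [hj1, one_mul] at hjr
        have hc2 := (card_sfOver hr (x := z) (show Nat.card L ^ r = Fintype.card F by
          rw [hj, ← pow_mul, hj1, one_mul, hjr, e])).1 (Or.inl hjr)
        rw [hj, hj1, pow_one] at hc2
        have h60 : 5 ∣ p * ((p - 1) * (p + 1)) := by
          rw [← hc2, ← hM']
          exact (show 5 ∣ 60 by norm_num).trans hd
        have h5' : Nat.Prime 5 := by norm_num
        rcases h5'.dvd_mul.mp h60 with e' | e'
        · omega
        · rcases h5'.dvd_mul.mp e' with e'' | e'' <;> omega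
      · rw [hj2] at hjr
        have := hr.two_le
        omega

end Cfsg.Agent.S5939
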