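import Cfsg.Statements.S5940
import Cfsg.Agent.Lib.Classical.DicksonOvergroups
-- import your own Cfsg.Agent.* helpers here

set_option autoImplicit false
open Cfsg

namespace Cfsg.Agent.S5940
open Cfsg.Agent.Dickson Cfsg.Agent.PSL2Spec

/-- Let p ≥ 5 be a prime with p ≡ ±3 (mod 8) and p ≢ ±1 (mod 10), and F a field with p elements. Then PSL_2(F) has a maximal subgroup isomorphic to the alternating group A_4. -/
theorem result {F : Type*} [Field F] [Fintype F] (p : ℕ) [Fact p.Prime] (hF : Fintype.card F = p) (h5 : 5 ≤ p) (h8 : p % 8 = 3 ∨ p % 8 = 5) (h10 : p % 10 ≠ 1 ∧ p % 10 ≠ 9) : ∃ H : Subgroup (Matrix.ProjectiveSpecialLinearGroup (Fin 2) F), IsCoatom H ∧ Nonempty (H ≃* alternatingGroup (Fin 4)) := by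
  classical
  haveI : CharP F p := charP_of_prime_card hF
  have hodd : Odd (Fintype.card F) := by rw [hF, Nat.odd_iff]; omega
  have h5' : 5 ≤ Fintype.card F := by omega
  obtain ⟨x, y, hxy⟩ := exists_quat (F := F) hodd
  obtain ⟨t, A, -, -, -, hA, hA12, ⟨i⟩, -⟩ := exists_alt4 hodd hxy
  have hAt : A ≠ ⊤ := fun e => klein_le_proper hodd h5' hxy (top_unique (e ▸ hA))
  refine ⟨A, isCoatom_of_forall hAt fun M hM hle => ?_, ⟨i⟩⟩
  have hg : Function.Injective (A.subtype.comp i.symm.toMonoidHom) := A.subtype_injective.comp i.symm.injective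
  have hgM : (A.subtype.comp i.symm.toMonoidHom).range ≤ M := by
    rintro _ ⟨s, rfl⟩
    exact hle (i.symm s).2
  rcases alt4_cases p hodd h5' hM _ hg hgM with ⟨-, -, -, hc⟩ | ⟨-, h, hc⟩ | ⟨-, h, hc⟩ |
    ⟨L, r, z, hr, hc, h3, -⟩
  · exact (Subgroup.eq_of_le_of_card_ge hle (by rw [hc, hA12])).symm
  · omega
  · omega
  · exfalso
    rw [hF] at hc
    exact absurd (hc ▸ (Fact.out : p.Prime)) (Nat.Prime.not_prime_pow hr.two_le)

end Cfsg.Agent.S5940
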