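import Cfsg.Statements.S5941
import Cfsg.Agent.Lib.Classical.DicksonTorusMax
-- import your own Cfsg.Agent.* helpers here

set_option autoImplicit false
open Cfsg

namespace Cfsg.Agent.S5941
open Cfsg.Agent.Dickson Cfsg.Agent.PSL2Spec

/-- Let K and F be finite fields of odd characteristic with #F = (#K)². Then PSL_2(F) has a maximal subgroup isomorphic to PGL_2(K). -/
theorem result {F K : Type*} [Field F] [Fintype F] [Field K] [Fintype K] (q : ℕ) (hK : Fintype.card K = q) (hF : Fintype.card F = q ^ 2) (hq : Odd q) : ∃ H : Subgroup (Matrix.ProjectiveSpecialLinearGroup (Fin 2) F), IsCoatom H ∧ Nonempty (H ≃* Matrix.ProjGenLinGroup (Fin 2) K) := by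
  classical
  subst hK
  obtain ⟨φ⟩ := exists_ringHom_of_card_pow (F := F) (K := K) (m := 2) hF.symm
  set L := φ.fieldRange
  have hLc : Nat.card L = Fintype.card K :=
    (Nat.card_congr (Equiv.ofInjective φ φ.injective)).symm.trans Nat.card_eq_fintype_card
  have hc2 : Nat.card L ^ 2 = Fintype.card F := by rw [hLc, hF]
  set x : Matrix.ProjGenLinGroup (Fin 2) F := 1
  obtain ⟨i⟩ := (nonempty_sfOver Nat.prime_two hc2 x).1 (Or.inl rfl)
  obtain ⟨c⟩ := nonempty_pgl_congr (RingEquiv.ofBijective φ.rangeRestrictField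
    ⟨fun a b h => φ.injective (congrArg Subtype.val h), fun ⟨_, a, rfl⟩ => ⟨a, rfl⟩⟩)
  obtain ⟨p, hp'⟩ := CharP.exists F
  haveI : Fact p.Prime := ⟨CharP.char_is_prime F p⟩
  obtain ⟨m, hm⟩ := hq
  have h3 : 3 ≤ Fintype.card K := by have := Fintype.one_lt_card (α := K); omega
  have hodd : Odd (Fintype.card F) := by rw [hF]; exact Odd.pow ⟨m, hm⟩
  have h5 : 5 ≤ Fintype.card F := by
    rw [hF]
    exact le_trans (by norm_num) (Nat.pow_le_pow_left h3 2)
  have hLne : L ≠ ⊤ := fun e => by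
    rw [e, Nat.card_congr Subfield.topEquiv.toEquiv, Nat.card_eq_fintype_card] at hc2
    have : Fintype.card F < Fintype.card F ^ 2 := lt_self_pow₀ (by omega) (by norm_num)
    omega
  obtain ⟨a, b, hab⟩ := exists_quat (F := K) ⟨m, hm⟩
  obtain ⟨t, A, -, -, -, -, -, ⟨j⟩, -⟩ := exists_alt4 ⟨m, hm⟩ hab
  let g : alternatingGroup (Fin 4) →* Matrix.ProjectiveSpecialLinearGroup (Fin 2) F :=
    ((sfOver L x).subtype.comp (i.symm.toMonoidHom.comp c.toMonoidHom)).comp
      (Matrix.ProjectiveSpecialLinearGroup.toPGL.comp (A.subtype.comp j.symm.toMonoidHom))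
  have hg : Function.Injective g :=
    ((sfOver L x).subtype_injective.comp (i.symm.injective.comp c.injective)).comp
      (Matrix.ProjectiveSpecialLinearGroup.toPGL_injective.comp (A.subtype_injective.comp j.symm.injective))
  refine ⟨sfOver L x, isCoatom_of_forall (sfOver_ne_top hLne x) fun M hM hle => ?_, ⟨i.trans c.symm⟩⟩
  have hgM : g.range ≤ M := by
    rintro _ ⟨s, rfl⟩
    refine hle ?_
    exact SetLike.coe_mem _
  have hH := (card_sfOver Nat.prime_two hc2 x).1 (Or.inl rfl)
  rw [hLc] at hH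
  have hd := Subgroup.card_dvd_of_le hle
  refine (Subgroup.eq_of_le_of_card_ge hle ?_).symm
  rcases eq_or_lt_of_le h3 with e | e
  · rw [← e] at hH
    rw [← e] at hF
    rw [hH] at hd ⊢
    rcases alt4_cases p hodd h5 hM g hg hgM with ⟨-, -, -, hc⟩ | ⟨-, -, hc⟩ | ⟨-, -, hc⟩ |
      ⟨L', r, z, hr, hc, h3', hM'⟩
    · rw [hc]; norm_num
    · rw [hc]
    · rw [hc] at hd; norm_num at hd
    · rw [hF] at hc
      have hle' : Nat.card L' ≤ 3 := by
        by_contra h'
        have : 4 ^ 2 ≤ Nat.card L' ^ r :=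
          le_trans (Nat.pow_le_pow_left (by omega) 2) (Nat.pow_le_pow_right (by omega) hr.two_le)
        omega
      have := card_sfOver_le (x := z) hr (hc.trans hF.symm)
      rw [show Nat.card L' = 3 by omega] at this
      rw [hM']
      exact this
  · have hbig : 120 ≤ Nat.card (sfOver L x) := by
      rw [hH]
      calc 120 = 5 * (4 * 6) := by norm_num
        _ ≤ _ := Nat.mul_le_mul (by omega) (Nat.mul_le_mul (by omega) (by omega))
    have hMge := Nat.le_of_dvd Nat.card_pos hd
    rcases alt4_cases p hodd h5 hM g hg hgM with ⟨-, -, -, hc⟩ | ⟨-, -, hc⟩ | ⟨-, -, hc⟩ |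
      ⟨L', r, z, hr, hc, h3', hM'⟩ <;> (try omega)
    have hle2 := card_sfOver_le (x := z) hr hc
    rw [← hM'] at hle2
    have hk : Nat.card L' ≤ Fintype.card K := by
      by_contra h'
      have h1 : Nat.card L' ^ 2 ≤ Nat.card L' ^ r := Nat.pow_le_pow_right (by omega) hr.two_le
      have h2 : Fintype.card K ^ 2 < Nat.card L' ^ 2 := Nat.pow_lt_pow_left (by omega) two_ne_zero
      omega
    rw [hH]
    exact hle2.trans (Nat.mul_le_mul hk (Nat.mul_le_mul (by omega) (by omega)))

end Cfsg.Agent.S5941
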