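import Cfsg.Statements.S5942
import Cfsg.Agent.Lib.Classical.DicksonTorusMax
-- import your own Cfsg.Agent.* helpers here

set_option autoImplicit false
open Cfsg

namespace Cfsg.Agent.S5942
open Cfsg.Agent.Dickson Cfsg.Agent.PSL2Spec

/-- Let K and F be finite fields of odd characteristic with #F = (#K)^r for an odd prime r. Then PSL_2(F) has a maximal subgroup isomorphic to PSL_2(K). -/
theorem result {F K : Type*} [Field F] [Fintype F] [Field K] [Fintype K] (q r : ℕ) (hK : Fintype.card K = q) (hF : Fintype.card F = q ^ r) (hq : Odd q) (hr : r.Prime) (hr2 : r ≠ 2) : ∃ H : Subgroup (Matrix.ProjectiveSpecialLinearGroup (Fin 2) F), IsCoatom H ∧ Nonempty (H ≃* Matrix.ProjectiveSpecialLinearGroup (Fin 2) K) := by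
  classical
  subst hK
  obtain ⟨φ⟩ := exists_ringHom_of_card_pow (F := F) (K := K) (m := r) hF.symm
  set L := φ.fieldRange
  have hLc : Nat.card L = Fintype.card K :=
    (Nat.card_congr (Equiv.ofInjective φ φ.injective)).symm.trans Nat.card_eq_fintype_card
  have hcr : Nat.card L ^ r = Fintype.card F := by rw [hLc, hF]
  set x : Matrix.ProjGenLinGroup (Fin 2) F := 1
  obtain ⟨p, hp'⟩ := CharP.exists F
  haveI : Fact p.Prime := ⟨CharP.char_is_prime F p⟩
  have ho : Odd r := hr.odd_of_ne_two hr2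
  obtain ⟨m, hm⟩ := hq
  have hodd : Odd (Fintype.card F) := by rw [hF]; exact Odd.pow ⟨m, hm⟩
  obtain ⟨i⟩ := (nonempty_sfOver hr hcr x).2 (Or.inl ho)
  obtain ⟨c⟩ := nonempty_psl_congr (RingEquiv.ofBijective φ.rangeRestrictField
    ⟨fun a b h => φ.injective (congrArg Subtype.val h), fun ⟨_, a, rfl⟩ => ⟨a, rfl⟩⟩)
  have hk := Fintype.one_lt_card (α := K)
  have hkq : Fintype.card K < Fintype.card F := by rw [hF]; exact lt_self_pow₀ hk hr.one_lt
  have hLne : L ≠ ⊤ := fun e => by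
    rw [e, Nat.card_congr Subfield.topEquiv.toEquiv, Nat.card_eq_fintype_card] at hLc
    omega
  refine ⟨sfOver L x, isCoatom_of_forall (sfOver_ne_top hLne x) fun M hM hle => ?_, ⟨i.trans c.symm⟩⟩
  obtain ⟨a, b, hab⟩ := exists_quat (F := K) ⟨m, hm⟩
  obtain ⟨t, A, -, -, -, -, -, ⟨j⟩, -⟩ := exists_alt4 ⟨m, hm⟩ hab
  let g : alternatingGroup (Fin 4) →* Matrix.ProjectiveSpecialLinearGroup (Fin 2) F :=
    ((sfOver L x).subtype.comp (i.symm.toMonoidHom.comp c.toMonoidHom)).comp (A.subtype.comp j.symm.toMonoidHom)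
  have hg : Function.Injective g :=
    ((sfOver L x).subtype_injective.comp (i.symm.injective.comp c.injective)).comp
      (A.subtype_injective.comp j.symm.injective)
  have hgM : g.range ≤ M := by
    rintro _ ⟨s, rfl⟩
    refine hle ?_
    exact SetLike.coe_mem _
  have h3r : 3 ≤ r := by obtain ⟨z, hz⟩ := ho; have := hr.two_le; omega
  have hnp : Fintype.card F ≠ p ∧ Fintype.card F ≠ p ^ 2 := by
    obtain ⟨n, -, hn⟩ := FiniteField.card F p
    obtain ⟨s, hs1, hs⟩ := (Nat.dvd_prime_pow (Fact.out : p.Prime)).mp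
      (show Fintype.card K ∣ p ^ (n : ℕ) by rw [← hn, hF]; exact dvd_pow_self _ hr.ne_zero)
    have hs0 : s ≠ 0 := fun e => by rw [e, pow_zero] at hs; omega
    have hsr : 3 ≤ s * r := le_trans h3r (Nat.le_mul_of_pos_left r (Nat.pos_of_ne_zero hs0))
    refine ⟨fun e => ?_, fun e => ?_⟩ <;> rw [hF, hs, ← pow_mul] at e
    · have := Nat.pow_right_injective (Fact.out : p.Prime).two_le (e.trans (pow_one p).symm); omega
    · have := Nat.pow_right_injective (Fact.out : p.Prime).two_le e; omega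
  have h5 : 5 ≤ Fintype.card F := by
    rw [hF]
    exact le_trans (by norm_num) (le_trans (Nat.pow_le_pow_left (show 3 ≤ Fintype.card K by omega) 3)
      (Nat.pow_le_pow_right (by omega) h3r))
  rcases alt4_cases p hodd h5 hM g hg hgM with ⟨e, -⟩ | ⟨e, -⟩ | ⟨e, -⟩ | ⟨L', s, z, hs, hc, h3', hM'⟩
  · exact absurd e hnp.1
  · exact absurd e hnp.1
  · rcases e with e | ⟨e, -⟩
    · exact absurd e hnp.1
    · exact absurd e hnp.2
  have hH := (card_sfOver hr hcr x).2 ho hodd
  have hdvd := Subgroup.card_dvd_of_le hle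
  have e1 : Fintype.card K ^ 2 - 1 = (Fintype.card K - 1) * (Fintype.card K + 1) := by
    rw [mul_comm, ← Nat.sq_sub_sq, one_pow]
  have e2 : Nat.card L' ^ 2 - 1 = (Nat.card L' - 1) * (Nat.card L' + 1) := by
    rw [mul_comm, ← Nat.sq_sub_sq, one_pow]
  have hd1 : Fintype.card K ^ 2 - 1 ∣ 2 * Nat.card (sfOver L x) := by
    rw [hH, hLc, ← e1]; exact dvd_mul_left _ _
  have hM2 : 2 * Nat.card M ∣ 2 * (Nat.card L' * (Nat.card L' ^ 2 - 1)) := by
    rw [hM', e2]
    rcases hs.eq_two_or_odd' with e | e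
    · rw [(card_sfOver hs hc z).1 (Or.inl e)]
    · rw [(card_sfOver hs hc z).2 e hodd]; exact dvd_mul_left _ 2
  have hkl := base_eq (Fact.out : p.Prime) hF.symm hc (dvd_card_field p) hr hs
    ((hd1.trans (Nat.mul_dvd_mul_left 2 hdvd)).trans hM2) (by omega)
  have hsr : s = r := Nat.pow_right_injective hk (show Fintype.card K ^ s = Fintype.card K ^ r by
    rw [← hF]; exact (hkl ▸ hc :))
  refine (Subgroup.eq_of_le_of_card_ge hle ?_).symm
  have hc2 := (card_sfOver hs hc z).2 (hsr ▸ ho) hodd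
  rw [← hM', ← hkl] at hc2
  rw [hLc] at hH
  omega

end Cfsg.Agent.S5942
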