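import Cfsg.Statements.S5943
import Cfsg.Agent.Lib.Classical.DicksonTorusMax
-- import your own Cfsg.Agent.* helpers here

set_option autoImplicit false
open Cfsg

namespace Cfsg.Agent.S5943
open Cfsg.Agent.Dickson Cfsg.Agent.PSL2Spec

/-- Let K and F be finite fields of characteristic 2 with #K = q > 2 and #F = q^r for a prime r. Then PSL_2(F) has a maximal subgroup isomorphic to PSL_2(K) (which equals PGL_2(K) in characteristic 2). -/
theorem result {F K : Type*} [Field F] [Fintype F] [Field K] [Fintype K] (q r : ℕ) (hK : Fintype.card K = q) (hF : Fintype.card F = q ^ r) (hq : Even q) (hq2 : q ≠ 2) (hr : r.Prime) : ∃ H : Subgroup (Matrix.ProjectiveSpecialLinearGroup (Fin 2) F), IsCoatom H ∧ Nonempty (H ≃* Matrix.ProjectiveSpecialLinearGroup (Fin 2) K) := by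
  classical
  subst hK
  obtain ⟨φ⟩ := exists_ringHom_of_card_pow (F := F) (K := K) (m := r) hF.symm
  set L := φ.fieldRange
  have hLc : Nat.card L = Fintype.card K :=
    (Nat.card_congr (Equiv.ofInjective φ φ.injective)).symm.trans Nat.card_eq_fintype_card
  have hcr : Nat.card L ^ r = Fintype.card F := by rw [hLc, hF]
  set x : Matrix.ProjGenLinGroup (Fin 2) F := 1
  obtain ⟨p, hp'⟩ := CharP.exists F
  haveI : Fact p.Prime := ⟨CharP.char_is_prime F p⟩
  have heven : Even (Fintype.card F) := by rw [hF]; exact hq.pow_of_ne_zero hr.ne_zero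
  have hp2 := p_eq_two p heven
  obtain ⟨i⟩ := (nonempty_sfOver hr hcr x).2 (Or.inr heven)
  obtain ⟨c⟩ := nonempty_psl_congr (RingEquiv.ofBijective φ.rangeRestrictField
    ⟨fun a b h => φ.injective (congrArg Subtype.val h), fun ⟨_, a, rfl⟩ => ⟨a, rfl⟩⟩)
  have hk := Fintype.one_lt_card (α := K)
  have hkq : Fintype.card K < Fintype.card F := by rw [hF]; exact lt_self_pow₀ hk hr.one_lt
  have hLne : L ≠ ⊤ := fun e => by
    rw [e, Nat.card_congr Subfield.topEquiv.toEquiv, Nat.card_eq_fintype_card] at hLc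
    omega
  refine ⟨sfOver L x, isCoatom_of_forall (sfOver_ne_top hLne x) fun M hM hle => ?_, ⟨i.trans c.symm⟩⟩
  have h4 : 4 ≤ Fintype.card K := by obtain ⟨z, hz⟩ := hq; omega
  have hns : ¬ Group.IsSolvable M := fun h => not_solvable_psl h4
    (Group.isSolvable_of_isSolvable_injective
      (f := ((Subgroup.inclusion hle).comp (i.symm.toMonoidHom.comp c.toMonoidHom)))
      ((Subgroup.inclusion_injective hle).comp (i.symm.injective.comp c.injective)))
  cases coatom_cases p (by omega) hM with
  | torus a ha hap h => exact absurd (h ▸ solvable_normalizer_tor p ha) hns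
  | borel a ha hap h => exact absurd (h ▸ solvable_normalizer_tor p ha) hns
  | alt4 hq' h8 h10 iso => omega
  | perm4 hq' h8 iso => omega
  | alt5 hq' h10 iso => obtain ⟨z, hz⟩ := heven; omega
  | subfield L' s z hs hc h3' hM' =>
    have hH := (card_sfOver hr hcr x).1 (Or.inr heven)
    have hdvd := Subgroup.card_dvd_of_le hle
    have e1 : Fintype.card K ^ 2 - 1 = (Fintype.card K - 1) * (Fintype.card K + 1) := by
      rw [mul_comm, ← Nat.sq_sub_sq, one_pow]
    have e2 : Nat.card L' ^ 2 - 1 = (Nat.card L' - 1) * (Nat.card L' + 1) := by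
      rw [mul_comm, ← Nat.sq_sub_sq, one_pow]
    have hd1 : Fintype.card K ^ 2 - 1 ∣ Nat.card (sfOver L x) := by
      rw [hH, hLc, ← e1]; exact dvd_mul_left _ _
    have hM2 : Nat.card M = Nat.card L' * (Nat.card L' ^ 2 - 1) := by
      rw [hM', (card_sfOver hs hc z).1 (Or.inr heven), e2]
    have hkl := base_eq (Fact.out : p.Prime) hF.symm hc (dvd_card_field p) hr hs
      ((hd1.trans hdvd).trans (hM2 ▸ dvd_mul_left _ 2)) (by omega)
    refine (Subgroup.eq_of_le_of_card_ge hle ?_).symm
    rw [hM2, hH, hLc, e2, hkl]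

end Cfsg.Agent.S5943
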