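import Cfsg.Statements.S5946
-- import your own Cfsg.Agent.* helpers here

set_option autoImplicit false
open Cfsg

namespace Cfsg.Agent.S5946

/-- Let F ⊆ K be finite fields with [K : F] = n ≥ 2 and regard K as an n-dimensional F-vector space. The Singer group M ≤ GL_F(K) of multiplications by the non-zero elements of K is self-centralizing: every F-linear automorphism of K commuting with all of M lies in M. -/
theorem result {F K : Type*} [Field F] [Fintype F] [Field K] [Fintype K] [Algebra F K] (n : ℕ) (hn : 2 ≤ n) (hdim : Module.finrank F K = n) :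
    Subgroup.centralizer (((Units.map ((Algebra.lmul F K : K →ₐ[F] Module.End F K) : K →* Module.End F K)).range : Subgroup (Module.End F K)ˣ) : Set (Module.End F K)ˣ) = (Units.map ((Algebra.lmul F K : K →ₐ[F] Module.End F K) : K →* Module.End F K)).range := by
  classical
  refine le_antisymm (fun g hg => ?_) (fun g hg => ?_)
  · have hcomm : ∀ x y : K, (g : Module.End F K) (x * y) = x * (g : Module.End F K) y := by
      intro x y
      rcases eq_or_ne x 0 with rfl | hx
      · simp
      have h := congrArg (fun u : (Module.End F K)ˣ => (u : Module.End F K) y)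
        (Subgroup.mem_centralizer_iff.1 hg _ ⟨Units.mk0 x hx, rfl⟩)
      simpa using h.symm
    set b := (g : Module.End F K) 1
    have hb : b ≠ 0 := fun h0 => by
      have h1 : (g : Module.End F K) = 0 := LinearMap.ext fun x => by
        rw [← mul_one x, hcomm, show (g : Module.End F K) 1 = 0 from h0]; simp
      exact g.ne_zero h1
    refine ⟨Units.mk0 b hb, Units.ext (LinearMap.ext fun x => ?_)⟩
    conv_rhs => rw [← mul_one x, hcomm]
    simp [b, mul_comm]
  · rw [Subgroup.mem_centralizer_iff]
    rintro h ⟨a, rfl⟩
    obtain ⟨c, rfl⟩ := hg
    rw [← map_mul, ← map_mul, mul_comm]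

end Cfsg.Agent.S5946
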