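import Cfsg.Statements.S5947
import Cfsg.Agent.Lib.Classical.PPDCentralizer
import Cfsg.Agent.Lib.Classical.GLSemisimpleClasses
import Cfsg.Agent.Lib.Recog.Zsigmondy
-- import your own Cfsg.Agent.* helpers here

set_option autoImplicit false
open Cfsg Cfsg.Agent

namespace Cfsg.Agent.S5947

/-- Let F ⊆ K be finite fields with |F| = q and [K : F] = n ≥ 2, regard K as an n-dimensional F-vector space, and let M ≤ GL_F(K) be the Singer group of multiplications by non-zero elements of K (cyclic of order q^n − 1). Assume (n, q) ≠ (6, 2), and that it is not the case that n = 2 with q a prime such that q + 1 is a power of 2. Then every abelian subgroup of GL_F(K) of order q^n − 1 is conjugate to M. -/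
theorem result {F K : Type*} [Field F] [Fintype F] [Field K] [Fintype K] [Algebra F K] (n : ℕ) (hn : 2 ≤ n) (hdim : Module.finrank F K = n)
    (hex1 : ¬ (n = 6 ∧ Fintype.card F = 2))
    (hex2 : ¬ (n = 2 ∧ (Fintype.card F).Prime ∧ ∃ a : ℕ, Fintype.card F + 1 = 2 ^ a))
    (U : Subgroup (Module.End F K)ˣ) (hU : IsMulCommutative U) (hcard : Nat.card U = Fintype.card K - 1) :
    ∃ g : (Module.End F K)ˣ, U.map (MulAut.conj g).toMonoidHom = (Units.map ((Algebra.lmul F K : K →ₐ[F] Module.End F K) : K →* Module.End F K)).range := by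
  classical
  obtain ⟨p, hpc⟩ := CharP.exists F
  haveI : CharP F p := hpc
  haveI hpf : Fact p.Prime := ⟨CharP.char_is_prime F p⟩
  obtain ⟨ε, -, hε⟩ := FiniteField.card F p
  have h2q : 2 ≤ Fintype.card F := Fintype.one_lt_card
  obtain ⟨r, hr, hrd, hrmin⟩ := Recog.Zsigmondy.exists_primitive h2q hn (fun h => hex1 ⟨h.2, h.1⟩) (by
    rintro ⟨rfl, a, ha⟩
    refine hex2 ⟨rfl, ?_, a, ha⟩
    rw [hε] at ha ⊢
    obtain ⟨e, he⟩ : ∃ e : ℕ, (ε : ℕ) = e := ⟨_, rfl⟩
    rw [he] at ha ⊢
    have he0 : e ≠ 0 := fun h => ε.ne_zero (he.trans h)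
    have hp2 := hpf.out.two_le
    rcases hpf.out.eq_two_or_odd' with rfl | hodd
    · exfalso
      rcases a with _ | a
      · simp at ha
      · have h1 : 2 ∣ 2 ^ e + 1 := ⟨2 ^ a, by rw [ha]; ring⟩
        have h3 := (Nat.dvd_add_right (dvd_pow_self 2 he0)).1 h1
        omega
    rcases Nat.even_or_odd e with hev | hev
    · exfalso
      obtain ⟨k, rfl⟩ := hev
      have hk : (p ^ k) % 2 = 1 := Nat.odd_iff.1 hodd.pow
      have h4 : (p ^ (k + k) + 1) % 4 = 2 := by
        rw [pow_add, Nat.add_mod, Nat.mul_mod]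
        rcases (show p ^ k % 4 = 1 ∨ p ^ k % 4 = 3 by omega) with h | h <;> rw [h]
      rcases a with _ | _ | a
      · simp at ha; omega
      · have : 1 < p ^ (k + k) := Nat.one_lt_pow he0 (by omega)
        simp at ha; omega
      · rw [ha, show 2 ^ (a + 2) = 4 * 2 ^ a by ring, Nat.mul_mod_right] at h4
        exact absurd h4 (by norm_num)
    · have hs : ((p : ℤ) ^ e + 1) = (∑ i ∈ Finset.range e, (-(p : ℤ)) ^ i) * ((p : ℤ) + 1) := by
        have := geom_sum_mul (-(p : ℤ)) e
        rw [hev.neg_pow] at this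
        linear_combination this
      set w := ∑ i ∈ Finset.range e, (-(p : ℤ)) ^ i
      have hw : Odd w := by
        rw [← ZMod.intCast_eq_one_iff_odd]
        have hp1 : ((-(p : ℤ) : ℤ) : ZMod 2) = 1 := (ZMod.intCast_eq_one_iff_odd).2 (by simpa using hodd)
        rw [Int.cast_sum]
        simp only [Int.cast_pow, hp1, one_pow, Finset.sum_const, Finset.card_range, nsmul_eq_mul, mul_one]
        exact ZMod.natCast_eq_one_iff_odd.2 hev
      have hwd : w.natAbs ∣ 2 ^ a := by
        have : w ∣ ((2 ^ a : ℕ) : ℤ) := ⟨(p : ℤ) + 1, by rw [← hs, ← ha]; push_cast; ring⟩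
        simpa using Int.natAbs_dvd_natAbs.2 this
      obtain ⟨c, -, hc⟩ := (Nat.dvd_prime_pow Nat.prime_two).1 hwd
      have hc0 : c = 0 := by
        by_contra h
        exact (Nat.not_even_iff_odd.2 (Int.natAbs_odd.2 hw)) (hc ▸ Nat.even_pow.2 ⟨even_two, h⟩)
      rw [hc0, pow_zero] at hc
      have e1 : p ^ e = p := by
        have hpe : 0 < (p : ℤ) ^ e + 1 := by positivity
        rcases Int.natAbs_eq w with h | h <;> rw [hc, Nat.cast_one] at h <;> rw [h] at hs
        · rw [one_mul] at hs; exact_mod_cast (by linarith : (p : ℤ) ^ e = p)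
        · exfalso; linarith [show (0 : ℤ) ≤ p from Int.natCast_nonneg p]
      rw [e1]
      exact hpf.out)
  haveI : Fact r.Prime := ⟨hr⟩
  have hKc : Fintype.card K = Fintype.card F ^ n := by rw [Module.card_eq_pow_finrank (K := F) (V := K), hdim]
  have hr0 : (r : F) ≠ 0 := fun h => by
    have h1 : r = p := ((Nat.prime_dvd_prime_iff_eq hpf.out hr).1 ((CharP.cast_eq_zero_iff F p r).1 h)).symm
    have h2 : r ∣ Fintype.card F ^ n := (h1 ▸ hε ▸ dvd_pow_self p ε.ne_zero : r ∣ Fintype.card F).trans (dvd_pow_self _ (by omega))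
    have h3 : r ∣ 1 := by
      have := Nat.dvd_sub h2 hrd
      rwa [Nat.sub_sub_self (Nat.one_le_pow _ _ (by omega))] at this
    exact hr.not_dvd_one h3
  have hi : orderOf (Fintype.card F : ZMod r) = n := by
    have hcast : ∀ j : ℕ, r ∣ Fintype.card F ^ j - 1 ↔ (Fintype.card F : ZMod r) ^ j = 1 := fun j => by
      rw [← ZMod.natCast_eq_zero_iff, Nat.cast_sub (Nat.one_le_pow _ _ (by omega)), Nat.cast_pow, Nat.cast_one, sub_eq_zero]
    exact (orderOf_eq_iff (by omega)).2 ⟨(hcast n).1 hrd, fun j hj hj0 h => hrmin j hj0 hj ((hcast j).2 h)⟩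
  let b : Module.Basis (Fin n) F K := (Module.finBasisOfFinrankEq F K hdim)
  let φ : Module.End F K ≃ₐ[F] Matrix (Fin n) (Fin n) F := LinearMap.toMatrixAlgEquiv b
  let Φ : (Module.End F K)ˣ ≃* GL (Fin n) F := Units.mapEquiv φ.toMulEquiv
  haveI : Finite (Module.End F K) := Finite.of_equiv _ φ.symm.toEquiv
  haveI := Fintype.ofFinite U
  obtain ⟨x, hx⟩ := exists_prime_orderOf_dvd_card (G := U) r (by rw [← Nat.card_eq_fintype_card, hcard, hKc]; exact hrd)
  set X : GL (Fin n) F := Φ (x : (Module.End F K)ˣ)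
  have hXo : orderOf X = r := by rw [MulEquiv.orderOf_eq, Subgroup.orderOf_coe, hx]
  have hX1 : (X : Matrix (Fin n) (Fin n) F) ≠ 1 := fun e => by
    rw [Units.val_eq_one] at e
    rw [e, orderOf_one] at hXo
    exact hr.one_lt.ne hXo
  have hXr : (X : Matrix (Fin n) (Fin n) F) ^ r = 1 := by
    rw [← Units.val_pow_eq_pow_val, ← hXo, pow_orderOf_eq_one, Units.val_one]
  obtain ⟨hirr, hdeg⟩ := PPDCentralizer.minpoly_irreducible rfl (by omega) hr hr0 hi _ hX1 hXr
  set f := minpoly F (X : Matrix (Fin n) (Fin n) F)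
  have hfm : f.Monic := minpoly.monic (IsIntegral.of_finite F _)
  -- a root in `K`
  obtain ⟨z, hz⟩ : ∃ z : K, Polynomial.aeval z f = 0 := by
    obtain ⟨ζ, hζ⟩ := exists_prime_orderOf_dvd_card (G := Kˣ) r (by rw [Fintype.card_units, hKc]; exact hrd)
    have hprim : IsPrimitiveRoot (ζ : K) r := IsPrimitiveRoot.coe_units_iff.2 (hζ ▸ IsPrimitiveRoot.orderOf ζ)
    have hd : f.map (algebraMap F K) ∣ Polynomial.X ^ r - 1 := by
      have h : f ∣ Polynomial.X ^ r - 1 := minpoly.dvd F _ (by simp [hXr])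
      simpa using Polynomial.map_dvd (algebraMap F K) h
    have hne : (Polynomial.X ^ r - 1 : Polynomial K) ≠ 0 := by
      rw [← Polynomial.C_1]; exact Polynomial.X_pow_sub_C_ne_zero hr.pos 1
    obtain ⟨z, hz⟩ := (Polynomial.Splits.of_dvd (Polynomial.X_pow_sub_one_splits hprim) hne hd).exists_eval_eq_zero
      (by rw [Polynomial.degree_map]; exact (Polynomial.degree_pos_of_irreducible hirr).ne')
    exact ⟨z, by rwa [Polynomial.aeval_def, Polynomial.eval₂_eq_eval_map]⟩
  have hz0 : z ≠ 0 := fun e => by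
    have h : f ∣ Polynomial.X ^ r - 1 := minpoly.dvd F _ (by simp [hXr])
    have := Polynomial.aeval_eq_zero_of_dvd_aeval_eq_zero h hz
    simp [e, hr.ne_zero] at this
  let L : Kˣ →* GL (Fin n) F := Φ.toMonoidHom.comp (Units.map ((Algebra.lmul F K : K →ₐ[F] Module.End F K) : K →* Module.End F K))
  set Y : GL (Fin n) F := L (Units.mk0 z hz0)
  have hzf : minpoly F z = f := (minpoly.eq_of_irreducible_of_monic hirr hz hfm).symm
  have hYf : minpoly F (Y : Matrix (Fin n) (Fin n) F) = f := by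
    rw [← hzf]
    exact minpoly.algHom_eq ((φ.toAlgHom).comp (Algebra.lmul F K)) (φ.injective.comp Algebra.lmul_injective) z
  have hchar : ∀ M : Matrix (Fin n) (Fin n) F, minpoly F M = f → M.charpoly = f := fun M hM => by
    refine Polynomial.eq_of_monic_of_associated (Matrix.charpoly_monic M) hfm (Polynomial.associated_of_dvd_of_natDegree_le
      (hM ▸ Matrix.minpoly_dvd_charpoly M) (Matrix.charpoly_monic M).ne_zero ?_).symm
    rw [Matrix.charpoly_natDegree_eq_dim, Fintype.card_fin, hdeg]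
  have hYr : Y ^ r = 1 := by
    refine Units.ext ?_
    rw [Units.val_pow_eq_pow_val, Units.val_one, ← sub_eq_zero]
    have h : f ∣ Polynomial.X ^ r - 1 := minpoly.dvd F _ (by simp [hXr])
    have := Polynomial.aeval_eq_zero_of_dvd_aeval_eq_zero h (hYf ▸ minpoly.aeval F (Y : Matrix (Fin n) (Fin n) F))
    simpa using this
  have hconj : IsConj X Y := GLSemisimpleClasses.isConj_of_charpoly_eq (by rw [hXo]; exact hr0) (by
    rcases (Nat.dvd_prime hr).1 (orderOf_dvd_of_pow_eq_one hYr) with h | h <;> rw [h]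
    · rw [Nat.cast_one]; exact one_ne_zero
    · exact hr0) ((hchar _ rfl).trans (hchar _ hYf).symm)
  obtain ⟨g, hg⟩ := isConj_iff.1 hconj
  have hYc := (PPDCentralizer.centralizer_of_irreducible rfl (by omega) Y (hYf ▸ hirr) (hYf ▸ hdeg)).2
  set S := (Units.map ((Algebra.lmul F K : K →ₐ[F] Module.End F K) : K →* Module.End F K)).range
  refine ⟨Φ.symm g, Subgroup.map_injective (f := Φ.toMonoidHom) Φ.injective ?_⟩
  rw [Subgroup.map_map]
  set A := U.map (Φ.toMonoidHom.comp (MulAut.conj (Φ.symm g)).toMonoidHom)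
  set B := S.map Φ.toMonoidHom
  haveI : Finite (Subgroup.centralizer ({Y} : Set (GL (Fin n) F))) := Subtype.finite
  have hA : A = Subgroup.centralizer {Y} := by
    refine Subgroup.eq_of_le_of_card_ge ?_ (le_of_eq ?_)
    · rintro _ ⟨u, hu, rfl⟩
      rw [Subgroup.mem_centralizer_singleton_iff]
      show Φ (Φ.symm g * u * (Φ.symm g)⁻¹) * Y = Y * Φ (Φ.symm g * u * (Φ.symm g)⁻¹)
      have hc : (x : (Module.End F K)ˣ) * u = u * x := congrArg Subtype.val (hU.is_comm.comm x ⟨u, hu⟩)
      rw [map_mul, map_mul, map_inv, Φ.apply_symm_apply, ← hg]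
      simp only [mul_assoc, inv_mul_cancel_left]
      rw [← mul_assoc (Φ u), ← mul_assoc X, ← map_mul, ← map_mul, hc]
    · rw [hYc, Subgroup.card_map_of_injective (Φ.injective.comp (MulAut.conj _).injective), hcard, hKc]
  have hB : B = Subgroup.centralizer {Y} := by
    refine Subgroup.eq_of_le_of_card_ge ?_ (le_of_eq ?_)
    · rintro _ ⟨_, ⟨u, rfl⟩, rfl⟩
      rw [Subgroup.mem_centralizer_singleton_iff]
      show L u * L _ = L _ * L u
      rw [← map_mul, ← map_mul, mul_comm]
    · rw [hYc, show Nat.card B = Nat.card S from Subgroup.card_map_of_injective Φ.injective,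
        show S = (⊤ : Subgroup Kˣ).map _ from MonoidHom.range_eq_map _]
      refine Eq.trans ?_ (Subgroup.card_map_of_injective (Units.map_injective ?_)).symm
      · rw [Subgroup.card_top, Nat.card_units, Nat.card_eq_fintype_card, hKc]
      · exact Algebra.lmul_injective
  rw [hA, hB]

end Cfsg.Agent.S5947
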