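import Cfsg.Statements.S5956
import Cfsg.Agent.Lib.Classical.SympNondegUnipotent

set_option autoImplicit false
open scoped MatrixGroups
open Cfsg

namespace Cfsg.Agent.S5956

/-- Elements of prime order of PSp_n(q) with no fixed nondegenerate `m`-space. Here `T = PSp_n(q)` with `n = 2d ≥ 4`, `(n, q) ≠ (4, 2)`, realised through the symplectic matrices over the field `F` with `q` elements (preserving the standard alternating form); an element of `T` of prime order `r` is such a matrix `x` with `x^r` scalar and `x` not scalar. For `r ≠ p` let `i` be the multiplicative order of `q` modulo `r`, `c = i` for `i` even and `c = 2i` for `i` odd, and write `k = n mod c`, `ℓ = m mod i`, `ℓ' = m mod c`, `n' = ⌊n/i⌋`, `m' = ⌊m/i⌋`, `t = (r−1)/i`. Let `m` be even with `2 ≤ m < n/2` and let `r` be a prime dividing the number of nondegenerate `m`-spaces. Then every element of `T` of order `r` fixes a nondegenerate `m`-space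 if and only if one of: (i) `r = p > 2` and every partition of `n` into parts of size at most `p` in which every odd part has even multiplicity contains (as a sub-multiset) a partition of `m` in which every odd part has even multiplicity; (ii) `r = p = 2` and (`n ≡ 2 (mod 4)` or `m ≡ 0 (mod 4)`); (iii) `r = 2 ≠ p`; (iv) `r ≠ p`, `r > 2`, `c ≤ m` and `k ≥ ℓ'`. -/
theorem result {F : Type*} [Field F] [Fintype F] {p : ℕ} [Fact p.Prime] [CharP F p] {q : ℕ} (hq : Fintype.card F = q)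
    (d m : ℕ) (hd : 2 ≤ d) (hT : (d, q) ≠ (2, 2)) (hm : 2 ≤ m) (hme : Even m) (hmd : m < d)
    (r : ℕ) [Fact r.Prime]
    (hrΩ : r ∣ Nat.card {W : Submodule F (Fin d ⊕ Fin d → F) // Module.finrank F ↥W = m ∧ (∀ u ∈ W, u ≠ 0 → ∃ v ∈ W, Cfsg.sympForm d F u v ≠ 0)})
    (i c : ℕ) (hi : i = orderOf (q : ZMod r)) (hc : c = if Even i then i else 2 * i) :
    (∀ x : ↥(Matrix.symplecticGroup (Fin d) F),
      (∃ z : F, ((x ^ r : ↥(Matrix.symplecticGroup (Fin d) F)) : Matrix (Fin d ⊕ Fin d) (Fin d ⊕ Fin d) F) = z • (1 : Matrix (Fin d ⊕ Fin d) (Fin d ⊕ Fin d) F)) →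
      (∀ z : F, (x : Matrix (Fin d ⊕ Fin d) (Fin d ⊕ Fin d) F) ≠ z • (1 : Matrix (Fin d ⊕ Fin d) (Fin d ⊕ Fin d) F)) →
      ∃ W : Submodule F (Fin d ⊕ Fin d → F), Module.finrank F ↥W = m ∧ (∀ u ∈ W, u ≠ 0 → ∃ v ∈ W, Cfsg.sympForm d F u v ≠ 0) ∧
        W.map (Matrix.toLin' (x : Matrix (Fin d ⊕ Fin d) (Fin d ⊕ Fin d) F)) ≤ W) ↔
    ((r = p ∧ 2 < p ∧ (∀ μ : Multiset ℕ, (∀ a ∈ μ, 0 < a ∧ a ≤ p) → (∀ a : ℕ, Odd a → Even (μ.count a)) → μ.sum = 2 * d →
        ∃ ν : Multiset ℕ, ν ≤ μ ∧ ν.sum = m ∧ ∀ a : ℕ, Odd a → Even (ν.count a))) ∨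
     (r = p ∧ p = 2 ∧ ((2 * d) % 4 = 2 ∨ m % 4 = 0)) ∨
     (r = 2 ∧ p ≠ 2) ∨
     (r ≠ p ∧ 2 < r ∧ c ≤ m ∧ m % c ≤ (2 * d) % c)) := by
  classical
  have hr : r.Prime := Fact.out
  obtain ⟨M, rfl⟩ := hme
  rw [← two_mul] at hm hmd hrΩ ⊢
  have hN : ∀ W : Submodule F (Fin d ⊕ Fin d → F),
      (∀ u ∈ W, u ≠ 0 → ∃ v ∈ W, sympForm d F u v ≠ 0) ↔ SympNondegDecomp.Nd (Classical.sympB d F) W := fun W => by
    simp [SympNondegDecomp.Nd, Classical.sympB_apply]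
  have hP : (∀ x : ↥(Matrix.symplecticGroup (Fin d) F),
      (∃ z : F, ((x ^ r : ↥(Matrix.symplecticGroup (Fin d) F)) : Matrix (Fin d ⊕ Fin d) (Fin d ⊕ Fin d) F) = z • (1 : Matrix (Fin d ⊕ Fin d) (Fin d ⊕ Fin d) F)) →
      (∀ z : F, (x : Matrix (Fin d ⊕ Fin d) (Fin d ⊕ Fin d) F) ≠ z • (1 : Matrix (Fin d ⊕ Fin d) (Fin d ⊕ Fin d) F)) →
      ∃ W : Submodule F (Fin d ⊕ Fin d → F), Module.finrank F ↥W = 2 * M ∧ (∀ u ∈ W, u ≠ 0 → ∃ v ∈ W, sympForm d F u v ≠ 0) ∧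
        W.map (Matrix.toLin' (x : Matrix (Fin d ⊕ Fin d) (Fin d ⊕ Fin d) F)) ≤ W) ↔
      SympNondegUnipotent.FixesNd r d (2 * M) F := by
    simp only [hN, SubmonoidClass.coe_pow, Submodule.map_le_iff_le_comap]
    exact Iff.rfl
  rw [hP]
  simp only [hN] at hrΩ
  have hd1 : 1 ≤ d := by omega
  rcases eq_or_ne r p with rfl | hrp
  · rcases eq_or_ne r 2 with rfl | hr2
    · rw [SympNondegUnipotent.two_iff (d := d) hd1 (even_two_mul M) (by omega)]
      simp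
    · have hr3 : 2 < r := lt_of_le_of_ne hr.two_le (Ne.symm hr2)
      rw [SympNondegUnipotent.odd_iff (d := d) r hr3 hd1 (even_two_mul M) (by omega)]
      simp [hr2, hr3]
  rcases eq_or_ne r 2 with rfl | hr2
  · have h2 : (2 : F) ≠ 0 := fun h => hrp (by
      have h' : ((2 : ℕ) : F) = 0 := by exact_mod_cast h
      exact ((Nat.prime_dvd_prime_iff_eq (Fact.out : p.Prime) Nat.prime_two).1 ((CharP.cast_eq_zero_iff F p 2).1 h')).symm)
    exact iff_of_true (SympNondegUnipotent.fixes_two h2 hd1 (even_two_mul M) (by omega)) (Or.inr (Or.inr (Or.inl ⟨rfl, hrp.symm⟩)))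
  have hr3 : 2 < r := lt_of_le_of_ne hr.two_le (Ne.symm hr2)
  have hrq : ¬ r ∣ Fintype.card F := by
    intro h
    obtain ⟨e, -, he⟩ := FiniteField.card F p
    rw [he] at h
    exact hrp ((Nat.prime_dvd_prime_iff_eq hr Fact.out).1 (hr.dvd_of_dvd_pow h))
  have hqr : (q : ZMod r) ≠ 0 := fun h => hrq (by rwa [hq, ← ZMod.natCast_eq_zero_iff])
  have hr0 : (r : F) ≠ 0 := fun e =>
    hrp ((Nat.prime_dvd_prime_iff_eq (Fact.out : p.Prime) hr).1 ((CharP.cast_eq_zero_iff F p r).1 e)).symm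
  have h : SelfReciprocalFactors.Ctx F r i ((r - 1) / i) :=
    ⟨hr, hr2, hr0, by rw [hq, hi], Nat.div_mul_cancel (hi ▸ ZMod.orderOf_dvd_card_sub_one hqr)⟩
  obtain ⟨b, rfl⟩ : ∃ b, d = M + b := ⟨d - M, by omega⟩
  obtain ⟨hsm, -⟩ := SympNondegDerange.small h hrq hrΩ
  rw [SympNondegUnipotent.FixesNd, SympNondegDerange.criterion h hrp hd1 hrq hrΩ]
  have hcc : c = SelfReciprocalFactors.basicDeg i := hc
  subst hcc
  simp only [hr2, hrp, hr3, false_and, false_or, ne_eq, not_false_iff, true_and]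
  refine ⟨fun hle => ⟨?_, hle⟩, fun h' => h'.2⟩
  by_contra hlt
  rw [Nat.mod_eq_of_lt (by omega : 2 * M < SelfReciprocalFactors.basicDeg i)] at hle
  omega

end Cfsg.Agent.S5956
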