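import Cfsg.Statements.S5958
import Cfsg.Agent.Lib.Classical.LinearDecompDerange
-- import your own Cfsg.Agent.* helpers here

set_option autoImplicit false
open scoped MatrixGroups
open Cfsg

namespace Cfsg.Agent.S5958

/-- Elements of odd prime order of PSL_n(q) and imprimitive subgroups. Here `T = PSL_n(F)` for a field `F` with `q = p^f` elements (`n ≥ 2`, `(n, q) ≠ (2, 2), (2, 3)`), `n = a·t` with `t ≥ 2`, and Ω is the set of direct-sum decompositions of `F^n` into `t` subspaces of dimension `a` (unordered; their number is the number of ordered ones divided by `t!`), whose stabilizers are the imprimitive subgroups of type GL_a(q) ≀ S_t (maximal except in some small cases; maximality is not assumed); an element of `T` of prime order `r` (a matrix `x` of determinant 1 with `x^r` scalar, `x` not scalar) fixes a point of Ω when it permutes the summands of some such decomposition. Let `r ≠ p` be an odd prime dividing the number of such decompositions, let `c` be the multiplicative order of `q` modulo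 `r`, and write `k = n mod c`, `ℓ = a mod c`. Then every element of `T` of order `r` stabilizes such a decomposition if and only if either `a = 1`, `c = r − 1 > 1` and `n ≤ k·r`, or `c ≤ a` and `k = t·ℓ`. -/
theorem result {F : Type*} [Field F] [Fintype F] {p : ℕ} [Fact p.Prime] [CharP F p] {q : ℕ} (hq : Fintype.card F = q)
    (n a t : ℕ) (hn : 2 ≤ n) (hT : (n, q) ≠ (2, 2) ∧ (n, q) ≠ (2, 3)) (hat : n = a * t) (ha : 1 ≤ a) (ht : 2 ≤ t)
    (r : ℕ) [Fact r.Prime] (hr2 : r ≠ 2) (hrp : r ≠ p) (hΩ : r ∣ Nat.card {D : Fin t → Submodule F (Fin n → F) // Cfsg.Geo.IsMDecomposition a D} / Nat.factorial t)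
    (c : ℕ) (hc : c = orderOf (q : ZMod r)) :
    (∀ x : Matrix.SpecialLinearGroup (Fin n) F,
      (∃ z : F, ((x ^ r : Matrix.SpecialLinearGroup (Fin n) F) : Matrix (Fin n) (Fin n) F) = z • (1 : Matrix (Fin n) (Fin n) F)) →
      (∀ z : F, (x : Matrix (Fin n) (Fin n) F) ≠ z • (1 : Matrix (Fin n) (Fin n) F)) →
      ∃ D : Fin t → Submodule F (Fin n → F), Cfsg.Geo.IsMDecomposition a D ∧
        ∃ σ : Equiv.Perm (Fin t), ∀ j, (D j).map (Matrix.toLin' (x : Matrix (Fin n) (Fin n) F)) = D (σ j)) ↔
    ((a = 1 ∧ 1 < c ∧ c = r - 1 ∧ n ≤ (n % c) * r) ∨ (c ≤ a ∧ n % c = t * (a % c))) := by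
  classical
  have hr : r.Prime := Fact.out
  have hD : ∀ D : Fin t → Submodule F (Fin n → F),
      Geo.IsMDecomposition a D ↔ LinearDecompModels.IsDec a D := fun D =>
    ⟨fun h => ⟨h.finrank_eq, h.iSup_eq_top⟩, fun h => ⟨ht, by omega, h.1,
      LinearDecompDerange.indep h (by rw [Module.finrank_fin_fun, hat]), h.2⟩⟩
  simp only [hD] at hΩ ⊢
  simp only [Matrix.SpecialLinearGroup.coe_pow]
  have hrq : ¬ r ∣ q := by
    intro h
    obtain ⟨e, -, he⟩ := FiniteField.card F p
    rw [← hq, he] at h
    exact hrp ((Nat.prime_dvd_prime_iff_eq hr Fact.out).1 (hr.dvd_of_dvd_pow h))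
  have hcn : c ≤ n := hc ▸ LinearDecompDerange.le_of_dvd hq hr hrq
    (LinearDecompDerange.dvd_card_group hat (by omega) hr hΩ)
  have hc0 : 1 ≤ c := by
    rw [hc]
    exact orderOf_pos_iff.2 (isOfFinOrder_iff_pow_eq_one.2 ⟨r - 1, by have := hr.two_le; omega,
      ZMod.pow_card_sub_one_eq_one fun h => hrq ((ZMod.natCast_eq_zero_iff q r).1 h)⟩)
  refine ⟨fun H => ?_, fun hC x hx _ => ?_⟩
  · by_contra hC
    have hc2 : 2 ≤ c := by
      by_contra hlt
      obtain rfl : c = 1 := by omega
      exact hC (Or.inr ⟨ha, by simp [Nat.mod_one]⟩)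
    obtain ⟨x, hx, hns, hno⟩ := LinearDecompDerange.exists_bad (p := p) hrp hq hat ha hc hcn hc2 hC
    exact hno (H x ⟨1, by rw [hx, one_smul]⟩ hns)
  · obtain ⟨z, hz⟩ := hx
    exact LinearDecompDerange.exists_fixed (p := p) hrp hq (by omega) hat hc hc0 hC x hz

end Cfsg.Agent.S5958
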