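import Cfsg.Statements.S5959
import Cfsg.Agent.Lib.Classical.GLUnipotentTypes
-- import your own Cfsg.Agent.* helpers here

set_option autoImplicit false
open scoped MatrixGroups
open Cfsg Cfsg.Agent

namespace Cfsg.Agent.S5959

open Matrix

theorem geom_sum_char {F : Type*} [Field F] {p : ℕ} [Fact p.Prime] [CharP F p] :
    ((Polynomial.X : Polynomial F) - 1) ^ (p - 1) = ∑ i ∈ Finset.range p, (Polynomial.X : Polynomial F) ^ i := by
  refine mul_right_cancel₀ (Polynomial.X_sub_C_ne_zero (1 : F)) ?_
  rw [map_one, ← pow_succ, Nat.sub_add_cancel (Fact.out : p.Prime).one_le, geom_sum_mul, sub_pow_char, one_pow]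

theorem invariant_parts {F V : Type*} [Field F] [AddCommGroup V] [Module F V] [FiniteDimensional F V] {N : Module.End F V}
    (hN : IsNilpotent N) {U W : Submodule F V} (hc : IsCompl U W) (hU : ∀ x ∈ U, N x ∈ U) (hW : ∀ x ∈ W, N x ∈ W) :
    ∃ ν, ν ≤ JordanChains.parts N ∧ ν.sum = Module.finrank F U := by
  have hres : ∀ (S : Submodule F V) (hS : ∀ x ∈ S, N x ∈ S) (j : ℕ) (x : S),
      ((N.restrict hS ^ j) x : V) = (N ^ j) (x : V) := by
    intro S hS j
    induction j with
    | zero => intro x; rfl
    | succ j ihj => intro x; rw [JordanChains.pow_succ_apply, JordanChains.pow_succ_apply, ← ihj]; rfl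
  have hn : ∀ (S : Submodule F V) (hS : ∀ x ∈ S, N x ∈ S), IsNilpotent (N.restrict hS) := fun S hS => by
    obtain ⟨e, he⟩ := hN
    exact ⟨e, LinearMap.ext fun x => Subtype.ext (by rw [hres, he]; rfl)⟩
  obtain ⟨s, k, v, h⟩ := JordanChains.exists_chains (hn U hU)
  obtain ⟨s', k', v', h'⟩ := JordanChains.exists_chains (hn W hW)
  let K : Fin (s + s') → ℕ := Fin.append k k'
  let X : Fin (s + s') → V := Fin.append (fun i => (v i : V)) (fun i => (v' i : V))
  have hspan : ⊤ ≤ Submodule.span F (Set.range (JordanChains.chainVec N K X)) := by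
    rw [← hc.sup_eq_top, sup_le_iff]
    constructor
    · have := congrArg (Submodule.map U.subtype) (top_le_iff.1 h.2.2.2)
      rw [Submodule.map_span, Submodule.map_top, Submodule.range_subtype] at this
      conv_lhs => rw [← this]
      refine Submodule.span_mono ?_
      rintro _ ⟨_, ⟨⟨i, j⟩, rfl⟩, rfl⟩
      refine ⟨⟨Fin.castAdd s' i, ⟨j, by simp [K]⟩⟩, ?_⟩
      show (N ^ (j : ℕ)) (X _) = ((N.restrict hU ^ (j : ℕ)) (v i) : V)
      rw [hres]; simp [X]
    · have := congrArg (Submodule.map W.subtype) (top_le_iff.1 h'.2.2.2)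
      rw [Submodule.map_span, Submodule.map_top, Submodule.range_subtype] at this
      conv_lhs => rw [← this]
      refine Submodule.span_mono ?_
      rintro _ ⟨_, ⟨⟨i, j⟩, rfl⟩, rfl⟩
      refine ⟨⟨Fin.natAdd s i, ⟨j, by simp [K]⟩⟩, ?_⟩
      show (N ^ (j : ℕ)) (X _) = ((N.restrict hW ^ (j : ℕ)) (v' i) : V)
      rw [hres]; simp [X]
  have hch : JordanChains.IsChains N K X := by
    refine ⟨fun i => ?_, fun i => ?_, linearIndependent_of_top_le_span_of_card_eq_finrank hspan ?_, hspan⟩
    · refine Fin.addCases (fun i => ?_) (fun i => ?_) i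
      · simpa [K] using h.1 i
      · simpa [K] using h'.1 i
    · refine Fin.addCases (fun i => ?_) (fun i => ?_) i
      · simp only [K, X, Fin.append_left]; rw [← hres U hU, h.2.1]; rfl
      · simp only [K, X, Fin.append_right]; rw [← hres W hW, h'.2.1]; rfl
    · rw [← Submodule.finrank_add_eq_of_isCompl hc, h.finrank_eq, h'.finrank_eq, Fintype.card_sigma]
      simp [K, Fin.sum_univ_add]
  refine ⟨Finset.univ.val.map k, ?_, ?_⟩
  · rw [hch.parts_eq, Multiset.le_iff_count]
    intro a
    rw [Multiset.count_map, Multiset.count_map, ← Finset.filter_val, ← Finset.filter_val, Finset.card_val,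
      Finset.card_val]
    refine Finset.card_le_card_of_injOn (Fin.castAdd s') (fun i hi => ?_) (fun i _ j _ e => Fin.castAdd_injective _ _ e)
    simpa [K] using hi
  · rw [h.finrank_eq]; rfl


/-- Elements of order `p` of PSL_n(q) and imprimitive subgroups: a necessary condition. Here `T = PSL_n(F)` for a field `F` with `q = p^f` elements (`n ≥ 2`, `(n, q) ≠ (2, 2), (2, 3)`), `n = a·t` with `t ≥ 2`, and Ω is the set of direct-sum decompositions of `F^n` into `t` subspaces of dimension `a` (unordered; their number is the number of ordered ones divided by `t!`), whose stabilizers are the imprimitive subgroups of type GL_a(q) ≀ S_t (maximal except in some small cases; maximality is not assumed); an element of `T` of prime order `r` (a matrix `x` of determinant 1 with `x^r` scalar, `x` not scalar) fixes a point of Ω when it permutes the summands of some such decomposition. Suppose `p > 2` divides the number of such decompositions. If every element of `T` of order `p` stabilizes such a decomposition, then every partition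 of `n` into parts of size at most `p` in which the part `p` occurs fewer than `a` times contains (as a sub-multiset) a partition of `a`. -/
theorem result {F : Type*} [Field F] [Fintype F] {p : ℕ} [Fact p.Prime] [CharP F p] {q : ℕ} (hq : Fintype.card F = q)
    (n a t : ℕ) (hn : 2 ≤ n) (hT : (n, q) ≠ (2, 2) ∧ (n, q) ≠ (2, 3)) (hat : n = a * t) (ha : 1 ≤ a) (ht : 2 ≤ t)
    (hp : 2 < p) (hΩ : p ∣ Nat.card {D : Fin t → Submodule F (Fin n → F) // Cfsg.Geo.IsMDecomposition a D} / Nat.factorial t)
    (h : ∀ x : Matrix.SpecialLinearGroup (Fin n) F,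
      (∃ z : F, ((x ^ p : Matrix.SpecialLinearGroup (Fin n) F) : Matrix (Fin n) (Fin n) F) = z • (1 : Matrix (Fin n) (Fin n) F)) →
      (∀ z : F, (x : Matrix (Fin n) (Fin n) F) ≠ z • (1 : Matrix (Fin n) (Fin n) F)) →
      ∃ D : Fin t → Submodule F (Fin n → F), Cfsg.Geo.IsMDecomposition a D ∧
        ∃ σ : Equiv.Perm (Fin t), ∀ j, (D j).map (Matrix.toLin' (x : Matrix (Fin n) (Fin n) F)) = D (σ j)) :
    (∀ μ : Multiset ℕ, (∀ b ∈ μ, 0 < b ∧ b ≤ p) → μ.sum = n → μ.count p < a → ∃ ν : Multiset ℕ, ν ≤ μ ∧ ν.sum = a) := by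
  intro μ hμ hsum hcount
  by_cases hone : ∀ b ∈ μ, b = 1
  · refine ⟨Multiset.replicate a 1, ?_, by simp⟩
    rw [Multiset.eq_replicate_card.2 hone] at hsum ⊢
    rw [Multiset.sum_replicate, smul_eq_mul, mul_one] at hsum
    rw [hsum, Multiset.le_iff_count]
    intro b
    rw [Multiset.count_replicate, Multiset.count_replicate]
    split_ifs <;> nlinarith
  obtain ⟨M, hM, hparts⟩ := GLUnipotentTypes.exists_mparts (F := F) (ι := Fin n) μ (fun b hb => (hμ b hb).1)
    (by rw [hsum, Fintype.card_fin])
  have hMp : M ^ p = 0 := (GLUnipotentTypes.pow_eq_zero_iff hM p).2 (hparts ▸ fun b hb => (hμ b hb).2)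
  haveI : Nonempty (Fin n) := ⟨⟨0, by omega⟩⟩
  have hpow : (1 + M) ^ p = 1 := by
    rw [add_pow_char_of_commute p (Commute.one_left M), one_pow, hMp, add_zero]
  have hdet : (1 + M).det = 1 := by
    have h1 := congrArg Matrix.det hpow
    rw [Matrix.det_pow, Matrix.det_one, ← one_pow (M := F) p] at h1
    exact frobenius_inj F p h1
  obtain ⟨D, hD, σ, hσ⟩ := h ⟨1 + M, hdet⟩ ⟨1, by
      show (1 + M) ^ p = (1 : F) • (1 : Matrix (Fin n) (Fin n) F)
      rw [one_smul]; exact hpow⟩
    fun z hz => hone (by
      have hMz : M = (z - 1) • (1 : Matrix (Fin n) (Fin n) F) := by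
        rw [sub_smul, one_smul, ← hz]; simp
      have hz1 : z - 1 = 0 := by
        by_contra hne
        rw [hMz, smul_pow, one_pow] at hMp
        exact pow_ne_zero p hne ((smul_eq_zero.1 hMp).resolve_right one_ne_zero)
      rw [hz1, zero_smul] at hMz
      exact hparts ▸ (GLUnipotentTypes.eq_zero_iff hM).1 hMz)
  set g : Module.End F (Fin n → F) := Matrix.toLinAlgEquiv' (1 + M)
  have hσ' : ∀ j, (D j).map g = D (σ j) := hσ
  set N : Module.End F (Fin n → F) := Matrix.toLinAlgEquiv' M
  have hgN : g = 1 + N := by rw [show g = Matrix.toLinAlgEquiv' (1 + M) from rfl, map_add, map_one]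
  have hN : IsNilpotent N := GLUnipotentTypes.nil_end hM
  have hpN : JordanChains.parts N = μ := hparts
  have hgp : g ^ p = 1 := by rw [← map_pow, hpow, map_one]
  have hiter : ∀ (i : ℕ) (j : Fin t), (D j).map (g ^ i) = D ((σ ^ i) j) := by
    intro i
    induction i with
    | zero => intro j; rw [pow_zero, pow_zero]; exact Submodule.map_id _
    | succ i ih =>
      intro j
      rw [pow_succ', pow_succ', Equiv.Perm.mul_apply, ← hσ', ← ih]
      exact Submodule.map_comp _ _ _
  by_cases hfix : ∀ j, σ j = j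
  · have hinv : ∀ j, ∀ x ∈ D j, N x ∈ D j := fun j x hx => by
      have hx' : g x ∈ D j := by
        have := Submodule.mem_map_of_mem (f := g) hx
        rwa [hσ', hfix] at this
      rw [show N x = g x - x by rw [hgN]; simp]
      exact (D j).sub_mem hx' hx
    let j₀ : Fin t := ⟨0, by omega⟩
    set W : Submodule F (Fin n → F) := ⨆ (k : Fin t) (_ : k ≠ j₀), D k
    have hc : IsCompl (D j₀) W := by
      refine ⟨hD.indep j₀, ?_⟩
      rw [codisjoint_iff, eq_top_iff, ← hD.iSup_eq_top]
      refine iSup_le fun k => ?_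
      by_cases hk : k = j₀
      · exact hk ▸ le_sup_left
      · exact le_sup_of_le_right (le_iSup₂_of_le k hk le_rfl)
    obtain ⟨ν, hν, hν'⟩ := invariant_parts hN hc (hinv j₀) fun x hx => by
      have h1 : W.map N ≤ W := by
        rw [Submodule.map_iSup]
        refine iSup_le fun k => ?_
        rw [Submodule.map_iSup]
        refine iSup_le fun hk => ?_
        exact (Submodule.map_le_iff_le_comap.2 (hinv k)).trans (le_iSup₂_of_le k hk le_rfl)
      exact h1 (Submodule.mem_map_of_mem hx)
    exact ⟨ν, hpN ▸ hν, hν'.trans (hD.finrank_eq j₀)⟩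
  exfalso
  push Not at hfix
  obtain ⟨j, hj⟩ := hfix
  have hσp : (σ ^ p) j = j := by
    by_contra hne
    have h1 : D ((σ ^ p) j) = D j := by rw [← hiter, hgp]; exact Submodule.map_id _
    have h2 := (hD.indep.pairwiseDisjoint (Ne.symm hne)).eq_bot_of_le h1.ge
    have h3 := hD.finrank_eq j
    rw [h2, finrank_bot] at h3
    omega
  have hper : Function.minimalPeriod σ j = p := by
    refine Function.minimalPeriod_eq_prime ?_ hj
    show σ^[p] j = j
    rwa [← Equiv.Perm.coe_pow]
  have hinj : Function.Injective ((N ^ (p - 1)).domRestrict (D j)) := by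
    rw [← LinearMap.ker_eq_bot, LinearMap.ker_eq_bot']
    rintro ⟨u, hu⟩ hu0
    change (N ^ (p - 1)) u = 0 at hu0
    have hgeom : (N ^ (p - 1)) u = ∑ i ∈ Finset.range p, (g ^ i) u := by
      have h1 := congrArg (Polynomial.aeval g) (geom_sum_char (F := F) (p := p))
      simp only [map_pow, map_sub, map_one, map_sum, Polynomial.aeval_X] at h1
      rw [hgN, add_sub_cancel_left] at h1
      rw [h1, hgN, LinearMap.sum_apply]
    rw [hgeom, Finset.range_eq_Ico, Finset.sum_eq_sum_Ico_succ_bot (Fact.out : p.Prime).pos, pow_zero] at hu0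
    have hrest : ∑ i ∈ Finset.Ico 1 p, (g ^ i) u ∈ ⨆ (k : Fin t) (_ : k ≠ j), D k := by
      refine Submodule.sum_mem _ fun i hi => ?_
      rw [Finset.mem_Ico] at hi
      have hne : (σ ^ i) j ≠ j := fun e => by
        have : Function.minimalPeriod σ j ∣ i := Function.IsPeriodicPt.minimalPeriod_dvd (by
          show σ^[i] j = j
          rwa [← Equiv.Perm.coe_pow])
        rw [hper] at this
        exact absurd (Nat.le_of_dvd (by omega) this) (by omega)
      exact (le_iSup₂_of_le _ hne le_rfl : D ((σ ^ i) j) ≤ ⨆ (k : Fin t) (_ : k ≠ j), D k)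
        (hiter i j ▸ Submodule.mem_map_of_mem hu)
    have hneg : u = -∑ i ∈ Finset.Ico 1 p, (g ^ i) u := eq_neg_of_add_eq_zero_left hu0
    exact Subtype.ext (Submodule.disjoint_def.1 (hD.indep j) u hu (hneg.symm ▸ Submodule.neg_mem _ hrest))
  have hle : a ≤ Module.finrank F (LinearMap.range (N ^ (p - 1))) := by
    rw [← hD.finrank_eq j, ← LinearMap.finrank_range_of_inj hinj]
    refine Submodule.finrank_mono ?_
    rintro _ ⟨x, rfl⟩
    exact LinearMap.mem_range_self _ (x : Fin n → F)
  rw [JordanChains.finrank_range_eq hN, hpN] at hle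
  have hcnt : ∀ m : Multiset ℕ, (∀ b ∈ m, b ≤ p) → (m.map fun b => b - (p - 1)).sum = m.count p := by
    intro m
    induction m using Multiset.induction with
    | empty => simp
    | cons b m ih =>
      intro hb
      rw [Multiset.map_cons, Multiset.sum_cons, Multiset.count_cons,
        ih fun c hc => hb c (Multiset.mem_cons_of_mem hc)]
      have := hb b (Multiset.mem_cons_self b m)
      split_ifs <;> omega
  rw [hcnt μ fun b hb => (hμ b hb).2] at hle
  omega

end Cfsg.Agent.S5959
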