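import Cfsg.Statements.S5960
import Cfsg.Agent.Lib.Classical.SympInvolutionFrame
-- import your own Cfsg.Agent.* helpers here

set_option autoImplicit false
open scoped MatrixGroups
open Cfsg Cfsg.Agent

namespace Cfsg.Agent.S5960

open Matrix SympInvolutionFrame


/-- Involutions of PSp_n(q) and imprimitive subgroups. Here `T = PSp_n(q)`, `n = 2d ≥ 4`, `(n, q) ≠ (4, 2)`, realised through the symplectic matrices over the field `F` with `q` elements and the standard alternating form; `n = a·t` with `a` even and `t ≥ 2`, and Ω is the (nonempty) set of orthogonal decompositions of `F^n` into `t` nondegenerate subspaces of dimension `a` (unordered; counted as ordered ones divided by `t!`), whose stabilizers are the imprimitive subgroups of type Sp_a(q) ≀ S_t (maximality is not assumed); an element of `T` of prime order `r` (a symplectic matrix `x` with `x^r` scalar, `x` not scalar) fixes a point of Ω when it permutes the summands of some such decomposition. If the number of such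 decompositions is even, then every involution of `T` stabilizes one of them (the action is 2-elusive). -/
theorem result {F : Type*} [Field F] [Fintype F] {p : ℕ} [Fact p.Prime] [CharP F p] {q : ℕ} (hq : Fintype.card F = q)
    (d : ℕ) (hd : 2 ≤ d) (hT : (d, q) ≠ (2, 2))
    (a t : ℕ) (hat : 2 * d = a * t) (ha : 2 ≤ a) (hae : Even a) (ht : 2 ≤ t) (hΩ : 2 ∣ Nat.card {D : Fin t → Submodule F (Fin d ⊕ Fin d → F) // (Cfsg.Geo.IsMDecomposition a D ∧ (∀ j, ∀ u ∈ D j, u ≠ 0 → ∃ v ∈ D j, Cfsg.sympForm d F u v ≠ 0) ∧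
          (∀ j j', j ≠ j' → ∀ u ∈ D j, ∀ v ∈ D j', Cfsg.sympForm d F u v = 0))} / Nat.factorial t)
    (x : ↥(Matrix.symplecticGroup (Fin d) F))
    (hx1 : ∃ z : F, ((x ^ 2 : ↥(Matrix.symplecticGroup (Fin d) F)) : Matrix (Fin d ⊕ Fin d) (Fin d ⊕ Fin d) F) = z • (1 : Matrix (Fin d ⊕ Fin d) (Fin d ⊕ Fin d) F))
    (hx2 : ∀ z : F, (x : Matrix (Fin d ⊕ Fin d) (Fin d ⊕ Fin d) F) ≠ z • (1 : Matrix (Fin d ⊕ Fin d) (Fin d ⊕ Fin d) F)) :
    ∃ D : Fin t → Submodule F (Fin d ⊕ Fin d → F), (Cfsg.Geo.IsMDecomposition a D ∧ (∀ j, ∀ u ∈ D j, u ≠ 0 → ∃ v ∈ D j, Cfsg.sympForm d F u v ≠ 0) ∧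
          (∀ j j', j ≠ j' → ∀ u ∈ D j, ∀ v ∈ D j', Cfsg.sympForm d F u v = 0)) ∧
        ∃ σ : Equiv.Perm (Fin t), ∀ j, (D j).map (Matrix.toLin' (x : Matrix (Fin d ⊕ Fin d) (Fin d ⊕ Fin d) F)) = D (σ j) := by
  obtain ⟨z, hz⟩ := hx1
  set g := Matrix.toLin' (x : Matrix (Fin d ⊕ Fin d) (Fin d ⊕ Fin d) F) with hgdef
  have hB : (Classical.sympB d F).IsAlt := fun u => by rw [Classical.sympB_apply, Classical.sympForm_self]
  have hg2 : ∀ v, g (g v) = z • v := fun v => by
    show (x : Matrix (Fin d ⊕ Fin d) (Fin d ⊕ Fin d) F) *ᵥ ((x : Matrix (Fin d ⊕ Fin d) (Fin d ⊕ Fin d) F) *ᵥ v) = _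
    rw [Matrix.mulVec_mulVec, ← pow_two, ← SubmonoidClass.coe_pow, hz, Matrix.smul_mulVec, Matrix.one_mulVec]
  have hg : ∀ u v, Classical.sympB d F (g u) (g v) = Classical.sympB d F u v := fun u v => by
    simp only [Classical.sympB_apply]; exact Classical.sympForm_map x u v
  have hinj : Function.Injective g := fun u v e => by
    rw [← sub_eq_zero]
    refine Classical.eq_zero_of_sympForm_eq_zero fun w => ?_
    rw [← Classical.sympForm_map x, Matrix.mulVec_sub,
      show (x : Matrix (Fin d ⊕ Fin d) (Fin d ⊕ Fin d) F) *ᵥ u - (x : Matrix (Fin d ⊕ Fin d) (Fin d ⊕ Fin d) F) *ᵥ v = 0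
        from sub_eq_zero.2 e, Classical.sympForm_zero_left]
  have hnd : ∀ u ∈ (⊤ : Submodule F (Fin d ⊕ Fin d → F)), u ≠ 0 →
      ∃ v ∈ (⊤ : Submodule F (Fin d ⊕ Fin d → F)), Classical.sympB d F u v ≠ 0 := fun u _ hu => by
    obtain ⟨v, hv⟩ := Classical.exists_sympForm_eq_one hu
    exact ⟨v, trivial, by rw [Classical.sympB_apply, hv]; exact one_ne_zero⟩
  have hz1 : z = 1 ∨ z = -1 := by
    obtain ⟨v, hv⟩ := Classical.exists_sympForm_eq_one (u := (Pi.single (Sum.inl ⟨0, by omega⟩) 1 : Fin d ⊕ Fin d → F))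
      (by simp)
    refine mul_self_eq_one_iff.1 ?_
    have h := hg (g (Pi.single (Sum.inl ⟨0, by omega⟩) 1)) (g v)
    rw [hg2, hg2, hg, map_smul, map_smul, LinearMap.smul_apply, Classical.sympB_apply, hv] at h
    simpa [smul_smul] using h
  have hz0 : z ≠ 0 := by rcases hz1 with rfl | rfl <;> simp
  obtain ⟨ι, _, _, e, f, τ, hfr, htop⟩ := exists_frame (Classical.sympB d F) hB g hz0 hg2 hg
      (fun a b c d => g a ∈ Submodule.span F {c, d} ∧ g b ∈ Submodule.span F {c, d})
      (fun a b c d h => h)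
      (fun W hne hgW hW => by
        by_cases h2 : (2 : F) = 0
        · refine step_even hB h2 (fun v => ?_) hg hne hgW hW
          have : z = 1 := by
            rcases hz1 with h | h
            · exact h
            · rw [h]; exact neg_eq_of_add_eq_zero_left (by rw [← two_mul, h2, zero_mul])
          rw [hg2, this, one_smul]
        · by_cases hsq : IsSquare z
          · obtain ⟨u, hu, v, hv, huv, h1, h3⟩ := (step_odd hB h2 hg2 hg hz1 hne hgW hW).1 hsq
            exact single_frame hB hu hv huv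
              ⟨Submodule.span_mono (by simp) h1, Submodule.span_mono (by simp) h3⟩
          · obtain ⟨u, hu, v, hv, huv, h1, h3⟩ := (step_odd hB h2 hg2 hg hz1 hne hgW hW).2 hsq
            exact single_frame hB hu hv huv
              ⟨Submodule.span_mono (by simp) h1, Submodule.span_mono (by simp) h3⟩)
      ⊤ (fun _ _ => trivial) hnd
  obtain ⟨k, rfl⟩ := hae
  have hcard : Fintype.card ι = k * t := by
    have h := Module.finrank_eq_card_basis (Module.Basis.mk (frame_li hB hfr) (by rwa [Set.Sum.elim_range]))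
    rw [Module.finrank_fintype_fun_eq_card, Fintype.card_sum, Fintype.card_sum, Fintype.card_fin] at h
    nlinarith
  obtain ⟨D, hD, hind, hsup, hnd', horth, hσ⟩ := exists_pieces hB hinj (fun a b c d h => h) hfr htop
    (show 0 < k by omega) hcard
  refine ⟨D, ⟨⟨ht, by omega, hD, hind, hsup⟩, fun j u hu hu0 => ?_, fun i j hij u hu v hv => ?_⟩, hσ⟩
  · obtain ⟨v, hv, h⟩ := hnd' j u hu hu0
    exact ⟨v, hv, by rwa [← Classical.sympB_apply]⟩
  · rw [← Classical.sympB_apply]; exact horth i j hij u hu v hv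

end Cfsg.Agent.S5960
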