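import Cfsg.Statements.S5961
import Cfsg.Agent.Lib.Classical.SympDecompDerange
-- import your own Cfsg.Agent.* helpers here

set_option autoImplicit false
open scoped MatrixGroups
open Cfsg

namespace Cfsg.Agent.S5961

/-- Elements of odd prime order of PSp_n(q) and imprimitive subgroups. Here `T = PSp_n(q)`, `n = 2d ≥ 4`, `(n, q) ≠ (4, 2)`, realised through the symplectic matrices over the field `F` with `q` elements and the standard alternating form; `n = a·t` with `a` even and `t ≥ 2`, and Ω is the (nonempty) set of orthogonal decompositions of `F^n` into `t` nondegenerate subspaces of dimension `a` (unordered; counted as ordered ones divided by `t!`), whose stabilizers are the imprimitive subgroups of type Sp_a(q) ≀ S_t (maximality is not assumed); an element of `T` of prime order `r` (a symplectic matrix `x` with `x^r` scalar, `x` not scalar) fixes a point of Ω when it permutes the summands of some such decomposition. Let `r ≠ p` be an odd prime dividing the number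 of such decompositions, let `i` be the multiplicative order of `q` modulo `r`, `c = i` if `i` is even and `c = 2i` if `i` is odd, and write `k = n mod c`, `ℓ = a mod c`. Then every element of `T` of order `r` stabilizes such a decomposition if and only if `c ≤ a` and `k = t·ℓ`. -/
theorem result {F : Type*} [Field F] [Fintype F] {p : ℕ} [Fact p.Prime] [CharP F p] {q : ℕ} (hq : Fintype.card F = q)
    (d : ℕ) (hd : 2 ≤ d) (hT : (d, q) ≠ (2, 2))
    (a t : ℕ) (hat : 2 * d = a * t) (ha : 2 ≤ a) (hae : Even a) (ht : 2 ≤ t)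
    (r : ℕ) [Fact r.Prime] (hr2 : r ≠ 2) (hrp : r ≠ p) (hΩ : r ∣ Nat.card {D : Fin t → Submodule F (Fin d ⊕ Fin d → F) // (Cfsg.Geo.IsMDecomposition a D ∧ (∀ j, ∀ u ∈ D j, u ≠ 0 → ∃ v ∈ D j, Cfsg.sympForm d F u v ≠ 0) ∧
          (∀ j j', j ≠ j' → ∀ u ∈ D j, ∀ v ∈ D j', Cfsg.sympForm d F u v = 0))} / Nat.factorial t)
    (i c : ℕ) (hi : i = orderOf (q : ZMod r)) (hc : c = if Even i then i else 2 * i) :
    (∀ x : ↥(Matrix.symplecticGroup (Fin d) F),
      (∃ z : F, ((x ^ r : ↥(Matrix.symplecticGroup (Fin d) F)) : Matrix (Fin d ⊕ Fin d) (Fin d ⊕ Fin d) F) = z • (1 : Matrix (Fin d ⊕ Fin d) (Fin d ⊕ Fin d) F)) →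
      (∀ z : F, (x : Matrix (Fin d ⊕ Fin d) (Fin d ⊕ Fin d) F) ≠ z • (1 : Matrix (Fin d ⊕ Fin d) (Fin d ⊕ Fin d) F)) →
      ∃ D : Fin t → Submodule F (Fin d ⊕ Fin d → F), (Cfsg.Geo.IsMDecomposition a D ∧ (∀ j, ∀ u ∈ D j, u ≠ 0 → ∃ v ∈ D j, Cfsg.sympForm d F u v ≠ 0) ∧
          (∀ j j', j ≠ j' → ∀ u ∈ D j, ∀ v ∈ D j', Cfsg.sympForm d F u v = 0)) ∧
        ∃ σ : Equiv.Perm (Fin t), ∀ j, (D j).map (Matrix.toLin' (x : Matrix (Fin d ⊕ Fin d) (Fin d ⊕ Fin d) F)) = D (σ j)) ↔
    (c ≤ a ∧ (2 * d) % c = t * (a % c)) := by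
  classical
  have hr : r.Prime := Fact.out
  have hN : ∀ D : Fin t → Submodule F (Fin d ⊕ Fin d → F),
      (Geo.IsMDecomposition a D ∧ (∀ j, ∀ u ∈ D j, u ≠ 0 → ∃ v ∈ D j, sympForm d F u v ≠ 0) ∧
        (∀ j j', j ≠ j' → ∀ u ∈ D j, ∀ v ∈ D j', sympForm d F u v = 0)) ↔ SympDecompDerange.IsODec d a D := fun D => by
    have hnd : ∀ j, (∀ u ∈ D j, u ≠ 0 → ∃ v ∈ D j, sympForm d F u v ≠ 0) ↔
        SympNondegDecomp.Nd (Classical.sympB d F) (D j) := fun j => by
      simp [SympNondegDecomp.Nd, Classical.sympB_apply]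
    simp only [hnd]
    constructor
    · rintro ⟨h1, h2, h3⟩
      exact ⟨h1.finrank_eq, h2, fun j j' hne u hu v hv => by rw [Classical.sympB_apply]; exact h3 j j' hne u hu v hv⟩
    · rintro hD
      obtain ⟨hi', ht'⟩ := SympDecompDerange.indep_top hD hat
      refine ⟨⟨ht, by omega, hD.1, hi', ht'⟩, hD.2.1, fun j j' hne u hu v hv => ?_⟩
      rw [← Classical.sympB_apply]; exact hD.2.2 j j' hne u hu v hv
  simp only [hN] at hΩ ⊢
  simp only [SubmonoidClass.coe_pow]
  have hrq : ¬ r ∣ Fintype.card F := by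
    intro h
    obtain ⟨e, -, he⟩ := FiniteField.card F p
    rw [he] at h
    exact hrp ((Nat.prime_dvd_prime_iff_eq hr Fact.out).1 (hr.dvd_of_dvd_pow h))
  have hqr : (q : ZMod r) ≠ 0 := fun h => hrq (by rwa [hq, ← ZMod.natCast_eq_zero_iff])
  have hr0 : (r : F) ≠ 0 := fun e =>
    hrp ((Nat.prime_dvd_prime_iff_eq (Fact.out : p.Prime) hr).1 ((CharP.cast_eq_zero_iff F p r).1 e)).symm
  have h : SelfReciprocalFactors.Ctx F r i ((r - 1) / i) :=
    ⟨hr, hr2, hr0, by rw [hq, hi], Nat.div_mul_cancel (hi ▸ ZMod.orderOf_dvd_card_sub_one hqr)⟩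
  have hcc : c = SelfReciprocalFactors.basicDeg i := hc
  subst hcc
  have hc0 := SelfReciprocalFactors.basicDeg_pos h
  have hcd : SelfReciprocalFactors.basicDeg i ≤ 2 * d := by
    have hdG := SympDecompDerange.dvd_card_group hat (by omega) hae hr hΩ
    rw [Classical.natCard_symplecticGroup, Nat.card_eq_fintype_card] at hdG
    rcases hr.dvd_mul.1 hdG with hd' | hd'
    · exact absurd (hr.dvd_of_dvd_pow hd') hrq
    obtain ⟨j, hj, hd'⟩ := (Nat.prime_iff.1 hr).exists_mem_finset_dvd hd'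
    rw [Finset.mem_range] at hj
    have h1 : (Fintype.card F : ZMod r) ^ (2 * (j + 1)) = 1 := by
      rwa [← ZMod.natCast_eq_zero_iff, Nat.cast_sub (Nat.one_le_pow _ _ Fintype.card_pos), Nat.cast_pow, Nat.cast_one,
        sub_eq_zero] at hd'
    have hdvd : i ∣ 2 * (j + 1) := by
      rw [h.hi]; exact orderOf_dvd_of_pow_eq_one h1
    have hbd : SelfReciprocalFactors.basicDeg i ∣ 2 * (j + 1) := by
      unfold SelfReciprocalFactors.basicDeg
      split_ifs with he
      · exact hdvd
      · exact Nat.mul_dvd_mul_left 2 ((Nat.Coprime.dvd_of_dvd_mul_left (Nat.coprime_two_right.2 (Nat.not_even_iff_odd.1 he))) hdvd)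
    exact (Nat.le_of_dvd (by omega) hbd).trans (by omega)
  rw [SympDecompDerange.criterion h hrp (by omega) hat ha hae hcd]
  set c := SelfReciprocalFactors.basicDeg i
  constructor
  · intro hle
    have hn : 1 ≤ 2 * d / c := (Nat.one_le_div_iff hc0).2 hcd
    have hca : c ≤ a := by
      by_contra hlt
      rw [Nat.div_eq_of_lt (by omega : a < c), mul_zero] at hle
      omega
    refine ⟨hca, ?_⟩
    have he : 2 * d = c * (t * (a / c)) + t * (a % c) := by
      rw [hat]
      conv_lhs => rw [← Nat.div_add_mod a c]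
      ring
    have h' := Nat.div_add_mod (2 * d) c
    have hge : t * (a / c) ≤ 2 * d / c := (Nat.le_div_iff_mul_le hc0).2 (by rw [mul_comm]; omega)
    have : 2 * d / c = t * (a / c) := le_antisymm hle hge
    rw [this] at h'
    omega
  · rintro ⟨-, heq⟩
    have he : 2 * d = c * (t * (a / c)) + t * (a % c) := by
      rw [hat]
      conv_lhs => rw [← Nat.div_add_mod a c]
      ring
    have := Nat.div_add_mod (2 * d) c
    have : c * (2 * d / c) = c * (t * (a / c)) := by omega
    exact (Nat.eq_of_mul_eq_mul_left hc0 this).le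

end Cfsg.Agent.S5961
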