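import Cfsg.Statements.S5962
import Cfsg.Agent.Lib.Classical.SympInvolutionFrame
-- import your own Cfsg.Agent.* helpers here

set_option autoImplicit false
open scoped MatrixGroups
open Cfsg Cfsg.Agent

namespace Cfsg.Agent.S5962

open Matrix SympInvolutionFrame


/-- Involutions of PSp_n(q), q odd, and the subgroups GL_{n/2}(q).2. Here `T = PSp_n(q)`, `n = 2d ≥ 4`, `q` odd, realised through the symplectic matrices over the field `F` with `q` elements; Ω is the set of unordered pairs `{U, W}` of complementary totally isotropic `d`-spaces (`F^n = U ⊕ W`), whose stabilizers are the subgroups of type GL_d(q).2 (maximal except in some small cases; maximality is not assumed); an element of `T` of prime order `r` (a symplectic matrix `x` with `x^r` scalar, `x` not scalar) fixes such a pair when it fixes or interchanges `U` and `W`. If the number of such pairs is even, every involution of `T` fixes one of them (the action is 2-elusive). -/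
theorem result {F : Type*} [Field F] [Fintype F] {p : ℕ} [Fact p.Prime] [CharP F p] {q : ℕ} (hq : Fintype.card F = q)
    (d : ℕ) (hd : 2 ≤ d) (hT : (d, q) ≠ (2, 2)) (hodd : Odd q)
    (hΩ : 2 ∣ Nat.card {P : Submodule F (Fin d ⊕ Fin d → F) × Submodule F (Fin d ⊕ Fin d → F) // IsCompl P.1 P.2 ∧ (∀ u ∈ P.1, ∀ v ∈ P.1, Cfsg.sympForm d F u v = 0) ∧ (∀ u ∈ P.2, ∀ v ∈ P.2, Cfsg.sympForm d F u v = 0)} / 2)
    (x : ↥(Matrix.symplecticGroup (Fin d) F))
    (hx1 : ∃ z : F, ((x ^ 2 : ↥(Matrix.symplecticGroup (Fin d) F)) : Matrix (Fin d ⊕ Fin d) (Fin d ⊕ Fin d) F) = z • (1 : Matrix (Fin d ⊕ Fin d) (Fin d ⊕ Fin d) F))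
    (hx2 : ∀ z : F, (x : Matrix (Fin d ⊕ Fin d) (Fin d ⊕ Fin d) F) ≠ z • (1 : Matrix (Fin d ⊕ Fin d) (Fin d ⊕ Fin d) F)) :
    ∃ U W : Submodule F (Fin d ⊕ Fin d → F), IsCompl U W ∧ (∀ u ∈ U, ∀ v ∈ U, Cfsg.sympForm d F u v = 0) ∧ (∀ u ∈ W, ∀ v ∈ W, Cfsg.sympForm d F u v = 0) ∧
        ((U.map (Matrix.toLin' (x : Matrix (Fin d ⊕ Fin d) (Fin d ⊕ Fin d) F)) = U ∧ W.map (Matrix.toLin' (x : Matrix (Fin d ⊕ Fin d) (Fin d ⊕ Fin d) F)) = W) ∨
         (U.map (Matrix.toLin' (x : Matrix (Fin d ⊕ Fin d) (Fin d ⊕ Fin d) F)) = W ∧ W.map (Matrix.toLin' (x : Matrix (Fin d ⊕ Fin d) (Fin d ⊕ Fin d) F)) = U)) := by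
  obtain ⟨z, hz⟩ := hx1
  set g := Matrix.toLin' (x : Matrix (Fin d ⊕ Fin d) (Fin d ⊕ Fin d) F) with hgdef
  have hB : (Classical.sympB d F).IsAlt := fun u => by rw [Classical.sympB_apply, Classical.sympForm_self]
  have hg2 : ∀ v, g (g v) = z • v := fun v => by
    show (x : Matrix (Fin d ⊕ Fin d) (Fin d ⊕ Fin d) F) *ᵥ ((x : Matrix (Fin d ⊕ Fin d) (Fin d ⊕ Fin d) F) *ᵥ v) = _
    rw [Matrix.mulVec_mulVec, ← pow_two, ← SubmonoidClass.coe_pow, hz, Matrix.smul_mulVec, Matrix.one_mulVec]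
  have hg : ∀ u v, Classical.sympB d F (g u) (g v) = Classical.sympB d F u v := fun u v => by
    simp only [Classical.sympB_apply]; exact Classical.sympForm_map x u v
  have hinj : Function.Injective g := fun u v e => by
    rw [← sub_eq_zero]
    refine Classical.eq_zero_of_sympForm_eq_zero fun w => ?_
    rw [← Classical.sympForm_map x, Matrix.mulVec_sub,
      show (x : Matrix (Fin d ⊕ Fin d) (Fin d ⊕ Fin d) F) *ᵥ u - (x : Matrix (Fin d ⊕ Fin d) (Fin d ⊕ Fin d) F) *ᵥ v = 0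
        from sub_eq_zero.2 e, Classical.sympForm_zero_left]
  have hnd : ∀ u ∈ (⊤ : Submodule F (Fin d ⊕ Fin d → F)), u ≠ 0 →
      ∃ v ∈ (⊤ : Submodule F (Fin d ⊕ Fin d → F)), Classical.sympB d F u v ≠ 0 := fun u _ hu => by
    obtain ⟨v, hv⟩ := Classical.exists_sympForm_eq_one hu
    exact ⟨v, trivial, by rw [Classical.sympB_apply, hv]; exact one_ne_zero⟩
  have hz1 : z = 1 ∨ z = -1 := by
    obtain ⟨v, hv⟩ := Classical.exists_sympForm_eq_one (u := (Pi.single (Sum.inl ⟨0, by omega⟩) 1 : Fin d ⊕ Fin d → F))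
      (by simp)
    refine mul_self_eq_one_iff.1 ?_
    have h := hg (g (Pi.single (Sum.inl ⟨0, by omega⟩) 1)) (g v)
    rw [hg2, hg2, hg, map_smul, map_smul, LinearMap.smul_apply, Classical.sympB_apply, hv] at h
    simpa [smul_smul] using h
  have hz0 : z ≠ 0 := by rcases hz1 with rfl | rfl <;> simp
  have h2 : (2 : F) ≠ 0 := fun h => by
    obtain ⟨m, hp, hc⟩ := FiniteField.card F p
    have hdvd : p ∣ 2 := (CharP.cast_eq_zero_iff F p 2).1 (by exact_mod_cast h)
    have hp2 := (Nat.prime_dvd_prime_iff_eq hp Nat.prime_two).1 hdvd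
    rw [← hq, hc, hp2, Nat.odd_pow_iff m.pos.ne'] at hodd
    exact absurd hodd (by decide)
  have hmap : ∀ (A C : Submodule F (Fin d ⊕ Fin d → F)), A.map g ≤ C → C.map g ≤ A → A.map g = C ∧ C.map g = A := by
    intro A C h1 h3
    have e1 := (Submodule.equivMapOfInjective g hinj A).finrank_eq
    have e2 := (Submodule.equivMapOfInjective g hinj C).finrank_eq
    have l1 := Submodule.finrank_mono h1
    have l2 := Submodule.finrank_mono h3
    exact ⟨Submodule.eq_of_le_of_finrank_eq h1 (by omega), Submodule.eq_of_le_of_finrank_eq h3 (by omega)⟩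
  by_cases hsq : IsSquare z
  · obtain ⟨ι, _, _, e, f, τ, hfr, htop⟩ := exists_frame (Classical.sympB d F) hB g hz0 hg2 hg
      (fun a b c d => c = a ∧ d = b ∧ g a ∈ Submodule.span F {a} ∧ g b ∈ Submodule.span F {b})
      (fun a b c d ⟨h1, h3, ha, hb⟩ => by
        subst h1 h3
        exact ⟨Submodule.span_mono (by simp) ha, Submodule.span_mono (by simp) hb⟩)
      (fun W hne hgW hW => by
        obtain ⟨u, hu, v, hv, huv, h1, h3⟩ := (step_odd hB h2 hg2 hg hz1 hne hgW hW).1 hsq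
        exact single_frame hB hu hv huv ⟨rfl, rfl, h1, h3⟩) ⊤ (fun _ _ => trivial) hnd
    obtain ⟨hc, hU, hW⟩ := exists_lagrangians hB hfr htop
    refine ⟨_, _, hc, fun u hu v hv => ?_, fun u hu v hv => ?_, Or.inl ⟨?_, ?_⟩⟩
    · rw [← Classical.sympB_apply]; exact hU u hu v hv
    · rw [← Classical.sympB_apply]; exact hW u hu v hv
    all_goals
      refine (hmap _ _ ?_ ?_).1 <;>
      · rw [Submodule.map_span_le]
        rintro _ ⟨i, rfl⟩
        first
          | exact Submodule.span_mono (by simp) (hfr.2.2.2.2.2.2 i).2.2.1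
          | exact Submodule.span_mono (by simp) (hfr.2.2.2.2.2.2 i).2.2.2
  · obtain ⟨ι, _, _, e, f, τ, hfr, htop⟩ := exists_frame (Classical.sympB d F) hB g hz0 hg2 hg
      (fun a b c d => c = a ∧ d = b ∧ g a ∈ Submodule.span F {b} ∧ g b ∈ Submodule.span F {a})
      (fun a b c d ⟨h1, h3, ha, hb⟩ => by
        subst h1 h3
        exact ⟨Submodule.span_mono (by simp) ha, Submodule.span_mono (by simp) hb⟩)
      (fun W hne hgW hW => by
        obtain ⟨u, hu, v, hv, huv, h1, h3⟩ := (step_odd hB h2 hg2 hg hz1 hne hgW hW).2 hsq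
        exact single_frame hB hu hv huv ⟨rfl, rfl, h1, h3⟩) ⊤ (fun _ _ => trivial) hnd
    obtain ⟨hc, hU, hW⟩ := exists_lagrangians hB hfr htop
    refine ⟨_, _, hc, fun u hu v hv => ?_, fun u hu v hv => ?_, Or.inr (hmap _ _ ?_ ?_)⟩
    · rw [← Classical.sympB_apply]; exact hU u hu v hv
    · rw [← Classical.sympB_apply]; exact hW u hu v hv
    all_goals
      rw [Submodule.map_span_le]
      rintro _ ⟨i, rfl⟩
      first
        | exact Submodule.span_mono (by simp) (hfr.2.2.2.2.2.2 i).2.2.1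
        | exact Submodule.span_mono (by simp) (hfr.2.2.2.2.2.2 i).2.2.2

end Cfsg.Agent.S5962
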