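import Cfsg.Statements.S5963
import Cfsg.Agent.Lib.Classical.JordanChains
import Cfsg.Agent.Lib.Classical.Symp
import Cfsg.Agent.Lib.Classical.SympBlocks
import Cfsg.Agent.Lib.Classical.SympGen
import Cfsg.Agent.Lib.Classical.SympOrders
-- import your own Cfsg.Agent.* helpers here

set_option autoImplicit false
open scoped MatrixGroups
open Cfsg Cfsg.Agent

namespace Cfsg.Agent.S5963

open Matrix Cfsg.Agent.Classical

variable {F : Type*} [Field F] {d : ℕ}

/-- Ordered complementary pairs of Lagrangians. -/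
def IsPair (P : Submodule F (Fin d ⊕ Fin d → F) × Submodule F (Fin d ⊕ Fin d → F)) : Prop :=
  IsCompl P.1 P.2 ∧ (∀ u ∈ P.1, ∀ v ∈ P.1, sympForm d F u v = 0) ∧ (∀ u ∈ P.2, ∀ v ∈ P.2, sympForm d F u v = 0)

theorem eq_zero_of_pairing {U W : Submodule F (Fin d ⊕ Fin d → F)} (h : IsCompl U W)
    (hU : ∀ u ∈ U, ∀ v ∈ U, sympForm d F u v = 0) {u : Fin d ⊕ Fin d → F} (hu : u ∈ U)
    (hw : ∀ w ∈ W, sympForm d F u w = 0) : u = 0 := by
  refine eq_zero_of_sympForm_eq_zero fun v => ?_
  obtain ⟨a, ha, b, hb, rfl⟩ := Submodule.mem_sup.1 (show v ∈ U ⊔ W by rw [h.sup_eq_top]; trivial)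
  rw [sympForm_add_right, hU u hu a ha, hw b hb, add_zero]

theorem finrank_pair {U W : Submodule F (Fin d ⊕ Fin d → F)} (h : IsPair (U, W)) :
    Module.finrank F U = d ∧ Module.finrank F W = d := by
  have key : ∀ {U W : Submodule F (Fin d ⊕ Fin d → F)}, IsCompl U W → (∀ u ∈ U, ∀ v ∈ U, sympForm d F u v = 0) →
      Module.finrank F U ≤ Module.finrank F W := by
    intro U W hc hU
    let f : U →ₗ[F] (W →ₗ[F] F) := ((sympB d F).domRestrict₁₂ U W)
    have hf : Function.Injective f := by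
      rw [← LinearMap.ker_eq_bot, LinearMap.ker_eq_bot']
      intro u hu
      refine Subtype.ext (eq_zero_of_pairing hc hU u.2 fun w hw => ?_)
      rw [← sympB_apply]
      exact LinearMap.congr_fun hu ⟨w, hw⟩
    exact (LinearMap.finrank_le_finrank_of_injective hf).trans Subspace.dual_finrank_eq.le
  have h1 := key h.1 h.2.1
  have h2 := key h.1.symm h.2.2
  have h3 := Submodule.finrank_add_eq_of_isCompl h.1
  rw [Module.finrank_fintype_fun_eq_card, Fintype.card_sum, Fintype.card_fin] at h3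
  simp only at h1 h2 h3
  omega

/-- The standard pair. -/
noncomputable def std (F : Type*) [Field F] (d : ℕ) :
    Submodule F (Fin d ⊕ Fin d → F) × Submodule F (Fin d ⊕ Fin d → F) :=
  (Submodule.span F (Set.range fun i => Pi.single (Sum.inl i) 1),
    Submodule.span F (Set.range fun i => Pi.single (Sum.inr i) 1))

theorem sympB_single (x y : Fin d ⊕ Fin d) :
    sympB d F (Pi.single x 1) (Pi.single y 1) = (Matrix.J (Fin d) F) x y := Matrix.toBilin'_single _ x y

theorem bil_zero {w : Fin d → Fin d ⊕ Fin d → F} (hw : ∀ i j, sympForm d F (w i) (w j) = 0) :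
    ∀ u ∈ Submodule.span F (Set.range w), ∀ v ∈ Submodule.span F (Set.range w), sympForm d F u v = 0 := by
  intro u hu v hv
  induction hu using Submodule.span_induction with
  | zero => simp
  | add a b _ _ ha hb => rw [sympForm_add_left, ha, hb, add_zero]
  | smul c a _ ha => rw [sympForm_smul_left, ha, mul_zero]
  | mem u hu =>
    induction hv using Submodule.span_induction with
    | zero => simp
    | add a b _ _ ha hb => rw [sympForm_add_right, ha, hb, add_zero]
    | smul c a _ ha => rw [sympForm_smul_right, ha, mul_zero]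
    | mem v hv =>
      obtain ⟨x, rfl⟩ := hu
      obtain ⟨y, rfl⟩ := hv
      exact hw x y

theorem std_isPair : IsPair (std F d) := by
  refine ⟨⟨?_, ?_⟩, bil_zero fun i j => ?_, bil_zero fun i j => ?_⟩
  · have := (Pi.basisFun F (Fin d ⊕ Fin d)).linearIndependent.disjoint_span_image (s := Set.range Sum.inl)
      (t := Set.range Sum.inr) Set.isCompl_range_inl_range_inr.disjoint
    rw [← Set.range_comp, ← Set.range_comp] at this
    simpa [std, Function.comp_def] using this
  · rw [codisjoint_iff, eq_top_iff, ← (Pi.basisFun F (Fin d ⊕ Fin d)).span_eq, Submodule.span_le]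
    rintro _ ⟨(i | i), rfl⟩
    · exact Submodule.mem_sup_left (Submodule.subset_span ⟨i, by simp⟩)
    · exact Submodule.mem_sup_right (Submodule.subset_span ⟨i, by simp⟩)
  · rw [← sympB_apply, sympB_single]; simp [Matrix.J]
  · rw [← sympB_apply, sympB_single]; simp [Matrix.J]

/-- The image of a pair. -/
noncomputable def img (g : Matrix.symplecticGroup (Fin d) F)
    (P : Submodule F (Fin d ⊕ Fin d → F) × Submodule F (Fin d ⊕ Fin d → F)) :
    Submodule F (Fin d ⊕ Fin d → F) × Submodule F (Fin d ⊕ Fin d → F) :=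
  (P.1.map (Matrix.toLin' (g : Matrix (Fin d ⊕ Fin d) (Fin d ⊕ Fin d) F)),
    P.2.map (Matrix.toLin' (g : Matrix (Fin d ⊕ Fin d) (Fin d ⊕ Fin d) F)))

theorem img_img (g h : Matrix.symplecticGroup (Fin d) F)
    (P : Submodule F (Fin d ⊕ Fin d → F) × Submodule F (Fin d ⊕ Fin d → F)) : img g (img h P) = img (g * h) P := by
  simp only [img, ← Submodule.map_comp, ← Matrix.toLin'_mul]
  rfl

theorem img_one (P : Submodule F (Fin d ⊕ Fin d → F) × Submodule F (Fin d ⊕ Fin d → F)) : img 1 P = P := by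
  simp [img, Matrix.toLin'_one]

theorem img_isPair (g : Matrix.symplecticGroup (Fin d) F)
    {P : Submodule F (Fin d ⊕ Fin d → F) × Submodule F (Fin d ⊕ Fin d → F)} (h : IsPair P) : IsPair (img g P) := by
  have hiso : ∀ S : Submodule F (Fin d ⊕ Fin d → F), (∀ u ∈ S, ∀ v ∈ S, sympForm d F u v = 0) →
      ∀ u ∈ S.map (Matrix.toLin' (g : Matrix (Fin d ⊕ Fin d) (Fin d ⊕ Fin d) F)),
        ∀ v ∈ S.map (Matrix.toLin' (g : Matrix (Fin d ⊕ Fin d) (Fin d ⊕ Fin d) F)), sympForm d F u v = 0 := by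
    rintro S hS _ ⟨a, ha, rfl⟩ _ ⟨b, hb, rfl⟩
    rw [Matrix.toLin'_apply, Matrix.toLin'_apply, sympForm_map]
    exact hS a ha b hb
  have hl : ∀ (g h : Matrix.symplecticGroup (Fin d) F) (x : Fin d ⊕ Fin d → F),
      (g : Matrix (Fin d ⊕ Fin d) (Fin d ⊕ Fin d) F) *ᵥ ((h : Matrix (Fin d ⊕ Fin d) (Fin d ⊕ Fin d) F) *ᵥ x) =
        ((g * h : Matrix.symplecticGroup (Fin d) F) : Matrix (Fin d ⊕ Fin d) (Fin d ⊕ Fin d) F) *ᵥ x :=
    fun g h x => Matrix.mulVec_mulVec _ _ _
  let e : (Fin d ⊕ Fin d → F) ≃ₗ[F] (Fin d ⊕ Fin d → F) :=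
    LinearEquiv.ofLinear (Matrix.toLin' (g : Matrix (Fin d ⊕ Fin d) (Fin d ⊕ Fin d) F))
      (Matrix.toLin' ((g⁻¹ : Matrix.symplecticGroup (Fin d) F) : Matrix (Fin d ⊕ Fin d) (Fin d ⊕ Fin d) F))
      (LinearMap.ext fun x => by simp [hl]) (LinearMap.ext fun x => by simp [hl])
  exact ⟨h.1.map (Submodule.orderIsoMapComap e), hiso _ h.2.1, hiso _ h.2.2⟩

theorem exists_img {P : Submodule F (Fin d ⊕ Fin d → F) × Submodule F (Fin d ⊕ Fin d → F)} (h : IsPair P) :
    ∃ g : Matrix.symplecticGroup (Fin d) F, img g (std F d) = P := by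
  obtain ⟨hU, hW⟩ := finrank_pair (U := P.1) (W := P.2) h
  let e := Module.finBasisOfFinrankEq F P.1 hU
  let f : P.2 →ₗ[F] (Fin d → F) := LinearMap.pi fun i =>
    (sympB d F (e i : Fin d ⊕ Fin d → F)).comp P.2.subtype
  have hf : Function.Injective f := by
    rw [← LinearMap.ker_eq_bot, LinearMap.ker_eq_bot']
    intro w hw
    refine Subtype.ext (eq_zero_of_pairing h.1.symm h.2.2 w.2 fun u hu => ?_)
    rw [sympForm_swap, neg_eq_zero, ← sympB_apply,
      show u = ((∑ i, e.repr ⟨u, hu⟩ i • e i : P.1) : Fin d ⊕ Fin d → F) from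
        (congrArg Subtype.val (e.sum_repr ⟨u, hu⟩)).symm, Submodule.coe_sum, map_sum, LinearMap.sum_apply]
    refine Finset.sum_eq_zero fun i _ => ?_
    rw [Submodule.coe_smul, map_smul, LinearMap.smul_apply]
    rw [show sympB d F (e i : Fin d ⊕ Fin d → F) w = 0 from congrFun hw i, smul_zero]
  have hfs : Function.Surjective f := (LinearMap.injective_iff_surjective_of_finrank_eq_finrank
    (by rw [hW, Module.finrank_fin_fun])).1 hf
  choose w hw using fun j : Fin d => hfs (Pi.single j (-1))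
  let col : Fin d ⊕ Fin d → Fin d ⊕ Fin d → F := Sum.elim (fun i => (e i : Fin d ⊕ Fin d → F)) fun j => (w j : _)
  let A : Matrix (Fin d ⊕ Fin d) (Fin d ⊕ Fin d) F := Matrix.of fun x y => col y x
  have hA : ∀ y, A *ᵥ Pi.single y 1 = col y := fun y => by rw [Matrix.mulVec_single_one]; rfl
  have hew : ∀ i j, sympB d F (e i : Fin d ⊕ Fin d → F) (w j : Fin d ⊕ Fin d → F) = if i = j then -1 else 0 :=
    fun i j => (congrFun (hw j) i).trans (by rw [Pi.single_apply])
  have hmem : A ∈ Matrix.symplecticGroup (Fin d) F := by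
    rw [mem_symplecticGroup_iff_form]
    have hB : (sympB d F).compl₁₂ (Matrix.toLin' A) (Matrix.toLin' A) = sympB d F := by
      refine (Pi.basisFun F (Fin d ⊕ Fin d)).ext fun x => (Pi.basisFun F (Fin d ⊕ Fin d)).ext fun y => ?_
      rw [LinearMap.compl₁₂_apply, Pi.basisFun_apply, Pi.basisFun_apply, Matrix.toLin'_apply, Matrix.toLin'_apply,
        hA, hA, sympB_single]
      rcases x with i | i <;> rcases y with j | j
      · rw [sympB_apply]; simpa [col, Matrix.J] using h.2.1 _ (e i).2 _ (e j).2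
      · simp only [col, Sum.elim_inl, Sum.elim_inr, hew]; simp [Matrix.J, Matrix.one_apply, apply_ite (Neg.neg : F → F)]
      · rw [sympB_apply, sympForm_swap, ← sympB_apply]
        simp only [col, Sum.elim_inl, Sum.elim_inr, hew]
        simp [Matrix.J, Matrix.one_apply, eq_comm, apply_ite (Neg.neg : F → F)]
      · rw [sympB_apply]; simpa [col, Matrix.J] using h.2.2 _ (w i).2 _ (w j).2
    intro u v
    rw [← sympB_apply, ← sympB_apply]
    exact LinearMap.congr_fun (LinearMap.congr_fun hB u) v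
  have hg := img_isPair ⟨A, hmem⟩ (std_isPair (F := F) (d := d))
  obtain ⟨h1, h2⟩ := finrank_pair (U := (img ⟨A, hmem⟩ (std F d)).1) (W := (img ⟨A, hmem⟩ (std F d)).2) hg
  refine ⟨⟨A, hmem⟩, Prod.ext (Submodule.eq_of_le_of_finrank_eq ?_ (h1.trans hU.symm))
    (Submodule.eq_of_le_of_finrank_eq ?_ (h2.trans hW.symm))⟩
  · simp only [img, std, Submodule.map_span_le]
    rintro _ ⟨i, rfl⟩
    rw [Matrix.toLin'_apply, hA]; exact (e i).2
  · simp only [img, std, Submodule.map_span_le]
    rintro _ ⟨i, rfl⟩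
    rw [Matrix.toLin'_apply, hA]; exact (w i).2

/-- The stabiliser of the standard pair. -/
def stab (F : Type*) [Field F] (d : ℕ) : Subgroup (Matrix.symplecticGroup (Fin d) F) where
  carrier := {g | img g (std F d) = std F d}
  one_mem' := img_one _
  mul_mem' {g h} hg hh := by
    show img (g * h) (std F d) = std F d
    rw [← img_img, hh, hg]
  inv_mem' {g} hg := by
    show img g⁻¹ (std F d) = std F d
    conv_lhs => rw [← show img g (std F d) = std F d from hg, img_img, inv_mul_cancel, img_one]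

theorem card_pairs_dvd [Fintype F] :
    Nat.card {P : Submodule F (Fin d ⊕ Fin d → F) × Submodule F (Fin d ⊕ Fin d → F) // IsPair P} *
      Nat.card (GL (Fin d) F) ∣ Nat.card (Matrix.symplecticGroup (Fin d) F) := by
  classical
  let f : Matrix.symplecticGroup (Fin d) F ⧸ stab F d →
      {P : Submodule F (Fin d ⊕ Fin d → F) × Submodule F (Fin d ⊕ Fin d → F) // IsPair P} :=
    Quotient.lift (fun g => ⟨img g (std F d), img_isPair g std_isPair⟩) fun g h hgh => by
      have : g⁻¹ * h ∈ stab F d := QuotientGroup.leftRel_apply.1 hgh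
      refine Subtype.ext (?_ : img g (std F d) = img h (std F d))
      conv_lhs => rw [← show img (g⁻¹ * h) (std F d) = std F d from this, img_img, mul_inv_cancel_left]
  have hf : Function.Bijective f := by
    constructor
    · intro a b
      induction a using QuotientGroup.induction_on with
      | _ g =>
        induction b using QuotientGroup.induction_on with
        | _ h =>
          intro e
          have e' : img g (std F d) = img h (std F d) := congrArg Subtype.val e
          refine QuotientGroup.eq.2 ?_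
          show img (g⁻¹ * h) (std F d) = std F d
          rw [← img_img, ← e', img_img, inv_mul_cancel, img_one]
    · rintro ⟨P, hP⟩
      obtain ⟨g, hg⟩ := exists_img hP
      exact ⟨QuotientGroup.mk g, Subtype.ext hg⟩
  rw [← Nat.card_eq_of_bijective f hf, ← (stab F d).index_mul_card]
  refine mul_dvd_mul (dvd_refl _) ?_
  have hrange : (sympLevi (F := F) d).range ≤ stab F d := by
    rintro _ ⟨g, rfl⟩
    have hg := img_isPair (sympLevi d g) (std_isPair (F := F) (d := d))
    obtain ⟨h1, h2⟩ := finrank_pair (U := (img (sympLevi d g) (std F d)).1) (W := (img (sympLevi d g) (std F d)).2) hg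
    obtain ⟨h1', h2'⟩ := finrank_pair (U := (std F d).1) (W := (std F d).2) std_isPair
    refine Prod.ext (Submodule.eq_of_le_of_finrank_eq ?_ (h1.trans h1'.symm))
      (Submodule.eq_of_le_of_finrank_eq ?_ (h2.trans h2'.symm))
    · simp only [img, std, Submodule.map_span_le]
      rintro _ ⟨i, rfl⟩
      have : (Matrix.toLin' ((sympLevi d g : Matrix.symplecticGroup (Fin d) F) : Matrix (Fin d ⊕ Fin d) (Fin d ⊕ Fin d) F))
          (Pi.single (Sum.inl i) 1) = ∑ j, (g : Matrix (Fin d) (Fin d) F) j i • Pi.single (Sum.inl j) (1 : F) := by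
        funext x
        rcases x with x | x <;> simp [sympLevi, Matrix.mulVec_single_one, Pi.single_apply]
      rw [this]
      exact Submodule.sum_mem _ fun j _ => Submodule.smul_mem _ _ (Submodule.subset_span ⟨j, rfl⟩)
    · simp only [img, std, Submodule.map_span_le]
      rintro _ ⟨i, rfl⟩
      have : (Matrix.toLin' ((sympLevi d g : Matrix.symplecticGroup (Fin d) F) : Matrix (Fin d ⊕ Fin d) (Fin d ⊕ Fin d) F))
          (Pi.single (Sum.inr i) 1) = ∑ j, ((g⁻¹ : GL (Fin d) F) : Matrix (Fin d) (Fin d) F) i j •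
            Pi.single (Sum.inr j) (1 : F) := by
        funext x
        rcases x with x | x <;> simp [sympLevi, Matrix.mulVec_single_one, Pi.single_apply]
      rw [this]
      exact Submodule.sum_mem _ fun j _ => Submodule.smul_mem _ _ (Submodule.subset_span ⟨j, rfl⟩)
  calc Nat.card (GL (Fin d) F) = Nat.card (sympLevi (F := F) d).range :=
        Nat.card_congr (MonoidHom.ofInjective (sympLevi_injective d)).toEquiv
    _ ∣ _ := Subgroup.card_dvd_of_le hrange

theorem exists_pow_add_one {q r : ℕ} (hr : r.Prime) (hq : 2 ≤ q) (hrq : ¬ r ∣ q) :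
    ∀ (d : ℕ) {N : ℕ}, r ∣ N →
      N * ∏ i : Fin d, (q ^ d - q ^ (i : ℕ)) ∣ q ^ (d ^ 2) * ∏ i ∈ Finset.range d, (q ^ (2 * (i + 1)) - 1) →
      ∃ i, 1 ≤ i ∧ i ≤ d ∧ r ∣ q ^ i + 1 := by
  intro d N hN hdvd
  have h1 : ∏ i : Fin d, (q ^ d - q ^ (i : ℕ)) =
      (∏ i : Fin d, q ^ (i : ℕ)) * ∏ i ∈ Finset.range d, (q ^ (i + 1) - 1) := by
    rw [← Finset.prod_range_reflect (fun i => q ^ (i + 1) - 1), ← Fin.prod_univ_eq_prod_range, ← Finset.prod_mul_distrib]
    refine Finset.prod_congr rfl fun i _ => ?_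
    rw [Nat.mul_sub, mul_one, ← pow_add, show (i : ℕ) + (d - 1 - (i : ℕ) + 1) = d by omega]
  have h2 : ∏ i ∈ Finset.range d, (q ^ (2 * (i + 1)) - 1) =
      (∏ i ∈ Finset.range d, (q ^ (i + 1) - 1)) * ∏ i ∈ Finset.range d, (q ^ (i + 1) + 1) := by
    rw [← Finset.prod_mul_distrib]
    refine Finset.prod_congr rfl fun i _ => ?_
    rw [mul_comm (q ^ (i + 1) - 1), ← Nat.sq_sub_sq, one_pow, ← pow_mul, mul_comm 2]
  rw [h1, h2] at hdvd
  have h3 : r * ∏ i ∈ Finset.range d, (q ^ (i + 1) - 1) ∣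
      (q ^ (d ^ 2) * ∏ i ∈ Finset.range d, (q ^ (i + 1) + 1)) * ∏ i ∈ Finset.range d, (q ^ (i + 1) - 1) := by
    refine (Dvd.dvd.trans ?_ hdvd).trans (dvd_of_eq (by ring))
    exact mul_dvd_mul hN (dvd_mul_left _ _)
  have hpos : 0 < ∏ i ∈ Finset.range d, (q ^ (i + 1) - 1) := Finset.prod_pos fun i _ => by
    have := Nat.le_self_pow (show i + 1 ≠ 0 by omega) q
    omega
  rcases (Nat.Prime.dvd_mul hr).1 (Nat.dvd_of_mul_dvd_mul_right hpos h3) with h | h
  · exact absurd (hr.dvd_of_dvd_pow h) hrq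
  · obtain ⟨i, hi, h⟩ := (Prime.dvd_finsetProd_iff hr.prime _).1 h
    exact ⟨i + 1, by omega, Finset.mem_range.1 hi, h⟩

theorem dvd_sub_of_pow_eq_one {V : Type*} [AddCommGroup V] [Module F V] [Fintype F] [FiniteDimensional F V] {r : ℕ}
    (hr : r.Prime) (hrq : ¬ r ∣ Fintype.card F) (g : Module.End F V) (hg : g ^ r = 1) (U : Submodule F V)
    (hU : ∀ u ∈ U, g u ∈ U) :
    orderOf (Fintype.card F : ZMod r) ∣ Module.finrank F (U.map (g - 1)) := by
  classical
  haveI := Fact.mk hr
  haveI : Finite V := Module.finite_of_finite F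
  haveI := Fintype.ofFinite U
  let σ : Equiv.Perm U := Equiv.ofBijective (fun u => ⟨g u, hU u u.2⟩) (by
    refine (Finite.injective_iff_bijective).1 fun a b e => Subtype.ext ?_
    have h : ∀ x, (g ^ (r - 1)) (g x) = x := fun x => by
      rw [← JordanChains.pow_succ_apply', Nat.sub_add_cancel hr.one_le, hg]; rfl
    rw [← h a, ← h b]
    exact congrArg (g ^ (r - 1)) (congrArg Subtype.val e))
  have hσ : ∀ (k : ℕ) (u : U), (((σ ^ k) u : U) : V) = (g ^ k) (u : V) := fun k => by
    induction k with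
    | zero => intro u; rfl
    | succ k ih => intro u; rw [pow_succ', Equiv.Perm.mul_apply, pow_succ']; exact congrArg g (ih u)
  have h := Equiv.Perm.card_compl_support_modEq (p := r) (n := 1) (σ := σ)
    (Equiv.ext fun u => Subtype.ext (by rw [pow_one, hσ, hg]; rfl))
  let φ : U →ₗ[F] V := (g - 1).comp U.subtype
  have hfix : σ.supportᶜ.card = Nat.card (LinearMap.ker φ) := by
    rw [Nat.card_eq_fintype_card, ← Finset.card_univ]
    have e : ∀ u : U, u ∈ σ.supportᶜ ↔ u ∈ LinearMap.ker φ := fun u => by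
      rw [Finset.mem_compl, Equiv.Perm.notMem_support, LinearMap.mem_ker, Subtype.ext_iff]
      show g u = u ↔ g (u : V) - (u : V) = 0
      rw [sub_eq_zero]
    rw [Finset.card_univ, Fintype.card_subtype]
    congr 1
    ext u
    simp [e u]
  rw [hfix, ← Nat.card_eq_fintype_card, Module.natCard_eq_pow_finrank (K := F) (V := LinearMap.ker φ),
    Module.natCard_eq_pow_finrank (K := F) (V := U), ← φ.finrank_range_add_finrank_ker,
    ← ZMod.natCast_eq_natCast_iff, Nat.card_eq_fintype_card, Nat.cast_pow, Nat.cast_pow, pow_add] at h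
  have hq0 : (Fintype.card F : ZMod r) ≠ 0 := fun e => hrq ((ZMod.natCast_eq_zero_iff _ _).1 e)
  have h1 : (Fintype.card F : ZMod r) ^ Module.finrank F (LinearMap.range φ) = 1 :=
    mul_right_cancel₀ (pow_ne_zero (Module.finrank F (LinearMap.ker φ)) hq0) (by rw [one_mul]; exact h.symm)
  have hr' : LinearMap.range φ = U.map (g - 1) := by rw [LinearMap.range_comp, Submodule.range_subtype]
  rw [hr'] at h1
  exact orderOf_dvd_of_pow_eq_one h1

theorem rank_blockMat_sub_one {a b : ℕ} (A : Matrix (Fin a ⊕ Fin a) (Fin a ⊕ Fin a) F) :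
    (blockMat A (1 : Matrix (Fin b ⊕ Fin b) (Fin b ⊕ Fin b) F) - 1).rank ≤ 2 * a := by
  have e : blockMat A (1 : Matrix (Fin b ⊕ Fin b) (Fin b ⊕ Fin b) F) - 1 =
      (Matrix.fromBlocks (A - 1) 0 0 0 : Matrix ((Fin a ⊕ Fin a) ⊕ (Fin b ⊕ Fin b)) _ F).submatrix
        (sympBlockEquiv a b).symm (sympBlockEquiv a b).symm := by
    rw [← blockMat_one]
    ext i j
    simp only [blockMat, Matrix.submatrix_apply, Matrix.sub_apply]
    rcases (sympBlockEquiv a b).symm i with k | k <;> rcases (sympBlockEquiv a b).symm j with l | l <;> simp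
  have e2 : (Matrix.fromBlocks (A - 1) 0 0 0 : Matrix ((Fin a ⊕ Fin a) ⊕ (Fin b ⊕ Fin b)) ((Fin a ⊕ Fin a) ⊕ (Fin b ⊕ Fin b)) F) =
      (Matrix.fromRows (A - 1) 0 : Matrix ((Fin a ⊕ Fin a) ⊕ (Fin b ⊕ Fin b)) (Fin a ⊕ Fin a) F) *
        (Matrix.fromCols 1 0 : Matrix (Fin a ⊕ Fin a) ((Fin a ⊕ Fin a) ⊕ (Fin b ⊕ Fin b)) F) := by
    rw [Matrix.fromRows_mul, Matrix.mul_fromCols, Matrix.zero_mul, Matrix.mul_one, Matrix.mul_zero,
      ← Matrix.fromRows_fromCols_eq_fromBlocks, Matrix.fromCols_zero]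
  rw [e, Matrix.rank_submatrix, e2]
  exact ((Matrix.rank_mul_le_left _ _).trans (Matrix.rank_le_card_width _)).trans (by simp [two_mul])


/-- Derangements of odd prime order of PSp_n(q), q odd, on pairs of complementary totally isotropic subspaces. Here `T = PSp_n(q)`, `n = 2d ≥ 4`, `q` odd, realised through the symplectic matrices over the field `F` with `q` elements; Ω is the set of unordered pairs `{U, W}` of complementary totally isotropic `d`-spaces (`F^n = U ⊕ W`), whose stabilizers are the subgroups of type GL_d(q).2 (maximal except in some small cases; maximality is not assumed); an element of `T` of prime order `r` (a symplectic matrix `x` with `x^r` scalar, `x` not scalar) fixes such a pair when it fixes or interchanges `U` and `W`. For every odd prime `r ≠ p` dividing the number of such pairs, some element of `T` of order `r` fixes no such pair (the action is never `r`-elusive for odd `r ≠ p`). -/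
theorem result {F : Type*} [Field F] [Fintype F] {p : ℕ} [Fact p.Prime] [CharP F p] {q : ℕ} (hq : Fintype.card F = q)
    (d : ℕ) (hd : 2 ≤ d) (hT : (d, q) ≠ (2, 2)) (hodd : Odd q)
    (r : ℕ) [Fact r.Prime] (hr2 : r ≠ 2) (hrp : r ≠ p) (hΩ : r ∣ Nat.card {P : Submodule F (Fin d ⊕ Fin d → F) × Submodule F (Fin d ⊕ Fin d → F) // IsCompl P.1 P.2 ∧ (∀ u ∈ P.1, ∀ v ∈ P.1, Cfsg.sympForm d F u v = 0) ∧ (∀ u ∈ P.2, ∀ v ∈ P.2, Cfsg.sympForm d F u v = 0)} / 2) :
    ∃ x : ↥(Matrix.symplecticGroup (Fin d) F),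
      (∃ z : F, ((x ^ r : ↥(Matrix.symplecticGroup (Fin d) F)) : Matrix (Fin d ⊕ Fin d) (Fin d ⊕ Fin d) F) = z • (1 : Matrix (Fin d ⊕ Fin d) (Fin d ⊕ Fin d) F)) ∧
      (∀ z : F, (x : Matrix (Fin d ⊕ Fin d) (Fin d ⊕ Fin d) F) ≠ z • (1 : Matrix (Fin d ⊕ Fin d) (Fin d ⊕ Fin d) F)) ∧
      ¬ (∃ U W : Submodule F (Fin d ⊕ Fin d → F), IsCompl U W ∧ (∀ u ∈ U, ∀ v ∈ U, Cfsg.sympForm d F u v = 0) ∧ (∀ u ∈ W, ∀ v ∈ W, Cfsg.sympForm d F u v = 0) ∧
        ((U.map (Matrix.toLin' (x : Matrix (Fin d ⊕ Fin d) (Fin d ⊕ Fin d) F)) = U ∧ W.map (Matrix.toLin' (x : Matrix (Fin d ⊕ Fin d) (Fin d ⊕ Fin d) F)) = W) ∨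
         (U.map (Matrix.toLin' (x : Matrix (Fin d ⊕ Fin d) (Fin d ⊕ Fin d) F)) = W ∧ W.map (Matrix.toLin' (x : Matrix (Fin d ⊕ Fin d) (Fin d ⊕ Fin d) F)) = U))) := by
  classical
  obtain ⟨hf, hp, hFp⟩ := FiniteField.card F p
  have hrq : ¬ r ∣ Fintype.card F := fun h => hrp (by
    rw [hFp] at h
    exact (Nat.prime_dvd_prime_iff_eq (Fact.out : r.Prime) hp).1 ((Fact.out : r.Prime).dvd_of_dvd_pow h))
  have h2 : (2 : F) ≠ 0 := fun h => by
    have hdvd : p ∣ 2 := (CharP.cast_eq_zero_iff F p 2).1 (by exact_mod_cast h)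
    rw [← hq, hFp, (Nat.prime_dvd_prime_iff_eq hp Nat.prime_two).1 hdvd, Nat.odd_pow_iff hf.pos.ne'] at hodd
    exact absurd hodd (by decide)
  set N := Nat.card {P : Submodule F (Fin d ⊕ Fin d → F) × Submodule F (Fin d ⊕ Fin d → F) // IsPair P}
  have hN : r ∣ N := by
    have h : r ∣ N / 2 := hΩ
    rcases Nat.even_or_odd N with he | ho
    · exact h.trans (Nat.div_dvd_of_dvd he.two_dvd)
    · have hinv : ∀ P : {P : Submodule F (Fin d ⊕ Fin d → F) × Submodule F (Fin d ⊕ Fin d → F) // IsPair P},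
          IsPair (P.1.2, P.1.1) := fun P => ⟨P.2.1.symm, P.2.2.2, P.2.2.1⟩
      exfalso
      let s : Equiv.Perm {P : Submodule F (Fin d ⊕ Fin d → F) × Submodule F (Fin d ⊕ Fin d → F) // IsPair P} :=
        ⟨fun P => ⟨(P.1.2, P.1.1), hinv P⟩, fun P => ⟨(P.1.2, P.1.1), hinv P⟩, fun P => rfl, fun P => rfl⟩
      haveI := Fintype.ofFinite {P : Submodule F (Fin d ⊕ Fin d → F) × Submodule F (Fin d ⊕ Fin d → F) // IsPair P}
      have hs := Equiv.Perm.card_compl_support_modEq (p := 2) (n := 1) (σ := s) (Equiv.ext fun P => rfl)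
      have hsupp : s.supportᶜ = ∅ := Finset.eq_empty_of_forall_notMem fun P hP => by
        rw [Finset.mem_compl, Equiv.Perm.notMem_support] at hP
        have e : P.1.2 = P.1.1 := congrArg (fun X => X.1.1) hP
        have hd' := P.2.1.disjoint
        rw [e, disjoint_self] at hd'
        have := (finrank_pair (U := P.1.1) (W := P.1.2) P.2).1
        rw [hd', finrank_bot] at this
        omega
      rw [hsupp, Finset.card_empty, ← Nat.card_eq_fintype_card] at hs
      exact Nat.not_even_iff_odd.2 ho (Nat.even_iff.2 hs.symm)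
  have hdvd := card_pairs_dvd (F := F) (d := d)
  rw [Matrix.card_GL_field, natCard_symplecticGroup, Nat.card_eq_fintype_card (α := F)] at hdvd
  obtain ⟨i, hi1, hid, hri⟩ := exists_pow_add_one (Fact.out : r.Prime) Fintype.one_lt_card hrq d hN hdvd
  set o := orderOf (Fintype.card F : ZMod r)
  have hqi : (Fintype.card F : ZMod r) ^ i = -1 := by
    rw [eq_neg_iff_add_eq_zero, ← Nat.cast_pow, ← Nat.cast_one (R := ZMod r), ← Nat.cast_add]
    exact (ZMod.natCast_eq_zero_iff _ _).2 hri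
  have hne : (-1 : ZMod r) ≠ 1 := fun h => by
    have h3 : ((2 : ℕ) : ZMod r) = 0 := by push_cast; linear_combination -h
    exact hr2 ((Nat.prime_dvd_prime_iff_eq (Fact.out : r.Prime) Nat.prime_two).1 ((ZMod.natCast_eq_zero_iff _ _).1 h3))
  have h2i : o ∣ 2 * i := orderOf_dvd_of_pow_eq_one (by rw [pow_mul', hqi]; ring)
  have hni : ¬ o ∣ i := fun h => hne (hqi ▸ (orderOf_dvd_iff_pow_eq_one.1 h))
  obtain ⟨b, hb⟩ : Even o := by
    rcases Nat.even_or_odd o with he | ho
    · exact he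
    · exact absurd ((Nat.Coprime.dvd_mul_left ho.coprime_two_right).1 h2i) hni
  have hb2 : b ∣ i := Nat.dvd_of_mul_dvd_mul_left (by norm_num) (show 2 * b ∣ 2 * i by rw [two_mul b, ← hb]; exact h2i)
  have hb0 : 1 ≤ b := Nat.pos_of_dvd_of_pos hb2 (by omega)
  have hbd : b ≤ d := (Nat.le_of_dvd (by omega) hb2).trans hid
  have hqb : r ∣ Fintype.card F ^ b + 1 := by
    have h1 : (Fintype.card F : ZMod r) ^ b * (Fintype.card F : ZMod r) ^ b = 1 := by
      rw [← pow_add, ← hb]; exact pow_orderOf_eq_one _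
    rcases mul_self_eq_one_iff.1 h1 with h | h
    · exact absurd (Nat.le_of_dvd hb0 (orderOf_dvd_of_pow_eq_one h)) (by omega)
    · rw [← ZMod.natCast_eq_zero_iff, Nat.cast_add, Nat.cast_pow, Nat.cast_one, h, neg_add_cancel]
  obtain ⟨c, rfl⟩ := Nat.exists_eq_add_of_le hbd
  obtain ⟨y, hy⟩ := exists_symp_order_of_dvd h2 hb0 (Or.inl hqb)
  set x : Matrix.symplecticGroup (Fin (b + c)) F := sympBlockFun b c (y, 1)
  have hyr : (y : Matrix (Fin b ⊕ Fin b) (Fin b ⊕ Fin b) F) ^ r = 1 := by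
    rw [← SubmonoidClass.coe_pow, ← hy, pow_orderOf_eq_one]; rfl
  have hpow : ∀ k : ℕ, (x : Matrix (Fin (b + c) ⊕ Fin (b + c)) (Fin (b + c) ⊕ Fin (b + c)) F) ^ k =
      blockMat ((y : Matrix (Fin b ⊕ Fin b) (Fin b ⊕ Fin b) F) ^ k) 1 := fun k => by
    induction k with
    | zero => rw [pow_zero, pow_zero, blockMat_one]
    | succ k ih =>
      rw [pow_succ, ih, pow_succ, sympBlockFun_val, blockMat_mul]
      congr 1
      exact mul_one _
  have hxr : (x : Matrix (Fin (b + c) ⊕ Fin (b + c)) (Fin (b + c) ⊕ Fin (b + c)) F) ^ r = 1 := by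
    rw [hpow, hyr, blockMat_one]
  have hy1 : y ≠ 1 := fun h => by
    rw [h, orderOf_one] at hy; exact (Fact.out : r.Prime).ne_one hy.symm
  have hx1 : (x : Matrix (Fin (b + c) ⊕ Fin (b + c)) (Fin (b + c) ⊕ Fin (b + c)) F) ≠ 1 := fun h => hy1 (by
    rw [sympBlockFun_val, ← blockMat_one, blockMat, blockMat] at h
    have h' := congrArg (fun M => M.submatrix (sympBlockEquiv b c) (sympBlockEquiv b c)) h
    simp only [Matrix.submatrix_submatrix, Equiv.symm_comp_self, Matrix.submatrix_id_id, Matrix.fromBlocks_inj] at h'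
    exact Subtype.ext h'.1)
  set g : Module.End F (Fin (b + c) ⊕ Fin (b + c) → F) :=
    Matrix.toLinAlgEquiv' (x : Matrix (Fin (b + c) ⊕ Fin (b + c)) (Fin (b + c) ⊕ Fin (b + c)) F)
  have hgr : g ^ r = 1 := by rw [← map_pow, hxr, map_one]
  refine ⟨x, ⟨1, by rw [one_smul, SubmonoidClass.coe_pow, hxr]⟩, fun z hz => hx1 ?_, ?_⟩
  · have hd0 : 0 < b + c := by omega
    have h1 : z ^ r = 1 := by
      have hzr := congrArg (fun M => (M ^ r) (Sum.inl ⟨0, hd0⟩) (Sum.inl ⟨0, hd0⟩)) hz
      rw [hxr, smul_pow, one_pow] at hzr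
      simpa using hzr.symm
    have hzz : z * z = 1 := by
      obtain ⟨v, hv⟩ := exists_sympForm_eq_one (u := (Pi.single (Sum.inl ⟨0, hd0⟩) 1 : Fin (b + c) ⊕ Fin (b + c) → F))
        (by simp)
      have := sympForm_map x (Pi.single (Sum.inl ⟨0, hd0⟩) 1) v
      rw [hz, Matrix.smul_mulVec, Matrix.one_mulVec, Matrix.smul_mulVec, Matrix.one_mulVec, sympForm_smul_left,
        sympForm_smul_right, hv, mul_one] at this
      exact this
    obtain ⟨k, hk⟩ := (Fact.out : r.Prime).odd_of_ne_two hr2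
    rw [hk, pow_succ, pow_mul, pow_two, hzz, one_pow, one_mul] at h1
    rw [hz, h1, one_smul]
  rintro ⟨U, W, hc, hU, hW, hor⟩
  have hcases : U.map g = U ∧ W.map g = W := by
    rcases hor with h | h
    · exact h
    · exfalso
      have hit : ∀ k : ℕ, U.map (g ^ (2 * k + 1)) = W := by
        intro k
        induction k with
        | zero => rw [pow_one]; exact h.1
        | succ k ih =>
          rw [show 2 * (k + 1) + 1 = 1 + (1 + (2 * k + 1)) by ring, pow_add, pow_add, pow_one,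
            Module.End.mul_eq_comp, Module.End.mul_eq_comp, Submodule.map_comp, Submodule.map_comp, ih]
          rw [show W.map g = U from h.2]; exact h.1
      obtain ⟨k, hk⟩ := (Fact.out : r.Prime).odd_of_ne_two hr2
      have h' := hit k
      rw [← hk, hgr, Module.End.one_eq_id, Submodule.map_id] at h'
      have hd' := hc.disjoint
      rw [h', disjoint_self] at hd'
      have h3 := (finrank_pair (U := U) (W := W) ⟨hc, hU, hW⟩).2
      rw [hd', finrank_bot] at h3
      omega
  have hUg : ∀ u ∈ U, g u ∈ U := fun u hu => by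
    have := Submodule.mem_map_of_mem (f := g) hu
    rwa [hcases.1] at this
  have hWg : ∀ u ∈ W, g u ∈ W := fun u hu => by
    have := Submodule.mem_map_of_mem (f := g) hu
    rwa [hcases.2] at this
  have key : ∀ {U W : Submodule F (Fin (b + c) ⊕ Fin (b + c) → F)}, IsCompl U W →
      (∀ u ∈ U, ∀ v ∈ U, sympForm (b + c) F u v = 0) → (∀ u ∈ U, g u ∈ U) → W.map (g - 1) = ⊥ → U.map (g - 1) = ⊥ := by
    intro U W hc hU hg hW0
    rw [← le_bot_iff, Submodule.map_le_iff_le_comap]
    intro u hu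
    rw [Submodule.mem_comap, Submodule.mem_bot]
    refine eq_zero_of_pairing hc hU (U.sub_mem (hg u hu) hu) fun w hw => ?_
    have hgw : g w = w := by
      have : (g - 1) w ∈ W.map (g - 1) := Submodule.mem_map_of_mem hw
      rw [hW0, Submodule.mem_bot] at this
      exact sub_eq_zero.1 this
    show sympForm (b + c) F (g u - u) w = 0
    rw [sympForm_sub_left, sub_eq_zero]
    conv_lhs => rw [← hgw]
    exact sympForm_map x u w
  have hrank : Module.finrank F (LinearMap.range (g - 1)) ≤ 2 * b := by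
    have hg1 : g - 1 = Matrix.toLinAlgEquiv'
        ((x : Matrix (Fin (b + c) ⊕ Fin (b + c)) (Fin (b + c) ⊕ Fin (b + c)) F) - 1) := by rw [map_sub, map_one]
    rw [hg1]
    show Matrix.rank _ ≤ 2 * b
    rw [sympBlockFun_val]
    exact rank_blockMat_sub_one _
  have hdis : Module.finrank F (U.map (g - 1)) + Module.finrank F (W.map (g - 1)) ≤ 2 * b := by
    refine le_trans ?_ hrank
    have h1 : U.map (g - 1) ⊓ W.map (g - 1) = ⊥ := by
      rw [← le_bot_iff]
      rintro v ⟨⟨u, hu, rfl⟩, ⟨w, hw, e⟩⟩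
      exact hc.disjoint.le_bot ⟨U.sub_mem (hUg u hu) hu, e ▸ W.sub_mem (hWg w hw) hw⟩
    have h2 := Submodule.finrank_sup_add_finrank_inf_eq (U.map (g - 1)) (W.map (g - 1))
    rw [h1, finrank_bot, add_zero] at h2
    rw [← h2]
    exact Submodule.finrank_mono (sup_le (LinearMap.map_le_range) (LinearMap.map_le_range))
  have hor2 : U.map (g - 1) = ⊥ ∨ W.map (g - 1) = ⊥ := by
    by_contra hcon
    push Not at hcon
    have h1 := Nat.le_of_dvd (Nat.pos_of_ne_zero fun e => hcon.1 (Submodule.finrank_eq_zero.1 e))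
      (dvd_sub_of_pow_eq_one (Fact.out : r.Prime) hrq g hgr U hUg)
    have h3 := Nat.le_of_dvd (Nat.pos_of_ne_zero fun e => hcon.2 (Submodule.finrank_eq_zero.1 e))
      (dvd_sub_of_pow_eq_one (Fact.out : r.Prime) hrq g hgr W hWg)
    omega
  have hboth : U.map (g - 1) = ⊥ ∧ W.map (g - 1) = ⊥ := by
    rcases hor2 with h | h
    · exact ⟨h, key hc.symm hW hWg h⟩
    · exact ⟨key hc hU hUg h, h⟩
  refine hx1 (Matrix.toLinAlgEquiv'.injective ?_)
  rw [map_one, ← sub_eq_zero]
  rw [← LinearMap.range_eq_bot, LinearMap.range_eq_map, ← hc.sup_eq_top, Submodule.map_sup, hboth.1, hboth.2, sup_bot_eq]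

end Cfsg.Agent.S5963
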