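import Cfsg.Statements.S5964
import Cfsg.Agent.Lib.Classical.InvolutionPairs
import Cfsg.Agent.Lib.Classical.MaxRational
import Cfsg.Agent.Lib.Classical.AschOrth
-- import your own Cfsg.Agent.* helpers here

set_option autoImplicit false
open scoped MatrixGroups
open Cfsg Cfsg.Agent

namespace Cfsg.Agent.S5964
open Matrix Module

variable {F : Type*} [Field F] [Fintype F]

theorem odd_pow_sub_factor {a k : ℕ} (ha : Odd a) (hk : Odd k) : ∃ m, Odd m ∧ a ^ k - 1 = (a - 1) * m := by
  refine ⟨∑ i ∈ Finset.range k, a ^ i, ?_, by rw [mul_comm, geom_sum_mul_of_one_le ha.pos k]⟩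
  rw [Finset.odd_sum_iff_odd_card_odd, Finset.filter_true_of_mem (fun i _ => ha.pow), Finset.card_range]
  exact hk

/-- The index is odd for odd `q` and odd degree. -/
theorem index_odd {n : ℕ} (hn : 1 ≤ n) (F₀ : Subfield F) {q₀ k : ℕ} (hF₀ : Nat.card F₀ = q₀)
    (hqk : Fintype.card F = q₀ ^ k) (hk : Odd k) (hq : Odd (Fintype.card F)) :
    Odd ((Geo.subfieldSubgroup F₀ 1).comap (Matrix.SpecialLinearGroup.toGL : Matrix.SpecialLinearGroup (Fin n) F →* GL (Fin n) F)).index := by
  classical
  haveI := Fintype.ofFinite F₀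
  have ha : Odd q₀ := by rw [hqk] at hq; exact (Nat.odd_pow_iff hk.pos.ne').1 hq
  have hF₀' : Fintype.card F₀ = q₀ := by rw [← Nat.card_eq_fintype_card, hF₀]
  set ψ : Matrix.SpecialLinearGroup (Fin n) F₀ →* Matrix.SpecialLinearGroup (Fin n) F :=
    Matrix.SpecialLinearGroup.map F₀.subtype
  set S := (Geo.subfieldSubgroup F₀ 1).comap
    (Matrix.SpecialLinearGroup.toGL : Matrix.SpecialLinearGroup (Fin n) F →* GL (Fin n) F)
  have hinj : Function.Injective ψ := fun g h e => Subtype.ext (Matrix.ext fun i j =>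
    Subtype.ext (congrFun (congrFun (congrArg Subtype.val e) i) j))
  have hψ : ψ.range ≤ S := by
    rintro _ ⟨g, rfl⟩
    refine Classical.Asch.mem_subfieldSubgroup_one F₀ 1 _ fun i j => ?_
    simp only [inv_one, one_mul, mul_one]
    exact ((g : Matrix (Fin n) (Fin n) F₀) i j).2
  refine Odd.of_dvd_nat ?_ (Subgroup.index_dvd_of_le hψ)
  set m := ψ.range.index
  have h1 : m * Nat.card (Matrix.SpecialLinearGroup (Fin n) F₀) = Nat.card (Matrix.SpecialLinearGroup (Fin n) F) := by
    rw [← Subgroup.index_mul_card ψ.range, ← Nat.card_congr (MonoidHom.ofInjective hinj).toEquiv]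
  have hgl : ∀ (K : Type _) [Field K] [Fintype K],
      Nat.card (Matrix.SpecialLinearGroup (Fin n) K) * (Fintype.card K - 1) = ∏ i : Fin n, (Fintype.card K ^ n - Fintype.card K ^ (i : ℕ)) := by
    intro K _ _
    rw [← Matrix.card_GL_field]
    let D : GL (Fin n) K →* Kˣ := Matrix.GeneralLinearGroup.det
    have hD : Function.Surjective D := fun u => by
      refine ⟨Matrix.GeneralLinearGroup.mkOfDetNeZero (diagonal (Function.update (1 : Fin n → K) ⟨0, hn⟩ (u : K))) ?_, Units.ext ?_⟩
      · rw [det_diagonal, Finset.prod_update_of_mem (Finset.mem_univ _)]; simp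
      · show (diagonal (Function.update (1 : Fin n → K) ⟨0, hn⟩ (u : K))).det = _
        rw [det_diagonal, Finset.prod_update_of_mem (Finset.mem_univ _)]; simp
    have hker : D.ker = (Matrix.SpecialLinearGroup.toGL : Matrix.SpecialLinearGroup (Fin n) K →* GL (Fin n) K).range := by
      ext g
      rw [MonoidHom.mem_ker]
      exact ⟨fun h => ⟨⟨_, congrArg Units.val h⟩, Units.ext rfl⟩, fun ⟨a, ha⟩ => ha ▸ Units.ext a.2⟩
    rw [← Subgroup.card_mul_index D.ker, Subgroup.index_ker, MonoidHom.range_eq_top.2 hD, Subgroup.card_top,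
      Nat.card_units, Nat.card_eq_fintype_card (α := K), hker,
      ← Nat.card_congr (MonoidHom.ofInjective Matrix.SpecialLinearGroup.toGL_injective).toEquiv]
  have hG := hgl F
  have hG₀ := hgl F₀
  rw [hF₀'] at hG₀
  rw [← h1, hqk] at hG
  have hprod : ∀ a : ℕ, ∏ i : Fin n, (a ^ n - a ^ (i : ℕ)) =
      (∏ i : Fin n, a ^ (i : ℕ)) * ∏ i ∈ Finset.range n, (a ^ (i + 1) - 1) := fun a => by
    rw [← Finset.prod_range_reflect (fun i => a ^ (i + 1) - 1), ← Fin.prod_univ_eq_prod_range, ← Finset.prod_mul_distrib]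
    refine Finset.prod_congr rfl fun i _ => ?_
    rw [Nat.mul_sub, mul_one, ← pow_add, show (i : ℕ) + (n - 1 - (i : ℕ) + 1) = n by omega]
  rw [hprod] at hG hG₀
  obtain ⟨c, hc, hck⟩ := odd_pow_sub_factor ha hk
  choose e he hek using fun i : ℕ => odd_pow_sub_factor (ha.pow (n := i + 1)) hk
  have hsplit : ∏ i ∈ Finset.range n, ((q₀ ^ k) ^ (i + 1) - 1) =
      (∏ i ∈ Finset.range n, (q₀ ^ (i + 1) - 1)) * ∏ i ∈ Finset.range n, e i := by
    rw [← Finset.prod_mul_distrib]
    refine Finset.prod_congr rfl fun i _ => ?_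
    rw [← hek, ← pow_mul, ← pow_mul, mul_comm]
  rw [hsplit, hck] at hG
  set P₀ := ∏ i ∈ Finset.range n, (q₀ ^ (i + 1) - 1)
  set Q₀ := ∏ i : Fin n, q₀ ^ (i : ℕ)
  set Qk := ∏ i : Fin n, (q₀ ^ k) ^ (i : ℕ)
  set E := ∏ i ∈ Finset.range n, e i
  have hoE : Odd E := Finset.prod_induction e Odd (fun _ _ h1 h2 => h1.mul h2) odd_one fun i _ => he i
  have hoQ : Odd Qk := Finset.prod_induction _ Odd (fun _ _ h1 h2 => h1.mul h2) odd_one fun i _ => ha.pow.pow
  have hP : 0 < P₀ := Finset.prod_pos fun i _ => by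
    have h1 : 1 < q₀ := hF₀' ▸ Fintype.one_lt_card
    have := Nat.le_self_pow (show i + 1 ≠ 0 by omega) q₀
    omega
  have key : (m * c * Q₀) * P₀ = (Qk * E) * P₀ := by
    calc (m * c * Q₀) * P₀ = m * c * (Q₀ * P₀) := by ring
      _ = m * c * (Nat.card (Matrix.SpecialLinearGroup (Fin n) F₀) * (q₀ - 1)) := by rw [hG₀]
      _ = m * Nat.card (Matrix.SpecialLinearGroup (Fin n) F₀) * ((q₀ - 1) * c) := by ring
      _ = _ := by rw [hG]; ring
  have h2 := Nat.eq_of_mul_eq_mul_right hP key
  refine Odd.of_dvd_nat (hoQ.mul hoE) ?_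
  rw [← h2, mul_assoc]
  exact dvd_mul_right _ _

/-- A basis in which a square root of a square is monomial with signs, and centralisers of every determinant. -/
theorem exists_sign_basis {ι₀ : Type*} [Fintype ι₀] (hι : 0 < Fintype.card ι₀) {g : (ι₀ → F) →ₗ[F] (ι₀ → F)} {z s : F}
    (hs : s * s = z) (hs0 : s ≠ 0) (hg : ∀ v, g (g v) = z • v) :
    ∃ (ι : Type) (_ : Fintype ι) (_ : DecidableEq ι) (b : Module.Basis ι F (ι₀ → F)) (τ : ι → ι) (ε : ι → F),
      Function.Involutive τ ∧ (∀ i, g (b i) = (s * ε i) • b (τ i)) ∧ (∀ i, ε i = 1 ∨ ε i = -1) ∧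
      ∀ c : F, ∃ d : ι → F, (∀ i, d (τ i) = d i) ∧ ∏ i, d i = c := by
  classical
  by_cases h2 : s + s = 0
  · obtain ⟨ι, _, _, b₀, τ, hτ, hb⟩ := InvolutionDecomp.exists_monomial_basis hg
    choose co hco using fun i => Submodule.mem_span_singleton.1 (hb i)
    have hmul : ∀ i, co i * co (τ i) = z := fun i => by
      have h := hg (b₀ i)
      rw [← hco i, map_smul, ← hco (τ i), hτ i, smul_smul] at h
      exact smul_left_injective F (b₀.ne_zero i) h
    have h2F : (2 : F) = 0 := by
      rcases mul_eq_zero.1 (show (2 : F) * s = 0 by linear_combination h2) with h | h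
      · exact h
      · exact absurd h hs0
    have hfix : ∀ i, τ i = i → co i = s := fun i hi => by
      have h := hmul i
      rw [hi, ← hs] at h
      have h0 : (co i - s) * (co i - s) = 0 := by linear_combination h + (s * s - co i * s) * h2F
      exact sub_eq_zero.1 (mul_self_eq_zero.1 h0)
    let rk := Fintype.equivFin ι
    let c : ι → F := fun i => if rk i ≤ rk (τ i) then 1 else co (τ i) / s
    have hc0 : ∀ i, c i ≠ 0 := fun i => by
      have : co (τ i) ≠ 0 := fun h => by
        have hh := hmul i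
        rw [h, mul_zero, ← hs] at hh
        exact mul_ne_zero hs0 hs0 hh.symm
      simp only [c]; split_ifs
      · exact one_ne_zero
      · exact div_ne_zero this hs0
    refine ⟨ι, inferInstance, inferInstance, b₀.isUnitSMul (fun i => (hc0 i).isUnit), τ, fun _ => 1, hτ, fun i => ?_,
      fun _ => Or.inl rfl, fun δ => ?_⟩
    · rw [Module.Basis.isUnitSMul_apply, Module.Basis.isUnitSMul_apply, map_smul, ← hco i, smul_smul, smul_smul, mul_one]
      congr 1
      simp only [c]
      rcases lt_trichotomy (rk i) (rk (τ i)) with h | h | h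
      · rw [if_pos h.le, hτ i, if_neg (not_le.2 h), one_mul, mul_div_cancel₀ _ hs0]
      · have hi : τ i = i := rk.injective h.symm
        simp [hi, hfix i hi]
      · rw [if_neg (not_le.2 h), hτ i, if_pos h.le, mul_one]
        rw [div_mul_eq_mul_div, mul_comm, hmul, ← hs, mul_div_assoc, div_self hs0, mul_one]
    · haveI : CharP F 2 := CharTwo.of_one_ne_zero_of_two_eq_zero one_ne_zero h2F
      obtain ⟨i₀⟩ : Nonempty ι := by
        by_contra h
        rw [not_nonempty_iff] at h
        have := Module.finrank_eq_card_basis b₀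
        rw [Module.finrank_fintype_fun_eq_card, Fintype.card_eq_zero (α := ι)] at this
        omega
      obtain ⟨r, hr⟩ := FiniteField.isSquare_of_char_two (ringChar.eq F 2) δ
      by_cases hi : τ i₀ = i₀
      · refine ⟨Function.update 1 i₀ δ, fun i => ?_, by rw [Finset.prod_update_of_mem (Finset.mem_univ _)]; simp⟩
        by_cases h : i = i₀
        · subst h; rw [hi]
        · rw [Function.update_of_ne h, Function.update_of_ne (fun h' => h (hτ.injective (h'.trans hi.symm)))]; rfl
      · refine ⟨fun i => if i = i₀ ∨ i = τ i₀ then r else 1, fun i => ?_, ?_⟩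
        · have e1 : τ i = i₀ ↔ i = τ i₀ := ⟨fun h => by rw [← h, hτ i], fun h => by rw [h, hτ i₀]⟩
          have e2 : τ i = τ i₀ ↔ i = i₀ := hτ.injective.eq_iff
          simp [e1, e2, or_comm]
        · rw [Finset.prod_ite]
          have hf : Finset.univ.filter (fun i => i = i₀ ∨ i = τ i₀) = {i₀, τ i₀} := by ext i; simp
          rw [hf, Finset.prod_pair (Ne.symm hi), Finset.prod_const_one, mul_one, hr]
  · set Kp := LinearMap.ker (g - s • LinearMap.id)
    set Km := LinearMap.ker (g + s • LinearMap.id)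
    have hp : ∀ v ∈ Kp, g v = s • v := fun v hv => sub_eq_zero.1 (by simpa [Kp] using hv)
    have hm : ∀ v ∈ Km, g v = (-s) • v := fun v hv => by
      rw [neg_smul]; exact eq_neg_of_add_eq_zero_left (by simpa [Km] using hv)
    have hc : IsCompl Kp Km := by
      constructor
      · rw [Submodule.disjoint_def]
        intro x h1 h3
        have h4 : (s + s) • x = 0 := by
          have h5 := (hp x h1).symm.trans (hm x h3)
          rw [neg_smul, eq_neg_iff_add_eq_zero, ← add_smul] at h5
          exact h5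
        exact (smul_eq_zero.1 h4).resolve_left h2
      · rw [codisjoint_iff, eq_top_iff]
        intro x _
        rw [show x = (s + s)⁻¹ • (g x + s • x) + (-(s + s)⁻¹) • (g x - s • x) by
          rw [neg_smul, ← sub_eq_add_neg, ← smul_sub, show g x + s • x - (g x - s • x) = (s + s) • x by
            rw [add_smul]; abel, smul_smul, inv_mul_cancel₀ h2, one_smul]]
        refine Submodule.add_mem_sup (Submodule.smul_mem _ _ ?_) (Submodule.smul_mem _ _ ?_) <;>
          simp only [Kp, Km, LinearMap.mem_ker, LinearMap.sub_apply, LinearMap.add_apply, LinearMap.smul_apply,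
            LinearMap.id_coe, id_eq, map_add, map_sub, map_smul, hg, smul_add, smul_sub, smul_smul, hs] <;> abel
    let bb := ((Module.finBasis F Kp).prod (Module.finBasis F Km)).map (Submodule.prodEquivOfIsCompl _ _ hc)
    refine ⟨_, inferInstance, inferInstance, bb, id, Sum.elim (fun _ => 1) fun _ => -1, fun _ => rfl, fun i => ?_,
      fun i => by rcases i with i | i <;> simp, fun δ => ?_⟩
    · rcases i with i | i
      · rw [id_eq, hp _ (by simp [bb])]; simp
      · rw [id_eq, hm _ (by simp [bb])]; simp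
    · obtain ⟨i₀⟩ : Nonempty (Fin (finrank F Kp) ⊕ Fin (finrank F Km)) := by
        rw [← Fintype.card_pos_iff, ← Module.finrank_eq_card_basis bb, Module.finrank_fintype_fun_eq_card]
        exact hι
      exact ⟨Function.update 1 i₀ δ, fun i => rfl, by rw [Finset.prod_update_of_mem (Finset.mem_univ _)]; simp⟩

/-- An element squaring to a square is conjugate into the subfield group. -/
theorem exists_conj {n : ℕ} (hn : 1 ≤ n) (F₀ : Subfield F) (x : Matrix.SpecialLinearGroup (Fin n) F) {s : F}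
    (hs : (x : Matrix (Fin n) (Fin n) F) * (x : Matrix (Fin n) (Fin n) F) = (s * s) • 1) :
    ∃ P : Matrix.SpecialLinearGroup (Fin n) F, P⁻¹ * x * P ∈ ((Geo.subfieldSubgroup F₀ 1).comap
      (Matrix.SpecialLinearGroup.toGL : Matrix.SpecialLinearGroup (Fin n) F →* GL (Fin n) F)) := by
  classical
  have hs0 : s ≠ 0 := fun h => by
    have hh := congrArg Matrix.det hs
    rw [det_mul, x.2, h, mul_zero, det_smul, Fintype.card_fin, zero_pow (by omega)] at hh
    simp at hh
  set g := Matrix.toLin' (x : Matrix (Fin n) (Fin n) F)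
  have hg : ∀ v, g (g v) = (s * s) • v := fun v => by
    rw [Matrix.toLin'_apply, Matrix.toLin'_apply, mulVec_mulVec, hs, smul_mulVec, one_mulVec]
  obtain ⟨ι, _, _, b, τ, ε, hτ, hb, hε, hd⟩ := exists_sign_basis (by rw [Fintype.card_fin]; omega) rfl hs0 hg
  let e : ι ≃ Fin n := Fintype.equivFinOfCardEq (by rw [← Module.finrank_eq_card_basis b, Module.finrank_fin_fun])
  set B : Matrix (Fin n) (Fin n) F := Matrix.of fun i j => b (e.symm j) i
  have hcol : ∀ j, B *ᵥ Pi.single j 1 = b (e.symm j) := fun j => by rw [mulVec_single_one]; rfl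
  have hBu : B.det ≠ 0 := by
    rw [← isUnit_iff_ne_zero, ← Matrix.isUnit_iff_isUnit_det, ← Matrix.linearIndependent_cols_iff_isUnit]
    exact b.linearIndependent.comp _ e.symm.injective
  set A : Matrix (Fin n) (Fin n) F := Matrix.of fun i j => if i = e (τ (e.symm j)) then ε (e.symm j) else 0
  have hxB : (x : Matrix (Fin n) (Fin n) F) * B = B * (s • A) := by
    refine Matrix.ext_of_mulVec_single fun j => ?_
    rw [← mulVec_mulVec, ← mulVec_mulVec, hcol, ← Matrix.toLin'_apply]
    show g (b (e.symm j)) = _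
    have hA : (s • A) *ᵥ Pi.single j 1 = (s * ε (e.symm j)) • Pi.single (e (τ (e.symm j))) 1 := by
      funext i
      rw [mulVec_single_one]
      simp [A, Matrix.col_apply, Pi.single_apply]
    rw [hA, mulVec_smul, hcol, hb, Equiv.symm_apply_apply]
  obtain ⟨d, hdτ, hdp⟩ := hd (B.det)⁻¹
  set C : Matrix (Fin n) (Fin n) F := diagonal fun i => d (e.symm i)
  have hCd : C.det = (B.det)⁻¹ := by
    rw [det_diagonal, Equiv.prod_comp e.symm d, hdp]
  have hAC : A * C = C * A := by
    ext i j
    rw [mul_diagonal, diagonal_mul]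
    simp only [A, Matrix.of_apply]
    split_ifs with h
    · rw [h, Equiv.symm_apply_apply, hdτ, mul_comm]
    · simp
  let Ps : Matrix.SpecialLinearGroup (Fin n) F := ⟨B * C, by rw [det_mul, hCd, mul_inv_cancel₀ hBu]⟩
  refine ⟨Ps, ?_⟩
  have hval : (Ps⁻¹).1 * (x : Matrix (Fin n) (Fin n) F) * (B * C) = s • A := by
    rw [mul_assoc, ← mul_assoc (x : Matrix (Fin n) (Fin n) F), hxB, mul_assoc B, Matrix.smul_mul, hAC, ← Matrix.mul_smul,
      ← mul_assoc B, ← mul_assoc, show (Ps⁻¹).1 * (B * C) = 1 from congrArg Subtype.val (inv_mul_cancel Ps), one_mul]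
  refine Classical.MaxTv.mem_subfieldSubgroup_of (a := s⁻¹) (inv_ne_zero hs0) fun v hv i => ?_
  show ((((1 : GL (Fin n) F)⁻¹ : GL (Fin n) F) : Matrix (Fin n) (Fin n) F) *ᵥ
    (s⁻¹ • (((Ps⁻¹).1 * (x : Matrix (Fin n) (Fin n) F) * (B * C)) *ᵥ v))) i ∈ F₀
  rw [hval, inv_one, Units.val_one, one_mulVec, smul_mulVec, smul_smul, inv_mul_cancel₀ hs0, one_smul]
  show ∑ j, A i j * v j ∈ F₀
  refine F₀.sum_mem fun j _ => F₀.mul_mem ?_ ?_
  · simp only [A, Matrix.of_apply]
    split_ifs
    · rcases hε (e.symm j) with h | h <;> rw [h]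
      · exact F₀.one_mem
      · exact F₀.neg_mem F₀.one_mem
    · exact F₀.zero_mem
  · have := hv j
    rwa [inv_one, Units.val_one, one_mulVec] at this

/-- A square root of a non-square: the dimension is even and the determinant is a power. -/
theorem det_of_nonsquare {n : ℕ} (X : Matrix (Fin n) (Fin n) F) {z : F} (hz : ¬ IsSquare z) (hX : X * X = z • 1) :
    ∃ j, n = 2 * j ∧ X.det = (-z) ^ j := by
  classical
  set g := Matrix.toLin' X
  have hg : ∀ v, g (g v) = z • v := fun v => by
    rw [Matrix.toLin'_apply, Matrix.toLin'_apply, mulVec_mulVec, hX, smul_mulVec, one_mulVec]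
  obtain ⟨j, v, hli, h⟩ := InvolutionDecomp.exists_pairs hz hg (n + 1)
  have htop := h.resolve_left fun hj => by
    have := hli.fintype_card_le_finrank
    rw [Fintype.card_sum, Fintype.card_fin, Module.finrank_fin_fun] at this
    omega
  let bb := Module.Basis.mk hli htop.ge
  have hj : n = 2 * j := by
    have := Module.finrank_eq_card_basis bb
    rw [Module.finrank_fin_fun, Fintype.card_sum, Fintype.card_fin] at this
    omega
  let e : Fin 2 × Fin j ≃ Fin j ⊕ Fin j :=
    ⟨fun x => ![Sum.inl x.2, Sum.inr x.2] x.1, Sum.elim (fun i => (0, i)) fun i => (1, i),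
      fun x => by obtain ⟨k, i⟩ := x; fin_cases k <;> simp, fun x => by rcases x with i | i <;> simp⟩
  let b := bb.reindex e.symm
  refine ⟨j, hj, ?_⟩
  have hM : LinearMap.toMatrix b b g = blockDiagonal fun _ : Fin j => (!![0, z; 1, 0] : Matrix (Fin 2) (Fin 2) F) := by
    ext ⟨l, i'⟩ ⟨k, i⟩
    rw [LinearMap.toMatrix_apply, blockDiagonal_apply]
    have hgb : g (b (k, i)) = (!![0, z; 1, 0] : Matrix (Fin 2) (Fin 2) F) 0 k • b (0, i) +
        (!![0, z; 1, 0] : Matrix (Fin 2) (Fin 2) F) 1 k • b (1, i) := by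
      fin_cases k <;> simp [b, bb, e, hg]
    rw [hgb, map_add, map_smul, map_smul, Module.Basis.repr_self, Module.Basis.repr_self, Finsupp.add_apply,
      Finsupp.smul_apply, Finsupp.smul_apply, Finsupp.single_apply, Finsupp.single_apply]
    by_cases h : i' = i
    · subst h
      fin_cases l <;> fin_cases k <;> simp
    · simp [h, Ne.symm h]
  rw [← LinearMap.det_toLin' X, show Matrix.toLin' X = g from rfl, ← LinearMap.det_toMatrix b g, hM, det_blockDiagonal]
  simp [det_fin_two_of]


/-- Involutions of PSL_n(q) and subfield subgroups. Here `T = PSL_n(F)` for a field `F` with `q = p^f` elements (`n ≥ 2`, `(n, q) ≠ (2, 2), (2, 3)`), `F₀` is the subfield with `q₀` elements where `q = q₀^k` for a prime `k`, and `H` is the subgroup of matrices of determinant 1 lying in the subfield group of `F₀` (invertible matrices over `F₀` times scalars) — a maximal subgroup of type GL_n(q₀) (the case `n = 2`, `q₀ = 2` is excluded); Ω is the set of `T`-conjugates of `H` (cosets of `H`), so an element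 of `T` of prime order `r` (a matrix `x` of determinant 1 with `x^r` scalar, `x` not scalar) fixes a point of Ω when some conjugate of `x` by a matrix of determinant 1 lies in `H`. Suppose the index of `H` is even. Then every involution of `T` is conjugate in `T` into `H` if and only if either `q` is even, or `k = 2` and `(n)_2 ≤ (q − 1)_2`. (For `q` odd and `k` odd the index of `H` is odd, so that case does not arise.) -/
theorem result {F : Type*} [Field F] [Fintype F] {p : ℕ} [Fact p.Prime] [CharP F p] {q : ℕ} (hq : Fintype.card F = q)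
    (n : ℕ) (hn : 2 ≤ n) (hT : (n, q) ≠ (2, 2) ∧ (n, q) ≠ (2, 3))
    (F₀ : Subfield F) (k q₀ : ℕ) (hk : k.Prime) (hF₀ : Nat.card ↥F₀ = q₀) (hqk : q = q₀ ^ k) (hC5 : ¬ (n = 2 ∧ q₀ = 2)) (hΩ : 2 ∣ ((Cfsg.Geo.subfieldSubgroup F₀ 1).comap (Matrix.SpecialLinearGroup.toGL : Matrix.SpecialLinearGroup (Fin n) F →* GL (Fin n) F)).index) :
    (∀ x : Matrix.SpecialLinearGroup (Fin n) F,
      (∃ z : F, ((x ^ 2 : Matrix.SpecialLinearGroup (Fin n) F) : Matrix (Fin n) (Fin n) F) = z • (1 : Matrix (Fin n) (Fin n) F)) →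
      (∀ z : F, (x : Matrix (Fin n) (Fin n) F) ≠ z • (1 : Matrix (Fin n) (Fin n) F)) →
      ∃ P : Matrix.SpecialLinearGroup (Fin n) F, P⁻¹ * x * P ∈ ((Cfsg.Geo.subfieldSubgroup F₀ 1).comap (Matrix.SpecialLinearGroup.toGL : Matrix.SpecialLinearGroup (Fin n) F →* GL (Fin n) F))) ↔
    (Odd q → (k = 2 ∧ padicValNat 2 n ≤ padicValNat 2 (q - 1))) := by

  classical
  subst hq
  haveI := Fintype.ofFinite F₀
  have hF₀' : Fintype.card F₀ = q₀ := by rw [← Nat.card_eq_fintype_card, hF₀]
  have hsqrt : ∀ z : F, ∀ x : Matrix.SpecialLinearGroup (Fin n) F,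
      (x : Matrix (Fin n) (Fin n) F) * (x : Matrix (Fin n) (Fin n) F) = z • 1 → IsSquare z →
      ∃ P : Matrix.SpecialLinearGroup (Fin n) F, P⁻¹ * x * P ∈ ((Geo.subfieldSubgroup F₀ 1).comap
        (Matrix.SpecialLinearGroup.toGL : Matrix.SpecialLinearGroup (Fin n) F →* GL (Fin n) F)) := by
    rintro z x hx ⟨s, rfl⟩
    exact exists_conj (by omega) F₀ x hx
  constructor
  · intro H hqo
    have hk2 : k = 2 := by
      by_contra h
      exact Nat.not_even_iff_odd.2 (index_odd (by omega) F₀ hF₀ hqk (hk.odd_of_ne_two h) hqo)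
        (even_iff_two_dvd.2 hΩ)
    refine ⟨hk2, ?_⟩
    subst hk2
    by_contra hv
    push Not at hv
    have hq₀ : Odd q₀ := by rw [hqk] at hqo; exact (Nat.odd_pow_iff two_ne_zero).1 hqo
    set v := padicValNat 2 (Fintype.card F - 1) with hvdef
    have hN0 : Fintype.card F - 1 ≠ 0 := by have := Fintype.one_lt_card (α := F); omega
    obtain ⟨j, rfl⟩ : 2 ∣ n := dvd_trans (dvd_pow_self 2 (show padicValNat 2 n ≠ 0 by omega)) pow_padicValNat_dvd
    have hvj : 2 ^ v ∣ j := by
      have h1 : 2 ^ (v + 1) ∣ 2 * j := (pow_dvd_pow 2 hv).trans pow_padicValNat_dvd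
      rw [pow_succ'] at h1
      exact Nat.dvd_of_mul_dvd_mul_left two_pos h1
    obtain ⟨ζ, hζ⟩ := IsCyclic.exists_ofOrder_eq_natCard (α := Fˣ)
    rw [Nat.card_units, Nat.card_eq_fintype_card] at hζ
    obtain ⟨c, hc⟩ : 2 ^ v ∣ Fintype.card F - 1 := pow_padicValNat_dvd
    set t : Fˣ := ζ ^ c
    have ht : orderOf t = 2 ^ v := by
      rw [orderOf_pow_of_dvd (fun h => hN0 (by rw [hc, h, mul_zero])) (hζ ▸ Dvd.intro_left _ hc.symm), hζ, hc,
        Nat.mul_div_cancel _ (Nat.pos_of_ne_zero fun h => hN0 (by rw [hc, h, mul_zero]))]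
    set w : F := (t : F) with hw
    have hwns : ¬ IsSquare w := by
      rintro ⟨u, hu⟩
      have hu0 : u ≠ 0 := fun h => t.ne_zero (by rw [← hw, hu, h, mul_zero])
      set o := orderOf (Units.mk0 u hu0)
      have hoq : o ∣ Fintype.card F - 1 := by rw [← Nat.card_eq_fintype_card, ← Nat.card_units]; exact orderOf_dvd_natCard _
      have h1 : orderOf (Units.mk0 u hu0 ^ 2) = 2 ^ v := by
        rw [← ht]; congr 1; ext; rw [Units.val_pow_eq_pow_val, Units.val_mk0, pow_two, ← hu]
      have h2o : 2 ∣ o := by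
        by_contra h
        have h2 : orderOf (Units.mk0 u hu0 ^ 2) = o :=
          Nat.Coprime.orderOf_pow ((Nat.prime_two.coprime_iff_not_dvd.2 h).symm)
        rw [h1] at h2
        have hv1 : v ≠ 0 := fun h0 => by
          have hd2 : 2 ∣ Fintype.card F - 1 := by rw [Nat.odd_iff] at hqo; omega
          have := one_le_padicValNat_of_dvd hN0 hd2
          omega
        exact h (h2 ▸ dvd_pow_self 2 hv1)
      rw [orderOf_pow_of_dvd two_ne_zero h2o] at h1
      have h3 : 2 ^ (v + 1) ∣ Fintype.card F - 1 := by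
        rw [pow_succ, ← h1, Nat.div_mul_cancel h2o]; exact hoq
      exact pow_succ_padicValNat_not_dvd hN0 h3
    have hwj : w ^ j = 1 := by
      rw [hw, ← Units.val_pow_eq_pow_val, orderOf_dvd_iff_pow_eq_one.1 (ht ▸ hvj), Units.val_one]
    have h4 : Fintype.card F % 4 = 1 := by
      rw [hqk, pow_two, Nat.mul_mod]
      have := Nat.odd_iff.1 hq₀
      rcases (show q₀ % 4 = 1 ∨ q₀ % 4 = 3 by omega) with h | h <;> rw [h]
    obtain ⟨im, him⟩ : IsSquare (-1 : F) := FiniteField.isSquare_neg_one_iff.2 (by omega)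
    set z : F := -w
    have hzns : ¬ IsSquare z := fun h => hwns (by
      have := h.mul (show IsSquare (-1 : F) from ⟨im, him⟩)
      simpa [z] using this)
    let e : Fin 2 × Fin j ≃ Fin (2 * j) := finProdFinEquiv
    let X₀ : Matrix (Fin 2 × Fin j) (Fin 2 × Fin j) F := blockDiagonal fun _ => !![0, z; 1, 0]
    let Φ := Matrix.reindexAlgEquiv F F e
    let x : Matrix.SpecialLinearGroup (Fin (2 * j)) F := ⟨Φ X₀, by
      rw [Matrix.det_reindexAlgEquiv, det_blockDiagonal]
      simp [det_fin_two_of, z, hwj]⟩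
    have hxx : (x : Matrix (Fin (2 * j)) (Fin (2 * j)) F) * (x : Matrix (Fin (2 * j)) (Fin (2 * j)) F) = z • 1 := by
      show Φ X₀ * Φ X₀ = _
      rw [← map_mul, ← blockDiagonal_mul, show (fun _ : Fin j => (!![0, z; 1, 0] : Matrix (Fin 2) (Fin 2) F) * !![0, z; 1, 0]) =
        z • 1 from funext fun _ => by ext a b; fin_cases a <;> fin_cases b <;> simp [Matrix.mul_apply],
        blockDiagonal_smul, blockDiagonal_one, map_smul, map_one]
    obtain ⟨P, hP⟩ := H x ⟨z, by rw [Matrix.SpecialLinearGroup.coe_pow, pow_two, hxx]⟩ (fun c hc => hzns ⟨c, by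
      have h := hxx
      rw [hc, Matrix.smul_mul, Matrix.one_mul, smul_smul] at h
      have h0 := congrFun (congrFun h ⟨0, by omega⟩) ⟨0, by omega⟩
      simpa using h0.symm⟩)
    obtain ⟨a, ha, hrat⟩ := Classical.MaxTv.exists_of_mem_subfieldSubgroup hP
    set Y : Matrix (Fin (2 * j)) (Fin (2 * j)) F :=
      (P⁻¹).1 * (x : Matrix (Fin (2 * j)) (Fin (2 * j)) F) * P.1
    have hYY : Y * Y = z • 1 := by
      rw [show Y * Y = (P⁻¹).1 * ((x : Matrix (Fin (2 * j)) (Fin (2 * j)) F) * (P.1 * (P⁻¹).1) * (x : Matrix (Fin (2 * j)) (Fin (2 * j)) F)) * P.1 by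
        simp only [Y, mul_assoc], show P.1 * (P⁻¹).1 = 1 from congrArg Subtype.val (mul_inv_cancel P), mul_one, hxx,
        Matrix.mul_smul, Matrix.mul_one, Matrix.smul_mul, show (P⁻¹).1 * P.1 = 1 from congrArg Subtype.val (inv_mul_cancel P)]
    have hent : ∀ i l, a * Y i l ∈ F₀ := fun i l => by
      have h := hrat (Pi.single l 1) (fun i' => by
        rw [inv_one, Units.val_one, one_mulVec, Pi.single_apply]
        split_ifs
        · exact F₀.one_mem
        · exact F₀.zero_mem) i
      rw [inv_one, Units.val_one, one_mulVec] at h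
      change (a • (Y *ᵥ Pi.single l 1)) i ∈ F₀ at h
      rwa [mulVec_single_one, Pi.smul_apply, col_apply, smul_eq_mul] at h
    have hmem : a * a * z ∈ F₀ := by
      have h0 := congrFun (congrFun hYY ⟨0, by omega⟩) ⟨0, by omega⟩
      rw [Matrix.smul_apply, Matrix.one_apply_eq, smul_eq_mul, mul_one, Matrix.mul_apply] at h0
      rw [← h0, Finset.mul_sum]
      refine F₀.sum_mem fun l _ => ?_
      rw [show a * a * (Y ⟨0, by omega⟩ l * Y l ⟨0, by omega⟩) = (a * Y ⟨0, by omega⟩ l) * (a * Y l ⟨0, by omega⟩) by ring]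
      exact F₀.mul_mem (hent _ _) (hent _ _)
    refine hzns ?_
    have hz0 : z ≠ 0 := fun h => hzns (h ▸ IsSquare.zero)
    have hsq : IsSquare (a * a * z) := by
      have hne : a * a * z ≠ 0 := mul_ne_zero (mul_ne_zero ha ha) hz0
      rw [FiniteField.isSquare_iff (fun h2 => by
        have := FiniteField.even_card_of_char_two h2
        rw [Nat.odd_iff] at hqo; omega) hne]
      have h1 : (a * a * z) ^ (q₀ - 1) = 1 := by
        have := FiniteField.pow_card_sub_one_eq_one (⟨a * a * z, hmem⟩ : F₀) (fun h => hne (congrArg Subtype.val h))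
        rw [hF₀'] at this
        exact congrArg Subtype.val this
      obtain ⟨b, hb⟩ := hq₀
      have e : Fintype.card F / 2 = (q₀ - 1) * (b + 1) := by
        rw [hqk, hb]
        have : (2 * b + 1) ^ 2 = 2 * ((2 * b + 1 - 1) * (b + 1)) + 1 := by
          rw [Nat.add_sub_cancel]; ring
        omega
      rw [e, pow_mul, h1, one_pow]
    have := hsq.mul (show IsSquare ((a * a)⁻¹) from ⟨a⁻¹, by rw [mul_inv]⟩)
    rwa [mul_comm (a * a) z, mul_inv_cancel_right₀ (mul_ne_zero ha ha)] at this
  · intro hcr x hx1 hx2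
    obtain ⟨z, hz⟩ := hx1
    have hxx : (x : Matrix (Fin n) (Fin n) F) * (x : Matrix (Fin n) (Fin n) F) = z • 1 := by
      rw [← pow_two, ← Matrix.SpecialLinearGroup.coe_pow, hz]
    refine hsqrt z x hxx ?_
    by_contra hns
    have h2 : ringChar F ≠ 2 := fun h => hns (FiniteField.isSquare_of_char_two h z)
    have hqo : Odd (Fintype.card F) := Nat.odd_iff.2 (FiniteField.odd_card_of_char_ne_two h2)
    obtain ⟨hk2, hv⟩ := hcr hqo
    obtain ⟨j, rfl, hdet⟩ := det_of_nonsquare _ hns hxx
    rw [x.2] at hdet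
    subst hk2
    have hq₀ : Odd q₀ := by rw [hqk] at hqo; exact (Nat.odd_pow_iff two_ne_zero).1 hqo
    have h4 : Fintype.card F % 4 = 1 := by
      rw [hqk, pow_two, Nat.mul_mod]
      have := Nat.odd_iff.1 hq₀
      rcases (show q₀ % 4 = 1 ∨ q₀ % 4 = 3 by omega) with h | h <;> rw [h]
    have hm1 : IsSquare (-1 : F) := FiniteField.isSquare_neg_one_iff.2 (by omega)
    have hwns : ¬ IsSquare (-z) := fun h => hns (by simpa using h.mul hm1)
    have hw0 : -z ≠ 0 := fun h => hwns (h ▸ IsSquare.zero)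
    set o := orderOf (Units.mk0 (-z) hw0) with ho
    have hoj : o ∣ j := orderOf_dvd_of_pow_eq_one (Units.ext (by rw [Units.val_pow_eq_pow_val]; exact hdet.symm))
    have hoq : o ∣ Fintype.card F - 1 := by rw [← Nat.card_eq_fintype_card, ← Nat.card_units]; exact orderOf_dvd_natCard _
    set v := padicValNat 2 (Fintype.card F - 1) with hvdef
    have hN0 : Fintype.card F - 1 ≠ 0 := by have := Fintype.one_lt_card (α := F); omega
    have hvo : 2 ^ v ∣ o := by
      by_contra hno
      refine hwns ((FiniteField.isSquare_iff h2 hw0).2 ?_)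
      have hd : o ∣ Fintype.card F / 2 := by
        obtain ⟨M, hM⟩ : 2 ^ v ∣ Fintype.card F - 1 := pow_padicValNat_dvd
        rw [hM] at hoq
        obtain ⟨o1, o2, h1, h2', ho'⟩ := exists_dvd_and_dvd_of_dvd_mul hoq
        obtain ⟨i, hi, rfl⟩ := (Nat.dvd_prime_pow Nat.prime_two).1 h1
        have hlt : i < v := by
          by_contra hge
          exact hno ((pow_dvd_pow 2 (not_lt.1 hge)).trans (ho' ▸ dvd_mul_right _ _))
        have e : Fintype.card F / 2 = 2 ^ (v - 1) * M := by
          have h5 : 2 ^ v = 2 * 2 ^ (v - 1) := by rw [← pow_succ', show v - 1 + 1 = v by omega]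
          rw [h5, mul_assoc] at hM
          rw [Nat.odd_iff] at hqo
          omega
        rw [e, ho']
        exact mul_dvd_mul (pow_dvd_pow 2 (by omega)) h2'
      have := congrArg Units.val (orderOf_dvd_iff_pow_eq_one.1 hd)
      rwa [Units.val_pow_eq_pow_val, Units.val_one, Units.val_mk0] at this
    have h1 : 2 ^ (v + 1) ∣ 2 * j := by rw [pow_succ']; exact mul_dvd_mul_left 2 (hvo.trans hoj)
    have h3 := (padicValNat_dvd_iff_le (p := 2) (show 2 * j ≠ 0 by omega)).1 h1
    omega

end Cfsg.Agent.S5964
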