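import Cfsg.Statements.S5965
import Cfsg.Agent.Lib.Classical.SubfieldDerange
-- import your own Cfsg.Agent.* helpers here

set_option autoImplicit false
open scoped MatrixGroups
open Cfsg Cfsg.Agent

namespace Cfsg.Agent.S5965
open Polynomial Matrix SubfieldDerange

variable {F : Type*} [Field F] [Fintype F] {n : ℕ}

/-- Every element of the relevant order is conjugate into the subgroup. -/
def AllConj (n r : ℕ) (F₀ : Subfield F) : Prop :=
  ∀ x : Matrix.SpecialLinearGroup (Fin n) F,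
    (∃ z : F, (x : Matrix (Fin n) (Fin n) F) ^ r = z • (1 : Matrix (Fin n) (Fin n) F)) →
    (∀ z : F, (x : Matrix (Fin n) (Fin n) F) ≠ z • (1 : Matrix (Fin n) (Fin n) F)) →
    ∃ P : Matrix.SpecialLinearGroup (Fin n) F, P⁻¹ * x * P ∈ sub n F₀

variable {r : ℕ} [hr : Fact r.Prime]

theorem dvd_sub_one_iff {a : ℕ} (ha : 1 ≤ a) : r ∣ a - 1 ↔ (a : ZMod r) = 1 := by
  rw [← ZMod.natCast_eq_zero_iff, Nat.cast_sub ha, Nat.cast_one, sub_eq_zero]

omit [Fintype F] in
theorem zmod_pow_inj {ζ : F} (hζ : IsPrimitiveRoot ζ r) {a : ℕ} (h : ζ ^ a = ζ) (ha : 1 ≤ a) : r ∣ a - 1 := by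
  refine (hζ.pow_eq_one_iff_dvd _).1 (mul_right_cancel₀ (hζ.ne_zero hr.out.ne_zero) ?_)
  rw [← pow_succ, Nat.sub_add_cancel ha, h, one_mul]

omit [Fintype F] in
/-- A small power of a primitive root is not one. -/
theorem pow_ne_one {ζ : F} (hζ : IsPrimitiveRoot ζ r) {c : ℕ} (hc : ¬ r ∣ c) : ζ ^ c ≠ 1 := fun h =>
  hc ((hζ.pow_eq_one_iff_dvd _).1 h)

/-- `x` has a power scalar that is itself a power, unless `(n)_r` is large. -/
theorem exists_root {p : ℕ} [Fact p.Prime] [CharP F p] (hrp : r ≠ p) (hr2 : r ≠ 2) (hn : 1 ≤ n)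
    (hv : r ∣ Fintype.card F - 1 → padicValNat r n ≤ padicValNat r (Fintype.card F - 1))
    (x : Matrix.SpecialLinearGroup (Fin n) F) {z : F}
    (hz : (x : Matrix (Fin n) (Fin n) F) ^ r = z • (1 : Matrix (Fin n) (Fin n) F)) :
    z ≠ 0 ∧ ∃ s : F, s ^ r = z := by
  classical
  haveI : Nonempty (Fin n) := ⟨⟨0, hn⟩⟩
  have hz0 : z ≠ 0 := fun h => by
    have h1 := congrArg Matrix.det hz
    rw [Matrix.det_pow, x.2, one_pow, h, zero_smul, Matrix.det_zero] at h1
    exact one_ne_zero h1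
  refine ⟨hz0, ?_⟩
  by_contra hno
  push Not at hno
  by_cases hr1 : r ∣ Fintype.card F - 1
  · obtain ⟨M, hM, hMg⟩ := LinearDecompDerange.exists_factors hz
    have hrep : M = Multiset.replicate M.card (X ^ r - Polynomial.C z) := Multiset.eq_replicate_card.2 fun g hg =>
      SubspaceDerange.degree_of_nonpower hr.out hno (hMg g hg).1 (hMg g hg).2.1 (hMg g hg).2.2
    set m := M.card
    rw [hrep, Multiset.prod_replicate] at hM
    have hrm : r * m = n := by
      have h := congrArg natDegree hM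
      rw [natDegree_pow, natDegree_X_pow_sub_C, Matrix.charpoly_natDegree_eq_dim, Fintype.card_fin] at h
      rw [mul_comm]; exact h
    have hm : 1 ≤ m := by rcases Nat.eq_zero_or_pos m with h | h <;> [(rw [h] at hrm; omega); exact h]
    have hdet := (x : Matrix (Fin n) (Fin n) F).det_eq_sign_charpoly_coeff
    rw [← hM, SubspaceDerange.coeff_zero_kummer, Fintype.card_fin, show ((-1 : F)) ^ n = ((-1) ^ r) ^ m by
        rw [← pow_mul, hrm], ← mul_pow,
      show (-1 : F) ^ r * -z = (-1) ^ (r + 1) * z by rw [pow_succ]; ring, x.2] at hdet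
    exact (SubspaceDerange.nonpower_iff rfl hr1 (fun h => absurd h hr2) hm).1 ⟨z, hz0, hno, hdet.symm⟩
      ⟨hrm.symm ▸ hv hr1, fun h => absurd h hr2⟩
  · have hcop : (Nat.card Fˣ).Coprime r := by
      rwa [Nat.coprime_comm, hr.out.coprime_iff_not_dvd, Nat.card_units, Nat.card_eq_fintype_card]
    obtain ⟨d, hd⟩ := (powCoprime hcop).surjective (Units.mk0 z hz0)
    exact hno (d : F) (by simpa [powCoprime] using congrArg Units.val hd)

/-- `r = k`: everything is conjugate into the subfield subgroup. -/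
theorem conj_of_eq {p : ℕ} [Fact p.Prime] [CharP F p] (hrp : r ≠ p) (hr2 : r ≠ 2) (hn : 1 ≤ n) (F₀ : Subfield F)
    {q₀ : ℕ} (hF₀ : Nat.card F₀ = q₀) (hqk : Fintype.card F = q₀ ^ r)
    (hgap : r ∣ q₀ - 1 → padicValNat r n ≤ padicValNat r (Fintype.card F - 1)) : AllConj n r F₀ := by
  classical
  haveI := Fintype.ofFinite F₀
  haveI : CharP F₀ p := (RingHom.charP_iff_charP F₀.subtype p).2 ‹_›
  have hF₀' : Fintype.card F₀ = q₀ := by rw [← Nat.card_eq_fintype_card, hF₀]
  have hq₀ : 1 ≤ q₀ := hF₀' ▸ Fintype.card_pos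
  have hqq : (Fintype.card F : ZMod r) = (q₀ : ZMod r) := by rw [hqk, Nat.cast_pow, ZMod.pow_card]
  have hr0 : ∀ (K : Type _) [Field K] [CharP K p], (r : K) ≠ 0 := fun K _ _ e =>
    hrp ((Nat.prime_dvd_prime_iff_eq (Fact.out : p.Prime) hr.out).1 ((CharP.cast_eq_zero_iff K p r).1 e)).symm
  rintro x ⟨z, hz⟩ -
  obtain ⟨hz0, s, hs⟩ := exists_root (p := p) hrp hr2 hn (fun h => hgap (by
    rw [dvd_sub_one_iff hq₀, ← hqq, ← dvd_sub_one_iff Fintype.card_pos]; exact h)) x hz
  have hs0 : s ≠ 0 := fun h => hz0 (by rw [← hs, h, zero_pow hr.out.ne_zero])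
  have hB : (s⁻¹ • (x : Matrix (Fin n) (Fin n) F)) ^ r = 1 := by
    rw [_root_.smul_pow, hz, smul_smul, ← hs, ← mul_pow, inv_mul_cancel₀ hs0, one_pow, one_smul]
  refine conj_of_lifts (p := p) hn F₀ x (inv_ne_zero hs0) (hr0 F) hB ?_
  obtain ⟨M, hM, hMg⟩ := LinearDecompDerange.exists_factors (z := (1 : F)) (hB.trans (one_smul _ _).symm)
  rw [← hM]
  refine multiset_prod_mem _ fun g hg => ?_
  obtain ⟨hgm, hgi, hgd⟩ := hMg g hg
  set R₀ : F₀[X] := X ^ r - Polynomial.C 1 with hR₀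
  have hR₀m : R₀.Monic := monic_X_pow_sub_C 1 hr.out.ne_zero
  have hdvd : g ∣ ((UniqueFactorizationMonoid.normalizedFactors R₀).map (Polynomial.map F₀.subtype)).prod := by
    rw [← Polynomial.map_multiset_prod, UniqueFactorizationMonoid.prod_normalizedFactors_eq hR₀m.ne_zero,
      hR₀m.normalize_eq_self, hR₀, Polynomial.map_sub, Polynomial.map_pow, map_X, Polynomial.map_C, map_one]
    exact hgd
  obtain ⟨_, hmem, hgg⟩ := hgi.prime.exists_mem_multiset_dvd hdvd
  obtain ⟨g₀, hg₀, rfl⟩ := Multiset.mem_map.1 hmem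
  have hg₀i := UniqueFactorizationMonoid.irreducible_of_normalized_factor g₀ hg₀
  have hg₀m : g₀.Monic := by
    rw [← UniqueFactorizationMonoid.normalize_normalized_factor g₀ hg₀]; exact monic_normalize hg₀i.ne_zero
  have hg₀d : g₀ ∣ X ^ r - Polynomial.C ((1 : F₀) ^ r) := by
    rw [one_pow]; exact UniqueFactorizationMonoid.dvd_of_mem_normalizedFactors hg₀
  set i := orderOf (q₀ : ZMod r) with hidef
  have hi0 : i ≠ 0 := by
    refine (orderOf_pos_iff.2 (isOfFinOrder_iff_pow_eq_one.2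
      ⟨r - 1, by have := hr.out.two_le; omega, ZMod.pow_card_sub_one_eq_one fun h => ?_⟩)).ne'
    rw [ZMod.natCast_eq_zero_iff] at h
    obtain ⟨e, -, he⟩ := FiniteField.card F p
    exact hrp ((Nat.prime_dvd_prime_iff_eq hr.out Fact.out).1 (hr.out.dvd_of_dvd_pow
      (he ▸ hqk ▸ h.trans (dvd_pow_self q₀ hr.out.ne_zero))))
  have hd₀ := SubspaceDerange.degree_of_power hF₀' hidef.symm hi0 one_ne_zero hg₀m hg₀i hg₀d
  have hd := SubspaceDerange.degree_of_power (q := Fintype.card F) rfl (by rw [hqq]) hi0 one_ne_zero hgm hgi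
    (by rwa [one_pow])
  have heq : g₀.natDegree ≤ g.natDegree → g ∈ lifts F₀.subtype := fun h => (mem_lifts _).2
    ⟨g₀, eq_of_monic_of_dvd_of_natDegree_le hgm (hg₀m.map _) hgg (by rwa [Polynomial.natDegree_map])⟩
  by_cases h1 : g₀.natDegree ≤ g.natDegree
  · exact heq h1
  have hg1 : g.natDegree = 1 := hd.resolve_right fun h => h1 (by
    have := hgi.natDegree_pos; rcases hd₀ with h' | h' <;> omega)
  have hi1 : orderOf (Fintype.card F : ZMod r) ≠ 1 := by
    rw [hqq]; rcases hd₀ with h' | h' <;> omega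
  have hC := hgm.eq_X_add_C hg1
  have hroot : g.IsRoot (-g.coeff 0) := by rw [hC]; simp
  have h2 := hroot.dvd hgd
  rw [IsRoot, eval_sub, eval_pow, eval_X, eval_C, sub_eq_zero] at h2
  have h3 := LinearDecompDerange.root_eq_one rfl hi1 h2
  refine (mem_lifts _).2 ⟨X - 1, ?_⟩
  rw [Polynomial.map_sub, map_X, Polynomial.map_one, hC, sub_eq_add_neg, ← map_one Polynomial.C, ← map_neg, ← h3, neg_neg]

/-- Multisets of size three summing to zero have a symmetry. -/
theorem key3 : ∀ a b : ZMod 3, ∃ t : ZMod 3,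
    List.Perm ([a, b, -(a + b)].map fun m => -(m + t)) ([a, b, -(a + b)].map fun m => m + t) := by
  decide

set_option maxRecDepth 4000 in
/-- Multisets of size five summing to zero have a symmetry. -/
theorem key5 : ∀ a b c d : ZMod 5, ∃ t : ZMod 5,
    List.Perm ([a, b, c, d, -(a + b + c + d)].map fun m => -(m + t))
      ([a, b, c, d, -(a + b + c + d)].map fun m => m + t) := by
  decide +kernel

theorem symm_multiset (h35 : r = 3 ∨ r = 5) (J : Multiset (ZMod r)) (hc : J.card = r) (hs : J.sum = 0) :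
    ∃ t : ZMod r, (J.map fun m => -(m + t)) = J.map fun m => m + t := by
  obtain ⟨L, rfl⟩ := Quotient.exists_rep J
  rw [Multiset.quot_mk_to_coe] at hc hs ⊢
  rw [Multiset.coe_card] at hc
  rw [Multiset.sum_coe] at hs
  rcases h35 with rfl | rfl
  · rcases L with _ | ⟨a, _ | ⟨b, _ | ⟨c, _ | ⟨d, L⟩⟩⟩⟩ <;> simp at hc
    obtain rfl : c = -(a + b) := by
      simp only [List.sum_cons, List.sum_nil, add_zero] at hs
      linear_combination hs
    obtain ⟨t, ht⟩ := key3 a b
    exact ⟨t, Multiset.coe_eq_coe.2 ht⟩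
  · rcases L with _ | ⟨a, _ | ⟨b, _ | ⟨c, _ | ⟨d, _ | ⟨e, _ | ⟨g, L⟩⟩⟩⟩⟩⟩ <;> simp at hc
    obtain rfl : e = -(a + b + c + d) := by
      simp only [List.sum_cons, List.sum_nil, add_zero] at hs
      linear_combination hs
    obtain ⟨t, ht⟩ := key5 a b c d
    exact ⟨t, Multiset.coe_eq_coe.2 ht⟩

/-- The exceptional case. -/
theorem conj_of_exception {p : ℕ} [Fact p.Prime] [CharP F p] (hrp : r ≠ p) (F₀ : Subfield F)
    {q₀ : ℕ} (hF₀ : Nat.card F₀ = q₀) (hqk : Fintype.card F = q₀ ^ 2) (h35 : r = 3 ∨ r = 5)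
    (hv : padicValNat r (q₀ + 1) = 1) : AllConj r r F₀ := by
  classical
  have hr2 : r ≠ 2 := by rcases h35 with rfl | rfl <;> norm_num
  have hrd : r ∣ q₀ + 1 := dvd_of_one_le_padicValNat hv.ge
  have hq₀ : 2 ≤ q₀ := by
    haveI := Fintype.ofFinite F₀
    rw [← hF₀, Nat.card_eq_fintype_card]; exact Fintype.one_lt_card
  have hq₀1 : ¬ r ∣ q₀ - 1 := fun h => by
    have h2 := Nat.dvd_sub hrd h
    rw [show q₀ + 1 - (q₀ - 1) = 2 by omega] at h2
    exact hr2 ((Nat.prime_dvd_prime_iff_eq hr.out Nat.prime_two).1 h2)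
  have hfac : Fintype.card F - 1 = (q₀ + 1) * (q₀ - 1) := by
    rw [hqk, ← Nat.sq_sub_sq, one_pow]
  have hv1 : padicValNat r (Fintype.card F - 1) = 1 := by
    rw [hfac, padicValNat.mul (by omega) (by omega), hv, padicValNat.eq_zero_of_not_dvd hq₀1]
  have hr1 : r ∣ Fintype.card F - 1 := hfac ▸ hrd.mul_right _
  have hi : orderOf (Fintype.card F : ZMod r) = 1 := orderOf_eq_one_iff.2
    ((dvd_sub_one_iff Fintype.card_pos).1 hr1)
  rintro x ⟨z, hz⟩ -
  obtain ⟨hz0, s, hs⟩ := exists_root (p := p) hrp hr2 hr.out.one_le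
    (fun _ => by rw [hv1, padicValNat.self hr.out.one_lt]) x hz
  have hs0 : s ≠ 0 := fun h => hz0 (by rw [← hs, h, zero_pow hr.out.ne_zero])
  have hz1 : z = 1 := by
    have h1 := congrArg Matrix.det hz
    rw [Matrix.det_pow, x.2, one_pow, Matrix.det_smul, Fintype.card_fin, Matrix.det_one, mul_one] at h1
    rw [← hs, ← pow_mul] at h1
    have h2 := pow_gcd_eq_one.2 ⟨h1.symm, FiniteField.pow_card_sub_one_eq_one s hs0⟩
    obtain ⟨w, hw⟩ := hr1
    have hw' : ¬ r ∣ w := fun h => by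
      have h3 : r ^ 2 ∣ Fintype.card F - 1 := by rw [hw, pow_two]; exact mul_dvd_mul_left r h
      have h4 := (padicValNat_dvd_iff_le (p := r) (by have := Fintype.one_lt_card (α := F); omega)).1 h3
      omega
    rw [hw, Nat.gcd_mul_left, (hr.out.coprime_iff_not_dvd.2 hw'), mul_one, hs] at h2
    exact h2
  rw [hz1, one_smul] at hz
  have hr0 : (r : F) ≠ 0 := fun e =>
    hrp ((Nat.prime_dvd_prime_iff_eq (Fact.out : p.Prime) hr.out).1 ((CharP.cast_eq_zero_iff F p r).1 e)).symm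
  obtain ⟨M, hM, hMg⟩ := LinearDecompDerange.exists_factors (z := (1 : F)) (hz.trans (one_smul _ _).symm)
  obtain ⟨ζu, hζu⟩ := exists_prime_orderOf_dvd_card' (G := Fˣ) r (by
    rwa [Nat.card_units, Nat.card_eq_fintype_card])
  set ζ : F := (ζu : F) with hζdef
  have hζ : IsPrimitiveRoot ζ r := IsPrimitiveRoot.coe_units_iff.2 (hζu ▸ IsPrimitiveRoot.orderOf ζu)
  let E : ZMod r → F := fun m => ζ ^ m.val
  have hEadd : ∀ m m', E (m + m') = E m * E m' := fun m m' => by
    simp only [E, ← pow_add, ZMod.val_add]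
    exact pow_eq_pow_mod _ hζ.pow_eq_one |>.symm
  have hE0 : E 0 = 1 := by simp [E]
  have hEne : ∀ m, E m ≠ 0 := fun m => pow_ne_zero _ (hζ.ne_zero hr.out.ne_zero)
  have hEsum : ∀ J : Multiset (ZMod r), (J.map E).prod = E J.sum := fun J => by
    induction J using Multiset.induction with
    | empty => simp [hE0]
    | cons m J ih => rw [Multiset.map_cons, Multiset.prod_cons, ih, Multiset.sum_cons, hEadd]
  have hE1 : ∀ m, E m = 1 → m = 0 := fun m h => by
    have h1 := Nat.eq_zero_of_dvd_of_lt ((hζ.pow_eq_one_iff_dvd _).1 h) (ZMod.val_lt m)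
    exact (ZMod.val_eq_zero m).1 h1
  have hlin : ∀ g ∈ M, ∃ m : ZMod r, g = X - Polynomial.C (E m) := fun g hg => by
    obtain ⟨hgm, hgi, hgd⟩ := hMg g hg
    have hd1 : g.natDegree = 1 := by
      rcases SubspaceDerange.degree_of_power (q := Fintype.card F) rfl hi one_ne_zero one_ne_zero hgm hgi
        (by rwa [one_pow]) with h | h <;> exact h
    have hC := hgm.eq_X_add_C hd1
    have hroot : g.IsRoot (-g.coeff 0) := by rw [hC]; simp
    have h2 := hroot.dvd hgd
    rw [IsRoot, eval_sub, eval_pow, eval_X, eval_C, sub_eq_zero] at h2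
    obtain ⟨j, hj, hje⟩ := hζ.eq_pow_of_pow_eq_one h2
    refine ⟨(j : ZMod r), ?_⟩
    simp only [E, ZMod.val_natCast, Nat.mod_eq_of_lt hj, hje, map_neg, sub_neg_eq_add]
    exact hC
  choose f hf using hlin
  set J : Multiset (ZMod r) := M.attach.map fun g => f g.1 g.2 with hJdef
  have hch : (x : Matrix (Fin r) (Fin r) F).charpoly = ((J.map E).map fun t => X - Polynomial.C t).prod := by
    rw [← hM, hJdef, Multiset.map_map, Multiset.map_map]
    conv_lhs => rw [← Multiset.attach_map_val M]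
    exact congrArg _ (Multiset.map_congr rfl fun g _ => hf g.1 g.2)
  have hcard : J.card = r := by
    have h := congrArg natDegree hch
    rw [Matrix.charpoly_natDegree_eq_dim, Fintype.card_fin, natDegree_multiset_prod_X_sub_C_eq_card,
      Multiset.card_map] at h
    exact h.symm
  clear_value J
  have hsum : J.sum = 0 := by
    refine hE1 _ ?_
    rw [← hEsum, ← x.2, Matrix.det_eq_sign_charpoly_coeff, hch, coeff_zero_eq_eval_zero, eval_multiset_prod,
      Multiset.map_map, show (eval 0 ∘ fun t : F => X - Polynomial.C t) = fun t => -t from funext fun t => by simp,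
      Multiset.prod_map_neg, Multiset.card_map, hcard, Fintype.card_fin, ← mul_assoc, ← pow_add,
      Even.neg_one_pow ⟨r, rfl⟩, one_mul]
  obtain ⟨t, ht⟩ := symm_multiset h35 J hcard hsum
  have hq₀r : (q₀ : ZMod r) = -1 := by
    rw [eq_neg_iff_add_eq_zero, ← Nat.cast_one, ← Nat.cast_add, ZMod.natCast_eq_zero_iff]; exact hrd
  have hσ : ∀ m, frob F₀ (E m) = E (-m) := fun m => by
    have e1 : ∀ N : ℕ, ζ ^ N = E (N : ZMod r) := fun N => by
      simp only [E, ZMod.val_natCast]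
      exact pow_eq_pow_mod _ hζ.pow_eq_one
    rw [frob_apply, hF₀, ← pow_mul, e1, Nat.cast_mul, ZMod.natCast_zmod_val, hq₀r, mul_neg_one]
  refine conj_of_lifts (p := p) hr.out.one_le F₀ x (hEne t) hr0 ?_ ?_
  · rw [_root_.smul_pow, hz, show E t ^ r = 1 by rw [← pow_mul, mul_comm, pow_mul, hζ.pow_eq_one, one_pow], one_smul]
  · rw [mem_lifts_iff_frob, charpoly_smul _ (hEne t), hch]
    conv => congr <;> rw [show E t ^ r = E t ^ (J.map E).card by rw [Multiset.card_map, hcard], scale_prod _ (hEne t)]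
    rw [show (J.map E).map (E t * ·) = (J.map fun m => m + t).map E by
      rw [Multiset.map_map, Multiset.map_map]
      exact Multiset.map_congr rfl fun m _ => by simp [hEadd, mul_comm], Polynomial.map_multiset_prod,
      Multiset.map_map]
    conv_lhs => rw [show Polynomial.map (frob F₀) ∘ (fun t => X - Polynomial.C t) =
        (fun t => X - Polynomial.C t) ∘ frob F₀ from funext fun t => by simp, ← Multiset.map_map (fun t => X - Polynomial.C t),
      Multiset.map_map (frob F₀) E, show frob F₀ ∘ E = E ∘ Neg.neg from funext hσ, ← Multiset.map_map E,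
      Multiset.map_map Neg.neg, show Neg.neg ∘ (fun m : ZMod r => m + t) = fun m => -(m + t) from rfl, ht]

/-- The necessity. -/
theorem exception_of_all {p : ℕ} [Fact p.Prime] [CharP F p] (hrp : r ≠ p) (hr2 : r ≠ 2) (hn : 2 ≤ n)
    (F₀ : Subfield F) {q₀ k : ℕ} (hk : k.Prime) (hF₀ : Nat.card F₀ = q₀) (hqk : Fintype.card F = q₀ ^ k)
    (hgap : ¬ (n = 6 ∧ r = 3)) (hrk : r ≠ k) (hΩ : r ∣ (sub n F₀).index) (hall : AllConj n r F₀) :
    k = 2 ∧ r = n ∧ (n = 3 ∨ n = 5) ∧ padicValNat r (q₀ + 1) = 1 := by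
  classical
  haveI := Fintype.ofFinite F₀
  haveI : CharP F₀ p := (RingHom.charP_iff_charP F₀.subtype p).2 ‹_›
  have hF₀' : Fintype.card F₀ = q₀ := by rw [← Nat.card_eq_fintype_card, hF₀]
  have hq₀ : 2 ≤ q₀ := hF₀' ▸ Fintype.one_lt_card
  have hrq : ¬ r ∣ Fintype.card F := fun h => by
    obtain ⟨e, -, he⟩ := FiniteField.card F p
    exact hrp ((Nat.prime_dvd_prime_iff_eq hr.out Fact.out).1 (hr.out.dvd_of_dvd_pow (he ▸ h)))
  have hq1 : 1 ≤ Fintype.card F := Fintype.card_pos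
  obtain ⟨i, hi2, hin, hiq, hi₀⟩ := exists_exponent (by omega) F₀ hF₀ hqk hk hr.out hrk hrq hΩ
  rw [dvd_sub_one_iff (Nat.one_le_pow _ _ hq1), Nat.cast_pow] at hiq
  rw [dvd_sub_one_iff (Nat.one_le_pow _ _ (by omega)), Nat.cast_pow] at hi₀
  obtain ⟨d, hd⟩ : ∃ d, orderOf (Fintype.card F : ZMod r) = d := ⟨_, rfl⟩
  have hd0 : 0 < d := hd ▸ orderOf_pos_iff.2 (isOfFinOrder_iff_pow_eq_one.2 ⟨i, by omega, hiq⟩)
  have hdi : d ∣ i := hd ▸ orderOf_dvd_of_pow_eq_one hiq
  have hdne : orderOf (q₀ : ZMod r) ≠ d := fun h => hi₀ (orderOf_dvd_iff_pow_eq_one.1 (h ▸ hdi))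
  rcases Nat.lt_or_ge 1 d with hd1 | hd1
  · exfalso
    obtain ⟨x, g, hgm, hgi, hgd, hg1, hch, hx, hxs⟩ := SubspaceDerange.exists_order (p := p) (q := Fintype.card F)
      rfl hrp hd hd1 (a := 1) (f := n - d) le_rfl
      (show 1 * d + (n - d) = n by have := Nat.le_of_dvd (by omega) hdi; omega)
    obtain ⟨P, hP⟩ := hall x ⟨1, by rw [hx, one_smul]⟩ hxs
    obtain ⟨a, Y, ha, hY, -⟩ := obstruction F₀ hP
    set B := (P⁻¹).1 * (x : Matrix (Fin n) (Fin n) F) * P.1 with hBdef
    have hYB : F₀.subtype.mapMatrix Y = a • B := by rw [hY, hBdef, Matrix.mul_smul, Matrix.smul_mul]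
    have hB : B ^ r = 1 := by
      have h1 : ∀ j, B ^ j = (P⁻¹).1 * (x : Matrix (Fin n) (Fin n) F) ^ j * P.1 := fun j => by
        induction j with
        | zero =>
          rw [pow_zero, pow_zero, mul_one]
          exact (congrArg Subtype.val (inv_mul_cancel P)).symm
        | succ j ih =>
          rw [pow_succ, ih, hBdef, show (P⁻¹).1 * (x : Matrix (Fin n) (Fin n) F) ^ j * P.1 *
            ((P⁻¹).1 * (x : Matrix (Fin n) (Fin n) F) * P.1) = (P⁻¹).1 * ((x : Matrix (Fin n) (Fin n) F) ^ j *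
              (P.1 * (P⁻¹).1) * (x : Matrix (Fin n) (Fin n) F)) * P.1 by simp only [mul_assoc],
            show P.1 * (P⁻¹).1 = 1 from congrArg Subtype.val (mul_inv_cancel P), mul_one, ← pow_succ]
      rw [h1, hx, mul_one]
      exact congrArg Subtype.val (inv_mul_cancel P)
    have har : frob F₀ (a ^ r) = a ^ r := by
      have h1 : F₀.subtype.mapMatrix (Y ^ r) = a ^ r • 1 := by rw [map_pow, hYB, _root_.smul_pow, hB]
      have h2 := congrFun (congrFun h1 ⟨0, by omega⟩) ⟨0, by omega⟩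
      simp only [RingHom.mapMatrix_apply, Matrix.map_apply, Matrix.smul_apply, Matrix.one_apply_eq, smul_eq_mul,
        mul_one] at h2
      rw [← h2]; exact frob_fix F₀ _
    have haF : frob F₀ a = a := by
      rw [map_pow] at har
      have h1 := LinearDecompDerange.root_eq_one (F := F) rfl (hd ▸ (show d ≠ 1 by omega))
        (show (frob F₀ a / a) ^ r = 1 by rw [div_pow, har, div_self (pow_ne_zero _ ha)])
      exact (div_eq_one_iff_eq ha).1 h1
    have hBent : ∀ i j, frob F₀ (B i j) = B i j := fun i j => by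
      have h2 := congrFun (congrFun hYB i) j
      simp only [RingHom.mapMatrix_apply, Matrix.map_apply, Matrix.smul_apply, smul_eq_mul] at h2
      have h3 := frob_fix F₀ (Y i j)
      rw [show ((Y i j : F₀) : F) = a * B i j from h2, map_mul, haF] at h3
      exact mul_left_cancel₀ ha h3
    have hBc : B.charpoly = (x : Matrix (Fin n) (Fin n) F).charpoly := by
      rw [hBdef, Matrix.charpoly_mul_comm, ← mul_assoc,
        show P.1 * (P⁻¹).1 = 1 from congrArg Subtype.val (mul_inv_cancel P), one_mul]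
    have hgfix : g.map (frob F₀) = g := by
      have h1 : B.charpoly.map (frob F₀) = B.charpoly := by
        rw [← Matrix.charpoly_map, show B.map (frob F₀) = B from Matrix.ext hBent]
      rw [hBc, hch, pow_one, Polynomial.map_mul, Polynomial.map_pow, Polynomial.map_sub, map_X, Polynomial.map_C,
        map_one] at h1
      exact mul_right_cancel₀ (pow_ne_zero _ (X_sub_C_ne_zero 1)) h1
    obtain ⟨g₀, hg₀, hg₀d, hg₀m⟩ := lifts_and_degree_eq_and_monic ((mem_lifts_iff_frob F₀ g).2 hgfix) hgm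
    have hg₀n : g₀.natDegree = d := by rw [natDegree_eq_of_degree_eq hg₀d, hgd]
    have hg₀i : Irreducible g₀ := hg₀m.irreducible_of_irreducible_map F₀.subtype g₀ (hg₀ ▸ hgi)
    have hgX : g ∣ X ^ r - Polynomial.C 1 := SubspaceDerange.annihilated (r := r) (c := 1)
      (by rw [hx, one_smul] : (x : Matrix (Fin n) (Fin n) F) ^ r = _) hgm hgi
      (by rw [hch, pow_one]; exact dvd_mul_right _ _)
    have hg₀X : g₀ ∣ X ^ r - Polynomial.C ((1 : F₀) ^ r) := by
      rw [one_pow, ← Polynomial.map_dvd_map F₀.subtype F₀.subtype.injective hg₀m, hg₀, Polynomial.map_sub,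
        Polynomial.map_pow, map_X, Polynomial.map_C, map_one]
      exact hgX
    have hq₀0 : orderOf (q₀ : ZMod r) ≠ 0 := by
      refine (orderOf_pos_iff.2 (isOfFinOrder_iff_pow_eq_one.2 ⟨k * i, ?_, ?_⟩)).ne'
      · exact Nat.mul_pos hk.pos (by omega)
      · rw [pow_mul, ← Nat.cast_pow, ← hqk, hiq]
    rcases SubspaceDerange.degree_of_power hF₀' rfl hq₀0 one_ne_zero hg₀m hg₀i hg₀X with h | h
    · omega
    · exact hdne (by omega)
  obtain rfl : d = 1 := by omega
  have hqr : (Fintype.card F : ZMod r) = 1 := orderOf_eq_one_iff.1 hd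
  have hqk1 : (q₀ : ZMod r) ^ k = 1 := by rw [← Nat.cast_pow, ← hqk, hqr]
  have hq₀r : (q₀ : ZMod r) ≠ 1 := fun h => hi₀ (by rw [h, one_pow])
  have hr1 : r ∣ Fintype.card F - 1 := (dvd_sub_one_iff hq1).2 hqr
  obtain ⟨ζu, hζu⟩ := exists_prime_orderOf_dvd_card' (G := Fˣ) r (by
    rwa [Nat.card_units, Nat.card_eq_fintype_card])
  set ζ : F := (ζu : F) with hζdef
  have hζ : IsPrimitiveRoot ζ r := IsPrimitiveRoot.coe_units_iff.2 (hζu ▸ IsPrimitiveRoot.orderOf ζu)
  have hζ0 : ζ ≠ 0 := hζ.ne_zero hr.out.ne_zero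
  have hne : ∀ c, ¬ r ∣ c → ζ ^ c ≠ 1 := fun c hc => pow_ne_one hζ hc
  have hc1 : ¬ r ∣ 1 := hr.out.not_dvd_one
  have hc2 : ¬ r ∣ 2 := fun h => hr2 ((Nat.prime_dvd_prime_iff_eq hr.out Nat.prime_two).1 h)
  have hc4 : ¬ r ∣ 4 := fun h => hc2 (hr.out.dvd_of_dvd_pow (show r ∣ 2 ^ 2 from h))
  have hc3 : r ≠ 3 → ¬ r ∣ 3 := fun h3 h => h3 ((Nat.prime_dvd_prime_iff_eq hr.out Nat.prime_three).1 h)
  have hc5 : r ≠ 5 → ¬ r ∣ 5 := fun h5 h => h5 ((Nat.prime_dvd_prime_iff_eq hr.out (by norm_num)).1 h)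
  have hc6 : r ≠ 3 → ¬ r ∣ 6 := fun h3 h => ((hr.out.dvd_mul).1 (show r ∣ 2 * 3 from h)).elim hc2 (hc3 h3)
  have hfixζ : frob F₀ ζ ≠ ζ := fun h => hq₀r ((dvd_sub_one_iff (by omega)).1
    (zmod_pow_inj hζ (by rwa [frob_apply, hF₀] at h) (by omega)))
  have hinv2 : (ζ⁻¹) ^ r = 1 := by rw [inv_pow, hζ.pow_eq_one, inv_one]
  have stab := fun W hW hp hz u₁ u₂ h₁ h₂ hne' =>
    stable_multiset F₀ hall (r := r) W hW hp (z := (1 : F)) hz (u₁ := u₁) (u₂ := u₂) h₁ h₂ hne'
  have hfix : ∀ c, ¬ r ∣ c → frob F₀ (ζ ^ c) ≠ ζ ^ c := fun c hc h => hq₀r ((dvd_sub_one_iff (by omega)).1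
    (zmod_pow_inj (hζ.pow_of_coprime c ((hr.out.coprime_iff_not_dvd.2 hc).symm)) (by rwa [frob_apply, hF₀] at h) (by omega)))
  have hsq : (q₀ : ZMod r) ^ 2 = 1 → k = 2 := fun h => by
    by_contra hk2
    have h1 := pow_gcd_eq_one.2 ⟨h, hqk1⟩
    rw [show Nat.gcd 2 k = 1 from (Nat.coprime_primes Nat.prime_two hk).2 (Ne.symm hk2), pow_one] at h1
    exact hq₀r h1
  -- the exponent is two
  obtain rfl : k = 2 := by
    have hσσ : frob F₀ (frob F₀ ζ) = ζ → k = 2 := fun h => by
      rw [frob_apply, frob_apply, hF₀, ← pow_mul, ← pow_two] at h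
      have h1 := (dvd_sub_one_iff (Nat.one_le_pow _ _ (by omega))).1 (zmod_pow_inj hζ h (Nat.one_le_pow _ _ (by omega)))
      exact hsq (by rw [← Nat.cast_pow, h1])
    rcases (show n = 2 ∨ n = 3 ∨ 4 ≤ n by omega) with rfl | rfl | h4
    · have hneζ : ζ ≠ ζ⁻¹ := fun e => hne 2 hc2 (by
        rw [pow_two]
        nth_rewrite 2 [e]
        exact mul_inv_cancel₀ hζ0)
      obtain ⟨a, ha, hst⟩ := stab (ζ ::ₘ {ζ⁻¹}) (by simp) (by simp [hζ0])
        (fun u hu => by
          simp only [Multiset.mem_cons, Multiset.mem_singleton] at hu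
          rcases hu with rfl | rfl
          · exact hζ.pow_eq_one
          · exact hinv2) ζ ζ⁻¹ (by simp) (by simp) hneζ
      obtain ⟨u, hu, he, -⟩ := hst ζ (by simp)
      obtain ⟨v, hv, he', -⟩ := hst ζ⁻¹ (by simp)
      simp only [Multiset.mem_cons, Multiset.mem_singleton] at hu hv
      have hdiv : frob F₀ (ζ ^ 2) = u / v := by
        rw [show ζ ^ 2 = (a * ζ) / (a * ζ⁻¹) by field_simp, map_div₀, he, he', mul_div_mul_left _ _ ha]
      have huv : u ≠ v := fun e => hneζ (mul_left_cancel₀ ha ((frob F₀).injective (by rw [he, he', e])))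
      rcases hu with rfl | rfl <;> rcases hv with rfl | rfl
      · exact absurd rfl huv
      · exact absurd (hdiv.trans (by field_simp)) (hfix 2 hc2)
      · refine hσσ ?_
        have h1 : frob F₀ (frob F₀ (ζ ^ 2)) = ζ ^ 2 := by
          rw [hdiv, map_div₀, map_inv₀, div_eq_mul_inv, ← mul_inv, ← map_mul, ← pow_two, hdiv]
          field_simp
        rw [map_pow, map_pow] at h1
        have h2 : (frob F₀ (frob F₀ ζ) / ζ) ^ 2 = 1 := by rw [div_pow, h1, div_self (pow_ne_zero _ hζ0)]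
        have h3 : (frob F₀ (frob F₀ ζ) / ζ) ^ r = 1 := by
          rw [div_pow, ← map_pow, ← map_pow, hζ.pow_eq_one, map_one, map_one, one_div, inv_one]
        have h4 := pow_gcd_eq_one.2 ⟨h2, h3⟩
        rw [show Nat.gcd 2 r = 1 from (Nat.coprime_primes Nat.prime_two hr.out).2 (Ne.symm hr2), pow_one] at h4
        exact (div_eq_one_iff_eq hζ0).1 h4
      · exact absurd rfl huv
    · rcases eq_or_ne r 3 with rfl | h3
      · refine hsq (ZMod.pow_card_sub_one_eq_one fun h => ?_)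
        rw [h, zero_pow hk.ne_zero] at hqk1
        exact zero_ne_one hqk1
      exfalso
      have hne2 : ζ ≠ (ζ ^ 2)⁻¹ := fun e => hne 3 (hc3 h3)
        ((pow_succ ζ 2).trans ((congrArg (ζ ^ 2 * ·) e).trans (mul_inv_cancel₀ (pow_ne_zero _ hζ0))))
      obtain ⟨a, ha, hst⟩ := stab (Multiset.replicate 2 ζ + {(ζ ^ 2)⁻¹}) (by simp) (by
          simp only [Multiset.prod_add, Multiset.prod_replicate, Multiset.prod_singleton]
          exact mul_inv_cancel₀ (pow_ne_zero _ hζ0))
        (fun u hu => by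
          simp only [Multiset.mem_add, Multiset.mem_singleton] at hu
          rcases hu with hu | rfl
          · rw [Multiset.eq_of_mem_replicate hu, hζ.pow_eq_one]
          · rw [inv_pow, ← pow_mul, mul_comm, pow_mul, hζ.pow_eq_one, one_pow, inv_one])
        ζ (ζ ^ 2)⁻¹ (by simp) (by simp) hne2
      obtain ⟨u, hu, he, hcu⟩ := hst ζ (by simp)
      obtain ⟨v, hv, he', hcv⟩ := hst (ζ ^ 2)⁻¹ (by simp)
      simp only [Multiset.mem_add, Multiset.mem_replicate, Multiset.mem_singleton] at hu hv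
      rcases hu with ⟨-, rfl⟩ | rfl <;> rcases hv with ⟨-, rfl⟩ | rfl
      all_goals first
        | (refine hfix 3 (hc3 h3) ?_
           rw [show ζ ^ 3 = (a * ζ) / (a * (ζ ^ 2)⁻¹) by field_simp, map_div₀, he, he']
           done)
        | simp [Multiset.count_replicate, Multiset.count_singleton, hne2, Ne.symm hne2] at hcu hcv
    · have hne1 : ζ ≠ 1 := fun e => hne 1 hc1 (by rw [pow_one, e])
      obtain ⟨a, ha, hst⟩ := stab (ζ ::ₘ ζ⁻¹ ::ₘ Multiset.replicate (n - 2) (1 : F)) (by simp; omega) (by simp [hζ0])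
        (fun u hu => by
          simp only [Multiset.mem_cons] at hu
          rcases hu with rfl | rfl | hu
          · exact hζ.pow_eq_one
          · exact hinv2
          · rw [Multiset.eq_of_mem_replicate hu, one_pow])
        ζ 1 (by simp) (by simp [Multiset.mem_replicate]; omega) hne1
      have hne1' : ζ⁻¹ ≠ 1 := fun e => hne1 (inv_eq_one.1 e)
      have hne2 : ζ ≠ ζ⁻¹ := fun e => hne 2 hc2 (by
        rw [pow_two]
        nth_rewrite 2 [e]
        exact mul_inv_cancel₀ hζ0)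
      obtain ⟨w, hw, hew, hcw⟩ := hst 1 (by simp [Multiset.mem_replicate]; omega)
      obtain ⟨u, hu, he, -⟩ := hst ζ (by simp)
      simp only [Multiset.mem_cons, Multiset.mem_replicate] at hu hw
      have hσa : frob F₀ a = a := by
        rcases hw with rfl | rfl | ⟨-, rfl⟩
        · simp [Multiset.count_cons, Multiset.count_replicate, hne1, hne1', hne2, Ne.symm hne2, Ne.symm hne1,
            Ne.symm hne1'] at hcw
          omega
        · simp [Multiset.count_cons, Multiset.count_replicate, hne1, hne1', hne2, Ne.symm hne2, Ne.symm hne1,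
            Ne.symm hne1'] at hcw
          omega
        · simpa using hew
      rw [map_mul, hσa] at he
      have hu' := mul_left_cancel₀ ha he
      rcases hu with rfl | rfl | ⟨-, rfl⟩
      · exact absurd hu' hfixζ
      · exact hσσ (by rw [hu', map_inv₀, hu', inv_inv])
      · exact absurd ((frob F₀).injective (hu'.trans (map_one _).symm)) hne1
  -- the Frobenius inverts the roots of unity
  have hq₀m : (q₀ : ZMod r) = -1 := (mul_self_eq_one_iff.1 (by rw [← pow_two, hqk1])).resolve_left hq₀r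
  have hrd : r ∣ q₀ + 1 := by
    rw [← ZMod.natCast_eq_zero_iff, Nat.cast_add, hq₀m, Nat.cast_one, neg_add_cancel]
  have hinv : ∀ u : F, u ^ r = 1 → frob F₀ u = u⁻¹ := fun u hu => by
    obtain ⟨w, hw⟩ := hrd
    rw [frob_apply, hF₀]
    refine eq_inv_of_mul_eq_one_left ?_
    rw [← pow_succ, hw, pow_mul, hu, one_pow]
  have hn2 : n ≠ 2 := fun h => hi₀ (by
    rw [show i = 2 by omega, hqk1])
  have hσζ : frob F₀ ζ = ζ⁻¹ := hinv ζ hζ.pow_eq_one
  have hne1 : ζ ≠ 1 := fun e => hne 1 hc1 (by rw [pow_one, e])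
  refine ⟨rfl, ?_⟩
  by_cases hex : r = n ∧ (n = 3 ∨ n = 5)
  · refine ⟨hex.1, hex.2, ?_⟩
    by_contra hv
    obtain rfl : r = n := hex.1
    have hv2 : r ^ 2 ∣ Fintype.card F - 1 := by
      have h1 : 1 ≤ padicValNat r (q₀ + 1) := one_le_padicValNat_of_dvd (by omega) hrd
      refine ((pow_dvd_pow r (show 2 ≤ padicValNat r (q₀ + 1) by omega)).trans pow_padicValNat_dvd).trans ?_
      exact ⟨q₀ - 1, by rw [hqk, ← Nat.sq_sub_sq, one_pow]⟩
    obtain ⟨ξ, hξ⟩ := IsCyclic.exists_ofOrder_eq_natCard (α := Fˣ)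
    rw [Nat.card_units, Nat.card_eq_fintype_card] at hξ
    obtain ⟨η, hη⟩ : ∃ η : Fˣ, orderOf η = r ^ 2 :=
      ⟨ξ ^ ((Fintype.card F - 1) / r ^ 2), by
        have hξ0 : orderOf ξ ≠ 0 := (orderOf_pos ξ).ne'
        rw [← hξ] at hv2 ⊢
        exact orderOf_pow_orderOf_div hξ0 hv2⟩
    set u₀ : F := (((η ^ r)⁻¹ : Fˣ) : F) with hu₀
    have hu₀r : u₀ ^ r = 1 := by
      rw [hu₀, ← Units.val_pow_eq_pow_val, inv_pow, ← pow_mul, ← pow_two, ← hη, pow_orderOf_eq_one, inv_one, Units.val_one]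
    have hu₀1 : u₀ ≠ 1 := fun e => by
      rw [hu₀, Units.val_eq_one, inv_eq_one] at e
      have h1 := orderOf_dvd_of_pow_eq_one e
      rw [hη, pow_two] at h1
      have h2 := Nat.le_of_dvd hr.out.pos h1
      have := hr.out.two_le
      have h3 : r * 2 ≤ r * r := Nat.mul_le_mul_left r this
      omega
    have hne' : (η : F) * u₀ ≠ (η : F) := fun e => hu₀1 (mul_left_cancel₀ η.ne_zero (e.trans (mul_one _).symm))
    obtain ⟨a, ha, hst⟩ := stable_multiset F₀ hall (r := r) (((η : F) * u₀) ::ₘ Multiset.replicate (r - 1) (η : F))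
      (by simp; omega) (by
        rw [Multiset.prod_cons, Multiset.prod_replicate, mul_right_comm, ← pow_succ', Nat.sub_add_cancel hr.out.one_le,
          hu₀, ← Units.val_pow_eq_pow_val, ← Units.val_mul, mul_inv_cancel, Units.val_one])
      (z := (η : F) ^ r) (fun u hu => by
        rcases Multiset.mem_cons.1 hu with rfl | hu
        · rw [mul_pow, hu₀r, mul_one]
        · rw [Multiset.eq_of_mem_replicate hu]) (u₁ := (η : F) * u₀) (u₂ := (η : F))
      (by simp) (by simp [Multiset.mem_replicate]; omega) hne'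
    obtain ⟨u, hu, he, hcu⟩ := hst ((η : F) * u₀) (by simp)
    obtain ⟨v, hv', he', hcv⟩ := hst (η : F) (by simp [Multiset.mem_replicate]; omega)
    simp only [Multiset.mem_cons, Multiset.mem_replicate] at hu hv'
    rcases hu with rfl | ⟨-, rfl⟩
    · rcases hv' with rfl | ⟨-, rfl⟩
      · simp [Multiset.count_replicate, hne', Ne.symm hne'] at hcv
        omega
      · rw [← mul_assoc, map_mul, he', hinv u₀ hu₀r] at he
        have h1 := mul_left_cancel₀ (mul_ne_zero ha η.ne_zero) he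
        refine hu₀1 ?_
        have hu0 : u₀ ≠ 0 := by rw [hu₀]; exact Units.ne_zero _
        have h2 : u₀ ^ 2 = 1 := by
          rw [pow_two]
          nth_rewrite 1 [← h1]
          exact inv_mul_cancel₀ hu0
        have h4 := pow_gcd_eq_one.2 ⟨h2, hu₀r⟩
        rwa [show Nat.gcd 2 r = 1 from (Nat.coprime_primes Nat.prime_two hr.out).2 (Ne.symm hr2), pow_one] at h4
    · simp [Multiset.count_replicate, hne', Ne.symm hne'] at hcu
      omega
  exfalso
  rcases eq_or_ne r 3 with rfl | h3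
  · have hn3 : n ≠ 3 := fun h => hex ⟨h.symm, Or.inl h⟩
    have hn6 : n ≠ 6 := fun h => hgap ⟨h, rfl⟩
    obtain ⟨a, ha, hst⟩ := stab (Multiset.replicate 3 ζ + Multiset.replicate (n - 3) (1 : F)) (by simp; omega)
      (by rw [Multiset.prod_add, Multiset.prod_replicate, Multiset.prod_replicate, one_pow, mul_one, hζ.pow_eq_one])
      (fun u hu => by
        simp only [Multiset.mem_add] at hu
        rcases hu with hu | hu <;> rw [Multiset.eq_of_mem_replicate hu]
        · exact hζ.pow_eq_one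
        · exact one_pow _) ζ 1 (by simp) (by simp [Multiset.mem_replicate]; omega) hne1
    obtain ⟨u, hu, he, hcu⟩ := hst ζ (by simp)
    obtain ⟨v, hv', he', hcv⟩ := hst 1 (by simp [Multiset.mem_replicate]; omega)
    simp only [Multiset.mem_add, Multiset.mem_replicate] at hu hv'
    rcases hu with ⟨-, rfl⟩ | ⟨-, rfl⟩
    · rcases hv' with ⟨-, rfl⟩ | ⟨-, rfl⟩
      · simp [Multiset.count_replicate, hne1, Ne.symm hne1] at hcv
        omega
      · refine hfixζ ?_
        rw [map_mul] at he he'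
        rw [map_one, mul_one, mul_one] at he'
        rw [he'] at he
        exact mul_left_cancel₀ ha he
    · simp [Multiset.count_replicate, hne1, Ne.symm hne1] at hcu
      omega
  set w := (ζ ^ 2)⁻¹ with hwdef
  have hw0 : ζ ^ 2 * w = 1 := mul_inv_cancel₀ (pow_ne_zero _ hζ0)
  have hwne1 : w ≠ 1 := fun e => hne 2 hc2 (inv_eq_one.1 e)
  have hwζ : w ≠ ζ := fun e => hne 3 (hc3 h3)
    ((pow_succ ζ 2).trans ((congrArg (ζ ^ 2 * ·) e.symm).trans hw0))
  set W := Multiset.replicate 2 ζ + {w} + Multiset.replicate (n - 3) (1 : F) with hWdef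
  have hcnt : W.count ζ = 2 ∧ W.count w = 1 ∧ W.count 1 = n - 3 := by
    simp [hWdef, Multiset.count_replicate, hne1, Ne.symm hne1, hwne1, Ne.symm hwne1, hwζ, Ne.symm hwζ]
  have hmem : ∀ u ∈ W, u = ζ ∨ u = w ∨ (u = 1 ∧ 4 ≤ n) := fun u hu => by
    simp only [hWdef, Multiset.mem_add, Multiset.mem_replicate, Multiset.mem_singleton] at hu
    rcases hu with (⟨-, rfl⟩ | rfl) | ⟨h, rfl⟩
    · exact Or.inl rfl
    · exact Or.inr (Or.inl rfl)
    · exact Or.inr (Or.inr ⟨rfl, by omega⟩)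
  obtain ⟨a, ha, hst⟩ := stab W (by simp [hWdef]; omega) (by
      simp only [hWdef, Multiset.prod_add, Multiset.prod_replicate, Multiset.prod_singleton, one_pow, mul_one]
      exact hw0)
    (fun u hu => by
      rcases hmem u hu with rfl | rfl | ⟨rfl, -⟩
      · exact hζ.pow_eq_one
      · rw [hwdef, inv_pow, ← pow_mul, mul_comm, pow_mul, hζ.pow_eq_one, one_pow, inv_one]
      · exact one_pow _)
    ζ w (by simp [hWdef]) (by simp [hWdef]) (Ne.symm hwζ)
  have hσw : frob F₀ w = ζ ^ 2 := by rw [hwdef, map_inv₀, map_pow, hσζ, inv_pow, inv_inv]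
  obtain ⟨u, hu, he, hcu⟩ := hst ζ (by simp [hWdef])
  obtain ⟨v, hv', he', hcv⟩ := hst w (by simp [hWdef])
  rw [map_mul, hσζ] at he
  rw [map_mul, hσw] at he'
  rw [hcnt.1] at hcu
  rw [hcnt.2.1] at hcv
  have hu' : n ≠ 5 → u = ζ ∨ (u = 1 ∧ n = 5) := fun h5 => by
    rcases hmem u hu with rfl | rfl | ⟨rfl, h⟩
    · exact Or.inl rfl
    · rw [hcnt.2.1] at hcu; omega
    · rw [hcnt.2.2] at hcu; exact Or.inr ⟨rfl, by omega⟩
  have hσa : ∀ (t : F), frob F₀ a * ζ⁻¹ = a * t → frob F₀ a = a * (t * ζ) := fun t h => by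
    rw [← mul_assoc, ← h, inv_mul_cancel_right₀ hζ0]
  rcases (show n = 3 ∨ n = 4 ∨ n = 5 ∨ 6 ≤ n by omega) with h | h | h | h
  · obtain rfl := ((hu' (by omega)).resolve_right fun h' => by omega)
    have hv'' : v = w := by
      rcases hmem v hv' with rfl | rfl | ⟨-, h4⟩
      · rw [hcnt.1] at hcv; omega
      · rfl
      · omega
    rw [hσa _ he, hv'', mul_assoc] at he'
    refine hne 6 (hc6 h3) ?_
    calc ζ ^ 6 = ζ ^ 2 * (ζ * ζ * ζ ^ 2) := by ring
      _ = 1 := by rw [mul_left_cancel₀ ha he', hw0]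
  · obtain rfl := ((hu' (by omega)).resolve_right fun h' => by omega)
    obtain ⟨t, ht, he'', -⟩ := hst 1 (by simp [hWdef, Multiset.mem_replicate]; omega)
    rw [mul_one, hσa _ he] at he''
    have h1 := mul_left_cancel₀ ha he''
    rcases hmem t ht with rfl | rfl | ⟨rfl, -⟩
    · exact hne1 (mul_left_cancel₀ hζ0 (h1.trans (mul_one _).symm))
    · refine hne 4 hc4 ?_
      calc ζ ^ 4 = ζ ^ 2 * (ζ * ζ) := by ring
        _ = 1 := by rw [h1, hw0]
    · exact hne 2 hc2 (by rw [pow_two, h1])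
  · have hv'' : v = w := by
      rcases hmem v hv' with rfl | rfl | ⟨rfl, h4⟩
      · rw [hcnt.1] at hcv; omega
      · rfl
      · rw [hcnt.2.2] at hcv; omega
    rw [hv''] at he'
    have hσa' : frob F₀ a = a * (w * w) := by
      rw [← mul_assoc, ← he', mul_assoc, hw0, mul_one]
    obtain ⟨t, ht, he'', -⟩ := hst 1 (by simp [hWdef, Multiset.mem_replicate]; omega)
    rw [mul_one, hσa'] at he''
    have h1 := mul_left_cancel₀ ha he''
    have h45 : r ≠ 5 := fun h5 => hex ⟨by omega, Or.inr h⟩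
    rcases hmem t ht with rfl | rfl | ⟨rfl, -⟩
    · refine hne 5 (hc5 h45) ?_
      calc ζ ^ 5 = ζ ^ 2 * ζ ^ 2 * ζ := by ring
        _ = ζ ^ 2 * ζ ^ 2 * (w * w) := by rw [h1]
        _ = (ζ ^ 2 * w) * (ζ ^ 2 * w) := by ring
        _ = 1 := by rw [hw0, one_mul]
    · refine hwne1 (mul_left_cancel₀ ?_ (h1.trans (mul_one _).symm))
      intro h0
      rw [h0, mul_zero] at hw0
      exact zero_ne_one hw0
    · refine hne 4 hc4 ?_
      calc ζ ^ 4 = ζ ^ 2 * ζ ^ 2 * (w * w) := by rw [h1]; ring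
        _ = (ζ ^ 2 * w) * (ζ ^ 2 * w) := by ring
        _ = 1 := by rw [hw0, one_mul]
  · obtain rfl := ((hu' (by omega)).resolve_right fun h' => by omega)
    obtain ⟨t, ht, he'', hct⟩ := hst 1 (by simp [hWdef, Multiset.mem_replicate]; omega)
    rw [hcnt.2.2] at hct
    rw [mul_one, hσa _ he] at he''
    rcases hmem t ht with rfl | rfl | ⟨rfl, -⟩
    · rw [hcnt.1] at hct; omega
    · rw [hcnt.2.1] at hct; omega
    · exact hne 2 hc2 (by rw [pow_two, mul_left_cancel₀ ha he''])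

/-- Elements of odd prime order r ≠ p of PSL_n(q) and subfield subgroups. Here `T = PSL_n(F)` for a field `F` with `q = p^f` elements (`n ≥ 2`, `(n, q) ≠ (2, 2), (2, 3)`), `F₀` is the subfield with `q₀` elements where `q = q₀^k` for a prime `k`, and `H` is the subgroup of matrices of determinant 1 lying in the subfield group of `F₀` (invertible matrices over `F₀` times scalars) — a maximal subgroup of type GL_n(q₀) (the case `n = 2`, `q₀ = 2` is excluded); Ω is the set of `T`-conjugates of `H` (cosets of `H`), so an element of `T` of prime order `r` (a matrix `x` of determinant 1 with `x^r` scalar, `x` not scalar) fixes a point of Ω when some conjugate of `x` by a matrix of determinant 1 lies in `H`. Let `r ≠ p` be an odd prime dividing the index of `H`, with `(n, r) ≠ (6, 3)` and, when `r = k` divides `q₀ − 1`, with `(n)_r ≤ (q − 1)_r`. Then every element of `T` of order `r` is conjugate in `T` into `H` if and only if `r = k`, or `k = 2`, `r = n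 ∈ {3, 5}` and `(q₀ + 1)_r = r`. The two excluded cases, `(n, r) = (6, 3)` and `r = k ∣ q₀ − 1` with `(n)_r > (q − 1)_r`, are ones where this criterion can fail, so they are left out. -/
theorem result {F : Type*} [Field F] [Fintype F] {p : ℕ} [Fact p.Prime] [CharP F p] {q : ℕ} (hq : Fintype.card F = q)
    (n : ℕ) (hn : 2 ≤ n) (hT : (n, q) ≠ (2, 2) ∧ (n, q) ≠ (2, 3))
    (F₀ : Subfield F) (k q₀ : ℕ) (hk : k.Prime) (hF₀ : Nat.card ↥F₀ = q₀) (hqk : q = q₀ ^ k) (hC5 : ¬ (n = 2 ∧ q₀ = 2)) (r : ℕ) [Fact r.Prime] (hr2 : r ≠ 2) (hrp : r ≠ p) (hgap : ¬ (n = 6 ∧ r = 3)) (hgapk : r = k → r ∣ q₀ - 1 → padicValNat r n ≤ padicValNat r (q - 1)) (hΩ : r ∣ ((Cfsg.Geo.subfieldSubgroup F₀ 1).comap (Matrix.SpecialLinearGroup.toGL : Matrix.SpecialLinearGroup (Fin n) F →* GL (Fin n) F)).index) :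
    (∀ x : Matrix.SpecialLinearGroup (Fin n) F,
      (∃ z : F, ((x ^ r : Matrix.SpecialLinearGroup (Fin n) F) : Matrix (Fin n) (Fin n) F) = z • (1 : Matrix (Fin n) (Fin n) F)) →
      (∀ z : F, (x : Matrix (Fin n) (Fin n) F) ≠ z • (1 : Matrix (Fin n) (Fin n) F)) →
      ∃ P : Matrix.SpecialLinearGroup (Fin n) F, P⁻¹ * x * P ∈ ((Cfsg.Geo.subfieldSubgroup F₀ 1).comap (Matrix.SpecialLinearGroup.toGL : Matrix.SpecialLinearGroup (Fin n) F →* GL (Fin n) F))) ↔
    (r = k ∨ (k = 2 ∧ r = n ∧ (n = 3 ∨ n = 5) ∧ padicValNat r (q₀ + 1) = 1)) := by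
  subst hq
  simp only [Matrix.SpecialLinearGroup.coe_pow]
  constructor
  · intro h
    by_cases hrk : r = k
    · exact Or.inl hrk
    · exact Or.inr (exception_of_all (p := p) hrp hr2 hn F₀ hk hF₀ hqk hgap hrk hΩ h)
  · rintro (rfl | ⟨rfl, rfl, h35, hv⟩)
    · exact conj_of_eq (p := p) hrp hr2 (by omega) F₀ hF₀ hqk (hgapk rfl)
    · exact conj_of_exception (p := p) hrp F₀ hF₀ hqk h35 hv

end Cfsg.Agent.S5965
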