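import Cfsg.Statements.S5966
import Cfsg.Agent.Lib.Classical.JordanChains
import Cfsg.Agent.Lib.Classical.MaxRational
import Cfsg.Agent.Lib.Classical.AschBasic
import Cfsg.Agent.Lib.Classical.QuadClass
import Cfsg.Agent.S5964
-- import your own Cfsg.Agent.* helpers here

set_option autoImplicit false
open scoped MatrixGroups
open Cfsg Cfsg.Agent

namespace Cfsg.Agent.S5966
open Matrix Module

variable {F : Type*} [Field F] [Fintype F] [CharP F 3] {n : ℕ}

theorem exists_cbrt (a : F) : ∃ c : F, c ^ 3 = a := by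
  haveI : Fact (Nat.Prime 3) := ⟨Nat.prime_three⟩
  obtain ⟨c, hc⟩ := (PerfectRing.bijective_frobenius (R := F) (p := 3)).2 a
  exact ⟨c, by simpa [frobenius_def] using hc⟩

theorem cube_inj {a b : F} (h : a ^ 3 = b ^ 3) : a = b := by
  haveI : Fact (Nat.Prime 3) := ⟨Nat.prime_three⟩
  refine sub_eq_zero.1 (pow_eq_zero_iff (n := 3) (by norm_num) |>.1 ?_)
  rw [sub_pow_char, h, sub_self]

/-- Elements of the subfield are squares in a quadratic extension. -/
theorem isSquare_sub (F₀ : Subfield F) {q₀ : ℕ} (hF₀ : Nat.card F₀ = q₀) (hq : Fintype.card F = q₀ ^ 2) (hodd : Odd q₀)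
    {b : F} (hb : b ∈ F₀) : IsSquare b := by
  classical
  haveI := Fintype.ofFinite F₀
  by_cases hb0 : b = 0
  · exact hb0 ▸ IsSquare.zero
  have hb0' : (⟨b, hb⟩ : F₀) ≠ 0 := fun h => hb0 (congrArg Subtype.val h)
  have h1 := congrArg Subtype.val (FiniteField.pow_card_sub_one_eq_one (⟨b, hb⟩ : F₀) hb0')
  rw [← Nat.card_eq_fintype_card, hF₀] at h1
  push_cast at h1
  obtain ⟨s, hs⟩ := hodd
  refine (FiniteField.isSquare_iff ?_ hb0).2 ?_
  · rw [ringChar.eq F 3]; norm_num
  have h2 : Fintype.card F / 2 = (q₀ - 1) * (s + 1) := by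
    rw [hq, hs, Nat.add_sub_cancel]
    have : (2 * s + 1) ^ 2 = 2 * (2 * s * (s + 1)) + 1 := by ring
    omega
  rw [h2, pow_mul, h1, one_pow]

/-- A non-square of the subfield stays a non-square in odd degree. -/
theorem exists_adjust (F₀ : Subfield F) {q₀ k : ℕ} (hF₀ : Nat.card F₀ = q₀) (hq : Fintype.card F = q₀ ^ k) (hk : Odd k)
    {w : F} (hw : w ≠ 0) : ∃ t ∈ F₀, t ≠ 0 ∧ IsSquare (w * t) := by
  classical
  by_cases h : IsSquare w
  · exact ⟨1, F₀.one_mem, one_ne_zero, by rwa [mul_one]⟩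
  haveI := Fintype.ofFinite F₀
  have h2 : (2 : F) ≠ 0 := fun h => by
    have := (CharP.cast_eq_zero_iff F 3 2).1 (by exact_mod_cast h)
    norm_num at this
  have h20 : ringChar F₀ ≠ 2 := fun h' => h2 (by
    have h0 : ((2 : ℕ) : F₀) = 0 := (ringChar.spec F₀ 2).2 (by rw [h'])
    have h1 := congrArg Subtype.val h0
    push_cast at h1
    exact h1)
  obtain ⟨ν, hν⟩ := FiniteField.exists_nonsquare h20
  have hν0 : (ν : F) ≠ 0 := fun h0 => hν (by rw [show ν = 0 from Subtype.ext h0]; exact IsSquare.zero)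
  have hνF : ¬ IsSquare (ν : F) := fun hsq => by
    have hν1 : ν ≠ 0 := fun h0 => hν0 (by rw [h0]; rfl)
    have hc2 : ringChar F ≠ 2 := by rw [ringChar.eq F 3]; norm_num
    have e1 := (FiniteField.isSquare_iff hc2 hν0).1 hsq
    have e0 := FiniteField.pow_dichotomy h20 hν1
    rcases e0 with e0 | e0
    · exact hν ((FiniteField.isSquare_iff h20 hν1).2 e0)
    have hoddq : Odd q₀ := by
      rw [← hF₀, Nat.card_eq_fintype_card]
      exact Nat.odd_iff.2 (FiniteField.odd_card_of_char_ne_two h20)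
    obtain ⟨m, hm, hfac⟩ := S5964.odd_pow_sub_factor hoddq hk
    have e2 : (ν : F) ^ (Fintype.card F₀ / 2) = -1 := by
      have := congrArg Subtype.val e0
      push_cast at this
      exact this
    have hh : Fintype.card F / 2 = (Fintype.card F₀ / 2) * m := by
      obtain ⟨s, hs⟩ := hoddq
      rw [← Nat.card_eq_fintype_card (α := F₀), hF₀, hq, hs]
      rw [hs] at hfac
      have h1 : 1 ≤ (2 * s + 1) ^ k := Nat.one_le_pow _ _ (by omega)
      have h3 : (2 * s + 1) ^ k = 2 * (s * m) + 1 := by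
        have : (2 * s + 1 - 1) * m = 2 * (s * m) := by rw [Nat.add_sub_cancel]; ring
        omega
      rw [h3, show (2 * s + 1) / 2 = s by omega]
      omega
    rw [hh, pow_mul, e2, hm.neg_one_pow] at e1
    exact h2 (by linear_combination -e1)
  refine ⟨ν, ν.2, hν0, ?_⟩
  exact Classical.isSquare_of_two_nonsquares h2 h hνF

/-- Elements of order three lie in the subfield group when the determinant can be adjusted. -/
theorem exists_conj (hn : 1 ≤ n) (F₀ : Subfield F) {q₀ k : ℕ} (hF₀ : Nat.card F₀ = q₀) (hq : Fintype.card F = q₀ ^ k)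
    (hcase : Odd n ∨ Odd k) (x : Matrix.SpecialLinearGroup (Fin n) F) {z : F}
    (hz : (x : Matrix (Fin n) (Fin n) F) ^ 3 = z • 1) :
    ∃ P : Matrix.SpecialLinearGroup (Fin n) F, P⁻¹ * x * P ∈ ((Geo.subfieldSubgroup F₀ 1).comap
      (Matrix.SpecialLinearGroup.toGL : Matrix.SpecialLinearGroup (Fin n) F →* GL (Fin n) F)) := by
  classical
  haveI : Fact (Nat.Prime 3) := ⟨Nat.prime_three⟩
  obtain ⟨s, hs⟩ := exists_cbrt z
  haveI : Nonempty (Fin n) := ⟨⟨0, hn⟩⟩
  have hs0 : s ≠ 0 := fun h => by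
    have hh := congrArg Matrix.det hz
    rw [det_pow, x.2, one_pow, ← hs, h, zero_pow (by norm_num), zero_smul, det_zero] at hh
    exact one_ne_zero hh
  set M : Matrix (Fin n) (Fin n) F := s⁻¹ • (x : Matrix (Fin n) (Fin n) F) - 1 with hMdef
  haveI : CharP (Matrix (Fin n) (Fin n) F) 3 := ⟨fun t => by
    rw [← CharP.cast_eq_zero_iff F 3 t]
    refine ⟨fun h => ?_, fun h => ?_⟩
    · simpa [Matrix.natCast_apply] using congrFun (congrFun h ⟨0, hn⟩) ⟨0, hn⟩
    · ext i j; simp [Matrix.natCast_apply, h]⟩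
  have hM3 : M ^ 3 = 0 := by
    rw [hMdef, sub_pow_char_of_commute 3 (Commute.one_right _), smul_pow, one_pow, hz, ← hs, smul_smul, ← mul_pow,
      inv_mul_cancel₀ hs0, one_pow, one_smul, sub_self]
  set N : Module.End F (Fin n → F) := Matrix.toLinAlgEquiv' M
  have hN3 : N ^ 3 = 0 := by rw [← map_pow, hM3, map_zero]
  obtain ⟨t, len, v, hch⟩ := JordanChains.exists_chains (N := N) ⟨3, hN3⟩
  obtain ⟨hpos, hkv, hli, hsp⟩ := hch
  have hle : ∀ i, len i ≤ 3 := fun i => by
    by_contra hlt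
    push Not at hlt
    refine hli.ne_zero (⟨i, ⟨3, hlt⟩⟩ : Σ i, Fin (len i)) ?_
    show (N ^ 3) (v i) = 0
    rw [hN3]; rfl
  let b := Module.Basis.mk hli hsp
  let e : (Σ i, Fin (len i)) ≃ Fin n := Fintype.equivFinOfCardEq (by
    rw [← Module.finrank_eq_card_basis b, Module.finrank_fin_fun])
  set B : Matrix (Fin n) (Fin n) F := Matrix.of fun i j => b (e.symm j) i
  have hcol : ∀ j, B *ᵥ Pi.single j 1 = b (e.symm j) := fun j => by rw [mulVec_single_one]; rfl
  have hBu : B.det ≠ 0 := by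
    rw [← isUnit_iff_ne_zero, ← Matrix.isUnit_iff_isUnit_det, ← Matrix.linearIndependent_cols_iff_isUnit]
    exact b.linearIndependent.comp _ e.symm.injective
  let ent : (Σ i, Fin (len i)) → (Σ i, Fin (len i)) → F := fun a c =>
    if a = c ∨ (a.1 = c.1 ∧ (a.2 : ℕ) = c.2 + 1) then 1 else 0
  set A : Matrix (Fin n) (Fin n) F := Matrix.of fun i j => ent (e.symm i) (e.symm j)
  have hxB : (x : Matrix (Fin n) (Fin n) F) * B = B * (s • A) := by
    refine Matrix.ext_of_mulVec_single fun j => ?_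
    rw [← mulVec_mulVec, ← mulVec_mulVec, hcol, smul_mulVec, mulVec_smul]
    have hx : (x : Matrix (Fin n) (Fin n) F) *ᵥ b (e.symm j) = s • (b (e.symm j) + N (b (e.symm j))) := by
      show _ = s • (b (e.symm j) + M *ᵥ b (e.symm j))
      rw [hMdef, sub_mulVec, one_mulVec, smul_mulVec, add_sub_cancel, smul_smul, mul_inv_cancel₀ hs0, one_smul]
    rw [hx]
    congr 1
    have hbB : b (e.symm j) + N (b (e.symm j)) = ∑ c, ent c (e.symm j) • b c := by
      obtain ⟨i, l⟩ := e.symm j
      rw [← Finset.add_sum_erase Finset.univ _ (Finset.mem_univ (⟨i, l⟩ : Σ i, Fin (len i)))]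
      congr 1
      · simp [ent]
      · have hNb : N (b ⟨i, l⟩) = (N ^ ((l : ℕ) + 1)) (v i) := by
          rw [Module.Basis.mk_apply, JordanChains.chainVec, JordanChains.pow_succ_apply]
        by_cases hl : (l : ℕ) + 1 < len i
        · rw [Finset.sum_eq_single (⟨i, ⟨(l : ℕ) + 1, hl⟩⟩ : Σ i, Fin (len i))]
          · rw [hNb, Module.Basis.mk_apply]
            simp [ent, JordanChains.chainVec]
          · rintro ⟨i', l'⟩ hc hne
            have : ¬ ((⟨i', l'⟩ : Σ i, Fin (len i)) = ⟨i, l⟩ ∨ (i' = i ∧ (l' : ℕ) = l + 1)) := by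
              rintro (h | ⟨rfl, h⟩)
              · exact (Finset.mem_erase.1 hc).1 h
              · exact hne (by congr 1; exact Fin.ext h)
            rw [show ent ⟨i', l'⟩ ⟨i, l⟩ = 0 from if_neg this, zero_smul]
          · intro h
            refine absurd (Finset.mem_erase.2 ⟨fun h' => ?_, Finset.mem_univ _⟩) h
            have h2 : l = (⟨(l : ℕ) + 1, hl⟩ : Fin (len i)) := eq_of_heq (Sigma.mk.inj_iff.1 h').2.symm
            have h3 : (l : ℕ) = (l : ℕ) + 1 := congrArg Fin.val h2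
            omega
        · rw [hNb]
          have h0 : (N ^ ((l : ℕ) + 1)) (v i) = 0 := by
            rw [show (l : ℕ) + 1 = len i by have := l.2; omega]; exact hkv i
          rw [h0, Finset.sum_eq_zero]
          rintro ⟨i', l'⟩ hc
          have : ¬ ((⟨i', l'⟩ : Σ i, Fin (len i)) = ⟨i, l⟩ ∨ (i' = i ∧ (l' : ℕ) = l + 1)) := by
            rintro (h | ⟨rfl, h⟩)
            · exact (Finset.mem_erase.1 hc).1 h
            · exact hl (h ▸ l'.2)
          rw [show ent ⟨i', l'⟩ ⟨i, l⟩ = 0 from if_neg this, zero_smul]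
    rw [hbB, mulVec_single_one, ← Equiv.sum_comp e.symm]
    funext r
    simp only [Finset.sum_apply, Pi.smul_apply, smul_eq_mul, Matrix.mulVec, dotProduct, col_apply, A, Matrix.of_apply, B]
    exact Finset.sum_congr rfl fun i _ => mul_comm _ _
  -- adjust the determinant
  obtain ⟨dd, t₀, ht₀, ht00, hdd⟩ : ∃ (dd : Fin t → F) (t₀ : F), t₀ ∈ F₀ ∧ t₀ ≠ 0 ∧ ∏ i, dd i ^ len i = (B.det)⁻¹ * t₀ := by
    by_cases hodd : ∃ i, len i = 1 ∨ len i = 3
    · obtain ⟨i, hi⟩ := hodd
      obtain ⟨c, hc⟩ : ∃ c : F, c ^ len i = (B.det)⁻¹ := by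
        rcases hi with h | h <;> rw [h]
        · exact ⟨_, pow_one _⟩
        · exact exists_cbrt _
      refine ⟨Function.update 1 i c, 1, F₀.one_mem, one_ne_zero, ?_⟩
      rw [Finset.prod_eq_single i (fun j _ hj => by simp [Function.update_of_ne hj]) (by simp)]
      simp [hc]
    · push Not at hodd
      have h2 : ∀ i, len i = 2 := fun i => by have := hpos i; have := hle i; have := hodd i; omega
      have hcard : n = 2 * t := by
        have h := Fintype.card_congr e
        rw [Fintype.card_sigma, Fintype.card_fin] at h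
        simp only [Fintype.card_fin, h2, Finset.sum_const, Finset.card_univ, smul_eq_mul] at h
        omega
      have hk : Odd k := hcase.resolve_left (by rw [Nat.not_odd_iff_even, hcard]; exact even_two_mul t)
      obtain ⟨t₀, ht₀, ht00, hsq⟩ := exists_adjust F₀ hF₀ hq hk (inv_ne_zero hBu)
      obtain ⟨c, hc⟩ := hsq
      have i₀ : Fin t := ⟨0, by omega⟩
      refine ⟨Function.update 1 i₀ c, t₀, ht₀, ht00, ?_⟩
      rw [Finset.prod_eq_single i₀ (fun j _ hj => by simp [Function.update_of_ne hj]) (by simp)]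
      simp [h2, hc, pow_two]
  set C : Matrix (Fin n) (Fin n) F := diagonal fun i => dd (e.symm i).1
  have hCd : C.det = (B.det)⁻¹ * t₀ := by
    rw [det_diagonal, Equiv.prod_comp e.symm (fun c : Σ i, Fin (len i) => dd c.1), ← hdd, Fintype.prod_sigma]
    simp
  have hAC : A * C = C * A := by
    ext i j
    rw [mul_diagonal, diagonal_mul]
    simp only [A, Matrix.of_apply, ent]
    split_ifs with h
    · rcases h with h | ⟨h, -⟩ <;> simp [h]
    · simp
  let i₁ : Fin n := ⟨0, hn⟩
  set T : Matrix (Fin n) (Fin n) F := diagonal (Function.update 1 i₁ t₀⁻¹)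
  set Ti : Matrix (Fin n) (Fin n) F := diagonal (Function.update 1 i₁ t₀)
  have hTT : Ti * T = 1 := by
    rw [diagonal_mul_diagonal, ← diagonal_one]
    congr 1
    funext i
    by_cases hi : i = i₁
    · subst hi; simp [mul_inv_cancel₀ ht00]
    · simp [Function.update_of_ne hi]
  let Ps : Matrix.SpecialLinearGroup (Fin n) F := ⟨B * C * T, by
    rw [det_mul, det_mul, hCd, ← mul_assoc, mul_inv_cancel₀ hBu, one_mul, det_diagonal,
      Finset.prod_update_of_mem (Finset.mem_univ i₁)]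
    simp [mul_inv_cancel₀ ht00]⟩
  refine ⟨Ps, ?_⟩
  have hval : (Ps⁻¹).1 * (x : Matrix (Fin n) (Fin n) F) * (B * C * T) = s • (Ti * A * T) := by
    have h1 : (x : Matrix (Fin n) (Fin n) F) * (B * C * T) = (B * C * T) * (s • (Ti * A * T)) := by
      rw [← mul_assoc, ← mul_assoc, hxB]
      simp only [Matrix.mul_smul, Matrix.smul_mul]
      congr 1
      rw [show B * C * T * (Ti * A * T) = B * C * ((T * Ti) * A) * T by simp only [mul_assoc],
        show T * Ti = 1 from mul_eq_one_comm.1 hTT, one_mul, mul_assoc B A C, hAC, ← mul_assoc]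
    rw [mul_assoc, h1, ← mul_assoc, show (Ps⁻¹).1 * (B * C * T) = 1 from congrArg Subtype.val (inv_mul_cancel Ps), one_mul]
  refine Classical.MaxTv.mem_subfieldSubgroup_of (a := s⁻¹) (inv_ne_zero hs0) fun v hv i => ?_
  show ((((1 : GL (Fin n) F)⁻¹ : GL (Fin n) F) : Matrix (Fin n) (Fin n) F) *ᵥ
    (s⁻¹ • (((Ps⁻¹).1 * (x : Matrix (Fin n) (Fin n) F) * (B * C * T)) *ᵥ v))) i ∈ F₀
  rw [hval, inv_one, Units.val_one, one_mulVec, smul_mulVec, smul_smul, inv_mul_cancel₀ hs0, one_smul]
  show ∑ j, (Ti * A * T) i j * v j ∈ F₀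
  refine F₀.sum_mem fun j _ => F₀.mul_mem ?_ ?_
  · rw [mul_diagonal, diagonal_mul]
    refine F₀.mul_mem (F₀.mul_mem ?_ ?_) ?_
    · by_cases hi : i = i₁
      · subst hi; simpa using ht₀
      · rw [Function.update_of_ne hi]; exact F₀.one_mem
    · simp only [A, Matrix.of_apply, ent]
      split_ifs
      · exact F₀.one_mem
      · exact F₀.zero_mem
    · by_cases hj : j = i₁
      · subst hj; simpa using F₀.inv_mem ht₀
      · rw [Function.update_of_ne hj]; exact F₀.one_mem
  · have := hv j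
    rwa [inv_one, Units.val_one, one_mulVec] at this

/-- A twisted element that is not conjugate into the subfield group. -/
theorem witness {j : ℕ} (hj : 1 ≤ j) (F₀ : Subfield F) {q₀ : ℕ} (hF₀ : Nat.card F₀ = q₀) (hq : Fintype.card F = q₀ ^ 2)
    (H : ∀ x : Matrix.SpecialLinearGroup (Fin (2 * j)) F,
      (∃ z : F, ((x ^ 3 : Matrix.SpecialLinearGroup (Fin (2 * j)) F) : Matrix (Fin (2 * j)) (Fin (2 * j)) F) =
        z • (1 : Matrix (Fin (2 * j)) (Fin (2 * j)) F)) →
      (∀ z : F, (x : Matrix (Fin (2 * j)) (Fin (2 * j)) F) ≠ z • (1 : Matrix (Fin (2 * j)) (Fin (2 * j)) F)) →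
      ∃ P : Matrix.SpecialLinearGroup (Fin (2 * j)) F, P⁻¹ * x * P ∈ ((Geo.subfieldSubgroup F₀ 1).comap
        (Matrix.SpecialLinearGroup.toGL : Matrix.SpecialLinearGroup (Fin (2 * j)) F →* GL (Fin (2 * j)) F))) : False := by
  classical
  have hc2 : ringChar F ≠ 2 := by rw [ringChar.eq F 3]; norm_num
  have hodd : Odd q₀ := by
    have h := FiniteField.odd_card_of_char_ne_two hc2
    rw [hq, ← Nat.odd_iff] at h
    exact (Nat.odd_pow_iff two_ne_zero).1 h
  obtain ⟨ν, hν⟩ := FiniteField.exists_nonsquare (F := F) hc2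
  have hν0 : ν ≠ 0 := fun h => hν (h ▸ IsSquare.zero)
  let i₀ : Fin j := ⟨0, hj⟩
  let C : Matrix (Fin j) (Fin j) F := diagonal (Function.update 1 i₀ ν)
  have hCd : C.det = ν := by rw [det_diagonal, Finset.prod_update_of_mem (Finset.mem_univ i₀)]; simp
  let N₀ : Matrix (Fin j ⊕ Fin j) (Fin j ⊕ Fin j) F := fromBlocks 0 1 0 0
  let N : Matrix (Fin j ⊕ Fin j) (Fin j ⊕ Fin j) F := fromBlocks 0 C 0 0
  let e : Fin (2 * j) ≃ Fin j ⊕ Fin j := (finCongr (two_mul j)).trans finSumFinEquiv.symm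
  let Φ : Matrix (Fin j ⊕ Fin j) (Fin j ⊕ Fin j) F ≃ₐ[F] Matrix (Fin (2 * j)) (Fin (2 * j)) F := Matrix.reindexAlgEquiv F F e.symm
  have hN2 : N * N = 0 := by rw [fromBlocks_multiply]; simp
  have hX : 1 + N = fromBlocks 1 C 0 1 := by rw [← fromBlocks_one, fromBlocks_add]; simp
  let x : Matrix.SpecialLinearGroup (Fin (2 * j)) F := ⟨Φ (1 + N), by
    show (Matrix.reindexAlgEquiv F F e.symm (1 + N)).det = 1
    rw [Matrix.det_reindexAlgEquiv, hX, det_fromBlocks_zero₂₁, det_one, one_mul]⟩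
  have hx3 : (1 + N) ^ 3 = 1 := by
    have h3 : (3 : F) = 0 := by exact_mod_cast CharP.cast_eq_zero F 3
    have e1 : (1 + N) ^ 3 = 1 + (3 : F) • N := by
      rw [show (3 : F) • N = N + N + N by module, pow_succ, pow_two,
        show (1 + N) * (1 + N) = 1 + N + N + N * N by noncomm_ring, hN2, add_zero]
      rw [show (1 + N + N) * (1 + N) = 1 + (N + N + N) + (N * N + N * N) by noncomm_ring, hN2, add_zero, add_zero]
    rw [e1, h3, zero_smul, add_zero]
  obtain ⟨P, hP⟩ := H x ⟨1, by rw [Matrix.SpecialLinearGroup.coe_pow]; show Φ (1 + N) ^ 3 = _; rw [← map_pow, hx3, map_one, one_smul]⟩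
    (fun c hc => by
      have h := Φ.injective ((show Φ (1 + N) = c • 1 from hc).trans (show c • 1 = Φ (c • 1) by rw [map_smul, map_one]))
      rw [hX, ← fromBlocks_one, fromBlocks_smul, fromBlocks_inj] at h
      have h1 := congrFun (congrFun h.2.1 i₀) i₀
      simp [C] at h1
      exact hν0 h1)
  obtain ⟨a, ha, hrat⟩ := Classical.MaxTv.exists_of_mem_subfieldSubgroup hP
  let Q : Matrix (Fin j ⊕ Fin j) (Fin j ⊕ Fin j) F := Φ.symm P.1
  let Qi : Matrix (Fin j ⊕ Fin j) (Fin j ⊕ Fin j) F := Φ.symm (P⁻¹).1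
  have hQQ : Q * Qi = 1 := by
    rw [← map_mul, show P.1 * (P⁻¹).1 = 1 from congrArg Subtype.val (mul_inv_cancel P), map_one]
  have hQQ' : Qi * Q = 1 := mul_eq_one_comm.1 hQQ
  have hQd : Q.det = 1 := by
    show (Matrix.reindexAlgEquiv F F e.symm |>.symm P.1).det = 1
    rw [Matrix.reindexAlgEquiv_symm, Matrix.det_reindexAlgEquiv]; exact P.2
  set Y := Qi * (1 + N) * Q
  have hΦY : Φ Y = (P⁻¹).1 * Φ (1 + N) * P.1 := by
    rw [map_mul, map_mul, AlgEquiv.apply_symm_apply, AlgEquiv.apply_symm_apply]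
  have hent : ∀ i l, a * Y i l ∈ F₀ := fun i l => by
    have h := hrat (Pi.single (e.symm l) 1) (fun i' => by
      rw [inv_one, Units.val_one, one_mulVec, Pi.single_apply]
      split_ifs
      · exact F₀.one_mem
      · exact F₀.zero_mem) (e.symm i)
    rw [inv_one, Units.val_one, one_mulVec] at h
    change (a • (((P⁻¹).1 * Φ (1 + N) * P.1) *ᵥ Pi.single (e.symm l) 1)) (e.symm i) ∈ F₀ at h
    rw [← hΦY, mulVec_single_one, Pi.smul_apply, col_apply, smul_eq_mul] at h
    simpa [Φ] using h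
  have hY3 : Y ^ 3 = 1 := by
    rw [show Y ^ 3 = Qi * ((1 + N) * (Q * Qi) * (1 + N) * (Q * Qi) * (1 + N)) * Q by simp only [Y, pow_succ, pow_zero, one_mul, mul_assoc],
      hQQ, mul_one, mul_one, ← pow_two, ← pow_succ, hx3, mul_one, hQQ']
  have ha3 : a ^ 3 ∈ F₀ := by
    have h0 := congrFun (congrFun hY3 (Sum.inl i₀)) (Sum.inl i₀)
    have h1 : ((a • Y) ^ 3) (Sum.inl i₀) (Sum.inl i₀) = a ^ 3 := by
      rw [smul_pow, Matrix.smul_apply, h0, one_apply_eq, smul_eq_mul, mul_one]
    rw [← h1, pow_succ, pow_two, Matrix.mul_apply]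
    refine F₀.sum_mem fun l _ => F₀.mul_mem ?_ (hent _ _)
    rw [Matrix.mul_apply]
    exact F₀.sum_mem fun l' _ => F₀.mul_mem (hent _ _) (hent _ _)
  haveI := Fintype.ofFinite F₀
  have haF : a ∈ F₀ := by
    refine Classical.Asch.mem_of_frob_fixed F₀ (cube_inj ?_)
    have h := congrArg Subtype.val (FiniteField.pow_card (⟨a ^ 3, ha3⟩ : F₀))
    push_cast at h
    rw [← Nat.card_eq_fintype_card] at h
    rw [← pow_mul, mul_comm, pow_mul]
    exact h
  have hYent : ∀ i l, Y i l ∈ F₀ := fun i l => by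
    rw [show Y i l = a⁻¹ * (a * Y i l) by rw [inv_mul_cancel_left₀ ha]]
    exact F₀.mul_mem (F₀.inv_mem haF) (hent i l)
  obtain ⟨N', hN'⟩ : ∃ N', N' = Qi * N * Q := ⟨_, rfl⟩
  have hN'Y : N' = Y - 1 := by rw [hN']; simp only [Y, mul_add, add_mul, mul_one, hQQ', add_sub_cancel_left]
  have hN'ent : ∀ i l, N' i l ∈ F₀ := fun i l => by
    rw [hN'Y, Matrix.sub_apply, Matrix.one_apply]
    refine F₀.sub_mem (hYent i l) ?_
    split_ifs
    · exact F₀.one_mem
    · exact F₀.zero_mem
  have hN'2 : N' * N' = 0 := by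
    rw [show N' * N' = Qi * (N * (Q * Qi) * N) * Q by simp only [hN', mul_assoc], hQQ, mul_one, hN2, mul_zero, zero_mul]
  obtain ⟨κ, c, hcinj, hcspan, hcli⟩ := exists_linearIndependent' F N'.col
  haveI : Finite κ := Finite.of_injective c hcinj
  haveI := Fintype.ofFinite κ
  have hrank : Fintype.card κ = j := by
    rw [← finrank_span_eq_card hcli, hcspan]
    have hrN' : finrank F (Submodule.span F (Set.range N'.col)) = N'.rank := (Matrix.rank_eq_finrank_span_cols N').symm
    rw [hrN', hN', rank_mul_eq_left_of_isUnit_det _ _ (by rw [hQd]; exact isUnit_one),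
      rank_mul_eq_right_of_isUnit_det _ _ ((Matrix.isUnit_iff_isUnit_det _).1 (IsUnit.of_mul_eq_one _ hQQ'))]
    have hCu : IsUnit C := (Matrix.isUnit_iff_isUnit_det _).2 (by rw [hCd]; exact isUnit_iff_ne_zero.2 hν0)
    have hr : LinearMap.range N.mulVecLin =
        LinearMap.range ({ toFun := fun w => Sum.elim w 0
                           map_add' := fun a b => by funext i; rcases i with i | i <;> simp
                           map_smul' := fun t a => by funext i; rcases i with i | i <;> simp } :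
          (Fin j → F) →ₗ[F] (Fin j ⊕ Fin j → F)) := by
      ext y
      constructor
      · rintro ⟨w, rfl⟩
        refine ⟨C *ᵥ (w ∘ Sum.inr), ?_⟩
        show Sum.elim _ (0 : Fin j → F) = N *ᵥ w
        rw [fromBlocks_mulVec]; simp
      · rintro ⟨w, rfl⟩
        obtain ⟨w', hw'⟩ := Matrix.mulVec_surjective_iff_isUnit.2 hCu w
        refine ⟨Sum.elim 0 w', ?_⟩
        show N *ᵥ Sum.elim 0 w' = Sum.elim w 0
        rw [fromBlocks_mulVec]; simp [hw']
    rw [Matrix.rank, hr, LinearMap.finrank_range_of_inj, Module.finrank_fin_fun]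
    exact fun a b h => funext fun i => congrFun h (Sum.inl i)
  let f : Fin j ≃ κ := (Fintype.equivFinOfCardEq hrank).symm
  let M' : Matrix (Fin j ⊕ Fin j) (Fin j ⊕ Fin j) F :=
    Matrix.of fun r => Sum.elim (fun i => N' r (c (f i))) fun i => if r = c (f i) then (1 : F) else 0
  have hM'ent : ∀ r l, M' r l ∈ F₀ := fun r l => by
    rcases l with l | l
    · exact hN'ent _ _
    · show (if r = c (f l) then (1 : F) else 0) ∈ F₀
      split_ifs
      · exact F₀.one_mem
      · exact F₀.zero_mem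
  have hcolL : ∀ i, M'.col (Sum.inl i) = N'.col (c (f i)) := fun i => rfl
  have hcolR : ∀ i, M'.col (Sum.inr i) = Pi.single (c (f i)) 1 := fun i => funext fun r => by
    show (if r = c (f i) then (1 : F) else 0) = _
    rw [Pi.single_apply]
  have hNcol : ∀ i, N' *ᵥ N'.col i = 0 := fun i => by rw [← mulVec_single_one, mulVec_mulVec, hN'2, zero_mulVec]
  have hM'u : IsUnit M' := by
    rw [← Matrix.linearIndependent_cols_iff_isUnit, Fintype.linearIndependent_iff]
    intro g hg
    rw [Fintype.sum_sum_type] at hg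
    simp only [hcolL, hcolR] at hg
    have h1 := congrArg (fun v => N' *ᵥ v) hg
    simp only [mulVec_add, mulVec_sum, mulVec_smul, hNcol, smul_zero, Finset.sum_const_zero, zero_add, mulVec_zero,
      mulVec_single_one] at h1
    have hli' := Fintype.linearIndependent_iff.1 (hcli.comp f f.injective)
    have hr := hli' (fun i => g (Sum.inr i)) h1
    simp only [hr, zero_smul, Finset.sum_const_zero, add_zero] at hg
    rintro (i | i)
    · exact hli' (fun i => g (Sum.inl i)) hg i
    · exact hr i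
  have hN'M : N' * M' = M' * N₀ := by
    refine Matrix.ext_of_mulVec_single fun l => ?_
    rw [← mulVec_mulVec, ← mulVec_mulVec, mulVec_single_one, mulVec_single_one]
    rcases l with l | l
    · rw [hcolL, hNcol, show N₀.col (Sum.inl l) = 0 from funext fun r => by rcases r with r | r <;> simp [N₀],
        mulVec_zero]
    · rw [hcolR, show N₀.col (Sum.inr l) = Pi.single (Sum.inl l) 1 from funext fun r => by
        rcases r with r | r <;> simp [N₀, Matrix.one_apply, Pi.single_apply], mulVec_single_one, mulVec_single_one, hcolL]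
  have hM : N * (Q * M') = (Q * M') * N₀ := by
    rw [mul_assoc Q M', ← hN'M, hN',
      show Q * (Qi * N * Q * M') = (Q * Qi) * (N * (Q * M')) by simp only [mul_assoc], hQQ, one_mul]
  have hMd0 : (Q * M').det ≠ 0 := by
    rw [det_mul, hQd, one_mul]; exact ((Matrix.isUnit_iff_isUnit_det _).1 hM'u).ne_zero
  have hMdF : (Q * M').det ∈ F₀ := by
    rw [det_mul, hQd, one_mul, Matrix.det_apply]
    exact F₀.sum_mem fun σ _ => by
      rw [Units.smul_def, zsmul_eq_mul]
      exact F₀.mul_mem (intCast_mem F₀ _) (F₀.prod_mem fun i _ => hM'ent _ _)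
  set M := Q * M'
  rw [← fromBlocks_toBlocks M, fromBlocks_multiply, fromBlocks_multiply, fromBlocks_inj] at hM
  obtain ⟨h11, h12, -, -⟩ := hM
  simp only [zero_mul, mul_zero, zero_add, add_zero, mul_one] at h11 h12
  have hE : M.toBlocks₂₁ = 0 := by
    have hCu : IsUnit C.det := by rw [hCd]; exact isUnit_iff_ne_zero.2 hν0
    have h := congrArg (fun m => C⁻¹ * m) h11
    simp only [← mul_assoc, Matrix.nonsing_inv_mul C hCu, one_mul, mul_zero] at h
    exact h
  have hdet : M.det = ν * (M.toBlocks₂₂.det * M.toBlocks₂₂.det) := by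
    conv_lhs => rw [← fromBlocks_toBlocks M, hE, det_fromBlocks_zero₂₁, ← h12, det_mul, hCd]
    ring
  refine hν ?_
  obtain ⟨r, hr⟩ := isSquare_sub F₀ hF₀ hq hodd hMdF
  have hD0 : M.toBlocks₂₂.det ≠ 0 := fun h => hMd0 (by rw [hdet, h]; ring)
  exact ⟨r / M.toBlocks₂₂.det, by field_simp; linear_combination hdet.symm.trans hr⟩


/-- Elements of order 3 of PSL_n(q) in characteristic 3 and subfield subgroups. Here `T = PSL_n(F)` for a field `F` with `q` elements, `q` a power of 3 (`n ≥ 2`, `(n, q) ≠ (2, 2), (2, 3)`), `F₀` is the subfield with `q₀` elements where `q = q₀^k` for a prime `k`, and `H` is the subgroup of matrices of determinant 1 lying in the subfield group of `F₀` (invertible matrices over `F₀` times scalars) — a maximal subgroup of type GL_n(q₀) (the case `n = 2`, `q₀ = 2` is excluded); Ω is the set of `T`-conjugates of `H` (cosets of `H`), so an element of `T` of prime order `r` (a matrix `x` of determinant 1 with `x^r` scalar, `x` not scalar) fixes a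 point of Ω when some conjugate of `x` by a matrix of determinant 1 lies in `H`. Suppose 3 divides the index of `H`. Then every element of `T` of order 3 is conjugate in `T` into `H` if and only if `n` is odd, or `n` is even and `k > 2`. -/
theorem result {F : Type*} [Field F] [Fintype F] [CharP F 3] {q : ℕ} (hq : Fintype.card F = q)
    (n : ℕ) (hn : 2 ≤ n) (hT : (n, q) ≠ (2, 3))
    (F₀ : Subfield F) (k q₀ : ℕ) (hk : k.Prime) (hF₀ : Nat.card ↥F₀ = q₀) (hqk : q = q₀ ^ k) (hC5 : ¬ (n = 2 ∧ q₀ = 2)) (hΩ : 3 ∣ ((Cfsg.Geo.subfieldSubgroup F₀ 1).comap (Matrix.SpecialLinearGroup.toGL : Matrix.SpecialLinearGroup (Fin n) F →* GL (Fin n) F)).index) :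
    (∀ x : Matrix.SpecialLinearGroup (Fin n) F,
      (∃ z : F, ((x ^ 3 : Matrix.SpecialLinearGroup (Fin n) F) : Matrix (Fin n) (Fin n) F) = z • (1 : Matrix (Fin n) (Fin n) F)) →
      (∀ z : F, (x : Matrix (Fin n) (Fin n) F) ≠ z • (1 : Matrix (Fin n) (Fin n) F)) →
      ∃ P : Matrix.SpecialLinearGroup (Fin n) F, P⁻¹ * x * P ∈ ((Cfsg.Geo.subfieldSubgroup F₀ 1).comap (Matrix.SpecialLinearGroup.toGL : Matrix.SpecialLinearGroup (Fin n) F →* GL (Fin n) F))) ↔
    (Odd n ∨ (Even n ∧ 2 < k)) := by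

  classical
  subst hq
  constructor
  · intro H
    rcases Nat.even_or_odd n with he | ho
    · refine Or.inr ⟨he, ?_⟩
      by_contra hk2
      obtain rfl : k = 2 := by have := hk.two_le; omega
      obtain ⟨j, rfl⟩ := even_iff_two_dvd.1 he
      exact witness (by omega) F₀ hF₀ hqk H
    · exact Or.inl ho
  · intro hR x ⟨z, hz⟩ _
    rw [Matrix.SpecialLinearGroup.coe_pow] at hz
    refine exists_conj (by omega) F₀ hF₀ hqk ?_ x hz
    exact hR.imp id fun h => hk.odd_of_ne_two (by omega)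

end Cfsg.Agent.S5966
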