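import Cfsg.Statements.S5968
import Cfsg.Agent.Lib.Classical.NonsingularPointDerange
import Cfsg.Agent.Lib.Classical.AschSpShape
import Cfsg.Agent.Lib.Classical.SympBlocks
import Cfsg.Agent.Lib.Classical.SympGen
-- import your own Cfsg.Agent.* helpers here

set_option autoImplicit false
set_option maxHeartbeats 1000000
open scoped MatrixGroups
open Cfsg Cfsg.Agent

namespace Cfsg.Agent.S5968
open Matrix Cfsg.Agent.Classical Module

variable {F : Type*} [Field F]

section Forms
variable {ι : Type} [Fintype ι] [DecidableEq ι] {B : LinearMap.BilinForm F (ι → F)}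

/-- The rank of an alternating bilinear map is even. -/
theorem even_rank_alt (β : LinearMap.BilinForm F (ι → F)) (hβ : β.IsAlt) :
    Even (finrank F (LinearMap.range β)) := by
  obtain ⟨U, hU⟩ := Submodule.exists_isCompl (LinearMap.ker β)
  have h1 := β.finrank_range_add_finrank_ker
  have h2 := Submodule.finrank_add_eq_of_isCompl hU
  have h3 : finrank F (LinearMap.range β) = finrank F U := by omega
  rw [h3]
  refine Asch.even_finrank_nondeg β hβ fun u hu h => hU.disjoint.le_bot ⟨?_, hu⟩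
  refine LinearMap.ext fun v => ?_
  obtain ⟨a, ha, b, hb, rfl⟩ := Submodule.mem_sup.1 (show v ∈ LinearMap.ker β ⊔ U by rw [hU.sup_eq_top]; trivial)
  rw [map_add, LinearMap.zero_apply, h b hb, ← hβ.neg_eq, show β a = 0 from ha, LinearMap.zero_apply, neg_zero, add_zero]

theorem finrank_range_comp_toLin (hB : B.Nondegenerate) (M : Matrix ι ι F) :
    finrank F (LinearMap.range (LinearMap.comp B (Matrix.toLin' M))) = M.rank := by
  rw [LinearMap.range_comp]
  exact ((Submodule.equivMapOfInjective B (fun u v h => sub_eq_zero.1 (hB.1 _ fun w => by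
    rw [map_sub, LinearMap.sub_apply, h, sub_self])) _).finrank_eq).symm

/-- For an isometry with `(Y - 1)³ = 0`, the rank of `(Y - 1)²` is even. -/
theorem even_rank_sq (hB : B.IsAlt) (hnd : B.Nondegenerate) (Y : Matrix ι ι F)
    (hY : ∀ u v, B (Y *ᵥ u) (Y *ᵥ v) = B u v) (h3 : (Y - 1) ^ 3 = 0) : Even ((Y - 1) ^ 2).rank := by
  set N := Y - 1 with hN
  have hE : ∀ u v, B (N *ᵥ u) v + B u (N *ᵥ v) + B (N *ᵥ u) (N *ᵥ v) = 0 := fun u v => by
    have h := hY u v
    rw [show Y = N + 1 by rw [hN, sub_add_cancel]] at h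
    simp only [add_mulVec, one_mulVec, map_add, LinearMap.add_apply] at h
    linear_combination h
  have e2 : ∀ u, N *ᵥ (N *ᵥ u) = (N ^ 2) *ᵥ u := fun u => by rw [pow_two, mulVec_mulVec]
  have e3 : ∀ u, N *ᵥ ((N ^ 2) *ᵥ u) = 0 := fun u => by rw [mulVec_mulVec, ← pow_succ', h3, zero_mulVec]
  have h4 : ∀ u v, B ((N ^ 2) *ᵥ u) (N *ᵥ v) = 0 := fun u v => by
    have h := hE ((N ^ 2) *ᵥ u) v
    rwa [e3, map_zero, LinearMap.zero_apply, LinearMap.zero_apply, zero_add, add_zero] at h
  have halt : LinearMap.BilinForm.IsAlt (LinearMap.comp B (Matrix.toLin' (N ^ 2))) := fun u => by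
    show B (Matrix.toLin' (N ^ 2) u) u = 0
    have h := hE (N *ᵥ u) u
    rw [e2, h4, add_zero, hB.self_eq_zero, add_zero] at h
    rwa [Matrix.toLin'_apply]
  rw [← finrank_range_comp_toLin hnd]
  exact even_rank_alt _ halt

/-- For an isometry of order prime to the characteristic, the rank of `Y - 1` is even. -/
theorem even_rank_sub (hB : B.IsAlt) (hnd : B.Nondegenerate) (Y : Matrix ι ι F)
    (hY : ∀ u v, B (Y *ᵥ u) (Y *ᵥ v) = B u v) {r : ℕ} (hr : (r : F) ≠ 0) (hYr : Y ^ r = 1) :
    Even (Y - 1).rank := by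
  show Even (finrank F (LinearMap.range (Matrix.toLin' (Y - 1))))
  set N := Matrix.toLin' (Y - 1)
  have hNv : ∀ v, N v = Y *ᵥ v - v := fun v => by
    show Matrix.toLin' (Y - 1) v = _
    rw [Matrix.toLin'_apply, sub_mulVec, one_mulVec]
  have hdis : LinearMap.range N ⊓ LinearMap.ker N = ⊥ := by
    rw [eq_bot_iff]
    rintro _ ⟨⟨w, rfl⟩, hv⟩
    set v := N w with hv'
    have h1 : Y *ᵥ v = v := sub_eq_zero.1 (by rw [← hNv]; exact hv)
    have h2 : ∀ k : ℕ, (Y ^ k) *ᵥ w = w + (k : F) • v := fun k => by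
      induction k with
      | zero => simp
      | succ k ih =>
        rw [pow_succ', ← mulVec_mulVec, ih, mulVec_add, mulVec_smul, h1, Nat.cast_succ, add_smul, one_smul,
          show Y *ᵥ w = w + v by rw [hv', hNv, add_sub_cancel]]
        abel
    have h3 := h2 r
    rw [hYr, one_mulVec, left_eq_add] at h3
    exact (Submodule.mem_bot F).2 ((smul_eq_zero.1 h3).resolve_left hr)
  have htop : LinearMap.range N ⊔ LinearMap.ker N = ⊤ := by
    refine Submodule.eq_top_of_finrank_eq ?_
    have h := Submodule.finrank_sup_add_finrank_inf_eq (LinearMap.range N) (LinearMap.ker N)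
    rw [hdis, finrank_bot, add_zero, N.finrank_range_add_finrank_ker] at h
    exact h
  refine Asch.even_finrank_nondeg B hB fun u hu h => hnd.1 u fun z => ?_
  obtain ⟨w, rfl⟩ := hu
  obtain ⟨a, ha, b, hb, rfl⟩ := Submodule.mem_sup.1 (show z ∈ LinearMap.range N ⊔ LinearMap.ker N by rw [htop]; trivial)
  have h1 : B (N w) b = 0 := by
    have hb' : Y *ᵥ b = b := sub_eq_zero.1 (by rw [← hNv]; exact hb)
    have h := hY w b
    rw [hb'] at h
    rw [hNv, map_sub, LinearMap.sub_apply, h, sub_self]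
  rw [map_add, h a ha, h1, add_zero]

/-- Eigenvalues of a similitude come in pairs. -/
theorem rank_pair (hnd : B.Nondegenerate) (Y : Matrix ι ι F) (hYu : IsUnit Y) {μ : F}
    (hY : ∀ u v, B (Y *ᵥ u) (Y *ᵥ v) = μ * B u v) {c : F} (hc : c ≠ 0) :
    (Y - c • 1).rank = (Y - (μ / c) • 1).rank := by
  set G := LinearMap.BilinForm.toMatrix' B
  have hG : IsUnit G.det := isUnit_iff_ne_zero.2 ((LinearMap.BilinForm.nondegenerate_iff_det_ne_zero (Pi.basisFun F ι)).1 hnd)
  have hB : ∀ u v, B u v = u ⬝ᵥ (G *ᵥ v) := fun u v => by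
    rw [← Matrix.toBilin'_apply', Matrix.toBilin'_toMatrix']
  have hYG : Yᵀ * G * Y = μ • G := by
    ext i j
    have h := hY (Pi.single i 1) (Pi.single j 1)
    rw [hB, hB, mulVec_mulVec, dotProduct_comm, ← dotProduct_transpose_mulVec, mulVec_mulVec, ← mul_assoc] at h
    simpa using h
  have e : Yᵀ * G * (Y - c • 1) = (-c) • ((Yᵀ - (μ / c) • 1) * G) := by
    rw [mul_sub, hYG, sub_mul, Matrix.mul_smul, Matrix.mul_one, Matrix.smul_mul, Matrix.one_mul, smul_sub, smul_smul,
      neg_smul, neg_mul, mul_div_cancel₀ _ hc, neg_smul, sub_neg_eq_add, neg_add_eq_sub]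
  have hu : IsUnit (Yᵀ * G).det := by
    rw [det_mul, det_transpose]; exact ((Matrix.isUnit_iff_isUnit_det Y).1 hYu).mul hG
  have h := congrArg Matrix.rank e
  rw [rank_mul_eq_right_of_isUnit_det _ _ hu, show (-c) • ((Yᵀ - (μ / c) • 1) * G) = (Yᵀ - (μ / c) • 1) * ((-c) • G) from
      (Matrix.mul_smul _ _ _).symm, rank_mul_eq_left_of_isUnit_det _ _ (by
      rw [det_smul]; exact (isUnit_iff_ne_zero.2 (pow_ne_zero _ (neg_ne_zero.2 hc))).mul hG)] at h
  rw [h, ← rank_transpose (Y - (μ / c) • 1)]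
  simp

end Forms

section Count

variable [Fintype F]

theorem split_prime {q r : ℕ} (hr : r.Prime) (hr2 : r ≠ 2) (hrq : ¬ r ∣ q) (hq : 2 ≤ q) {d : ℕ}
    (h : r * (q ^ (d ^ 2) * ∏ i ∈ Finset.range d, (q ^ (2 * (i + 1)) - 1)) ∣
      2 * ∏ i : Fin (2 * d), (q ^ (2 * d) - q ^ (i : ℕ))) : ∃ j, Odd j ∧ j + 1 ≤ 2 * d ∧ r ∣ q ^ j - 1 := by
  have h1 : ∀ n : ℕ, ∏ i : Fin n, (q ^ n - q ^ (i : ℕ)) =
      (∏ i : Fin n, q ^ (i : ℕ)) * ∏ i ∈ Finset.range n, (q ^ (i + 1) - 1) := fun n => by
    rw [← Finset.prod_range_reflect (fun i => q ^ (i + 1) - 1), ← Fin.prod_univ_eq_prod_range, ← Finset.prod_mul_distrib]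
    refine Finset.prod_congr rfl fun i _ => ?_
    rw [Nat.mul_sub, mul_one, ← pow_add, show (i : ℕ) + (n - 1 - (i : ℕ) + 1) = n by omega]
  have h2 : ∀ e : ℕ, ∏ i ∈ Finset.range (2 * e), (q ^ (i + 1) - 1) =
      (∏ i ∈ Finset.range e, (q ^ (2 * i + 1) - 1)) * ∏ i ∈ Finset.range e, (q ^ (2 * (i + 1)) - 1) := fun e => by
    induction e with
    | zero => simp
    | succ e ih =>
      rw [show 2 * (e + 1) = 2 * e + 1 + 1 by ring, Finset.prod_range_succ, Finset.prod_range_succ, ih,
        Finset.prod_range_succ, Finset.prod_range_succ, show 2 * (e + 1) = 2 * e + 1 + 1 by ring]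
      ring
  rw [h1, h2] at h
  have hpos : 0 < ∏ i ∈ Finset.range d, (q ^ (2 * (i + 1)) - 1) := Finset.prod_pos fun i _ => by
    have := Nat.le_self_pow (show 2 * (i + 1) ≠ 0 by omega) q
    omega
  have h3 : r * ∏ i ∈ Finset.range d, (q ^ (2 * (i + 1)) - 1) ∣
      (2 * (∏ i : Fin (2 * d), q ^ (i : ℕ)) * ∏ i ∈ Finset.range d, (q ^ (2 * i + 1) - 1)) *
        ∏ i ∈ Finset.range d, (q ^ (2 * (i + 1)) - 1) := by
    refine Dvd.dvd.trans (mul_dvd_mul_left r (dvd_mul_left _ _)) (h.trans (dvd_of_eq (by ring)))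
  rcases (Nat.Prime.dvd_mul hr).1 (Nat.dvd_of_mul_dvd_mul_right hpos h3) with h4 | h4
  · rcases (Nat.Prime.dvd_mul hr).1 h4 with h5 | h5
    · exact absurd ((Nat.prime_dvd_prime_iff_eq hr Nat.prime_two).1 h5) hr2
    · obtain ⟨i, -, h6⟩ := (Prime.dvd_finsetProd_iff hr.prime _).1 h5
      exact absurd (hr.dvd_of_dvd_pow h6) hrq
  · obtain ⟨i, hi, h5⟩ := (Prime.dvd_finsetProd_iff hr.prime _).1 h4
    exact ⟨2 * i + 1, odd_two_mul_add_one i, by have := Finset.mem_range.1 hi; omega, h5⟩

/-- A prime dividing the index divides an odd torus order. -/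
theorem index_prime {n : ℕ} (f : (Fin n → F) → (Fin n → F) → F) (hf : Geo.IsSymplecticForm f) {r : ℕ}
    (hr : r.Prime) (hr2 : r ≠ 2) (hrq : ¬ r ∣ Fintype.card F)
    (hΩ : r ∣ ((Geo.similarityGroup f).comap
      (Matrix.SpecialLinearGroup.toGL : Matrix.SpecialLinearGroup (Fin n) F →* GL (Fin n) F)).index) :
    ∃ j, Odd j ∧ j + 1 ≤ n ∧ r ∣ Fintype.card F ^ j - 1 := by
  classical
  let B : LinearMap.BilinForm F (Fin n → F) := LinearMap.mk₂ F f hf.bilinear.add_left hf.bilinear.smul_left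
    hf.bilinear.add_right hf.bilinear.smul_right
  have hA : B.IsAlt := fun v => hf.alternating v
  have hB : ∀ x, (∀ y, B x y = 0) → x = 0 := fun x hx => by
    by_contra h
    obtain ⟨-, w, hw⟩ := hf.nondegenerate x h
    exact hw (hx w)
  obtain ⟨d, hd⟩ : Even (finrank F (⊤ : Submodule F (Fin n → F))) :=
    Asch.even_finrank_nondeg B hA fun u _ h => hB u fun y => h y trivial
  rw [finrank_top] at hd
  obtain ⟨L, hL⟩ := exists_symp_coords B hA hB (e := d) (by rw [hd, two_mul])
  rw [Module.finrank_fin_fun] at hd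
  obtain rfl : n = 2 * d := by omega
  let Φ : Matrix (Fin d ⊕ Fin d) (Fin d ⊕ Fin d) F ≃ₐ[F] Matrix (Fin (2 * d)) (Fin (2 * d)) F :=
    Matrix.toLinAlgEquiv'.trans ((LinearEquiv.conjAlgEquiv F L).trans Matrix.toLinAlgEquiv'.symm)
  have hΦ : ∀ M v, Φ M *ᵥ v = L (M *ᵥ L.symm v) := fun M v => by
    rw [← Matrix.toLinAlgEquiv'_apply]
    simp only [Φ, AlgEquiv.trans_apply]
    rw [AlgEquiv.apply_symm_apply, LinearEquiv.conjAlgEquiv_apply]
    rfl
  have hdetΦ : ∀ M, (Φ M).det = M.det := fun M => by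
    rw [← LinearMap.det_toLin' (Φ M), show Matrix.toLin' (Φ M) = L.conj (Matrix.toLin' M) from
      LinearMap.ext fun v => by rw [Matrix.toLin'_apply, hΦ]; rfl]
    exact (LinearMap.det_conj (Matrix.toLin' M) L).trans (LinearMap.det_toLin' M)
  let D : Matrix.symplecticGroup (Fin d) F →* F :=
    Matrix.detMonoidHom.comp (Matrix.symplecticGroup (Fin d) F).subtype
  set K := D.toHomUnits.ker
  have hK : ∀ g : K, (Φ ((g : Matrix.symplecticGroup (Fin d) F) : Matrix (Fin d ⊕ Fin d) (Fin d ⊕ Fin d) F)).det = 1 :=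
    fun g => by rw [hdetΦ]; exact congrArg Units.val (MonoidHom.mem_ker.1 g.2)
  let ψ : K →* Matrix.SpecialLinearGroup (Fin (2 * d)) F :=
    { toFun := fun g => ⟨_, hK g⟩
      map_one' := Subtype.ext (map_one Φ)
      map_mul' := fun g h => Subtype.ext (map_mul Φ _ _) }
  set S := (Geo.similarityGroup f).comap
      (Matrix.SpecialLinearGroup.toGL : Matrix.SpecialLinearGroup (Fin (2 * d)) F →* GL (Fin (2 * d)) F)
  have hψ : ψ.range ≤ S := by
    rintro _ ⟨g, rfl⟩
    refine ⟨1, fun u v => ?_⟩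
    show B (Φ _ *ᵥ u) (Φ _ *ᵥ v) = _
    rw [Units.val_one, one_mul, hΦ, hΦ, hL, sympForm_map, ← hL, LinearEquiv.apply_symm_apply, LinearEquiv.apply_symm_apply]
    rfl
  have hinj : Function.Injective ψ := fun g h e => Subtype.ext (Subtype.ext (Φ.injective (congrArg Subtype.val e)))
  have h1 : r * Nat.card K ∣ Nat.card (Matrix.SpecialLinearGroup (Fin (2 * d)) F) := by
    rw [← Subgroup.index_mul_card ψ.range, ← Nat.card_congr (MonoidHom.ofInjective hinj).toEquiv]
    exact mul_dvd_mul_right (hΩ.trans (Subgroup.index_dvd_of_le hψ)) _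
  have h2 : Nat.card (Matrix.symplecticGroup (Fin d) F) ∣ 2 * Nat.card K := by
    rw [← Subgroup.index_mul_card K]
    refine mul_dvd_mul_right ?_ _
    rw [Subgroup.index_ker]
    let N : Subgroup Fˣ := (powMonoidHom 2).ker
    have hle : D.toHomUnits.range ≤ N := by
      rintro _ ⟨g, rfl⟩
      show D.toHomUnits g ^ 2 = 1
      refine Units.ext ?_
      have hg := congrArg Matrix.det (SymplecticGroup.mem_iff.1 g.2)
      rw [det_mul, det_mul, det_transpose] at hg
      have hJ := (Matrix.isUnit_det_J (Fin d) F).ne_zero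
      have h' : (g : Matrix (Fin d ⊕ Fin d) (Fin d ⊕ Fin d) F).det ^ 2 * (Matrix.J (Fin d) F).det =
          1 * (Matrix.J (Fin d) F).det := by linear_combination hg
      simpa [D] using mul_right_cancel₀ hJ h'
    refine (Subgroup.card_dvd_of_le hle).trans ?_
    obtain ⟨g, hg⟩ := IsCyclic.exists_generator (α := N)
    rw [← orderOf_eq_card_of_forall_mem_zpowers hg]
    exact orderOf_dvd_of_pow_eq_one (Subtype.ext g.2)
  have h3 : Nat.card (Matrix.SpecialLinearGroup (Fin (2 * d)) F) ∣ Nat.card (GL (Fin (2 * d)) F) :=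
    Subgroup.card_dvd_of_injective _ (Matrix.SpecialLinearGroup.toGL_injective)
  have h4 : r * Nat.card (Matrix.symplecticGroup (Fin d) F) ∣ 2 * Nat.card (GL (Fin (2 * d)) F) := by
    refine (mul_dvd_mul_left r h2).trans ?_
    rw [mul_left_comm]
    exact mul_dvd_mul_left 2 (h1.trans h3)
  rw [natCard_symplecticGroup, Matrix.card_GL_field, Nat.card_eq_fintype_card] at h4
  exact split_prime hr hr2 hrq Fintype.one_lt_card h4

end Count

/-- An element of `SL` all of whose conjugates fail to be similitudes. -/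
theorem no_similitude {n : ℕ} (hn : 0 < n) (f : (Fin n → F) → (Fin n → F) → F) (hf : Geo.IsSymplecticForm f) {r : ℕ}
    {ι : Type} [Fintype ι] [DecidableEq ι] (e : Fin n ≃ ι) (X : Matrix ι ι F) (hdet : X.det = 1) (hX : X ^ r = 1)
    (key : ∀ (B : LinearMap.BilinForm F (Fin n → F)) (Y : Matrix (Fin n) (Fin n) F) (μ : F), B.IsAlt →
      B.Nondegenerate → IsUnit Y → μ ^ r = 1 → (∀ u v, B (Y *ᵥ u) (Y *ᵥ v) = μ * B u v) →
      Y ^ r = 1 → (∀ c : F, (Y - c • 1).rank = (X - c • 1).rank) → ((Y - 1) ^ 2).rank = ((X - 1) ^ 2).rank →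
      ((X - 1) ^ 3 = 0 → (Y - 1) ^ 3 = 0) → False) :
    ∃ x : Matrix.SpecialLinearGroup (Fin n) F,
      (∃ z : F, ((x ^ r : Matrix.SpecialLinearGroup (Fin n) F) : Matrix (Fin n) (Fin n) F) = z • 1) ∧
      (∀ z : F, (x : Matrix (Fin n) (Fin n) F) ≠ z • 1) ∧
      ∀ P : Matrix.SpecialLinearGroup (Fin n) F, P⁻¹ * x * P ∉ ((Geo.similarityGroup f).comap
        (Matrix.SpecialLinearGroup.toGL : Matrix.SpecialLinearGroup (Fin n) F →* GL (Fin n) F)) := by
  classical
  let Φ : Matrix ι ι F ≃ₐ[F] Matrix (Fin n) (Fin n) F := Matrix.reindexAlgEquiv F F e.symm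
  let x : Matrix.SpecialLinearGroup (Fin n) F := ⟨Φ X, by
    show (Matrix.reindexAlgEquiv F F e.symm X).det = 1
    rw [Matrix.det_reindexAlgEquiv, hdet]⟩
  have main : ∀ P : Matrix.SpecialLinearGroup (Fin n) F, P⁻¹ * x * P ∉ ((Geo.similarityGroup f).comap
        (Matrix.SpecialLinearGroup.toGL : Matrix.SpecialLinearGroup (Fin n) F →* GL (Fin n) F)) := by
    intro P hP
    obtain ⟨μ, hμ⟩ := hP
    let B : LinearMap.BilinForm F (Fin n → F) := LinearMap.mk₂ F f hf.bilinear.add_left hf.bilinear.smul_left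
      hf.bilinear.add_right hf.bilinear.smul_right
    have hA : B.IsAlt := fun v => hf.alternating v
    have hB : B.Nondegenerate := by
      refine (LinearMap.IsAlt.isRefl hA).nondegenerate_iff_separatingLeft.2 fun v hv => ?_
      by_contra h
      obtain ⟨-, w, hw⟩ := hf.nondegenerate v h
      exact hw (hv w)
    set Y : Matrix (Fin n) (Fin n) F := ((P⁻¹ * x * P : Matrix.SpecialLinearGroup (Fin n) F) : Matrix (Fin n) (Fin n) F) with hYdef
    have hY : Y = (P⁻¹ : Matrix.SpecialLinearGroup (Fin n) F).1 * Φ X * P.1 := rfl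
    have hPP : P.1 * (P⁻¹ : Matrix.SpecialLinearGroup (Fin n) F).1 = 1 := by
      exact congrArg Subtype.val (mul_inv_cancel P)
    have hPP' : (P⁻¹ : Matrix.SpecialLinearGroup (Fin n) F).1 * P.1 = 1 := by
      exact congrArg Subtype.val (inv_mul_cancel P)
    have hu1 : IsUnit (P⁻¹ : Matrix.SpecialLinearGroup (Fin n) F).1.det := by
      rw [show (P⁻¹ : Matrix.SpecialLinearGroup (Fin n) F).1.det = 1 from (P⁻¹).2]; exact isUnit_one
    have hu2 : IsUnit P.1.det := by rw [P.2]; exact isUnit_one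
    have hsub : ∀ (c : F), Y - c • 1 = (P⁻¹ : Matrix.SpecialLinearGroup (Fin n) F).1 * Φ (X - c • 1) * P.1 := fun c => by
      rw [hY, map_sub, map_smul, map_one, mul_sub, sub_mul, Matrix.mul_smul, Matrix.mul_one, Matrix.smul_mul, hPP']
    have hpow : ∀ (Z : Matrix ι ι F) (k : ℕ), ((P⁻¹ : Matrix.SpecialLinearGroup (Fin n) F).1 * Φ Z * P.1) ^ k =
        (P⁻¹ : Matrix.SpecialLinearGroup (Fin n) F).1 * Φ (Z ^ k) * P.1 := fun Z k => by
      induction k with
      | zero => rw [pow_zero, pow_zero, map_one, mul_one, hPP']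
      | succ k ih =>
        rw [pow_succ, ih, pow_succ, map_mul,
          show ∀ A C : Matrix (Fin n) (Fin n) F, (P⁻¹ : Matrix.SpecialLinearGroup (Fin n) F).1 * A * P.1 *
            ((P⁻¹ : Matrix.SpecialLinearGroup (Fin n) F).1 * C * P.1) =
            (P⁻¹ : Matrix.SpecialLinearGroup (Fin n) F).1 * (A * (P.1 * (P⁻¹ : Matrix.SpecialLinearGroup (Fin n) F).1) * C) * P.1 from
            fun A C => by simp only [mul_assoc], hPP, mul_one]
    have hrank : ∀ Z : Matrix ι ι F,
        ((P⁻¹ : Matrix.SpecialLinearGroup (Fin n) F).1 * Φ Z * P.1).rank = Z.rank := fun Z => by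
      rw [rank_mul_eq_left_of_isUnit_det _ _ hu2, rank_mul_eq_right_of_isUnit_det _ _ hu1]
      exact Matrix.rank_submatrix _ _ _
    have hY1 : Y - 1 = (P⁻¹ : Matrix.SpecialLinearGroup (Fin n) F).1 * Φ (X - 1) * P.1 := by simpa using hsub 1
    have hYr : Y ^ r = 1 := by rw [hY, hpow, hX, map_one, mul_one, hPP']
    have hiso : ∀ u v, B (Y *ᵥ u) (Y *ᵥ v) = (μ : F) * B u v := hμ
    have hμr : (μ : F) ^ r = 1 := by
      have hk : ∀ (k : ℕ) u v, B ((Y ^ k) *ᵥ u) ((Y ^ k) *ᵥ v) = (μ : F) ^ k * B u v := fun k => by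
        induction k with
        | zero => intro u v; simp
        | succ k ih => intro u v; rw [pow_succ', ← mulVec_mulVec, ← mulVec_mulVec, hiso, ih, pow_succ', mul_assoc]
      obtain ⟨v, hv⟩ : ∃ v : Fin n → F, v ≠ 0 := ⟨Pi.single ⟨0, hn⟩ 1, by simp⟩
      obtain ⟨-, w, hw⟩ := hf.nondegenerate v hv
      have h := hk r v w
      rw [hYr, one_mulVec, one_mulVec] at h
      exact mul_right_cancel₀ (show B v w ≠ 0 from hw) (by rw [one_mul]; exact h.symm)
    exact key B Y μ hA hB ((isUnit_iff_isUnit_det _).2 (by rw [hYdef, (P⁻¹ * x * P).2]; exact isUnit_one)) hμr hiso hYr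
      (fun c => by rw [hsub, hrank]) (by rw [hY1, hpow, hrank])
      (fun h0 => by rw [hY1, hpow, h0, map_zero, mul_zero, zero_mul])
  refine ⟨x, ⟨1, ?_⟩, fun z hz => main 1 ?_, main⟩
  · rw [one_smul]
    refine (Matrix.SpecialLinearGroup.coe_pow x r).trans ?_
    show (Φ X) ^ r = 1
    rw [← map_pow, hX, map_one]
  · rw [inv_one, one_mul, mul_one]
    refine ⟨Units.mk0 (z * z) ?_, fun u v => ?_⟩
    · intro h
      have hd := x.2
      rw [hz, det_smul, det_one, mul_one, Fintype.card_fin, mul_self_eq_zero.1 h] at hd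
      rw [zero_pow hn.ne'] at hd
      exact zero_ne_one hd
    · show f ((x : Matrix (Fin n) (Fin n) F) *ᵥ u) ((x : Matrix (Fin n) (Fin n) F) *ᵥ v) = (z * z) * f u v
      rw [hz, smul_mulVec, smul_mulVec, one_mulVec, one_mulVec, hf.bilinear.smul_left, hf.bilinear.smul_right, mul_assoc]


/-- Derangements of odd prime order of PSL_n(q) on the cosets of a symplectic-type subgroup. Here `T = PSL_n(F)` for a field `F` with `q` elements, `n ≥ 4` even, `f` is a nondegenerate alternating form on `F^n`, and `H` is the subgroup of matrices of determinant 1 preserving `f` up to a scalar — a maximal subgroup of type Sp_n(q); Ω is the set of `T`-conjugates of `H` (cosets of `H`), so an element of `T` of prime order `r` (a matrix `x` of determinant 1 with `x^r` scalar, `x` not scalar) fixes a point of Ω when some conjugate of `x` by a matrix of determinant 1 preserves `f` up to a scalar. For every odd prime `r` dividing the index of `H`, with `(n, r) ≠ (6, 3)`, there is an element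 of `T` of order `r` with no conjugate in `H`. (For `n = 6`, `r = 3` this can fail: when `(q − 1)_3 = 3` every element of order 3 is conjugate into `H`.) -/
theorem result {F : Type*} [Field F] [Fintype F] {p : ℕ} [Fact p.Prime] [CharP F p] {q : ℕ} (hq : Fintype.card F = q)
    (n : ℕ) (hn : 4 ≤ n) (he : Even n) (f : (Fin n → F) → (Fin n → F) → F) (hf : Cfsg.Geo.IsSymplecticForm f)
    (r : ℕ) [Fact r.Prime] (hr2 : r ≠ 2) (hgap : ¬ (n = 6 ∧ r = 3)) (hΩ : r ∣ ((Cfsg.Geo.similarityGroup f).comap (Matrix.SpecialLinearGroup.toGL : Matrix.SpecialLinearGroup (Fin n) F →* GL (Fin n) F)).index) :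
    ∃ x : Matrix.SpecialLinearGroup (Fin n) F,
      (∃ z : F, ((x ^ r : Matrix.SpecialLinearGroup (Fin n) F) : Matrix (Fin n) (Fin n) F) = z • (1 : Matrix (Fin n) (Fin n) F)) ∧
      (∀ z : F, (x : Matrix (Fin n) (Fin n) F) ≠ z • (1 : Matrix (Fin n) (Fin n) F)) ∧
      ∀ P : Matrix.SpecialLinearGroup (Fin n) F, P⁻¹ * x * P ∉ ((Cfsg.Geo.similarityGroup f).comap (Matrix.SpecialLinearGroup.toGL : Matrix.SpecialLinearGroup (Fin n) F →* GL (Fin n) F)) := by


  classical
  subst hq
  obtain ⟨e₀, hp, hFp⟩ := FiniteField.card F p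
  have hr : r.Prime := Fact.out
  by_cases hrp : r = p
  · subst hrp
    haveI : CharP (Matrix (Fin 3) (Fin 3) F) r := by
      refine ⟨fun k => ?_⟩
      rw [← CharP.cast_eq_zero_iff F r k]
      refine ⟨fun h => ?_, fun h => ?_⟩
      · simpa [Matrix.natCast_apply] using congrFun (congrFun h 0) 0
      · ext i j; simp [Matrix.natCast_apply, h]
    obtain ⟨k, rfl⟩ : ∃ k, n = 3 + k := ⟨n - 3, by omega⟩
    let N₀ : Matrix (Fin 3) (Fin 3) F := !![0, 1, 0; 0, 0, 1; 0, 0, 0]
    have hN3 : N₀ ^ 3 = 0 := by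
      ext i j; fin_cases i <;> fin_cases j <;> simp [N₀, pow_succ, Matrix.mul_apply, Fin.sum_univ_three]
    let X : Matrix (Fin 3 ⊕ Fin k) (Fin 3 ⊕ Fin k) F := fromBlocks (1 + N₀) 0 0 1
    have hX1 : X - 1 = fromBlocks N₀ 0 0 0 := by
      show fromBlocks (1 + N₀) 0 0 1 - 1 = _
      rw [← fromBlocks_one, sub_eq_add_neg, fromBlocks_neg, fromBlocks_add]
      simp
    have hpw : ∀ (A : Matrix (Fin 3) (Fin 3) F) (j : ℕ), (fromBlocks A 0 0 (0 : Matrix (Fin k) (Fin k) F)) ^ (j + 1) =
        fromBlocks (A ^ (j + 1)) 0 0 0 := fun A j => by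
      induction j with
      | zero => simp
      | succ j ih => rw [pow_succ, ih, fromBlocks_multiply, pow_succ A (j + 1)]; simp
    refine no_similitude (by omega) f hf (finSumFinEquiv.symm) X ?_ ?_ fun B Y μ hA hB hYu hμ hiso hYr hrk hrk2 h3 => ?_
    · rw [det_fromBlocks_zero₂₁, det_one, mul_one, det_fin_three]
      simp [N₀]
    · have hr3 : 3 ≤ r := by have := hp.two_le; omega
      have e : X = 1 + fromBlocks N₀ 0 0 0 := by rw [← hX1, add_sub_cancel]
      have h1 : ∀ j : ℕ, X ^ j = fromBlocks ((1 + N₀) ^ j) 0 0 1 := fun j => by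
        induction j with
        | zero => simp [fromBlocks_one]
        | succ j ih => rw [pow_succ, ih, fromBlocks_multiply, pow_succ]; simp
      rw [h1, add_pow_char_of_commute r (Commute.one_left N₀), one_pow, pow_eq_zero_of_le hr3 hN3, add_zero, fromBlocks_one]
    · have hμ1 : μ = 1 := by
        have h := sub_pow_char μ 1 (p := r)
        rw [hμ, one_pow, sub_self] at h
        exact sub_eq_zero.1 (pow_eq_zero_iff hp.ne_zero |>.1 h)
      have h30 : (Y - 1) ^ 3 = 0 := h3 (by rw [hX1, hpw N₀ 2, hN3, fromBlocks_zero])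
      have hev := even_rank_sq hA hB Y (fun u v => by rw [hiso, hμ1, one_mul]) h30
      rw [hrk2, hX1, hpw N₀ 1] at hev
      have hS : fromBlocks (N₀ ^ 2) 0 0 (0 : Matrix (Fin k) (Fin k) F) =
          vecMulVec (Pi.single (Sum.inl (0 : Fin 3)) 1) (Pi.single (Sum.inl (2 : Fin 3)) 1) := by
        ext (i | i) (j | j) <;> simp [vecMulVec_apply, N₀, pow_two]
        fin_cases i <;> fin_cases j <;> simp [Matrix.mul_apply, Fin.sum_univ_three]
      rw [hS] at hev
      have hle := rank_vecMulVec_le (Pi.single (Sum.inl (0 : Fin 3)) (1 : F) : Fin 3 ⊕ Fin k → F)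
        (Pi.single (Sum.inl (2 : Fin 3)) 1 : Fin 3 ⊕ Fin k → F)
      have hne : (vecMulVec (Pi.single (Sum.inl (0 : Fin 3)) (1 : F) : Fin 3 ⊕ Fin k → F)
          (Pi.single (Sum.inl (2 : Fin 3)) 1 : Fin 3 ⊕ Fin k → F)).rank ≠ 0 := fun h0 => by
        change finrank F (LinearMap.range (Matrix.mulVecLin _)) = 0 at h0
        rw [Submodule.finrank_eq_zero, LinearMap.range_eq_bot] at h0
        have h1 := congrFun (LinearMap.congr_fun h0 (Pi.single (Sum.inl (2 : Fin 3)) (1 : F) : Fin 3 ⊕ Fin k → F)) (Sum.inl 0)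
        simp [vecMulVec_apply] at h1
      obtain ⟨t, ht⟩ := hev
      omega
  have hrq : ¬ r ∣ Fintype.card F := fun h => hrp (by
    rw [hFp] at h
    exact (Nat.prime_dvd_prime_iff_eq hr hp).1 (hr.dvd_of_dvd_pow h))
  have hrF : (r : F) ≠ 0 := fun h => hrp
    ((Nat.prime_dvd_prime_iff_eq hp hr).1 ((CharP.cast_eq_zero_iff F p r).1 h)).symm
  obtain ⟨j, hjo, hjn, hrj⟩ := index_prime f hf hr hr2 hrq hΩ
  have hpos : ∀ j, 1 ≤ Fintype.card F ^ j := fun j => Nat.one_le_pow _ _ Fintype.card_pos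
  by_cases h1 : r ∣ Fintype.card F - 1
  · obtain ⟨u, hu⟩ := exists_prime_orderOf_dvd_card' (G := Fˣ) r
      (by rw [Nat.card_units, Nat.card_eq_fintype_card]; exact h1)
    set l : F := (u : F) with hl
    have hlr : l ^ r = 1 := by rw [hl, ← Units.val_pow_eq_pow_val, ← hu, pow_orderOf_eq_one, Units.val_one]
    have hlu : ∀ t : ℕ, l ^ t = 1 → r ∣ t := fun t ht => hu ▸ orderOf_dvd_of_pow_eq_one
      (Units.ext (by rw [Units.val_pow_eq_pow_val, Units.val_one]; exact ht))
    have hl0 : l ≠ 0 := u.ne_zero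
    have hr3 : 3 ≤ r := by have := hr.two_le; omega
    have hl1 : l ≠ 1 := fun h => by have := Nat.le_of_dvd (by norm_num) (hlu 1 (by rw [pow_one, h])); omega
    have hl2 : l ^ 2 ≠ 1 := fun h => by have := Nat.le_of_dvd (by norm_num) (hlu 2 h); omega
    set m : F := (l ^ 2)⁻¹ with hm
    have hm0 : m ≠ 0 := inv_ne_zero (pow_ne_zero 2 hl0)
    have hm1 : m ≠ 1 := fun h => hl2 (inv_eq_one.1 h)
    have hml : m = l ↔ r = 3 := by
      rw [hm]
      constructor
      · intro h
        have h3 : l ^ 3 = 1 := by rw [pow_succ]; nth_rw 2 [← h]; exact mul_inv_cancel₀ (pow_ne_zero 2 hl0)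
        exact (Nat.prime_dvd_prime_iff_eq hr Nat.prime_three).1 (hlu 3 h3)
      · rintro rfl
        exact inv_eq_of_mul_eq_one_right (by rw [← pow_succ, hlr])
    obtain ⟨k, rfl⟩ : ∃ k, n = 3 + k := ⟨n - 3, by omega⟩
    let dg : Fin 3 ⊕ Fin k → F := Sum.elim ![l, l, m] 1
    let cnt : F → ℕ := fun c => (if l = c then 2 else 0) + (if m = c then 1 else 0) + (if 1 = c then k else 0)
    refine no_similitude (by omega) f hf (finSumFinEquiv.symm) (diagonal dg) ?_ ?_ fun B Y μ hA hB hYu hμ hiso hYr hrk hrk2 h3 => ?_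
    · rw [det_diagonal, Fintype.prod_sum_type, Fin.prod_univ_three]
      simp [dg, hm]
      field_simp
    · rw [diagonal_pow, ← diagonal_one]
      congr 1
      funext i
      rcases i with i | i
      · fin_cases i <;> simp [dg, hm, hlr, inv_pow, ← pow_mul, mul_comm 2 r]
        rw [pow_mul, hlr, one_pow]
      · simp [dg]
    · have hc : ∀ c : F, (diagonal dg - c • 1).rank + cnt c = 3 + k := fun c => by
        rw [show diagonal dg - c • 1 = diagonal (fun i => dg i - c) by
          rw [smul_one_eq_diagonal, diagonal_sub], rank_diagonal, Fintype.card_subtype_compl]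
        have h2 : Fintype.card {i : Fin 3 ⊕ Fin k // dg i - c = 0} = cnt c := by
          rw [Fintype.card_subtype, Finset.card_filter, Fintype.sum_sum_type]
          simp only [dg, Sum.elim_inl, Sum.elim_inr, sub_eq_zero, Pi.one_apply, cnt]
          rw [Fin.sum_univ_three, Finset.sum_const, Finset.card_univ, Fintype.card_fin]
          simp only [Matrix.cons_val_zero, Matrix.cons_val_one, Matrix.cons_val_two, Matrix.cons_val,
            Matrix.head_cons, Matrix.tail_cons, smul_eq_mul, mul_ite, mul_one, mul_zero]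
          by_cases a1 : l = c
          · by_cases a2 : m = c
            · simp [a1, a2]
            · simp [a1, a2]
          · simp [a1]
        rw [h2]
        simp only [Fintype.card_sum, Fintype.card_fin]
        have hle : cnt c ≤ 3 + k := by
          rw [← h2]
          exact (Fintype.card_subtype_le _).trans (by simp)
        omega
      have hμ0 : μ ≠ 0 := fun h => by rw [h, zero_pow hr.ne_zero] at hμ; exact zero_ne_one hμ
      have hpair : ∀ c : F, c ≠ 0 → cnt c = cnt (μ / c) := fun c hc0 => by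
        have h := rank_pair hB Y hYu hiso hc0
        rw [hrk, hrk] at h
        have := hc c; have := hc (μ / c)
        omega
      have hk1 : k = 1 ∨ 3 ≤ k := by obtain ⟨t, ht⟩ := he; omega
      have hcl : cnt l = if r = 3 then 3 else 2 := by
        by_cases h33 : r = 3
        · simp [cnt, hl1.symm, h33, hml.2 h33]
        · have hne : ¬ l = m := fun h => h33 (hml.1 h.symm)
          simp [cnt, hl1.symm, h33, Ne.symm hne]
      have hcl2 : 2 ≤ cnt l := by rw [hcl]; split_ifs <;> omega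
      have hc1 : cnt 1 = k := by simp [cnt, hl1, hm1]
      have hcm : m ≠ l → cnt m = 1 := fun h => by simp [cnt, hm1.symm, h.symm]
      have hother : ∀ c, c ≠ l → c ≠ m → c ≠ 1 → cnt c = 0 := fun c a1 a2 a3 => by simp [cnt, Ne.symm a1, Ne.symm a2, Ne.symm a3]
      rcases hk1 with rfl | hk3
      · have hp1 := hpair l hl0
        have hμl : μ / l = l := by
          by_contra hne
          by_cases e1 : μ / l = m
          · rw [e1, hcm (fun h => hne (e1.trans h))] at hp1
            omega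
          · by_cases e2 : μ / l = 1
            · rw [e2, hc1] at hp1; omega
            · rw [hother _ hne e1 e2] at hp1; omega
        rw [div_eq_iff hl0] at hμl
        have hp2 := hpair 1 one_ne_zero
        rw [div_one, hμl, hc1] at hp2
        have e1 : l * l ≠ l := fun h => hl1 (mul_right_cancel₀ hl0 (by rw [h, one_mul]))
        have e2 : l * l ≠ 1 := fun h => hl2 (by rw [pow_two, h])
        have e3 : l * l ≠ m := fun h => by
          have h4 : l ^ 4 = 1 := by
            rw [show l ^ 4 = l * l * (l ^ 2) by ring, h, hm, inv_mul_cancel₀ (pow_ne_zero 2 hl0)]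
          exact hr2 ((Nat.prime_dvd_prime_iff_eq hr Nat.prime_two).1
            (hr.dvd_of_dvd_pow (show r ∣ 2 ^ 2 from hlu 4 h4)))
        rw [hother _ e1 e3 e2] at hp2
        omega
      · have hμ1 : μ = 1 := by
          by_contra hne
          have hp1 := hpair 1 one_ne_zero
          rw [div_one, hc1] at hp1
          by_cases e1 : μ = l
          · rw [e1, hcl] at hp1
            split_ifs at hp1 with h33
            · exact hgap ⟨by omega, h33⟩
            · omega
          · by_cases e2 : μ = m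
            · rw [e2, hcm (fun h => e1 (e2.trans h))] at hp1; omega
            · rw [hother _ e1 e2 hne] at hp1; omega
        have hp1 := hpair l hl0
        rw [hμ1, one_div] at hp1
        have e1 : l⁻¹ ≠ l := fun h => hl2 (by rw [pow_two]; nth_rw 2 [← h]; exact mul_inv_cancel₀ hl0)
        have e2 : l⁻¹ ≠ m := fun h => hl1 (by
          rw [hm, _root_.inv_inj, pow_two] at h
          exact mul_right_cancel₀ hl0 (h.symm.trans (one_mul l).symm))
        have e3 : l⁻¹ ≠ 1 := fun h => hl1 (inv_eq_one.1 h)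
        rw [hother _ e1 e2 e3] at hp1
        omega
  set i := orderOf (Fintype.card F : ZMod r) with hidef
  have hqj : (Fintype.card F : ZMod r) ^ j = 1 := by
    rw [← Nat.cast_pow, ← Nat.cast_one]
    exact ((ZMod.natCast_eq_natCast_iff' _ _ _).2 ((Nat.modEq_iff_dvd' (hpos j)).2 hrj).symm)
  have hij : i ∣ j := orderOf_dvd_of_pow_eq_one hqj
  have hio : Odd i := hjo.of_dvd_nat hij
  have hi0 : 0 < i := hio.pos
  have hin : i + 1 ≤ n := by have := Nat.le_of_dvd hjo.pos hij; omega
  have hri : r ∣ Fintype.card F ^ i - 1 := (Nat.modEq_iff_dvd' (hpos i)).1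
    ((ZMod.natCast_eq_natCast_iff _ _ _).1 (by rw [Nat.cast_one, Nat.cast_pow, hidef, pow_orderOf_eq_one]))
  obtain ⟨M, Mi, hMM, hMr, -, hM1, -⟩ := NonsingularPointDerange.exists_fpf_mat (F := F) p i hi0 hri
  have hone : ∀ c : F, c ^ r = 1 → c = 1 := fun c hc => by
    have hc0 : c ≠ 0 := fun h => by rw [h, zero_pow hr.ne_zero] at hc; exact zero_ne_one hc
    have ho := orderOf_dvd_of_pow_eq_one (show Units.mk0 c hc0 ^ r = 1 from Units.ext (by simpa using hc))
    have ho2 : orderOf (Units.mk0 c hc0) ∣ Fintype.card F - 1 := by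
      rw [← Nat.card_eq_fintype_card (α := F), ← Nat.card_units]; exact orderOf_dvd_natCard _
    rcases (Nat.dvd_prime hr).1 ho with h | h
    · exact congrArg Units.val (orderOf_eq_one_iff.1 h)
    · exact absurd (h ▸ ho2) h1
  obtain ⟨k, rfl⟩ : ∃ k, n = i + k := ⟨n - i, by omega⟩
  have hdM : M.det = 1 := hone _ (by rw [← det_pow, hMr, det_one])
  refine no_similitude (by omega) f hf (finSumFinEquiv.symm) (fromBlocks M 0 0 1) ?_ ?_ fun B Y μ hA hB hYu hμ hiso hYr hrk hrk2 h3 => ?_
  · rw [det_fromBlocks_zero₂₁, det_one, mul_one, hdM]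
  · have h1' : ∀ j : ℕ, (fromBlocks M 0 0 (1 : Matrix (Fin k) (Fin k) F)) ^ j = fromBlocks (M ^ j) 0 0 1 := fun j => by
      induction j with
      | zero => simp [fromBlocks_one]
      | succ j ih => rw [pow_succ, ih, fromBlocks_multiply, pow_succ]; simp
    rw [h1', hMr, fromBlocks_one]
  · have hev := even_rank_sub hA hB Y (fun u v => by rw [hiso, hone μ hμ, one_mul]) hrF hYr
    have h := hrk 1
    rw [one_smul, one_smul] at h
    rw [h] at hev
    have e : fromBlocks M 0 0 (1 : Matrix (Fin k) (Fin k) F) - 1 =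
        fromBlocks (M - 1) 0 0 1 * diagonal (Sum.elim (1 : Fin i → F) (0 : Fin k → F)) := by
      rw [← fromBlocks_diagonal, fromBlocks_multiply, ← fromBlocks_one, sub_eq_add_neg, fromBlocks_neg, fromBlocks_add]
      simp [sub_eq_add_neg]
    have hU : IsUnit (fromBlocks (M - 1) 0 0 (1 : Matrix (Fin k) (Fin k) F)).det := by
      rw [det_fromBlocks_zero₂₁, det_one, mul_one]; exact (isUnit_iff_isUnit_det _).1 hM1
    rw [e, rank_mul_eq_right_of_isUnit_det _ _ hU, rank_diagonal] at hev
    have hc : Fintype.card {x : Fin i ⊕ Fin k // Sum.elim (1 : Fin i → F) (0 : Fin k → F) x ≠ 0} = i := by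
      refine (Fintype.card_congr (β := Fin i) ?_).trans (Fintype.card_fin i)
      exact ((Equiv.ofBijective (fun x : Fin i => (⟨Sum.inl x, by simp⟩ :
        {x : Fin i ⊕ Fin k // Sum.elim (1 : Fin i → F) (0 : Fin k → F) x ≠ 0}))
        ⟨fun a b h => Sum.inl_injective (congrArg Subtype.val h), fun ⟨x, hx⟩ => by
          rcases x with x | x
          · exact ⟨x, rfl⟩
          · simp at hx⟩)).symm
    rw [hc] at hev
    exact Nat.not_even_iff_odd.2 hio hev

end Cfsg.Agent.S5968
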