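import Cfsg.Statements.S5967
import Cfsg.Agent.Lib.Classical.InvolutionPairs
import Cfsg.Agent.S5968
import Cfsg.Agent.Lib.Classical.SympBlocks
-- import your own Cfsg.Agent.* helpers here

set_option autoImplicit false
open scoped MatrixGroups
open Cfsg Cfsg.Agent

namespace Cfsg.Agent.S5967
open Matrix Cfsg.Agent.Classical Module

variable {F : Type*} [Field F]

/-- A conjugate of `x` by an element of `SL` is a similitude. -/
theorem exists_conj [Fintype F] {d : ℕ} (hd : 1 ≤ d) {n : ℕ} (hn : n = 2 * d) (f : (Fin n → F) → (Fin n → F) → F)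
    (hf : Geo.IsSymplecticForm f) (x : Matrix.SpecialLinearGroup (Fin n) F) {z : F}
    (hz : (x : Matrix (Fin n) (Fin n) F) * (x : Matrix (Fin n) (Fin n) F) = z • 1)
    (hs : (2 : F) ≠ 0 → ∀ s : F, s * s = z → s ^ n ≠ -1) :
    ∃ P : Matrix.SpecialLinearGroup (Fin n) F, P⁻¹ * x * P ∈ ((Geo.similarityGroup f).comap
      (Matrix.SpecialLinearGroup.toGL : Matrix.SpecialLinearGroup (Fin n) F →* GL (Fin n) F)) := by
  classical
  subst hn
  let e : Fin 2 × Fin d ≃ Fin (2 * d) := finProdFinEquiv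
  let Φ : Matrix (Fin 2 × Fin d) (Fin 2 × Fin d) F ≃ₐ[F] Matrix (Fin (2 * d)) (Fin (2 * d)) F := Matrix.reindexAlgEquiv F F e
  have hdetΦ : ∀ A, (Φ A).det = A.det := fun A => Matrix.det_reindexAlgEquiv F F e A
  obtain ⟨μ, B, M, hXB, hμ, -, hC⟩ := InvolutionPairs.exists_planes hd (Φ.symm (x : Matrix (Fin (2 * d)) (Fin (2 * d)) F))
    (by rw [← map_mul, hz, map_smul, map_one]) (by rw [← hdetΦ, AlgEquiv.apply_symm_apply, x.2]) hs
  have hμ0 : μ ≠ 0 := by
    have h := congrArg Matrix.det hXB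
    rw [det_mul, det_mul, ← hdetΦ (Φ.symm _), AlgEquiv.apply_symm_apply, x.2, one_mul, det_blockDiagonal,
      Finset.prod_congr rfl fun i _ => hμ i, Finset.prod_const, Finset.card_univ, Fintype.card_fin] at h
    intro h0
    rw [h0, zero_pow (by omega), mul_zero] at h
    exact ((Matrix.isUnit_iff_isUnit_det _).1 B.isUnit).ne_zero h
  -- coordinates of the form
  let Bf : LinearMap.BilinForm F (Fin (2 * d) → F) := LinearMap.mk₂ F f hf.bilinear.add_left hf.bilinear.smul_left
    hf.bilinear.add_right hf.bilinear.smul_right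
  obtain ⟨L, hL⟩ := exists_symp_coords Bf (fun v => hf.alternating v) (fun v hv => by
    by_contra h
    obtain ⟨-, w, hw⟩ := hf.nondegenerate v h
    exact hw (hv w)) (e := d) (by rw [Module.finrank_fin_fun])
  let π : Fin d ⊕ Fin d ≃ Fin 2 × Fin d :=
    ⟨Sum.elim (fun i => (0, i)) fun i => (1, i), fun y => ![Sum.inl y.2, Sum.inr y.2] y.1,
      fun y => by rcases y with i | i <;> simp, fun y => by obtain ⟨k, i⟩ := y; fin_cases k <;> simp⟩
  let T : (Fin (2 * d) → F) ≃ₗ[F] (Fin (2 * d) → F) :=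
    ((LinearEquiv.funCongrLeft F F e).trans (LinearEquiv.funCongrLeft F F π)).trans L
  set Tm := LinearMap.toMatrix' (T : (Fin (2 * d) → F) →ₗ[F] (Fin (2 * d) → F))
  have hTm : ∀ v, Tm *ᵥ v = T v := fun v => by rw [← Matrix.toLin'_apply, Matrix.toLin'_toMatrix']; rfl
  have hTu : IsUnit Tm := IsUnit.of_mul_eq_one (b := LinearMap.toMatrix' (T.symm : (Fin (2 * d) → F) →ₗ[F] (Fin (2 * d) → F)))
    (by rw [← LinearMap.toMatrix'_comp, LinearEquiv.comp_coe, LinearEquiv.symm_trans_self]; exact LinearMap.toMatrix'_id)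
  obtain ⟨Tu, hTu'⟩ := hTu
  set y := Φ (blockDiagonal M) with hy
  have hform : ∀ u v, f (T (y *ᵥ u)) (T (y *ᵥ v)) = μ * f (T u) (T v) := by
    intro u v
    have hco : ∀ w, ((LinearEquiv.funCongrLeft F F e).trans (LinearEquiv.funCongrLeft F F π)) w = fun s => w (e (π s)) :=
      fun w => rfl
    show Bf (T (y *ᵥ u)) (T (y *ᵥ v)) = μ * Bf (T u) (T v)
    simp only [T, LinearEquiv.trans_apply]
    rw [hL, hL, sympForm_eq_sum, sympForm_eq_sum, Finset.mul_sum]
    refine Finset.sum_congr rfl fun i _ => ?_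
    have hyv : ∀ (w : Fin (2 * d) → F) (k : Fin 2), (y *ᵥ w) (e (k, i)) = ∑ l, M i k l * w (e (l, i)) := by
      intro w k
      show ((Matrix.reindex e e (blockDiagonal M)) *ᵥ w) (e (k, i)) = _
      rw [Matrix.reindex_apply, submatrix_mulVec_equiv, Function.comp_apply, Equiv.symm_apply_apply, Equiv.symm_symm]
      simp only [mulVec, dotProduct, Fintype.sum_prod_type, blockDiagonal_apply, Function.comp_apply]
      refine Finset.sum_congr rfl fun l _ => ?_
      rw [Finset.sum_eq_single i (fun j _ hj => by simp [Ne.symm hj]) (by simp), if_pos rfl]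
    simp only [LinearEquiv.funCongrLeft_apply, LinearMap.funLeft_apply]
    have e0 : π (Sum.inl i) = (0, i) := rfl
    have e1 : π (Sum.inr i) = (1, i) := rfl
    rw [e0, e1, hyv, hyv, hyv, hyv, Fin.sum_univ_two, Fin.sum_univ_two, Fin.sum_univ_two, Fin.sum_univ_two, ← hμ i,
      det_fin_two]
    ring
  obtain ⟨C, hCd, hCc⟩ := hC (((B : Matrix (Fin 2 × Fin d) (Fin 2 × Fin d) F).det)⁻¹ * Tm.det)
  have hBd : ((B : Matrix (Fin 2 × Fin d) (Fin 2 × Fin d) F).det) ≠ 0 := ((Matrix.isUnit_iff_isUnit_det _).1 B.isUnit).ne_zero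
  have hTd : Tm.det ≠ 0 := ((Matrix.isUnit_iff_isUnit_det _).1 ⟨Tu, hTu'⟩).ne_zero
  set Ti : Matrix (Fin (2 * d)) (Fin (2 * d)) F := ((Tu⁻¹ : GL (Fin (2 * d)) F) : Matrix (Fin (2 * d)) (Fin (2 * d)) F)
  have hTT : Ti * Tm = 1 := by rw [← hTu']; exact Tu.inv_mul
  have hTT' : Tm * Ti = 1 := by rw [← hTu']; exact Tu.mul_inv
  set P : Matrix (Fin (2 * d)) (Fin (2 * d)) F := Φ ((B : Matrix (Fin 2 × Fin d) (Fin 2 × Fin d) F) * C) * Ti
  have hPd : P.det = 1 := by
    have hTid : Ti.det = Tm.det⁻¹ := by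
      have h := congrArg Matrix.det hTT
      rw [det_mul, det_one] at h
      exact eq_inv_of_mul_eq_one_left h
    rw [det_mul, hdetΦ, det_mul, hCd, hTid, mul_inv_cancel_left₀ hBd, mul_inv_cancel₀ hTd]
  let Ps : Matrix.SpecialLinearGroup (Fin (2 * d)) F := ⟨P, hPd⟩
  refine ⟨Ps, ⟨Units.mk0 μ hμ0, fun u v => ?_⟩⟩
  set Pi : Matrix (Fin (2 * d)) (Fin (2 * d)) F := (Ps⁻¹).1
  have hPP : Pi * P = 1 := congrArg Subtype.val (inv_mul_cancel Ps)
  have hxP : (x : Matrix (Fin (2 * d)) (Fin (2 * d)) F) * P = P * (Tm * y * Ti) := by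
    have e1 : (x : Matrix (Fin (2 * d)) (Fin (2 * d)) F) * Φ ((B : Matrix (Fin 2 × Fin d) (Fin 2 × Fin d) F) * C) =
        Φ ((B : Matrix (Fin 2 × Fin d) (Fin 2 × Fin d) F) * C) * y := by
      conv_lhs => rw [← Φ.apply_symm_apply (x : Matrix (Fin (2 * d)) (Fin (2 * d)) F)]
      rw [hy, ← map_mul, ← map_mul, ← mul_assoc, hXB, mul_assoc, ← hCc, ← mul_assoc]
    rw [show P * (Tm * y * Ti) = Φ ((B : Matrix (Fin 2 × Fin d) (Fin 2 × Fin d) F) * C) * (Ti * Tm) * y * Ti by
      simp only [P, mul_assoc], hTT, mul_one, ← e1, mul_assoc]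
  have hval : Pi * (x : Matrix (Fin (2 * d)) (Fin (2 * d)) F) * P = Tm * y * Ti := by
    rw [mul_assoc, hxP, ← mul_assoc, hPP, one_mul]
  show f ((Pi * (x : Matrix (Fin (2 * d)) (Fin (2 * d)) F) * P) *ᵥ u) ((Pi * (x : Matrix (Fin (2 * d)) (Fin (2 * d)) F) * P) *ᵥ v) = μ * f u v
  have e2 : ∀ w, (Tm * y * Ti) *ᵥ w = T (y *ᵥ (Ti *ᵥ w)) := fun w => by
    rw [← hTm, ← mulVec_mulVec, ← mulVec_mulVec]
  have e3 : ∀ w, T (Ti *ᵥ w) = w := fun w => by rw [← hTm, mulVec_mulVec, hTT', one_mulVec]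
  rw [hval, e2, e2, hform, e3, e3]


/-- Involutions of PSL_n(q) and the symplectic-type subgroups. Here `T = PSL_n(F)` for a field `F` with `q` elements, `n ≥ 4` even, `f` is a nondegenerate alternating form on `F^n`, and `H` is the subgroup of matrices of determinant 1 preserving `f` up to a scalar — a maximal subgroup of type Sp_n(q); Ω is the set of `T`-conjugates of `H` (cosets of `H`), so an element of `T` of prime order `r` (a matrix `x` of determinant 1 with `x^r` scalar, `x` not scalar) fixes a point of Ω when some conjugate of `x` by a matrix of determinant 1 preserves `f` up to a scalar. Suppose the index of `H` is even. Then every involution of `T` is conjugate in `T` into `H` if and only if `(q − 1)_2 ≤ (n)_2`. -/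
theorem result {F : Type*} [Field F] [Fintype F] {p : ℕ} [Fact p.Prime] [CharP F p] {q : ℕ} (hq : Fintype.card F = q)
    (n : ℕ) (hn : 4 ≤ n) (he : Even n) (f : (Fin n → F) → (Fin n → F) → F) (hf : Cfsg.Geo.IsSymplecticForm f)
    (hΩ : 2 ∣ ((Cfsg.Geo.similarityGroup f).comap (Matrix.SpecialLinearGroup.toGL : Matrix.SpecialLinearGroup (Fin n) F →* GL (Fin n) F)).index) :
    (∀ x : Matrix.SpecialLinearGroup (Fin n) F,
      (∃ z : F, ((x ^ 2 : Matrix.SpecialLinearGroup (Fin n) F) : Matrix (Fin n) (Fin n) F) = z • (1 : Matrix (Fin n) (Fin n) F)) →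
      (∀ z : F, (x : Matrix (Fin n) (Fin n) F) ≠ z • (1 : Matrix (Fin n) (Fin n) F)) →
      ∃ P : Matrix.SpecialLinearGroup (Fin n) F, P⁻¹ * x * P ∈ ((Cfsg.Geo.similarityGroup f).comap (Matrix.SpecialLinearGroup.toGL : Matrix.SpecialLinearGroup (Fin n) F →* GL (Fin n) F))) ↔
    padicValNat 2 (q - 1) ≤ padicValNat 2 n := by

  classical
  subst hq
  obtain ⟨d, hd⟩ := he
  haveI : Nontrivial F := inferInstance
  constructor
  · intro H
    by_contra hv
    push Not at hv
    set b := padicValNat 2 n with hb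
    have hN0 : Fintype.card F - 1 ≠ 0 := by have := Fintype.one_lt_card (α := F); omega
    have hdiv : 2 ^ (b + 1) ∣ Fintype.card F - 1 :=
      (pow_dvd_pow 2 hv).trans pow_padicValNat_dvd
    obtain ⟨ζ, hζ⟩ := IsCyclic.exists_ofOrder_eq_natCard (α := Fˣ)
    rw [Nat.card_units, Nat.card_eq_fintype_card] at hζ
    obtain ⟨c, hc⟩ := hdiv
    set t : Fˣ := ζ ^ c
    have ht : orderOf t = 2 ^ (b + 1) := by
      rw [orderOf_pow_of_dvd (fun h => hN0 (by rw [hc, h, mul_zero])) (hζ ▸ Dvd.intro_left _ hc.symm), hζ, hc,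
        Nat.mul_div_cancel _ (Nat.pos_of_ne_zero fun h => hN0 (by rw [hc, h, mul_zero]))]
    have h2F : (2 : F) ≠ 0 := fun h => by
      have h1 : t ^ 2 ^ (b + 1) = 1 := ht ▸ pow_orderOf_eq_one t
      haveI : CharP F 2 := CharTwo.of_one_ne_zero_of_two_eq_zero one_ne_zero h
      have h3 : ((t : F)) ^ 2 ^ (b + 1) = 1 := by rw [← Units.val_pow_eq_pow_val, h1, Units.val_one]
      have h4 : (t : F) = 1 := by
        have h5 := sub_pow_char_pow (p := 2) (n := b + 1) (t : F) 1
        rw [h3, one_pow, sub_self] at h5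
        exact sub_eq_zero.1 (pow_eq_zero_iff (by positivity) |>.1 h5)
      rw [show t = 1 from Units.ext h4, orderOf_one] at ht
      have : 2 ≤ 2 ^ (b + 1) := by rw [pow_succ]; have := Nat.one_le_two_pow (n := b); omega
      omega
    set s : F := (t : F)
    have hsn : s ^ n = -1 := by
      have h1 : (s ^ n) * (s ^ n) = 1 := by
        rw [← pow_add, ← Units.val_pow_eq_pow_val, orderOf_dvd_iff_pow_eq_one.1, Units.val_one]
        rw [ht, ← two_mul, pow_succ']
        exact mul_dvd_mul_left 2 pow_padicValNat_dvd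
      refine (mul_self_eq_one_iff.1 h1).resolve_left fun h => ?_
      have h2' : orderOf t ∣ n := orderOf_dvd_of_pow_eq_one (Units.ext (by rw [Units.val_pow_eq_pow_val]; exact h))
      rw [ht] at h2'
      exact pow_succ_padicValNat_not_dvd (by omega) h2'
    obtain ⟨k, rfl⟩ : ∃ k, n = 1 + k := ⟨n - 1, by omega⟩
    let dg : Fin (1 + k) → F := fun i => s * (if i = ⟨0, by omega⟩ then -1 else 1)
    let x : Matrix.SpecialLinearGroup (Fin (1 + k)) F := ⟨diagonal dg, by
      rw [det_diagonal, Finset.prod_mul_distrib, Finset.prod_const, Finset.card_univ, Fintype.card_fin, hsn,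
        Finset.prod_ite_eq' Finset.univ _ (fun _ => (-1 : F))]
      simp⟩
    obtain ⟨P, hP⟩ := H x ⟨s * s, by
      rw [Matrix.SpecialLinearGroup.coe_pow]
      show diagonal dg ^ 2 = _
      rw [diagonal_pow, smul_one_eq_diagonal]
      congr 1; funext i
      simp only [dg, Pi.pow_apply]
      split_ifs <;> ring⟩ (fun z hz => by
        have e0 := congrFun (congrFun hz ⟨0, by omega⟩) ⟨0, by omega⟩
        have e1 := congrFun (congrFun hz ⟨1, by omega⟩) ⟨1, by omega⟩
        rw [show (x : Matrix (Fin (1 + k)) (Fin (1 + k)) F) = diagonal dg from rfl, diagonal_apply_eq, Matrix.smul_apply,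
          Matrix.one_apply_eq, smul_eq_mul, mul_one] at e0 e1
        have a0 : dg ⟨0, by omega⟩ = s * (-1) := congrArg (s * ·) (if_pos rfl)
        have a1 : dg ⟨1, by omega⟩ = s * 1 := congrArg (s * ·) (if_neg (fun h => by simp [Fin.ext_iff] at h))
        rw [a0, mul_neg, mul_one] at e0
        rw [a1, mul_one] at e1
        rw [← e1] at e0
        have : (2 : F) * s = 0 := by linear_combination -e0
        exact (mul_ne_zero h2F t.ne_zero) this)
    obtain ⟨μ, hμ⟩ := hP
    let Bf : LinearMap.BilinForm F (Fin (1 + k) → F) := LinearMap.mk₂ F f hf.bilinear.add_left hf.bilinear.smul_left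
      hf.bilinear.add_right hf.bilinear.smul_right
    have hA : Bf.IsAlt := fun v => hf.alternating v
    have hB : Bf.Nondegenerate := by
      refine (LinearMap.IsAlt.isRefl hA).nondegenerate_iff_separatingLeft.2 fun v hv => ?_
      by_contra h
      obtain ⟨-, w, hw⟩ := hf.nondegenerate v h
      exact hw (hv w)
    set Y : Matrix (Fin (1 + k)) (Fin (1 + k)) F :=
      ((P⁻¹ * x * P : Matrix.SpecialLinearGroup (Fin (1 + k)) F) : Matrix (Fin (1 + k)) (Fin (1 + k)) F) with hYdef
    have hiso : ∀ u v, Bf (Y *ᵥ u) (Y *ᵥ v) = (μ : F) * Bf u v := hμ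
    have hYu : IsUnit Y := (isUnit_iff_isUnit_det _).2 (by rw [hYdef, (P⁻¹ * x * P).2]; exact isUnit_one)
    have hrk : ∀ c : F, (Y - c • 1).rank = Fintype.card {i // dg i - c ≠ 0} := fun c => by
      have e : Y - c • 1 = (P⁻¹ : Matrix.SpecialLinearGroup (Fin (1 + k)) F).1 * diagonal (fun i => dg i - c) * P.1 := by
        rw [← diagonal_sub, ← smul_one_eq_diagonal, mul_sub, sub_mul, Matrix.mul_smul, Matrix.mul_one, Matrix.smul_mul,
          show (P⁻¹ : Matrix.SpecialLinearGroup (Fin (1 + k)) F).1 * P.1 = 1 from congrArg Subtype.val (inv_mul_cancel P)]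
        rfl
      rw [e, rank_mul_eq_left_of_isUnit_det _ _ (by rw [P.2]; exact isUnit_one), rank_mul_eq_right_of_isUnit_det _ _
        (by rw [show (P⁻¹ : Matrix.SpecialLinearGroup (Fin (1 + k)) F).1.det = 1 from (P⁻¹).2]; exact isUnit_one),
        rank_diagonal]
    have hs0 : s ≠ 0 := t.ne_zero
    have hne : -s ≠ s := fun h => (mul_ne_zero h2F hs0) (by linear_combination -h)
    have hdg0 : dg ⟨0, by omega⟩ = -s := (congrArg (s * ·) (if_pos rfl)).trans (by ring)
    have hdg1 : ∀ i, i ≠ ⟨0, by omega⟩ → dg i = s := fun i hi => (congrArg (s * ·) (if_neg hi)).trans (mul_one s)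
    have hfix : Fintype.card {i // dg i - s ≠ 0} = 1 := by
      rw [Fintype.card_eq_one_iff]
      refine ⟨⟨⟨0, by omega⟩, by rw [hdg0, sub_ne_zero]; exact hne⟩, fun ⟨i, hi⟩ => Subtype.ext ?_⟩
      by_contra h
      exact hi (by rw [hdg1 i h, sub_self])
    have hμs : (μ : F) / s = s := by
      by_contra h
      have h1 := S5968.rank_pair hB Y hYu hiso hs0
      rw [hrk, hrk, hfix, eq_comm, Fintype.card_eq_one_iff] at h1
      obtain ⟨⟨j, hj⟩, huniq⟩ := h1
      have hall : ∀ i : Fin (1 + k), i ≠ ⟨0, by omega⟩ → i = j := fun i hi =>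
        congrArg Subtype.val (huniq ⟨i, by rw [hdg1 i hi, sub_ne_zero]; exact Ne.symm h⟩)
      have a1 := hall ⟨1, by omega⟩ (by simp [Fin.ext_iff])
      have a2 := hall ⟨2, by omega⟩ (by simp [Fin.ext_iff])
      have := a1.trans a2.symm
      simp [Fin.ext_iff] at this
    rw [div_eq_iff hs0] at hμs
    have hev := S5968.even_rank_sub hA hB (s⁻¹ • Y) (fun u v => by
      rw [smul_mulVec, smul_mulVec, map_smul, map_smul, LinearMap.smul_apply, hiso, hμs, smul_eq_mul, smul_eq_mul]
      field_simp) (r := 2) (by exact_mod_cast h2F) (by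
      have hYY : Y * Y = (s * s) • 1 := by
        have e : Y = (P⁻¹ : Matrix.SpecialLinearGroup (Fin (1 + k)) F).1 * diagonal dg * P.1 := rfl
        rw [e, show ∀ A C : Matrix (Fin (1 + k)) (Fin (1 + k)) F, A * diagonal dg * C * (A * diagonal dg * C) =
          A * (diagonal dg * (C * A) * diagonal dg) * C from fun A C => by simp only [mul_assoc],
          show P.1 * (P⁻¹ : Matrix.SpecialLinearGroup (Fin (1 + k)) F).1 = 1 from congrArg Subtype.val (mul_inv_cancel P),
          mul_one, diagonal_mul_diagonal, show (fun i => dg i * dg i) = fun _ => s * s by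
            funext i; simp only [dg]; split_ifs <;> ring, ← smul_one_eq_diagonal, Matrix.mul_smul, Matrix.mul_one,
          Matrix.smul_mul, show (P⁻¹ : Matrix.SpecialLinearGroup (Fin (1 + k)) F).1 * P.1 = 1 from congrArg Subtype.val (inv_mul_cancel P)]
      rw [pow_two, Matrix.smul_mul, Matrix.mul_smul, hYY, smul_smul, smul_smul]
      rw [show s⁻¹ * s⁻¹ * (s * s) = 1 by field_simp, one_smul])
    rw [show s⁻¹ • Y - 1 = (Y - s • 1) * (s⁻¹ • 1) by
      rw [sub_mul, Matrix.mul_smul, Matrix.mul_one, Matrix.smul_mul, Matrix.one_mul, smul_smul, mul_inv_cancel₀ hs0, one_smul],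
      rank_mul_eq_left_of_isUnit_det _ _ (by rw [det_smul, det_one, mul_one]; exact (isUnit_iff_ne_zero.2 (pow_ne_zero _ (inv_ne_zero hs0)))),
      hrk, hfix] at hev
    exact Nat.not_even_one hev
  · intro hv x hx1 hx2
    obtain ⟨z, hz⟩ := hx1
    refine exists_conj (d := d) (by omega) (by omega) f hf x (z := z)
      (by rw [← pow_two, ← Matrix.SpecialLinearGroup.coe_pow, hz]) fun h2F s _ hsn => ?_
    have hs0 : s ≠ 0 := fun h => by rw [h, zero_pow (by omega), eq_comm, neg_eq_zero] at hsn; exact one_ne_zero hsn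
    set o := orderOf (Units.mk0 s hs0) with ho
    have ho2 : o ∣ 2 * n := orderOf_dvd_of_pow_eq_one (Units.ext (by
      rw [Units.val_pow_eq_pow_val, Units.val_mk0, mul_comm, pow_mul, hsn, neg_one_sq, Units.val_one]))
    have hon : ¬ o ∣ n := fun h => by
      have h1 := orderOf_dvd_iff_pow_eq_one.1 h
      have h2' : s ^ n = 1 := by
        have := congrArg Units.val h1
        rwa [Units.val_pow_eq_pow_val, Units.val_one, Units.val_mk0] at this
      rw [hsn] at h2'
      exact h2F (by linear_combination -h2')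
    have hoq : o ∣ Fintype.card F - 1 := by
      rw [← Nat.card_eq_fintype_card, ← Nat.card_units]; exact orderOf_dvd_natCard _
    set b := padicValNat 2 n with hb
    obtain ⟨m, hm⟩ : 2 ^ b ∣ n := pow_padicValNat_dvd
    have h2n : 2 * n = 2 ^ (b + 1) * m := by rw [hm, pow_succ]; ring
    rw [h2n] at ho2
    obtain ⟨o1, o2, h1, h2', ho'⟩ := exists_dvd_and_dvd_of_dvd_mul ho2
    obtain ⟨j, hj, rfl⟩ := (Nat.dvd_prime_pow Nat.prime_two).1 h1
    rcases Nat.lt_or_ge j (b + 1) with hlt | hge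
    · exact hon (by rw [ho', hm]; exact mul_dvd_mul (pow_dvd_pow 2 (by omega)) h2')
    · have hd' : 2 ^ (b + 1) ∣ Fintype.card F - 1 :=
        ((pow_dvd_pow 2 hge).trans (dvd_mul_right _ _)).trans (ho' ▸ hoq)
      have := (padicValNat_dvd_iff_le (p := 2) (by have := Fintype.one_lt_card (α := F); omega)).1 hd'
      omega

end Cfsg.Agent.S5967
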