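import Cfsg.Statements.S5969
import Cfsg.Agent.Lib.Classical.InvolutionPairs
import Cfsg.Agent.Lib.Classical.AschEvenField
import Cfsg.Agent.Lib.Classical.QuadClass
-- import your own Cfsg.Agent.* helpers here

set_option autoImplicit false
open scoped MatrixGroups
open Cfsg Cfsg.Agent

namespace Cfsg.Agent.S5969
open Matrix Module Cfsg.Agent.Classical

variable {F : Type*} [Field F]

/-- Extending a family of pairs for a map with an irreducible quadratic equation. -/
theorem exists_pairs_quad {V : Type*} [AddCommGroup V] [Module F V] [FiniteDimensional F V] {g : V →ₗ[F] V}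
    {τ N : F} (hroot : ∀ x : F, x ^ 2 - τ * x + N ≠ 0) (hg : ∀ v, g (g v) = τ • g v - N • v) :
    ∀ k : ℕ, ∃ (j : ℕ) (v : Fin j → V), LinearIndependent F (Sum.elim v (g ∘ v)) ∧
      (k ≤ j ∨ Submodule.span F (Set.range (Sum.elim v (g ∘ v))) = ⊤)
  | 0 => ⟨0, Fin.elim0, linearIndependent_empty_type, Or.inl le_rfl⟩
  | k + 1 => by
    obtain ⟨j, v, hli, h⟩ := exists_pairs_quad hroot hg k
    by_cases htop : Submodule.span F (Set.range (Sum.elim v (g ∘ v))) = ⊤
    · exact ⟨j, v, hli, Or.inr htop⟩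
    set W := Submodule.span F (Set.range (Sum.elim v (g ∘ v))) with hW
    have hgW : ∀ x ∈ W, g x ∈ W := by
      intro x hx
      induction hx using Submodule.span_induction with
      | mem x hx =>
        obtain ⟨s, rfl⟩ := hx
        cases s with
        | inl i => exact Submodule.subset_span ⟨Sum.inr i, rfl⟩
        | inr i =>
          show g (g (v i)) ∈ W
          rw [hg]
          exact W.sub_mem (W.smul_mem _ (Submodule.subset_span ⟨Sum.inr i, rfl⟩))
            (W.smul_mem _ (Submodule.subset_span ⟨Sum.inl i, rfl⟩))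
      | zero => simp
      | add a b _ _ ha hb => rw [map_add]; exact W.add_mem ha hb
      | smul c a _ ha => rw [map_smul]; exact W.smul_mem _ ha
    obtain ⟨u, -, hu⟩ := SetLike.exists_of_lt (lt_top_iff_ne_top.2 htop)
    set v' : Fin (j + 1) → V := Fin.cons u v
    set W' := Submodule.span F (Set.range (Sum.elim v' (g ∘ v')))
    have hu1 : u ∈ W' := Submodule.subset_span ⟨Sum.inl 0, rfl⟩
    have hu2 : g u ∈ W' := Submodule.subset_span ⟨Sum.inr 0, rfl⟩
    have hWW : W ≤ W' := by
      rw [hW, Submodule.span_le]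
      rintro _ ⟨(i | i), rfl⟩
      · exact Submodule.subset_span ⟨Sum.inl i.succ, rfl⟩
      · exact Submodule.subset_span ⟨Sum.inr i.succ, rfl⟩
    have hgu : g u ∉ W ⊔ Submodule.span F {u} := by
      intro hmem
      obtain ⟨w, hw, x, hx, e⟩ := Submodule.mem_sup.1 hmem
      obtain ⟨c, rfl⟩ := Submodule.mem_span_singleton.1 hx
      have e2 : (c ^ 2 - τ * c + N) • u = -(g w + (c - τ) • w) := by
        have h1 := congrArg g e
        rw [map_add, map_smul, hg, ← e] at h1
        linear_combination (norm := module) h1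
      have h3 : (c ^ 2 - τ * c + N) • u ∈ W := e2 ▸ W.neg_mem (W.add_mem (hgW w hw) (W.smul_mem _ hw))
      exact hu ((W.smul_mem_iff (hroot c)).1 h3)
    have h1 : Module.finrank F W < Module.finrank F ↥(W ⊔ Submodule.span F {u}) :=
      Submodule.finrank_lt_finrank_of_lt (lt_of_le_of_ne le_sup_left fun e =>
        hu (e.symm ▸ Submodule.mem_sup_right (Submodule.mem_span_singleton_self u)))
    have h2 : Module.finrank F ↥(W ⊔ Submodule.span F {u}) < Module.finrank F W' :=
      Submodule.finrank_lt_finrank_of_lt (lt_of_le_of_ne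
        (sup_le hWW (by rw [Submodule.span_le, Set.singleton_subset_iff]; exact hu1)) fun e => hgu (e.symm ▸ hu2))
    have h3 : Module.finrank F W = j + j := by
      rw [hW, finrank_span_eq_card hli, Fintype.card_sum, Fintype.card_fin]
    refine ⟨j + 1, v', linearIndependent_iff_card_le_finrank_span.2 ?_, Or.inl ?_⟩
    · rw [Fintype.card_sum, Fintype.card_fin]
      show _ ≤ Module.finrank F W'
      omega
    · rcases h with h | h
      · omega
      · exact absurd h htop

/-- Non-scalar square roots of a scalar are conjugate. -/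
theorem exists_sim2 (M : Matrix (Fin 2) (Fin 2) F) {z : F} (hM : M * M = z • 1) (hns : ∀ c : F, M ≠ c • 1) :
    ∃ N : GL (Fin 2) F, M * (N : Matrix (Fin 2) (Fin 2) F) = (N : Matrix (Fin 2) (Fin 2) F) * !![0, z; 1, 0] := by
  obtain ⟨v, hv⟩ : ∃ v : Fin 2 → F, v 0 * (M *ᵥ v) 1 - v 1 * (M *ᵥ v) 0 ≠ 0 := by
    by_contra h
    push Not at h
    have a := h ![1, 0]
    have b := h ![0, 1]
    have c := h ![1, 1]
    simp [Matrix.mulVec, dotProduct, Fin.sum_univ_two] at a b c
    refine hns (M 0 0) (Matrix.ext fun i j => ?_)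
    fin_cases i <;> fin_cases j <;> simp
    · exact b
    · exact a
    · linear_combination c - a + b
  let N : Matrix (Fin 2) (Fin 2) F := !![v 0, (M *ᵥ v) 0; v 1, (M *ᵥ v) 1]
  have hd : N.det ≠ 0 := by rw [det_fin_two_of]; intro h; exact hv (by linear_combination h)
  refine ⟨((Matrix.isUnit_iff_isUnit_det N).2 (isUnit_iff_ne_zero.2 hd)).unit, ?_⟩
  show M * N = N * !![0, z; 1, 0]
  have h2 : ∀ i, (M *ᵥ (M *ᵥ v)) i = z * v i := fun i => by
    rw [mulVec_mulVec, hM, smul_mulVec, one_mulVec]; rfl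
  have h20 := h2 0
  have h21 := h2 1
  simp [Matrix.mulVec, dotProduct, Fin.sum_univ_two] at h20 h21
  ext i j; fin_cases i <;> fin_cases j <;> simp [N, Matrix.mul_apply, Matrix.mulVec, dotProduct, Fin.sum_univ_two]
  · linear_combination h20
  · linear_combination h21

/-- A non-scalar square root normalising a quadratic companion matrix. -/
theorem exists_root_normalising [Fintype F] {τ N z : F} (hz : z ≠ 0) (hroot : ∀ x : F, x ^ 2 - τ * x + N ≠ 0) :
    ∃ (R : Matrix (Fin 2) (Fin 2) F) (a b : F), R * R = z • 1 ∧ (∀ c : F, R ≠ c • 1) ∧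
      R * !![0, -N; 1, τ] = (a • !![0, -N; 1, τ] + b • 1) * R := by
  by_cases hsq : IsSquare z
  · obtain ⟨t, rfl⟩ := hsq
    have ht : t ≠ 0 := fun h => hz (by rw [h, mul_zero])
    refine ⟨!![t, t * τ; 0, -t], -1, τ, ?_, fun c h => ?_, ?_⟩
    · ext i j; fin_cases i <;> fin_cases j <;> simp [Matrix.mul_apply, Fin.sum_univ_two] <;> ring
    · have h0 := congrFun (congrFun h 0) 0
      have h1 := congrFun (congrFun h 1) 1
      have h01 := congrFun (congrFun h 0) 1
      simp at h0 h1 h01
      have hτ : τ = 0 := h01.resolve_left ht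
      have h2 : (2 : F) = 0 := by
        have : (2 : F) * t = 0 := by linear_combination h0 - h1
        exact (mul_eq_zero.1 this).resolve_right ht
      haveI : CharP F 2 := CharTwo.of_one_ne_zero_of_two_eq_zero one_ne_zero h2
      obtain ⟨r, hr⟩ := FiniteField.isSquare_of_char_two (ringChar.eq F 2) N
      exact hroot r (by rw [hτ, hr]; linear_combination (r * r) * h2)
    · ext i j; fin_cases i <;> fin_cases j <;> simp [Matrix.mul_apply, Fin.sum_univ_two] <;> ring
  · have h2 : (2 : F) ≠ 0 := fun h2 => by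
      haveI : CharP F 2 := CharTwo.of_one_ne_zero_of_two_eq_zero one_ne_zero h2
      exact hsq (FiniteField.isSquare_of_char_two (ringChar.eq F 2) z)
    have hD : ¬ IsSquare (τ * τ - 4 * N) := fun ⟨r, hr⟩ => hroot ((τ + r) / 2) (by field_simp; linear_combination (-1 : F) * hr)
    have hD0 : τ * τ - 4 * N ≠ 0 := fun h => hD (by rw [h]; exact IsSquare.zero)
    obtain ⟨t, ht⟩ : IsSquare (z * (τ * τ - 4 * N)⁻¹) :=
      Cfsg.Agent.Classical.isSquare_of_two_nonsquares h2 hsq (fun h => hD (by simpa using h.inv))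
    have hzt : z = t * t * (τ * τ - 4 * N) := by rw [← ht, inv_mul_cancel_right₀ hD0]
    refine ⟨!![-(t * τ), -(2 * t * N); 2 * t, t * τ], 1, 0, ?_, fun c h => ?_, ?_⟩
    · ext i j; fin_cases i <;> fin_cases j <;> simp [Matrix.mul_apply, Fin.sum_univ_two] <;>
        first | linear_combination (-1 : F) * hzt | ring
    · have h10 := congrFun (congrFun h 1) 0
      simp at h10
      exact hz (by rw [hzt, h10.resolve_left h2]; ring)
    · ext i j; fin_cases i <;> fin_cases j <;> simp [Matrix.mul_apply, Fin.sum_univ_two] <;> ring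

/-- Standard coordinates for a field of degree two. -/
theorem exists_field_coords [Fintype F] {d : ℕ} [Nonempty (Fin (2 * d))] {K : Subalgebra F (Matrix (Fin (2 * d)) (Fin (2 * d)) F)}
    (hK : Geo.IsFieldSubalgebra 2 K) : ∃ (τ N : F) (T : Matrix (Fin (2 * d)) (Fin (2 * d)) F)
      (U : GL (Fin (2 * d)) F), T ∈ K ∧ (∀ k ∈ K, ∃ a b : F, k = a • 1 + b • T) ∧
      (∀ x : F, x ^ 2 - τ * x + N ≠ 0) ∧
      T * (U : Matrix (Fin (2 * d)) (Fin (2 * d)) F) = (U : Matrix (Fin (2 * d)) (Fin (2 * d)) F) *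
        Matrix.reindexAlgEquiv F F finProdFinEquiv (blockDiagonal (fun _ : Fin d => (!![0, -N; 1, τ] : Matrix (Fin 2) (Fin 2) F))) := by
  obtain ⟨T, hT, hns, τ, N, hTT, hroot⟩ := AschEven.field2_gen hK
  set g := Matrix.toLin' T
  have hg : ∀ v, g (g v) = τ • g v - N • v := fun v => by
    show T *ᵥ (T *ᵥ v) = τ • (T *ᵥ v) - N • v
    rw [mulVec_mulVec, hTT, sub_mulVec, smul_mulVec, smul_mulVec, one_mulVec]
  obtain ⟨j, v, hli, h⟩ := exists_pairs_quad hroot hg (2 * d + 1)
  have htop := h.resolve_left fun hj => by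
    have := hli.fintype_card_le_finrank
    rw [Fintype.card_sum, Fintype.card_fin, Module.finrank_fin_fun] at this
    omega
  let bb := Module.Basis.mk hli htop.ge
  have hj : j = d := by
    have := Module.finrank_eq_card_basis bb
    rw [Module.finrank_fin_fun, Fintype.card_sum, Fintype.card_fin] at this
    omega
  subst hj
  let e : Fin 2 × Fin j ≃ Fin j ⊕ Fin j :=
    ⟨fun x => ![Sum.inl x.2, Sum.inr x.2] x.1, Sum.elim (fun i => (0, i)) fun i => (1, i),
      fun x => by obtain ⟨k, i⟩ := x; fin_cases k <;> simp, fun x => by rcases x with i | i <;> simp⟩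
  let b : Module.Basis (Fin (2 * j)) F (Fin (2 * j) → F) := (bb.reindex e.symm).reindex finProdFinEquiv
  let U : Matrix (Fin (2 * j)) (Fin (2 * j)) F := (Pi.basisFun F (Fin (2 * j))).toMatrix b
  have hU : IsUnit U := IsUnit.of_mul_eq_one (b := b.toMatrix (Pi.basisFun F (Fin (2 * j))))
    (Module.Basis.toMatrix_mul_toMatrix_flip _ _)
  refine ⟨τ, N, T, hU.unit, hT, AschEven.field2_span hK hT hns, hroot, ?_⟩
  show T * U = U * _
  refine Matrix.ext_of_mulVec_single fun y => ?_
  obtain ⟨⟨k, i⟩, rfl⟩ := finProdFinEquiv.surjective y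
  have hcol : ∀ x, U *ᵥ Pi.single x 1 = b x := fun x => by
    funext y; rw [mulVec_single_one]; simp [U, Module.Basis.toMatrix_apply]
  rw [← mulVec_mulVec, ← mulVec_mulVec, hcol]
  have e2 : (Matrix.reindexAlgEquiv F F finProdFinEquiv
      (blockDiagonal (fun _ : Fin j => (!![0, -N; 1, τ] : Matrix (Fin 2) (Fin 2) F)))) *ᵥ Pi.single (finProdFinEquiv (k, i)) 1 =
      ∑ l, (!![0, -N; 1, τ] : Matrix (Fin 2) (Fin 2) F) l k • Pi.single (finProdFinEquiv (l, i)) (1 : F) := by
    funext y
    obtain ⟨⟨l, i'⟩, rfl⟩ := finProdFinEquiv.surjective y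
    rw [mulVec_single_one]
    simp only [col_apply, Finset.sum_apply, Pi.smul_apply, Pi.single_apply, EmbeddingLike.apply_eq_iff_eq, Prod.mk.injEq,
      smul_eq_mul, mul_ite, mul_one, mul_zero, reindexAlgEquiv_apply, reindex_apply, submatrix_apply,
      Equiv.symm_apply_apply, blockDiagonal_apply]
    by_cases h : i' = i
    · subst h; simp
    · simp [h]
  rw [e2, ← Matrix.toLin'_apply U, map_sum]
  have hb : ∀ l i, b (finProdFinEquiv (l, i)) = Sum.elim v (g ∘ v) (e (l, i)) := fun l i => by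
    simp [b, bb]
  simp only [map_smul, Matrix.toLin'_apply, hcol, hb, Fin.sum_univ_two]
  show g (Sum.elim v (g ∘ v) (e (k, i))) = _
  fin_cases k
  · simp [e]
  · simp [e, hg, sub_eq_add_neg, add_comm]

/-- A unit carrying a generator into the field normalises it. -/
theorem mem_normalizer {n : ℕ} {K : Subalgebra F (Matrix (Fin n) (Fin n) F)} [FiniteDimensional F K]
    {T : Matrix (Fin n) (Fin n) F} (hT : T ∈ K)
    (hspan : ∀ k ∈ K, ∃ a b : F, k = a • 1 + b • T) (g : GL (Fin n) F) {T' : Matrix (Fin n) (Fin n) F} (hT' : T' ∈ K)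
    (h : (g : Matrix (Fin n) (Fin n) F) * T = T' * (g : Matrix (Fin n) (Fin n) F)) : g ∈ Geo.subalgebraNormalizer K := by
  set G : Matrix (Fin n) (Fin n) F := (g : Matrix (Fin n) (Fin n) F)
  set Gi : Matrix (Fin n) (Fin n) F := ((g⁻¹ : GL (Fin n) F) : Matrix (Fin n) (Fin n) F)
  have hGG : G * Gi = 1 := g.mul_inv
  have hfw : ∀ k ∈ K, G * k * Gi ∈ K := fun k hk => by
    obtain ⟨a, b, rfl⟩ := hspan k hk
    rw [mul_add, add_mul, Matrix.mul_smul, Matrix.mul_one, Matrix.smul_mul, hGG, Matrix.mul_smul, Matrix.smul_mul, h,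
      mul_assoc, hGG, mul_one]
    exact K.add_mem (K.smul_mem K.one_mem a) (K.smul_mem hT' b)
  let L : K →ₗ[F] K :=
    { toFun := fun k => ⟨G * k * Gi, hfw k k.2⟩
      map_add' := fun a b => Subtype.ext (by simp [mul_add, add_mul])
      map_smul' := fun c a => Subtype.ext (by simp [Matrix.mul_smul, Matrix.smul_mul]) }
  have hcancel : ∀ a : Matrix (Fin n) (Fin n) F, Gi * (G * a * Gi) * G = a := fun a => by
    rw [show Gi * (G * a * Gi) * G = (Gi * G) * a * (Gi * G) by simp only [mul_assoc],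
      show Gi * G = 1 from g.inv_mul, one_mul, mul_one]
  have hinj : Function.Injective L := fun a b e => Subtype.ext (by
    rw [← hcancel a, ← hcancel b]
    exact congrArg (fun x : K => Gi * (x : Matrix (Fin n) (Fin n) F) * G) e)
  intro k
  refine ⟨hfw k, fun hk => ?_⟩
  obtain ⟨a, ha⟩ := (LinearMap.injective_iff_surjective.1 hinj) ⟨_, hk⟩
  have := congrArg (fun x : K => Gi * (x : Matrix (Fin n) (Fin n) F) * G) ha
  simp only at this
  rw [show ((L a : K) : Matrix (Fin n) (Fin n) F) = G * a * Gi from rfl, hcancel, hcancel] at this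
  rw [← this]; exact a.2

/-- No conjugate of an element with a hyperplane eigenspace normalises the field. -/
theorem no_hyperplane [Fintype F] {n : ℕ} [Nonempty (Fin n)] (hn : 3 ≤ n) {K : Subalgebra F (Matrix (Fin n) (Fin n) F)}
    (hK : Geo.IsFieldSubalgebra 2 K) (g : GL (Fin n) F) (hg : g ∈ Geo.subalgebraNormalizer K) (c : F)
    (hr : ((g : Matrix (Fin n) (Fin n) F) - c • 1).rank = 1) : False := by
  obtain ⟨T, hT, hns, τ, N, hTT, hroot⟩ := AschEven.field2_gen hK
  set G : Matrix (Fin n) (Fin n) F := (g : Matrix (Fin n) (Fin n) F)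
  set Gi : Matrix (Fin n) (Fin n) F := ((g⁻¹ : GL (Fin n) F) : Matrix (Fin n) (Fin n) F)
  set T' := G * T * Gi
  have hGT : G * T = T' * G := by
    rw [show T' * G = G * T * (Gi * G) by simp only [T', mul_assoc], show Gi * G = 1 from g.inv_mul, mul_one]
  obtain ⟨y, -, hy⟩ : ∃ y ∈ K, T * y = 1 := hK.inv T hT fun h => hns 0 (by rw [h, zero_smul])
  have hyT : y * T = 1 := mul_eq_one_comm.1 hy
  set M := G - c • (1 : Matrix (Fin n) (Fin n) F)
  set W := LinearMap.ker (Matrix.toLin' M)
  have hW : ∀ v, v ∈ W ↔ G *ᵥ v = c • v := fun v => by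
    rw [LinearMap.mem_ker, Matrix.toLin'_apply, sub_mulVec, smul_mulVec, one_mulVec, sub_eq_zero]
  have h1 := (Matrix.toLin' M).finrank_range_add_finrank_ker
  rw [Module.finrank_fin_fun] at h1
  have hrr : finrank F (LinearMap.range (Matrix.toLin' M)) = 1 := hr
  have hW' : finrank F W + 1 = n := by change _ + finrank F W = n at h1; omega
  by_cases hTc : T' = T
  · -- linear case: the range is stable under the field
    rw [hTc] at hGT
    obtain ⟨w, hw, hall⟩ := finrank_eq_one_iff'.1 hrr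
    have hmem : T *ᵥ (w : Fin n → F) ∈ LinearMap.range (Matrix.toLin' M) := by
      obtain ⟨u, hu⟩ := w.2
      refine ⟨T *ᵥ u, ?_⟩
      rw [← hu, Matrix.toLin'_apply, Matrix.toLin'_apply, mulVec_mulVec, mulVec_mulVec]
      congr 1
      rw [sub_mul, mul_sub, hGT, Matrix.smul_mul, Matrix.one_mul, Matrix.mul_smul, Matrix.mul_one]
    obtain ⟨a, ha⟩ := hall ⟨_, hmem⟩
    have ha' : a • (w : Fin n → F) = T *ᵥ (w : Fin n → F) := congrArg Subtype.val ha
    have h2 : T *ᵥ (T *ᵥ (w : Fin n → F)) = τ • (T *ᵥ (w : Fin n → F)) - N • (w : Fin n → F) := by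
      rw [mulVec_mulVec, hTT, sub_mulVec, smul_mulVec, smul_mulVec, one_mulVec]
    rw [← ha', mulVec_smul, ← ha', smul_smul, smul_smul] at h2
    have h3 : (a ^ 2 - τ * a + N) • (w : Fin n → F) = 0 := by linear_combination (norm := module) h2
    exact hw (Subtype.ext ((smul_eq_zero.1 h3).resolve_left (hroot a)))
  · -- semilinear case: the eigenspace meets its translate trivially
    have hT'K : T' ∈ K := (hg T).1 hT
    obtain ⟨y', -, hy'⟩ := hK.inv _ (K.sub_mem hT'K hT) (sub_ne_zero.2 hTc)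
    have hinj : Function.Injective (Matrix.toLin' T) := fun u v e => by
      have := congrArg (fun x => y *ᵥ x) e
      simpa [Matrix.toLin'_apply, mulVec_mulVec, hyT] using this
    have hdis : W ⊓ W.map (Matrix.toLin' T) = ⊥ := by
      rw [eq_bot_iff]
      rintro _ ⟨hv, ⟨u, hu, rfl⟩⟩
      rw [Matrix.toLin'_apply] at hv ⊢
      have e1 := (hW _).1 hv
      have e2 := (hW _).1 hu
      rw [mulVec_mulVec, hGT, ← mulVec_mulVec, e2, mulVec_smul] at e1
      have hc : c ≠ 0 := fun h => by
        rw [show M = G by simp [M, h]] at hr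
        rw [rank_of_isUnit G g.isUnit, Fintype.card_fin] at hr
        omega
      have e3 : (T' - T) *ᵥ u = 0 := by
        rw [sub_mulVec, smul_right_injective (Fin n → F) hc e1, sub_self]
      have e4 := congrArg (fun x => y' *ᵥ x) e3
      simp only [mulVec_mulVec, mulVec_zero, mul_eq_one_comm.1 hy', one_mulVec] at e4
      rw [Submodule.mem_bot, e4, mulVec_zero]
    have h2 := Submodule.finrank_sup_add_finrank_inf_eq W (W.map (Matrix.toLin' T))
    rw [hdis, finrank_bot, ← (Submodule.equivMapOfInjective _ hinj W).finrank_eq] at h2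
    have h3 := (W ⊔ W.map (Matrix.toLin' T)).finrank_le
    rw [Module.finrank_fin_fun] at h3
    omega

/-- An involution conjugate into the normaliser. -/
theorem exists_conj [Fintype F] {d : ℕ} (hd : 1 ≤ d) {n : ℕ} (hn : n = 2 * d)
    {K : Subalgebra F (Matrix (Fin n) (Fin n) F)} (hK : Geo.IsFieldSubalgebra 2 K)
    (x : Matrix.SpecialLinearGroup (Fin n) F) {z : F}
    (hz : (x : Matrix (Fin n) (Fin n) F) * (x : Matrix (Fin n) (Fin n) F) = z • 1)
    (hx : ∀ c : F, (x : Matrix (Fin n) (Fin n) F) ≠ c • 1)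
    (hs : d = 1 ∨ ((2 : F) ≠ 0 ∧ ∀ s : F, s * s = z → s ^ n ≠ -1)) :
    ∃ P : Matrix.SpecialLinearGroup (Fin n) F, P⁻¹ * x * P ∈ ((Geo.subalgebraNormalizer K).comap
      (Matrix.SpecialLinearGroup.toGL : Matrix.SpecialLinearGroup (Fin n) F →* GL (Fin n) F)) := by
  classical
  subst hn
  haveI : FiniteDimensional F K := Module.finite_of_finrank_pos (by rw [hK.finrank_eq]; norm_num)
  haveI : Nonempty (Fin (2 * d)) := ⟨⟨0, by omega⟩⟩
  let e : Fin 2 × Fin d ≃ Fin (2 * d) := finProdFinEquiv
  let Φ : Matrix (Fin 2 × Fin d) (Fin 2 × Fin d) F ≃ₐ[F] Matrix (Fin (2 * d)) (Fin (2 * d)) F := Matrix.reindexAlgEquiv F F e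
  have hdetΦ : ∀ A, (Φ A).det = A.det := fun A => Matrix.det_reindexAlgEquiv F F e A
  set X := Φ.symm (x : Matrix (Fin (2 * d)) (Fin (2 * d)) F) with hX
  have hXX : X * X = z • 1 := by rw [hX, ← map_mul, hz, map_smul, map_one]
  have hXd : X.det = 1 := by rw [← hdetΦ, AlgEquiv.apply_symm_apply, x.2]
  have hz0 : z ≠ 0 := fun h => by
    have hh := congrArg Matrix.det hXX
    rw [det_mul, hXd, h, det_smul, zero_pow (by simp; omega)] at hh
    simp at hh
  obtain ⟨B, M, hXB, hM, hdich⟩ : ∃ (B : GL (Fin 2 × Fin d) F) (M : Fin d → Matrix (Fin 2) (Fin 2) F),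
      X * (B : Matrix (Fin 2 × Fin d) (Fin 2 × Fin d) F) = (B : Matrix (Fin 2 × Fin d) (Fin 2 × Fin d) F) * blockDiagonal M ∧
      (∀ i, M i * M i = z • 1) ∧ ((∀ i, ∃ c : F, M i = c • 1) ∨ ∀ i, ∀ c : F, M i ≠ c • 1) := by
    rcases hs with rfl | ⟨h2, hs⟩
    · let M : Fin 1 → Matrix (Fin 2) (Fin 2) F := fun _ => Matrix.of fun a b => X (a, 0) (b, 0)
      have hbd : blockDiagonal M = X := by
        ext ⟨a, i⟩ ⟨b, j⟩
        rw [Subsingleton.elim i 0, Subsingleton.elim j 0]
        simp [blockDiagonal_apply, M]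
      refine ⟨1, M, by rw [Units.val_one, mul_one, one_mul, hbd], fun i => ?_, Or.inr fun i c h => hx c ?_⟩
      · have : blockDiagonal (fun i => M i * M i) = blockDiagonal (fun _ => z • (1 : Matrix (Fin 2) (Fin 2) F)) := by
          rw [blockDiagonal_mul, hbd, hXX, show (fun _ : Fin 1 => z • (1 : Matrix (Fin 2) (Fin 2) F)) = z • 1 from rfl,
            blockDiagonal_smul, blockDiagonal_one]
        exact congrFun (blockDiagonal_injective this) i
      · have hM' : M = c • 1 := funext fun j => by rw [Subsingleton.elim j i, h]; rfl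
        have hXs : X = c • 1 := by rw [← hbd, hM', blockDiagonal_smul, blockDiagonal_one]
        rw [hX] at hXs
        have := congrArg Φ hXs
        rwa [AlgEquiv.apply_symm_apply, map_smul, map_one] at this
    · obtain ⟨μ, B, M, hXB, hμ, hM, -⟩ := InvolutionPairs.exists_planes hd X hXX hXd (fun _ s hs' => hs s hs')
      refine ⟨B, M, hXB, hM, ?_⟩
      by_contra hno
      push Not at hno
      obtain ⟨⟨i, hi⟩, j, c, hc⟩ := hno
      obtain ⟨N, hN⟩ := exists_sim2 (M i) (hM i) hi
      have hdi : (M i).det = -z := by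
        have h := congrArg Matrix.det hN
        rw [det_mul, det_mul, det_fin_two_of] at h
        have hNd := ((Matrix.isUnit_iff_isUnit_det _).1 N.isUnit).ne_zero
        refine mul_right_cancel₀ hNd ?_
        linear_combination h
      have hcz : c * c = z := by
        have h := congrFun (congrFun (hM j) 0) 0
        rw [hc] at h
        simpa [Matrix.mul_apply] using h
      have hdj : (M j).det = c * c := by rw [hc]; simp [det_smul, pow_two]
      rw [hμ i] at hdi
      rw [hμ j, hdi, hcz] at hdj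
      exact (mul_ne_zero h2 hz0) (by linear_combination -hdj)
  obtain ⟨τ, N₀, T, U, hT, hspan, hroot, hTU⟩ := exists_field_coords hK
  obtain ⟨R, a₁, b₁, hRR, hRns, hRC⟩ := exists_root_normalising hz0 hroot
  obtain ⟨NR, hNR⟩ := exists_sim2 R hRR hRns
  set C₀ : Matrix (Fin 2) (Fin 2) F := !![0, -N₀; 1, τ]
  -- the normal form of each plane
  obtain ⟨M', a, b, Ns, hMN, hMC, hcen⟩ : ∃ (M' : Fin d → Matrix (Fin 2) (Fin 2) F) (a b : F) (Ns : Fin d → GL (Fin 2) F),
      (∀ i, M i * (Ns i : Matrix (Fin 2) (Fin 2) F) = (Ns i : Matrix (Fin 2) (Fin 2) F) * M' i) ∧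
      (∀ i, M' i * C₀ = (a • C₀ + b • 1) * M' i) ∧
      ∀ c : F, ∃ Z : Matrix (Fin 2) (Fin 2) F, Z.det = c ∧ Z * M' ⟨0, hd⟩ = M' ⟨0, hd⟩ * Z := by
    rcases hdich with hall | hnone
    · refine ⟨M, 1, 0, fun _ => 1, fun i => by simp, fun i => ?_, fun c => ⟨!![c, 0; 0, 1], by simp [det_fin_two_of], ?_⟩⟩
      · obtain ⟨c, hc⟩ := hall i
        rw [hc]; simp
      · obtain ⟨c', hc⟩ := hall ⟨0, hd⟩
        rw [hc]; simp
    · choose Ns hNs using fun i => exists_sim2 (M i) (hM i) (hnone i)
      refine ⟨fun _ => R, a₁, b₁, fun i => Ns i * NR⁻¹, fun i => ?_, fun _ => hRC, fun c => ?_⟩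
      · have hW : !![0, z; 1, 0] * ((NR⁻¹ : GL (Fin 2) F) : Matrix (Fin 2) (Fin 2) F) =
            ((NR⁻¹ : GL (Fin 2) F) : Matrix (Fin 2) (Fin 2) F) * R := by
          have h := congrArg (fun A => ((NR⁻¹ : GL (Fin 2) F) : Matrix (Fin 2) (Fin 2) F) * A *
            ((NR⁻¹ : GL (Fin 2) F) : Matrix (Fin 2) (Fin 2) F)) hNR
          simp only [mul_assoc, NR.mul_inv, mul_one] at h
          rw [← mul_assoc ((NR⁻¹ : GL (Fin 2) F) : Matrix (Fin 2) (Fin 2) F) (NR : Matrix (Fin 2) (Fin 2) F), NR.inv_mul, one_mul] at h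
          exact h.symm
        rw [Units.val_mul, ← mul_assoc, hNs, mul_assoc, hW, mul_assoc]
      · obtain ⟨u, w, huw⟩ := InvolutionPairs.exists_norm (d := c) hz0
        refine ⟨u • 1 + w • R, ?_, ?_⟩
        · have hRt : R 1 1 = -R 0 0 := by
            have hd' : R.det = -z := by
              have h := congrArg Matrix.det hNR
              rw [det_mul, det_mul, det_fin_two_of] at h
              refine mul_right_cancel₀ ((Matrix.isUnit_iff_isUnit_det _).1 NR.isUnit).ne_zero ?_
              linear_combination h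
            have htr : Matrix.trace R = 0 := by
              have h1 : (NR : Matrix (Fin 2) (Fin 2) F) * !![0, z; 1, 0] * ((NR⁻¹ : GL (Fin 2) F) : Matrix (Fin 2) (Fin 2) F) = R := by
                rw [← hNR, mul_assoc, NR.mul_inv, mul_one]
              rw [← h1, Matrix.trace_units_conj, trace_fin_two_of, add_zero]
            rw [trace_fin_two] at htr
            linear_combination htr
          have h00 := congrFun (congrFun hRR 0) 0
          simp [Matrix.mul_apply, Fin.sum_univ_two] at h00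
          rw [det_fin_two]
          simp [hRt]
          linear_combination huw - (w * w) * h00
        · simp [add_mul, mul_add, Matrix.smul_mul, Matrix.mul_smul]
  have hbdN : IsUnit (blockDiagonal fun i => (Ns i : Matrix (Fin 2) (Fin 2) F)) :=
    IsUnit.of_mul_eq_one (b := blockDiagonal fun i => ((Ns i)⁻¹ : GL (Fin 2) F).1) (by
      rw [← blockDiagonal_mul, show (fun i => (Ns i : Matrix (Fin 2) (Fin 2) F) * ((Ns i)⁻¹ : GL (Fin 2) F).1) = 1 from
        funext fun i => (Ns i).mul_inv, blockDiagonal_one])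
  set B' : Matrix (Fin 2 × Fin d) (Fin 2 × Fin d) F :=
    (B : Matrix (Fin 2 × Fin d) (Fin 2 × Fin d) F) * blockDiagonal fun i => (Ns i : Matrix (Fin 2) (Fin 2) F)
  have hB'd : B'.det ≠ 0 := ((Matrix.isUnit_iff_isUnit_det _).1 (B.isUnit.mul hbdN)).ne_zero
  have hXB' : X * B' = B' * blockDiagonal M' := by
    rw [show X * B' = X * (B : Matrix (Fin 2 × Fin d) (Fin 2 × Fin d) F) * blockDiagonal (fun i => (Ns i : Matrix (Fin 2) (Fin 2) F)) from
        (mul_assoc _ _ _).symm, hXB, mul_assoc, ← blockDiagonal_mul, show (fun i => M i * (Ns i : Matrix (Fin 2) (Fin 2) F)) =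
        fun i => (Ns i : Matrix (Fin 2) (Fin 2) F) * M' i from funext hMN, blockDiagonal_mul, ← mul_assoc]
  have hUd : (U : Matrix (Fin (2 * d)) (Fin (2 * d)) F).det ≠ 0 := ((Matrix.isUnit_iff_isUnit_det _).1 U.isUnit).ne_zero
  obtain ⟨Z, hZd, hZc⟩ := hcen (B'.det⁻¹ * (U : Matrix (Fin (2 * d)) (Fin (2 * d)) F).det)
  set Cn := blockDiagonal (Function.update (fun _ => (1 : Matrix (Fin 2) (Fin 2) F)) (⟨0, hd⟩ : Fin d) Z)
  have hCd : Cn.det = B'.det⁻¹ * (U : Matrix (Fin (2 * d)) (Fin (2 * d)) F).det := by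
    rw [det_blockDiagonal, Finset.prod_eq_single ⟨0, hd⟩ (fun j _ hj => by
      rw [Function.update_of_ne hj, det_one]) (by simp), Function.update_self, hZd]
  have hCc : Cn * blockDiagonal M' = blockDiagonal M' * Cn := by
    rw [← blockDiagonal_mul, ← blockDiagonal_mul]
    congr 1
    funext j
    by_cases hj : j = ⟨0, hd⟩
    · rw [hj, Function.update_self, hZc]
    · rw [Function.update_of_ne hj, one_mul, mul_one]
  set Ui : Matrix (Fin (2 * d)) (Fin (2 * d)) F := ((U⁻¹ : GL (Fin (2 * d)) F) : Matrix (Fin (2 * d)) (Fin (2 * d)) F)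
  set P : Matrix (Fin (2 * d)) (Fin (2 * d)) F := Φ (B' * Cn) * Ui
  have hPd : P.det = 1 := by
    have hUid : Ui.det = (U : Matrix (Fin (2 * d)) (Fin (2 * d)) F).det⁻¹ := by
      have h := congrArg Matrix.det (U.inv_mul)
      rw [det_mul, det_one] at h
      exact eq_inv_of_mul_eq_one_left h
    rw [det_mul, hdetΦ, det_mul, hCd, hUid, mul_inv_cancel_left₀ hB'd, mul_inv_cancel₀ hUd]
  let Ps : Matrix.SpecialLinearGroup (Fin (2 * d)) F := ⟨P, hPd⟩
  refine ⟨Ps, mem_normalizer hT hspan _ (T' := a • T + b • 1)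
    (K.add_mem (K.smul_mem hT a) (K.smul_mem K.one_mem b)) ?_⟩
  show ((Ps⁻¹).1 * (x : Matrix (Fin (2 * d)) (Fin (2 * d)) F) * P) * T =
    (a • T + b • 1) * ((Ps⁻¹).1 * (x : Matrix (Fin (2 * d)) (Fin (2 * d)) F) * P)
  have hPP : (Ps⁻¹).1 * P = 1 := congrArg Subtype.val (inv_mul_cancel Ps)
  set Um : Matrix (Fin (2 * d)) (Fin (2 * d)) F := (U : Matrix (Fin (2 * d)) (Fin (2 * d)) F)
  set y := Φ (blockDiagonal M')
  have hUU : Ui * Um = 1 := U.inv_mul
  have hxP : (x : Matrix (Fin (2 * d)) (Fin (2 * d)) F) * P = P * (Um * y * Ui) := by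
    have e1 : (x : Matrix (Fin (2 * d)) (Fin (2 * d)) F) * Φ (B' * Cn) = Φ (B' * Cn) * y := by
      conv_lhs => rw [← Φ.apply_symm_apply (x : Matrix (Fin (2 * d)) (Fin (2 * d)) F)]
      rw [← map_mul, ← map_mul, ← hX, ← mul_assoc, hXB', mul_assoc, ← hCc, ← mul_assoc]
    rw [show P * (Um * y * Ui) = Φ (B' * Cn) * (Ui * Um) * y * Ui by simp only [P, mul_assoc], hUU, mul_one, ← e1,
      mul_assoc]
  rw [mul_assoc (Ps⁻¹).1, hxP, ← mul_assoc, hPP, one_mul]
  set C := Φ (blockDiagonal fun _ : Fin d => C₀)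
  have hTe : T = Um * C * Ui := by
    rw [← show T * Um = Um * C from hTU, mul_assoc, show Um * Ui = 1 from U.mul_inv, mul_one]
  have hyC : y * C = (a • C + b • 1) * y := by
    have e : a • C + b • 1 = Φ (blockDiagonal fun _ : Fin d => a • C₀ + b • 1) := by
      rw [show (fun _ : Fin d => a • C₀ + b • (1 : Matrix (Fin 2) (Fin 2) F)) = a • (fun _ : Fin d => C₀) + b • 1 from rfl,
        blockDiagonal_add, blockDiagonal_smul, blockDiagonal_smul, blockDiagonal_one, map_add, map_smul, map_smul, map_one]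
    rw [e, ← map_mul, ← map_mul, ← blockDiagonal_mul, ← blockDiagonal_mul]
    congr 2
    funext i
    exact hMC i
  rw [hTe, show Um * y * Ui * (Um * C * Ui) = Um * (y * (Ui * Um) * C) * Ui by simp only [mul_assoc], hUU, mul_one, hyC,
    show a • (Um * C * Ui) + b • (1 : Matrix (Fin (2 * d)) (Fin (2 * d)) F) = Um * (a • C + b • 1) * Ui by
      rw [mul_add, add_mul, Matrix.mul_smul, Matrix.smul_mul, Matrix.mul_smul, Matrix.mul_one, Matrix.smul_mul,
        show Um * Ui = 1 from U.mul_inv],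
    show Um * (a • C + b • 1) * Ui * (Um * y * Ui) = Um * ((a • C + b • 1) * (Ui * Um) * y) * Ui by simp only [mul_assoc],
    hUU, mul_one]


/-- Involutions of PSL_n(q) and extension-field subgroups of degree 2. Here `T = PSL_n(F)` for a field `F` with `q = p^f` elements (`n ≥ 2`, `(n, q) ≠ (2, 2), (2, 3)`), `k` is a prime dividing `n`, `K` is a subalgebra of the `n × n` matrices that is a field of degree `k` over `F` (an extension-field structure F_{q^k} on `F^n`), and `H` is the subgroup of matrices of determinant 1 normalizing `K` — a subgroup of type GL_{n/k}(q^k) (maximal except in some small cases; maximality is not assumed); Ω is the set of cosets of `H` in `T`, so an element of `T` of prime order `r` (a matrix `x` of determinant 1 with `x^r` scalar, `x` not scalar) fixes a point of Ω when some conjugate of `x` by a matrix of determinant 1 normalizes `K`. Take `k = 2` and suppose the index of `H` is even. Then every involution of `T` is conjugate in `T` into `H` if and only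 if `n = 2`, or `q` is odd and `(q − 1)_2 ≤ (n)_2`. -/
theorem result {F : Type*} [Field F] [Fintype F] {p : ℕ} [Fact p.Prime] [CharP F p] {q : ℕ} (hq : Fintype.card F = q)
    (n : ℕ) (hn : 2 ≤ n) (hT : (n, q) ≠ (2, 2) ∧ (n, q) ≠ (2, 3))
    (k : ℕ) (hk : k.Prime) (hkn : k ∣ n) (K : Subalgebra F (Matrix (Fin n) (Fin n) F)) (hK : Cfsg.Geo.IsFieldSubalgebra k K) (hk2 : k = 2) (hΩ : 2 ∣ ((Cfsg.Geo.subalgebraNormalizer K).comap (Matrix.SpecialLinearGroup.toGL : Matrix.SpecialLinearGroup (Fin n) F →* GL (Fin n) F)).index) :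
    (∀ x : Matrix.SpecialLinearGroup (Fin n) F,
      (∃ z : F, ((x ^ 2 : Matrix.SpecialLinearGroup (Fin n) F) : Matrix (Fin n) (Fin n) F) = z • (1 : Matrix (Fin n) (Fin n) F)) →
      (∀ z : F, (x : Matrix (Fin n) (Fin n) F) ≠ z • (1 : Matrix (Fin n) (Fin n) F)) →
      ∃ P : Matrix.SpecialLinearGroup (Fin n) F, P⁻¹ * x * P ∈ ((Cfsg.Geo.subalgebraNormalizer K).comap (Matrix.SpecialLinearGroup.toGL : Matrix.SpecialLinearGroup (Fin n) F →* GL (Fin n) F))) ↔
    (n = 2 ∨ (Odd q ∧ padicValNat 2 (q - 1) ≤ padicValNat 2 n)) := by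

  classical
  subst hq
  subst hk2
  obtain ⟨d, hd⟩ := hkn
  have h2F : (2 : F) ≠ 0 ↔ Odd (Fintype.card F) := by
    constructor
    · intro h
      rw [Nat.odd_iff]
      refine FiniteField.odd_card_of_char_ne_two fun hc => h ?_
      haveI := ringChar.of_eq hc
      exact CharTwo.two_eq_zero
    · intro h h2
      haveI : CharP F 2 := CharTwo.of_one_ne_zero_of_two_eq_zero one_ne_zero h2
      have := FiniteField.even_card_of_char_two (ringChar.eq F 2)
      rw [Nat.odd_iff] at h
      omega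
  constructor
  · intro H
    by_cases hn2 : n = 2
    · exact Or.inl hn2
    refine Or.inr ?_
    haveI : Nonempty (Fin n) := ⟨⟨0, by omega⟩⟩
    have key : ∀ (x : Matrix.SpecialLinearGroup (Fin n) F) (z c : F),
        (x : Matrix (Fin n) (Fin n) F) * (x : Matrix (Fin n) (Fin n) F) = z • 1 →
        ((x : Matrix (Fin n) (Fin n) F) - c • 1).rank = 1 → False := fun x z c hxx hr => by
      have hns : ∀ w : F, (x : Matrix (Fin n) (Fin n) F) ≠ w • (1 : Matrix (Fin n) (Fin n) F) := fun w hw => by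
        rw [hw, ← sub_smul] at hr
        by_cases hwc : w - c = 0
        · rw [hwc, zero_smul, rank_zero] at hr; omega
        · rw [smul_one_eq_diagonal, rank_diagonal, Fintype.card_congr (Equiv.subtypeUnivEquiv fun _ => hwc), Fintype.card_fin] at hr; omega
      obtain ⟨P, hP⟩ := H x ⟨z, by rw [Matrix.SpecialLinearGroup.coe_pow, pow_two, hxx]⟩ hns
      refine no_hyperplane (by omega) hK _ hP c ?_
      show ((P⁻¹).1 * (x : Matrix (Fin n) (Fin n) F) * P.1 - c • 1).rank = 1
      rw [show (P⁻¹).1 * (x : Matrix (Fin n) (Fin n) F) * P.1 - c • 1 = (P⁻¹).1 * ((x : Matrix (Fin n) (Fin n) F) - c • 1) * P.1 by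
        rw [mul_sub, sub_mul, Matrix.mul_smul, Matrix.mul_one, Matrix.smul_mul,
          show (P⁻¹).1 * P.1 = 1 from congrArg Subtype.val (inv_mul_cancel P)],
        rank_mul_eq_left_of_isUnit_det _ _ (by rw [P.2]; exact isUnit_one), rank_mul_eq_right_of_isUnit_det _ _
        (by rw [show (P⁻¹).1.det = 1 from (P⁻¹).2]; exact isUnit_one), hr]
    have hi : (⟨0, by omega⟩ : Fin n) ≠ ⟨1, by omega⟩ := by simp [Fin.ext_iff]
    have hqo : Odd (Fintype.card F) := by
      by_contra hq
      have h2 : (2 : F) = 0 := by by_contra h; exact hq (h2F.1 h)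
      let x : Matrix.SpecialLinearGroup (Fin n) F := ⟨Matrix.transvection ⟨0, by omega⟩ ⟨1, by omega⟩ 1, det_transvection_of_ne _ _ hi 1⟩
      refine key x 1 1 ?_ ?_
      · show Matrix.transvection (⟨0, by omega⟩ : Fin n) (⟨1, by omega⟩ : Fin n) (1 : F) * Matrix.transvection (⟨0, by omega⟩ : Fin n) (⟨1, by omega⟩ : Fin n) (1 : F) = _
        rw [transvection_mul_transvection_same _ _ hi, show (1 : F) + 1 = 0 by linear_combination h2, transvection_zero, one_smul]
      · show (Matrix.transvection (⟨0, by omega⟩ : Fin n) (⟨1, by omega⟩ : Fin n) (1 : F) - (1 : F) • 1).rank = 1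
        rw [one_smul, Matrix.transvection, add_sub_cancel_left]
        refine le_antisymm ?_ (Nat.pos_of_ne_zero fun h => ?_)
        · rw [show Matrix.single (⟨0, by omega⟩ : Fin n) (⟨1, by omega⟩ : Fin n) (1 : F) = vecMulVec (Pi.single ⟨0, by omega⟩ 1) (Pi.single ⟨1, by omega⟩ 1) from by ext a c; simp only [vecMulVec_apply, Matrix.single_apply, Pi.single_apply]; split_ifs <;> simp_all]
          exact rank_vecMulVec_le _ _
        · change finrank F (LinearMap.range (Matrix.mulVecLin _)) = 0 at h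
          rw [Submodule.finrank_eq_zero, LinearMap.range_eq_bot] at h
          have h1 := congrFun (LinearMap.congr_fun h (Pi.single (⟨1, by omega⟩ : Fin n) (1 : F))) ⟨0, by omega⟩
          simp at h1
    refine ⟨hqo, ?_⟩
    have h2 := h2F.2 hqo
    by_contra hv
    push Not at hv
    set b := padicValNat 2 n with hb
    have hN0 : Fintype.card F - 1 ≠ 0 := by have := Fintype.one_lt_card (α := F); omega
    obtain ⟨c, hc⟩ : 2 ^ (b + 1) ∣ Fintype.card F - 1 := (pow_dvd_pow 2 hv).trans pow_padicValNat_dvd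
    obtain ⟨ζ, hζ⟩ := IsCyclic.exists_ofOrder_eq_natCard (α := Fˣ)
    rw [Nat.card_units, Nat.card_eq_fintype_card] at hζ
    set t : Fˣ := ζ ^ c
    have ht : orderOf t = 2 ^ (b + 1) := by
      rw [orderOf_pow_of_dvd (fun h => hN0 (by rw [hc, h, mul_zero])) (hζ ▸ Dvd.intro_left _ hc.symm), hζ, hc,
        Nat.mul_div_cancel _ (Nat.pos_of_ne_zero fun h => hN0 (by rw [hc, h, mul_zero]))]
    set s : F := (t : F)
    have hsn : s ^ n = -1 := by
      have h1 : (s ^ n) * (s ^ n) = 1 := by
        rw [← pow_add, ← Units.val_pow_eq_pow_val, orderOf_dvd_iff_pow_eq_one.1, Units.val_one]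
        rw [ht, ← two_mul, pow_succ']
        exact mul_dvd_mul_left 2 pow_padicValNat_dvd
      refine (mul_self_eq_one_iff.1 h1).resolve_left fun h => ?_
      have h2' : orderOf t ∣ n := orderOf_dvd_of_pow_eq_one (Units.ext (by rw [Units.val_pow_eq_pow_val]; exact h))
      rw [ht] at h2'
      exact pow_succ_padicValNat_not_dvd (by omega) h2'
    let dg : Fin n → F := fun i => s * (if i = ⟨0, by omega⟩ then -1 else 1)
    let x : Matrix.SpecialLinearGroup (Fin n) F := ⟨diagonal dg, by
      rw [det_diagonal, Finset.prod_mul_distrib, Finset.prod_const, Finset.card_univ, Fintype.card_fin, hsn,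
        Finset.prod_ite_eq' Finset.univ _ (fun _ => (-1 : F))]
      simp⟩
    refine key x (s * s) s ?_ ?_
    · show diagonal dg * diagonal dg = _
      rw [diagonal_mul_diagonal, smul_one_eq_diagonal]
      congr 1; funext i
      simp only [dg]
      split_ifs <;> ring
    · show (diagonal dg - _).rank = 1
      rw [smul_one_eq_diagonal, diagonal_sub, rank_diagonal, Fintype.card_eq_one_iff]
      have h0 : dg ⟨0, by omega⟩ = -s := (congrArg (s * ·) (if_pos rfl)).trans (by ring)
      refine ⟨⟨⟨0, by omega⟩, by rw [h0, sub_ne_zero]; intro h; exact (mul_ne_zero h2 t.ne_zero) (by linear_combination -h)⟩,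
        fun ⟨i, hi'⟩ => Subtype.ext ?_⟩
      by_contra hne
      exact hi' (by rw [show dg i = s from (congrArg (s * ·) (if_neg hne)).trans (mul_one s), sub_self])
  · intro hcr x hx1 hx2
    obtain ⟨z, hz⟩ := hx1
    refine exists_conj (d := d) (by omega) hd hK x (z := z)
      (by rw [← pow_two, ← Matrix.SpecialLinearGroup.coe_pow, hz]) hx2 ?_
    rcases hcr with hn2 | ⟨hqo, hv⟩
    · exact Or.inl (by omega)
    · refine Or.inr ⟨h2F.2 hqo, fun s _ hsn => ?_⟩
      have h2 := h2F.2 hqo
      have hs0 : s ≠ 0 := fun h => by rw [h, zero_pow (by omega), eq_comm, neg_eq_zero] at hsn; exact one_ne_zero hsn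
      set o := orderOf (Units.mk0 s hs0) with ho
      have ho2 : o ∣ 2 * n := orderOf_dvd_of_pow_eq_one (Units.ext (by
        rw [Units.val_pow_eq_pow_val, Units.val_mk0, mul_comm, pow_mul, hsn, neg_one_sq, Units.val_one]))
      have hon : ¬ o ∣ n := fun h => by
        have h1 := orderOf_dvd_iff_pow_eq_one.1 h
        have h2' : s ^ n = 1 := by
          have := congrArg Units.val h1
          rwa [Units.val_pow_eq_pow_val, Units.val_one, Units.val_mk0] at this
        rw [hsn] at h2'
        exact h2 (by linear_combination -h2')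
      have hoq : o ∣ Fintype.card F - 1 := by
        rw [← Nat.card_eq_fintype_card, ← Nat.card_units]; exact orderOf_dvd_natCard _
      set b := padicValNat 2 n with hb
      obtain ⟨m, hm⟩ : 2 ^ b ∣ n := pow_padicValNat_dvd
      have h2n : 2 * n = 2 ^ (b + 1) * m := by rw [hm, pow_succ]; ring
      rw [h2n] at ho2
      obtain ⟨o1, o2, h1, h2', ho'⟩ := exists_dvd_and_dvd_of_dvd_mul ho2
      obtain ⟨j, hj, rfl⟩ := (Nat.dvd_prime_pow Nat.prime_two).1 h1
      rcases Nat.lt_or_ge j (b + 1) with hlt | hge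
      · exact hon (by rw [ho', hm]; exact mul_dvd_mul (pow_dvd_pow 2 (by omega)) h2')
      · have hd' : 2 ^ (b + 1) ∣ Fintype.card F - 1 :=
          ((pow_dvd_pow 2 hge).trans (dvd_mul_right _ _)).trans (ho' ▸ hoq)
        have := (padicValNat_dvd_iff_le (p := 2) (by have := Fintype.one_lt_card (α := F); omega)).1 hd'
        omega

end Cfsg.Agent.S5969
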