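import Cfsg.Statements.S5981
import Cfsg.Agent.Lib.Classical.OrthSimilitudeDerange
import Cfsg.Agent.Lib.Classical.NonsingularPointDerange
import Cfsg.Agent.Lib.Classical.OrthOrder
import Cfsg.Agent.Lib.Lie.OrthSpectrumOdd
import Cfsg.Agent.S5968
-- import your own Cfsg.Agent.* helpers here

set_option autoImplicit false
open scoped MatrixGroups
open Cfsg Cfsg.Agent

namespace Cfsg.Agent.S5981
open Matrix Module Cfsg.Agent.Classical

variable {F : Type*} [Field F] [Fintype F] {n : ℕ}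

/-- The isometries sit inside the similitudes of determinant one up to index two. -/
theorem card_bound (Q : QuadraticForm F (Fin n → F)) (hQ : (QuadraticMap.polarBilin Q).Nondegenerate) {r : ℕ}
    (hΩ : r ∣ (Geo.quadSimilarityGroup ⇑Q).relIndex (Geo.specialLinear (Fin n) F)) :
    r * isoCard Q ∣ 2 * ∏ i : Fin n, (Fintype.card F ^ n - Fintype.card F ^ (i : ℕ)) := by
  classical
  set S := Geo.specialLinear (Fin n) F
  set H := Geo.quadSimilarityGroup ⇑Q
  set O := isometryGroup F ⇑Q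
  let D : O →* Fˣ := Matrix.GeneralLinearGroup.det.comp O.subtype
  have h1 : Nat.card O ∣ 2 * Nat.card D.ker := by
    rw [← Subgroup.index_mul_card D.ker]
    refine mul_dvd_mul_right ?_ _
    rw [Subgroup.index_ker]
    let N : Subgroup Fˣ := (powMonoidHom 2).ker
    have hle : D.range ≤ N := by
      rintro _ ⟨g, rfl⟩
      show D g ^ 2 = 1
      refine Units.ext ?_
      set G := LinearMap.BilinForm.toMatrix' (QuadraticMap.polarBilin Q)
      have hG : G.det ≠ 0 := (LinearMap.BilinForm.nondegenerate_iff_det_ne_zero (Pi.basisFun F (Fin n))).1 hQ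
      set Y := ((g : GL (Fin n) F) : Matrix (Fin n) (Fin n) F) with hYdef
      have hg' : ∀ u, Q (Y *ᵥ u) = Q u := mem_isometryGroup.1 g.2
      have hY : Yᵀ * G * Y = G := by
        ext i j
        have h : QuadraticMap.polarBilin Q (Y *ᵥ Pi.single i 1) (Y *ᵥ Pi.single j 1) =
            QuadraticMap.polarBilin Q (Pi.single i 1) (Pi.single j 1) := by
          rw [QuadraticMap.polarBilin_apply_apply, QuadraticMap.polarBilin_apply_apply, QuadraticMap.polar,
            QuadraticMap.polar, ← mulVec_add, hg', hg', hg']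
        rw [← Matrix.toBilin'_toMatrix' (QuadraticMap.polarBilin Q), Matrix.toBilin'_apply', Matrix.toBilin'_apply',
          mulVec_mulVec, dotProduct_comm, ← dotProduct_transpose_mulVec, mulVec_mulVec, ← mul_assoc] at h
        simpa [G] using h
      have h' := congrArg Matrix.det hY
      rw [det_mul, det_mul, det_transpose] at h'
      have h'' : Y.det ^ 2 * G.det = 1 * G.det := by linear_combination h'
      rw [Units.val_pow_eq_pow_val, Units.val_one]
      exact mul_right_cancel₀ hG h''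
    refine (Subgroup.card_dvd_of_le hle).trans ?_
    obtain ⟨g, hg⟩ := IsCyclic.exists_generator (α := N)
    rw [← orderOf_eq_card_of_forall_mem_zpowers hg]
    exact orderOf_dvd_of_pow_eq_one (Subtype.ext g.2)
  let ψ : D.ker →* H.subgroupOf S :=
    { toFun := fun g => ⟨⟨((g : O) : GL (Fin n) F), g.2⟩, 1, fun v => by
          rw [Units.val_one, one_mul]; exact mem_isometryGroup.1 (g : O).2 v⟩
      map_one' := rfl
      map_mul' := fun a b => rfl }
  have h2 : Nat.card D.ker ∣ Nat.card (H.subgroupOf S) := Subgroup.card_dvd_of_injective ψ fun a b h =>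
    Subtype.ext (Subtype.ext (congrArg (fun y : H.subgroupOf S => ((y : S) : GL (Fin n) F)) h))
  have h3 : r * Nat.card (H.subgroupOf S) ∣ Nat.card (GL (Fin n) F) := by
    refine (mul_dvd_mul_right hΩ _).trans ?_
    rw [Subgroup.relIndex, Subgroup.index_mul_card]
    exact Subgroup.card_subgroup_dvd_card S
  rw [Matrix.card_GL_field] at h3
  rw [← natCard_isometryGroup]
  calc r * Nat.card O ∣ r * (2 * Nat.card (H.subgroupOf S)) := mul_dvd_mul_left r (h1.trans (mul_dvd_mul_left 2 h2))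
    _ ∣ _ := by rw [mul_left_comm]; exact mul_dvd_mul_left 2 h3

theorem prod_split (q : ℤ) : ∀ m : ℕ, ∏ i ∈ Finset.range (2 * m), (q ^ (i + 1) - 1) =
    (∏ i ∈ Finset.range m, (q ^ (2 * i + 1) - 1)) * ∏ i ∈ Finset.range m, (q ^ (2 * (i + 1)) - 1)
  | 0 => by simp
  | m + 1 => by
    rw [show 2 * (m + 1) = 2 * m + 1 + 1 by ring, Finset.prod_range_succ, Finset.prod_range_succ, prod_split q m,
      Finset.prod_range_succ, Finset.prod_range_succ, show 2 * (m + 1) = 2 * m + 1 + 1 by ring]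
    ring

theorem cast_prod_GL (q : ℕ) (hq : 1 ≤ q) (n : ℕ) : ((∏ i : Fin n, (q ^ n - q ^ (i : ℕ)) : ℕ) : ℤ) =
    (∏ i : Fin n, (q : ℤ) ^ (i : ℕ)) * ∏ i ∈ Finset.range n, ((q : ℤ) ^ (i + 1) - 1) := by
  rw [← Finset.prod_range_reflect (fun i => (q : ℤ) ^ (i + 1) - 1), ← Fin.prod_univ_eq_prod_range, ← Finset.prod_mul_distrib,
    Nat.cast_prod]
  refine Finset.prod_congr rfl fun i _ => ?_
  rw [Nat.cast_sub (Nat.pow_le_pow_right hq i.is_lt.le), Nat.cast_pow, Nat.cast_pow, mul_sub, mul_one, ← pow_add,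
    show (i : ℕ) + (n - 1 - (i : ℕ) + 1) = n by omega]

theorem to_nat {r : ℕ} {j : ℕ} (h : (r : ℤ) ∣ (Fintype.card F : ℤ) ^ j - 1) : r ∣ Fintype.card F ^ j - 1 := by
  have h1 : 1 ≤ Fintype.card F ^ j := Nat.one_le_pow _ _ Fintype.card_pos
  rw [← Int.natCast_dvd_natCast, Nat.cast_sub h1, Nat.cast_pow, Nat.cast_one]
  exact h

theorem split_prime {r : ℕ} (hr : r.Prime) (hr2 : r ≠ 2) (hrq : ¬ r ∣ Fintype.card F) {m n : ℕ}
    (hm : 2 * m ≤ n + 1) {X : ℤ}
    (h : (r : ℤ) ∣ 2 * (∏ i : Fin n, (Fintype.card F : ℤ) ^ (i : ℕ)) *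
      (∏ i ∈ Finset.range m, ((Fintype.card F : ℤ) ^ (2 * i + 1) - 1)) * X) :
    (∃ j, Odd j ∧ j ≤ n ∧ r ∣ Fintype.card F ^ j - 1) ∨ (r : ℤ) ∣ X := by
  have hp : Prime (r : ℤ) := Nat.prime_iff_prime_int.1 hr
  rcases hp.dvd_or_dvd h with h | h
  swap
  · exact Or.inr h
  rcases hp.dvd_or_dvd h with h | h
  · rcases hp.dvd_or_dvd h with h | h
    · exact absurd ((Nat.prime_dvd_prime_iff_eq hr Nat.prime_two).1 (Int.natCast_dvd_natCast.1 h)) hr2
    · obtain ⟨i, -, h6⟩ := (Prime.dvd_finsetProd_iff hp _).1 h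
      exact absurd (Int.natCast_dvd_natCast.1 (hp.dvd_of_dvd_pow h6)) hrq
  · obtain ⟨i, hi, h5⟩ := (Prime.dvd_finsetProd_iff hp _).1 h
    exact Or.inl ⟨2 * i + 1, odd_two_mul_add_one i, by have := Finset.mem_range.1 hi; omega, to_nat h5⟩

theorem odd_model (h2 : (2 : F) ≠ 0) {m : ℕ} (Q : QuadraticForm F (Fin (2 * m + 1) → F))
    (hQ : (QuadraticMap.polarBilin Q).Nondegenerate) : isoCard Q = isoCard (qfOdd m F) := by
  classical
  have h0 := nondegenerate_qfOdd (F := F) m h2
  set D := gramDet (QuadraticMap.polarBilin Q) (Pi.basisFun F (Fin (2 * m + 1)))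
  set D0 := gramDet (QuadraticMap.polarBilin (qfOdd m F)) (Pi.basisFun F (Unit ⊕ (Fin m ⊕ Fin m)))
  have hc : D * D0 ≠ 0 := mul_ne_zero (gramDet_ne_zero hQ _) (gramDet_ne_zero h0 _)
  have hpb : QuadraticMap.polarBilin ((D * D0) • qfOdd m F) = (D * D0) • QuadraticMap.polarBilin (qfOdd m F) :=
    LinearMap.ext fun u => LinearMap.ext fun v => by simp [QuadraticMap.polar_smul]
  have hn : (QuadraticMap.polarBilin ((D * D0) • qfOdd m F)).Nondegenerate := by
    refine nondegenerate_of_separatingLeft _ fun u hu => h0.1 u fun v => ?_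
    have h := hu v
    rw [hpb, LinearMap.smul_apply, LinearMap.smul_apply, smul_eq_mul] at h
    exact (mul_eq_zero.1 h).resolve_left hc
  have hcard : Fintype.card (Unit ⊕ (Fin m ⊕ Fin m)) = 2 * m + 1 := by simp; omega
  obtain ⟨g, hg⟩ := (isometric_iff_disc h2 hn hQ (Pi.basisFun F (Unit ⊕ (Fin m ⊕ Fin m))) (Pi.basisFun F (Fin (2 * m + 1)))
    (by rw [hcard, Fintype.card_fin])).2 ⟨(D * D0) ^ (m + 1), by
      rw [hpb, gramDet_smul, hcard]
      show (D * D0) ^ (2 * m + 1) * D0 * D = _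
      ring⟩
  rw [← isoCard_congr g hg]
  exact Nat.card_congr
    { toFun := fun t => ⟨t.1, fun v => mul_left_cancel₀ hc (t.2 v)⟩
      invFun := fun t => ⟨t.1, fun v => congrArg ((D * D0) * ·) (t.2 v)⟩
      left_inv := fun t => rfl
      right_inv := fun t => rfl }

theorem index_odd_dim (h2 : (2 : F) ≠ 0) {r : ℕ} (hr : r.Prime) (hr2 : r ≠ 2) (hrq : ¬ r ∣ Fintype.card F) {m : ℕ}
    (Q : QuadraticForm F (Fin (2 * m + 1) → F)) (hQ : (QuadraticMap.polarBilin Q).Nondegenerate)
    (hΩ : r ∣ (Geo.quadSimilarityGroup ⇑Q).relIndex (Geo.specialLinear (Fin (2 * m + 1)) F)) :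
    ∃ j, Odd j ∧ j ≤ 2 * m + 1 ∧ r ∣ Fintype.card F ^ j - 1 := by
  have h := Int.natCast_dvd_natCast.2 (card_bound Q hQ hΩ)
  rw [Nat.cast_mul, Nat.cast_mul, odd_model h2 Q hQ, order_qfOdd h2, cast_prod_GL _ Fintype.card_pos,
    Finset.prod_range_succ, prod_split] at h
  obtain ⟨q, hq⟩ : ∃ q : ℤ, (Fintype.card F : ℤ) = q := ⟨_, rfl⟩
  have hq2 : (2 : ℤ) ≤ q := hq ▸ (by exact_mod_cast (Fintype.one_lt_card : 1 < Fintype.card F))
  simp only [hq] at h
  have hne : 2 * q ^ (m ^ 2) * ∏ i ∈ Finset.range m, (q ^ (2 * (i + 1)) - 1) ≠ 0 := by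
    refine mul_ne_zero (mul_ne_zero two_ne_zero (pow_ne_zero _ (by omega))) (Finset.prod_ne_zero_iff.2 fun i _ => ?_)
    have := le_self_pow₀ (show (1 : ℤ) ≤ q by omega) (show 2 * (i + 1) ≠ 0 by omega)
    omega
  have h' : (r : ℤ) * (∏ i ∈ Finset.range m, (q ^ (2 * (i + 1)) - 1)) ∣
      (2 * (∏ i : Fin (2 * m + 1), q ^ (i : ℕ)) * (∏ i ∈ Finset.range m, (q ^ (2 * i + 1) - 1)) * (q ^ (2 * m + 1) - 1)) *
        (∏ i ∈ Finset.range m, (q ^ (2 * (i + 1)) - 1)) :=
    Dvd.dvd.trans (mul_dvd_mul_left _ (dvd_mul_left _ _)) (h.trans (dvd_of_eq (by push_cast; ring)))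
  have hd := Int.dvd_of_mul_dvd_mul_right (mul_ne_zero_iff.1 hne).2 h'
  rw [← hq] at hd
  rcases split_prime hr hr2 hrq (by omega) hd with h | h
  · exact h
  · exact ⟨2 * m + 1, odd_two_mul_add_one m, le_rfl, to_nat h⟩

/-- The prime divides an odd torus, or the torus of the other type. -/
theorem index_even_dim {r : ℕ} (hr : r.Prime) (hr2 : r ≠ 2) (hrq : ¬ r ∣ Fintype.card F) {m : ℕ}
    (Q : QuadraticForm F (Fin (2 * (m + 1)) → F)) (hQ : (QuadraticMap.polarBilin Q).Nondegenerate)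
    (hΩ : r ∣ (Geo.quadSimilarityGroup ⇑Q).relIndex (Geo.specialLinear (Fin (2 * (m + 1))) F)) :
    (∃ j, Odd j ∧ j ≤ 2 * (m + 1) ∧ r ∣ Fintype.card F ^ j - 1) ∨
      ((∃ e : (Fin (m + 1) ⊕ Fin (m + 1) → F) ≃ₗ[F] (Fin (2 * (m + 1)) → F), ∀ v, Q (e v) = qfPlus (m + 1) F v) ∧
        (r : ℤ) ∣ (Fintype.card F : ℤ) ^ (m + 1) + 1) ∨
      (∃ (ζ : F) (_ : ∀ z₁ z₂ : F, z₁ ^ 2 + 1 * z₁ * z₂ + ζ * z₂ ^ 2 = 0 → z₁ = 0 ∧ z₂ = 0)
        (e : ((Fin m ⊕ Fin m) ⊕ Fin 2 → F) ≃ₗ[F] (Fin (2 * (m + 1)) → F)), (∀ v, Q (e v) = qfMinus m F 1 ζ v) ∧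
        (r : ℤ) ∣ (Fintype.card F : ℤ) ^ (m + 1) - 1) := by
  have h := Int.natCast_dvd_natCast.2 (card_bound Q hQ hΩ)
  rw [Nat.cast_mul, Nat.cast_mul, cast_prod_GL _ Fintype.card_pos, prod_split] at h
  obtain ⟨q, hq⟩ : ∃ q : ℤ, (Fintype.card F : ℤ) = q := ⟨_, rfl⟩
  have hq2 : (2 : ℤ) ≤ q := hq ▸ (by exact_mod_cast (Fintype.one_lt_card : 1 < Fintype.card F))
  have hP : (∏ i ∈ Finset.range m, (q ^ (2 * (i + 1)) - 1)) ≠ 0 := Finset.prod_ne_zero_iff.2 fun i _ => by
    have := le_self_pow₀ (show (1 : ℤ) ≤ q by omega) (show 2 * (i + 1) ≠ 0 by omega)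
    omega
  have hQ2 : (2 : ℤ) ≤ q ^ (m + 1) := hq2.trans (le_self_pow₀ (by omega) (by omega))
  rw [Finset.prod_range_succ (fun i => (Fintype.card F : ℤ) ^ (2 * (i + 1)) - 1) m] at h
  rcases Lie.OrthSpectrumOdd.exists_std hQ (m := m) (Module.finrank_fin_fun F) with ⟨e, he⟩ | ⟨ζ, e, hζ, he⟩
  · rw [← isoCard_congr e he, order_qfPlus] at h
    simp only [hq] at h
    have h' : (r : ℤ) * ((∏ i ∈ Finset.range m, (q ^ (2 * (i + 1)) - 1)) * (q ^ (m + 1) - 1)) ∣
        (2 * (∏ i : Fin (2 * (m + 1)), q ^ (i : ℕ)) * (∏ i ∈ Finset.range (m + 1), (q ^ (2 * i + 1) - 1)) *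
          (q ^ (m + 1) + 1)) * ((∏ i ∈ Finset.range m, (q ^ (2 * (i + 1)) - 1)) * (q ^ (m + 1) - 1)) :=
      (Dvd.intro (2 * q ^ (m * (m + 1))) (by ring)).trans (h.trans (dvd_of_eq (by push_cast; ring)))
    have hd := Int.dvd_of_mul_dvd_mul_right (mul_ne_zero hP (by omega)) h'
    rw [← hq] at hd
    exact (split_prime hr hr2 hrq (by omega) hd).imp id fun h => Or.inl ⟨⟨e, he⟩, h⟩
  · have hab := Lie.OrthSpectrumOdd.aniso_one hζ
    rw [← isoCard_congr e he, order_qfMinus m hab] at h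
    simp only [hq] at h
    have h' : (r : ℤ) * ((∏ i ∈ Finset.range m, (q ^ (2 * (i + 1)) - 1)) * (q ^ (m + 1) + 1)) ∣
        (2 * (∏ i : Fin (2 * (m + 1)), q ^ (i : ℕ)) * (∏ i ∈ Finset.range (m + 1), (q ^ (2 * i + 1) - 1)) *
          (q ^ (m + 1) - 1)) * ((∏ i ∈ Finset.range m, (q ^ (2 * (i + 1)) - 1)) * (q ^ (m + 1) + 1)) :=
      (Dvd.intro (2 * q ^ (m * (m + 1))) (by ring)).trans (h.trans (dvd_of_eq (by push_cast; ring)))
    have hd := Int.dvd_of_mul_dvd_mul_right (mul_ne_zero hP (by omega)) h'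
    rw [← hq] at hd
    exact (split_prime hr hr2 hrq (by omega) hd).imp id fun h => Or.inr ⟨ζ, hab, e, he, h⟩

/-- An element none of whose conjugates is a similitude. -/
theorem no_sim {ι : Type} [Fintype ι] [DecidableEq ι] (Q : QuadraticForm F (Fin n → F))
    (hQ : (QuadraticMap.polarBilin Q).Nondegenerate) (e : Fin n ≃ ι) {r : ℕ} (X : Matrix ι ι F) (hdet : X.det = 1)
    {z : F} (hX : X ^ r = z • 1) (hns : ∀ w : F, X ≠ w • 1)
    (key : ∀ (Q' : QuadraticForm F (ι → F)) (c : F), (QuadraticMap.polarBilin Q').Nondegenerate → c ≠ 0 →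
      c ^ r = z * z → (∀ v, Q' (X *ᵥ v) = c * Q' v) →
      (∃ E : (ι → F) ≃ₗ[F] (Fin n → F), ∀ v, Q (E v) = Q' v) → False)
    (H : ∀ x ∈ Geo.specialLinear (Fin n) F,
      (∃ z : F, ((x ^ r : GL (Fin n) F) : Matrix (Fin n) (Fin n) F) = z • (1 : Matrix (Fin n) (Fin n) F)) →
      (∀ z : F, (x : Matrix (Fin n) (Fin n) F) ≠ z • (1 : Matrix (Fin n) (Fin n) F)) →
      ∃ g ∈ Geo.specialLinear (Fin n) F, g⁻¹ * x * g ∈ Geo.quadSimilarityGroup ⇑Q) : False := by
  classical
  let Φ : Matrix ι ι F ≃ₐ[F] Matrix (Fin n) (Fin n) F := Matrix.reindexAlgEquiv F F e.symm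
  obtain ⟨x, hxv⟩ : ∃ x : GL (Fin n) F, (x : Matrix (Fin n) (Fin n) F) = Φ X :=
    ⟨Matrix.GeneralLinearGroup.mkOfDetNeZero (Φ X) (by
      show (Matrix.reindexAlgEquiv F F e.symm X).det ≠ 0
      rw [Matrix.det_reindexAlgEquiv, hdet]; exact one_ne_zero), rfl⟩
  obtain ⟨g, -, ⟨c, hc⟩⟩ := H x (by
      show Matrix.GeneralLinearGroup.det x = 1
      refine Units.ext ?_
      show (x : Matrix (Fin n) (Fin n) F).det = 1
      rw [hxv]
      show (Matrix.reindexAlgEquiv F F e.symm X).det = 1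
      rw [Matrix.det_reindexAlgEquiv, hdet])
    ⟨z, by rw [Units.val_pow_eq_pow_val, hxv, ← map_pow, hX, map_smul, map_one]⟩
    (fun w hw => hns w (Φ.injective (by rw [← hxv, hw, map_smul, map_one])))
  let T : (Fin n → F) ≃ₗ[F] (Fin n → F) := (Matrix.GeneralLinearGroup.toLin g⁻¹).toLinearEquiv
  have hT : ∀ v, T v = ((g⁻¹ : GL (Fin n) F) : Matrix (Fin n) (Fin n) F) *ᵥ v := fun v => rfl
  let E : (ι → F) ≃ₗ[F] (Fin n → F) := (LinearEquiv.funCongrLeft F F e).trans T
  have hE : ∀ w, E w = ((g⁻¹ : GL (Fin n) F) : Matrix (Fin n) (Fin n) F) *ᵥ (w ∘ e) := fun w => hT _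
  let Q' : QuadraticForm F (ι → F) := Q.comp (E : (ι → F) →ₗ[F] (Fin n → F))
  have hQ' : ∀ w, Q' w = Q (E w) := fun w => rfl
  have hiso : ∀ w, Q' (X *ᵥ w) = c * Q' w := fun w => by
    have e1 : (X *ᵥ w) ∘ e = (x : Matrix (Fin n) (Fin n) F) *ᵥ (w ∘ e) := by
      rw [hxv]
      show _ = (Matrix.reindex e.symm e.symm X) *ᵥ (w ∘ e)
      rw [Matrix.reindex_apply, submatrix_mulVec_equiv]
      simp [Function.comp_assoc]
    have e2 := hc (((g⁻¹ : GL (Fin n) F) : Matrix (Fin n) (Fin n) F) *ᵥ (w ∘ e))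
    rw [mulVec_mulVec, ← Units.val_mul, show g⁻¹ * x * g * g⁻¹ = g⁻¹ * x by group, Units.val_mul, ← mulVec_mulVec,
      ← e1, ← hE, ← hE] at e2
    exact e2
  have hn' : (QuadraticMap.polarBilin Q').Nondegenerate := nondegenerate_of_separatingLeft _ fun u hu =>
    E.map_eq_zero_iff.1 (hQ.1 (E u) fun v => by
      have h := hu (E.symm v)
      rw [QuadraticMap.polarBilin_apply_apply, QuadraticMap.polar, hQ', hQ', hQ', map_add, E.apply_symm_apply] at h
      rw [QuadraticMap.polarBilin_apply_apply, QuadraticMap.polar]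
      exact h)
  refine key Q' c hn' c.ne_zero ?_ hiso ⟨E, fun v => rfl⟩
  have hk : ∀ (k : ℕ) w, Q' ((X ^ k) *ᵥ w) = (c : F) ^ k * Q' w := fun k => by
    induction k with
    | zero => intro w; simp
    | succ k ih => intro w; rw [pow_succ, ← mulVec_mulVec, ih, hiso, pow_succ]; ring
  obtain ⟨w, hw⟩ : ∃ w, Q' w ≠ 0 := by
    by_contra hno
    push Not at hno
    obtain ⟨u, hu⟩ : ∃ u : ι → F, u ≠ 0 := by
      by_contra h
      push Not at h
      exact hns 0 (Matrix.ext_iff_mulVec.2 fun v => by rw [h v]; simp)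
    refine hu (hn'.1 u fun v => ?_)
    rw [QuadraticMap.polarBilin_apply_apply, QuadraticMap.polar, hno, hno, hno]; ring
  have h := hk r w
  rw [hX, smul_mulVec, one_mulVec, QuadraticMap.map_smul, smul_eq_mul] at h
  exact (mul_right_cancel₀ hw h).symm

theorem polar_iso {ι : Type} [Fintype ι] {Q' : QuadraticForm F (ι → F)} {X : Matrix ι ι F} {c : F}
    (h : ∀ v, Q' (X *ᵥ v) = c * Q' v) (u v : ι → F) :
    QuadraticMap.polarBilin Q' (X *ᵥ u) (X *ᵥ v) = c * QuadraticMap.polarBilin Q' u v := by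
  rw [QuadraticMap.polarBilin_apply_apply, QuadraticMap.polarBilin_apply_apply, QuadraticMap.polar,
    QuadraticMap.polar, ← mulVec_add, h, h, h]
  ring

/-- The multiplicities of a diagonal similitude. -/
theorem count_pair {ι : Type} [Fintype ι] [DecidableEq ι] [DecidableEq F] {Q' : QuadraticForm F (ι → F)}
    (hn : (QuadraticMap.polarBilin Q').Nondegenerate) (dg : ι → F) (hd : ∀ i, dg i ≠ 0) {c : F}
    (hiso : ∀ v, Q' (Matrix.diagonal dg *ᵥ v) = c * Q' v) {a : F} (ha : a ≠ 0) :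
    (Finset.univ.filter fun i => dg i = a).card = (Finset.univ.filter fun i => dg i = c / a).card := by
  classical
  have h := S5968.rank_pair hn (Matrix.diagonal dg) ((Matrix.isUnit_iff_isUnit_det _).2
    (by rw [det_diagonal]; exact isUnit_iff_ne_zero.2 (Finset.prod_ne_zero_iff.2 fun i _ => hd i)))
    (polar_iso hiso) ha
  have key : ∀ b : F, (Matrix.diagonal dg - b • 1).rank + (Finset.univ.filter fun i => dg i = b).card = Fintype.card ι := by
    intro b
    rw [smul_one_eq_diagonal, diagonal_sub, rank_diagonal, Fintype.card_subtype_compl, Fintype.card_subtype]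
    simp only [sub_eq_zero]
    exact Nat.sub_add_cancel (Finset.card_le_univ _)
  have h1 := key a
  have h2 := key (c / a)
  omega

theorem root_one {r : ℕ} (hr : r.Prime) (h1 : ¬ r ∣ Fintype.card F - 1) {a : F} (ha : a ^ r = 1) : a = 1 := by
  by_contra hne
  haveI : Fact r.Prime := ⟨hr⟩
  have : orderOf a = r := orderOf_eq_prime_iff.2 ⟨ha, hne⟩
  refine h1 (this ▸ orderOf_dvd_of_pow_eq_one (FiniteField.pow_card_sub_one_eq_one a ?_))
  rintro rfl
  rw [zero_pow hr.ne_zero] at ha
  exact zero_ne_one ha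

/-- No element of order `p` fixing a hyperplane is a similitude. -/
theorem witness_char (h2 : (2 : F) ≠ 0) (hn : 3 ≤ n) {r : ℕ} (hr : r.Prime) [CharP F r]
    (Q : QuadraticForm F (Fin n → F)) (hQ : (QuadraticMap.polarBilin Q).Nondegenerate)
    (H : ∀ x ∈ Geo.specialLinear (Fin n) F,
      (∃ z : F, ((x ^ r : GL (Fin n) F) : Matrix (Fin n) (Fin n) F) = z • (1 : Matrix (Fin n) (Fin n) F)) →
      (∀ z : F, (x : Matrix (Fin n) (Fin n) F) ≠ z • (1 : Matrix (Fin n) (Fin n) F)) →
      ∃ g ∈ Geo.specialLinear (Fin n) F, g⁻¹ * x * g ∈ Geo.quadSimilarityGroup ⇑Q) : False := by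
  classical
  haveI : Fact r.Prime := ⟨hr⟩
  let i : Fin n := ⟨0, by omega⟩
  let j : Fin n := ⟨1, by omega⟩
  have hij : i ≠ j := by simp [i, j]
  have hpow : ∀ k : ℕ, (Matrix.transvection i j (1 : F)) ^ k = Matrix.transvection i j (k : F) := fun k => by
    induction k with
    | zero => simp
    | succ k ih => rw [pow_succ, ih, Matrix.transvection_mul_transvection_same i j hij, Nat.cast_succ]
  refine no_sim Q hQ (Equiv.refl _) (Matrix.transvection i j (1 : F)) (Matrix.det_transvection_of_ne i j hij 1) (z := 1)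
    (by rw [hpow, CharP.cast_eq_zero, Matrix.transvection_zero, one_smul]) (fun w hw => ?_) ?_ H
  · have h := congrFun (congrFun hw i) j
    simp [Matrix.transvection, hij] at h
  intro Q' c hn' hc0 hcr hiso _
  have hc1 : c = 1 := by
    have h := sub_pow_char c 1 (p := r)
    rw [hcr, one_pow, mul_one, sub_self] at h
    exact sub_eq_zero.1 (pow_eq_zero_iff hr.ne_zero |>.1 h)
  subst hc1
  set e₁ : Fin n → F := Pi.single i 1
  set e₂ : Fin n → F := Pi.single j 1
  have hX : ∀ v, Matrix.transvection i j (1 : F) *ᵥ v = v + v j • e₁ := fun v => by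
    rw [Matrix.transvection, add_mulVec, one_mulVec]
    congr 1
    funext l
    by_cases hl : l = i
    · subst hl; simp [e₁, Matrix.single, mulVec, dotProduct]
    · simp [e₁, Matrix.single, mulVec, dotProduct, hl, Ne.symm hl]
  have hE : ∀ v, v j * QuadraticMap.polarBilin Q' v e₁ + v j * v j * Q' e₁ = 0 := fun v => by
    have h := hiso v
    rw [hX, QuadraticMap.map_add ⇑Q' v (v j • e₁), QuadraticMap.map_smul, smul_eq_mul, one_mul] at h
    rw [QuadraticMap.polar_smul_right, smul_eq_mul] at h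
    rw [QuadraticMap.polarBilin_apply_apply]
    linear_combination h
  have hlin : ∀ v, QuadraticMap.polarBilin Q' v e₁ + v j * Q' e₁ = 0 := fun v => by
    by_cases hv : v j = 0
    · have h1 := hE (e₂ + v)
      have h0 := hE e₂
      simp [e₂, hv, map_add] at h1 h0
      simp [hv]
      linear_combination h1 - h0
    · exact mul_left_cancel₀ hv (by linear_combination hE v)
  have h1 := hlin e₁
  rw [QuadraticMap.polarBilin_apply_apply, QuadraticMap.polar_self] at h1
  simp [e₁, hij, hij.symm, h2] at h1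
  have h0 : e₁ = 0 := hn'.1 e₁ fun v => by
    have h := hlin v
    rw [h1, mul_zero, add_zero, QuadraticMap.polarBilin_apply_apply, QuadraticMap.polar_comm] at h
    rw [QuadraticMap.polarBilin_apply_apply]; exact h
  simpa [e₁] using congrFun h0 i

/-- A split witness. -/
theorem witness_split (hn : 3 ≤ n) {r : ℕ} (hr : r.Prime) (hr2 : r ≠ 2) (hrq1 : r ∣ Fintype.card F - 1)
    (hgap : ¬ (n = 6 ∧ r = 3)) (hex : ¬ ((r = 3 ∨ r = 5) ∧ n = r))
    (Q : QuadraticForm F (Fin n → F)) (hQ : (QuadraticMap.polarBilin Q).Nondegenerate)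
    (H : ∀ x ∈ Geo.specialLinear (Fin n) F,
      (∃ z : F, ((x ^ r : GL (Fin n) F) : Matrix (Fin n) (Fin n) F) = z • (1 : Matrix (Fin n) (Fin n) F)) →
      (∀ z : F, (x : Matrix (Fin n) (Fin n) F) ≠ z • (1 : Matrix (Fin n) (Fin n) F)) →
      ∃ g ∈ Geo.specialLinear (Fin n) F, g⁻¹ * x * g ∈ Geo.quadSimilarityGroup ⇑Q) : False := by
  classical
  haveI : Fact r.Prime := ⟨hr⟩
  obtain ⟨u, hu⟩ := exists_prime_orderOf_dvd_card' (G := Fˣ) r
    (by rw [Nat.card_units, Nat.card_eq_fintype_card]; exact hrq1)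
  set l : F := (u : F) with hl
  have hlr : l ^ r = 1 := by rw [hl, ← Units.val_pow_eq_pow_val, ← hu, pow_orderOf_eq_one, Units.val_one]
  have hlu : ∀ t : ℕ, l ^ t = 1 → r ∣ t := fun t ht => hu ▸ orderOf_dvd_of_pow_eq_one
    (Units.ext (by rw [Units.val_pow_eq_pow_val, Units.val_one]; exact ht))
  have hl0 : l ≠ 0 := u.ne_zero
  have hr3 : 3 ≤ r := by have := hr.two_le; omega
  have hsmall : ∀ t : ℕ, l ^ t = 1 → t < r → t = 0 := fun t ht htr =>
    Nat.eq_zero_of_dvd_of_lt (hlu t ht) htr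
  have hl1 : l ≠ 1 := fun h => by have := hsmall 1 (by rw [pow_one, h]) (by omega); omega
  have hl2 : l ^ 2 ≠ 1 := fun h => by have := hsmall 2 h (by omega); omega
  set m : F := (l ^ 2)⁻¹ with hm
  have hm2 : m * l ^ 2 = 1 := inv_mul_cancel₀ (pow_ne_zero 2 hl0)
  have hm0 : m ≠ 0 := inv_ne_zero (pow_ne_zero 2 hl0)
  have hm1 : m ≠ 1 := fun h => hl2 (inv_eq_one.1 h)
  obtain ⟨k, rfl⟩ : ∃ k, n = 3 + k := ⟨n - 3, by omega⟩
  let dg : Fin 3 ⊕ Fin k → F := Sum.elim ![l, l, m] 1
  refine no_sim Q hQ finSumFinEquiv.symm (Matrix.diagonal dg) ?_ (z := 1) ?_ (fun w hw => ?_) ?_ H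
  · rw [det_diagonal, Fintype.prod_sum_type, Fin.prod_univ_three]
    simp [dg, hm]
    field_simp
  · rw [one_smul, diagonal_pow, ← diagonal_one]
    congr 1
    funext i
    rcases i with i | i
    · fin_cases i <;> simp [dg, hm, hlr, inv_pow, ← pow_mul, mul_comm 2 r]
      rw [pow_mul, hlr, one_pow]
    · simp [dg]
  · by_cases hml : m = l
    · have h3 : r = 3 := (Nat.prime_dvd_prime_iff_eq hr Nat.prime_three).1
        (hlu 3 (by rw [pow_succ]; nth_rw 2 [← hml]; rw [mul_comm, hm2]))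
      rcases Nat.eq_zero_or_pos k with hk | hk
      · exact hex ⟨Or.inl h3, by omega⟩
      · have e1 := congrFun (congrFun hw (Sum.inr ⟨0, hk⟩)) (Sum.inr ⟨0, hk⟩)
        have e2 := congrFun (congrFun hw (Sum.inl 0)) (Sum.inl 0)
        simp [dg] at e1 e2
        exact hl1 (e2.trans e1.symm)
    · have e1 := congrFun (congrFun hw (Sum.inl 2)) (Sum.inl 2)
      have e2 := congrFun (congrFun hw (Sum.inl 0)) (Sum.inl 0)
      simp [dg] at e1 e2
      exact hml (e1.trans e2.symm)
  intro Q' c hn' hc0 hcr hiso _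
  have hd : ∀ i, dg i ≠ 0 := by
    rintro (i | i)
    · fin_cases i <;> simp [dg, hl0, hm0]
    · simp [dg]
  let cnt : F → ℕ := fun a => (if l = a then 2 else 0) + (if m = a then 1 else 0) + (if 1 = a then k else 0)
  have hcnt : ∀ a : F, (Finset.univ.filter fun i => dg i = a).card = cnt a := fun a => by
    rw [Finset.card_filter, Fintype.sum_sum_type, Fin.sum_univ_three]
    simp only [dg, Sum.elim_inl, Sum.elim_inr, Pi.one_apply, cnt, Finset.sum_const, Finset.card_univ, Fintype.card_fin,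
      Matrix.cons_val_zero, Matrix.cons_val_one, Matrix.cons_val, smul_eq_mul, mul_ite, mul_one, mul_zero]
    by_cases a1 : l = a <;> by_cases a2 : m = a <;> by_cases a3 : (1 : F) = a <;> simp [a1, a2, a3]
  have pair : ∀ a : F, a ≠ 0 → cnt a = cnt (c / a) := fun a ha => by
    rw [← hcnt, ← hcnt]; exact count_pair hn' dg hd hiso ha
  by_cases hml : m = l
  · have h3 : r = 3 := (Nat.prime_dvd_prime_iff_eq hr Nat.prime_three).1
      (hlu 3 (by rw [pow_succ]; nth_rw 2 [← hml]; rw [mul_comm, hm2]))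
    have hk3 : k ≠ 3 := fun h => hgap ⟨by omega, h3⟩
    have hk0 : k ≠ 0 := fun h => hex ⟨Or.inl h3, by omega⟩
    have h1 := pair 1 one_ne_zero
    have h2 := pair l hl0
    simp only [cnt, hml, div_one, if_pos, if_neg hl1, if_neg (Ne.symm hl1)] at h1 h2
    by_cases a : l = c
    · simp [← a, hl1, Ne.symm hl1] at h1
      omega
    · by_cases b : 1 = c
      · subst b
        have e1 : l ≠ l⁻¹ := fun e => hl2 (by
          rw [pow_two]; nth_rw 2 [e]; exact mul_inv_cancel₀ hl0)
        simp [e1, hl1] at h2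
      · simp [a, b] at h1
        omega
  · have hr5 : 5 ≤ r := by
      by_contra h
      have : r = 3 := by
        rcases (show r = 3 ∨ r = 4 by omega) with h' | h'
        · exact h'
        · exact absurd (h' ▸ hr) (by norm_num)
      exact hml (inv_eq_of_mul_eq_one_right (by rw [← pow_succ, show 2 + 1 = r by omega, hlr]))
    have h1 := pair l hl0
    have h2 := pair m hm0
    simp only [cnt, if_pos, if_neg hml, if_neg (Ne.symm hml), if_neg hl1, if_neg (Ne.symm hl1), if_neg hm1,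
      if_neg (Ne.symm hm1), add_zero, zero_add] at h1 h2
    by_cases a : l = c / l
    · have hcl : c = l * l := by rw [eq_div_iff hl0] at a; exact a.symm
      by_cases b : l = c / m
      · have e : l ^ 3 = 1 → False := fun e => by have := hsmall 3 e (by omega); omega
        rw [eq_div_iff hm0, hcl] at b
        exact hml (mul_left_cancel₀ hl0 b)
      · by_cases b' : m = c / m
        · rw [eq_div_iff hm0, hcl] at b'
          have e6 : l ^ 6 = 1 := by
            linear_combination -(l ^ 4) * b' + (m * l ^ 2 + 1) * hm2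
          have := Nat.le_of_dvd (by norm_num) (hlu 6 e6)
          rcases (show r = 5 ∨ r = 6 by omega) with h' | h'
          · subst h'; exact absurd (hlu 6 e6) (by norm_num)
          · exact absurd (h' ▸ hr) (by norm_num)
        · simp [b, b'] at h2
          have hb : (1 : F) = c / m := by
            by_contra hb
            rw [if_neg hb] at h2
            omega
          rw [eq_div_iff hm0, one_mul, hcl] at hb
          have e4 : l ^ 4 = 1 := by linear_combination hm2 - (l ^ 2) * hb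
          have := hsmall 4 e4 (by omega)
          omega
    · have a' : m ≠ c / l → 1 = c / l ∧ k = 2 := fun h => by
        simp [a, h] at h1
        by_cases e : (1 : F) = c / l
        · rw [if_pos e] at h1; exact ⟨e, h1.symm⟩
        · rw [if_neg e] at h1; omega
      by_cases b : m = c / l
      · simp [a, b.symm, hm1, Ne.symm hm1, hml] at h1
        first | omega | exact absurd h1 (by simp [Ne.symm hml])
      · obtain ⟨hb, hk2⟩ := a' b
        rw [eq_div_iff hl0, one_mul] at hb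
        subst hb
        by_cases b' : m = l / m
        · rw [eq_div_iff hm0] at b'
          have e5 : l ^ 5 = 1 := by linear_combination -(l ^ 4) * b' + (m * l ^ 2 + 1) * hm2
          exact hex ⟨Or.inr ((Nat.prime_dvd_prime_iff_eq hr Nat.prime_five).1 (hlu 5 e5)),
            by have := (Nat.prime_dvd_prime_iff_eq hr Nat.prime_five).1 (hlu 5 e5); omega⟩
        · simp [b', hk2] at h2
          by_cases b'' : l = l / m
          · exact hm1 (by rw [eq_div_iff hm0] at b''; exact mul_left_cancel₀ hl0 (by rw [b'', mul_one]))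
          · simp [b''] at h2
            by_cases b3 : (1 : F) = l / m
            · rw [if_pos b3] at h2; omega
            · rw [if_neg b3] at h2; omega

/-- A witness from a larger power of the prime in `q - 1`. -/
theorem witness_level {r : ℕ} (hr : r.Prime) (hr2 : r ≠ 2) (hnr : n = r) (hrq2 : r * r ∣ Fintype.card F - 1)
    (Q : QuadraticForm F (Fin n → F)) (hQ : (QuadraticMap.polarBilin Q).Nondegenerate)
    (H : ∀ x ∈ Geo.specialLinear (Fin n) F,
      (∃ z : F, ((x ^ r : GL (Fin n) F) : Matrix (Fin n) (Fin n) F) = z • (1 : Matrix (Fin n) (Fin n) F)) →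
      (∀ z : F, (x : Matrix (Fin n) (Fin n) F) ≠ z • (1 : Matrix (Fin n) (Fin n) F)) →
      ∃ g ∈ Geo.specialLinear (Fin n) F, g⁻¹ * x * g ∈ Geo.quadSimilarityGroup ⇑Q) : False := by
  classical
  subst hnr
  have hr3 : 3 ≤ n := by have := hr.two_le; omega
  obtain ⟨g, hg⟩ := IsCyclic.exists_generator (α := Fˣ)
  have hog : orderOf g = Fintype.card F - 1 := by
    rw [orderOf_eq_card_of_forall_mem_zpowers hg, Nat.card_units, Nat.card_eq_fintype_card]
  obtain ⟨t, ht⟩ := hrq2
  set u := g ^ t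
  have hu : orderOf u = n * n := by
    have h0 : Fintype.card F - 1 ≠ 0 := by have := Fintype.one_lt_card (α := F); omega
    have ht0 : t ≠ 0 := fun h => h0 (by rw [ht, h, mul_zero])
    rw [orderOf_pow' _ ht0, hog, ht, Nat.gcd_mul_left_left, Nat.mul_div_cancel _ (Nat.pos_of_ne_zero ht0)]
  set a : F := (u : F)
  have ha0 : a ≠ 0 := u.ne_zero
  have hau : ∀ s : ℕ, a ^ s = 1 → n * n ∣ s := fun s hs => hu ▸ orderOf_dvd_of_pow_eq_one
    (Units.ext (by rw [Units.val_pow_eq_pow_val, Units.val_one]; exact hs))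
  have han : a ^ (n * n) = 1 := by
    rw [← hu, ← Units.val_pow_eq_pow_val, pow_orderOf_eq_one, Units.val_one]
  set w : F := (a ^ n)⁻¹
  have hw0 : w ≠ 0 := inv_ne_zero (pow_ne_zero _ ha0)
  have hw1 : w ≠ 1 := fun h => by
    have := Nat.le_of_dvd (by omega) (hau n (inv_eq_one.1 h))
    nlinarith
  have hwn : w ^ n = 1 := by rw [inv_pow, ← pow_mul, han, inv_one]
  have hwa : a * w ≠ a := fun h => hw1 (mul_left_cancel₀ ha0 (by rw [h, mul_one]))
  let i₀ : Fin n := ⟨0, by omega⟩
  let dg : Fin n → F := fun i => if i = i₀ then a * w else a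
  refine no_sim Q hQ (Equiv.refl _) (Matrix.diagonal dg) ?_ (z := a ^ n) ?_ (fun z hz => ?_) ?_ H
  · rw [det_diagonal, ← Finset.mul_prod_erase Finset.univ dg (Finset.mem_univ i₀),
      Finset.prod_congr rfl (fun i hi => show dg i = a by simp [dg, (Finset.mem_erase.1 hi).1]), Finset.prod_const,
      Finset.card_erase_of_mem (Finset.mem_univ i₀), Finset.card_univ, Fintype.card_fin]
    simp only [dg, if_pos]
    rw [mul_right_comm, ← pow_succ', show n - 1 + 1 = n by omega, mul_inv_cancel₀ (pow_ne_zero _ ha0)]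
  · rw [diagonal_pow, smul_one_eq_diagonal]
    congr 1
    funext i
    simp only [Pi.pow_apply, dg]
    split_ifs
    · rw [mul_pow, hwn, mul_one]
    · rfl
  · have e1 := congrFun (congrFun hz i₀) i₀
    have e2 := congrFun (congrFun hz ⟨1, by omega⟩) ⟨1, by omega⟩
    simp [dg, i₀] at e1 e2
    exact hwa (e1.trans e2.symm)
  intro Q' c hn' hc0 hcr hiso _
  have hd : ∀ i, dg i ≠ 0 := fun i => by by_cases h : i = i₀ <;> simp [dg, h, ha0, hw0]
  let cnt : F → ℕ := fun b => (if a * w = b then 1 else 0) + (if a = b then n - 1 else 0)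
  have hcnt : ∀ b : F, (Finset.univ.filter fun i => dg i = b).card = cnt b := fun b => by
    rw [Finset.card_filter, ← Finset.add_sum_erase Finset.univ _ (Finset.mem_univ i₀),
      Finset.sum_congr rfl (fun i hi => show (if dg i = b then 1 else 0) = (if a = b then 1 else 0) by
        simp [dg, (Finset.mem_erase.1 hi).1]), Finset.sum_const, Finset.card_erase_of_mem (Finset.mem_univ i₀),
      Finset.card_univ, Fintype.card_fin]
    simp [dg, cnt]
  have pair : ∀ b : F, b ≠ 0 → cnt b = cnt (c / b) := fun b hb => by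
    rw [← hcnt, ← hcnt]; exact count_pair hn' dg hd hiso hb
  have h1 := pair a ha0
  have h2 := pair (a * w) (mul_ne_zero ha0 hw0)
  simp only [cnt, if_pos, if_neg hwa, if_neg hwa.symm, zero_add, add_zero] at h1 h2
  by_cases p1 : a * w = c / a
  · simp [← p1, hwa.symm] at h1
    omega
  by_cases p2 : a = c / a
  · have hcc : c = a * a := ((eq_div_iff ha0).1 p2).symm
    by_cases p3 : a * w = c / (a * w)
    · rw [eq_div_iff (mul_ne_zero ha0 hw0), hcc] at p3
      have hw2 : w ^ 2 = 1 := mul_left_cancel₀ (mul_ne_zero ha0 ha0) (by linear_combination p3)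
      refine hw1 ?_
      obtain ⟨s, hs⟩ := hr.odd_of_ne_two hr2
      rw [hs, pow_add, pow_mul, hw2, one_pow, one_mul, pow_one] at hwn
      exact hwn
    · by_cases p4 : a = c / (a * w)
      · simp [← p4, hwa] at h2; omega
      · simp [p3, p4] at h2
  · simp [p1, p2] at h1
    omega

theorem aeval_fromBlocks {α β : Type*} [Fintype α] [DecidableEq α] [Fintype β] [DecidableEq β] (A : Matrix α α F)
    (B : Matrix β β F) (P : Polynomial F) : Polynomial.aeval (fromBlocks A 0 0 B) P =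
      fromBlocks (Polynomial.aeval A P) 0 0 (Polynomial.aeval B P) := by
  induction P using Polynomial.induction_on' with
  | add p q hp hq => rw [map_add, map_add, map_add, hp, hq, fromBlocks_add]; simp
  | monomial k a =>
    have hk : fromBlocks A 0 0 B ^ k = fromBlocks (A ^ k) 0 0 (B ^ k) := by
      induction k with
      | zero => simp [fromBlocks_one]
      | succ k ih => rw [pow_succ, ih, fromBlocks_multiply, pow_succ, pow_succ]; simp
    rw [Polynomial.aeval_monomial, Polynomial.aeval_monomial, Polynomial.aeval_monomial, hk, ← Algebra.smul_def,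
      ← Algebra.smul_def, ← Algebra.smul_def, fromBlocks_smul, smul_zero, smul_zero]

/-- An odd degree torus witness. -/
theorem witness_torus {p : ℕ} [Fact p.Prime] [CharP F p] {r : ℕ} (hr : r.Prime) (hr2 : r ≠ 2)
    (h1 : ¬ r ∣ Fintype.card F - 1) {j : ℕ} (hj : Odd j) (hjn : j ≤ n) (hrj : r ∣ Fintype.card F ^ j - 1)
    (Q : QuadraticForm F (Fin n → F)) (hQ : (QuadraticMap.polarBilin Q).Nondegenerate)
    (H : ∀ x ∈ Geo.specialLinear (Fin n) F,
      (∃ z : F, ((x ^ r : GL (Fin n) F) : Matrix (Fin n) (Fin n) F) = z • (1 : Matrix (Fin n) (Fin n) F)) →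
      (∀ z : F, (x : Matrix (Fin n) (Fin n) F) ≠ z • (1 : Matrix (Fin n) (Fin n) F)) →
      ∃ g ∈ Geo.specialLinear (Fin n) F, g⁻¹ * x * g ∈ Geo.quadSimilarityGroup ⇑Q) : False := by
  classical
  haveI : Fact r.Prime := ⟨hr⟩
  obtain ⟨k, rfl⟩ : ∃ k, n = j + k := ⟨n - j, by omega⟩
  haveI : NeZero j := ⟨hj.pos.ne'⟩
  let K := FiniteField.Extension F p j
  have hK : finrank F K = j := FiniteField.finrank_extension F p j
  letI : Fintype K := Fintype.ofFinite K
  have hcK : Fintype.card K = Fintype.card F ^ j := by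
    rw [← Nat.card_eq_fintype_card, Module.natCard_eq_pow_finrank (K := F), Nat.card_eq_fintype_card, hK]
  obtain ⟨u, hu⟩ := exists_prime_orderOf_dvd_card' (G := Kˣ) r
    (by rw [Nat.card_units, Nat.card_eq_fintype_card, hcK]; exact hrj)
  have hu1 : (u : K) ≠ 1 := fun h => by rw [Units.val_eq_one.1 h, orderOf_one] at hu; exact hr.ne_one hu.symm
  have hur : (u : K) ^ r = 1 := by rw [← Units.val_pow_eq_pow_val, ← hu, pow_orderOf_eq_one, Units.val_one]
  let φ : K →ₐ[F] Matrix (Fin j) (Fin j) F := Algebra.leftMulMatrix (Module.finBasisOfFinrankEq F K hK)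
  have hφ : Function.Injective φ := Algebra.leftMulMatrix_injective _
  set M := φ (u : K)
  set Mi := φ ((u⁻¹ : Kˣ) : K)
  let X : Matrix (Fin j ⊕ Fin k) (Fin j ⊕ Fin k) F := fromBlocks M 0 0 1
  let Xi : Matrix (Fin j ⊕ Fin k) (Fin j ⊕ Fin k) F := fromBlocks Mi 0 0 1
  have hXX : X * Xi = 1 := by
    rw [fromBlocks_multiply, ← map_mul, Units.mul_inv, map_one]
    simp [fromBlocks_one]
  have hMr : M ^ r = 1 := by rw [← map_pow, hur, map_one]
  refine no_sim Q hQ finSumFinEquiv.symm X ?_ (z := 1) ?_ (fun w hw => ?_) ?_ H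
  · rw [det_fromBlocks_zero₂₁, det_one, mul_one]
    exact root_one hr h1 (by rw [← det_pow, hMr, det_one])
  · have hp : ∀ t : ℕ, X ^ t = fromBlocks (M ^ t) 0 0 1 := fun t => by
      induction t with
      | zero => simp [fromBlocks_one]
      | succ t ih => rw [pow_succ, ih, fromBlocks_multiply, pow_succ]; simp
    rw [hp, hMr, fromBlocks_one, one_smul]
  · have h0 : fromBlocks (w • (1 : Matrix (Fin j) (Fin j) F)) 0 0 (w • (1 : Matrix (Fin k) (Fin k) F)) = w • 1 := by
      rw [← fromBlocks_one, fromBlocks_smul, smul_zero, smul_zero]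
    rw [← h0] at hw
    have hM : M = φ (algebraMap F K w) := by
      rw [AlgHom.commutes, Algebra.algebraMap_eq_smul_one]; exact (fromBlocks_inj.1 hw).1
    have e := hφ hM
    refine hu1 ?_
    rw [e, root_one hr h1 (a := w) ((algebraMap F K).injective (by rw [map_pow, map_one, ← e, hur])), map_one]
  intro Q' c hn' hc0 hcr hiso _
  have hc1 : c = 1 := root_one hr h1 (by rw [hcr, one_mul])
  subst hc1
  set B := QuadraticMap.polarBilin Q'
  have hB : ∀ a b, B (X *ᵥ a) b = B a (Xi *ᵥ b) := fun a b => by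
    have h := polar_iso hiso a (Xi *ᵥ b)
    rw [mulVec_mulVec, hXX, one_mulVec, one_mul] at h
    exact h
  have hBk : ∀ (t : ℕ) a b, B ((X ^ t) *ᵥ a) b = B a ((Xi ^ t) *ᵥ b) := fun t => by
    induction t with
    | zero => intro a b; simp
    | succ t ih => intro a b; rw [pow_succ, ← mulVec_mulVec, ih, hB, mulVec_mulVec, ← pow_succ']
  have hBP : ∀ (P : Polynomial F) a b, B (Polynomial.aeval X P *ᵥ a) b = B a (Polynomial.aeval Xi P *ᵥ b) := fun P => by
    induction P using Polynomial.induction_on' with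
    | add p q hp hq => intro a b; simp only [map_add, add_mulVec, LinearMap.add_apply, hp, hq]
    | monomial t s =>
      intro a b
      rw [Polynomial.aeval_monomial, Polynomial.aeval_monomial, ← Algebra.smul_def, ← Algebra.smul_def, smul_mulVec,
        smul_mulVec, map_smul, map_smul, LinearMap.smul_apply, hBk]
  set P : Polynomial F := (Polynomial.X - Polynomial.C 1) * minpoly F (u : K)
  have hP1 : ∀ {α : Type} [Fintype α] [DecidableEq α], Polynomial.aeval (1 : Matrix α α F) P = 0 := fun {α} _ _ => by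
    rw [map_mul, map_sub, Polynomial.aeval_X, Polynomial.aeval_C, map_one, sub_self, zero_mul]
  have hPX : Polynomial.aeval X P = 0 := by
    rw [aeval_fromBlocks, hP1, Polynomial.aeval_algHom_apply, map_mul, minpoly.aeval, mul_zero, map_zero, fromBlocks_zero]
  have hPXi : Polynomial.aeval Xi P = 0 := Matrix.ext_iff_mulVec.2 fun b => by
    rw [zero_mulVec]
    refine hn'.2 _ fun a => ?_
    rw [← hBP, hPX, zero_mulVec, map_zero, LinearMap.zero_apply]
  have hroot : Polynomial.aeval ((u⁻¹ : Kˣ) : K) (minpoly F (u : K)) = 0 := by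
    rw [aeval_fromBlocks, hP1, Polynomial.aeval_algHom_apply, ← fromBlocks_zero] at hPXi
    have h := hφ ((fromBlocks_inj.1 hPXi).1.trans (map_zero φ).symm)
    rw [map_mul, map_sub, Polynomial.aeval_X, Polynomial.aeval_C, map_one] at h
    refine (mul_eq_zero.1 h).resolve_left fun h0 => hu1 ?_
    rw [Units.val_eq_one.2 (inv_eq_one.1 (Units.val_eq_one.1 (sub_eq_zero.1 h0)))]
  obtain ⟨σ, hσ⟩ := minpoly.exists_algEquiv_of_root' (K := F) (L := K)
    (Algebra.IsAlgebraic.isAlgebraic (u : K)) hroot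
  have hσ2 : σ (σ (u : K)) = (u : K) := by
    rw [hσ, Units.val_inv_eq_inv_val, map_inv₀, hσ, Units.val_inv_eq_inv_val, inv_inv]
  have hσj : ∀ t : ℕ, (σ ^ (2 * t)) (u : K) = (u : K) := fun t => by
    induction t with
    | zero => simp
    | succ t ih => rw [Nat.mul_succ, pow_add, AlgEquiv.mul_apply, pow_two, AlgEquiv.mul_apply, hσ2, ih]
  have hcard : Nat.card (K ≃ₐ[F] K) = j := by rw [IsGalois.card_aut_eq_finrank, hK]
  obtain ⟨s, hs⟩ := hj
  have hfix : σ (u : K) = (u : K) := by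
    have h := hσj (s + 1)
    rw [show 2 * (s + 1) = Nat.card (K ≃ₐ[F] K) + 1 by omega, pow_succ, AlgEquiv.mul_apply, pow_card_eq_one',
      AlgEquiv.one_apply] at h
    exact h
  rw [hfix] at hσ
  have hsq : (u : K) ^ 2 = 1 := by
    rw [pow_two]; nth_rw 2 [hσ]; exact u.mul_inv
  refine hu1 ?_
  obtain ⟨s', hs'⟩ := hr.odd_of_ne_two hr2
  rw [hs', pow_add, pow_mul, hsq, one_pow, one_mul, pow_one] at hur
  exact hur

/-- A fixed-point-free witness for the other type. -/
theorem witness_fpf {p : ℕ} [Fact p.Prime] [CharP F p] {r : ℕ} [Fact r.Prime] (hr2 : r ≠ 2)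
    (h1 : ¬ r ∣ Fintype.card F - 1) {m : ℕ}
    (Q : QuadraticForm F (Fin (2 * (m + 1)) → F)) (hQ : (QuadraticMap.polarBilin Q).Nondegenerate)
    (hcase : ((∃ e : (Fin (m + 1) ⊕ Fin (m + 1) → F) ≃ₗ[F] (Fin (2 * (m + 1)) → F), ∀ v, Q (e v) = qfPlus (m + 1) F v) ∧
        (r : ℤ) ∣ (Fintype.card F : ℤ) ^ (m + 1) + 1) ∨
      (∃ (ζ : F) (_ : ∀ z₁ z₂ : F, z₁ ^ 2 + 1 * z₁ * z₂ + ζ * z₂ ^ 2 = 0 → z₁ = 0 ∧ z₂ = 0)
        (e : ((Fin m ⊕ Fin m) ⊕ Fin 2 → F) ≃ₗ[F] (Fin (2 * (m + 1)) → F)), (∀ v, Q (e v) = qfMinus m F 1 ζ v) ∧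
        (r : ℤ) ∣ (Fintype.card F : ℤ) ^ (m + 1) - 1))
    (H : ∀ x ∈ Geo.specialLinear (Fin (2 * (m + 1))) F,
      (∃ z : F, ((x ^ r : GL (Fin (2 * (m + 1))) F) : Matrix (Fin (2 * (m + 1))) (Fin (2 * (m + 1))) F) =
        z • (1 : Matrix (Fin (2 * (m + 1))) (Fin (2 * (m + 1))) F)) →
      (∀ z : F, (x : Matrix (Fin (2 * (m + 1))) (Fin (2 * (m + 1))) F) ≠ z • (1 : Matrix (Fin (2 * (m + 1))) (Fin (2 * (m + 1))) F)) →
      ∃ g ∈ Geo.specialLinear (Fin (2 * (m + 1))) F, g⁻¹ * x * g ∈ Geo.quadSimilarityGroup ⇑Q) : False := by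
  classical
  have hr : r.Prime := Fact.out
  have hdiv : r ∣ Fintype.card F ^ (2 * (m + 1)) - 1 := to_nat (by
    rw [show 2 * (m + 1) = (m + 1) + (m + 1) by ring, pow_add,
      show (Fintype.card F : ℤ) ^ (m + 1) * (Fintype.card F : ℤ) ^ (m + 1) - 1 =
        ((Fintype.card F : ℤ) ^ (m + 1) + 1) * ((Fintype.card F : ℤ) ^ (m + 1) - 1) by ring]
    rcases hcase with ⟨-, h⟩ | ⟨ζ, hζ, e, -, h⟩
    · exact h.mul_right _
    · exact h.mul_left _)
  obtain ⟨M, Mi, hMM, hMr, -, hM1, -⟩ :=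
    NonsingularPointDerange.exists_fpf_mat (F := F) p (2 * (m + 1)) (by omega) hdiv
  have hfix : ∀ v, M *ᵥ v = v → v = 0 := fun v hv => by
    obtain ⟨U, hU⟩ := hM1
    have h : (M - 1) *ᵥ v = 0 := by rw [sub_mulVec, one_mulVec, hv, sub_self]
    rw [← hU] at h
    have h2 := congrArg (fun w => ((U⁻¹ : (Matrix (Fin (2 * (m + 1))) (Fin (2 * (m + 1))) F)ˣ) :
      Matrix (Fin (2 * (m + 1))) (Fin (2 * (m + 1))) F) *ᵥ w) h
    simpa [mulVec_mulVec] using h2
  refine no_sim Q hQ (Equiv.refl _) M (root_one hr h1 (by rw [← det_pow, hMr, det_one])) (z := 1)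
    (by rw [hMr, one_smul]) (fun w hw => ?_) ?_ H
  · have hne : (Pi.single 0 1 : Fin (2 * (m + 1)) → F) ≠ 0 := by simp
    refine hne (hfix _ ?_)
    have hw1 : w = 1 := root_one hr h1 (by
      have h := hMr
      rw [hw, smul_pow, one_pow] at h
      simpa using congrFun (congrFun h 0) 0)
    rw [hw, hw1, one_smul, one_mulVec]
  intro Q' c hn' hc0 hcr hiso ⟨E, hE⟩
  have hc1 : c = 1 := root_one hr h1 (by rw [hcr, one_mul])
  subst hc1
  simp only [one_mul] at hiso
  set Z := {v // Q' v = 0}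
  haveI := Fintype.ofFinite Z
  have hbij : Function.Bijective fun v => M *ᵥ v := by
    refine Finite.injective_iff_bijective.1 fun a b hab => ?_
    have h := congrArg (fun w => Mi *ᵥ w) hab
    simpa [mulVec_mulVec, mul_eq_one_comm.1 hMM] using h
  let π : Equiv.Perm (Fin (2 * (m + 1)) → F) := Equiv.ofBijective _ hbij
  let σ : Equiv.Perm Z := π.subtypeEquiv fun v => by
    show Q' v = 0 ↔ Q' (M *ᵥ v) = 0
    rw [hiso]
  have hσ : ∀ (k : ℕ) (z : Z), (((σ ^ k) z : Z) : Fin (2 * (m + 1)) → F) = (M ^ k) *ᵥ (z : Fin (2 * (m + 1)) → F) := fun k => by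
    induction k with
    | zero => intro z; simp
    | succ k ih => intro z; rw [pow_succ', Equiv.Perm.mul_apply, pow_succ', ← mulVec_mulVec, ← ih z]; rfl
  have hmod := Equiv.Perm.card_compl_support_modEq (p := r) (n := 1) (σ := σ)
    (Equiv.ext fun z => Subtype.ext (by rw [pow_one, hσ, hMr, one_mulVec]; rfl))
  have hsupp : σ.supportᶜ = {⟨0, QuadraticMap.map_zero _⟩} := by
    ext z
    rw [Finset.mem_compl, Equiv.Perm.notMem_support, Finset.mem_singleton, Subtype.ext_iff, Subtype.ext_iff]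
    show M *ᵥ (z : Fin (2 * (m + 1)) → F) = z ↔ (z : Fin (2 * (m + 1)) → F) = 0
    exact ⟨hfix _, fun h => by rw [h, mulVec_zero]⟩
  rw [hsupp, Finset.card_singleton, ← Nat.card_eq_fintype_card, ← ZMod.natCast_eq_natCast_iff] at hmod
  have hfin : ∀ {q₀ : ZMod r}, (2 : ZMod r) * (q₀ - 1) = 0 → (Fintype.card F : ZMod r) = q₀ → False := fun {q₀} h2q hq₀ => by
    rcases mul_eq_zero.1 h2q with h | h
    · exact hr2 ((Nat.prime_dvd_prime_iff_eq hr Nat.prime_two).1 ((ZMod.natCast_eq_zero_iff 2 r).1 (by exact_mod_cast h)))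
    · refine h1 ((ZMod.natCast_eq_zero_iff _ r).1 ?_)
      rw [Nat.cast_sub Fintype.card_pos, hq₀, Nat.cast_one]; exact h
  rcases hcase with ⟨⟨e, he⟩, hd⟩ | ⟨ζ, hζ, e, he, hd⟩
  · have hZ : Nat.card Z = Nat.card {v // qfPlus (m + 1) F v = 0} :=
      Nat.card_congr ((E.trans e.symm).toEquiv.subtypeEquiv fun v => by
        show Q' v = 0 ↔ qfPlus (m + 1) F (e.symm (E v)) = 0
        rw [← he, LinearEquiv.apply_symm_apply, hE])
    rw [hZ] at hmod
    have hz := congrArg (Int.cast : ℤ → ZMod r) (zeros_qfPlus (F := F) (m + 1))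
    push_cast at hz
    rw [← hmod, Nat.cast_one, one_mul] at hz
    have hqn := (ZMod.intCast_zmod_eq_zero_iff_dvd _ r).2 hd
    push_cast at hqn
    refine hfin (q₀ := (Fintype.card F : ZMod r)) ?_ rfl
    linear_combination hz + ((Fintype.card F : ZMod r) ^ (m + 1) + (Fintype.card F : ZMod r) - 2) * hqn
  · have hZ : Nat.card Z = Nat.card {v // qfMinus m F 1 ζ v = 0} :=
      Nat.card_congr ((E.trans e.symm).toEquiv.subtypeEquiv fun v => by
        show Q' v = 0 ↔ qfMinus m F 1 ζ (e.symm (E v)) = 0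
        rw [← he, LinearEquiv.apply_symm_apply, hE])
    rw [hZ] at hmod
    have hz := congrArg (Int.cast : ℤ → ZMod r) (zeros_qfMinus (F := F) m hζ)
    push_cast at hz
    rw [← hmod, Nat.cast_one] at hz
    have hqn := (ZMod.intCast_zmod_eq_zero_iff_dvd _ r).2 hd
    push_cast at hqn
    refine hfin (q₀ := (Fintype.card F : ZMod r)) ?_ rfl
    linear_combination (Fintype.card F : ZMod r) * hz + ((Fintype.card F : ZMod r) ^ (m + 1) + 2 - (Fintype.card F : ZMod r)) * hqn

theorem sym3 : ∀ k : Fin 3 → ZMod 3, ∑ i, k i = 0 →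
    ∃ t, ∀ a, (Finset.univ.filter fun i => k i = a).card = (Finset.univ.filter fun i => k i = t - a).card := by
  decide

theorem sym5_aux : ∀ a b c : ZMod 5, ∃ t : ZMod 5, ∀ x,
    List.count x [0, a, b, c, -(a + b + c)] = List.count (t - x) [0, a, b, c, -(a + b + c)] := by
  decide +kernel

theorem sym5 (k : Fin 5 → ZMod 5) (h : ∑ i, k i = 0) :
    ∃ t, ∀ a, (Finset.univ.filter fun i => k i = a).card = (Finset.univ.filter fun i => k i = t - a).card := by
  obtain ⟨t, ht⟩ := sym5_aux (k 1 - k 0) (k 2 - k 0) (k 3 - k 0)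
  have key : ∀ x, (Finset.univ.filter fun i => k i = x + k 0).card =
      List.count x [0, k 1 - k 0, k 2 - k 0, k 3 - k 0, -((k 1 - k 0) + (k 2 - k 0) + (k 3 - k 0))] := fun x => by
    rw [Fin.sum_univ_five] at h
    have h5 : (5 : ZMod 5) = 0 := rfl
    have h4 : -((k 1 - k 0) + (k 2 - k 0) + (k 3 - k 0)) = k 4 - k 0 := by
      linear_combination -h + (k 0) * h5
    rw [h4, Finset.card_filter, Fin.sum_univ_five]
    simp only [List.count_cons, List.count_nil, beq_iff_eq, sub_eq_iff_eq_add, eq_comm (a := (0 : ZMod 5)),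
      left_eq_add, right_eq_add]
    ring
  refine ⟨t + k 0 + k 0, fun a => ?_⟩
  have h1 := key (a - k 0)
  have h2 := key (t - (a - k 0))
  rw [sub_add_cancel] at h1
  rw [show t - (a - k 0) + k 0 = t + k 0 + k 0 - a by ring] at h2
  rw [h1, h2]; exact ht _

/-- An involution realising symmetric multiplicities. -/
theorem exists_pairing {A : Type*} [AddCommGroup A] [DecidableEq A] [Fintype A] {n : ℕ} (hn : Odd n) (k : Fin n → A) (t : A)
    (h : ∀ a, (Finset.univ.filter fun i => k i = a).card = (Finset.univ.filter fun i => k i = t - a).card) :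
    ∃ σ : Equiv.Perm (Fin n), (∀ i, σ (σ i) = i) ∧ (∃ i₀, σ i₀ = i₀) ∧ ∀ i, k (σ i) = t - k i := by
  classical
  let N : A → ℕ := fun a => Fintype.card {i // k i = a}
  have hN : ∀ a, N a = N (t - a) := fun a => by
    simp only [N, Fintype.card_subtype]; exact h a
  let e : Fin n ≃ Σ a, Fin (N a) := (Equiv.sigmaFiberEquiv k).symm.trans (Equiv.sigmaCongrRight fun a => Fintype.equivFin _)
  have he : ∀ i, (e i).1 = k i := fun i => rfl
  let f : (Σ a, Fin (N a)) → Σ a, Fin (N a) := fun x => ⟨t - x.1, Fin.cast (hN x.1) x.2⟩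
  have hext : ∀ x y : Σ a, Fin (N a), x.1 = y.1 → (x.2 : ℕ) = (y.2 : ℕ) → x = y := by
    rintro ⟨a, i⟩ ⟨b, j⟩ hab hij
    cases hab
    exact congrArg _ (Fin.ext hij)
  have hf : Function.Involutive f := fun x => hext _ _ (sub_sub_cancel t x.1) rfl
  let σ : Equiv.Perm (Fin n) := (e.trans (hf.toPerm f)).trans e.symm
  have hσ : ∀ i, σ (σ i) = i := fun i => by simp [σ, hf (e i)]
  refine ⟨σ, hσ, ?_, fun i => ?_⟩
  · by_contra hno
    push Not at hno
    have h2 : σ ^ 2 ^ 1 = 1 := Equiv.ext fun i => by simp [pow_two, hσ]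
    have hmod := Equiv.Perm.card_compl_support_modEq (p := 2) (n := 1) h2
    rw [show σ.supportᶜ = ∅ by ext i; simp [hno i], Finset.card_empty, Fintype.card_fin] at hmod
    obtain ⟨s, hs⟩ := hn
    have := hmod.symm.dvd_iff (dvd_refl 2)
    omega
  · rw [← he, ← he]; simp [σ, f]


/-- Elements of prime order of PSL_n(q), q odd, and the subgroups of orthogonal type. Here `T = PSL_n(F)` for a field `F` with `q` elements, `q` odd, `n ≥ 3`; `Q` is a non-degenerate quadratic form on `F^n` (of either type when `n` is even) and `H` is the subgroup of matrices of determinant 1 that preserve `Q` up to a scalar — a subgroup of type O^ε_n(q) (maximality is not assumed); Ω is the set of cosets of `H` in `T`, so an element of `T` of prime order `r` (a matrix `x` of determinant 1 with `x^r` scalar, `x` not scalar) fixes a point of Ω exactly when some conjugate of `x` by a matrix of determinant 1 preserves `Q` up to a scalar. Let `r` be a prime dividing the index of `H`, with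 `(n, r) ≠ (6, 3)`. Then every element of `T` of order `r` fixes a point of Ω if and only if `r = 2`, or `r ∈ {3, 5}`, `n = r` and `(q − 1)_r = r` (the `r`-part of `q − 1` is exactly `r`). The case `(n, r) = (6, 3)` is not covered by this statement. -/
theorem result {F : Type*} [Field F] [Fintype F] {p : ℕ} [Fact p.Prime] [CharP F p] {q : ℕ} (hq : Fintype.card F = q)
    (hodd : Odd q) (n : ℕ) (hn : 3 ≤ n) (Q : (Fin n → F) → F) (hQ : Cfsg.Geo.IsNondegenerateQuadraticForm Q)
    (r : ℕ) [Fact r.Prime] (hgap : ¬ (n = 6 ∧ r = 3))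
    (hΩ : r ∣ (Cfsg.Geo.quadSimilarityGroup Q).relIndex (Cfsg.Geo.specialLinear (Fin n) F)) :
    (∀ x ∈ Cfsg.Geo.specialLinear (Fin n) F, (∃ z : F, ((x ^ r : GL (Fin n) F) : Matrix (Fin n) (Fin n) F) = z • (1 : Matrix (Fin n) (Fin n) F)) →
      (∀ z : F, (x : Matrix (Fin n) (Fin n) F) ≠ z • (1 : Matrix (Fin n) (Fin n) F)) →
      ∃ g ∈ Cfsg.Geo.specialLinear (Fin n) F, g⁻¹ * x * g ∈ Cfsg.Geo.quadSimilarityGroup Q) ↔
    (r = 2 ∨ ((r = 3 ∨ r = 5) ∧ n = r ∧ padicValNat r (q - 1) = 1)) := by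

  classical
  subst hq
  obtain ⟨Q, rfl, hQn⟩ := AschEven.exists_qf hQ
  have hr : r.Prime := Fact.out
  have h2 : (2 : F) ≠ 0 := Ring.two_ne_zero fun h => by
    have := FiniteField.even_card_iff_char_two.1 h
    obtain ⟨s, hs⟩ := hodd
    omega
  have hdet1 : ∀ x : GL (Fin n) F, x ∈ Geo.specialLinear (Fin n) F → (x : Matrix (Fin n) (Fin n) F).det = 1 :=
    fun x hx => congrArg Units.val (show Matrix.GeneralLinearGroup.det x = 1 from hx)
  constructor
  · intro H
    by_cases hr2 : r = 2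
    · exact Or.inl hr2
    right
    by_cases hrF : (r : F) = 0
    · haveI : CharP F r := (CharP.charP_iff_prime_eq_zero hr).2 hrF
      exact (witness_char h2 hn hr Q hQn H).elim
    by_cases h1 : r ∣ Fintype.card F - 1
    · by_cases hex : (r = 3 ∨ r = 5) ∧ n = r
      · refine ⟨hex.1, hex.2, ?_⟩
        have h0 : Fintype.card F - 1 ≠ 0 := by have := Fintype.one_lt_card (α := F); omega
        by_contra hv
        have hv1 : 1 ≤ padicValNat r (Fintype.card F - 1) := one_le_padicValNat_of_dvd h0 h1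
        refine witness_level hr hr2 hex.2 ?_ Q hQn H
        rw [← pow_two]
        exact (padicValNat_dvd_iff_le h0).2 (by omega)
      · exact (witness_split hn hr hr2 h1 hgap hex Q hQn H).elim
    exfalso
    have hrq : ¬ r ∣ Fintype.card F := fun hd => by
      obtain ⟨e, hp, hF⟩ := FiniteField.card F p
      rw [hF] at hd
      obtain rfl := (Nat.prime_dvd_prime_iff_eq hr hp).1 (hr.dvd_of_dvd_pow hd)
      exact hrF (CharP.cast_eq_zero F r)
    rcases Nat.even_or_odd' n with ⟨m, rfl | rfl⟩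
    · obtain ⟨m, rfl⟩ : ∃ s, m = s + 1 := ⟨m - 1, by omega⟩
      rcases index_even_dim hr hr2 hrq Q hQn hΩ with ⟨j, hj, hjn, hrj⟩ | h
      · exact witness_torus (p := p) hr hr2 h1 hj hjn hrj Q hQn H
      · exact witness_fpf (p := p) hr2 h1 Q hQn h H
    · obtain ⟨j, hj, hjn, hrj⟩ := index_odd_dim h2 hr hr2 hrq Q hQn hΩ
      exact witness_torus (p := p) hr hr2 h1 hj hjn hrj Q hQn H
  · intro hR x hx ⟨z, hz⟩ hns
    have hd := hdet1 x hx
    rw [Units.val_pow_eq_pow_val] at hz
    rcases hR with rfl | ⟨hr35, hnr, hv⟩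
    · rw [pow_two] at hz
      have hz0 : z ≠ 0 := fun h0 => by
        have h := congrArg Matrix.det hz
        haveI : Nonempty (Fin n) := ⟨⟨0, by omega⟩⟩
        rw [det_mul, hd, h0, zero_smul, det_zero] at h
        simp at h
      by_cases hsq : IsSquare z
      swap
      · exact OrthSimilitudeDerange.conj_nonsquare h2 Q hQn (by omega) x hsq hz
      obtain ⟨s, rfl⟩ := hsq
      have hpow : (x : Matrix (Fin n) (Fin n) F) ^ Fintype.card F = (x : Matrix (Fin n) (Fin n) F) := by
        obtain ⟨t, ht⟩ := hodd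
        have hs1 : (s * s) ^ t = 1 := by
          rw [← pow_two, ← pow_mul, show 2 * t = Fintype.card F - 1 by omega,
            FiniteField.pow_card_sub_one_eq_one s (fun h => hz0 (by rw [h, zero_mul]))]
        rw [ht, pow_succ, pow_mul, pow_two, hz, smul_pow, one_pow, hs1, one_smul, one_mul]
      obtain ⟨lam, P, hP⟩ := OrthSimilitudeDerange.exists_eigencoords (x : Matrix (Fin n) (Fin n) F) hpow
      refine OrthSimilitudeDerange.conj_diag h2 Q hQn x P lam hP (Equiv.refl _) (fun i => rfl) ⟨0, by omega⟩ rfl hz0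
        fun i => ?_
      have h := congrArg (fun M => M *ᵥ P (Pi.single i 1)) hz
      simp only [← mulVec_mulVec, hP, smul_mulVec, one_mulVec] at h
      rw [← map_smul, P.injective.eq_iff, mulVec_mulVec, diagonal_mul_diagonal] at h
      simpa using congrFun h i
    · subst hnr
      have hr2 : n ≠ 2 := by omega
      have h0 : Fintype.card F - 1 ≠ 0 := by have := Fintype.one_lt_card (α := F); omega
      have hdvd : n ∣ Fintype.card F - 1 := dvd_of_one_le_padicValNat (by omega)
      have hzn : z ^ n = 1 := by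
        have h := congrArg Matrix.det hz
        rw [det_pow, hd, one_pow, det_smul, det_one, mul_one, Fintype.card_fin] at h
        exact h.symm
      have hz1 : z = 1 := by
        by_contra hne
        have hno : ∀ b : F, b ^ n ≠ z := fun b hb => by
          have hb1 : ¬ b ^ n ^ 1 = 1 := by rw [pow_one, hb]; exact hne
          have hb2 : b ^ n ^ (1 + 1) = 1 := by rw [pow_succ, pow_one, pow_mul, hb, hzn]
          have ho := orderOf_eq_prime_pow hb1 hb2
          have hb0 : b ≠ 0 := fun h => by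
            rw [h, zero_pow hr.ne_zero] at hb
            rw [← hb, zero_pow hr.ne_zero] at hzn
            exact zero_ne_one hzn
          have hdd : n ^ (1 + 1) ∣ Fintype.card F - 1 := ho ▸ orderOf_dvd_of_pow_eq_one (FiniteField.pow_card_sub_one_eq_one b hb0)
          have := (padicValNat_dvd_iff_le h0).1 hdd
          omega
        have hirr := X_pow_sub_C_irreducible_of_prime hr hno
        have hmon := Polynomial.monic_X_pow_sub_C z hr.ne_zero
        have hmin : minpoly F (x : Matrix (Fin n) (Fin n) F) = Polynomial.X ^ n - Polynomial.C z :=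
          haveI : Nonempty (Fin n) := ⟨⟨0, hr.pos⟩⟩
          (minpoly.eq_of_irreducible_of_monic hirr (by simp [hz, Algebra.algebraMap_eq_smul_one]) hmon).symm
        have hchar : (x : Matrix (Fin n) (Fin n) F).charpoly = Polynomial.X ^ n - Polynomial.C z :=
          Polynomial.eq_of_monic_of_dvd_of_natDegree_le hmon (Matrix.charpoly_monic _)
            (hmin ▸ Matrix.minpoly_dvd_charpoly _)
            (by rw [Matrix.charpoly_natDegree_eq_dim, Fintype.card_fin, Polynomial.natDegree_X_pow_sub_C])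
        have h := Matrix.det_eq_sign_charpoly_coeff (x : Matrix (Fin n) (Fin n) F)
        rw [hd, hchar, Fintype.card_fin, (hr.odd_of_ne_two hr2).neg_one_pow, Polynomial.coeff_sub,
          Polynomial.coeff_X_pow, if_neg hr.ne_zero.symm, Polynomial.coeff_C_zero] at h
        exact hne (by linear_combination -h)
      subst hz1
      rw [one_smul] at hz
      have hpow : (x : Matrix (Fin n) (Fin n) F) ^ Fintype.card F = (x : Matrix (Fin n) (Fin n) F) := by
        obtain ⟨t, ht⟩ := hdvd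
        rw [show Fintype.card F = n * t + 1 by omega, pow_succ, pow_mul, hz, one_pow, one_mul]
      obtain ⟨lam, P, hP⟩ := OrthSimilitudeDerange.exists_eigencoords (x : Matrix (Fin n) (Fin n) F) hpow
      have hxk : ∀ (t : ℕ) w, ((x : Matrix (Fin n) (Fin n) F) ^ t) *ᵥ P w = P ((Matrix.diagonal lam ^ t) *ᵥ w) := fun t => by
        induction t with
        | zero => intro w; simp
        | succ t ih => intro w; rw [pow_succ, ← mulVec_mulVec, hP, ih, mulVec_mulVec, ← pow_succ]
      have hlam : ∀ i, lam i ^ n = 1 := fun i => by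
        have h := hxk n (Pi.single i 1)
        rw [hz, one_mulVec, P.injective.eq_iff, diagonal_pow] at h
        simpa using (congrFun h i).symm
      have hprodlam : ∏ i, lam i = 1 := by
        rw [← det_diagonal, ← LinearMap.det_toLin', ← hd, ← LinearMap.det_toLin' (x : Matrix (Fin n) (Fin n) F),
          ← LinearMap.det_conj (Matrix.toLin' (Matrix.diagonal lam)) P]
        congr 1
        refine LinearMap.ext fun v => ?_
        simp only [LinearMap.comp_apply, LinearEquiv.coe_coe, Matrix.toLin'_apply]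
        rw [← hP, LinearEquiv.apply_symm_apply]
      obtain ⟨u, hu⟩ := exists_prime_orderOf_dvd_card' (G := Fˣ) n
        (by rw [Nat.card_units, Nat.card_eq_fintype_card]; exact hdvd)
      set w : F := (u : F)
      have hw : IsPrimitiveRoot w n := by
        have h := IsPrimitiveRoot.orderOf u
        rw [hu] at h
        exact IsPrimitiveRoot.coe_units_iff.2 h
      haveI : NeZero n := ⟨hr.ne_zero⟩
      choose ki hki hkw using fun i => hw.eq_pow_of_pow_eq_one (hlam i)
      let k : Fin n → ZMod n := fun i => (ki i : ZMod n)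
      have hk0 : ∑ i, k i = 0 := by
        have h : w ^ (∑ i, ki i) = 1 := by
          rw [← Finset.prod_pow_eq_pow_sum, Finset.prod_congr rfl fun i _ => hkw i, hprodlam]
        show ∑ i, (ki i : ZMod n) = 0
        rw [← Nat.cast_sum]
        exact (ZMod.natCast_eq_zero_iff _ n).2 ((hw.pow_eq_one_iff_dvd _).1 h)
      obtain ⟨t, ht⟩ : ∃ t, ∀ a, (Finset.univ.filter fun i => k i = a).card =
          (Finset.univ.filter fun i => k i = t - a).card := by
        rcases hr35 with rfl | rfl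
        · exact sym3 k hk0
        · exact sym5 k hk0
      obtain ⟨σ, hσ, ⟨i₀, h₀⟩, hσk⟩ := exists_pairing (hr.odd_of_ne_two hr2) k t ht
      refine OrthSimilitudeDerange.conj_diag h2 Q hQn x P lam hP σ hσ i₀ h₀ (c := w ^ t.val)
        (pow_ne_zero _ u.ne_zero) fun i => ?_
      have h := hσk i
      simp only [k] at h
      rw [← hkw i, ← hkw (σ i), ← pow_add, pow_eq_pow_mod (ki i + ki (σ i)) hw.pow_eq_one,
        pow_eq_pow_mod t.val hw.pow_eq_one]
      congr 1
      refine (ZMod.natCast_eq_natCast_iff' _ _ n).1 ?_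
      rw [Nat.cast_add, h, ZMod.natCast_zmod_val]
      ring

end Cfsg.Agent.S5981
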