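import Cfsg.Statements.S5970
import Cfsg.Agent.Lib.Classical.SingerNormalizerDerange
import Cfsg.Agent.S5981
-- import your own Cfsg.Agent.* helpers here

set_option autoImplicit false
open scoped MatrixGroups
open Cfsg Cfsg.Agent

namespace Cfsg.Agent.S5970
open Matrix Module Cfsg.Agent.SingerNormalizerDerange

variable {F : Type*} [Field F] [Fintype F] {n : ℕ}

theorem aeval_diagonal {ι : Type} [Fintype ι] [DecidableEq ι] (d : ι → F) (P : Polynomial F) :
    Polynomial.aeval (Matrix.diagonal d) P = Matrix.diagonal fun i => P.eval (d i) := by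
  induction P using Polynomial.induction_on' with
  | add p q hp hq => simp only [map_add, hp, hq, diagonal_add, Polynomial.eval_add]
  | monomial k a =>
    rw [Polynomial.aeval_monomial, ← Algebra.smul_def, diagonal_pow, ← diagonal_smul]
    simp only [Polynomial.eval_monomial]
    rfl

/-- A block and ones. -/
theorem witness_block {p : ℕ} [Fact p.Prime] [CharP F p] (hn : n.Prime) {K : Subalgebra F (Matrix (Fin n) (Fin n) F)}
    (hK : Geo.IsFieldSubalgebra n K) (h1 : ¬ n ∣ Fintype.card F - 1) {e : ℕ} (he0 : 0 < e) (he : e + 1 < n)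
    (hne : n ∣ Fintype.card F ^ e - 1)
    (H : ∀ x : Matrix.SpecialLinearGroup (Fin n) F,
      (∃ z : F, ((x ^ n : Matrix.SpecialLinearGroup (Fin n) F) : Matrix (Fin n) (Fin n) F) = z • (1 : Matrix (Fin n) (Fin n) F)) →
      (∀ z : F, (x : Matrix (Fin n) (Fin n) F) ≠ z • (1 : Matrix (Fin n) (Fin n) F)) →
      ∃ P : Matrix.SpecialLinearGroup (Fin n) F, P⁻¹ * x * P ∈ (Geo.subalgebraNormalizer K).comap
        (Matrix.SpecialLinearGroup.toGL : Matrix.SpecialLinearGroup (Fin n) F →* GL (Fin n) F)) : False := by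
  classical
  haveI : Fact n.Prime := ⟨hn⟩
  obtain ⟨k, hk⟩ : ∃ k, n = e + (k + 1) := ⟨n - e - 1, by omega⟩
  haveI : NeZero e := ⟨he0.ne'⟩
  let L := FiniteField.Extension F p e
  have hL : finrank F L = e := FiniteField.finrank_extension F p e
  letI : Fintype L := Fintype.ofFinite L
  have hcL : Fintype.card L = Fintype.card F ^ e := by
    rw [← Nat.card_eq_fintype_card, Module.natCard_eq_pow_finrank (K := F), Nat.card_eq_fintype_card, hL]
  obtain ⟨u, hu⟩ := exists_prime_orderOf_dvd_card' (G := Lˣ) n
    (by rw [Nat.card_units, Nat.card_eq_fintype_card, hcL]; exact hne)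
  have hu1 : (u : L) ≠ 1 := fun h => by rw [Units.val_eq_one.1 h, orderOf_one] at hu; exact hn.ne_one hu.symm
  have hur : (u : L) ^ n = 1 := by rw [← Units.val_pow_eq_pow_val, ← hu, pow_orderOf_eq_one, Units.val_one]
  let φ : L →ₐ[F] Matrix (Fin e) (Fin e) F := Algebra.leftMulMatrix (Module.finBasisOfFinrankEq F L hL)
  have hφ : Function.Injective φ := Algebra.leftMulMatrix_injective _
  set M := φ (u : L)
  let X : Matrix (Fin e ⊕ Fin (k + 1)) (Fin e ⊕ Fin (k + 1)) F := fromBlocks M 0 0 1
  have hMr : M ^ n = 1 := by rw [← map_pow, hur, map_one]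
  refine not_conj hn hK ((finCongr hk).trans finSumFinEquiv.symm) X ?_ (z := 1) ?_ (fun w hw => ?_)
    ((Polynomial.X - Polynomial.C 1) * minpoly F (u : L)) ?_ ?_ ?_ H
  · rw [det_fromBlocks_zero₂₁, det_one, mul_one]
    exact S5981.root_one hn h1 (by rw [← det_pow, hMr, det_one])
  · have hp : ∀ t : ℕ, X ^ t = fromBlocks (M ^ t) 0 0 1 := fun t => by
      induction t with
      | zero => simp [fromBlocks_one]
      | succ t ih => rw [pow_succ, ih, fromBlocks_multiply, pow_succ]; simp
    rw [hp, hMr, fromBlocks_one, one_smul]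
  · have h0 : fromBlocks (w • (1 : Matrix (Fin e) (Fin e) F)) 0 0 (w • (1 : Matrix (Fin (k + 1)) (Fin (k + 1)) F)) = w • 1 := by
      rw [← fromBlocks_one, fromBlocks_smul, smul_zero, smul_zero]
    rw [← h0] at hw
    have hM : M = φ (algebraMap F L w) := by
      rw [AlgHom.commutes, Algebra.algebraMap_eq_smul_one]; exact (fromBlocks_inj.1 hw).1
    have e := hφ hM
    refine hu1 ?_
    rw [e, S5981.root_one hn h1 (a := w) ((algebraMap F L).injective (by rw [map_pow, map_one, ← e, hur])), map_one]
  · exact mul_ne_zero (Polynomial.X_sub_C_ne_zero 1) (minpoly.ne_zero (Algebra.IsIntegral.isIntegral _))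
  · refine lt_of_le_of_lt (Polynomial.natDegree_mul_le) ?_
    rw [Polynomial.natDegree_X_sub_C]
    have := minpoly.natDegree_le (A := F) (u : L)
    omega
  · rw [S5981.aeval_fromBlocks, Polynomial.aeval_algHom_apply, map_mul, minpoly.aeval, mul_zero, map_zero, map_mul, map_sub,
      Polynomial.aeval_X, Polynomial.aeval_C, map_one, sub_self, zero_mul, fromBlocks_zero]

/-- An element of order `n` when `q` has order `n - 1`. -/
theorem full_degree (hn : n.Prime) (hn3 : 3 ≤ n) (hord : orderOf (Fintype.card F : ZMod n) = n - 1)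
    (x : Matrix (Fin n) (Fin n) F) (hx : x ^ n = 1) (hns : x ≠ 1) : n ≤ (minpoly F x).natDegree := by
  classical
  haveI : Fact n.Prime := ⟨hn⟩
  have hint : IsIntegral F x := Matrix.isIntegral x
  have hdvd : minpoly F x ∣ Polynomial.X ^ n - Polynomial.C 1 := minpoly.dvd F x (by simp [hx])
  have hnF : (n : F) ≠ 0 := fun h => by
    obtain ⟨p, hp⟩ := CharP.exists F
    haveI : Fact p.Prime := ⟨CharP.char_is_prime F p⟩
    obtain ⟨e, hpp, hF⟩ := FiniteField.card F p
    have hpn := (Nat.prime_dvd_prime_iff_eq hpp hn).1 ((CharP.cast_eq_zero_iff F p n).1 h)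
    rw [hF, hpn, Nat.cast_pow, ZMod.natCast_self, zero_pow e.ne_zero, orderOf_eq_zero (by
      rw [isOfFinOrder_iff_pow_eq_one]; rintro ⟨t, ht, h1⟩; rw [zero_pow ht.ne'] at h1; exact zero_ne_one h1)] at hord
    omega
  have hsep : (Polynomial.X ^ n - Polynomial.C (1 : F)).Separable := Polynomial.separable_X_pow_sub_C 1 hnF one_ne_zero
  have hsq : Squarefree (minpoly F x) := (hsep.of_dvd hdvd).squarefree
  -- an irreducible factor other than `X - 1`
  obtain ⟨g, hg, hgm, hgd, hg1⟩ : ∃ g : Polynomial F, Irreducible g ∧ g.Monic ∧ g ∣ minpoly F x ∧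
      g ≠ Polynomial.X - Polynomial.C 1 := by
    by_contra hno
    push Not at hno
    refine hns ?_
    by_cases h1 : minpoly F x = Polynomial.X - Polynomial.C 1
    · have h := minpoly.aeval F x
      rw [h1, map_sub, Polynomial.aeval_X, Polynomial.aeval_C, map_one] at h
      exact sub_eq_zero.1 h
    · exfalso
      obtain ⟨g, hgm, hgi, hgd⟩ := Polynomial.exists_monic_irreducible_factor (minpoly F x) (minpoly.not_isUnit F x)
      have hgX := hno g hgi hgm hgd
      obtain ⟨c, hc⟩ := hgd
      have hcu : ¬ IsUnit c := fun hu => h1 (by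
        rw [← hgX]
        exact (Polynomial.eq_of_monic_of_associated hgm (minpoly.monic hint) ⟨hu.unit, hc.symm⟩).symm)
      obtain ⟨g', hgm', hgi', hgd'⟩ := Polynomial.exists_monic_irreducible_factor c hcu
      have hg' := hno g' hgi' hgm' (hc ▸ hgd'.mul_left g)
      have : g * g ∣ minpoly F x := by rw [hc]; exact mul_dvd_mul_left g (by rw [hgX, ← hg']; exact hgd')
      exact hgi.not_isUnit (hsq g this)
  have hdeg : n - 1 ≤ g.natDegree := by
    haveI := Fact.mk hg
    let L := AdjoinRoot g
    have hL : finrank F L = g.natDegree := by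
      rw [(AdjoinRoot.powerBasis hg.ne_zero).finrank, AdjoinRoot.powerBasis_dim]
    haveI : FiniteDimensional F L := Module.finite_of_finrank_pos (by rw [hL]; exact hg.natDegree_pos)
    haveI : Finite L := Module.finite_of_finite F
    letI := Fintype.ofFinite L
    have hroot : (AdjoinRoot.root g) ^ n = (1 : L) := by
      have h := Polynomial.eval₂_eq_zero_of_dvd_of_eval₂_eq_zero (AdjoinRoot.of g) (AdjoinRoot.root g) (hgd.trans hdvd)
        (AdjoinRoot.eval₂_root g)
      simp only [Polynomial.eval₂_sub, Polynomial.eval₂_X_pow, Polynomial.eval₂_C, map_one, Polynomial.eval₂_one] at h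
      exact sub_eq_zero.1 h
    have hne1 : AdjoinRoot.root g ≠ (1 : L) := fun h => hg1 (by
      have h0 := AdjoinRoot.eval₂_root g
      rw [h, show (1 : L) = AdjoinRoot.of g 1 from (map_one _).symm, Polynomial.eval₂_at_apply, map_eq_zero] at h0
      exact (Polynomial.eq_of_monic_of_associated (Polynomial.monic_X_sub_C 1) hgm
        ((Polynomial.irreducible_X_sub_C (1 : F)).associated_of_dvd hg (Polynomial.dvd_iff_isRoot.2 h0))).symm)
    have ho : orderOf (AdjoinRoot.root g) = n := orderOf_eq_prime hroot hne1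
    have hne0 : AdjoinRoot.root g ≠ (0 : L) := fun h => by
      rw [h, zero_pow hn.ne_zero] at hroot; exact zero_ne_one hroot
    have hd := orderOf_dvd_of_pow_eq_one (FiniteField.pow_card_sub_one_eq_one _ hne0)
    rw [ho, ← Nat.card_eq_fintype_card, Module.natCard_eq_pow_finrank (K := F), Nat.card_eq_fintype_card, hL,
      ← ZMod.natCast_eq_zero_iff, Nat.cast_sub (Nat.one_le_pow _ _ Fintype.card_pos), Nat.cast_pow, sub_eq_zero,
      Nat.cast_one] at hd
    exact hord ▸ Nat.le_of_dvd hg.natDegree_pos (orderOf_dvd_of_pow_eq_one hd)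
  by_contra hlt
  push Not at hlt
  have hle := Polynomial.natDegree_le_of_dvd hgd (minpoly.ne_zero hint)
  have hgμ : minpoly F x = g := Polynomial.eq_of_monic_of_dvd_of_natDegree_le hgm (minpoly.monic hint) hgd (by omega)
  obtain ⟨c, hc⟩ := hgd.trans (Matrix.minpoly_dvd_charpoly x)
  have hcm : c.Monic := hgm.of_mul_monic_left (hc ▸ Matrix.charpoly_monic x)
  have hdc : c.natDegree = 1 := by
    have h := congrArg Polynomial.natDegree hc
    rw [Matrix.charpoly_natDegree_eq_dim, Fintype.card_fin, Polynomial.natDegree_mul hg.ne_zero hcm.ne_zero] at h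
    omega
  have hroot : x.charpoly.IsRoot (-c.coeff 0) := by
    rw [hc]
    refine Polynomial.root_mul.2 (Or.inr ?_)
    rw [Polynomial.IsRoot, hcm.eq_X_add_C hdc]
    simp
  rw [← GLSemisimpleClasses.charpoly_toLin', ← Module.End.hasEigenvalue_iff_isRoot_charpoly,
    Module.End.hasEigenvalue_iff_isRoot] at hroot
  have hm : minpoly F (Matrix.toLinAlgEquiv' x) = minpoly F x := minpoly.algEquiv_eq Matrix.toLinAlgEquiv' x
  rw [hm, hgμ] at hroot
  have ha := Polynomial.eq_of_monic_of_associated (Polynomial.monic_X_sub_C (-c.coeff 0)) hgm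
    ((Polynomial.irreducible_X_sub_C _).associated_of_dvd hg (Polynomial.dvd_iff_isRoot.2 hroot))
  rw [← ha, Polynomial.natDegree_X_sub_C] at hdeg
  omega


/-- Elements of order `n` of PSL_n(q), `n` prime, and the normalizer of a Singer cycle. Here `T = PSL_n(F)` for a field `F` with `q = p^f` elements (`n ≥ 2`, `(n, q) ≠ (2, 2), (2, 3)`), `k` is a prime dividing `n`, `K` is a subalgebra of the `n × n` matrices that is a field of degree `k` over `F` (an extension-field structure F_{q^k} on `F^n`), and `H` is the subgroup of matrices of determinant 1 normalizing `K` — a subgroup of type GL_{n/k}(q^k) (maximal except in some small cases; maximality is not assumed); Ω is the set of cosets of `H` in `T`, so an element of `T` of prime order `r` (a matrix `x` of determinant 1 with `x^r` scalar, `x` not scalar) fixes a point of Ω when some conjugate of `x` by a matrix of determinant 1 normalizes `K`. Take `k = n > 3` prime with `n ≠ p` (so `H` is the normalizer of a Singer cycle), and suppose `n` divides the index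 of `H`. Then every element of `T` of order `n` is conjugate in `T` into `H` if and only if the multiplicative order of `q` modulo `n` is `n − 1`. -/
theorem result {F : Type*} [Field F] [Fintype F] {p : ℕ} [Fact p.Prime] [CharP F p] {q : ℕ} (hq : Fintype.card F = q)
    (n : ℕ) (hn : 2 ≤ n) (hT : (n, q) ≠ (2, 2) ∧ (n, q) ≠ (2, 3))
    (k : ℕ) (hk : k.Prime) (hkn : k ∣ n) (K : Subalgebra F (Matrix (Fin n) (Fin n) F)) (hK : Cfsg.Geo.IsFieldSubalgebra k K) (hkn' : k = n) (hn3 : 3 < n) (hnp : n ≠ p) (hΩ : n ∣ ((Cfsg.Geo.subalgebraNormalizer K).comap (Matrix.SpecialLinearGroup.toGL : Matrix.SpecialLinearGroup (Fin n) F →* GL (Fin n) F)).index) :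
    (∀ x : Matrix.SpecialLinearGroup (Fin n) F,
      (∃ z : F, ((x ^ n : Matrix.SpecialLinearGroup (Fin n) F) : Matrix (Fin n) (Fin n) F) = z • (1 : Matrix (Fin n) (Fin n) F)) →
      (∀ z : F, (x : Matrix (Fin n) (Fin n) F) ≠ z • (1 : Matrix (Fin n) (Fin n) F)) →
      ∃ P : Matrix.SpecialLinearGroup (Fin n) F, P⁻¹ * x * P ∈ ((Cfsg.Geo.subalgebraNormalizer K).comap (Matrix.SpecialLinearGroup.toGL : Matrix.SpecialLinearGroup (Fin n) F →* GL (Fin n) F))) ↔
    orderOf (q : ZMod n) = n - 1 := by

  classical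
  subst hq
  subst hkn'
  haveI : Fact k.Prime := ⟨hk⟩
  have hkF : (k : F) ≠ 0 := fun h => hnp ((Nat.prime_dvd_prime_iff_eq Fact.out hk).1
    ((CharP.cast_eq_zero_iff F p k).1 h)).symm
  have hkq : ¬ k ∣ Fintype.card F := fun hd => by
    obtain ⟨e, hp, hF⟩ := FiniteField.card F p
    rw [hF] at hd
    exact hnp ((Nat.prime_dvd_prime_iff_eq hk hp).1 (hk.dvd_of_dvd_pow hd))
  have hq0 : (Fintype.card F : ZMod k) ≠ 0 := fun h => hkq ((ZMod.natCast_eq_zero_iff _ k).1 h)
  constructor
  · intro H
    by_cases h1 : k ∣ Fintype.card F - 1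
    · exfalso
      obtain ⟨u, hu⟩ := exists_prime_orderOf_dvd_card' (G := Fˣ) k
        (by rw [Nat.card_units, Nat.card_eq_fintype_card]; exact h1)
      set w : F := (u : F)
      have hwk : w ^ k = 1 := by rw [← Units.val_pow_eq_pow_val, ← hu, pow_orderOf_eq_one, Units.val_one]
      have hw1 : w ≠ 1 := fun h => by rw [Units.val_eq_one.1 h, orderOf_one] at hu; exact hk.ne_one hu.symm
      obtain ⟨j, hj⟩ : ∃ j, k = 2 + (j + 1) := ⟨k - 3, by omega⟩
      let dg : Fin 2 ⊕ Fin (j + 1) → F := Sum.elim ![w, w⁻¹] 1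
      refine not_conj hk hK ((finCongr hj).trans finSumFinEquiv.symm) (Matrix.diagonal dg) ?_ (z := 1) ?_ (fun c hc => ?_)
        ((Polynomial.X - Polynomial.C w) * (Polynomial.X - Polynomial.C w⁻¹) * (Polynomial.X - Polynomial.C 1))
        ?_ ?_ ?_ H
      · rw [det_diagonal, Fintype.prod_sum_type, Fin.prod_univ_two]
        simp [dg, w]
      · rw [one_smul, diagonal_pow, ← diagonal_one]
        congr 1
        funext i
        rcases i with i | i
        · fin_cases i <;> simp [dg, hwk]
        · simp [dg]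
      · have e1 := congrFun (congrFun hc (Sum.inl 0)) (Sum.inl 0)
        have e2 := congrFun (congrFun hc (Sum.inr 0)) (Sum.inr 0)
        simp [dg] at e1 e2
        exact hw1 (e1.trans e2.symm)
      · exact mul_ne_zero (mul_ne_zero (Polynomial.X_sub_C_ne_zero _) (Polynomial.X_sub_C_ne_zero _))
          (Polynomial.X_sub_C_ne_zero _)
      · rw [Polynomial.natDegree_mul (mul_ne_zero (Polynomial.X_sub_C_ne_zero _) (Polynomial.X_sub_C_ne_zero _))
          (Polynomial.X_sub_C_ne_zero _), Polynomial.natDegree_mul (Polynomial.X_sub_C_ne_zero _) (Polynomial.X_sub_C_ne_zero _),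
          Polynomial.natDegree_X_sub_C, Polynomial.natDegree_X_sub_C, Polynomial.natDegree_X_sub_C]
        omega
      · rw [aeval_diagonal, ← diagonal_zero]
        congr 1
        funext i
        rcases i with i | i
        · fin_cases i <;> simp [dg]
        · simp [dg]
    · by_contra hord
      have hdvd := ZMod.orderOf_dvd_card_sub_one hq0
      have he0 : 0 < orderOf (Fintype.card F : ZMod k) := Nat.pos_of_dvd_of_pos hdvd (by omega)
      have hle := Nat.le_of_dvd (by omega) hdvd
      refine witness_block (p := p) hk hK h1 he0 (by omega) ?_ H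
      rw [← ZMod.natCast_eq_zero_iff, Nat.cast_sub (Nat.one_le_pow _ _ Fintype.card_pos), Nat.cast_pow, pow_orderOf_eq_one,
        Nat.cast_one, sub_self]
  · intro hord x ⟨z, hz⟩ hns
    rw [Matrix.SpecialLinearGroup.coe_pow] at hz
    have h1 : ¬ k ∣ Fintype.card F - 1 := fun h => by
      have h' : (Fintype.card F : ZMod k) = 1 := by
        have := (ZMod.natCast_eq_zero_iff _ k).2 h
        rwa [Nat.cast_sub Fintype.card_pos, Nat.cast_one, sub_eq_zero] at this
      rw [h', orderOf_one] at hord
      omega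
    have hzn : z ^ k = 1 := by
      have h := congrArg Matrix.det hz
      rw [det_pow, x.2, one_pow, det_smul, det_one, mul_one, Fintype.card_fin] at h
      exact h.symm
    rw [S5981.root_one hk h1 hzn, one_smul] at hz
    refine conj_singer hk hK hkF x hz (full_degree hk (by omega) hord _ hz fun h => hns 1 ?_)
    rw [h, one_smul]

end Cfsg.Agent.S5970
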