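import Cfsg.Statements.S5971
import Cfsg.Agent.S5970
-- import your own Cfsg.Agent.* helpers here

set_option autoImplicit false
open scoped MatrixGroups
open Cfsg Cfsg.Agent

namespace Cfsg.Agent.S5971
open Matrix Module Cfsg.Agent.SingerNormalizerDerange

variable {F : Type*} [Field F] [Fintype F]

theorem index_bound {K : Subalgebra F (Matrix (Fin 3) (Fin 3) F)} (hK : Geo.IsFieldSubalgebra 3 K)
    (h3 : Fintype.card F % 3 = 2)
    (hΩ : 3 ∣ ((Geo.subalgebraNormalizer K).comap
      (Matrix.SpecialLinearGroup.toGL : Matrix.SpecialLinearGroup (Fin 3) F →* GL (Fin 3) F)).index) :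
    Fintype.card F % 9 = 8 := by
  classical
  set q := Fintype.card F with hq
  letI := fieldOf hK
  haveI : FiniteDimensional F K := Module.finite_of_finrank_pos (by rw [hK.finrank_eq]; norm_num)
  haveI : Finite K := Module.finite_of_finite F
  obtain ⟨v₀, E, hE⟩ := exists_coords (by norm_num) hK
  have hcK : Nat.card Kˣ = q ^ 3 - 1 := by
    rw [Nat.card_units, Module.natCard_eq_pow_finrank (K := F), hK.finrank_eq, Nat.card_eq_fintype_card]
  set S := ((Geo.subalgebraNormalizer K).comap
      (Matrix.SpecialLinearGroup.toGL : Matrix.SpecialLinearGroup (Fin 3) F →* GL (Fin 3) F))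
  let D : Kˣ →* F := (Matrix.detMonoidHom.comp (K.val : K →* Matrix (Fin 3) (Fin 3) F)).comp (Units.coeHom K)
  set L := D.toHomUnits.ker
  have hL : Nat.card Kˣ = (q - 1) * Nat.card L := by
    rw [← Subgroup.index_mul_card L, Subgroup.index_ker]
    congr 1
    have hsurj : D.toHomUnits.range = ⊤ := MonoidHom.range_eq_top.2 fun d => by
      obtain ⟨k, hk, hkd⟩ := exists_det (by norm_num) hK d.ne_zero
      have hk0 : (⟨k, hk⟩ : K) ≠ 0 := fun h => by
        have h' : k = 0 := congrArg Subtype.val h
        rw [h', det_zero] at hkd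
        exact d.ne_zero hkd.symm
      exact ⟨Units.mk0 ⟨k, hk⟩ hk0, Units.ext hkd⟩
    rw [hsurj, Subgroup.card_top, Nat.card_units, Nat.card_eq_fintype_card]
  -- the torus
  let ψ : L →* S :=
    { toFun := fun g => ⟨⟨((g : Kˣ) : K).1, congrArg Units.val (MonoidHom.mem_ker.1 g.2)⟩, by
        intro a
        set G := ((g : Kˣ) : K).1
        set u : GL (Fin 3) F := Matrix.SpecialLinearGroup.toGL ⟨G, congrArg Units.val (MonoidHom.mem_ker.1 g.2)⟩
        have hfw : ∀ b ∈ K, (u : Matrix (Fin 3) (Fin 3) F) * b * ((u⁻¹ : GL (Fin 3) F) : Matrix (Fin 3) (Fin 3) F) = b := by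
          intro b hb
          rw [show (u : Matrix (Fin 3) (Fin 3) F) * b = b * (u : Matrix (Fin 3) (Fin 3) F) from
            hK.comm G ((g : Kˣ) : K).2 b hb, mul_assoc, u.mul_inv, mul_one]
        refine ⟨fun ha => by rw [hfw a ha]; exact ha, fun h => ?_⟩
        have h2 := hfw _ h
        have h3 : (u : Matrix (Fin 3) (Fin 3) F) * a * ((u⁻¹ : GL (Fin 3) F) : Matrix (Fin 3) (Fin 3) F) = a := by
          have e := congrArg (fun m => ((u⁻¹ : GL (Fin 3) F) : Matrix (Fin 3) (Fin 3) F) * m * (u : Matrix (Fin 3) (Fin 3) F)) h2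
          simp [mul_assoc] at e
          simpa [mul_assoc] using e
        rwa [h3] at h⟩
      map_one' := Subtype.ext (Subtype.ext rfl)
      map_mul' := fun a b => Subtype.ext (Subtype.ext rfl) }
  have h1 : Nat.card L ∣ Nat.card S := Subgroup.card_dvd_of_injective ψ fun a b h =>
    Subtype.ext (Units.ext (Subtype.ext (congrArg (fun y : S => (y : Matrix.SpecialLinearGroup (Fin 3) F).1) h)))
  -- the Frobenius element
  obtain ⟨y, hy, hy3, hyns⟩ := exists_frob Nat.prime_three hK
  have hydet : (y : Matrix (Fin 3) (Fin 3) F).det = 1 := by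
    refine S5981.root_one Nat.prime_three (fun h => ?_) (by rw [← det_pow, ← Units.val_pow_eq_pow_val, hy3, Units.val_one, det_one])
    omega
  let ys : Matrix.SpecialLinearGroup (Fin 3) F := ⟨(y : Matrix (Fin 3) (Fin 3) F), hydet⟩
  have hys : ys ∈ S := by
    show Matrix.SpecialLinearGroup.toGL ys ∈ Geo.subalgebraNormalizer K
    rw [show Matrix.SpecialLinearGroup.toGL ys = y from Units.ext rfl]
    exact hy
  have h2 : 3 ∣ Nat.card S := by
    have hne : (⟨ys, hys⟩ : S) ≠ 1 := fun h => hyns 1 (by
      rw [one_smul]; exact congrArg (fun g : S => (g : Matrix.SpecialLinearGroup (Fin 3) F).1) h)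
    haveI : Fact (Nat.Prime 3) := ⟨Nat.prime_three⟩
    have ho : orderOf (⟨ys, hys⟩ : S) = 3 := orderOf_eq_prime (Subtype.ext (Subtype.ext (by
      rw [SubmonoidClass.coe_pow, Matrix.SpecialLinearGroup.coe_pow]
      show (y : Matrix (Fin 3) (Fin 3) F) ^ 3 = 1
      rw [← Units.val_pow_eq_pow_val, hy3, Units.val_one]))) hne
    exact (dvd_of_eq ho.symm).trans (orderOf_dvd_natCard (⟨ys, hys⟩ : S))
  have hq2 : 2 ≤ q := Fintype.one_lt_card
  have hL3 : ¬ 3 ∣ Nat.card L := fun h => by
    have h' : 3 ∣ q ^ 3 - 1 := by rw [← hcK, hL]; exact h.mul_left _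
    have hm : q ^ 3 % 3 = 2 := by rw [Nat.pow_mod, h3]
    omega
  have h4 : 3 * Nat.card L ∣ Nat.card S :=
    ((Nat.prime_three.coprime_iff_not_dvd).2 hL3).mul_dvd_of_dvd_of_dvd h2 h1
  have h5 : 9 * Nat.card L ∣ Nat.card (Matrix.SpecialLinearGroup (Fin 3) F) := by
    rw [← Subgroup.index_mul_card S, show 9 * Nat.card L = 3 * (3 * Nat.card L) by ring]
    exact mul_dvd_mul hΩ h4
  have h6 : Nat.card (GL (Fin 3) F) = Nat.card (Matrix.SpecialLinearGroup (Fin 3) F) * (q - 1) := by
    let Sg : Subgroup (GL (Fin 3) F) := (Matrix.GeneralLinearGroup.det : GL (Fin 3) F →* Fˣ).ker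
    rw [← Subgroup.index_mul_card Sg, mul_comm]
    congr 1
    · exact Nat.card_congr
        { toFun := fun g => ⟨(g.1 : Matrix (Fin 3) (Fin 3) F), congrArg Units.val (MonoidHom.mem_ker.1 g.2)⟩
          invFun := fun g => ⟨Matrix.SpecialLinearGroup.toGL g, MonoidHom.mem_ker.2 (Units.ext g.2)⟩
          left_inv := fun g => Subtype.ext (Units.ext rfl)
          right_inv := fun g => rfl }
    · rw [Subgroup.index_ker, MonoidHom.range_eq_top.2 fun u => ?_, Subgroup.card_top, Nat.card_units,
        Nat.card_eq_fintype_card]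
      have hd : (Matrix.diagonal (Function.update (1 : Fin 3 → F) 0 (u : F))).det = (u : F) := by
        rw [det_diagonal, Finset.prod_update_of_mem (Finset.mem_univ (0 : Fin 3))]; simp
      exact ⟨Matrix.GeneralLinearGroup.mkOfDetNeZero (Matrix.diagonal (Function.update (1 : Fin 3 → F) 0 (u : F)))
        (by rw [hd]; exact u.ne_zero), Units.ext hd⟩
  have h7 : (q ^ 3 - 1) * 9 ∣ (q ^ 3 - 1) * ((q ^ 3 - q) * (q ^ 3 - q ^ 2)) := by
    have h := mul_dvd_mul_right h5 (q - 1)
    rw [← h6, Matrix.card_GL_field, Fin.prod_univ_three, mul_assoc 9, mul_comm (Nat.card L), ← hL, hcK] at h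
    rw [mul_comm _ 9]
    refine h.trans (dvd_of_eq ?_)
    simp [hq, pow_zero]
    ring
  have hpos : 0 < q ^ 3 - 1 := by
    have : 2 ^ 3 ≤ q ^ 3 := Nat.pow_le_pow_left hq2 3
    omega
  have h8 := (ZMod.natCast_eq_zero_iff _ 9).2 (Nat.dvd_of_mul_dvd_mul_left hpos h7)
  rw [Nat.cast_mul, Nat.cast_sub (Nat.le_self_pow (by norm_num) q), Nat.cast_sub (Nat.pow_le_pow_right (by omega) (by norm_num)),
    Nat.cast_pow, Nat.cast_pow, ← ZMod.natCast_mod q 9] at h8
  have h9 : q % 9 < 9 := Nat.mod_lt _ (by norm_num)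
  have h10 : q % 9 % 3 = 2 := by omega
  obtain ⟨r, hr⟩ : ∃ r, q % 9 = r := ⟨_, rfl⟩
  rw [hr] at h8 h9 h10 ⊢
  interval_cases r <;> first | rfl | (exfalso; revert h8; decide) | omega


/-- Elements of order 3 of PSL_3(q) and the normalizer of a Singer cycle. Here `T = PSL_n(F)` for a field `F` with `q = p^f` elements (`n ≥ 2`, `(n, q) ≠ (2, 2), (2, 3)`), `k` is a prime dividing `n`, `K` is a subalgebra of the `n × n` matrices that is a field of degree `k` over `F` (an extension-field structure F_{q^k} on `F^n`), and `H` is the subgroup of matrices of determinant 1 normalizing `K` — a subgroup of type GL_{n/k}(q^k) (maximal except in some small cases; maximality is not assumed); Ω is the set of cosets of `H` in `T`, so an element of `T` of prime order `r` (a matrix `x` of determinant 1 with `x^r` scalar, `x` not scalar) fixes a point of Ω when some conjugate of `x` by a matrix of determinant 1 normalizes `K`. Take `n = k = 3` and suppose 3 divides the index of `H`. Then every element of `T` of order 3 is conjugate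 in `T` into `H` if and only if `q ≡ 4, 7` or `8 (mod 9)`. -/
theorem result {F : Type*} [Field F] [Fintype F] {p : ℕ} [Fact p.Prime] [CharP F p] {q : ℕ} (hq : Fintype.card F = q)
    (n : ℕ) (hn : n = 3) (k : ℕ) (hk : k.Prime) (hkn : k ∣ n) (K : Subalgebra F (Matrix (Fin n) (Fin n) F)) (hK : Cfsg.Geo.IsFieldSubalgebra k K) (hk3 : k = 3) (hΩ : 3 ∣ ((Cfsg.Geo.subalgebraNormalizer K).comap (Matrix.SpecialLinearGroup.toGL : Matrix.SpecialLinearGroup (Fin n) F →* GL (Fin n) F)).index) :
    (∀ x : Matrix.SpecialLinearGroup (Fin n) F,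
      (∃ z : F, ((x ^ 3 : Matrix.SpecialLinearGroup (Fin n) F) : Matrix (Fin n) (Fin n) F) = z • (1 : Matrix (Fin n) (Fin n) F)) →
      (∀ z : F, (x : Matrix (Fin n) (Fin n) F) ≠ z • (1 : Matrix (Fin n) (Fin n) F)) →
      ∃ P : Matrix.SpecialLinearGroup (Fin n) F, P⁻¹ * x * P ∈ ((Cfsg.Geo.subalgebraNormalizer K).comap (Matrix.SpecialLinearGroup.toGL : Matrix.SpecialLinearGroup (Fin n) F →* GL (Fin n) F))) ↔
    (q % 9 = 4 ∨ q % 9 = 7 ∨ q % 9 = 8) := by

  classical
  subst hq
  subst hn
  subst hk3
  haveI : Fact (Nat.Prime 3) := ⟨Nat.prime_three⟩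
  constructor
  · intro H
    by_cases hp3 : p = 3
    · exfalso
      subst hp3
      have hij : (0 : Fin 3) ≠ 1 := by decide
      have hpow : ∀ k : ℕ, (Matrix.transvection (0 : Fin 3) 1 (1 : F)) ^ k = Matrix.transvection 0 1 (k : F) := fun k => by
        induction k with
        | zero => simp
        | succ k ih => rw [pow_succ, ih, Matrix.transvection_mul_transvection_same 0 1 hij, Nat.cast_succ]
      refine not_conj Nat.prime_three hK (Equiv.refl _) (Matrix.transvection (0 : Fin 3) 1 (1 : F))
        (Matrix.det_transvection_of_ne 0 1 hij 1) (z := 1)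
        (by rw [hpow, CharP.cast_eq_zero, Matrix.transvection_zero, one_smul]) (fun c hc => ?_)
        ((Polynomial.X - Polynomial.C 1) * (Polynomial.X - Polynomial.C 1)) ?_ ?_ ?_ H
      · have h := congrFun (congrFun hc 0) 1
        simp [Matrix.transvection] at h
      · exact mul_ne_zero (Polynomial.X_sub_C_ne_zero _) (Polynomial.X_sub_C_ne_zero _)
      · rw [Polynomial.natDegree_mul (Polynomial.X_sub_C_ne_zero _) (Polynomial.X_sub_C_ne_zero _),
          Polynomial.natDegree_X_sub_C]
        norm_num
      · rw [map_mul, map_sub, Polynomial.aeval_X, Polynomial.aeval_C, map_one, Matrix.transvection, add_sub_cancel_left,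
          Matrix.single_mul_single_of_ne (1 : F) (0 : Fin 3) 1 0 hij.symm]
    have h3q : ¬ 3 ∣ Fintype.card F := fun hd => by
      obtain ⟨e, hp, hF⟩ := FiniteField.card F p
      rw [hF] at hd
      exact hp3 ((Nat.prime_dvd_prime_iff_eq Nat.prime_three hp).1 (Nat.prime_three.dvd_of_dvd_pow hd)).symm
    by_cases h3 : Fintype.card F % 3 = 2
    · exact Or.inr (Or.inr (index_bound hK h3 hΩ))
    have h31 : Fintype.card F % 3 = 1 := by omega
    by_cases h91 : Fintype.card F % 9 = 1
    · exfalso
      have h9 : 3 * 3 ∣ Fintype.card F - 1 := by omega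
      obtain ⟨g, hg⟩ := IsCyclic.exists_generator (α := Fˣ)
      have hog : orderOf g = Fintype.card F - 1 := by
        rw [orderOf_eq_card_of_forall_mem_zpowers hg, Nat.card_units, Nat.card_eq_fintype_card]
      obtain ⟨t, ht⟩ := h9
      set u := g ^ t
      have hu : orderOf u = 3 * 3 := by
        have h0 : Fintype.card F - 1 ≠ 0 := by have := Fintype.one_lt_card (α := F); omega
        have ht0 : t ≠ 0 := fun h => h0 (by rw [ht, h, mul_zero])
        rw [orderOf_pow' _ ht0, hog, ht, Nat.gcd_mul_left_left, Nat.mul_div_cancel _ (Nat.pos_of_ne_zero ht0)]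
      set a : F := (u : F)
      have ha9 : a ^ 9 = 1 := by
        rw [← Units.val_pow_eq_pow_val, show (9 : ℕ) = orderOf u from hu.symm, pow_orderOf_eq_one, Units.val_one]
      have ha3 : a ^ 3 ≠ 1 := fun h => by
        have hd : orderOf u ∣ 3 := orderOf_dvd_of_pow_eq_one (Units.ext (by
          rw [Units.val_pow_eq_pow_val, Units.val_one]; exact h))
        rw [hu] at hd
        norm_num at hd
      have ha0 : a ≠ 0 := u.ne_zero
      refine not_conj Nat.prime_three hK (Equiv.refl _) (Matrix.diagonal ![a, a, a ^ 7]) ?_ (z := a ^ 3) ?_ (fun c hc => ?_)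
        ((Polynomial.X - Polynomial.C a) * (Polynomial.X - Polynomial.C (a ^ 7))) ?_ ?_ ?_ H
      · rw [det_diagonal, Fin.prod_univ_three]
        show a * a * a ^ 7 = 1
        rw [← pow_two, ← pow_add]; exact ha9
      · rw [diagonal_pow, smul_one_eq_diagonal]
        congr 1
        funext i
        fin_cases i <;> simp [← pow_mul]
        rw [show 21 = 9 + (9 + 3) from rfl, pow_add, ha9, one_mul, pow_add, ha9, one_mul]
      · have e1 := congrFun (congrFun hc 0) 0
        have e2 := congrFun (congrFun hc 2) 2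
        simp at e1 e2
        refine ha3 ?_
        have h6 : a ^ 6 = 1 := mul_right_cancel₀ ha0 (by rw [one_mul, ← pow_succ]; exact e2.trans e1.symm)
        rw [show (9 : ℕ) = 6 + 3 from rfl, pow_add, h6, one_mul] at ha9
        exact ha9
      · exact mul_ne_zero (Polynomial.X_sub_C_ne_zero _) (Polynomial.X_sub_C_ne_zero _)
      · rw [Polynomial.natDegree_mul (Polynomial.X_sub_C_ne_zero _) (Polynomial.X_sub_C_ne_zero _),
          Polynomial.natDegree_X_sub_C, Polynomial.natDegree_X_sub_C]
        norm_num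
      · rw [S5970.aeval_diagonal, ← diagonal_zero]
        congr 1
        funext i
        fin_cases i <;> simp
    omega
  · intro hR x ⟨z, hz⟩ hns
    rw [Matrix.SpecialLinearGroup.coe_pow] at hz
    have hzn : z ^ 3 = 1 := by
      have h := congrArg Matrix.det hz
      rw [det_pow, x.2, one_pow, det_smul, det_one, mul_one, Fintype.card_fin] at h
      exact h.symm
    have h3F : ((3 : ℕ) : F) ≠ 0 := fun h => by
      obtain ⟨e, hp, hF⟩ := FiniteField.card F p
      have hp3 := (Nat.prime_dvd_prime_iff_eq hp Nat.prime_three).1 ((CharP.cast_eq_zero_iff F p 3).1 h)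
      have : 3 ∣ Fintype.card F := by rw [hF, hp3]; exact dvd_pow_self 3 e.ne_zero
      omega
    by_cases h8 : Fintype.card F % 3 = 2
    · have h1 : ¬ 3 ∣ Fintype.card F - 1 := by omega
      rw [S5981.root_one Nat.prime_three h1 hzn, one_smul] at hz
      refine conj_singer Nat.prime_three hK h3F x hz
        (S5970.full_degree Nat.prime_three le_rfl ?_ _ hz fun h => hns 1 (by rw [h, one_smul]))
      rw [← ZMod.natCast_mod, h8]
      exact orderOf_eq_prime (hp := ⟨Nat.prime_two⟩) rfl (by decide)
    have h3d : 3 ∣ Fintype.card F - 1 := by omega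
    have h9d : ¬ 9 ∣ Fintype.card F - 1 := by omega
    have hz1 : z = 1 := by
      by_contra hne
      have hno : ∀ b : F, b ^ 3 ≠ z := fun b hb => by
        have hb1 : ¬ b ^ 3 ^ 1 = 1 := by rw [pow_one, hb]; exact hne
        have hb2 : b ^ 3 ^ (1 + 1) = 1 := by rw [pow_succ, pow_one, pow_mul, hb, hzn]
        have ho := orderOf_eq_prime_pow hb1 hb2
        have hb0 : b ≠ 0 := fun h => by
          rw [h, zero_pow (by norm_num)] at hb
          rw [← hb, zero_pow (by norm_num)] at hzn
          exact zero_ne_one hzn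
        exact h9d ((dvd_of_eq (by rw [ho]; norm_num)).trans (orderOf_dvd_of_pow_eq_one (FiniteField.pow_card_sub_one_eq_one b hb0)))
      have hirr := X_pow_sub_C_irreducible_of_prime Nat.prime_three hno
      have hmon := Polynomial.monic_X_pow_sub_C z (show 3 ≠ 0 by norm_num)
      have hmin : minpoly F (x : Matrix (Fin 3) (Fin 3) F) = Polynomial.X ^ 3 - Polynomial.C z :=
        (minpoly.eq_of_irreducible_of_monic hirr (by simp [hz, Algebra.algebraMap_eq_smul_one]) hmon).symm
      have hchar := charpoly_eq (by norm_num) (x : Matrix (Fin 3) (Fin 3) F) hz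
        (by rw [hmin, Polynomial.natDegree_X_pow_sub_C])
      have h := Matrix.det_eq_sign_charpoly_coeff (x : Matrix (Fin 3) (Fin 3) F)
      rw [x.2, hchar, Fintype.card_fin, Polynomial.coeff_sub, Polynomial.coeff_X_pow, if_neg (by norm_num),
        Polynomial.coeff_C_zero] at h
      exact hne (by linear_combination -h)
    subst hz1
    rw [one_smul] at hz
    refine conj_singer Nat.prime_three hK h3F x hz ?_
    have hpow : (x : Matrix (Fin 3) (Fin 3) F) ^ Fintype.card F = (x : Matrix (Fin 3) (Fin 3) F) := by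
      obtain ⟨t, ht⟩ := h3d
      rw [show Fintype.card F = 3 * t + 1 by omega, pow_succ, pow_mul, hz, one_pow, one_mul]
    obtain ⟨lam, P, hP⟩ := OrthSimilitudeDerange.exists_eigencoords (x : Matrix (Fin 3) (Fin 3) F) hpow
    have hxk : ∀ (t : ℕ) w, ((x : Matrix (Fin 3) (Fin 3) F) ^ t) *ᵥ P w = P ((Matrix.diagonal lam ^ t) *ᵥ w) := fun t => by
      induction t with
      | zero => intro w; simp
      | succ t ih => intro w; rw [pow_succ, ← mulVec_mulVec, hP, ih, mulVec_mulVec, ← pow_succ]
    have hlam : ∀ i, lam i ^ 3 = 1 := fun i => by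
      have h := hxk 3 (Pi.single i 1)
      rw [hz, one_mulVec, P.injective.eq_iff, diagonal_pow] at h
      simpa using (congrFun h i).symm
    have hprodlam : ∏ i, lam i = 1 := by
      rw [← det_diagonal, ← LinearMap.det_toLin', ← x.2, ← LinearMap.det_toLin' (x : Matrix (Fin 3) (Fin 3) F),
        ← LinearMap.det_conj (Matrix.toLin' (Matrix.diagonal lam)) P]
      congr 1
      refine LinearMap.ext fun v => ?_
      simp only [LinearMap.comp_apply, LinearEquiv.coe_coe, Matrix.toLin'_apply]
      rw [← hP, LinearEquiv.apply_symm_apply]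
    have hP' : ∀ (R : Polynomial F) w, Polynomial.aeval (x : Matrix (Fin 3) (Fin 3) F) R *ᵥ P w =
        P (Polynomial.aeval (Matrix.diagonal lam) R *ᵥ w) := fun R => by
      induction R using Polynomial.induction_on' with
      | add p q hp hq => intro w; rw [map_add, map_add, add_mulVec, add_mulVec, map_add, hp, hq]
      | monomial t s =>
        intro w
        rw [Polynomial.aeval_monomial, Polynomial.aeval_monomial, ← Algebra.smul_def, ← Algebra.smul_def, smul_mulVec,
          smul_mulVec, map_smul, hxk]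
    have hinj : Function.Injective lam := by
      rw [Fin.prod_univ_three] at hprodlam
      have key : ∀ a b c : F, a ^ 3 = 1 → a * b * c = 1 → a = b → c = a := fun a b c ha h e => by
        subst e
        exact mul_left_cancel₀ (mul_ne_zero (fun h0 => by rw [h0] at ha; simp at ha) (fun h0 => by rw [h0] at ha; simp at ha))
          (show a * a * c = a * a * a by rw [h, ← pow_two, ← pow_succ]; exact ha.symm)
      have hconst : ¬ (lam 0 = lam 1 ∧ lam 1 = lam 2) := fun ⟨e1, e2⟩ => hns (lam 0) (Matrix.ext_iff_mulVec.2 fun v => by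
        obtain ⟨w, rfl⟩ := P.surjective v
        rw [hP, smul_mulVec, one_mulVec, ← map_smul]
        congr 1
        funext i
        rw [mulVec_diagonal]
        fin_cases i <;> simp [← e2, ← e1])
      have h01 : lam 0 ≠ lam 1 := fun e => hconst ⟨e, e.symm.trans (key _ _ _ (hlam 0) hprodlam e).symm⟩
      have h02 : lam 0 ≠ lam 2 := fun e => by
        have h := key (lam 0) (lam 2) (lam 1) (hlam 0) (by linear_combination hprodlam) e
        exact h01 h.symm
      have h12 : lam 1 ≠ lam 2 := fun e => by
        have h := key (lam 1) (lam 2) (lam 0) (hlam 1) (by linear_combination hprodlam) e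
        exact h01 h
      intro i j h
      fin_cases i <;> fin_cases j <;> first | rfl | (exfalso; first | exact h01 h | exact h01 h.symm | exact h02 h | exact h02 h.symm | exact h12 h | exact h12 h.symm)
    by_contra hlt
    push Not at hlt
    set R := minpoly F (x : Matrix (Fin 3) (Fin 3) F)
    have hroots : ∀ i, R.IsRoot (lam i) := fun i => by
      have h := hP' R (Pi.single i 1)
      rw [minpoly.aeval, zero_mulVec, ← map_zero P, P.injective.eq_iff, S5970.aeval_diagonal] at h
      simpa using (congrFun h i).symm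
    have hcard := Polynomial.card_le_degree_of_subset_roots (p := R) (Z := Finset.univ.image lam) fun a ha => by
      rw [Finset.mem_val, Finset.mem_image] at ha
      obtain ⟨i, -, rfl⟩ := ha
      exact (Polynomial.mem_roots (minpoly.ne_zero (Matrix.isIntegral _))).2 (hroots i)
    rw [Finset.card_image_of_injective _ hinj, Finset.card_univ, Fintype.card_fin] at hcard
    omega

end Cfsg.Agent.S5971
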