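import Cfsg.Statements.S5973
import Cfsg.Agent.Lib.Classical.OrthEvenTSMain

set_option autoImplicit false
open scoped MatrixGroups
open Cfsg

namespace Cfsg.Agent.S5973

/-- Elements of prime order of PΩ⁺_n(q), n = 2d ≥ 8, with no fixed totally singular `m`-space, `m < n/2`. Here `T = PΩ⁺_n(q)` is realised through `Ω⁺_n(q)`, the commutator subgroup of the isometry group of the quadratic form `Σ xᵢyᵢ` over the field `F` with `q` elements; an element of `T` of prime order `r` is an element `x` of `Ω⁺_n(q)` with `x^r` scalar and `x` not scalar. Let `1 ≤ m < d` and let `r` be a prime dividing the number of totally singular `m`-spaces. For `r ≠ p` let `i` be the multiplicative order of `q` modulo `r`, `c = i` for `i` even and `c = 2i` for `i` odd, and write `k = n mod c`, `ℓ = m mod i`, `n' = ⌊n/i⌋`, `m' = ⌊m/i⌋`, `t = (r−1)/i`. Then every element of `T` of order `r` fixes some totally singular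 `m`-space if and only if one of: (i) `r = 2 ≠ p` and either `q ≡ 1 (mod 4)`, or `q ≡ 3 (mod 4)`, `m ≤ n/2 − 2` and (`m` even or `n ≡ 2 (mod 4)`); (ii) `r ≠ p` odd, `i` odd, `i ≤ m` and `k ≥ 2ℓ`; (iii) `r ≠ p` odd, `i` even, `i ≤ m`, `n' − 2m' ≥ t`, and one of: `i ≥ 2ℓ`, `k = 0`, `n/i` odd and `n' − 2m' > t`; or `k ≥ 2ℓ` and `n'` even; or `k > 2ℓ` and `n'` odd. -/
theorem result {F : Type*} [Field F] [Fintype F] {p : ℕ} [Fact p.Prime] [CharP F p] {q : ℕ} (hq : Fintype.card F = q)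
    (d m : ℕ) (hd : 4 ≤ d) (hm : 1 ≤ m) (hmd : m < d)
    (r : ℕ) [Fact r.Prime]
    (hrΩ : r ∣ Nat.card {W : Submodule F (Fin d ⊕ Fin d → F) // Module.finrank F ↥W = m ∧ (∀ w ∈ W, Cfsg.quadFormPlus d F w = 0)})
    (i c : ℕ) (hi : i = orderOf (q : ZMod r)) (hc : c = if Even i then i else 2 * i) :
    (∀ x : GL (Fin d ⊕ Fin d) F, x ∈ Cfsg.Geo.omegaGL (Cfsg.quadFormPlus d F) →
      (∃ z : F, ((x ^ r : GL (Fin d ⊕ Fin d) F) : Matrix (Fin d ⊕ Fin d) (Fin d ⊕ Fin d) F) = z • (1 : Matrix (Fin d ⊕ Fin d) (Fin d ⊕ Fin d) F)) →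
      (∀ z : F, (x : Matrix (Fin d ⊕ Fin d) (Fin d ⊕ Fin d) F) ≠ z • (1 : Matrix (Fin d ⊕ Fin d) (Fin d ⊕ Fin d) F)) →
      ∃ W : Submodule F (Fin d ⊕ Fin d → F), Module.finrank F ↥W = m ∧ (∀ w ∈ W, Cfsg.quadFormPlus d F w = 0) ∧
        W.map (Matrix.toLin' (x : Matrix (Fin d ⊕ Fin d) (Fin d ⊕ Fin d) F)) ≤ W) ↔
    ((r = 2 ∧ p ≠ 2 ∧ (q % 4 = 1 ∨ (q % 4 = 3 ∧ m + 2 ≤ d ∧ (Even m ∨ (2 * d) % 4 = 2)))) ∨
     (r ≠ p ∧ 2 < r ∧ Odd i ∧ i ≤ m ∧ 2 * (m % i) ≤ (2 * d) % c) ∨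
     (r ≠ p ∧ 2 < r ∧ Even i ∧ i ≤ m ∧ (r - 1) / i + 2 * (m / i) ≤ (2 * d) / i ∧
       ((2 * (m % i) ≤ i ∧ (2 * d) % c = 0 ∧ Odd ((2 * d) / i) ∧ (r - 1) / i + 2 * (m / i) < (2 * d) / i) ∨
        (2 * (m % i) ≤ (2 * d) % c ∧ Even ((2 * d) / i)) ∨
        (2 * (m % i) < (2 * d) % c ∧ Odd ((2 * d) / i))))) := by
  simp only [← Classical.coe_qfPlus] at hrΩ ⊢
  let ι₀ := Fin d ⊕ Fin d
  set Q₀ := Classical.qfPlus d F
  have hQ : (QuadraticMap.polarBilin Q₀).Nondegenerate := Classical.nondegenerate_qfPlus d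
  have hι : Fintype.card ι₀ = 2 * d := by simp only [ι₀, Fintype.card_sum, Fintype.card_fin]; omega
  have hε : Classical.EvenType.Plus Q₀ ↔ True := by
    refine iff_true_intro ?_
    obtain ⟨U, hU, hUd⟩ := Classical.exists_singular_plus (F := F) d
    exact ⟨U, hU, by rw [hUd, Module.finrank_pi, hι]⟩
  have hmd' := hmd
  have hpos : 0 < Fintype.card ι₀ := by omega
  have hG : Classical.OrthAut.GenQ F ι₀ := Or.inr (by omega)
  have hrp : r ≠ p := OrthEvenTSMain.ne_char hQ hι True hε hq hmd' Fact.out hrΩ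
  show OrthEvenTSMain.Fixes Q₀ r m ↔ _
  rcases eq_or_ne r 2 with rfl | hr2
  · have hp2 : p ≠ 2 := fun e => hrp e.symm
    have h2 : (2 : F) ≠ 0 := fun e => hp2 (by
      have h' : ((2 : ℕ) : F) = 0 := by exact_mod_cast e
      exact ((Nat.prime_dvd_prime_iff_eq (Fact.out : p.Prime) Nat.prime_two).1 ((CharP.cast_eq_zero_iff F p 2).1 h')))
    obtain ⟨hodd, hs1, hs2⟩ := OrthEvenTSMain.isSquare_facts h2 hq
    rw [OrthEvenTSMain.two_iff hQ hι True hε h2 hmd' hm, hs1, hs2]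
    simp only [Nat.even_iff, not_true, false_or, true_iff]
    refine ⟨fun H => Or.inl ⟨trivial, hp2, by omega⟩, fun H => ?_⟩
    · rcases H with ⟨-, -, H⟩ | ⟨-, H, -⟩ | ⟨-, H, -⟩ <;> omega
  have hr3 : 2 < r := lt_of_le_of_ne (Fact.out : r.Prime).two_le (Ne.symm hr2)
  obtain ⟨h, -⟩ := OrthNondegCrit.ctx (p := p) hq hrp hr2 hi
  rw [OrthEvenTSMain.Fixes, OrthEvenTSCriterion.criterion Q₀ hQ hG hι hmd' True hε h hrΩ,
    OrthEvenTSMain.crit_iff True (SelfReciprocalFactors.i_pos h) hc]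
  simp [hr2, hrp, hr3, SplitArith.G, ne_eq]

end Cfsg.Agent.S5973
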