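import Cfsg.Statements.S5974
import Cfsg.Agent.Lib.Classical.OrthEvenNondegMain
-- import your own Cfsg.Agent.* helpers here

set_option autoImplicit false
open scoped MatrixGroups
open Cfsg

namespace Cfsg.Agent.S5974

/-- Elements of prime order of PΩ⁺_n(q), n = 2d ≥ 8, with no fixed nondegenerate hyperbolic `m`-space. Here `T = PΩ⁺_n(q)` is realised through `Ω⁺_n(q)`, the commutator subgroup of the isometry group of `Q = Σ xᵢyᵢ` over the field `F` with `q` elements; an element of `T` of prime order `r` is an element `x` of `Ω⁺_n(q)` with `x^r` scalar and `x` not scalar. A hyperbolic `m`-space is a subspace `W` of even dimension `m` on which the polar form of `Q` is nondegenerate and which contains a totally singular subspace of dimension `m/2`. Let `m` be even with `2 ≤ m < n/2`, and let `r` be a prime dividing the number of hyperbolic `m`-spaces, with `r = 2` or `r ≠ p`. For `r ≠ p` let `i` be the multiplicative order of `q` modulo `r`, `c = i` for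 `i` even and `c = 2i` for `i` odd, and write `k = n mod c`, `ℓ' = m mod c`. Then every element of `T` of order `r` fixes some hyperbolic `m`-space if and only if one of: (i) `r = 2` and (`n ≡ 2 (mod 4)`, or `m ≡ 0 (mod 4)`, or `q ≡ 1 (mod 4)`); (ii) `r ≠ p` odd, `i` odd, `c ≤ m` and `k ≥ ℓ'`; (iii) `r ≠ p` odd, `i` even, and either `k = 0` and (`n/i` odd, or `ℓ' = 0` and `m/i` even), or `i ≤ m` and (`k > ℓ' > 0`, or `k = ℓ' > 0` and `(n + m − 2k)/i` even, or `k > ℓ' = 0` and `m/i` even). -/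
theorem result {F : Type*} [Field F] [Fintype F] {p : ℕ} [Fact p.Prime] [CharP F p] {q : ℕ} (hq : Fintype.card F = q)
    (d m : ℕ) (hd : 4 ≤ d) (hm : 2 ≤ m) (hme : Even m) (hmd : m < d)
    (r : ℕ) [Fact r.Prime] (hr : r = 2 ∨ r ≠ p)
    (hrΩ : r ∣ Nat.card {W : Submodule F (Fin d ⊕ Fin d → F) // (Module.finrank F ↥W = m ∧ (∀ u ∈ W, u ≠ 0 → ∃ v ∈ W, QuadraticMap.polar (Cfsg.quadFormPlus d F) u v ≠ 0) ∧
          ∃ U : Submodule F (Fin d ⊕ Fin d → F), U ≤ W ∧ 2 * Module.finrank F ↥U = m ∧ ∀ u ∈ U, Cfsg.quadFormPlus d F u = 0)})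
    (i c : ℕ) (hi : i = orderOf (q : ZMod r)) (hc : c = if Even i then i else 2 * i) :
    (∀ x : GL (Fin d ⊕ Fin d) F, x ∈ Cfsg.Geo.omegaGL (Cfsg.quadFormPlus d F) →
      (∃ z : F, ((x ^ r : GL (Fin d ⊕ Fin d) F) : Matrix (Fin d ⊕ Fin d) (Fin d ⊕ Fin d) F) = z • (1 : Matrix (Fin d ⊕ Fin d) (Fin d ⊕ Fin d) F)) →
      (∀ z : F, (x : Matrix (Fin d ⊕ Fin d) (Fin d ⊕ Fin d) F) ≠ z • (1 : Matrix (Fin d ⊕ Fin d) (Fin d ⊕ Fin d) F)) →
      ∃ W : Submodule F (Fin d ⊕ Fin d → F), (Module.finrank F ↥W = m ∧ (∀ u ∈ W, u ≠ 0 → ∃ v ∈ W, QuadraticMap.polar (Cfsg.quadFormPlus d F) u v ≠ 0) ∧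
          ∃ U : Submodule F (Fin d ⊕ Fin d → F), U ≤ W ∧ 2 * Module.finrank F ↥U = m ∧ ∀ u ∈ U, Cfsg.quadFormPlus d F u = 0) ∧
        W.map (Matrix.toLin' (x : Matrix (Fin d ⊕ Fin d) (Fin d ⊕ Fin d) F)) ≤ W) ↔
    ((r = 2 ∧ ((2 * d) % 4 = 2 ∨ m % 4 = 0 ∨ q % 4 = 1)) ∨
     (r ≠ p ∧ 2 < r ∧ Odd i ∧ c ≤ m ∧ m % c ≤ (2 * d) % c) ∨
     (r ≠ p ∧ 2 < r ∧ Even i ∧
       (((2 * d) % c = 0 ∧ (Odd ((2 * d) / i) ∨ (m % c = 0 ∧ Even (m / i)))) ∨
        (i ≤ m ∧ ((m % c < (2 * d) % c ∧ 0 < m % c) ∨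
                  ((2 * d) % c = m % c ∧ 0 < m % c ∧ Even ((2 * d + m - 2 * ((2 * d) % c)) / i)) ∨
                  (0 < (2 * d) % c ∧ m % c = 0 ∧ Even (m / i))))))) := by
  simp only [← Classical.coe_qfPlus] at hrΩ ⊢
  obtain ⟨M, rfl⟩ : ∃ M, m = 2 * M := ⟨m / 2, by obtain ⟨k, hk⟩ := hme; omega⟩
  have hQ := Classical.nondegenerate_qfPlus (F := F) d
  have hι : Fintype.card (Fin d ⊕ Fin d) = 2 * d := by simp only [Fintype.card_sum, Fintype.card_fin]; omega
  have hε : Classical.EvenType.Plus (Classical.qfPlus d F) ↔ True :=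
    iff_true_intro (by
      obtain ⟨U, hU, hUd⟩ := Classical.exists_singular_plus (F := F) d
      exact ⟨U, hU, by rw [hUd, Module.finrank_pi, hι]⟩)
  simp only [← OrthEvenNondegMain.good_true (Q := Classical.qfPlus d F) (M := M) rfl] at hrΩ ⊢
  show OrthEvenNondegTwo.Fixes _ r M True ↔ _
  have hεb : True ↔ (True ↔ True) := by simp
  rcases eq_or_ne r p with rfl | hrp
  · obtain rfl : r = 2 := hr.resolve_right fun h => h rfl
    have := OrthEvenNondegMain.even_card (p := 2) hq rfl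
    simp only [ne_eq, not_true, true_and, false_and, or_false]
    refine ⟨fun H => ?_, fun h => OrthEvenNondegCharTwo.fixes_two hQ hι (by omega) (by omega) True True hε
      (Or.inl ⟨trivial, trivial, by omega⟩)⟩
    by_contra hne
    obtain ⟨N, hN, hr'⟩ := OrthEvenNondegUnipotent.exists_sq (F := F) d
    refine OrthEvenNondegMain.bad hQ hι hd (by omega) (by omega) True True (hε.trans hεb) hN (fun e => ?_)
      (fun s₁ s₂ hs h1 h3 h4 h5 _ _ => ?_) H
    · rw [e, LinearMap.range_zero, finrank_bot] at hr'; omega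
    · rw [Nat.even_iff] at h1 h3
      omega
  rcases eq_or_ne r 2 with rfl | hr2
  · have hp2 : p ≠ 2 := Ne.symm hrp
    have h2 : (2 : F) ≠ 0 := fun e => hp2 (by
      have h' : ((2 : ℕ) : F) = 0 := by exact_mod_cast e
      exact ((Nat.prime_dvd_prime_iff_eq (Fact.out : p.Prime) Nat.prime_two).1 ((CharP.cast_eq_zero_iff F p 2).1 h')))
    rw [OrthEvenNondegTwo.two_iff h2 hQ hι (by omega) (by omega) (by omega) True True hε,
      (OrthEvenNondegMain.isSquare_pow_facts h2 hq d).1.2, (OrthEvenNondegMain.isSquare_pow_facts h2 hq d).2,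
      (OrthEvenNondegMain.isSquare_pow_facts h2 hq M).2]
    have := (OrthEvenNondegMain.isSquare_pow_facts h2 hq d).1.1
    simp only [Nat.even_iff, Nat.odd_iff, true_iff, false_iff, hrp, hp2, ne_eq, not_false_iff, true_and,
      lt_irrefl, false_and, and_false, or_false]
    omega
  have hr3 : 2 < r := lt_of_le_of_ne (Fact.out : r.Prime).two_le (Ne.symm hr2)
  obtain ⟨C, hC, hsm, hC'⟩ := OrthEvenNondegMain.main hQ hι hd (m := 2 * M) rfl (by omega) (by omega) True True True
    hε hεb hq hrp hr2 hrΩ hi hc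
  rw [hC]
  simp only [hrp, hr2, hr3, ne_eq, not_false_iff, true_and, false_and, false_or]
  simp only [OrthEvenNondegMain.Ty, Nat.even_iff, Nat.odd_iff, iff_true, iff_false, and_true, and_false, or_false] at hC' hsm ⊢
  rcases Nat.mod_two_eq_zero_or_one i with e | e
  · rw [if_pos (Nat.even_iff.2 e)] at hc
    simp only [e, true_and, false_and, or_false, false_or, not_true, zero_ne_one] at hC' ⊢
    rw [hc] at hC' hsm ⊢
    generalize 2 * d % i = k at *
    generalize 2 * M % i = l at *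
    refine ⟨fun h => ?_, fun h => hC'.2 ?_⟩
    · have := hsm h; have := hC'.1 h; omega
    · omega
  · rw [if_neg (Nat.not_even_iff.2 e)] at hc
    simp only [e, one_ne_zero, true_and, false_and, or_false, false_or, not_true, not_false_iff, and_false, and_true] at hC' ⊢
    refine ⟨fun h => ?_, fun h => hC'.2 ?_⟩
    · have := hsm h; have := hC'.1 h
      rcases Nat.eq_zero_or_pos (2 * d % c) with e0 | e0
      · have h0 : 2 * M % c = 0 := by omega
        have := Nat.le_of_dvd (by omega : 0 < 2 * M) (Nat.dvd_of_mod_eq_zero h0)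
        omega
      · omega
    · omega

end Cfsg.Agent.S5974
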