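import Cfsg.Statements.S5979
import Cfsg.Agent.Lib.Block.TensorDerange
import Cfsg.Agent.Lib.Classical.SubspaceDerange

set_option autoImplicit false
open scoped MatrixGroups
open Cfsg

namespace Cfsg.Agent.S5979

open Matrix Module Polynomial Cfsg.Agent Cfsg.Agent.Block
open scoped Kronecker

variable {F : Type*} [Field F] [Fintype F] {n a b : ℕ} {e : Fin n ≃ Fin a × Fin b} {P : GL (Fin n) F}

local notation "SLn" => Geo.specialLinear (Fin n) F

/-- A conjugate by a matrix of determinant one lands in the tensor stabiliser. -/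
theorem conj_into (x : GL (Fin n) F) (L : (Fin a × Fin b → F) ≃ₗ[F] (Fin n → F)) (A : GL (Fin a) F) (B : GL (Fin b) F)
    (hx : ∀ w, (x : Matrix (Fin n) (Fin n) F) *ᵥ L w =
      L (((A : Matrix (Fin a) (Fin a) F) ⊗ₖ (B : Matrix (Fin b) (Fin b) F)) *ᵥ w))
    (hC : ∀ d : F, d ≠ 0 → ∃ C : Matrix (Fin a × Fin b) (Fin a × Fin b) F, C.det = d ∧
      ((A : Matrix (Fin a) (Fin a) F) ⊗ₖ (B : Matrix (Fin b) (Fin b) F)) * C =
        C * ((A : Matrix (Fin a) (Fin a) F) ⊗ₖ (B : Matrix (Fin b) (Fin b) F))) :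
    ∃ g ∈ SLn, g⁻¹ * x * g ∈ Geo.tensorProductSubgroup a b e P := by
  classical
  set Φ := Classical.TensorMax.coordEquiv e P
  have hd : LinearMap.det ((Φ.symm.trans L : (Fin n → F) ≃ₗ[F] (Fin n → F)) : (Fin n → F) →ₗ[F] (Fin n → F)) ≠ 0 :=
    (LinearEquiv.isUnit_det' _).ne_zero
  obtain ⟨C, hCd, hAC⟩ := hC _ (inv_ne_zero hd)
  let h : (Fin n → F) →ₗ[F] (Fin n → F) :=
    ((Φ.symm.trans L : (Fin n → F) ≃ₗ[F] (Fin n → F)) : (Fin n → F) →ₗ[F] (Fin n → F)).comp
      (((Φ : (Fin a × Fin b → F) →ₗ[F] (Fin n → F)).comp (Matrix.toLin' C)).comp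
        (Φ.symm : (Fin n → F) →ₗ[F] (Fin a × Fin b → F)))
  have hdet : (LinearMap.toMatrix' h).det = 1 := by
    rw [LinearMap.det_toMatrix', LinearMap.det_comp, LinearMap.comp_assoc, LinearMap.det_conj, LinearMap.det_toLin',
      hCd, mul_inv_cancel₀ hd]
  obtain ⟨g, hgv⟩ : ∃ g : GL (Fin n) F, (g : Matrix (Fin n) (Fin n) F) = LinearMap.toMatrix' h :=
    ⟨Matrix.GeneralLinearGroup.mkOfDetNeZero _ (by rw [hdet]; exact one_ne_zero), rfl⟩
  have hgS : g ∈ SLn := by
    show Matrix.GeneralLinearGroup.det g = 1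
    refine Units.ext ?_
    show (g : Matrix (Fin n) (Fin n) F).det = 1
    rw [hgv, hdet]
  obtain ⟨y, hy, hyv⟩ := TensorDerange.exists_mem e P A B
  refine ⟨g, hgS, ?_⟩
  have hgw : ∀ w, (g : Matrix (Fin n) (Fin n) F) *ᵥ Φ w = L (C *ᵥ w) := fun w => by
    rw [hgv, ← Matrix.toLin'_apply, Matrix.toLin'_toMatrix']
    simp [h]
  suffices hxy : g⁻¹ * x * g = y by rw [hxy]; exact hy
  rw [mul_assoc, inv_mul_eq_iff_eq_mul]
  refine Units.ext (Matrix.ext_iff_mulVec.2 fun v => ?_)
  obtain ⟨w, rfl⟩ := Φ.surjective v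
  rw [Units.val_mul, Units.val_mul, ← mulVec_mulVec, ← mulVec_mulVec, hgw, hx, hyv, hgw, mulVec_mulVec,
    mulVec_mulVec, hAC]

theorem diag_mem {d : Fin n → F} (hd : ∏ i, d i = 1) :
    ∃ x ∈ SLn, (x : Matrix (Fin n) (Fin n) F) = Matrix.diagonal d :=
  ⟨Matrix.GeneralLinearGroup.mkOfDetNeZero (Matrix.diagonal d) (by rw [det_diagonal, hd]; exact one_ne_zero),
    Units.ext (show (Matrix.diagonal d).det = 1 by rw [det_diagonal, hd]), rfl⟩

/-- Transvections avoid the stabiliser. -/
theorem bad_transvection {p : ℕ} [Fact p.Prime] [CharP F p] (ha : 2 ≤ a) (hb : 2 ≤ b) (hab : n = a * b) :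
    ∃ x ∈ SLn, ((x : Matrix (Fin n) (Fin n) F)) ^ p = (1 : F) • 1 ∧ (∀ z : F, (x : Matrix (Fin n) (Fin n) F) ≠ z • 1) ∧
      ∀ g : GL (Fin n) F, g⁻¹ * x * g ∉ Geo.tensorProductSubgroup a b e P := by
  classical
  have hn : 2 ≤ n := hab ▸ le_trans (by norm_num) (Nat.mul_le_mul ha hb)
  let i : Fin n := ⟨0, by omega⟩
  let j : Fin n := ⟨1, by omega⟩
  have hij : i ≠ j := by simp [i, j]
  set M := Matrix.transvection i j (1 : F) with hM
  have hdet : M.det = 1 := Matrix.det_transvection_of_ne i j hij 1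
  set x := Matrix.GeneralLinearGroup.mkOfDetNeZero M (by rw [hdet]; exact one_ne_zero)
  have hx : (x : Matrix (Fin n) (Fin n) F) = M := rfl
  have hpow : ∀ l : ℕ, M ^ l = Matrix.transvection i j (l : F) := by
    intro l
    induction l with
    | zero => simp [Matrix.transvection_zero]
    | succ l ih => rw [pow_succ, ih, hM, Matrix.transvection_mul_transvection_same i j hij, Nat.cast_succ]
  have hns : ∀ z : F, M ≠ z • 1 := fun z hz => by
    have := congrFun (congrFun hz i) j
    simp [hM, Matrix.transvection, Matrix.one_apply, hij] at this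
  refine ⟨x, Units.ext (show M.det = 1 from hdet), by rw [hx, hpow, CharP.cast_eq_zero, Matrix.transvection_zero, one_smul],
    hns, fun g => TensorDerange.not_mem_of_rank 1 (hns 1) ?_ ?_⟩
  all_goals
    have h1 : ((x : Matrix (Fin n) (Fin n) F) - (1 : F) • 1).rank ≤ 1 := by
      rw [hx, hM, Matrix.transvection, one_smul, add_sub_cancel_left,
        show Matrix.single i j (1 : F) = Matrix.vecMulVec (Pi.single i 1) (Pi.single j 1) by
          rw [Matrix.single_eq_single_vecMulVec_single]]
      exact Matrix.rank_vecMulVec_le _ _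
    omega

/-- Diagonal elements with few eigenvalues different from `c` avoid the stabiliser. -/
theorem bad_diag (d : Fin n → F) (c : F) (hd : ∏ i, d i = 1) (S : Finset (Fin n))
    (hS : ∀ i, i ∉ S → d i = c) (hne : ∃ i, d i ≠ c) (hSa : S.card < a) (hSb : S.card < b) (hn : S.card < n) :
    ∃ x ∈ SLn, (x : Matrix (Fin n) (Fin n) F) = Matrix.diagonal d ∧ (∀ z : F, (x : Matrix (Fin n) (Fin n) F) ≠ z • 1) ∧
      ∀ g : GL (Fin n) F, g⁻¹ * x * g ∉ Geo.tensorProductSubgroup a b e P := by
  classical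
  obtain ⟨x, hx, hxv⟩ := diag_mem hd
  have hns : ∀ z : F, (x : Matrix (Fin n) (Fin n) F) ≠ z • 1 := fun z hz => by
    obtain ⟨i, hi⟩ := hne
    obtain ⟨j, hj⟩ : ∃ j, j ∉ S := by
      by_contra hall
      push Not at hall
      rw [Finset.eq_univ_of_forall hall, Finset.card_univ, Fintype.card_fin] at hn
      omega
    rw [hxv, Matrix.smul_one_eq_diagonal, Matrix.diagonal_eq_diagonal_iff] at hz
    exact hi ((hz i).trans ((hz j).symm.trans (hS j hj)))
  have hr : ((x : Matrix (Fin n) (Fin n) F) - c • 1).rank ≤ S.card := by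
    rw [hxv, Matrix.smul_one_eq_diagonal, Matrix.diagonal_sub, Matrix.rank_diagonal]
    refine le_of_eq_of_le (Fintype.card_subtype _) (Finset.card_le_card fun i hi => ?_)
    by_contra h
    simp [hS i h] at hi
  exact ⟨x, hx, hxv, hns, fun g => TensorDerange.not_mem_of_rank c (hns c) (by omega) (by omega)⟩

/-- An eigenvalue of `-1` for `n`-th powers. -/
theorem exists_neg_root {p : ℕ} [Fact p.Prime] {q : ℕ} (hq : Fintype.card F = q) (hodd : Odd q) (hn : 0 < n)
    (hv : padicValNat 2 n < padicValNat 2 (q - 1)) : ∃ c : F, c ≠ 0 ∧ c ^ n = -1 := by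
  classical
  have h2 : ringChar F ≠ 2 := fun h => by
    have := FiniteField.even_card_of_char_two h
    rw [hq] at this
    rw [Nat.odd_iff] at hodd; omega
  have hq2 : 2 ≤ q := hq ▸ Fintype.one_lt_card
  obtain ⟨ω, hω⟩ := IsCyclic.exists_generator (α := Fˣ)
  set g := Nat.gcd n (q - 1)
  have hg : g ∣ (q - 1) / 2 := by
    obtain ⟨l, m, hm, hn'⟩ : ∃ l m, ¬ 2 ∣ m ∧ n = 2 ^ l * m :=
      ⟨n.factorization 2, n / 2 ^ n.factorization 2, Nat.not_dvd_ordCompl Nat.prime_two hn.ne',
        (Nat.ordProj_mul_ordCompl_eq_self n 2).symm⟩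
    have hl : padicValNat 2 n = l := by
      rw [hn', padicValNat.mul (by positivity) (by rintro rfl; simp at hm), padicValNat.prime_pow,
        padicValNat.eq_zero_of_not_dvd hm, add_zero]
    have hdvd : 2 ^ (l + 1) ∣ q - 1 := (pow_dvd_pow 2 (by omega)).trans pow_padicValNat_dvd
    obtain ⟨w, hw⟩ := hdvd
    have hw2 : (q - 1) / 2 = 2 ^ l * w := by
      rw [hw, pow_succ, mul_right_comm, Nat.mul_div_cancel _ (by norm_num)]
    rw [hw2]
    have hgm : g ∣ 2 ^ l * m := hn' ▸ Nat.gcd_dvd_left n (q - 1)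
    have hgq : g ∣ 2 ^ l * (2 * w) := by
      rw [← mul_assoc, ← pow_succ, ← hw]; exact Nat.gcd_dvd_right n (q - 1)
    have h3 : g ∣ Nat.gcd (2 ^ l * m) (2 ^ l * (2 * w)) := Nat.dvd_gcd hgm hgq
    rw [Nat.gcd_mul_left] at h3
    refine h3.trans (Nat.mul_dvd_mul_left _ ?_)
    exact (Nat.Coprime.coprime_dvd_left (Nat.gcd_dvd_left m (2 * w))
      ((Nat.prime_two.coprime_iff_not_dvd.2 hm).symm)).dvd_of_dvd_mul_left (Nat.gcd_dvd_right m (2 * w))
  obtain ⟨t, ht⟩ := hg
  refine ⟨((ω ^ (n.gcdA (q - 1) * t) : Fˣ) : F), Units.ne_zero _, ?_⟩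
  have hord : orderOf ω = q - 1 := by
    rw [orderOf_eq_card_of_forall_mem_zpowers hω, Nat.card_units, Nat.card_eq_fintype_card, hq]
  have hhalf : ((ω ^ ((q - 1) / 2) : Fˣ) : F) = -1 := by
    have hne : ω ^ ((q - 1) / 2) ≠ 1 := fun h => by
      have := orderOf_dvd_of_pow_eq_one h
      rw [hord] at this
      have h4 : 1 ≤ (q - 1) / 2 := by rw [Nat.odd_iff] at hodd; omega
      have := Nat.le_of_dvd h4 this
      omega
    have hsq : ((ω ^ ((q - 1) / 2) : Fˣ) : F) * ((ω ^ ((q - 1) / 2) : Fˣ) : F) = 1 := by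
      rw [← Units.val_mul, ← pow_add, show (q - 1) / 2 + (q - 1) / 2 = q - 1 by rw [Nat.odd_iff] at hodd; omega,
        ← hord, pow_orderOf_eq_one, Units.val_one]
    exact (mul_self_eq_one_iff.1 hsq).resolve_left fun h => hne (Units.ext h)
  rw [← Units.val_pow_eq_pow_val, ← hhalf]
  congr 1
  rw [← zpow_natCast (ω ^ _) n, ← _root_.zpow_mul, ← zpow_natCast ω ((q - 1) / 2), ht]
  refine zpow_eq_zpow_iff_modEq.2 ?_
  rw [hord, Int.modEq_iff_dvd]
  refine ⟨n.gcdB (q - 1) * t, ?_⟩
  have hb := Nat.gcd_eq_gcd_ab n (q - 1)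
  push_cast
  rw [show (g : ℤ) = _ from hb]
  ring

/-- Elements of odd order prime to the characteristic avoiding the stabiliser. -/
theorem bad_odd {p : ℕ} [Fact p.Prime] [CharP F p] {q r : ℕ} [hr : Fact r.Prime] (hq : Fintype.card F = q)
    (hrp : r ≠ p) (hr2 : r ≠ 2) (ha : 2 ≤ a) (hlt : a < b) (hab : n = a * b)
    (hdvd : r ∣ Nat.card (GL (Fin n) F)) :
    ∃ x ∈ SLn, ((x : Matrix (Fin n) (Fin n) F)) ^ r = (1 : F) • 1 ∧ (∀ z : F, (x : Matrix (Fin n) (Fin n) F) ≠ z • 1) ∧
      ∀ g : GL (Fin n) F, g⁻¹ * x * g ∉ Geo.tensorProductSubgroup a b e P := by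
  classical
  have hb : 3 ≤ b := by omega
  have hn : a + b < n := by rw [hab]; nlinarith
  have hrq : ¬ r ∣ q := fun h => by
    obtain ⟨l, -, hl⟩ := FiniteField.card F p
    rw [← hq, hl] at h
    exact hrp ((Nat.prime_dvd_prime_iff_eq hr.out Fact.out).1 (hr.out.dvd_of_dvd_pow h))
  set i := orderOf (q : ZMod r) with hi
  have hin : i ≤ n := LinearDecompDerange.le_of_dvd hq hr.out hrq hdvd
  have hi0 : 0 < i := orderOf_pos_iff.2 (by
    rw [isOfFinOrder_iff_pow_eq_one]
    exact ⟨r - 1, by have := hr.out.two_le; omega,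
      ZMod.pow_card_sub_one_eq_one fun h => hrq ((ZMod.natCast_eq_zero_iff _ _).1 h)⟩)
  -- the element, its polynomial and its number of moved eigenvalues
  obtain ⟨x, hx, hpow, hns, u, hu, hsep, hu1, hud, hdeg, hch⟩ : ∃ x ∈ SLn,
      ((x : Matrix (Fin n) (Fin n) F)) ^ r = 1 ∧ (∀ z : F, (x : Matrix (Fin n) (Fin n) F) ≠ z • 1) ∧
      ∃ u : F[X], u.Monic ∧ u.Separable ∧ u.eval 1 ≠ 0 ∧ 1 ≤ u.natDegree ∧ (u.natDegree = i ∨ u.natDegree = 2) ∧
        (x : Matrix (Fin n) (Fin n) F).charpoly = u * (X - Polynomial.C 1) ^ (n - u.natDegree) := by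
    rcases Nat.lt_or_ge i 2 with hi1 | hi2
    · obtain ⟨w, hw⟩ : r ∣ q - 1 := by
        have h : (q : ZMod r) = 1 := orderOf_eq_one_iff.1 (by omega)
        rw [← ZMod.natCast_eq_zero_iff, Nat.cast_sub (hq ▸ Fintype.card_pos), h, Nat.cast_one, sub_self]
      obtain ⟨l, hl⟩ : ∃ l : Fˣ, orderOf l = r := exists_prime_orderOf_dvd_card' r (by
        rw [Nat.card_units, Nat.card_eq_fintype_card, hq, hw]; exact dvd_mul_right r w)
      have hlr : (l : F) ^ r = 1 := by rw [← Units.val_pow_eq_pow_val, ← hl, pow_orderOf_eq_one, Units.val_one]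
      have hl1 : (l : F) ≠ 1 := fun h => by
        rw [show l = 1 from Units.ext h, orderOf_one] at hl
        exact hr.out.one_lt.ne hl
      have hl2 : (l : F) ≠ (l : F)⁻¹ := fun h => by
        have h2 : l * l = 1 := Units.ext (by
          rw [Units.val_mul, Units.val_one]
          conv_lhs => arg 2; rw [h]
          exact mul_inv_cancel₀ l.ne_zero)
        have := orderOf_dvd_of_pow_eq_one (show l ^ 2 = 1 by rw [sq, h2])
        rw [hl, Nat.prime_dvd_prime_iff_eq hr.out Nat.prime_two] at this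
        exact hr2 this
      let i₀ : Fin n := ⟨0, by omega⟩
      let i₁ : Fin n := ⟨1, by omega⟩
      have h01 : i₀ ≠ i₁ := by simp [i₀, i₁]
      set d : Fin n → F := Function.update (Function.update 1 i₀ (l : F)) i₁ (l : F)⁻¹
      have h0 : d i₀ = l := by simp [d, h01]
      have h1 : d i₁ = (l : F)⁻¹ := by simp [d]
      have ho : ∀ k, k ≠ i₀ → k ≠ i₁ → d k = 1 := fun k hk hk' => by simp [d, hk, hk']
      have hsplit : ∀ {M : Type _} [CommMonoid M] (f : F → M), ∏ k, f (d k) = f l * (f (l : F)⁻¹ * f 1 ^ (n - 2)) := by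
        intro M _ f
        rw [← Finset.mul_prod_erase _ _ (Finset.mem_univ i₀), ← Finset.mul_prod_erase _ _
          (Finset.mem_erase.2 ⟨h01.symm, Finset.mem_univ i₁⟩), h0, h1]
        congr 2
        rw [Finset.prod_congr rfl fun k hk => by
          rw [ho k (Finset.mem_erase.1 (Finset.mem_erase.1 hk).2).1 (Finset.mem_erase.1 hk).1],
          Finset.prod_const, Finset.card_erase_of_mem (Finset.mem_erase.2 ⟨h01.symm, Finset.mem_univ i₁⟩),
          Finset.card_erase_of_mem (Finset.mem_univ i₀), Finset.card_univ, Fintype.card_fin]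
        congr 1
      obtain ⟨x, hx, hxv⟩ := diag_mem (d := d) (by simpa using hsplit (fun y => y))
      refine ⟨x, hx, ?_, fun z hz => ?_, (X - Polynomial.C (l : F)) * (X - Polynomial.C (l : F)⁻¹),
        (monic_X_sub_C _).mul (monic_X_sub_C _), (separable_X_sub_C).mul separable_X_sub_C
          (isCoprime_X_sub_C_of_isUnit_sub (sub_ne_zero.2 hl2).isUnit), ?_, ?_, ?_, ?_⟩
      · rw [hxv, diagonal_pow, ← diagonal_one]
        congr 1
        funext k
        rcases eq_or_ne k i₀ with rfl | hk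
        · simp [h0, hlr]
        rcases eq_or_ne k i₁ with rfl | hk'
        · simp [h1, inv_pow, hlr]
        · simp [ho k hk hk']
      · rw [hxv, Matrix.smul_one_eq_diagonal, Matrix.diagonal_eq_diagonal_iff] at hz
        exact hl2 ((h0.symm.trans (hz i₀)).trans ((hz i₁).symm.trans h1))
      · simp [sub_eq_zero, Ne.symm hl1]
        exact fun h => hl1 (by rw [h, Units.val_one])
      · rw [natDegree_mul (X_sub_C_ne_zero _) (X_sub_C_ne_zero _), natDegree_X_sub_C, natDegree_X_sub_C]; omega
      · right; rw [natDegree_mul (X_sub_C_ne_zero _) (X_sub_C_ne_zero _), natDegree_X_sub_C, natDegree_X_sub_C]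
      · rw [hxv, charpoly_diagonal, natDegree_mul (X_sub_C_ne_zero _) (X_sub_C_ne_zero _), natDegree_X_sub_C,
          natDegree_X_sub_C, hsplit fun y => X - Polynomial.C y, mul_assoc]
    · obtain ⟨x, g, hgm, hgi, hgd, hg1, hgc, hxr, hxs⟩ :=
        SubspaceDerange.exists_order (p := p) (n := n) (f := n - i) hq hrp hi.symm hi2 le_rfl (by omega)
      refine ⟨Matrix.GeneralLinearGroup.mkOfDetNeZero x.1 (by rw [x.2]; exact one_ne_zero),
        Units.ext (show x.1.det = 1 from x.2), hxr, hxs, g, hgm, PerfectField.separable_of_irreducible hgi, hg1,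
        by omega, Or.inl hgd, ?_⟩
      show x.1.charpoly = _
      rw [hgc, pow_one, hgd]
  refine ⟨x, hx, by rw [hpow, one_smul], hns, fun g hg => ?_⟩
  obtain ⟨A, B, k, w, hk, hw⟩ := TensorDerange.mem_tensor hg
  have hkp := TensorDerange.pow_eq_one hw (Units.ext (by rw [Units.val_pow_eq_pow_val, hpow, Units.val_one]))
  rw [hk] at hkp
  have hne : (A : Matrix (Fin a) (Fin a) F) ⊗ₖ (B : Matrix (Fin b) (Fin b) F) ≠ 1 := fun h =>
    hns 1 (TensorDerange.eq_scalar hw (by rw [hk, h, one_smul]))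
  obtain ⟨-, hbound, -⟩ := TensorDerange.bound (p := p) hr.out hrp ha (by omega) hkp hu hsep hu1 hud
    (f := n - u.natDegree) (by rw [← hk, ← TensorDerange.charpoly_eq hw, hch])
  have hib : i ≤ b := (TensorDerange.exists_le hq hr.out hrq A B hkp hne).trans (max_le hlt.le le_rfl)
  rcases hdeg with h | h <;> omega

/-- Every element with a scalar square has a conjugate in the stabiliser. -/
theorem square_fixes (h2 : (2 : F) ≠ 0) {q : ℕ} (hq : Fintype.card F = q) (hab : n = 2 * b) (hb : 0 < b)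
    (hv : padicValNat 2 (q - 1) ≤ padicValNat 2 n) {e : Fin n ≃ Fin 2 × Fin b}
    (x : GL (Fin n) F) (hdet : (x : Matrix (Fin n) (Fin n) F).det = 1) {z : F}
    (hxz : (x : Matrix (Fin n) (Fin n) F) * (x : Matrix (Fin n) (Fin n) F) = z • 1) :
    ∃ g ∈ SLn, g⁻¹ * x * g ∈ Geo.tensorProductSubgroup 2 b e P := by
  classical
  have hn : 0 < n := by omega
  have hq2 : 2 ≤ q := hq ▸ Fintype.one_lt_card
  haveI : Nonempty (Fin n) := ⟨⟨0, hn⟩⟩
  have hz0 : z ≠ 0 := fun h => by
    have := congrArg Matrix.det hxz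
    rw [det_mul, hdet, h, zero_smul, det_zero, mul_one] at this
    exact one_ne_zero this
  by_cases hz : IsSquare z
  · obtain ⟨c, rfl⟩ := hz
    have hc0 : c ≠ 0 := fun h => hz0 (by rw [h, zero_mul])
    have hne : (-c : F) ≠ c := fun h => hc0 ((mul_eq_zero.1 (show (2 : F) * c = 0 by linear_combination -h)).resolve_left h2)
    have hqodd : q % 2 = 1 := by
      have hc : ringChar F ≠ 2 := fun hc => h2 (by exact_mod_cast (ringChar.spec F 2).2 (by rw [hc]))
      exact hq ▸ FiniteField.odd_card_of_char_ne_two hc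
    have hxq : (x : Matrix (Fin n) (Fin n) F) ^ Fintype.card F = x := by
      have h1 : q = 2 * ((q - 1) / 2) + 1 := by omega
      rw [hq, h1, pow_succ, pow_mul, sq, hxz, _root_.smul_pow, one_pow, ← sq, ← pow_mul,
        show 2 * ((q - 1) / 2) = Fintype.card F - 1 by rw [hq]; omega, FiniteField.pow_card_sub_one_eq_one c hc0,
        one_smul, one_mul]
    obtain ⟨lam, L, hL⟩ := OrthSimilitudeDerange.exists_eigencoords _ hxq
    have hlam2 : ∀ i, lam i = c ∨ lam i = -c := fun i => by
      have h := hL (Matrix.diagonal lam *ᵥ Pi.single i 1)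
      rw [← hL, mulVec_mulVec, hxz, smul_mulVec, one_mulVec, ← map_smul] at h
      have h' := congrFun (L.injective h) i
      simp [mulVec_diagonal] at h'
      exact mul_self_eq_mul_self_iff.1 h'.symm
    have hlamdet : ∏ i, lam i = 1 := by
      have h : Matrix.toLin' (x : Matrix (Fin n) (Fin n) F) = L.conj (Matrix.toLin' (Matrix.diagonal lam)) := by
        refine LinearMap.ext fun v => ?_
        obtain ⟨w, rfl⟩ := L.surjective v
        simp [hL]
      rw [← hdet, ← LinearMap.det_toLin', h, LinearEquiv.conj_apply, LinearMap.comp_assoc, LinearMap.det_conj,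
        LinearMap.det_toLin', det_diagonal]
    set J := Finset.univ.filter fun i => lam i = -c with hJ
    have hJc : ∏ i, lam i = (-1) ^ J.card * c ^ n := by
      rw [show c ^ n = ∏ _i : Fin n, c by simp, ← Finset.prod_const, ← Finset.prod_ite_mem_eq J (fun _ => (-1 : F)),
        ← Finset.prod_mul_distrib]
      refine Finset.prod_congr rfl fun i _ => ?_
      rcases hlam2 i with h | h <;> simp [hJ, h, hne.symm]
    have hcn : c ^ n = 1 := by
      have h1 : c ^ (2 * n) = 1 := by
        rw [hJc] at hlamdet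
        calc c ^ (2 * n) = ((-1) ^ J.card * c ^ n) ^ 2 := by
              rw [mul_pow, ← pow_mul, ← pow_mul, mul_comm J.card 2, pow_mul (-1 : F), neg_one_sq, one_pow, one_mul,
                mul_comm]
          _ = 1 := by rw [hlamdet, one_pow]
      have h3 := pow_gcd_eq_one.2 ⟨h1, FiniteField.pow_card_sub_one_eq_one c hc0⟩
      obtain ⟨w, hw⟩ : (2 * n).gcd (Fintype.card F - 1) ∣ n := by
        rw [hq, ← Nat.factorization_le_iff_dvd (Nat.gcd_pos_of_pos_left _ (by omega)).ne' hn.ne']
        intro s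
        have h4 : ((2 * n).gcd (q - 1)).factorization s ≤ (2 * n).factorization s :=
          (Nat.factorization_le_iff_dvd (Nat.gcd_pos_of_pos_left _ (by omega)).ne' (by omega)).2 (Nat.gcd_dvd_left _ _) s
        have h5 : ((2 * n).gcd (q - 1)).factorization s ≤ (q - 1).factorization s :=
          (Nat.factorization_le_iff_dvd (Nat.gcd_pos_of_pos_left _ (by omega)).ne' (by omega)).2 (Nat.gcd_dvd_right _ _) s
        rw [Nat.factorization_mul (by norm_num) hn.ne', Nat.prime_two.factorization, Finsupp.add_apply] at h4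
        rcases eq_or_ne s 2 with rfl | hs
        · rw [Nat.factorization_def _ Nat.prime_two, Nat.factorization_def _ Nat.prime_two] at *
          omega
        · rw [Finsupp.single_eq_of_ne hs] at h4
          omega
      rw [hw, pow_mul, h3, one_pow]
    obtain ⟨j, hj⟩ : Even J.card := by
      rw [hJc, hcn, mul_one] at hlamdet
      rcases Nat.even_or_odd J.card with h | h
      · exact h
      · rw [h.neg_one_pow] at hlamdet
        exact absurd (show (2 : F) = 0 by linear_combination -hlamdet) h2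
    have hjb : j ≤ b := by
      have := J.card_le_univ
      rw [Fintype.card_fin] at this
      omega
    let β : Fin b → F := fun l => if l.val < j then -c else c
    have hβ0 : ∀ l, β l ≠ 0 := fun l => by simp only [β]; split_ifs <;> simp [hc0]
    obtain ⟨σ, hσ⟩ : ∃ σ : Fin n ≃ Fin 2 × Fin b, ∀ i, lam i = β (σ i).2 := by
      have h1 : Fintype.card {i // lam i = -c} = Fintype.card {s : Fin 2 × Fin b // β s.2 = -c} := by
        rw [Fintype.card_subtype, ← hJ, hj, Fintype.card_subtype,
          show (Finset.univ.filter fun s : Fin 2 × Fin b => β s.2 = -c) =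
            (Finset.univ : Finset (Fin 2)) ×ˢ (Finset.univ.filter fun l : Fin b => l.val < j) by
            ext ⟨k, l⟩
            simp only [β, Finset.mem_filter, Finset.mem_univ, true_and, Finset.mem_product]
            by_cases hl : l.val < j <;> simp [hl, hne.symm],
          Finset.card_product, Finset.card_univ, Fintype.card_fin, Fin.card_filter_val_lt, min_eq_right hjb]
        ring
      have h1' : Fintype.card {i // ¬ lam i = -c} = Fintype.card {s : Fin 2 × Fin b // ¬ β s.2 = -c} := by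
        rw [Fintype.card_subtype_compl, Fintype.card_subtype_compl, h1, Fintype.card_fin, Fintype.card_prod,
          Fintype.card_fin, Fintype.card_fin, hab]
      obtain ⟨σ₁⟩ := Fintype.card_eq.1 h1
      obtain ⟨σ₂⟩ := Fintype.card_eq.1 h1'
      refine ⟨((Equiv.sumCompl _).symm.trans (σ₁.sumCongr σ₂)).trans (Equiv.sumCompl _), fun i => ?_⟩
      by_cases h : lam i = -c
      · rw [Equiv.trans_apply, Equiv.trans_apply, Equiv.sumCompl_symm_apply_of_pos (p := fun i => lam i = -c) h, h]
        exact (σ₁ ⟨i, h⟩).2.symm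
      · rw [Equiv.trans_apply, Equiv.trans_apply, Equiv.sumCompl_symm_apply_of_neg (p := fun i => lam i = -c) h, (hlam2 i).resolve_right h]
        have h' := (σ₂ ⟨i, h⟩).2
        simp only [Equiv.sumCongr_apply, Sum.map_inr, Equiv.sumCompl_apply_inr, β] at h' ⊢
        split_ifs with hl
        · exact absurd (if_pos hl) h'
        · rfl
    set Bm : GL (Fin b) F := Matrix.GeneralLinearGroup.mkOfDetNeZero (Matrix.diagonal β)
      (by rw [det_diagonal]; exact Finset.prod_ne_zero_iff.2 fun l _ => hβ0 l)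
    have hK : ((1 : GL (Fin 2) F) : Matrix (Fin 2) (Fin 2) F) ⊗ₖ (Bm : Matrix (Fin b) (Fin b) F) =
        Matrix.diagonal fun s : Fin 2 × Fin b => β s.2 := by
      show (1 : Matrix (Fin 2) (Fin 2) F) ⊗ₖ Matrix.diagonal β = _
      rw [← diagonal_one, diagonal_kronecker_diagonal]
      simp
    refine conj_into x ((LinearEquiv.funCongrLeft F F σ).trans L) 1 Bm (fun w => ?_) fun t ht => ?_
    · rw [hK]
      show (x : Matrix (Fin n) (Fin n) F) *ᵥ L (w ∘ σ) = L ((Matrix.diagonal (fun s : Fin 2 × Fin b => β s.2) *ᵥ w) ∘ σ)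
      rw [hL]
      congr 1
      funext i
      simp [mulVec_diagonal, hσ i]
    · refine ⟨Matrix.diagonal (Function.update 1 ((0 : Fin 2), (⟨0, hb⟩ : Fin b)) t), ?_, ?_⟩
      · rw [det_diagonal, Finset.prod_update_of_mem (Finset.mem_univ _)]; simp
      · rw [hK, diagonal_mul_diagonal, diagonal_mul_diagonal]
        exact congrArg _ (funext fun i => mul_comm _ _)
  · set g := Matrix.toLin' (x : Matrix (Fin n) (Fin n) F)
    have hg : ∀ v, g (g v) = z • v := fun v => by
      rw [Matrix.toLin'_apply, Matrix.toLin'_apply, mulVec_mulVec, hxz, smul_mulVec, one_mulVec]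
    obtain ⟨j, v, hli, h⟩ := InvolutionDecomp.exists_pairs hz hg (n + 1)
    have htop := h.resolve_left fun hj => by
      have := hli.fintype_card_le_finrank
      rw [Fintype.card_sum, Fintype.card_fin, Module.finrank_fin_fun] at this
      omega
    let bb := Module.Basis.mk hli htop.ge
    obtain rfl : j = b := by
      have := Module.finrank_eq_card_basis bb
      rw [Module.finrank_fin_fun, Fintype.card_sum, Fintype.card_fin] at this
      omega
    let ee : Fin 2 × Fin j ≃ Fin j ⊕ Fin j :=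
      ⟨fun x => ![Sum.inl x.2, Sum.inr x.2] x.1, Sum.elim (fun i => (0, i)) fun i => (1, i),
        fun x => by obtain ⟨k, i⟩ := x; fin_cases k <;> simp, fun x => by rcases x with i | i <;> simp⟩
    let bs := bb.reindex ee.symm
    set J : GL (Fin 2) F := Matrix.GeneralLinearGroup.mkOfDetNeZero !![0, z; 1, 0]
      (by simp [det_fin_two, hz0])
    have hJ : (J : Matrix (Fin 2) (Fin 2) F) = !![0, z; 1, 0] := rfl
    have hK : (J : Matrix (Fin 2) (Fin 2) F) ⊗ₖ ((1 : GL (Fin j) F) : Matrix (Fin j) (Fin j) F) =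
        blockDiagonal fun _ : Fin j => (J : Matrix (Fin 2) (Fin 2) F) := by
      rw [Units.val_one, kronecker_one]
    have hM : LinearMap.toMatrix bs bs g = blockDiagonal fun _ : Fin j => (J : Matrix (Fin 2) (Fin 2) F) := by
      rw [hJ]
      ext ⟨l, i'⟩ ⟨k, i⟩
      rw [LinearMap.toMatrix_apply, blockDiagonal_apply]
      have hgb : g (bs (k, i)) = (!![0, z; 1, 0] : Matrix (Fin 2) (Fin 2) F) 0 k • bs (0, i) +
          (!![0, z; 1, 0] : Matrix (Fin 2) (Fin 2) F) 1 k • bs (1, i) := by
        fin_cases k <;> simp [bs, bb, ee, hg]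
      rw [hgb, map_add, map_smul, map_smul, Module.Basis.repr_self, Module.Basis.repr_self, Finsupp.add_apply,
        Finsupp.smul_apply, Finsupp.smul_apply, Finsupp.single_apply, Finsupp.single_apply]
      by_cases h : i' = i
      · subst h
        fin_cases l <;> fin_cases k <;> simp
      · simp [h, Ne.symm h]
    refine conj_into x bs.equivFun.symm J 1 (fun w => ?_) fun t ht => ?_
    · rw [hK, ← hM, LinearEquiv.eq_symm_apply]
      conv_rhs => rw [← bs.equivFun.apply_symm_apply w]
      exact (LinearMap.toMatrix_mulVec_repr bs bs g _).symm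
    · obtain ⟨u, v', huv⟩ := OrthSimilitudeDerange.exists_plane h2 hz0 (-t)
      let T : Fin j → Matrix (Fin 2) (Fin 2) F :=
        Function.update (fun _ => 1) (⟨0, hb⟩ : Fin j) !![v', z * u; u, v']
      refine ⟨blockDiagonal T, ?_, ?_⟩
      · rw [det_blockDiagonal, Finset.prod_eq_single_of_mem (⟨0, hb⟩ : Fin j) (Finset.mem_univ _)
          (fun k _ hk => by simp [T, hk]), show T ⟨0, hb⟩ = !![v', z * u; u, v'] from Function.update_self _ _ _, det_fin_two_of]
        linear_combination -huv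
      · rw [hK, ← blockDiagonal_mul, ← blockDiagonal_mul]
        congr 1
        funext k
        by_cases hk : k = ⟨0, hb⟩
        · rw [hk, show T ⟨0, hb⟩ = !![v', z * u; u, v'] from Function.update_self _ _ _, hJ]
          ext l m
          fin_cases l <;> fin_cases m <;> simp [Matrix.mul_apply, Fin.sum_univ_two] <;> ring
        · simp [T, hk]


/-- Elements of prime order of PSL_n(q) and the stabilizers of tensor decompositions with factors of different dimensions. Here `T = PSL_n(F)` for a field `F` with `q` elements and `n = a·b` with `2 ≤ a < b`; a tensor decomposition `F^n ≅ F^a ⊗ F^b` is given by a bijection `e` of index sets and a change of basis `P`, and `H` is the subgroup of matrices of determinant 1 in its stabilizer (the conjugate by `P` of the group of Kronecker products `g₁ ⊗ g₂`) — a subgroup of type GL_a(q) ⊗ GL_b(q) (maximality is not assumed); Ω is the set of cosets of `H` in `T`, so an element of `T` of prime order `r` (a matrix `x` of determinant 1 with `x^r`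 scalar, `x` not scalar) fixes a point of Ω exactly when some conjugate of `x` by a matrix of determinant 1 lies in `H`. Let `r` be a prime dividing the index of `H`. Then every element of `T` of order `r` fixes a point of Ω if and only if `r = 2`, `a = 2`, `q` is odd and `(q − 1)_2 ≤ (n)_2` (2-parts). -/
theorem result {F : Type*} [Field F] [Fintype F] {p : ℕ} [Fact p.Prime] [CharP F p] {q : ℕ} (hq : Fintype.card F = q)
    (n a b : ℕ) (hab : n = a * b) (ha : 2 ≤ a) (hlt : a < b) (e : Fin n ≃ Fin a × Fin b) (P : GL (Fin n) F)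
    (r : ℕ) [Fact r.Prime]
    (hΩ : r ∣ (Cfsg.Geo.tensorProductSubgroup a b e P).relIndex (Cfsg.Geo.specialLinear (Fin n) F)) :
    (∀ x ∈ Cfsg.Geo.specialLinear (Fin n) F, (∃ z : F, ((x ^ r : GL (Fin n) F) : Matrix (Fin n) (Fin n) F) = z • (1 : Matrix (Fin n) (Fin n) F)) →
      (∀ z : F, (x : Matrix (Fin n) (Fin n) F) ≠ z • (1 : Matrix (Fin n) (Fin n) F)) →
      ∃ g ∈ Cfsg.Geo.specialLinear (Fin n) F, g⁻¹ * x * g ∈ Cfsg.Geo.tensorProductSubgroup a b e P) ↔
    (r = 2 ∧ a = 2 ∧ Odd q ∧ padicValNat 2 (q - 1) ≤ padicValNat 2 n) := by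
  classical
  subst hab
  have hb : 3 ≤ b := by omega
  have hr : r.Prime := Fact.out
  constructor
  · intro H
    by_contra hneg
    suffices hbad : ∃ x ∈ Cfsg.Geo.specialLinear (Fin (a * b)) F,
        (∃ z : F, (x : Matrix (Fin (a * b)) (Fin (a * b)) F) ^ r = z • 1) ∧
        (∀ z : F, (x : Matrix (Fin (a * b)) (Fin (a * b)) F) ≠ z • 1) ∧
        ∀ g : GL (Fin (a * b)) F, g⁻¹ * x * g ∉ Cfsg.Geo.tensorProductSubgroup a b e P by
      obtain ⟨x, hx, ⟨z, hz⟩, hns, hno⟩ := hbad
      obtain ⟨g, -, hg⟩ := H x hx ⟨z, by rw [Units.val_pow_eq_pow_val, hz]⟩ hns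
      exact hno g hg
    rcases eq_or_ne r p with rfl | hrp
    · obtain ⟨x, hx, hxp, h⟩ := bad_transvection (p := r) (e := e) (P := P) ha (by omega) rfl
      exact ⟨x, hx, ⟨1, hxp⟩, h⟩
    rcases eq_or_ne r 2 with rfl | hr2
    · have hodd : Odd q := by
        obtain ⟨l, hp, hl⟩ := FiniteField.card F p
        rw [← hq, hl]
        exact (hp.odd_of_ne_two (Ne.symm hrp)).pow
      by_cases ha2 : a = 2
      · subst ha2
        have hv : padicValNat 2 (2 * b) < padicValNat 2 (q - 1) := not_le.1 fun h => hneg ⟨rfl, rfl, hodd, h⟩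
        obtain ⟨c, hc0, hc⟩ := exists_neg_root (F := F) (p := p) hq hodd (by omega) hv
        let i₀ : Fin (2 * b) := ⟨0, by omega⟩
        set d : Fin (2 * b) → F := Function.update (fun _ => c) i₀ (-c) with hd
        have hdi : ∀ i, d i = c ∨ d i = -c := fun i => by
          rcases eq_or_ne i i₀ with rfl | h <;> simp [hd, *]
        have hprod : ∏ i, d i = 1 := by
          rw [hd, Finset.prod_update_of_mem (Finset.mem_univ i₀), Finset.prod_const,
            Finset.card_sdiff_of_subset (Finset.subset_univ _), Finset.card_singleton, Finset.card_univ, Fintype.card_fin,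
            neg_mul, ← pow_succ', show 2 * b - 1 + 1 = 2 * b by omega, hc, neg_neg]
        have h2 : (2 : F) ≠ 0 := fun h => hrp (by
          have := (CharP.cast_eq_zero_iff F p 2).1 (by exact_mod_cast h)
          exact ((Nat.prime_dvd_prime_iff_eq Fact.out Nat.prime_two).1 this).symm)
        obtain ⟨x, hx, hxv, hns, hno⟩ := bad_diag (e := e) (P := P) d c hprod {i₀}
          (fun i hi => by simp [hd, Finset.notMem_singleton.1 hi])
          ⟨i₀, fun h => hc0 ((mul_eq_zero.1 (show (2 : F) * c = 0 by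
            rw [hd, Function.update_self] at h; linear_combination -h)).resolve_left h2)⟩
          (by simp) (by simp; omega) (by simp; omega)
        refine ⟨x, hx, ⟨c * c, ?_⟩, hns, hno⟩
        rw [hxv, diagonal_pow, smul_one_eq_diagonal]
        congr 1
        funext i
        rcases hdi i with h | h <;> simp [h, sq]
      · have hab2 : 3 * 3 ≤ a * b := Nat.mul_le_mul (by omega) hb
        let i₀ : Fin (a * b) := ⟨0, by omega⟩
        let i₁ : Fin (a * b) := ⟨1, by omega⟩
        have h01 : i₀ ≠ i₁ := by simp [i₀, i₁]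
        set d : Fin (a * b) → F := Function.update (Function.update 1 i₀ (-1)) i₁ (-1) with hd
        have hdi : ∀ i, d i = 1 ∨ d i = -1 := fun i => by
          rcases eq_or_ne i i₁ with rfl | h
          · simp [hd]
          rcases eq_or_ne i i₀ with rfl | h' <;> simp [hd, *]
        have hprod : ∏ i, d i = 1 := by
          rw [← Finset.mul_prod_erase _ _ (Finset.mem_univ i₀), ← Finset.mul_prod_erase _ _
            (Finset.mem_erase.2 ⟨h01.symm, Finset.mem_univ i₁⟩), Finset.prod_eq_one fun k hk => by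
              simp [hd, (Finset.mem_erase.1 hk).1, (Finset.mem_erase.1 (Finset.mem_erase.1 hk).2).1]]
          simp [hd, h01]
        have h2 : (2 : F) ≠ 0 := fun h => hrp (by
          have := (CharP.cast_eq_zero_iff F p 2).1 (by exact_mod_cast h)
          exact ((Nat.prime_dvd_prime_iff_eq Fact.out Nat.prime_two).1 this).symm)
        obtain ⟨x, hx, hxv, hns, hno⟩ := bad_diag (e := e) (P := P) d 1 hprod {i₀, i₁}
          (fun i hi => by simp at hi; simp [hd, hi.1, hi.2])
          ⟨i₁, fun h => h2 (by simp [hd] at h; linear_combination -h)⟩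
          (by rw [Finset.card_pair h01]; omega) (by rw [Finset.card_pair h01]; omega) (by rw [Finset.card_pair h01]; omega)
        refine ⟨x, hx, ⟨1, ?_⟩, hns, hno⟩
        rw [hxv, diagonal_pow, one_smul, ← diagonal_one]
        congr 1
        funext i
        rcases hdi i with h | h <;> simp [h]
    · obtain ⟨x, hx, hxr, h⟩ := bad_odd (p := p) (e := e) (P := P) hq hrp hr2 ha hlt rfl
        ((hΩ.trans (Subgroup.relIndex_dvd_card _ _)).trans (Subgroup.card_subgroup_dvd_card _))
      exact ⟨x, hx, ⟨1, hxr⟩, h⟩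
  · rintro ⟨rfl, rfl, hodd, hv⟩ x hx ⟨z, hz⟩ -
    have h2 : (2 : F) ≠ 0 := fun h0 => by
      haveI := CharTwo.of_one_ne_zero_of_two_eq_zero (one_ne_zero (α := F)) h0
      have := FiniteField.even_card_of_char_two (ringChar.eq F 2)
      rw [Nat.odd_iff] at hodd; omega
    refine square_fixes h2 hq rfl (by omega) hv x ?_ (z := z) ?_
    · exact congrArg Units.val (show Matrix.GeneralLinearGroup.det x = 1 from hx)
    · rwa [Units.val_pow_eq_pow_val, pow_two] at hz

end Cfsg.Agent.S5979
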