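import Cfsg.Statements.S5980
import Cfsg.Agent.Lib.Block.TensorDerange
import Cfsg.Agent.Lib.Classical.FieldExtSympBasic

set_option autoImplicit false
open scoped MatrixGroups
open Cfsg

namespace Cfsg.Agent.S5980

open Matrix Module Polynomial Cfsg.Agent Cfsg.Agent.Block Cfsg.Agent.SelfReciprocalFactors Cfsg.Agent.FieldExtNormalizer
open scoped Kronecker

variable {F : Type*} [Field F] [Fintype F] {d a b : ℕ} {e : (Fin d ⊕ Fin d) ≃ Fin a × Fin b} {P : GL (Fin d ⊕ Fin d) F}

local notation "Mn" => Matrix (Fin d ⊕ Fin d) (Fin d ⊕ Fin d) F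

theorem diag_mem {w : Fin d ⊕ Fin d → F} (hw : ∀ i, w (Sum.inr i) * w (Sum.inl i) = 1) :
    ∃ x ∈ spGL d F, (x : Mn) = Matrix.diagonal w := by
  classical
  have hne : ∀ s, w s ≠ 0 := fun s => by
    rcases s with i | i
    · exact right_ne_zero_of_mul_eq_one (hw i)
    · exact left_ne_zero_of_mul_eq_one (hw i)
  refine ⟨Matrix.GeneralLinearGroup.mkOfDetNeZero (Matrix.diagonal w)
    (by rw [det_diagonal]; exact Finset.prod_ne_zero_iff.2 fun s _ => hne s), fun u v => ?_, rfl⟩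
  show sympForm d F (Matrix.diagonal w *ᵥ u) (Matrix.diagonal w *ᵥ v) = sympForm d F u v
  rw [Classical.sympForm_eq_sum, Classical.sympForm_eq_sum]
  refine Finset.sum_congr rfl fun i _ => ?_
  simp only [mulVec_diagonal]
  linear_combination (u (Sum.inr i) * v (Sum.inl i) - u (Sum.inl i) * v (Sum.inr i)) * hw i

theorem rank_sub (x : GL (Fin d ⊕ Fin d) F) (c : F) :
    ((x : Mn) - c • 1).rank + finrank F (eig (x : Mn) c) = d + d := by
  have h := LinearMap.finrank_range_add_finrank_ker (Matrix.toLin' ((x : Mn) - c • 1))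
  rw [Module.finrank_fintype_fun_eq_card, Fintype.card_sum, Fintype.card_fin] at h
  exact h

/-- Tensor products of isometries are isometries. -/
theorem mem_sp {f₁ : (Fin a → F) → (Fin a → F) → F} {f₂ : (Fin b → F) → (Fin b → F) → F}
    (hS : Geo.IsTensorFormStructure id (sympForm d F) f₁ f₂ e P) {y : GL (Fin d ⊕ Fin d) F} {A : Matrix (Fin a) (Fin a) F}
    {B : Matrix (Fin b) (Fin b) F}
    (hy : ∀ t, (y : Mn) *ᵥ Classical.TensorMax.coordEquiv e P t = Classical.TensorMax.coordEquiv e P ((A ⊗ₖ B) *ᵥ t))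
    (hA : Aᵀ * Geo.gramMatrix f₁ * A = Geo.gramMatrix f₁) (hB : Bᵀ * Geo.gramMatrix f₂ * B = Geo.gramMatrix f₂) :
    y ∈ spGL d F := by
  classical
  obtain ⟨c, -, hc⟩ := hS
  set G := Geo.gramMatrix f₁ ⊗ₖ Geo.gramMatrix f₂
  have hform : ∀ s t : Fin a × Fin b → F, Geo.formOfGram id G s t = s ⬝ᵥ (G *ᵥ t) := fun s t => by
    simp only [Geo.formOfGram, dotProduct, mulVec, Finset.mul_sum, id, mul_assoc]
  have hG : (A ⊗ₖ B)ᵀ * G * (A ⊗ₖ B) = G := by
    rw [← Matrix.kroneckerMap_transpose, ← Matrix.mul_kronecker_mul, ← Matrix.mul_kronecker_mul, hA, hB]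
  intro u v
  obtain ⟨s, rfl⟩ := (Classical.TensorMax.coordEquiv e P).surjective u
  obtain ⟨t, rfl⟩ := (Classical.TensorMax.coordEquiv e P).surjective v
  show sympForm d F ((y : Mn) *ᵥ _) ((y : Mn) *ᵥ _) = _
  rw [hy, hy, Classical.TensorMax.coordEquiv_apply, Classical.TensorMax.coordEquiv_apply,
    Classical.TensorMax.coordEquiv_apply, Classical.TensorMax.coordEquiv_apply, hc, hc, hform, hform]
  congr 1
  rw [mulVec_mulVec, dotProduct_comm, ← dotProduct_transpose_mulVec, mulVec_mulVec, ← mul_assoc, hG, dotProduct_comm]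

/-- Transvections avoid the stabiliser. -/
theorem bad_transvection {p : ℕ} [Fact p.Prime] [CharP F p] (hd : 1 ≤ d) (ha : 2 ≤ a) (hb : 2 ≤ b) :
    ∃ x ∈ spGL d F, ((x ^ p : GL (Fin d ⊕ Fin d) F) : Mn) = (1 : F) • 1 ∧ (∀ z : F, (x : Mn) ≠ z • 1) ∧
      ∀ g : GL (Fin d ⊕ Fin d) F, g⁻¹ * x * g ∉ Geo.tensorProductSubgroup a b e P := by
  obtain ⟨x, hx, hxp, hns, hrk⟩ := FieldExtSympBasic.exists_transvection (F := F) (p := p) hd
  have := rank_sub x 1
  exact ⟨x, hx, hxp, hns, fun g => TensorDerange.not_mem_of_rank 1 (hns 1) (by omega) (by omega)⟩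

/-- Involutions with a two-dimensional eigenspace avoid the stabiliser. -/
theorem bad_involution (h2 : (2 : F) ≠ 0) (hd : 2 ≤ d) (ha : 3 ≤ a) (hb : 3 ≤ b) :
    ∃ x ∈ spGL d F, ((x ^ 2 : GL (Fin d ⊕ Fin d) F) : Mn) = (1 : F) • 1 ∧ (∀ z : F, (x : Mn) ≠ z • 1) ∧
      ∀ g : GL (Fin d ⊕ Fin d) F, g⁻¹ * x * g ∉ Geo.tensorProductSubgroup a b e P := by
  classical
  let i₀ : Fin d := ⟨0, by omega⟩
  let i₁ : Fin d := ⟨1, by omega⟩
  set w : Fin d ⊕ Fin d → F := fun s => if Sum.elim id id s = i₀ then -1 else 1 with hw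
  have hww : ∀ s, w s * w s = 1 := fun s => by simp only [hw]; split_ifs <;> simp
  obtain ⟨x, hx, hxv⟩ := diag_mem (w := w) fun i => by simp only [hw, Sum.elim_inr, Sum.elim_inl]; exact hww (Sum.inl i)
  have hns : ∀ z : F, (x : Mn) ≠ z • 1 := fun z hz => by
    rw [hxv, smul_one_eq_diagonal, diagonal_eq_diagonal_iff] at hz
    have h0 := hz (Sum.inl i₀)
    have h1 := hz (Sum.inl i₁)
    simp [hw, i₀, i₁] at h0 h1
    exact h2 (by linear_combination h1 - h0)
  refine ⟨x, hx, ?_, hns, fun g => ?_⟩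
  · rw [Units.val_pow_eq_pow_val, hxv, diagonal_pow, one_smul, ← diagonal_one]
    congr 1
    funext s
    rw [Pi.pow_apply, sq, hww]
  · have hr : ((x : Mn) - (1 : F) • 1).rank ≤ 2 := by
      rw [hxv, smul_one_eq_diagonal, diagonal_sub, rank_diagonal, Fintype.card_subtype]
      refine (Finset.card_le_card (t := {Sum.inl i₀, Sum.inr i₀}) fun s hs => ?_).trans Finset.card_le_two
      simp only [Finset.mem_filter, Finset.mem_univ, true_and, hw] at hs
      rcases s with i | i <;> by_cases hi : i = i₀ <;> simp [hi] at hs ⊢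
    exact TensorDerange.not_mem_of_rank 1 (hns 1) (by omega) (by omega)

/-- Elements of odd order prime to the characteristic avoiding the stabiliser. -/
theorem bad_odd {p : ℕ} [Fact p.Prime] [CharP F p] {r : ℕ} [hr : Fact r.Prime] (hrp : r ≠ p) (hr2 : r ≠ 2)
    (hab : 2 * d = a * b) (hae : Even a) (ha : 2 ≤ a) (hb : 3 ≤ b) (hdvd : r ∣ Nat.card (spGL d F)) :
    ∃ x ∈ spGL d F, ((x ^ r : GL (Fin d ⊕ Fin d) F) : Mn) = (1 : F) • 1 ∧ (∀ z : F, (x : Mn) ≠ z • 1) ∧
      ∀ g : GL (Fin d ⊕ Fin d) F, g⁻¹ * x * g ∉ Geo.tensorProductSubgroup a b e P := by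
  classical
  haveI : NeZero r := ⟨hr.out.ne_zero⟩
  have hrne : (r : F) ≠ 0 := fun h => hrp
    ((Nat.prime_dvd_prime_iff_eq (Fact.out : p.Prime) hr.out).1 ((CharP.cast_eq_zero_iff F p r).1 h)).symm
  set i := orderOf (Fintype.card F : ZMod r) with hi
  have hq0 : (Fintype.card F : ZMod r) ≠ 0 := fun h0 => by
    rw [ZMod.natCast_eq_zero_iff] at h0
    obtain ⟨l, -, hl⟩ := FiniteField.card F p
    rw [hl] at h0
    exact hrp ((Nat.prime_dvd_prime_iff_eq hr.out Fact.out).1 (hr.out.dvd_of_dvd_pow h0))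
  have hrq : ¬ r ∣ Fintype.card F := fun h => hq0 ((ZMod.natCast_eq_zero_iff _ _).2 h)
  obtain ⟨t, ht⟩ : ∃ t, t * i = r - 1 := by
    obtain ⟨t, ht⟩ := ZMod.orderOf_dvd_card_sub_one hq0
    exact ⟨t, by rw [ht, mul_comm]⟩
  have h : Ctx F r i t := ⟨hr.out, hr2, hrne, hi, ht⟩
  have hc : basicDeg i ≤ d + d := by
    have e1 : spGL d F ≃ Matrix.symplecticGroup (Fin d) F :=
      Equiv.ofBijective (fun g => FieldExtSympBasic.toSymp g.1 g.2)
        ⟨fun a b hab => Subtype.ext (Units.ext (congrArg Subtype.val hab)), fun x => by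
          obtain ⟨g, hg⟩ : ∃ g : GL (Fin d ⊕ Fin d) F, (g : Mn) = x.1 :=
            (Matrix.isUnit_iff_isUnit_det _).2 (SymplecticGroup.symplectic_det x.2)
          exact ⟨⟨g, fun u v => by
            show sympForm d F (g.1 *ᵥ u) (g.1 *ᵥ v) = sympForm d F u v
            rw [hg]; exact Classical.mem_symplecticGroup_iff_form.1 x.2 u v⟩, Subtype.ext hg⟩⟩
    rw [Nat.card_congr e1, Classical.natCard_symplecticGroup, Nat.card_eq_fintype_card] at hdvd
    rcases hr.out.dvd_mul.1 hdvd with h' | h'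
    · exact absurd (hr.out.dvd_of_dvd_pow h') hrq
    · obtain ⟨j, hj, hj'⟩ := (Nat.prime_iff.1 hr.out).exists_mem_finset_dvd h'
      have h1 : 1 ≤ Fintype.card F ^ (2 * (j + 1)) := Nat.one_le_pow _ _ Fintype.card_pos
      have h4 : i ∣ 2 * (j + 1) := orderOf_dvd_of_pow_eq_one (by
        rw [← ZMod.natCast_eq_zero_iff, Nat.cast_sub h1, Nat.cast_pow, Nat.cast_one, sub_eq_zero] at hj'
        exact hj')
      rw [Finset.mem_range] at hj
      unfold basicDeg
      split_ifs with he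
      · have := Nat.le_of_dvd (by omega) h4; omega
      · have := Nat.le_of_dvd (by omega) ((Nat.coprime_two_right.2 (Nat.not_even_iff_odd.1 he)).dvd_of_dvd_mul_left h4)
        omega
  obtain ⟨f, hf⟩ : (factorSet F r).Nonempty := Finset.card_pos.1 (by
    rw [card_factorSet h]
    rcases Nat.eq_zero_or_pos t with rfl | h'
    · have := hr.out.two_le; omega
    · exact h')
  obtain ⟨x, hx, hxr, hns, hxP⟩ := FieldExtSympBasic.exists_witness h hf hc
  obtain ⟨hum, hud, -⟩ := basic_data h hf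
  have hu1 : (basic i f).eval 1 ≠ 0 := fun h0 => by
    rcases eq_or_eq_of_dvd_basic h hf (monic_X_sub_C 1) (irreducible_X_sub_C 1) (dvd_iff_isRoot.2 h0) with e' | e'
    · exact X_sub_one_notMem h (e' ▸ hf)
    · exact X_sub_one_notMem h (e' ▸ (rdual_mem h hf).1)
  have husep : (basic i f).Separable := by
    obtain ⟨hfm, hfi, -, -⟩ := mem_data h hf
    obtain ⟨hgm, hgi, -, -⟩ := mem_data h (rdual_mem h hf).1
    unfold basic
    split_ifs with he
    · exact PerfectField.separable_of_irreducible hfi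
    · exact (PerfectField.separable_of_irreducible hfi).mul (PerfectField.separable_of_irreducible hgi)
        (hfi.coprime_iff_not_dvd.2 fun hd' => he ((rdual_mem h hf).2.1
          (Polynomial.eq_of_monic_of_associated hfm hgm (hfi.associated_of_dvd hgi hd')).symm))
  refine ⟨x, hx, hxr, hns, fun g hg => ?_⟩
  obtain ⟨A, B, k, w, hk, hw⟩ := TensorDerange.mem_tensor hg
  have hkp := TensorDerange.pow_eq_one hw (Units.ext (by rw [hxr, one_smul, Units.val_one]))
  rw [hk] at hkp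
  have hne : (A : Matrix (Fin a) (Fin a) F) ⊗ₖ (B : Matrix (Fin b) (Fin b) F) ≠ 1 := fun h =>
    hns 1 (TensorDerange.eq_scalar hw (by rw [hk, h, one_smul]))
  obtain ⟨hAns, hba, hbb⟩ := TensorDerange.bound (p := p) hr.out hrp ha (by omega) hkp hum husep hu1
    (by rw [hud]; exact basicDeg_pos h) (f := d + d - basicDeg i) (by rw [← hk, ← TensorDerange.charpoly_eq hw, hxP])
  have hib : i ≤ max a b := TensorDerange.exists_le rfl hr.out hrq A B hkp hne
  rw [hud] at hba hbb
  have hm : basicDeg i ≤ 2 * i := by unfold basicDeg; split_ifs <;> omega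
  by_cases ha2 : a = 2
  · have hi2 : i ≤ 2 := by
      by_contra hcon
      have hnd : ¬ r ∣ Nat.card (GL (Fin a) F) := fun hd' =>
        hcon (ha2 ▸ LinearDecompDerange.le_of_dvd rfl hr.out hrq hd')
      have hk' : ∀ n : ℕ, ((A : Matrix (Fin a) (Fin a) F) ⊗ₖ (B : Matrix (Fin b) (Fin b) F)) ^ n =
          ((A : Matrix (Fin a) (Fin a) F) ^ n) ⊗ₖ ((B : Matrix (Fin b) (Fin b) F) ^ n) := fun n => by
        induction n with
        | zero => simp
        | succ n ih => rw [pow_succ, ih, ← Matrix.mul_kronecker_mul, ← pow_succ, ← pow_succ]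
      obtain ⟨μ, -, hμ⟩ := TensorDerange.left_scalar (by omega) (by omega) ((hk' r).symm.trans hkp)
      obtain ⟨m, hm'⟩ := exists_pow_eq_self_of_coprime (x := A) (n := r)
        ((hr.out.coprime_iff_not_dvd.2 hnd).coprime_dvd_right (orderOf_dvd_natCard A))
      refine hAns (μ ^ m) ?_
      conv_lhs => rw [← hm', Units.val_pow_eq_pow_val, Units.val_pow_eq_pow_val, hμ, _root_.smul_pow, one_pow]
    have hm2 : basicDeg i ≤ 2 := by unfold basicDeg; split_ifs with he <;> (try rw [Nat.even_iff] at he) <;> omega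
    subst ha2
    omega
  · have ha4 : 4 ≤ a := by rw [Nat.even_iff] at hae; omega
    rcases le_total a b with h' | h'
    · rw [max_eq_right h'] at hib; nlinarith
    · rw [max_eq_left h'] at hib; nlinarith

/-- Every element with a scalar square has a conjugate in the stabiliser. -/
theorem square_fixes {p : ℕ} [Fact p.Prime] [CharP F p] (h2 : (2 : F) ≠ 0) {e : (Fin d ⊕ Fin d) ≃ Fin 2 × Fin b}
    (hdb : d = b) {f₁ : (Fin 2 → F) → (Fin 2 → F) → F} {f₂ : (Fin b → F) → (Fin b → F) → F}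
    (hf₁ : Geo.IsSymplecticForm f₁) (hf₂ : Geo.IsSymmetricForm f₂)
    (hS : Geo.IsTensorFormStructure id (sympForm d F) f₁ f₂ e P) (hd : 1 ≤ d)
    {x : GL (Fin d ⊕ Fin d) F} (hx : x ∈ spGL d F) {z : F} (hxz : (x : Mn) * (x : Mn) = z • 1) :
    ∃ g ∈ spGL d F, g⁻¹ * x * g ∈ Geo.tensorProductSubgroup 2 b e P := by
  classical
  have hz' : z = 1 ∨ z = -1 := by
    obtain ⟨v, hv⟩ : ∃ v : Fin d ⊕ Fin d → F, v ≠ 0 :=
      ⟨Pi.single (Sum.inl ⟨0, hd⟩) 1, fun e' => by simpa using congrFun e' (Sum.inl ⟨0, hd⟩)⟩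
    obtain ⟨u, hu⟩ := Classical.exists_sympForm_eq_one hv
    have h1 : sympForm d F (((x * x : GL _ F) : Mn) *ᵥ v) (((x * x : GL _ F) : Mn) *ᵥ u) = 1 :=
      ((mul_mem hx hx) v u).trans hu
    rw [Units.val_mul, hxz] at h1
    simp only [Matrix.smul_mulVec, Matrix.one_mulVec, Classical.sympForm_smul_left, Classical.sympForm_smul_right, hu,
      mul_one] at h1
    exact mul_self_eq_one_iff.1 h1
  suffices h : ∃ y ∈ Geo.tensorProductSubgroup 2 b e P, y ∈ spGL d F ∧ (y : Mn) * (y : Mn) = z • 1 ∧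
      (x : Mn).charpoly = (y : Mn).charpoly by
    obtain ⟨y, hyH, hy, hy2, hch⟩ := h
    obtain ⟨g, hg, hgy⟩ := FieldExtSympBasic.exists_conj (p := p) h2 hx hy hz' hxz hy2 hch
    exact ⟨g, hg, hgy ▸ hyH⟩
  have hsq : ∀ (A : Matrix (Fin 2) (Fin 2) F) (B : Matrix (Fin b) (Fin b) F) (y : GL (Fin d ⊕ Fin d) F),
      (∀ t, (y : Mn) *ᵥ Classical.TensorMax.coordEquiv e P t = Classical.TensorMax.coordEquiv e P ((A ⊗ₖ B) *ᵥ t)) →
      (A * A) ⊗ₖ (B * B) = z • 1 → (y : Mn) * (y : Mn) = z • 1 := by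
    intro A B y hy hAB
    refine Matrix.ext_iff_mulVec.2 fun v => ?_
    obtain ⟨t, rfl⟩ := (Classical.TensorMax.coordEquiv e P).surjective v
    rw [← mulVec_mulVec, hy, hy, mulVec_mulVec, ← mul_kronecker_mul, hAB, smul_mulVec, smul_mulVec, one_mulVec,
      one_mulVec, map_smul]
  have hG1 : ∀ i, Geo.gramMatrix f₁ i i = 0 := fun i => hf₁.alternating _
  have hG1' : Geo.gramMatrix f₁ 1 0 = -Geo.gramMatrix f₁ 0 1 := hf₁.skew _ _
  rcases hz' with rfl | rfl
  · obtain ⟨k₂, hk₂⟩ := FieldExtSympBasic.symp_one_eig x hx (by rw [hxz, one_smul]) h2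
    have hle : finrank F (eig (x : Mn) (-1)) ≤ d + d := by
      have := Submodule.finrank_le (eig (x : Mn) (-1))
      rwa [Module.finrank_fintype_fun_eq_card, Fintype.card_sum, Fintype.card_fin] at this
    set G := Geo.gramMatrix f₂
    have hGs : Gᵀ = G := by ext i j; exact hf₂.symm _ _
    haveI : Invertible (2 : F) := invertibleOfNonzero h2
    obtain ⟨v, hv⟩ := LinearMap.BilinForm.exists_orthogonal_basis (B := Matrix.toBilin' G)
      ⟨fun s t => by
        rw [RingHom.id_apply, Matrix.toBilin'_apply', Matrix.toBilin'_apply', dotProduct_mulVec, ← mulVec_transpose, hGs,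
          dotProduct_comm]⟩
    let v' := v.reindex (finCongr (Module.finrank_fin_fun F))
    let U : Matrix (Fin b) (Fin b) F := Matrix.of fun i j => v' j i
    have hU : IsUnit U := by
      have h : U = (Pi.basisFun F (Fin b)).toMatrix v' := by ext i j; simp [U, Basis.toMatrix_apply]
      rw [h]
      haveI := (Pi.basisFun F (Fin b)).invertibleToMatrix v'
      exact isUnit_of_invertible _
    obtain ⟨U', hU'⟩ := hU
    have hD : (Uᵀ * G * U).IsDiag := fun i j hij => by
      have h : Matrix.toBilin' G (v' i) (v' j) = 0 := by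
        simp only [v', Module.Basis.reindex_apply]
        exact hv fun h => hij ((finCongr (Module.finrank_fin_fun F)).symm.injective h)
      rw [Matrix.toBilin'_apply'] at h
      show (Uᵀ * G * U) i j = 0
      rw [← h, mul_assoc, Matrix.mul_apply]
      simp only [dotProduct, mulVec, Matrix.mul_apply, Matrix.transpose_apply, U, Matrix.of_apply]
    let δ : Fin b → F := fun l => if l.val < k₂ then -1 else 1
    have hδ : ∀ l, δ l * δ l = 1 := fun l => by simp only [δ]; split_ifs <;> simp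
    have hδ2 : Matrix.diagonal δ * Matrix.diagonal δ = 1 := by
      rw [diagonal_mul_diagonal, ← diagonal_one]; exact congrArg _ (funext hδ)
    set B : Matrix (Fin b) (Fin b) F := U * Matrix.diagonal δ * ((U'⁻¹ : GL (Fin b) F) : Matrix (Fin b) (Fin b) F) with hB
    have hUi : ((U'⁻¹ : GL (Fin b) F) : Matrix (Fin b) (Fin b) F) * U = 1 := by rw [← hU', Units.inv_mul]
    have hUi' : U * ((U'⁻¹ : GL (Fin b) F) : Matrix (Fin b) (Fin b) F) = 1 := by rw [← hU', Units.mul_inv]
    have hBB : B * B = 1 := by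
      rw [hB, mul_assoc, ← mul_assoc _ (U * Matrix.diagonal δ), ← mul_assoc _ U, hUi, one_mul, mul_assoc U,
        ← mul_assoc (Matrix.diagonal δ), hδ2, one_mul, hUi']
    have hBG : Bᵀ * G * B = G := by
      set W := ((U'⁻¹ : GL (Fin b) F) : Matrix (Fin b) (Fin b) F)
      set D := Uᵀ * G * U with hDdef
      have hGD : G = Wᵀ * D * W := by
        rw [hDdef, show Wᵀ * (Uᵀ * G * U) * W = (U * W)ᵀ * G * (U * W) by simp only [transpose_mul, mul_assoc], hUi',
          transpose_one, one_mul, mul_one]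
      have hcomm : Matrix.diagonal δ * D * Matrix.diagonal δ = D := by
        rw [← hD.diagonal_diag, diagonal_mul_diagonal, diagonal_mul_diagonal]
        exact congrArg _ (funext fun l => by rw [mul_right_comm, hδ, one_mul])
      calc Bᵀ * G * B = Wᵀ * (Matrix.diagonal δ * D * Matrix.diagonal δ) * W := by
            simp only [hB, hDdef, transpose_mul, diagonal_transpose, mul_assoc]
        _ = G := by rw [hcomm, ← hGD]
    let Bu : GL (Fin b) F := ⟨B, B, hBB, hBB⟩
    obtain ⟨y, hyH, hyv⟩ := TensorDerange.exists_mem e P (1 : GL (Fin 2) F) Bu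
    refine ⟨y, hyH, mem_sp hS hyv (by simp) hBG, hsq _ _ y hyv (by simp [Bu, hBB]), ?_⟩
    rw [FieldExtSympBasic.charpoly_of_sq_one (by rw [hxz, one_smul]),
      TensorDerange.charpoly_of_mem e P y _ hyv]
    set S : Matrix (Fin 2 × Fin b) (Fin 2 × Fin b) F := (1 : Matrix (Fin 2) (Fin 2) F) ⊗ₖ U
    set S₁ : Matrix (Fin 2 × Fin b) (Fin 2 × Fin b) F :=
      (1 : Matrix (Fin 2) (Fin 2) F) ⊗ₖ ((U'⁻¹ : GL (Fin b) F) : Matrix (Fin b) (Fin b) F)
    let Su : GL (Fin 2 × Fin b) F := ⟨S, S₁, by rw [← mul_kronecker_mul, one_mul, hUi', one_kronecker_one],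
      by rw [← mul_kronecker_mul, one_mul, hUi, one_kronecker_one]⟩
    have hconj : ((1 : GL (Fin 2) F) : Matrix (Fin 2) (Fin 2) F) ⊗ₖ (Bu : Matrix (Fin b) (Fin b) F) =
        (Su : Matrix _ _ F) * Matrix.diagonal (fun s : Fin 2 × Fin b => δ s.2) * ((Su⁻¹ : GL (Fin 2 × Fin b) F) : Matrix _ _ F) := by
      show (1 : Matrix (Fin 2) (Fin 2) F) ⊗ₖ B = S * _ * S₁
      rw [show Matrix.diagonal (fun s : Fin 2 × Fin b => δ s.2) = (1 : Matrix (Fin 2) (Fin 2) F) ⊗ₖ Matrix.diagonal δ by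
        rw [← diagonal_one, diagonal_kronecker_diagonal]; simp, ← mul_kronecker_mul, ← mul_kronecker_mul, hB]
      simp
    rw [hconj, Matrix.coe_units_inv, Matrix.charpoly_units_conj, charpoly_diagonal, Fintype.prod_prod_type,
      Fin.prod_univ_two]
    rw [← Finset.prod_filter_mul_prod_filter_not Finset.univ (fun l : Fin b => l.val < k₂),
      Finset.prod_congr rfl fun l hl => by
        rw [show δ l = -1 by simp only [δ]; rw [if_pos (Finset.mem_filter.1 hl).2]],
      Finset.prod_const, Fin.card_filter_val_lt, min_eq_right (by omega),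
      Finset.prod_congr (s₁ := Finset.univ.filter fun l : Fin b => ¬ l.val < k₂) rfl fun l hl => by
        rw [show δ l = 1 by simp only [δ]; rw [if_neg (Finset.mem_filter.1 hl).2]],
      Finset.prod_const, Finset.filter_not, Finset.card_sdiff_of_subset (Finset.filter_subset _ _), Finset.card_univ,
      Fintype.card_fin, Fin.card_filter_val_lt, min_eq_right (by omega), hk₂,
      show d + d - (k₂ + k₂) = (b - k₂) + (b - k₂) by omega, pow_add, pow_add]
    ring
  · set J : GL (Fin 2) F := Matrix.GeneralLinearGroup.mkOfDetNeZero !![0, -1; 1, 0] (by simp [det_fin_two]) with hJ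
    have hJv : (J : Matrix (Fin 2) (Fin 2) F) = !![0, -1; 1, 0] := rfl
    obtain ⟨y, hyH, hyv⟩ := TensorDerange.exists_mem e P J (1 : GL (Fin b) F)
    have hJJ : (J : Matrix (Fin 2) (Fin 2) F) * (J : Matrix (Fin 2) (Fin 2) F) = (-1 : F) • 1 := by
      rw [hJv]; ext i j; fin_cases i <;> fin_cases j <;> simp
    have hy2 := hsq _ _ y hyv (by rw [hJJ, Units.val_one, mul_one, smul_kronecker, one_kronecker_one])
    have hy : y ∈ spGL d F := mem_sp hS hyv (by
      rw [hJv]
      ext i j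
      fin_cases i <;> fin_cases j <;> simp [Matrix.mul_apply, Fin.sum_univ_two, hG1, hG1']) (by simp)
    exact ⟨y, hyH, hy, hy2, (FieldExtSympBasic.charpoly_of_sq_neg_one (M := x.1) hx h2 hxz).trans
      (FieldExtSympBasic.charpoly_of_sq_neg_one (M := y.1) hy h2 hy2).symm⟩


/-- Elements of prime order of PSp_n(q), q odd, and the stabilizers of tensor decompositions Sp_a(q) ⊗ O_b(q). Here `T = PSp_{2d}(F)` for a field `F` with `q` elements, `q` odd, `d ≥ 2`, realised through the matrices preserving the standard alternating form `f`; `2d = a·b` with `a` even, `b ≥ 3`, and the bijection `e` and change of basis `P` exhibit `f` as a non-zero scalar multiple of the tensor product of a non-degenerate alternating form `f₁` on `F^a` and a non-degenerate symmetric bilinear form `f₂` on `F^b`; `H` is the subgroup of `T` stabilizing this tensor decomposition (the elements of `T` in the conjugate by `P` of the group of Kronecker products) — a subgroup of type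 Sp_a(q) ⊗ O^ε_b(q) (maximality is not assumed). Ω is the set of cosets of `H` in `T`, so an element of `T` of prime order `r` (`x ∈ T` with `x^r` scalar, `x` not scalar) fixes a point of Ω exactly when some `T`-conjugate of `x` lies in `H`. Let `r` be a prime dividing the index of `H`. Then every element of `T` of order `r` fixes a point of Ω if and only if `r = 2` and `a = 2`. -/
theorem result {F : Type*} [Field F] [Fintype F] {p : ℕ} [Fact p.Prime] [CharP F p] {q : ℕ} (hq : Fintype.card F = q)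
    (hodd : Odd q) (d : ℕ) (hd : 2 ≤ d) (a b : ℕ) (hab : 2 * d = a * b) (ha : Even a) (ha2 : 2 ≤ a) (hb : 3 ≤ b)
    (e : (Fin d ⊕ Fin d) ≃ Fin a × Fin b) (P : GL (Fin d ⊕ Fin d) F)
    (f₁ : (Fin a → F) → (Fin a → F) → F) (f₂ : (Fin b → F) → (Fin b → F) → F)
    (hf₁ : Cfsg.Geo.IsSymplecticForm f₁) (hf₂ : Cfsg.Geo.IsSymmetricForm f₂)
    (hS : Cfsg.Geo.IsTensorFormStructure id (Cfsg.sympForm d F) f₁ f₂ e P)
    (r : ℕ) [Fact r.Prime]
    (hΩ : r ∣ (Cfsg.Geo.tensorProductSubgroup a b e P).relIndex (Cfsg.spGL d F)) :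
    (∀ x ∈ Cfsg.spGL d F, (∃ z : F, ((x ^ r : GL (Fin d ⊕ Fin d) F) : Matrix (Fin d ⊕ Fin d) (Fin d ⊕ Fin d) F) = z • (1 : Matrix (Fin d ⊕ Fin d) (Fin d ⊕ Fin d) F)) →
      (∀ z : F, (x : Matrix (Fin d ⊕ Fin d) (Fin d ⊕ Fin d) F) ≠ z • (1 : Matrix (Fin d ⊕ Fin d) (Fin d ⊕ Fin d) F)) →
      ∃ g ∈ Cfsg.spGL d F, g⁻¹ * x * g ∈ Cfsg.Geo.tensorProductSubgroup a b e P) ↔ (r = 2 ∧ a = 2) := by
  classical
  have hp2 : p ≠ 2 := fun h => by
    obtain ⟨l, -, hl⟩ := FiniteField.card F p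
    rw [← hq, hl, h] at hodd
    exact (Nat.not_odd_iff_even.2 (Even.pow_of_ne_zero even_two l.ne_zero)) hodd
  have h2 : (2 : F) ≠ 0 := fun h => hp2 ((Nat.prime_dvd_prime_iff_eq Fact.out Nat.prime_two).1
    ((CharP.cast_eq_zero_iff F p 2).1 (by exact_mod_cast h)))
  constructor
  · intro H
    by_contra hneg
    suffices hbad : ∃ x ∈ spGL d F,
        (∃ z : F, ((x ^ r : GL (Fin d ⊕ Fin d) F) : Matrix (Fin d ⊕ Fin d) (Fin d ⊕ Fin d) F) = z • 1) ∧
        (∀ z : F, (x : Matrix (Fin d ⊕ Fin d) (Fin d ⊕ Fin d) F) ≠ z • 1) ∧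
        ∀ g : GL (Fin d ⊕ Fin d) F, g⁻¹ * x * g ∉ Cfsg.Geo.tensorProductSubgroup a b e P by
      obtain ⟨x, hx, hz, hns, hno⟩ := hbad
      obtain ⟨g, -, hg⟩ := H x hx hz hns
      exact hno g hg
    rcases eq_or_ne r p with rfl | hrp
    · obtain ⟨x, hx, hxp, h⟩ := bad_transvection (p := r) (e := e) (P := P) (by omega) ha2 (by omega)
      exact ⟨x, hx, ⟨1, hxp⟩, h⟩
    rcases eq_or_ne r 2 with rfl | hr2
    · have ha' : a ≠ 2 := fun h => hneg ⟨rfl, h⟩
      obtain ⟨x, hx, hxp, h⟩ := bad_involution (e := e) (P := P) h2 hd (by omega) hb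
      exact ⟨x, hx, ⟨1, hxp⟩, h⟩
    · obtain ⟨x, hx, hxp, h⟩ := bad_odd (p := p) (e := e) (P := P) hrp hr2 hab ha ha2 hb
        (hΩ.trans (Subgroup.relIndex_dvd_card _ _))
      exact ⟨x, hx, ⟨1, hxp⟩, h⟩
  · rintro ⟨rfl, rfl⟩ x hx ⟨z, hz⟩ -
    exact square_fixes (p := p) h2 (by omega) hf₁ hf₂ hS (by omega) hx (z := z)
      (by rwa [Units.val_pow_eq_pow_val, pow_two] at hz)

end Cfsg.Agent.S5980
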