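import Cfsg.Statements.S5982
import Cfsg.Agent.Lib.Classical.UnitarySimilitudeDerange
import Cfsg.Agent.Lib.Classical.MaxUnitary
import Cfsg.Agent.S5981
import Cfsg.Agent.S5964
-- import your own Cfsg.Agent.* helpers here

set_option autoImplicit false
open scoped MatrixGroups
open Cfsg Cfsg.Agent

namespace Cfsg.Agent.S5982
open Matrix Module Cfsg.Agent.Classical Cfsg.Geo

variable {F : Type*} [Field F] [Fintype F] {n : ℕ} {σ : F ≃+* F}

/-- An element none of whose conjugates is a similitude. -/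
theorem no_sim {ι : Type} [Fintype ι] [DecidableEq ι] (hinv : ∀ a, σ (σ a) = a) {f : (Fin n → F) → (Fin n → F) → F}
    (hs : Asch.Sesq σ f) (hh : ∀ u v, f u v = σ (f v u)) (hn : IsNondegenerateForm f) (hn0 : 0 < n)
    (e : Fin n ≃ ι) {r : ℕ} (X : Matrix ι ι F) (hdet : X.det = 1) {z : F} (hX : X ^ r = z • 1)
    (hns : ∀ w : F, X ≠ w • 1)
    (key : ∀ (f' : (ι → F) → (ι → F) → F) (c : F), Asch.Sesq σ f' → IsNondegenerateForm f' → c ≠ 0 → σ c = c →
      c ^ r = z * σ z → (∀ u v, f' (X *ᵥ u) (X *ᵥ v) = c * f' u v) → False)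
    (H : ∀ x ∈ Geo.specialLinear (Fin n) F,
      (∃ z : F, ((x ^ r : GL (Fin n) F) : Matrix (Fin n) (Fin n) F) = z • (1 : Matrix (Fin n) (Fin n) F)) →
      (∀ z : F, (x : Matrix (Fin n) (Fin n) F) ≠ z • (1 : Matrix (Fin n) (Fin n) F)) →
      ∃ g ∈ Geo.specialLinear (Fin n) F, g⁻¹ * x * g ∈ Geo.similarityGroup f) : False := by
  classical
  let Φ : Matrix ι ι F ≃ₐ[F] Matrix (Fin n) (Fin n) F := Matrix.reindexAlgEquiv F F e.symm
  obtain ⟨x, hxv⟩ : ∃ x : GL (Fin n) F, (x : Matrix (Fin n) (Fin n) F) = Φ X :=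
    ⟨Matrix.GeneralLinearGroup.mkOfDetNeZero (Φ X) (by
      show (Matrix.reindexAlgEquiv F F e.symm X).det ≠ 0
      rw [Matrix.det_reindexAlgEquiv, hdet]; exact one_ne_zero), rfl⟩
  obtain ⟨g, -, ⟨c, hc⟩⟩ := H x (by
      show Matrix.GeneralLinearGroup.det x = 1
      refine Units.ext ?_
      show (x : Matrix (Fin n) (Fin n) F).det = 1
      rw [hxv]
      show (Matrix.reindexAlgEquiv F F e.symm X).det = 1
      rw [Matrix.det_reindexAlgEquiv, hdet])
    ⟨z, by rw [Units.val_pow_eq_pow_val, hxv, ← map_pow, hX, map_smul, map_one]⟩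
    (fun w hw => hns w (Φ.injective (by rw [← hxv, hw, map_smul, map_one])))
  let T : (Fin n → F) ≃ₗ[F] (Fin n → F) := (Matrix.GeneralLinearGroup.toLin g⁻¹).toLinearEquiv
  have hT : ∀ v, T v = ((g⁻¹ : GL (Fin n) F) : Matrix (Fin n) (Fin n) F) *ᵥ v := fun v => rfl
  let E : (ι → F) ≃ₗ[F] (Fin n → F) := (LinearEquiv.funCongrLeft F F e).trans T
  have hE : ∀ w, E w = ((g⁻¹ : GL (Fin n) F) : Matrix (Fin n) (Fin n) F) *ᵥ (w ∘ e) := fun w => hT _
  let f' : (ι → F) → (ι → F) → F := fun u v => f (E u) (E v)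
  have hXE : ∀ w, E (X *ᵥ w) = ((g⁻¹ * x * g : GL (Fin n) F) : Matrix (Fin n) (Fin n) F) *ᵥ E w := fun w => by
    have e1 : (X *ᵥ w) ∘ e = (x : Matrix (Fin n) (Fin n) F) *ᵥ (w ∘ e) := by
      rw [hxv]
      show _ = (Matrix.reindex e.symm e.symm X) *ᵥ (w ∘ e)
      rw [Matrix.reindex_apply, submatrix_mulVec_equiv]
      simp [Function.comp_assoc]
    rw [hE, hE, mulVec_mulVec, ← Units.val_mul, show g⁻¹ * x * g * g⁻¹ = g⁻¹ * x by group, Units.val_mul,
      ← mulVec_mulVec, e1]
  have hiso : ∀ u v, f' (X *ᵥ u) (X *ᵥ v) = c * f' u v := fun u v => by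
    show f (E (X *ᵥ u)) (E (X *ᵥ v)) = _
    rw [hXE, hXE, hc]
  have hs' : Asch.Sesq σ f' :=
    ⟨fun x y w => by simp only [f', map_add, hs.add_left], fun c x w => by simp only [f', map_smul, hs.smul_left],
      fun w x y => by simp only [f', map_add, hs.add_right], fun c w x => by simp only [f', map_smul, hs.smul_right]⟩
  have hn' : IsNondegenerateForm f' := fun v hv => by
    obtain ⟨⟨a, ha⟩, ⟨b, hb⟩⟩ := hn (E v) (fun h => hv (E.map_eq_zero_iff.1 h))
    exact ⟨⟨E.symm a, by simpa [f'] using ha⟩, ⟨E.symm b, by simpa [f'] using hb⟩⟩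
  haveI : Nonempty ι := ⟨e ⟨0, hn0⟩⟩
  obtain ⟨u, v, huv⟩ : ∃ u v, f' u v ≠ 0 := by
    obtain ⟨-, w, hw⟩ := hn' (fun _ => 1) (fun h => one_ne_zero (congrFun h (Classical.arbitrary ι)))
    exact ⟨_, _, hw⟩
  have hherm : ∀ a b, f' a b = σ (f' b a) := fun a b => hh _ _
  have hσc : σ (c : F) = c := by
    have h1 := congrArg σ (hiso u v)
    rw [map_mul, ← hherm, ← hherm, hiso] at h1
    have hne : f' v u ≠ 0 := fun h0 => huv (by rw [hherm, h0, map_zero])
    exact (mul_right_cancel₀ hne h1).symm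
  refine key f' c hs' hn' c.ne_zero hσc ?_ hiso
  have hk : ∀ (k : ℕ) a b, f' ((X ^ k) *ᵥ a) ((X ^ k) *ᵥ b) = (c : F) ^ k * f' a b := fun k => by
    induction k with
    | zero => intro a b; simp
    | succ k ih => intro a b; rw [pow_succ, ← mulVec_mulVec, ← mulVec_mulVec, ih, hiso, pow_succ]; ring
  have h := hk r u v
  rw [hX, smul_mulVec, smul_mulVec, one_mulVec, one_mulVec, hs'.smul_left, hs'.smul_right, ← mul_assoc] at h
  exact (mul_right_cancel₀ huv h).symm

/-- The multiplicities of a diagonal similitude. -/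
theorem count_pair {ι : Type} [Fintype ι] [DecidableEq ι] [DecidableEq F] {f : (ι → F) → (ι → F) → F}
    (hs : Asch.Sesq σ f) (hn : IsNondegenerateForm f) (dg : ι → F) (hd : ∀ i, dg i ≠ 0) {c : F}
    (hiso : ∀ u v, f (Matrix.diagonal dg *ᵥ u) (Matrix.diagonal dg *ᵥ v) = c * f u v) {a : F} (ha : a ≠ 0) :
    (Finset.univ.filter fun i => dg i = a).card = (Finset.univ.filter fun i => dg i = c / σ a).card := by
  classical
  have hfG : f = formOfGram σ (gramMatrix f) := funext fun u => funext fun v => hs.eq_gram u v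
  set G := gramMatrix f
  have hG : IsUnit G.det := (Matrix.isUnit_iff_isUnit_det _).1 (Asch.gram_isUnit σ (hfG ▸ hn))
  set D := Matrix.diagonal dg
  have hDm : D.map σ = Matrix.diagonal fun i => σ (dg i) := Matrix.diagonal_map (map_zero σ)
  have hDG : D * (G * Matrix.diagonal fun i => σ (dg i)) = c • G := by
    rw [← hDm]
    have h : Dᵀ * (G * D.map σ) = c • G := Asch.gram_inj σ fun u v => by
      rw [← Asch.formOfGram_mulVec, Asch.formOfGram_smul, ← hfG]
      exact hiso u v
    rwa [diagonal_transpose] at h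
  have hσa : σ a ≠ 0 := fun h => ha (σ.injective (h.trans (map_zero σ).symm))
  have he : D * G * (Matrix.diagonal fun i => σ (dg i) - σ a) =
      (-σ a) • ((Matrix.diagonal fun i => dg i - c / σ a) * G) := by
    rw [← diagonal_sub, ← diagonal_sub, mul_sub, mul_assoc D G (Matrix.diagonal fun i => σ (dg i)), hDG,
      ← smul_one_eq_diagonal, ← smul_one_eq_diagonal, sub_mul, Matrix.mul_smul, Matrix.mul_one, Matrix.smul_mul,
      Matrix.one_mul, smul_sub, smul_smul, neg_smul, neg_mul, mul_div_cancel₀ _ hσa, neg_smul, sub_neg_eq_add,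
      neg_add_eq_sub]
  have h := congrArg Matrix.rank he
  rw [rank_mul_eq_right_of_isUnit_det _ _ (by
      rw [det_mul]; exact (by rw [det_diagonal]; exact isUnit_iff_ne_zero.2 (Finset.prod_ne_zero_iff.2 fun i _ => hd i) :
        IsUnit D.det).mul hG),
    ← Matrix.mul_smul, rank_mul_eq_left_of_isUnit_det _ _ (by
      rw [det_smul]; exact (isUnit_iff_ne_zero.2 (pow_ne_zero _ (neg_ne_zero.2 hσa))).mul hG),
    rank_diagonal, rank_diagonal, Fintype.card_subtype_compl, Fintype.card_subtype_compl] at h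
  have h1 := Fintype.card_subtype_le fun i => σ (dg i) - σ a = 0
  have h2 := Fintype.card_subtype_le fun i => dg i - c / σ a = 0
  rw [Fintype.card_subtype] at h1 h2
  rw [Fintype.card_subtype, Fintype.card_subtype] at h
  simp only [sub_eq_zero, EmbeddingLike.apply_eq_iff_eq] at h h1 h2
  omega

theorem cast_gl_prod (q : ℕ) (n : ℕ) :
    ∏ i ∈ Finset.range n, (((q : ℤ) ^ 2) ^ (i + 1) - 1) =
      (∏ i ∈ Finset.range n, ((q : ℤ) ^ (i + 1) + (-1) ^ i)) * ∏ i ∈ Finset.range n, ((q : ℤ) ^ (i + 1) - (-1) ^ i) := by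
  rw [← Finset.prod_mul_distrib]
  refine Finset.prod_congr rfl fun i _ => ?_
  rw [← pow_mul, show 2 * (i + 1) = (i + 1) * 2 by ring, pow_mul]
  have : ((-1 : ℤ) ^ i) ^ 2 = 1 := by rw [← pow_mul, mul_comm, pow_mul, neg_one_sq, one_pow]
  linear_combination this

/-- A prime dividing the index divides some `q₀^i + (-1)^i`. -/
theorem index_prime {q₀ : ℕ} (hF : Fintype.card F = q₀ ^ 2) (hσ : ∀ a, σ a = a ^ q₀) {n : ℕ} (hn : 2 ≤ n)
    {f : (Fin n → F) → (Fin n → F) → F} (hf : IsUnitaryFormPow q₀ f) {r : ℕ} (hr : r.Prime) (hrq : ¬ r ∣ q₀)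
    (hΩ : r ∣ (Geo.similarityGroup f).relIndex (Geo.specialLinear (Fin n) F)) :
    ∃ i, 2 ≤ i ∧ i ≤ n ∧ (r : ℤ) ∣ (q₀ : ℤ) ^ i + (-1) ^ i := by
  classical
  have hinv : ∀ a, σ (σ a) = a := fun a => by rw [hσ, hσ, ← pow_mul, ← sq, ← hF, FiniteField.pow_card]
  have hne : σ ≠ RingEquiv.refl F := fun h => qFrob_ne_id hF (RingHom.ext fun a => by
    rw [qFrob_apply, ← hσ, h]; rfl)
  have hs : Asch.Sesq σ f := ⟨hf.add_left, hf.smul_left,
    fun v x y => by rw [hf.herm v, hf.add_left, ← hσ, map_add, hσ, hσ, ← hf.herm, ← hf.herm],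
    fun c v x => by rw [hf.herm v, hf.smul_left, ← hσ, map_mul, hσ (f x v), ← hf.herm]⟩
  obtain ⟨L, hL⟩ := UnitarySimilitudeDerange.exists_isometry (ι := Fin n) (κ := Fin n) hne hinv rfl
    (Asch.sesq_formOfGram σ (1 : Matrix (Fin n) (Fin n) F)) (fun u v => by
      rw [hσ]; exact (Asch.unitaryFormPow_of_gram hσ hinv isUnit_one (by
        rw [Matrix.transpose_one, Matrix.map_one σ (map_zero σ) (map_one σ)])).herm u v)
    (Asch.gram_nondeg σ isUnit_one) hs (fun u v => by rw [hσ]; exact hf.herm u v) hf.nondegenerate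
  obtain ⟨T, hT⟩ := OrthAut.exists_gl_of_linearEquiv L
  set S := Geo.specialLinear (Fin n) F
  set H := Geo.similarityGroup f
  let ψ : SU n F q₀ →* H.subgroupOf S :=
    { toFun := fun g => ⟨⟨T * Matrix.SpecialLinearGroup.toGL g.1 * T⁻¹, by
          show Matrix.GeneralLinearGroup.det (T * Matrix.SpecialLinearGroup.toGL g.1 * T⁻¹) = 1
          rw [map_mul, map_mul, map_inv, mul_comm, inv_mul_cancel_left]
          exact Units.ext g.1.2⟩, 1, fun u v => by
          have key : ∀ w, ((T * Matrix.SpecialLinearGroup.toGL g.1 * T⁻¹ : GL (Fin n) F) : Matrix (Fin n) (Fin n) F) *ᵥ w =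
              L ((g.1 : Matrix (Fin n) (Fin n) F) *ᵥ L.symm w) := fun w => by
            have h0 : ((T⁻¹ : GL (Fin n) F) : Matrix (Fin n) (Fin n) F) *ᵥ w = L.symm w := by
              refine L.injective ?_
              rw [LinearEquiv.apply_symm_apply, ← hT, mulVec_mulVec, ← Units.val_mul, mul_inv_cancel, Units.val_one,
                one_mulVec]
            rw [Units.val_mul, Units.val_mul, ← mulVec_mulVec, ← mulVec_mulVec, h0, hT]
            rfl
          rw [Units.val_one, one_mul]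
          show f (((T * Matrix.SpecialLinearGroup.toGL g.1 * T⁻¹ : GL (Fin n) F) : Matrix (Fin n) (Fin n) F) *ᵥ u)
            (((T * Matrix.SpecialLinearGroup.toGL g.1 * T⁻¹ : GL (Fin n) F) : Matrix (Fin n) (Fin n) F) *ᵥ v) = f u v
          have h1 : hermForm n F q₀ ((g.1 : Matrix (Fin n) (Fin n) F) *ᵥ L.symm u)
              ((g.1 : Matrix (Fin n) (Fin n) F) *ᵥ L.symm v) = hermForm n F q₀ (L.symm u) (L.symm v) := g.2 _ _
          rw [Asch.hermForm_gram hσ] at h1
          rw [key, key, hL, h1, ← hL, LinearEquiv.apply_symm_apply, LinearEquiv.apply_symm_apply]⟩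
      map_one' := Subtype.ext (Subtype.ext (by simp))
      map_mul' := fun a b => Subtype.ext (Subtype.ext (by
        show T * Matrix.SpecialLinearGroup.toGL (a.1 * b.1) * T⁻¹ = (T * Matrix.SpecialLinearGroup.toGL a.1 * T⁻¹) *
          (T * Matrix.SpecialLinearGroup.toGL b.1 * T⁻¹)
        rw [map_mul]; group)) }
  have h1 : Nat.card (SU n F q₀) ∣ Nat.card (H.subgroupOf S) := Subgroup.card_dvd_of_injective ψ fun a b h => by
    have h' : T * Matrix.SpecialLinearGroup.toGL a.1 * T⁻¹ = T * Matrix.SpecialLinearGroup.toGL b.1 * T⁻¹ :=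
      congrArg (fun y : H.subgroupOf S => ((y : S) : GL (Fin n) F)) h
    exact Subtype.ext (Matrix.SpecialLinearGroup.toGL_injective (mul_left_cancel (mul_right_cancel h')))
  have h2 : r * Nat.card (SU n F q₀) ∣ Nat.card S := by
    refine (mul_dvd_mul hΩ h1).trans ?_
    rw [Subgroup.relIndex, Subgroup.index_mul_card]
  have h3 : Nat.card (GL (Fin n) F) = (Fintype.card F - 1) * Nat.card S := by
    rw [← Subgroup.index_mul_card S]
    congr 1
    show (Matrix.GeneralLinearGroup.det : GL (Fin n) F →* Fˣ).ker.index = _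
    rw [Subgroup.index_ker, MonoidHom.range_eq_top.2 fun u => ?_, Subgroup.card_top, Nat.card_units, Nat.card_eq_fintype_card]
    let i₀ : Fin n := ⟨0, by omega⟩
    have hd : (Matrix.diagonal (Function.update (1 : Fin n → F) i₀ (u : F))).det = (u : F) := by
      rw [det_diagonal, Finset.prod_update_of_mem (Finset.mem_univ i₀)]; simp
    exact ⟨Matrix.GeneralLinearGroup.mkOfDetNeZero (Matrix.diagonal (Function.update (1 : Fin n → F) i₀ (u : F)))
      (by rw [hd]; exact u.ne_zero), Units.ext hd⟩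
  have hq2 := two_le_q hF
  have hU : r * Nat.card (GU n F q₀) * (q₀ - 1) ∣ Nat.card (GL (Fin n) F) := by
    rw [h3, natCard_GU_eq_SU hF (by omega), hF,
      show q₀ ^ 2 - 1 = (q₀ + 1) * (q₀ - 1) by rw [← Nat.sq_sub_sq, one_pow],
      show r * ((q₀ + 1) * Nat.card (SU n F q₀)) * (q₀ - 1) = (q₀ + 1) * (q₀ - 1) * (r * Nat.card (SU n F q₀)) by ring]
    exact mul_dvd_mul_left _ h2
  have h := Int.natCast_dvd_natCast.2 hU
  rw [Nat.cast_mul, Nat.cast_mul, order_GU hF, Matrix.card_GL_field, S5981.cast_prod_GL _ Fintype.card_pos, hF,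
    Nat.cast_pow, cast_gl_prod, Nat.cast_sub (by omega : 1 ≤ q₀), Nat.cast_one] at h
  obtain ⟨q, hq⟩ : ∃ q : ℤ, (q₀ : ℤ) = q := ⟨_, rfl⟩
  have hqge : (2 : ℤ) ≤ q := by omega
  simp only [hq] at h
  obtain ⟨k, rfl⟩ : ∃ k, n = k + 1 := ⟨n - 1, by omega⟩
  rw [Finset.prod_range_succ' (fun i => q ^ (i + 1) - (-1) ^ i) k] at h
  have hP : (∏ i ∈ Finset.range (k + 1), (q ^ (i + 1) + (-1) ^ i)) * (q - 1) ≠ 0 := by
    refine mul_ne_zero (Finset.prod_ne_zero_iff.2 fun i _ => ?_) (by omega)
    have := hqge.trans (le_self_pow₀ (by omega) (show i + 1 ≠ 0 by omega))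
    rcases neg_one_pow_eq_or ℤ i with h' | h' <;> rw [h'] <;> omega
  have h' : (r : ℤ) * ((∏ i ∈ Finset.range (k + 1), (q ^ (i + 1) + (-1) ^ i)) * (q - 1)) ∣
      ((∏ i : Fin (k + 1), (q ^ 2) ^ (i : ℕ)) * ∏ i ∈ Finset.range k, (q ^ (i + 1 + 1) - (-1) ^ (i + 1))) *
        ((∏ i ∈ Finset.range (k + 1), (q ^ (i + 1) + (-1) ^ i)) * (q - 1)) :=
    (Dvd.intro (q ^ ((k + 1) * (k + 1 - 1) / 2)) (by ring)).trans (h.trans (dvd_of_eq (by simp; ring)))
  have hd := Int.dvd_of_mul_dvd_mul_right hP h'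
  have hp : Prime (r : ℤ) := Nat.prime_iff_prime_int.1 hr
  rcases hp.dvd_or_dvd hd with h4 | h4
  · obtain ⟨i, -, h6⟩ := (Prime.dvd_finsetProd_iff hp _).1 h4
    rw [← hq] at h6
    exact absurd (Int.natCast_dvd_natCast.1 (hp.dvd_of_dvd_pow (hp.dvd_of_dvd_pow h6))) hrq
  · obtain ⟨i, hi, h5⟩ := (Prime.dvd_finsetProd_iff hp _).1 h4
    refine ⟨i + 1 + 1, by omega, by have := Finset.mem_range.1 hi; omega, ?_⟩
    rw [hq]
    refine h5.trans (dvd_of_eq ?_)
    ring

/-- No odd power of `a` is `-1` when some `a^i` is `-(-1)^i`. -/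
theorem no_neg {r : ℕ} [Fact r.Prime] (hr2 : r ≠ 2) {a : ZMod r} {i : ℕ} (ha : a ≠ 0)
    (hi : a ^ i = -(-1) ^ i) (t : ℕ) : a ^ (2 * t) ≠ -a := by
  intro ht
  have h2 : (2 : ZMod r) ≠ 0 := fun h => hr2 ((Nat.prime_dvd_prime_iff_eq (Fact.out : r.Prime) Nat.prime_two).1
    ((ZMod.natCast_eq_zero_iff 2 r).1 (by exact_mod_cast h)))
  obtain ⟨s, hso, hs⟩ : ∃ s, Odd s ∧ a ^ s = -1 := by
    rcases Nat.eq_zero_or_pos t with rfl | h
    · exact ⟨1, odd_one, by rw [pow_one]; rw [mul_zero, pow_zero] at ht; linear_combination ht⟩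
    · refine ⟨2 * t - 1, ⟨t - 1, by omega⟩, mul_right_cancel₀ ha ?_⟩
      rw [← pow_succ, show 2 * t - 1 + 1 = 2 * t by omega, ht, neg_one_mul]
  have e : (a ^ s) ^ i = (a ^ i) ^ s := by rw [← pow_mul, ← pow_mul, mul_comm]
  rw [hs, hi, hso.neg_pow, ← pow_mul, mul_comm, pow_mul, hso.neg_one_pow] at e
  apply h2
  rcases neg_one_pow_eq_or (ZMod r) i with h' | h' <;> rw [h'] at e <;>
    first | linear_combination e | linear_combination -e

/-- A torus witness. -/
theorem witness_torus {p : ℕ} [Fact p.Prime] [CharP F p] {q₀ : ℕ} (hF : Fintype.card F = q₀ ^ 2)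
    (hσ : ∀ a, σ a = a ^ q₀) {r : ℕ} [Fact r.Prime]
    (h1 : ¬ r ∣ Fintype.card F - 1) {j : ℕ} (hj : 0 < j) (hjn : j ≤ n) (hrj : r ∣ Fintype.card F ^ j - 1)
    (hno : ∀ t : ℕ, (q₀ : ZMod r) ^ (2 * t) ≠ -(q₀ : ZMod r))
    {f : (Fin n → F) → (Fin n → F) → F} (hinv : ∀ a, σ (σ a) = a)
    (hs : Asch.Sesq σ f) (hh : ∀ u v, f u v = σ (f v u)) (hn : IsNondegenerateForm f)
    (H : ∀ x ∈ Geo.specialLinear (Fin n) F,
      (∃ z : F, ((x ^ r : GL (Fin n) F) : Matrix (Fin n) (Fin n) F) = z • (1 : Matrix (Fin n) (Fin n) F)) →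
      (∀ z : F, (x : Matrix (Fin n) (Fin n) F) ≠ z • (1 : Matrix (Fin n) (Fin n) F)) →
      ∃ g ∈ Geo.specialLinear (Fin n) F, g⁻¹ * x * g ∈ Geo.similarityGroup f) : False := by
  classical
  have hr : r.Prime := Fact.out
  obtain ⟨a, hqa⟩ : ∃ a, q₀ = p ^ a := by
    obtain ⟨e, hp, hF'⟩ := FiniteField.card F p
    obtain ⟨a, -, ha⟩ := (Nat.dvd_prime_pow hp).1 (show q₀ ∣ p ^ (e : ℕ) by rw [← hF', hF]; exact dvd_pow_self _ two_ne_zero)
    exact ⟨a, ha⟩
  obtain ⟨k, rfl⟩ : ∃ k, n = j + k := ⟨n - j, by omega⟩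
  haveI : NeZero j := ⟨hj.ne'⟩
  let K := FiniteField.Extension F p j
  have hK : finrank F K = j := FiniteField.finrank_extension F p j
  letI : Fintype K := Fintype.ofFinite K
  haveI : CharP K p := charP_of_injective_algebraMap (algebraMap F K).injective p
  have hcK : Fintype.card K = Fintype.card F ^ j := by
    rw [← Nat.card_eq_fintype_card, Module.natCard_eq_pow_finrank (K := F), Nat.card_eq_fintype_card, hK]
  obtain ⟨u, hu⟩ := exists_prime_orderOf_dvd_card' (G := Kˣ) r
    (by rw [Nat.card_units, Nat.card_eq_fintype_card, hcK]; exact hrj)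
  have hu1 : (u : K) ≠ 1 := fun h => by rw [Units.val_eq_one.1 h, orderOf_one] at hu; exact hr.ne_one hu.symm
  have hur : (u : K) ^ r = 1 := by rw [← Units.val_pow_eq_pow_val, ← hu, pow_orderOf_eq_one, Units.val_one]
  let φ : K →ₐ[F] Matrix (Fin j) (Fin j) F := Algebra.leftMulMatrix (Module.finBasisOfFinrankEq F K hK)
  have hφ : Function.Injective φ := Algebra.leftMulMatrix_injective _
  set M := φ (u : K)
  set Mi := φ ((u⁻¹ : Kˣ) : K)
  let X : Matrix (Fin j ⊕ Fin k) (Fin j ⊕ Fin k) F := fromBlocks M 0 0 1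
  let Xi : Matrix (Fin j ⊕ Fin k) (Fin j ⊕ Fin k) F := fromBlocks Mi 0 0 1
  have hXX : X * Xi = 1 := by
    rw [fromBlocks_multiply, ← map_mul, Units.mul_inv, map_one]
    simp [fromBlocks_one]
  have hMr : M ^ r = 1 := by rw [← map_pow, hur, map_one]
  refine no_sim hinv hs hh hn (by omega) finSumFinEquiv.symm X ?_ (z := 1) ?_ (fun w hw => ?_) ?_ H
  · rw [det_fromBlocks_zero₂₁, det_one, mul_one]
    exact S5981.root_one hr h1 (by rw [← det_pow, hMr, det_one])
  · have hp : ∀ t : ℕ, X ^ t = fromBlocks (M ^ t) 0 0 1 := fun t => by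
      induction t with
      | zero => simp [fromBlocks_one]
      | succ t ih => rw [pow_succ, ih, fromBlocks_multiply, pow_succ]; simp
    rw [hp, hMr, fromBlocks_one, one_smul]
  · have h0 : fromBlocks (w • (1 : Matrix (Fin j) (Fin j) F)) 0 0 (w • (1 : Matrix (Fin k) (Fin k) F)) = w • 1 := by
      rw [← fromBlocks_one, fromBlocks_smul, smul_zero, smul_zero]
    rw [← h0] at hw
    have hM : M = φ (algebraMap F K w) := by
      rw [AlgHom.commutes, Algebra.algebraMap_eq_smul_one]; exact (fromBlocks_inj.1 hw).1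
    have e := hφ hM
    refine hu1 ?_
    rw [e, S5981.root_one hr h1 (a := w) ((algebraMap F K).injective (by rw [map_pow, map_one, ← e, hur])), map_one]
  intro f' c hs' hn' hc0 hσc hcr hiso
  have hc1 : c = 1 := S5981.root_one hr h1 (by rw [hcr, one_mul, map_one])
  subst hc1
  have hB : ∀ a b, f' (X *ᵥ a) b = f' a (Xi *ᵥ b) := fun a b => by
    have h := hiso a (Xi *ᵥ b)
    rw [mulVec_mulVec, hXX, one_mulVec, one_mul] at h
    exact h
  have hBk : ∀ (t : ℕ) a b, f' ((X ^ t) *ᵥ a) b = f' a ((Xi ^ t) *ᵥ b) := fun t => by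
    induction t with
    | zero => intro a b; simp
    | succ t ih => intro a b; rw [pow_succ, ← mulVec_mulVec, ih, hB, mulVec_mulVec, ← pow_succ']
  have hBP : ∀ (P : Polynomial F) a b,
      f' (Polynomial.aeval X P *ᵥ a) b = f' a (Polynomial.aeval Xi (P.map (σ : F →+* F)) *ᵥ b) := fun P => by
    induction P using Polynomial.induction_on' with
    | add p q hp hq => intro a b; simp only [Polynomial.map_add, map_add, add_mulVec, hs'.add_left, hs'.add_right, hp, hq]
    | monomial t s =>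
      intro a b
      rw [Polynomial.map_monomial, Polynomial.aeval_monomial, Polynomial.aeval_monomial, ← Algebra.smul_def,
        ← Algebra.smul_def, smul_mulVec, smul_mulVec, hs'.smul_left, hs'.smul_right, hBk]
      simp [hinv]
  set P : Polynomial F := (Polynomial.X - Polynomial.C 1) * minpoly F (u : K)
  have hP1 : ∀ {R : Polynomial F} {α : Type} [Fintype α] [DecidableEq α],
      Polynomial.aeval (1 : Matrix α α F) ((Polynomial.X - Polynomial.C 1) * R) = 0 := fun {R α} _ _ => by
    rw [map_mul, map_sub, Polynomial.aeval_X, Polynomial.aeval_C, map_one, sub_self, zero_mul]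
  have hPm : P.map (σ : F →+* F) = (Polynomial.X - Polynomial.C 1) * (minpoly F (u : K)).map (σ : F →+* F) := by
    rw [Polynomial.map_mul, Polynomial.map_sub, Polynomial.map_X, Polynomial.map_C, map_one, Polynomial.C_1]
  have hPX : Polynomial.aeval X P = 0 := by
    rw [S5981.aeval_fromBlocks, hP1, Polynomial.aeval_algHom_apply, map_mul, minpoly.aeval, mul_zero, map_zero, fromBlocks_zero]
  have hPXi : Polynomial.aeval Xi (P.map (σ : F →+* F)) = 0 := Matrix.ext_iff_mulVec.2 fun b => by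
    by_contra hne
    rw [zero_mulVec] at hne
    obtain ⟨⟨a, ha⟩, -⟩ := hn' _ hne
    apply ha
    rw [← hBP, hPX, zero_mulVec]
    simpa using hs'.smul_left 0 0 b
  have hroot : Polynomial.aeval ((u⁻¹ : Kˣ) : K) ((minpoly F (u : K)).map (σ : F →+* F)) = 0 := by
    rw [hPm, S5981.aeval_fromBlocks, hP1, Polynomial.aeval_algHom_apply, ← fromBlocks_zero] at hPXi
    have h := hφ ((fromBlocks_inj.1 hPXi).1.trans (map_zero φ).symm)
    rw [map_mul, map_sub, Polynomial.aeval_X, Polynomial.aeval_C, map_one] at h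
    refine (mul_eq_zero.1 h).resolve_left fun h0 => hu1 ?_
    rw [Units.val_eq_one.2 (inv_eq_one.1 (Units.val_eq_one.1 (sub_eq_zero.1 h0)))]
  let s : K →+* K := iterateFrobenius K p a
  have hsv : ∀ y, s y = y ^ q₀ := fun y => by rw [hqa]; exact iterateFrobenius_def p a y
  have hroot2 : Polynomial.aeval (((u⁻¹ : Kˣ) : K) ^ q₀) (minpoly F (u : K)) = 0 := by
    have h := congrArg s hroot
    rw [map_zero, Polynomial.aeval_def, Polynomial.eval₂_map, Polynomial.hom_eval₂, hsv,
      show s.comp ((algebraMap F K).comp (σ : F →+* F)) = algebraMap F K from RingHom.ext fun y => by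
        simp only [RingHom.comp_apply, RingHom.coe_coe, hsv]
        rw [← map_pow, ← hσ, hinv], ← Polynomial.aeval_def] at h
    exact h
  obtain ⟨g, hg⟩ := minpoly.exists_algEquiv_of_root' (K := F) (L := K)
    (Algebra.IsAlgebraic.isAlgebraic (u : K)) hroot2
  obtain ⟨t, ht⟩ := (FiniteField.bijective_frobeniusAlgEquivOfAlgebraic_pow F K).2 g
  have hgu : g (u : K) = (u : K) ^ (Fintype.card F ^ (t : ℕ)) := by
    rw [← ht]
    show (FiniteField.frobeniusAlgEquivOfAlgebraic F K ^ (t : ℕ)) (u : K) = _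
    rw [AlgEquiv.coe_pow, FiniteField.coe_frobeniusAlgEquivOfAlgebraic_iterate]
  rw [hgu] at hg
  have h2 : u ^ (Fintype.card F ^ (t : ℕ) + q₀) = 1 := by
    refine Units.ext ?_
    rw [Units.val_pow_eq_pow_val, pow_add, hg, ← mul_pow, Units.inv_mul, one_pow, Units.val_one]
  have h3 := (ZMod.natCast_eq_zero_iff _ r).2 (hu ▸ orderOf_dvd_of_pow_eq_one h2)
  refine hno t ?_
  rw [Nat.cast_add, Nat.cast_pow, hF, Nat.cast_pow, ← pow_mul] at h3
  exact eq_neg_of_add_eq_zero_left h3

/-- A split witness. -/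
theorem witness_split {q₀ : ℕ} (hσ : ∀ a, σ a = a ^ q₀) (hn3 : 3 ≤ n) {r : ℕ} (hr : r.Prime) (hr2 : r ≠ 2)
    (hrq1 : r ∣ Fintype.card F - 1) (hrq0 : r ∣ q₀ - 1) (hq2 : 2 ≤ q₀)
    (hgap : ¬ (n = 6 ∧ r = 3)) (hex : ¬ ((r = 3 ∨ r = 5) ∧ n = r))
    {f : (Fin n → F) → (Fin n → F) → F} (hinv : ∀ a, σ (σ a) = a)
    (hs : Asch.Sesq σ f) (hh : ∀ u v, f u v = σ (f v u)) (hn : IsNondegenerateForm f)
    (H : ∀ x ∈ Geo.specialLinear (Fin n) F,
      (∃ z : F, ((x ^ r : GL (Fin n) F) : Matrix (Fin n) (Fin n) F) = z • (1 : Matrix (Fin n) (Fin n) F)) →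
      (∀ z : F, (x : Matrix (Fin n) (Fin n) F) ≠ z • (1 : Matrix (Fin n) (Fin n) F)) →
      ∃ g ∈ Geo.specialLinear (Fin n) F, g⁻¹ * x * g ∈ Geo.similarityGroup f) : False := by
  classical
  haveI : Fact r.Prime := ⟨hr⟩
  obtain ⟨u, hu⟩ := exists_prime_orderOf_dvd_card' (G := Fˣ) r
    (by rw [Nat.card_units, Nat.card_eq_fintype_card]; exact hrq1)
  set l : F := (u : F) with hl
  have hlr : l ^ r = 1 := by rw [hl, ← Units.val_pow_eq_pow_val, ← hu, pow_orderOf_eq_one, Units.val_one]
  have hlu : ∀ t : ℕ, l ^ t = 1 → r ∣ t := fun t ht => hu ▸ orderOf_dvd_of_pow_eq_one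
    (Units.ext (by rw [Units.val_pow_eq_pow_val, Units.val_one]; exact ht))
  have hl0 : l ≠ 0 := u.ne_zero
  have hr3 : 3 ≤ r := by have := hr.two_le; omega
  have hsmall : ∀ t : ℕ, l ^ t = 1 → t < r → t = 0 := fun t ht htr =>
    Nat.eq_zero_of_dvd_of_lt (hlu t ht) htr
  have hl1 : l ≠ 1 := fun h => by have := hsmall 1 (by rw [pow_one, h]) (by omega); omega
  have hl2 : l ^ 2 ≠ 1 := fun h => by have := hsmall 2 h (by omega); omega
  set m : F := (l ^ 2)⁻¹ with hm
  have hm2 : m * l ^ 2 = 1 := inv_mul_cancel₀ (pow_ne_zero 2 hl0)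
  have hm0 : m ≠ 0 := inv_ne_zero (pow_ne_zero 2 hl0)
  have hm1 : m ≠ 1 := fun h => hl2 (inv_eq_one.1 h)
  have hσl : σ l = l := by
    obtain ⟨t, ht⟩ := hrq0
    rw [hσ, show q₀ = r * t + 1 by omega, pow_succ, pow_mul, hlr, one_pow, one_mul]
  have hσm : σ m = m := by rw [hm, map_inv₀, map_pow, hσl]
  obtain ⟨k, rfl⟩ : ∃ k, n = 3 + k := ⟨n - 3, by omega⟩
  let dg : Fin 3 ⊕ Fin k → F := Sum.elim ![l, l, m] 1
  refine no_sim hinv hs hh hn (by omega) finSumFinEquiv.symm (Matrix.diagonal dg) ?_ (z := 1) ?_ (fun w hw => ?_) ?_ H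
  · rw [det_diagonal, Fintype.prod_sum_type, Fin.prod_univ_three]
    simp [dg, hm]
    field_simp
  · rw [one_smul, diagonal_pow, ← diagonal_one]
    congr 1
    funext i
    rcases i with i | i
    · fin_cases i <;> simp [dg, hm, hlr, inv_pow, ← pow_mul, mul_comm 2 r]
      rw [pow_mul, hlr, one_pow]
    · simp [dg]
  · by_cases hml : m = l
    · have h3 : r = 3 := (Nat.prime_dvd_prime_iff_eq hr Nat.prime_three).1
        (hlu 3 (by rw [pow_succ]; nth_rw 2 [← hml]; rw [mul_comm, hm2]))
      rcases Nat.eq_zero_or_pos k with hk | hk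
      · exact hex ⟨Or.inl h3, by omega⟩
      · have e1 := congrFun (congrFun hw (Sum.inr ⟨0, hk⟩)) (Sum.inr ⟨0, hk⟩)
        have e2 := congrFun (congrFun hw (Sum.inl 0)) (Sum.inl 0)
        simp [dg] at e1 e2
        exact hl1 (e2.trans e1.symm)
    · have e1 := congrFun (congrFun hw (Sum.inl 2)) (Sum.inl 2)
      have e2 := congrFun (congrFun hw (Sum.inl 0)) (Sum.inl 0)
      simp [dg] at e1 e2
      exact hml (e1.trans e2.symm)
  intro f' c hs' hn' hc0 hσc hcr hiso
  have hd : ∀ i, dg i ≠ 0 := by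
    rintro (i | i)
    · fin_cases i <;> simp [dg, hl0, hm0]
    · simp [dg]
  let cnt : F → ℕ := fun a => (if l = a then 2 else 0) + (if m = a then 1 else 0) + (if 1 = a then k else 0)
  have hcnt : ∀ a : F, (Finset.univ.filter fun i => dg i = a).card = cnt a := fun a => by
    rw [Finset.card_filter, Fintype.sum_sum_type, Fin.sum_univ_three]
    simp only [dg, Sum.elim_inl, Sum.elim_inr, Pi.one_apply, cnt, Finset.sum_const, Finset.card_univ, Fintype.card_fin,
      Matrix.cons_val_zero, Matrix.cons_val_one, Matrix.cons_val, smul_eq_mul, mul_ite, mul_one, mul_zero]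
    by_cases a1 : l = a <;> by_cases a2 : m = a <;> by_cases a3 : (1 : F) = a <;> simp [a1, a2, a3]
  have pair : ∀ a : F, a ≠ 0 → σ a = a → cnt a = cnt (c / a) := fun a ha hσa => by
    rw [← hcnt, ← hcnt]
    have h := count_pair hs' hn' dg hd hiso ha
    rw [hσa] at h
    exact h
  by_cases hml : m = l
  · have h3 : r = 3 := (Nat.prime_dvd_prime_iff_eq hr Nat.prime_three).1
      (hlu 3 (by rw [pow_succ]; nth_rw 2 [← hml]; rw [mul_comm, hm2]))
    have hk3 : k ≠ 3 := fun h => hgap ⟨by omega, h3⟩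
    have hk0 : k ≠ 0 := fun h => hex ⟨Or.inl h3, by omega⟩
    have h1 := pair 1 one_ne_zero (map_one σ)
    have h2 := pair l hl0 hσl
    simp only [cnt, hml, div_one, if_pos, if_neg hl1, if_neg (Ne.symm hl1)] at h1 h2
    by_cases a : l = c
    · simp [← a, hl1, Ne.symm hl1] at h1
      omega
    · by_cases b : 1 = c
      · subst b
        have e1 : l ≠ l⁻¹ := fun e => hl2 (by
          rw [pow_two]; nth_rw 2 [e]; exact mul_inv_cancel₀ hl0)
        simp [e1, hl1] at h2
      · simp [a, b] at h1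
        omega
  · have hr5 : 5 ≤ r := by
      by_contra h
      have : r = 3 := by
        rcases (show r = 3 ∨ r = 4 by omega) with h' | h'
        · exact h'
        · exact absurd (h' ▸ hr) (by norm_num)
      exact hml (inv_eq_of_mul_eq_one_right (by rw [← pow_succ, show 2 + 1 = r by omega, hlr]))
    have h1 := pair l hl0 hσl
    have h2 := pair m hm0 hσm
    simp only [cnt, if_pos, if_neg hml, if_neg (Ne.symm hml), if_neg hl1, if_neg (Ne.symm hl1), if_neg hm1,
      if_neg (Ne.symm hm1), add_zero, zero_add] at h1 h2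
    by_cases a : l = c / l
    · have hcl : c = l * l := by rw [eq_div_iff hl0] at a; exact a.symm
      by_cases b : l = c / m
      · rw [eq_div_iff hm0, hcl] at b
        exact hml (mul_left_cancel₀ hl0 b)
      · by_cases b' : m = c / m
        · rw [eq_div_iff hm0, hcl] at b'
          have e6 : l ^ 6 = 1 := by
            linear_combination -(l ^ 4) * b' + (m * l ^ 2 + 1) * hm2
          have := Nat.le_of_dvd (by norm_num) (hlu 6 e6)
          rcases (show r = 5 ∨ r = 6 by omega) with h' | h'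
          · subst h'; exact absurd (hlu 6 e6) (by norm_num)
          · exact absurd (h' ▸ hr) (by norm_num)
        · simp [b, b'] at h2
          have hb : (1 : F) = c / m := by
            by_contra hb
            rw [if_neg hb] at h2
            omega
          rw [eq_div_iff hm0, one_mul, hcl] at hb
          have e4 : l ^ 4 = 1 := by linear_combination hm2 - (l ^ 2) * hb
          have := hsmall 4 e4 (by omega)
          omega
    · have a' : m ≠ c / l → 1 = c / l ∧ k = 2 := fun h => by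
        simp [a, h] at h1
        by_cases e : (1 : F) = c / l
        · rw [if_pos e] at h1; exact ⟨e, h1.symm⟩
        · rw [if_neg e] at h1; omega
      by_cases b : m = c / l
      · simp [a, b.symm, hm1, Ne.symm hm1, hml] at h1
        first | omega | exact absurd h1 (by simp [Ne.symm hml])
      · obtain ⟨hb, hk2⟩ := a' b
        rw [eq_div_iff hl0, one_mul] at hb
        subst hb
        by_cases b' : m = l / m
        · rw [eq_div_iff hm0] at b'
          have e5 : l ^ 5 = 1 := by linear_combination -(l ^ 4) * b' + (m * l ^ 2 + 1) * hm2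
          exact hex ⟨Or.inr ((Nat.prime_dvd_prime_iff_eq hr Nat.prime_five).1 (hlu 5 e5)),
            by have := (Nat.prime_dvd_prime_iff_eq hr Nat.prime_five).1 (hlu 5 e5); omega⟩
        · simp [b', hk2] at h2
          by_cases b'' : l = l / m
          · exact hm1 (by rw [eq_div_iff hm0] at b''; exact mul_left_cancel₀ hl0 (by rw [b'', mul_one]))
          · simp [b''] at h2
            by_cases b3 : (1 : F) = l / m
            · rw [if_pos b3] at h2; omega
            · rw [if_neg b3] at h2; omega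

/-- A witness from a larger power of the prime in `q₀ - 1`. -/
theorem witness_level {q₀ : ℕ} (hσ : ∀ a, σ a = a ^ q₀) {r : ℕ} (hr : r.Prime) (hr2 : r ≠ 2) (hnr : n = r)
    (hrq2 : r * r ∣ Fintype.card F - 1) (hrq0 : r * r ∣ q₀ - 1) (hq2 : 2 ≤ q₀)
    {f : (Fin n → F) → (Fin n → F) → F} (hinv : ∀ a, σ (σ a) = a)
    (hs : Asch.Sesq σ f) (hh : ∀ u v, f u v = σ (f v u)) (hn : IsNondegenerateForm f)
    (H : ∀ x ∈ Geo.specialLinear (Fin n) F,
      (∃ z : F, ((x ^ r : GL (Fin n) F) : Matrix (Fin n) (Fin n) F) = z • (1 : Matrix (Fin n) (Fin n) F)) →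
      (∀ z : F, (x : Matrix (Fin n) (Fin n) F) ≠ z • (1 : Matrix (Fin n) (Fin n) F)) →
      ∃ g ∈ Geo.specialLinear (Fin n) F, g⁻¹ * x * g ∈ Geo.similarityGroup f) : False := by
  classical
  subst hnr
  have hr3 : 3 ≤ n := by have := hr.two_le; omega
  obtain ⟨g, hg⟩ := IsCyclic.exists_generator (α := Fˣ)
  have hog : orderOf g = Fintype.card F - 1 := by
    rw [orderOf_eq_card_of_forall_mem_zpowers hg, Nat.card_units, Nat.card_eq_fintype_card]
  obtain ⟨t, ht⟩ := hrq2
  set u := g ^ t
  have hu : orderOf u = n * n := by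
    have h0 : Fintype.card F - 1 ≠ 0 := by have := Fintype.one_lt_card (α := F); omega
    have ht0 : t ≠ 0 := fun h => h0 (by rw [ht, h, mul_zero])
    rw [orderOf_pow' _ ht0, hog, ht, Nat.gcd_mul_left_left, Nat.mul_div_cancel _ (Nat.pos_of_ne_zero ht0)]
  set a : F := (u : F)
  have ha0 : a ≠ 0 := u.ne_zero
  have hau : ∀ s : ℕ, a ^ s = 1 → n * n ∣ s := fun s hs => hu ▸ orderOf_dvd_of_pow_eq_one
    (Units.ext (by rw [Units.val_pow_eq_pow_val, Units.val_one]; exact hs))
  have han : a ^ (n * n) = 1 := by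
    rw [← hu, ← Units.val_pow_eq_pow_val, pow_orderOf_eq_one, Units.val_one]
  have hσa : σ a = a := by
    obtain ⟨t', ht'⟩ := hrq0
    rw [hσ, show q₀ = n * n * t' + 1 by omega, pow_succ, pow_mul, han, one_pow, one_mul]
  set w : F := (a ^ n)⁻¹
  have hσw : σ (a * w) = a * w := by rw [map_mul, map_inv₀, map_pow, hσa]
  have hw0 : w ≠ 0 := inv_ne_zero (pow_ne_zero _ ha0)
  have hw1 : w ≠ 1 := fun h => by
    have := Nat.le_of_dvd (by omega) (hau n (inv_eq_one.1 h))
    nlinarith
  have hwn : w ^ n = 1 := by rw [inv_pow, ← pow_mul, han, inv_one]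
  have hwa : a * w ≠ a := fun h => hw1 (mul_left_cancel₀ ha0 (by rw [h, mul_one]))
  let i₀ : Fin n := ⟨0, by omega⟩
  let dg : Fin n → F := fun i => if i = i₀ then a * w else a
  refine no_sim hinv hs hh hn (by omega) (Equiv.refl _) (Matrix.diagonal dg) ?_ (z := a ^ n) ?_ (fun z hz => ?_) ?_ H
  · rw [det_diagonal, ← Finset.mul_prod_erase Finset.univ dg (Finset.mem_univ i₀),
      Finset.prod_congr rfl (fun i hi => show dg i = a by simp [dg, (Finset.mem_erase.1 hi).1]), Finset.prod_const,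
      Finset.card_erase_of_mem (Finset.mem_univ i₀), Finset.card_univ, Fintype.card_fin]
    simp only [dg, if_pos]
    rw [mul_right_comm, ← pow_succ', show n - 1 + 1 = n by omega, mul_inv_cancel₀ (pow_ne_zero _ ha0)]
  · rw [diagonal_pow, smul_one_eq_diagonal]
    congr 1
    funext i
    simp only [Pi.pow_apply, dg]
    split_ifs
    · rw [mul_pow, hwn, mul_one]
    · rfl
  · have e1 := congrFun (congrFun hz i₀) i₀
    have e2 := congrFun (congrFun hz ⟨1, by omega⟩) ⟨1, by omega⟩
    simp [dg, i₀] at e1 e2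
    exact hwa (e1.trans e2.symm)
  intro f' c hs' hn' hc0 hσc hcr hiso
  have hd : ∀ i, dg i ≠ 0 := fun i => by by_cases h : i = i₀ <;> simp [dg, h, ha0, hw0]
  let cnt : F → ℕ := fun b => (if a * w = b then 1 else 0) + (if a = b then n - 1 else 0)
  have hcnt : ∀ b : F, (Finset.univ.filter fun i => dg i = b).card = cnt b := fun b => by
    rw [Finset.card_filter, ← Finset.add_sum_erase Finset.univ _ (Finset.mem_univ i₀),
      Finset.sum_congr rfl (fun i hi => show (if dg i = b then 1 else 0) = (if a = b then 1 else 0) by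
        simp [dg, (Finset.mem_erase.1 hi).1]), Finset.sum_const, Finset.card_erase_of_mem (Finset.mem_univ i₀),
      Finset.card_univ, Fintype.card_fin]
    simp [dg, cnt]
  have pair : ∀ b : F, b ≠ 0 → σ b = b → cnt b = cnt (c / b) := fun b hb hσb => by
    rw [← hcnt, ← hcnt]
    have h := count_pair hs' hn' dg hd hiso hb
    rw [hσb] at h
    exact h
  have h1 := pair a ha0 hσa
  have h2 := pair (a * w) (mul_ne_zero ha0 hw0) hσw
  simp only [cnt, if_pos, if_neg hwa, if_neg hwa.symm, zero_add, add_zero] at h1 h2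
  by_cases p1 : a * w = c / a
  · simp [← p1, hwa.symm] at h1
    omega
  by_cases p2 : a = c / a
  · have hcc : c = a * a := ((eq_div_iff ha0).1 p2).symm
    by_cases p3 : a * w = c / (a * w)
    · rw [eq_div_iff (mul_ne_zero ha0 hw0), hcc] at p3
      have hw2 : w ^ 2 = 1 := mul_left_cancel₀ (mul_ne_zero ha0 ha0) (by linear_combination p3)
      refine hw1 ?_
      obtain ⟨s, hs⟩ := hr.odd_of_ne_two hr2
      rw [hs, pow_add, pow_mul, hw2, one_pow, one_mul, pow_one] at hwn
      exact hwn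
    · by_cases p4 : a = c / (a * w)
      · simp [← p4, hwa] at h2; omega
      · simp [p3, p4] at h2
  · simp [p1, p2] at h1
    omega

/-- An involution witness in odd characteristic. -/
theorem witness_two {q₀ : ℕ} (hσ : ∀ a, σ a = a ^ q₀) (hF : Fintype.card F = q₀ ^ 2) (hodd : Odd q₀) {j : ℕ} (hj : 1 ≤ j)
    (hdvd : 2 ^ padicValNat 2 (Fintype.card F - 1) ∣ j)
    {f : (Fin (2 * j) → F) → (Fin (2 * j) → F) → F} (hinv : ∀ a, σ (σ a) = a)
    (hs : Asch.Sesq σ f) (hh : ∀ u v, f u v = σ (f v u)) (hn : IsNondegenerateForm f)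
    (H : ∀ x ∈ Geo.specialLinear (Fin (2 * j)) F,
      (∃ z : F, ((x ^ 2 : GL (Fin (2 * j)) F) : Matrix (Fin (2 * j)) (Fin (2 * j)) F) =
        z • (1 : Matrix (Fin (2 * j)) (Fin (2 * j)) F)) →
      (∀ z : F, (x : Matrix (Fin (2 * j)) (Fin (2 * j)) F) ≠ z • (1 : Matrix (Fin (2 * j)) (Fin (2 * j)) F)) →
      ∃ g ∈ Geo.specialLinear (Fin (2 * j)) F, g⁻¹ * x * g ∈ Geo.similarityGroup f) : False := by
  classical
  have hc2 : ringChar F ≠ 2 := fun h => by
    have := FiniteField.even_card_iff_char_two.1 h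
    obtain ⟨s, hs⟩ := hodd
    rw [hF, hs] at this
    ring_nf at this
    omega
  have h0 : Fintype.card F - 1 ≠ 0 := by have := Fintype.one_lt_card (α := F); omega
  obtain ⟨g, hg⟩ := IsCyclic.exists_generator (α := Fˣ)
  have hog : orderOf g = Fintype.card F - 1 := by
    rw [orderOf_eq_card_of_forall_mem_zpowers hg, Nat.card_units, Nat.card_eq_fintype_card]
  obtain ⟨s, hs'⟩ := pow_padicValNat_dvd (p := 2) (n := Fintype.card F - 1)
  set A := padicValNat 2 (Fintype.card F - 1)
  have hso : ¬ 2 ∣ s := fun ⟨s', hs''⟩ => by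
    have h : 2 ^ (A + 1) ∣ Fintype.card F - 1 := ⟨s', by rw [hs', hs'', pow_succ]; ring⟩
    exact absurd ((padicValNat_dvd_iff_le h0).1 h) (by omega)
  set w : F := ((g ^ s : Fˣ) : F)
  have hwj : w ^ j = 1 := by
    obtain ⟨t, ht⟩ := hdvd
    rw [← Units.val_pow_eq_pow_val, ← pow_mul, ht, ← mul_assoc, mul_comm s, ← hs', pow_mul, ← hog, pow_orderOf_eq_one,
      one_pow, Units.val_one]
  have hwsq : ¬ IsSquare w := fun hw => by
    have hw' := (FiniteField.isSquare_iff hc2 (g ^ s).ne_zero).1 hw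
    rw [← Units.val_pow_eq_pow_val, Units.val_eq_one, ← pow_mul, ← orderOf_dvd_iff_pow_eq_one, hog] at hw'
    obtain ⟨t, ht⟩ := hw'
    have h2 : 2 * (Fintype.card F / 2) = Fintype.card F - 1 := by
      have := FiniteField.odd_card_of_char_ne_two hc2
      omega
    have : s * (Fintype.card F - 1) = 2 * t * (Fintype.card F - 1) := by
      linear_combination 2 * ht + s * h2.symm
    exact hso ⟨t, Nat.eq_of_mul_eq_mul_right (Nat.pos_of_ne_zero h0) this⟩
  have hm1 : IsSquare (-1 : F) := by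
    refine FiniteField.isSquare_neg_one_iff.2 ?_
    obtain ⟨s, hs⟩ := hodd
    rw [hF, hs]
    ring_nf
    omega
  set z : F := -w
  have hz : ¬ IsSquare z := fun h => hwsq (by simpa [z] using hm1.mul h)
  let J : Matrix (Fin 2) (Fin 2) F := !![0, z; 1, 0]
  refine no_sim hinv hs hh hn (by omega) finProdFinEquiv.symm (blockDiagonal fun _ : Fin j => J) ?_ (z := z) ?_
    (fun c hc => ?_) ?_ H
  · rw [det_blockDiagonal, Finset.prod_const, det_fin_two_of, Finset.card_univ, Fintype.card_fin]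
    simp [z, hwj]
  · rw [pow_two, ← blockDiagonal_mul, show (1 : Matrix (Fin 2 × Fin j) (Fin 2 × Fin j) F) = blockDiagonal 1 from
      blockDiagonal_one.symm, ← blockDiagonal_smul]
    congr 1
    funext i
    ext k l
    fin_cases k <;> fin_cases l <;> simp [J, Matrix.mul_apply, Fin.sum_univ_two]
  · have h := congrFun (congrFun hc (1, ⟨0, hj⟩)) (0, ⟨0, hj⟩)
    simp [J, blockDiagonal_apply] at h
  intro f' c hs' hn' hc0 hσc hcr hiso
  apply hz
  refine (FiniteField.isSquare_iff hc2 (fun h => hz (by rw [h]; exact IsSquare.zero))).2 ?_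
  obtain ⟨s, hs⟩ := hodd
  have h2 : Fintype.card F / 2 = (q₀ + 1) * s := by
    rw [hF, hs]
    have : (2 * s + 1) ^ 2 = 2 * ((2 * s + 1 + 1) * s) + 1 := by ring
    omega
  rw [h2, pow_mul, show z ^ (q₀ + 1) = c ^ 2 by rw [hcr, hσ, pow_succ'], ← pow_mul]
  refine mul_right_cancel₀ hc0 ?_
  rw [← pow_succ, one_mul, ← hs, ← hσ, hσc]


/-- Elements of prime order of PSL_n(q), q = q₀², and the subgroups of unitary type. Here `T = PSL_n(F)` for a field `F` with `q = q₀²` elements (`n ≥ 3`), `f` is a non-degenerate unitary form on `F^n` for the involutory automorphism `x ↦ x^{q₀}`, and `H` is the subgroup of matrices of determinant 1 that preserve `f` up to a scalar — a subgroup of type GU_n(q₀) (maximality is not assumed); Ω is the set of cosets of `H` in `T`, so an element of `T` of prime order `r` (a matrix `x` of determinant 1 with `x^r` scalar, `x` not scalar) fixes a point of Ω exactly when some conjugate of `x` by a matrix of determinant 1 preserves `f` up to a scalar.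 Let `r` be a prime dividing the index of `H`, with `r = 2` or `r` different from the characteristic `p`, and with `(n, r) ≠ (6, 3)`. Then every element of `T` of order `r` fixes a point of Ω if and only if either `r = 2` and (`p = 2` or `(n)_2 ≤ (q − 1)_2`), or `r ∈ {3, 5}`, `n = r` and `(q₀ − 1)_r = r`. (Odd `r = p` and the case `(n, r) = (6, 3)` are not covered by this statement.) -/
theorem result {F : Type*} [Field F] [Fintype F] {p : ℕ} [Fact p.Prime] [CharP F p] {q : ℕ} (hq : Fintype.card F = q)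
    (q₀ : ℕ) (hq₀ : q = q₀ ^ 2) (n : ℕ) (hn : 3 ≤ n) (f : (Fin n → F) → (Fin n → F) → F) (hf : Cfsg.Geo.IsUnitaryFormPow q₀ f)
    (r : ℕ) [Fact r.Prime] (hr : r = 2 ∨ r ≠ p) (hgap : ¬ (n = 6 ∧ r = 3))
    (hΩ : r ∣ (Cfsg.Geo.similarityGroup f).relIndex (Cfsg.Geo.specialLinear (Fin n) F)) :
    (∀ x ∈ Cfsg.Geo.specialLinear (Fin n) F, (∃ z : F, ((x ^ r : GL (Fin n) F) : Matrix (Fin n) (Fin n) F) = z • (1 : Matrix (Fin n) (Fin n) F)) →
      (∀ z : F, (x : Matrix (Fin n) (Fin n) F) ≠ z • (1 : Matrix (Fin n) (Fin n) F)) →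
      ∃ g ∈ Cfsg.Geo.specialLinear (Fin n) F, g⁻¹ * x * g ∈ Cfsg.Geo.similarityGroup f) ↔
    ((r = 2 ∧ (p = 2 ∨ padicValNat 2 n ≤ padicValNat 2 (q - 1))) ∨ ((r = 3 ∨ r = 5) ∧ n = r ∧ padicValNat r (q₀ - 1) = 1)) := by

  classical
  subst hq₀
  obtain ⟨σ, hσ⟩ : ∃ σ : F ≃+* F, ∀ a, σ a = a ^ q₀ := ⟨MaxTv.qEquiv hq, MaxTv.qEquiv_apply hq⟩
  have hinv : ∀ a, σ (σ a) = a := fun a => by rw [hσ, hσ, ← pow_mul, ← sq, ← hq, FiniteField.pow_card]
  have hne : σ ≠ RingEquiv.refl F := fun h => qFrob_ne_id hq (RingHom.ext fun a => by rw [qFrob_apply, ← hσ, h]; rfl)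
  have hs : Asch.Sesq σ f := ⟨hf.add_left, hf.smul_left,
    fun v x y => by rw [hf.herm v, hf.add_left, ← hσ, map_add, hσ, hσ, ← hf.herm, ← hf.herm],
    fun c v x => by rw [hf.herm v, hf.smul_left, ← hσ, map_mul, hσ (f x v), ← hf.herm]⟩
  have hh : ∀ u v, f u v = σ (f v u) := fun u v => by rw [hσ]; exact hf.herm u v
  have hq2 := two_le_q hq
  have hrpr : r.Prime := Fact.out
  obtain ⟨e₀, hp, hFp⟩ := FiniteField.card F p
  have hdet1 : ∀ x : GL (Fin n) F, x ∈ Geo.specialLinear (Fin n) F → (x : Matrix (Fin n) (Fin n) F).det = 1 :=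
    fun x hx => congrArg Units.val (show Matrix.GeneralLinearGroup.det x = 1 from hx)
  have hparity : p ≠ 2 → Odd q₀ := fun hp2 => Nat.not_even_iff_odd.1 fun he => hp2 (by
    obtain ⟨s, hs⟩ := he
    have h2 : 2 ∣ p ^ (e₀ : ℕ) := ⟨s * q₀, by rw [← hFp, hq, hs]; ring⟩
    exact ((Nat.prime_dvd_prime_iff_eq Nat.prime_two hp).1 (Nat.prime_two.dvd_of_dvd_pow h2)).symm)
  constructor
  · intro H
    by_cases hr2 : r = 2
    · subst hr2
      left
      refine ⟨rfl, or_iff_not_imp_left.2 fun hp2 => ?_⟩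
      by_contra hcon
      push Not at hcon
      have h0 : n ≠ 0 := by omega
      obtain ⟨j, rfl⟩ : 2 ∣ n := dvd_of_one_le_padicValNat (by omega)
      refine witness_two hσ hq (hparity hp2) (by omega) ?_ hinv hs hh hf.nondegenerate H
      rw [hq]
      refine (padicValNat_dvd_iff_le (by omega)).2 ?_
      rw [padicValNat.mul (by norm_num) (by omega), padicValNat_self] at hcon
      omega
    have hrp : r ≠ p := hr.resolve_left hr2
    have hrF : ¬ r ∣ Fintype.card F := fun hd => hrp (by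
      rw [hFp] at hd
      exact (Nat.prime_dvd_prime_iff_eq hrpr hp).1 (hrpr.dvd_of_dvd_pow hd))
    have hrq : ¬ r ∣ q₀ := fun hd => hrF (by rw [hq]; exact hd.trans (dvd_pow_self _ two_ne_zero))
    obtain ⟨i, hi2, hin, hi⟩ := index_prime hq hσ (by omega) hf hrpr hrq hΩ
    have ha0 : (q₀ : ZMod r) ≠ 0 := fun h => hrq ((ZMod.natCast_eq_zero_iff _ r).1 h)
    have hia : (q₀ : ZMod r) ^ i = -(-1) ^ i := by
      have h := (ZMod.intCast_zmod_eq_zero_iff_dvd _ r).2 hi
      push_cast at h
      exact eq_neg_of_add_eq_zero_left h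
    have hno := no_neg hr2 ha0 hia
    right
    by_cases h1 : r ∣ Fintype.card F - 1
    · have hrq0 : r ∣ q₀ - 1 := by
        have h := h1
        rw [hq, show q₀ ^ 2 - 1 = (q₀ + 1) * (q₀ - 1) by rw [← Nat.sq_sub_sq, one_pow]] at h
        refine (hrpr.dvd_mul.1 h).resolve_left fun h' => ?_
        have hq1 : (q₀ : ZMod r) = -1 := eq_neg_of_add_eq_zero_left (by
          have := (ZMod.natCast_eq_zero_iff _ r).2 h'; push_cast at this; exact this)
        exact hno 0 (by rw [hq1]; simp)
      by_cases hex : (r = 3 ∨ r = 5) ∧ n = r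
      · refine ⟨hex.1, hex.2, ?_⟩
        by_contra hv
        have hv1 : 1 ≤ padicValNat r (q₀ - 1) := one_le_padicValNat_of_dvd (by omega) hrq0
        have hd2 : r * r ∣ q₀ - 1 := by
          rw [← pow_two]; exact (padicValNat_dvd_iff_le (by omega)).2 (by omega)
        refine witness_level hσ hrpr hr2 hex.2 ?_ hd2 hq2 hinv hs hh hf.nondegenerate H
        rw [hq, show q₀ ^ 2 - 1 = (q₀ + 1) * (q₀ - 1) by rw [← Nat.sq_sub_sq, one_pow]]
        exact hd2.mul_left _
      · exact (witness_split hσ hn hrpr hr2 h1 hrq0 hq2 hgap hex hinv hs hh hf.nondegenerate H).elim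
    exfalso
    refine witness_torus (p := p) hq hσ h1 (by omega) hin ?_ hno hinv hs hh hf.nondegenerate H
    rw [← ZMod.natCast_eq_zero_iff, Nat.cast_sub (Nat.one_le_pow _ _ Fintype.card_pos), Nat.cast_pow, hq, Nat.cast_pow,
      ← pow_mul, mul_comm, pow_mul, hia, neg_sq, ← pow_mul, mul_comm, pow_mul, neg_one_sq, one_pow, Nat.cast_one, sub_self]
  · intro hR x hx ⟨z, hz⟩ hns
    have hd := hdet1 x hx
    rw [Units.val_pow_eq_pow_val] at hz
    rcases hR with ⟨rfl, hcase⟩ | ⟨hr35, hnr, hv⟩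
    · rw [pow_two] at hz
      have hz0 : z ≠ 0 := fun h0 => by
        have h := congrArg Matrix.det hz
        haveI : Nonempty (Fin n) := ⟨⟨0, by omega⟩⟩
        rw [det_mul, hd, h0, zero_smul, det_zero] at h
        simp at h
      have hsq : IsSquare z := by
        by_cases hp2 : p = 2
        · subst hp2
          exact FiniteField.isSquare_of_char_two (ringChar.eq F 2) z
        by_contra hsq
        obtain ⟨j, hj, hdj⟩ := S5964.det_of_nonsquare (x : Matrix (Fin n) (Fin n) F) hsq hz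
        rw [hd] at hdj
        have hodd := hparity hp2
        have hc2 : ringChar F ≠ 2 := fun h => hp2 (by rw [← h]; exact (ringChar.eq F p).symm)
        have hm1 : IsSquare (-1 : F) := by
          refine FiniteField.isSquare_neg_one_iff.2 ?_
          obtain ⟨s, hs⟩ := hodd
          rw [hq, hs]
          ring_nf
          omega
        have hw : ¬ IsSquare (-z) := fun h => hsq (by simpa using hm1.mul h)
        refine hw ((FiniteField.isSquare_iff hc2 (neg_ne_zero.2 hz0)).2 ?_)
        have h0 : q₀ ^ 2 - 1 ≠ 0 := by have := Fintype.one_lt_card (α := F); omega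
        have hv : padicValNat 2 n ≤ padicValNat 2 (q₀ ^ 2 - 1) := hcase.resolve_left hp2
        rw [hj, padicValNat.mul (by norm_num) (by omega), padicValNat_self] at hv
        let u : Fˣ := Units.mk0 (-z) (neg_ne_zero.2 hz0)
        have hu1 : orderOf u ∣ j := orderOf_dvd_of_pow_eq_one (Units.ext (by
          rw [Units.val_pow_eq_pow_val, Units.val_one]; exact hdj.symm))
        have hu2 : orderOf u ∣ q₀ ^ 2 - 1 := by
          rw [← hq]
          refine orderOf_dvd_of_pow_eq_one (Units.ext ?_)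
          rw [Units.val_pow_eq_pow_val, Units.val_one]
          exact FiniteField.pow_card_sub_one_eq_one _ (neg_ne_zero.2 hz0)
        have h2 : 2 * (Fintype.card F / 2) = q₀ ^ 2 - 1 := by
          have := FiniteField.odd_card_of_char_ne_two hc2
          omega
        have hu3 : orderOf u ∣ Fintype.card F / 2 := by
          obtain ⟨t, ht⟩ := hu2
          rcases Nat.even_or_odd t with ⟨t', ht'⟩ | hodd_t
          · exact ⟨t', by rw [ht'] at ht; nlinarith [h2, ht]⟩
          · exfalso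
            have ho : orderOf u ≠ 0 := (orderOf_pos u).ne'
            have hvo : padicValNat 2 (q₀ ^ 2 - 1) = padicValNat 2 (orderOf u) := by
              rw [ht, padicValNat.mul ho (by rintro rfl; simp at hodd_t),
                padicValNat.eq_zero_of_not_dvd (Nat.two_dvd_ne_zero.2 (Nat.odd_iff.1 hodd_t)), add_zero]
            have hle : padicValNat 2 (orderOf u) ≤ padicValNat 2 j :=
              (padicValNat_dvd_iff_le (by omega)).1 (pow_padicValNat_dvd.trans hu1)
            omega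
        have h := orderOf_dvd_iff_pow_eq_one.1 hu3
        simpa [u] using congrArg Units.val h
      obtain ⟨s, rfl⟩ := hsq
      have hs0 : s ≠ 0 := fun h => hz0 (by rw [h, mul_zero])
      obtain ⟨ι, _, _, b, τ, ε, hτ, hb, hε, hC⟩ := S5964.exists_sign_basis (ι₀ := Fin n)
        (g := Matrix.toLin' (x : Matrix (Fin n) (Fin n) F)) (by rw [Fintype.card_fin]; omega) rfl hs0
        (fun v => by rw [Matrix.toLin'_apply, Matrix.toLin'_apply, mulVec_mulVec, hz, smul_mulVec, one_mulVec])
      let A : Matrix ι ι F := Matrix.of fun i k => if i = τ k then s * ε k else 0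
      have hM : LinearMap.toMatrix b b (Matrix.toLin' (x : Matrix (Fin n) (Fin n) F)) = A := by
        ext i k
        rw [LinearMap.toMatrix_apply, hb, map_smul, Module.Basis.repr_self, Finsupp.smul_apply, Finsupp.single_apply]
        by_cases h : i = τ k
        · simp [A, h]
        · simp [A, h, Ne.symm h]
      have hP : ∀ w, (x : Matrix (Fin n) (Fin n) F) *ᵥ b.equivFun.symm w = b.equivFun.symm (A *ᵥ w) := fun w => by
        rw [← hM, LinearEquiv.eq_symm_apply]
        conv_rhs => rw [← b.equivFun.apply_symm_apply w]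
        exact (LinearMap.toMatrix_mulVec_repr b b (Matrix.toLin' (x : Matrix (Fin n) (Fin n) F)) (b.equivFun.symm w)).symm
      refine UnitarySimilitudeDerange.conj_into hne hinv hs hh hf.nondegenerate x b.equivFun.symm A 1 hP
        (c := s * σ s) (mul_ne_zero hs0 (fun h => hs0 (σ.injective (h.trans (map_zero σ).symm))))
        (by rw [Matrix.transpose_one, Matrix.map_one σ (map_zero σ) (map_one σ)]) isUnit_one ?_ fun t _ => ?_
      · rw [Matrix.one_mul]
        ext k l
        rw [Matrix.mul_apply, Finset.sum_eq_single (τ k) (fun i _ hi => by simp [A, hi]) (by simp)]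
        have hε2 : ∀ i, ε i * σ (ε i) = 1 := fun i => by rcases hε i with h | h <;> simp [h]
        by_cases h : k = l
        · subst h
          simp [A]
          linear_combination (s * σ s) * hε2 k
        · simp [A, hτ.injective.eq_iff, h]
      · obtain ⟨d, hdτ, hdd⟩ := hC t
        refine ⟨Matrix.diagonal d, by rw [det_diagonal, hdd], ?_⟩
        ext i k
        rw [mul_diagonal, diagonal_mul]
        by_cases h : i = τ k
        · subst h; rw [hdτ]; exact mul_comm _ _
        · simp [A, h]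
    · subst hnr
      have hn2 : n ≠ 2 := by omega
      have hdvd0 : n ∣ q₀ - 1 := dvd_of_one_le_padicValNat (by omega)
      have hsplit : q₀ ^ 2 - 1 = (q₀ + 1) * (q₀ - 1) := by rw [← Nat.sq_sub_sq, one_pow]
      have hndq : ¬ n ∣ q₀ + 1 := fun h => by
        have h2 := Nat.dvd_sub h hdvd0
        rw [show q₀ + 1 - (q₀ - 1) = 2 by omega] at h2
        exact hn2 ((Nat.prime_dvd_prime_iff_eq hrpr Nat.prime_two).1 h2)
      have hvF : padicValNat n (Fintype.card F - 1) = 1 := by
        rw [hq, hsplit, padicValNat.mul (by omega) (by omega), padicValNat.eq_zero_of_not_dvd hndq, hv]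
      have h0 : Fintype.card F - 1 ≠ 0 := by have := Fintype.one_lt_card (α := F); omega
      have hdvd : n ∣ Fintype.card F - 1 := dvd_of_one_le_padicValNat (by omega)
      have hzn : z ^ n = 1 := by
        have h := congrArg Matrix.det hz
        rw [det_pow, hd, one_pow, det_smul, det_one, mul_one, Fintype.card_fin] at h
        exact h.symm
      have hz1 : z = 1 := by
        by_contra hne
        have hno : ∀ b : F, b ^ n ≠ z := fun b hb => by
          have hb1 : ¬ b ^ n ^ 1 = 1 := by rw [pow_one, hb]; exact hne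
          have hb2 : b ^ n ^ (1 + 1) = 1 := by rw [pow_succ, pow_one, pow_mul, hb, hzn]
          have ho := orderOf_eq_prime_pow hb1 hb2
          have hb0 : b ≠ 0 := fun h => by
            rw [h, zero_pow hrpr.ne_zero] at hb
            rw [← hb, zero_pow hrpr.ne_zero] at hzn
            exact zero_ne_one hzn
          have hdd : n ^ (1 + 1) ∣ Fintype.card F - 1 := ho ▸ orderOf_dvd_of_pow_eq_one (FiniteField.pow_card_sub_one_eq_one b hb0)
          have := (padicValNat_dvd_iff_le h0).1 hdd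
          omega
        have hirr := X_pow_sub_C_irreducible_of_prime hrpr hno
        have hmon := Polynomial.monic_X_pow_sub_C z hrpr.ne_zero
        have hmin : minpoly F (x : Matrix (Fin n) (Fin n) F) = Polynomial.X ^ n - Polynomial.C z :=
          haveI : Nonempty (Fin n) := ⟨⟨0, hrpr.pos⟩⟩
          (minpoly.eq_of_irreducible_of_monic hirr (by simp [hz, Algebra.algebraMap_eq_smul_one]) hmon).symm
        have hchar : (x : Matrix (Fin n) (Fin n) F).charpoly = Polynomial.X ^ n - Polynomial.C z :=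
          Polynomial.eq_of_monic_of_dvd_of_natDegree_le hmon (Matrix.charpoly_monic _)
            (hmin ▸ Matrix.minpoly_dvd_charpoly _)
            (by rw [Matrix.charpoly_natDegree_eq_dim, Fintype.card_fin, Polynomial.natDegree_X_pow_sub_C])
        have h := Matrix.det_eq_sign_charpoly_coeff (x : Matrix (Fin n) (Fin n) F)
        rw [hd, hchar, Fintype.card_fin, (hrpr.odd_of_ne_two hn2).neg_one_pow, Polynomial.coeff_sub,
          Polynomial.coeff_X_pow, if_neg hrpr.ne_zero.symm, Polynomial.coeff_C_zero] at h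
        exact hne (by linear_combination -h)
      subst hz1
      rw [one_smul] at hz
      have hpow : (x : Matrix (Fin n) (Fin n) F) ^ Fintype.card F = (x : Matrix (Fin n) (Fin n) F) := by
        obtain ⟨t, ht⟩ := hdvd
        rw [show Fintype.card F = n * t + 1 by omega, pow_succ, pow_mul, hz, one_pow, one_mul]
      obtain ⟨lam, P, hP⟩ := OrthSimilitudeDerange.exists_eigencoords (x : Matrix (Fin n) (Fin n) F) hpow
      have hxk : ∀ (t : ℕ) w, ((x : Matrix (Fin n) (Fin n) F) ^ t) *ᵥ P w = P ((Matrix.diagonal lam ^ t) *ᵥ w) := fun t => by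
        induction t with
        | zero => intro w; simp
        | succ t ih => intro w; rw [pow_succ, ← mulVec_mulVec, hP, ih, mulVec_mulVec, ← pow_succ]
      have hlam : ∀ i, lam i ^ n = 1 := fun i => by
        have h := hxk n (Pi.single i 1)
        rw [hz, one_mulVec, P.injective.eq_iff, diagonal_pow] at h
        simpa using (congrFun h i).symm
      have hprodlam : ∏ i, lam i = 1 := by
        rw [← det_diagonal, ← LinearMap.det_toLin', ← hd, ← LinearMap.det_toLin' (x : Matrix (Fin n) (Fin n) F),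
          ← LinearMap.det_conj (Matrix.toLin' (Matrix.diagonal lam)) P]
        congr 1
        refine LinearMap.ext fun v => ?_
        simp only [LinearMap.comp_apply, LinearEquiv.coe_coe, Matrix.toLin'_apply]
        rw [← hP, LinearEquiv.apply_symm_apply]
      have hσlam : ∀ i, σ (lam i) = lam i := fun i => by
        obtain ⟨t, ht⟩ := hdvd0
        rw [hσ, show q₀ = n * t + 1 by omega, pow_succ, pow_mul, hlam, one_pow, one_mul]
      obtain ⟨u, hu⟩ := exists_prime_orderOf_dvd_card' (G := Fˣ) n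
        (by rw [Nat.card_units, Nat.card_eq_fintype_card]; exact hdvd)
      set w : F := (u : F)
      have hw : IsPrimitiveRoot w n := by
        have h := IsPrimitiveRoot.orderOf u
        rw [hu] at h
        exact IsPrimitiveRoot.coe_units_iff.2 h
      haveI : NeZero n := ⟨hrpr.ne_zero⟩
      choose ki hki hkw using fun i => hw.eq_pow_of_pow_eq_one (hlam i)
      let k : Fin n → ZMod n := fun i => (ki i : ZMod n)
      have hk0 : ∑ i, k i = 0 := by
        have h : w ^ (∑ i, ki i) = 1 := by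
          rw [← Finset.prod_pow_eq_pow_sum, Finset.prod_congr rfl fun i _ => hkw i, hprodlam]
        show ∑ i, (ki i : ZMod n) = 0
        rw [← Nat.cast_sum]
        exact (ZMod.natCast_eq_zero_iff _ n).2 ((hw.pow_eq_one_iff_dvd _).1 h)
      obtain ⟨t, ht⟩ : ∃ t, ∀ a, (Finset.univ.filter fun i => k i = a).card =
          (Finset.univ.filter fun i => k i = t - a).card := by
        rcases hr35 with rfl | rfl
        · exact S5981.sym3 k hk0
        · exact S5981.sym5 k hk0
      obtain ⟨π, hπ, ⟨i₀, h₀⟩, hπk⟩ := S5981.exists_pairing (hrpr.odd_of_ne_two hn2) k t ht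
      have hpair : ∀ i, lam i * lam (π i) = w ^ t.val := fun i => by
        have h := hπk i
        simp only [k] at h
        rw [← hkw i, ← hkw (π i), ← pow_add, pow_eq_pow_mod (ki i + ki (π i)) hw.pow_eq_one,
          pow_eq_pow_mod t.val hw.pow_eq_one]
        congr 1
        refine (ZMod.natCast_eq_natCast_iff' _ _ n).1 ?_
        rw [Nat.cast_add, h, ZMod.natCast_zmod_val]
        ring
      refine UnitarySimilitudeDerange.conj_into hne hinv hs hh hf.nondegenerate x P (Matrix.diagonal lam) (π.permMatrix F)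
        hP (c := w ^ t.val) (pow_ne_zero _ u.ne_zero) ?_ ?_ ?_ fun d _ => ?_
      · ext i j
        simp only [Matrix.map_apply, transpose_apply, PEquiv.toMatrix_apply, Equiv.toPEquiv_apply,
          Equiv.Perm.permMatrix, Option.mem_def, Option.some.injEq]
        by_cases h : π i = j
        · subst h; simp [hπ]
        · rw [if_neg (fun h' => h (by rw [← h', hπ])), if_neg h, map_zero]
      · rw [Matrix.isUnit_iff_isUnit_det, Matrix.det_permutation]
        exact ((Units.map (Int.castRingHom F).toMonoidHom) (Equiv.Perm.sign π)).isUnit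
      · ext i j
        rw [diagonal_transpose, Matrix.diagonal_map (map_zero σ), Matrix.smul_apply, smul_eq_mul, diagonal_mul,
          mul_diagonal]
        simp only [PEquiv.toMatrix_apply, Equiv.toPEquiv_apply, Equiv.Perm.permMatrix, Option.mem_def, Option.some.injEq,
          hσlam]
        by_cases h : π i = j
        · subst h; rw [if_pos rfl, ← hpair i]; ring
        · rw [if_neg h]; ring
      · refine ⟨Matrix.diagonal (Function.update 1 i₀ d), ?_, ?_⟩
        · rw [det_diagonal, Finset.prod_update_of_mem (Finset.mem_univ i₀)]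
          simp
        · rw [diagonal_mul_diagonal, diagonal_mul_diagonal]
          exact congrArg _ (funext fun i => mul_comm _ _)

end Cfsg.Agent.S5982
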