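import Cfsg.Statements.S5985
import Cfsg.Agent.Lib.Classical.NonsingularPointDerange
-- import your own Cfsg.Agent.* helpers here

set_option autoImplicit false
open scoped MatrixGroups
open Cfsg Cfsg.Agent

namespace Cfsg.Agent.S5985
open Matrix Cfsg.Agent.Classical NonsingularPointDerange

variable {F : Type*} [Field F] [CharP F 2]

/-- A fixed-point-free pair of blocks. -/
theorem exists_alt (k : ℕ) (M : Matrix (Fin k) (Fin k) F) (hM : IsUnit M) (hM1 : IsUnit (M - 1)) :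
    ∃ C Ci A : Matrix (Fin k ⊕ Fin k) (Fin k ⊕ Fin k) F, C * Ci = 1 ∧ (∀ v, v ⬝ᵥ (A *ᵥ v) = 0) ∧
      IsUnit (C * A * Cᵀ + A) := by
  obtain ⟨u, rfl⟩ := hM
  refine ⟨fromBlocks (u : Matrix (Fin k) (Fin k) F) 0 0 1, fromBlocks ((u⁻¹ : GL (Fin k) F) : Matrix (Fin k) (Fin k) F) 0 0 1,
    fromBlocks 0 1 1 0, ?_, fun v => ?_, ?_⟩
  · rw [fromBlocks_multiply, ← fromBlocks_one]
    simp
  · rw [← Sum.elim_comp_inl_inr v, fromBlocks_mulVec, sumElim_dotProduct_sumElim]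
    simp [dotProduct_comm (v ∘ Sum.inr) (v ∘ Sum.inl), CharTwo.add_self_eq_zero]
  · rw [fromBlocks_transpose, fromBlocks_multiply, fromBlocks_multiply, fromBlocks_add]
    simp only [Matrix.transpose_one, Matrix.transpose_zero, mul_zero, zero_mul, add_zero, zero_add, mul_one, one_mul]
    have e : (u : Matrix (Fin k) (Fin k) F) + 1 = (u : Matrix (Fin k) (Fin k) F) - 1 := by
      ext i j; simp [CharTwo.sub_eq_add]
    obtain ⟨w, hw⟩ := hM1
    rw [e, show (u : Matrix (Fin k) (Fin k) F)ᵀ + 1 = ((u : Matrix (Fin k) (Fin k) F) - 1)ᵀ by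
      rw [← e, transpose_add, transpose_one], ← hw]
    refine IsUnit.of_mul_eq_one (b := fromBlocks 0 ((w⁻¹ : GL (Fin k) F) : Matrix (Fin k) (Fin k) F)ᵀ
      ((w⁻¹ : GL (Fin k) F) : Matrix (Fin k) (Fin k) F) 0) ?_
    rw [fromBlocks_multiply, ← fromBlocks_one, ← transpose_mul, Units.inv_mul, Units.mul_inv]
    simp

variable {d : ℕ}

theorem quad_diag (C Ci : Matrix (Fin d) (Fin d) F) (h : Ci * C = 1) (v : Fin d ⊕ Fin d → F) :
    quadFormPlus d F (fromBlocks C 0 0 Ciᵀ *ᵥ v) = quadFormPlus d F v := by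
  show ((fromBlocks C 0 0 Ciᵀ *ᵥ v) ∘ Sum.inl) ⬝ᵥ ((fromBlocks C 0 0 Ciᵀ *ᵥ v) ∘ Sum.inr) = (v ∘ Sum.inl) ⬝ᵥ (v ∘ Sum.inr)
  rw [fromBlocks_mulVec, Sum.elim_comp_inl, Sum.elim_comp_inr, zero_mulVec, zero_mulVec, add_zero, zero_add,
    dotProduct_comm, mulVec_transpose, ← dotProduct_mulVec, mulVec_mulVec, h, one_mulVec, dotProduct_comm]

theorem quad_upper (A : Matrix (Fin d) (Fin d) F) (h : ∀ v, v ⬝ᵥ (A *ᵥ v) = 0) (v : Fin d ⊕ Fin d → F) :
    quadFormPlus d F (fromBlocks 1 A 0 1 *ᵥ v) = quadFormPlus d F v := by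
  show ((fromBlocks 1 A 0 1 *ᵥ v) ∘ Sum.inl) ⬝ᵥ ((fromBlocks 1 A 0 1 *ᵥ v) ∘ Sum.inr) = (v ∘ Sum.inl) ⬝ᵥ (v ∘ Sum.inr)
  rw [fromBlocks_mulVec, Sum.elim_comp_inl, Sum.elim_comp_inr, zero_mulVec, one_mulVec, one_mulVec, zero_add,
    add_dotProduct, dotProduct_comm (A *ᵥ _), h, add_zero]

/-- An involution of `Ω⁺` fixing no non-singular vector, for even rank. -/
theorem exists_derangement [Fintype F] (k : ℕ) (hk : 2 ≤ k) (hd : d = k + k) :
    ∃ x : GL (Fin d ⊕ Fin d) F, x ∈ Geo.omegaGL (quadFormPlus d F) ∧ x ^ 2 = 1 ∧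
      (∀ v, (x : Matrix (Fin d ⊕ Fin d) (Fin d ⊕ Fin d) F) *ᵥ v = v → quadFormPlus d F v = 0) := by
  obtain ⟨K, _, _, φ, hK⟩ := exists_field_mat (F := F) 2 k (by omega)
  haveI : Nontrivial (Matrix (Fin k) (Fin k) F) := by
    haveI : Nonempty (Fin k) := ⟨⟨0, by omega⟩⟩
    infer_instance
  obtain ⟨t, ht0, ht1⟩ : ∃ t : K, t ≠ 0 ∧ t ≠ 1 := by
    classical
    by_contra h
    push Not at h
    have hsub : (Finset.univ : Finset K) ⊆ {0, 1} := fun x _ => by by_cases hx : x = 0 <;> simp [hx, h x]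
    have h3 := Finset.card_le_card hsub
    rw [Finset.card_univ, Finset.card_pair zero_ne_one, hK] at h3
    have h4 : 2 ^ k ≤ Fintype.card F ^ k := Nat.pow_le_pow_left Fintype.one_lt_card k
    have h5 : 4 ≤ 2 ^ k := le_trans (by norm_num) (Nat.pow_le_pow_right (by norm_num : 1 ≤ 2) hk)
    omega
  obtain ⟨C₀, Ci₀, A₀, hC₀, hA₀, hu₀⟩ := exists_alt k (φ t) ((isUnit_iff_ne_zero.2 ht0).map φ)
    (by rw [← map_one φ, ← map_sub]; exact (isUnit_iff_ne_zero.2 (sub_ne_zero.2 ht1)).map φ)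
  let e : Fin d ≃ Fin k ⊕ Fin k := (finCongr hd).trans finSumFinEquiv.symm
  set C := C₀.submatrix e e
  set Ci := Ci₀.submatrix e e
  set A := A₀.submatrix e e
  have hC : C * Ci = 1 := by rw [submatrix_mul_equiv, hC₀, submatrix_one_equiv]
  have hC' : Ci * C = 1 := mul_eq_one_comm.1 hC
  have hA : ∀ v, v ⬝ᵥ (A *ᵥ v) = 0 := fun v => by
    rw [submatrix_mulVec_equiv, ← comp_equiv_symm_dotProduct]; exact hA₀ _
  have hu : IsUnit (C * A * Cᵀ + A) := by
    rw [transpose_submatrix, submatrix_mul_equiv, submatrix_mul_equiv,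
      show (C₀ * A₀ * C₀ᵀ).submatrix e e + A = (C₀ * A₀ * C₀ᵀ + A₀).submatrix e e from rfl, Matrix.isUnit_submatrix_equiv]
    exact hu₀
  have hneg : ∀ B : Matrix (Fin d) (Fin d) F, B + B = 0 := fun B => by ext i j; simp [CharTwo.add_self_eq_zero]
  let g₁ : GL (Fin d ⊕ Fin d) F := ⟨fromBlocks C 0 0 Ciᵀ, fromBlocks Ci 0 0 Cᵀ,
    by rw [fromBlocks_multiply, ← fromBlocks_one, ← transpose_mul, hC]; simp,
    by rw [fromBlocks_multiply, ← fromBlocks_one, ← transpose_mul, hC']; simp⟩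
  let g₂ : GL (Fin d ⊕ Fin d) F := ⟨fromBlocks 1 A 0 1, fromBlocks 1 A 0 1,
    by rw [fromBlocks_multiply, ← fromBlocks_one]; simp [hneg],
    by rw [fromBlocks_multiply, ← fromBlocks_one]; simp [hneg]⟩
  let a₁ : isometryGroup F (quadFormPlus d F) := ⟨g₁, mem_isometryGroup.2 fun v => quad_diag C Ci hC' v⟩
  let a₂ : isometryGroup F (quadFormPlus d F) := ⟨g₂, mem_isometryGroup.2 fun v => quad_upper A hA v⟩
  set S := C * A * Cᵀ + A with hS
  have hval : ((g₁ * g₂ * g₁⁻¹ * g₂⁻¹ : GL (Fin d ⊕ Fin d) F) : Matrix (Fin d ⊕ Fin d) (Fin d ⊕ Fin d) F) = fromBlocks 1 S 0 1 := by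
    show fromBlocks C 0 0 Ciᵀ * fromBlocks 1 A 0 1 * fromBlocks Ci 0 0 Cᵀ * fromBlocks 1 A 0 1 = _
    simp only [fromBlocks_multiply, mul_one, one_mul, mul_zero, zero_mul, add_zero, zero_add]
    rw [hC, ← transpose_mul, hC, transpose_one, one_mul, hS, add_comm A]
  refine ⟨g₁ * g₂ * g₁⁻¹ * g₂⁻¹, ⟨a₁ * a₂ * a₁⁻¹ * a₂⁻¹, ?_, rfl⟩, Units.ext ?_, fun v hv => ?_⟩
  · exact Subgroup.commutator_mem_commutator (Subgroup.mem_top _) (Subgroup.mem_top _)
  · rw [Units.val_pow_eq_pow_val, hval, pow_two, fromBlocks_multiply, Units.val_one, ← fromBlocks_one]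
    simp [hneg]
  · rw [hval, fromBlocks_mulVec] at hv
    have h1 := congrArg (fun w => w ∘ Sum.inl) hv
    simp only [Sum.elim_comp_inl, one_mulVec, add_eq_left] at h1
    have h2 : v ∘ Sum.inr = 0 := by
      obtain ⟨w, hw⟩ := hu
      rw [← hw] at h1
      have := congrArg (fun z => ((w⁻¹ : GL (Fin d) F) : Matrix (Fin d) (Fin d) F) *ᵥ z) h1
      simpa using this
    show (v ∘ Sum.inl) ⬝ᵥ (v ∘ Sum.inr) = 0
    rw [h2, dotProduct_zero]


/-- Elements of prime order of Ω⁺_n(q), q even, with no fixed nonsingular 1-space. Here `T = PΩ⁺_n(F)`, `n = 2d ≥ 8`, realised through `Ω⁺_n(q)`, the commutator subgroup of the isometry group of `Q = Σ xᵢyᵢ` over the field `F` with `q` elements; an element of `T` of prime order `r` is an element `x` of `Ω⁺_n(q)` with `x^r` scalar and `x` not scalar; `q` is even (so the centre is trivial). Let Ω be the set of 1-dimensional subspaces spanned by a vector `v` with `Q(v) ≠ 0`,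 and let `r` be a prime dividing their number. Then every element of `T` of order `r` fixes some nonsingular 1-space if and only if `r = 2` and `n ≡ 2 (mod 4)` (that is, `d` is odd). -/
theorem result {F : Type*} [Field F] [Fintype F] {p : ℕ} [Fact p.Prime] [CharP F p] {q : ℕ} (hq : Fintype.card F = q)
    (hp : p = 2) (d : ℕ) (hd : 4 ≤ d) (r : ℕ) [Fact r.Prime]
    (hrΩ : r ∣ Nat.card {W : Submodule F (Fin d ⊕ Fin d → F) // Module.finrank F ↥W = 1 ∧ ∃ v ∈ W, Cfsg.quadFormPlus d F v ≠ 0}) :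
    (∀ x : GL (Fin d ⊕ Fin d) F, x ∈ Cfsg.Geo.omegaGL (Cfsg.quadFormPlus d F) →
      (∃ z : F, ((x ^ r : GL (Fin d ⊕ Fin d) F) : Matrix (Fin d ⊕ Fin d) (Fin d ⊕ Fin d) F) = z • (1 : Matrix (Fin d ⊕ Fin d) (Fin d ⊕ Fin d) F)) →
      (∀ z : F, (x : Matrix (Fin d ⊕ Fin d) (Fin d ⊕ Fin d) F) ≠ z • (1 : Matrix (Fin d ⊕ Fin d) (Fin d ⊕ Fin d) F)) →
      ∃ W : Submodule F (Fin d ⊕ Fin d → F), (Module.finrank F ↥W = 1 ∧ ∃ v ∈ W, Cfsg.quadFormPlus d F v ≠ 0) ∧ W.map (Matrix.toLin' (x : Matrix (Fin d ⊕ Fin d) (Fin d ⊕ Fin d) F)) ≤ W) ↔ (r = 2 ∧ Odd d) := by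

  classical
  subst hp
  subst hq
  set Q := qfPlus d F with hQdef
  have hQc : quadFormPlus d F = ⇑Q := (coe_qfPlus d).symm
  have hnd : (QuadraticMap.polarBilin Q).Nondegenerate := nondegenerate_qfPlus d
  have hι : Fintype.card (Fin d ⊕ Fin d) = 2 * d := by simp; omega
  have hG : OrthAut.GenQ F (Fin d ⊕ Fin d) := Or.inr (by omega)
  obtain ⟨v₀, hv₀⟩ : ∃ v, Q v ≠ 0 := by
    refine ⟨Pi.single (Sum.inl ⟨0, by omega⟩) 1 + Pi.single (Sum.inr ⟨0, by omega⟩) 1, ?_⟩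
    simp [hQdef, qfPlus_apply, quadFormPlus, Pi.single_apply]
  have hscal : ∀ x : GL (Fin d ⊕ Fin d) F, (∀ v, Q ((x : Matrix _ _ F) *ᵥ v) = Q v) →
      (∀ v, (x : Matrix (Fin d ⊕ Fin d) (Fin d ⊕ Fin d) F) *ᵥ v = v → Q v = 0) →
      ∀ z : F, (x : Matrix (Fin d ⊕ Fin d) (Fin d ⊕ Fin d) F) ≠ z • (1 : Matrix (Fin d ⊕ Fin d) (Fin d ⊕ Fin d) F) := by
    intro x hx hfix z hz
    have h := hx v₀
    rw [hz, smul_mulVec, one_mulVec, QuadraticMap.map_smul, smul_eq_mul] at h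
    have hz1 : z = 1 := eq_one_of_sq (mul_right_cancel₀ hv₀ (by rw [h, one_mul]))
    exact hv₀ (hfix v₀ (by rw [hz, hz1, one_smul, one_mulVec]))
  constructor
  · intro H
    rw [hQc] at H
    have key : ∀ x : GL (Fin d ⊕ Fin d) F, x ∈ Geo.omegaGL ⇑Q → x ^ r = 1 →
        ¬ (∀ v, (x : Matrix (Fin d ⊕ Fin d) (Fin d ⊕ Fin d) F) *ᵥ v = v → Q v = 0) := by
      intro x hx hxr hfix
      have hiso : ∀ v, Q ((x : Matrix _ _ F) *ᵥ v) = Q v := by
        obtain ⟨a, -, rfl⟩ := hx; exact mem_isometryGroup.1 a.2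
      obtain ⟨W, hW, hle⟩ := H x hx ⟨1, by rw [hxr, Units.val_one, one_smul]⟩ (hscal x hiso hfix)
      obtain ⟨v, hv, hxv⟩ := fixed_of_map_le Q _ hiso W hW hle
      exact hv (hfix v hxv)
    by_cases hr : r = 2
    · refine ⟨hr, Nat.not_even_iff_odd.1 fun ⟨k, hk⟩ => ?_⟩
      obtain ⟨x, hx, hx2, hfix⟩ := exists_derangement (F := F) k (by omega) hk
      rw [hQc] at hx
      exact key x hx (hr ▸ hx2) fun v hv => by rw [← hfix v hv, hQc]
    · exfalso
      set P := Nat.card {W : Submodule F (Fin d ⊕ Fin d → F) // Module.finrank F W = 1 ∧ ∃ v ∈ W, Q v ≠ 0} with hPdef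
      have hrP : r ∣ P := by rw [hQc] at hrΩ; exact hrΩ
      have hc := congrArg (Nat.cast : ℕ → ℤ) (card_points_mul Q)
      rw [hι, ← hPdef] at hc
      push_cast [Nat.cast_sub (Fintype.card_pos : 0 < Fintype.card F)] at hc
      have hz := zeros_qfPlus (F := F) d
      rw [← hQdef] at hz
      have hq1 : (Fintype.card F : ℤ) - 1 ≠ 0 := by have := Fintype.one_lt_card (α := F); omega
      have h1 : (P : ℤ) * Fintype.card F = (Fintype.card F : ℤ) ^ d * ((Fintype.card F : ℤ) ^ d - 1) := by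
        refine mul_right_cancel₀ hq1 ?_
        linear_combination (Fintype.card F : ℤ) * hc - hz
      have hpos : 1 ≤ Fintype.card F ^ d := Nat.one_le_pow _ _ Fintype.card_pos
      have h2 : P * Fintype.card F = Fintype.card F ^ d * (Fintype.card F ^ d - 1) := by
        zify [hpos]; exact h1
      have hrd : r ∣ Fintype.card F ^ d * (Fintype.card F ^ d - 1) := h2 ▸ hrP.mul_right _
      have hrq : r ∣ Fintype.card F ^ d - 1 := by
        refine ((Fact.out : r.Prime).dvd_mul.1 hrd).resolve_left fun h => hr ?_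
        obtain ⟨n, hp', hFn⟩ := FiniteField.card F 2
        have h' := (Fact.out : r.Prime).dvd_of_dvd_pow h
        rw [hFn] at h'
        exact (Nat.prime_dvd_prime_iff_eq Fact.out Nat.prime_two).1 ((Fact.out : r.Prime).dvd_of_dvd_pow h')
      obtain ⟨M, Mi, hMM, hMr, hMir, hM1, hMi1⟩ := exists_fpf_mat (F := F) 2 d (by omega) hrq
      have hpow : ∀ n : ℕ, fromBlocks M 0 0 Miᵀ ^ n = fromBlocks (M ^ n) 0 0 (Mi ^ n)ᵀ := fun n => by
        induction n with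
        | zero => simp [fromBlocks_one]
        | succ n ih =>
          rw [pow_succ, ih, fromBlocks_multiply, pow_succ, pow_succ', transpose_mul]
          simp
      let x : GL (Fin d ⊕ Fin d) F := Units.ofPowEqOne (fromBlocks M 0 0 Miᵀ) r
        (by rw [hpow, hMr, hMir, transpose_one, fromBlocks_one]) (Fact.out : r.Prime).ne_zero
      have hxval : (x : Matrix (Fin d ⊕ Fin d) (Fin d ⊕ Fin d) F) = fromBlocks M 0 0 Miᵀ := rfl
      have hiso : ∀ v, Q ((x : Matrix _ _ F) *ᵥ v) = Q v := fun v => by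
        rw [hxval, ← hQc]; exact quad_diag M Mi (mul_eq_one_comm.1 hMM) v
      refine key x (mem_omegaGL_gen Q hnd hG x (mem_isometryGroup.2 hiso) ((Fact.out : r.Prime).odd_of_ne_two hr) (Units.pow_ofPowEqOne _ _))
        (Units.pow_ofPowEqOne _ _) fun v hv => ?_
      rw [hxval, fromBlocks_mulVec] at hv
      have hv1 : (M - 1) *ᵥ (v ∘ Sum.inl) = 0 := by
        have h := congrArg (fun w => w ∘ Sum.inl) hv
        simp only [Sum.elim_comp_inl, zero_mulVec, add_zero] at h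
        rw [sub_mulVec, one_mulVec, h, sub_self]
      have hv1' : v ∘ Sum.inl = 0 := by
        obtain ⟨w, hw⟩ := hM1
        rw [← hw] at hv1
        have := congrArg (fun z => ((w⁻¹ : GL (Fin d) F) : Matrix (Fin d) (Fin d) F) *ᵥ z) hv1
        simpa using this
      rw [← hQc]
      show (v ∘ Sum.inl) ⬝ᵥ (v ∘ Sum.inr) = 0
      rw [hv1', zero_dotProduct]
  · rintro ⟨rfl, hodd⟩ x hx ⟨z, hz⟩ -
    rw [hQc] at hx ⊢
    have hiso : ∀ v, Q ((x : Matrix _ _ F) *ᵥ v) = Q v := by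
      obtain ⟨a, -, rfl⟩ := hx; exact mem_isometryGroup.1 a.2
    have hxx : (x : Matrix (Fin d ⊕ Fin d) (Fin d ⊕ Fin d) F) * (x : Matrix (Fin d ⊕ Fin d) (Fin d ⊕ Fin d) F) = z • 1 := by
      rw [← hz, Units.val_pow_eq_pow_val, pow_two]
    have hz1 : z = 1 := by
      have h := (hiso ((x : Matrix (Fin d ⊕ Fin d) (Fin d ⊕ Fin d) F) *ᵥ v₀)).trans (hiso v₀)
      rw [mulVec_mulVec, hxx, smul_mulVec, one_mulVec, QuadraticMap.map_smul, smul_eq_mul] at h
      exact eq_one_of_sq (mul_right_cancel₀ hv₀ (by rw [h, one_mul]))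
    rw [hz1, one_smul] at hxx
    by_contra hno
    obtain ⟨he, -⟩ := half_of_no_fixed Q hnd hι (fun C hC => singular_finrank_le_plus d C hC) _ hiso hxx fun v hv => by
      by_contra h
      exact hno (point_of_fixed Q _ h hv)
    exact Nat.not_even_iff_odd.2 hodd he

end Cfsg.Agent.S5985
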