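import Cfsg.Statements.S5983
import Cfsg.Agent.Lib.Classical.NonsingularPointDerange
import Cfsg.Agent.S5985
import Cfsg.Agent.Lib.Classical.UnipotentRealisation
import Cfsg.Agent.Lib.Classical.SympBlocks
import Cfsg.Agent.Lib.Classical.SympGen
import Cfsg.Agent.Lib.Classical.OrthOrder
import Cfsg.Agent.Lib.Classical.MaxRational
import Cfsg.Agent.Lib.Classical.AschEven
-- import your own Cfsg.Agent.* helpers here

set_option autoImplicit false
open scoped MatrixGroups
open Cfsg Cfsg.Agent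

namespace Cfsg.Agent.S5983
open Matrix Module Cfsg.Agent.Classical

variable {F : Type*} [Field F] [CharP F 2] {d : ℕ}

theorem two0 : (2 : F) = 0 := CharTwo.two_eq_zero

/-- A quadratic form polarising to the symplectic form. -/
def Pol (Q : QuadraticForm F (Fin d ⊕ Fin d → F)) : Prop :=
  ∀ u v, QuadraticMap.polar ⇑Q u v = sympForm d F u v

/-- A totally singular subspace of half the dimension. -/
def HalfQ (Q : QuadraticForm F (Fin d ⊕ Fin d → F)) : Prop :=
  ∃ U : Submodule F (Fin d ⊕ Fin d → F), (∀ u ∈ U, Q u = 0) ∧ finrank F U = d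

theorem pol_nondeg {Q : QuadraticForm F (Fin d ⊕ Fin d → F)} (h : Pol Q) : (QuadraticMap.polarBilin Q).Nondegenerate :=
  nondegenerate_of_separatingLeft _ fun u hu => eq_zero_of_sympForm_eq_zero fun v => by
    rw [← h, ← QuadraticMap.polarBilin_apply_apply]; exact hu v

theorem sympB_nondeg : (sympB d F).Nondegenerate := by
  refine (LinearMap.IsAlt.isRefl fun u => ?_).nondegenerate_iff_separatingLeft.2 fun u hu => ?_
  · rw [sympB_apply, sympForm_self]
  · exact eq_zero_of_sympForm_eq_zero fun v => by rw [← sympB_apply]; exact hu v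

/-- Adding the square of `f (c, ·)`. -/
noncomputable def addSq (Q : QuadraticForm F (Fin d ⊕ Fin d → F)) (c : Fin d ⊕ Fin d → F) :
    QuadraticForm F (Fin d ⊕ Fin d → F) :=
  Q + QuadraticMap.linMulLin (sympB d F c) (sympB d F c)

theorem addSq_apply (Q : QuadraticForm F (Fin d ⊕ Fin d → F)) (c v : Fin d ⊕ Fin d → F) :
    addSq Q c v = Q v + sympForm d F c v * sympForm d F c v := by
  simp [addSq, sympB_apply]

theorem pol_addSq {Q : QuadraticForm F (Fin d ⊕ Fin d → F)} (h : Pol Q) (c : Fin d ⊕ Fin d → F) : Pol (addSq Q c) := by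
  intro u v
  have h' := h u v
  rw [QuadraticMap.polar] at h' ⊢
  rw [addSq_apply, addSq_apply, addSq_apply, sympForm_add_right]
  linear_combination h' + (sympForm d F c u * sympForm d F c v) * two0 (F := F)

theorem swap2 (u v : Fin d ⊕ Fin d → F) : sympForm d F v u = sympForm d F u v := by
  rw [sympForm_swap, CharTwo.neg_eq]

theorem pol_zero {Q : QuadraticForm F (Fin d ⊕ Fin d → F)} (h : Pol Q) {U : Submodule F (Fin d ⊕ Fin d → F)}
    (hU : ∀ u ∈ U, Q u = 0) : ∀ u ∈ U, ∀ v ∈ U, sympForm d F u v = 0 := fun u hu v hv => by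
  rw [← h, QuadraticMap.polar, hU _ (U.add_mem hu hv), hU _ hu, hU _ hv]; ring

theorem finrank_orth (U : Submodule F (Fin d ⊕ Fin d → F)) :
    finrank F (LinearMap.BilinForm.orthogonal (sympB d F) U) = 2 * d - finrank F U := by
  rw [LinearMap.BilinForm.finrank_orthogonal sympB_nondeg]
  rw [Module.finrank_fintype_fun_eq_card, Fintype.card_sum, Fintype.card_fin, two_mul]

theorem mem_orth {U : Submodule F (Fin d ⊕ Fin d → F)} {v : Fin d ⊕ Fin d → F} :
    v ∈ LinearMap.BilinForm.orthogonal (sympB d F) U ↔ ∀ u ∈ U, sympForm d F u v = 0 := by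
  rw [LinearMap.BilinForm.mem_orthogonal_iff]
  exact forall₂_congr fun u _ => by rw [← sympB_apply]

variable [Fintype F]

theorem exists_sqrt2 (x : F) : ∃ s, s * s = x := by
  obtain ⟨r, hr⟩ := FiniteField.isSquare_of_char_two (ringChar.eq F 2) x
  exact ⟨r, hr.symm⟩

/-- A non-singular vector turns a form into one with a large singular subspace. -/
theorem to_plus {Q : QuadraticForm F (Fin d ⊕ Fin d → F)} (h : Pol Q) (hd : 1 ≤ d) {c : Fin d ⊕ Fin d → F}
    (hc : Q c ≠ 0) : ∃ a : F, HalfQ (addSq Q (a • c)) := by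
  have hS : ∀ k, k + 1 ≤ d → ∃ S : Submodule F (Fin d ⊕ Fin d → F),
      (∀ s ∈ S, Q s = 0) ∧ (∀ s ∈ S, sympForm d F s c = 0) ∧ finrank F S = k := by
    intro k
    induction k with
    | zero => exact fun _ => ⟨⊥, by simp, by simp, finrank_bot F _⟩
    | succ k ih =>
      intro hk
      obtain ⟨S, hS, hSc, hSk⟩ := ih (by omega)
      set T := S ⊔ Submodule.span F {c}
      have hT1 : finrank F T ≤ k + 1 := by
        refine (Submodule.finrank_add_le_finrank_add_finrank _ _).trans ?_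
        have := finrank_span_le_card (R := F) ({c} : Set (Fin d ⊕ Fin d → F))
        simp only [Set.toFinset_singleton, Finset.card_singleton] at this
        omega
      obtain ⟨w, hw, hwT⟩ : ∃ w ∈ LinearMap.BilinForm.orthogonal (sympB d F) T, w ∉ T := by
        by_contra hno
        push Not at hno
        have h1 := Submodule.finrank_mono (show LinearMap.BilinForm.orthogonal (sympB d F) T ≤ T from hno)
        rw [finrank_orth] at h1
        omega
      obtain ⟨t, ht⟩ := exists_sqrt2 (Q w / Q c)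
      have hwc : sympForm d F c w = 0 := mem_orth.1 hw c (Submodule.mem_sup_right (Submodule.mem_span_singleton_self c))
      have hws : ∀ s ∈ S, sympForm d F s w = 0 := fun s hs => mem_orth.1 hw s (Submodule.mem_sup_left hs)
      set v := w + t • c
      have hQv : Q v = 0 := by
        show Q (w + t • c) = 0
        rw [QuadraticMap.map_add ⇑Q w (t • c), QuadraticMap.map_smul, h, sympForm_smul_right, swap2, hwc, smul_eq_mul, ht,
          div_mul_cancel₀ _ hc]
        linear_combination Q w * two0 (F := F)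
      have hvS : v ∉ S := fun hv => hwT (by
        rw [show w = v - t • c by simp [v]]
        exact Submodule.sub_mem _ (Submodule.mem_sup_left hv) (Submodule.smul_mem _ _ (Submodule.mem_sup_right (Submodule.mem_span_singleton_self c))))
      refine ⟨S ⊔ Submodule.span F {v}, ?_, ?_, ?_⟩
      · intro x hx
        obtain ⟨s, hs, y, hy, rfl⟩ := Submodule.mem_sup.1 hx
        obtain ⟨b, rfl⟩ := Submodule.mem_span_singleton.1 hy
        rw [QuadraticMap.map_add ⇑Q s (b • v), QuadraticMap.map_smul, hS s hs, hQv, h, sympForm_smul_right,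
          show sympForm d F s v = 0 by rw [sympForm_add_right, sympForm_smul_right, hws s hs, hSc s hs]; ring]
        simp
      · intro x hx
        obtain ⟨s, hs, y, hy, rfl⟩ := Submodule.mem_sup.1 hx
        obtain ⟨b, rfl⟩ := Submodule.mem_span_singleton.1 hy
        rw [sympForm_add_left, sympForm_smul_left, hSc s hs, sympForm_add_left, sympForm_smul_left, swap2, hwc, sympForm_self]
        ring
      · have h1 := Submodule.finrank_sup_add_finrank_inf_eq S (Submodule.span F {v})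
        have h2 : S ⊓ Submodule.span F {v} = ⊥ := by
          rw [eq_bot_iff]
          rintro x ⟨hx, hx'⟩
          obtain ⟨b, rfl⟩ := Submodule.mem_span_singleton.1 hx'
          by_cases hb : b = 0
          · simp [hb]
          · exact absurd ((S.smul_mem_iff hb).1 hx) hvS
        rw [h2, finrank_bot, add_zero, finrank_span_singleton (fun h0 => hvS (by rw [h0]; exact S.zero_mem)), hSk] at h1
        exact h1
  obtain ⟨S, hS, hSc, hSk⟩ := hS (d - 1) (by omega)
  have hc0 : c ≠ 0 := fun h0 => hc (by rw [h0, QuadraticMap.map_zero])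
  have hcS : c ∉ S := fun hc' => hc (hS c hc')
  obtain ⟨u, hu, huc⟩ : ∃ u ∈ LinearMap.BilinForm.orthogonal (sympB d F) S, sympForm d F c u ≠ 0 := by
    by_contra hno
    push Not at hno
    have hle : LinearMap.BilinForm.orthogonal (sympB d F) S ≤
        LinearMap.BilinForm.orthogonal (sympB d F) (S ⊔ Submodule.span F {c}) := fun u hu => mem_orth.2 fun x hx => by
      obtain ⟨s, hs, y, hy, rfl⟩ := Submodule.mem_sup.1 hx
      obtain ⟨b, rfl⟩ := Submodule.mem_span_singleton.1 hy
      rw [sympForm_add_left, sympForm_smul_left, mem_orth.1 hu s hs, hno u hu]; ring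
    have h1 := Submodule.finrank_mono hle
    have hlt : S < S ⊔ Submodule.span F {c} := lt_of_le_of_ne le_sup_left fun e =>
      hcS (by rw [e]; exact Submodule.mem_sup_right (Submodule.mem_span_singleton_self c))
    have h2 := Submodule.finrank_lt_finrank_of_lt hlt
    rw [finrank_orth, finrank_orth] at h1
    omega
  obtain ⟨t, ht⟩ := exists_sqrt2 (Q u)
  set a := t / sympForm d F c u
  refine ⟨a, S ⊔ Submodule.span F {u}, fun x hx => ?_, ?_⟩
  · obtain ⟨s, hs, y, hy, rfl⟩ := Submodule.mem_sup.1 hx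
    obtain ⟨b, rfl⟩ := Submodule.mem_span_singleton.1 hy
    rw [addSq_apply, QuadraticMap.map_add ⇑Q s (b • u), QuadraticMap.map_smul, hS s hs, h, sympForm_smul_right,
      mem_orth.1 hu s hs, sympForm_smul_left, sympForm_add_right, sympForm_smul_right, swap2 s c, hSc s hs, smul_eq_mul, ← ht]
    have e : a * sympForm d F c u = t := div_mul_cancel₀ _ huc
    linear_combination (b * b * (a * sympForm d F c u + t)) * e + (b * b * (t * t)) * two0 (F := F)
  · have h1 := Submodule.finrank_sup_add_finrank_inf_eq S (Submodule.span F {u})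
    have h2 : S ⊓ Submodule.span F {u} = ⊥ := by
      rw [eq_bot_iff]
      rintro x ⟨hx, hx'⟩
      obtain ⟨b, rfl⟩ := Submodule.mem_span_singleton.1 hx'
      by_cases hb : b = 0
      · simp [hb]
      · exact absurd (hSc u ((S.smul_mem_iff hb).1 hx)) (by rw [swap2]; exact huc)
    rw [h2, finrank_bot, add_zero, finrank_span_singleton (fun h0 => huc (by rw [h0, sympForm_zero_right])), hSk] at h1
    rw [h1]; omega

/-- A value outside the image of `t ↦ t² + t`. -/
theorem exists_irred : ∃ y : F, ∀ t : F, t * t + t ≠ y := by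
  by_contra h
  push Not at h
  have hinj : Function.Injective (fun t : F => t * t + t) := Finite.injective_iff_surjective.2 h
  exact zero_ne_one (hinj (show (0 : F) * 0 + 0 = 1 * 1 + 1 by linear_combination -(two0 (F := F))))

/-- A non-singular vector spoils a large singular subspace. -/
theorem to_minus {Q : QuadraticForm F (Fin d ⊕ Fin d → F)} (h : Pol Q) (hd : 1 ≤ d) (hQ : HalfQ Q)
    {c : Fin d ⊕ Fin d → F} (hc : Q c ≠ 0) : ∃ a : F, ¬ HalfQ (addSq Q (a • c)) := by
  obtain ⟨y, hy⟩ := exists_irred (F := F)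
  obtain ⟨a, ha⟩ := exists_sqrt2 (y / Q c)
  refine ⟨a, fun ⟨U', hU', hU'd⟩ => ?_⟩
  set c' := a • c
  have hQc : Q c' = y := by
    show Q (a • c) = y
    rw [QuadraticMap.map_smul, smul_eq_mul, ha, div_mul_cancel₀ _ hc]
  have hy0 : y ≠ 0 := fun h0 => hy 0 (by rw [h0]; ring)
  have hB := pol_zero (pol_addSq h c') hU'
  have hmax : ∀ w, (∀ u ∈ U', sympForm d F u w = 0) → w ∈ U' := by
    intro w hw
    have hle : U' ≤ LinearMap.BilinForm.orthogonal (sympB d F) U' := fun v hv => mem_orth.2 fun u hu => hB u hu v hv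
    have e : U' = LinearMap.BilinForm.orthogonal (sympB d F) U' :=
      Submodule.eq_of_le_of_finrank_eq hle (by rw [finrank_orth, hU'd]; omega)
    rw [e]; exact mem_orth.2 hw
  obtain ⟨u₀, hu₀, hne⟩ : ∃ u ∈ U', sympForm d F c' u ≠ 0 := by
    by_contra hno
    push Not at hno
    have h1 := hU' c' (hmax c' fun u hu => by rw [swap2]; exact hno u hu)
    rw [addSq_apply, sympForm_self, hQc] at h1
    exact hy0 (by linear_combination h1)
  obtain ⟨u', hu', hcu⟩ : ∃ u' ∈ U', sympForm d F c' u' = 1 :=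
    ⟨(sympForm d F c' u₀)⁻¹ • u₀, U'.smul_mem _ hu₀, by rw [sympForm_smul_right, inv_mul_cancel₀ hne]⟩
  have hQu : Q u' = 1 := by
    have h1 := hU' u' hu'
    rw [addSq_apply, hcu] at h1
    linear_combination h1 - two0 (F := F)
  let S : Submodule F (Fin d ⊕ Fin d → F) := U' ⊓ LinearMap.ker (sympB d F c')
  have hSmem : ∀ s, s ∈ S ↔ s ∈ U' ∧ sympForm d F c' s = 0 := fun s => by
    simp [S, LinearMap.mem_ker, sympB_apply]
  have hQS : ∀ s ∈ S, Q s = 0 := fun s hs => by
    obtain ⟨h1, h2⟩ := (hSmem s).1 hs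
    have h3 := hU' s h1
    rw [addSq_apply, h2] at h3
    linear_combination h3
  have hSd : finrank F S < d := by
    refine lt_of_lt_of_eq (Submodule.finrank_lt_finrank_of_lt (lt_of_le_of_ne inf_le_left fun e => ?_)) hU'd
    have := ((hSmem u').1 (e.symm ▸ hu')).2
    rw [hcu] at this
    exact one_ne_zero this
  obtain ⟨U, hU, hUd⟩ := hQ
  have hle := singular_finrank_le Q (pol_nondeg h) hQS hU (fun W hSW hW => ?_)
  · omega
  refine le_antisymm (fun w hw => ?_) hSW
  have hBW := pol_zero h hW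
  set x := sympForm d F c' w
  set z := sympForm d F u' w
  set s := w - x • u' - z • c'
  have hsu : ∀ u ∈ U', sympForm d F u s = 0 := by
    intro u hu
    have hu'' : u - sympForm d F c' u • u' ∈ S := (hSmem _).2 ⟨U'.sub_mem hu (U'.smul_mem _ hu'), by
      rw [sympForm_sub_right, sympForm_smul_right, hcu, mul_one, sub_self]⟩
    have e1 := hBW _ (hSW hu'') w hw
    rw [sympForm_sub_left, sympForm_smul_left] at e1
    simp only [s, sympForm_sub_right, sympForm_smul_right, swap2 c' u, hB u hu u' hu']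
    linear_combination e1
  have hs : s ∈ S := (hSmem s).2 ⟨hmax s hsu, by
    simp only [s, sympForm_sub_right, sympForm_smul_right, sympForm_self, hcu]
    ring⟩
  have hsu2 := hsu u' hu'
  have hsc := ((hSmem s).1 hs).2
  have hQw : x * x + z * z * y + x * z = 0 := by
    have e : Q w = 0 := hW w hw
    rw [show w = s + (x • u' + z • c') by simp only [s]; abel, QuadraticMap.map_add ⇑Q s, hQS s hs, h,
      sympForm_add_right, sympForm_smul_right, sympForm_smul_right, swap2 u' s, hsu2, swap2 c' s, hsc,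
      QuadraticMap.map_add ⇑Q (x • u') (z • c'), h, sympForm_smul_left, sympForm_smul_right, swap2 c' u', hcu,
      QuadraticMap.map_smul, QuadraticMap.map_smul, hQu, hQc, smul_eq_mul, smul_eq_mul] at e
    linear_combination e
  by_cases hz : z = 0
  · have hx : x = 0 := by
      rw [hz] at hQw; exact mul_self_eq_zero.1 (by linear_combination hQw)
    rw [show w = s by simp [s, hx, hz]]
    exact hs
  · refine absurd ?_ (hy (x / z))
    field_simp
    linear_combination hQw - (z * z * y) * two0 (F := F)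

omit [CharP F 2] in
/-- The two isometry classes. -/
theorem std_form {m : ℕ} (Q : QuadraticForm F (Fin (m + 1) ⊕ Fin (m + 1) → F))
    (hQ : (QuadraticMap.polarBilin Q).Nondegenerate) :
    (∃ e : (Fin (m + 1) ⊕ Fin (m + 1) → F) ≃ₗ[F] (Fin (m + 1) ⊕ Fin (m + 1) → F), ∀ v, Q (e v) = qfPlus (m + 1) F v) ∨
      (∃ (ζ : F) (_ : OrthAut.Aniso F 1 ζ) (e : ((Fin m ⊕ Fin m) ⊕ Fin 2 → F) ≃ₗ[F] (Fin (m + 1) ⊕ Fin (m + 1) → F)),
        ∀ v, Q (e v) = qfMinus m F 1 ζ v) := by
  have hV : finrank F (Fin (m + 1) ⊕ Fin (m + 1) → F) = 2 * (m + 1) := by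
    rw [Module.finrank_fintype_fun_eq_card, Fintype.card_sum, Fintype.card_fin, two_mul]
  rcases exists_even_basis hV Q hQ with ⟨bb, hq0, hEF, hEE⟩ | ⟨-, bb, η, hη, hq0, hEF, hEE, hER, h0, h01, h1⟩
  · left
    refine exists_isometry_of_bases (Q := qfPlus (m + 1) F) (Q' := Q) (Pi.basisFun F (Fin (m + 1) ⊕ Fin (m + 1))) bb
      (fun i => ?_) (fun i l => ?_)
    · rcases i with i | i
      · rw [(hq0 i).1]; simp [qfPlus_apply, quadFormPlus, Pi.single_apply]
      · rw [(hq0 i).2]; simp [qfPlus_apply, quadFormPlus, Pi.single_apply]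
    · simp only [Pi.basisFun_apply, polar_qfPlus]
      rcases i with i | i <;> rcases l with l | l
      · rw [(hEE i l).1]; simp [Pi.single_apply]
      · rw [hEF i l]; simp [Pi.single_apply, eq_comm]
      · rw [QuadraticMap.polar_comm, hEF l i]; simp [Pi.single_apply, eq_comm]
      · rw [(hEE i l).2]; simp [Pi.single_apply]
  · right
    refine ⟨η, fun x y h => ?_, exists_isometry_of_bases (Q := qfMinus m F 1 η) (Q' := Q)
      (Pi.basisFun F ((Fin m ⊕ Fin m) ⊕ Fin 2)) bb (fun i => ?_) (fun i l => ?_)⟩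
    · by_cases hy : y = 0
      · subst hy; exact ⟨by simpa using h, rfl⟩
      · exfalso; refine hη (x / y) ?_
        field_simp
        linear_combination h
    · simp only [Pi.basisFun_apply]
      rcases i with (i | i) | i
      · rw [(hq0 i).1]; simp [qfMinus_apply, quadFormMinus]
      · rw [(hq0 i).2]; simp [qfMinus_apply, quadFormMinus]
      · fin_cases i
        · simp only [Fin.zero_eta, Fin.isValue]; rw [h0]; simp [qfMinus_apply, quadFormMinus]
        · simp only [Fin.mk_one, Fin.isValue]; rw [h1]; simp [qfMinus_apply, quadFormMinus]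
    · simp only [Pi.basisFun_apply, polar_qfMinus]
      rcases i with (i | i) | i <;> rcases l with (l | l) | l
      · rw [(hEE i l).1]; simp [Pi.single_apply]
      · rw [hEF i l]; simp [Pi.single_apply, eq_comm]
      · rw [(hER i l).1]; simp [Pi.single_apply]
      · rw [QuadraticMap.polar_comm, hEF l i]; simp [Pi.single_apply, eq_comm]
      · rw [(hEE i l).2]; simp [Pi.single_apply]
      · rw [(hER i l).2]; simp [Pi.single_apply]
      · rw [QuadraticMap.polar_comm, (hER l i).1]; simp [Pi.single_apply]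
      · rw [QuadraticMap.polar_comm, (hER l i).2]; simp [Pi.single_apply]
      · fin_cases i <;> fin_cases l <;>
          simp only [Fin.zero_eta, Fin.mk_one, Fin.isValue, h01, QuadraticMap.polar_self, h0, h1,
            QuadraticMap.polar_comm _ (bb (Sum.inr 1)) (bb (Sum.inr 0))] <;>
          simp [Pi.single_apply] <;> ring

theorem half_of_plus {m : ℕ} (Q : QuadraticForm F (Fin (m + 1) ⊕ Fin (m + 1) → F))
    (e : (Fin (m + 1) ⊕ Fin (m + 1) → F) ≃ₗ[F] (Fin (m + 1) ⊕ Fin (m + 1) → F))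
    (he : ∀ v, Q (e v) = qfPlus (m + 1) F v) : HalfQ Q := by
  obtain ⟨U, hU, hUd⟩ := exists_singular_plus (F := F) (m + 1)
  exact ⟨U.map (e : _ →ₗ[F] _), by rintro _ ⟨u, hu, rfl⟩; exact (he u).trans (hU u hu),
    by rw [LinearEquiv.finrank_map_eq, hUd]⟩

theorem not_half_of_minus {m : ℕ} (Q : QuadraticForm F (Fin (m + 1) ⊕ Fin (m + 1) → F)) {ζ : F}
    (hζ : OrthAut.Aniso F 1 ζ) (e : ((Fin m ⊕ Fin m) ⊕ Fin 2 → F) ≃ₗ[F] (Fin (m + 1) ⊕ Fin (m + 1) → F))
    (he : ∀ v, Q (e v) = qfMinus m F 1 ζ v) : ¬ HalfQ Q := by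
  rintro ⟨U, hU, hUd⟩
  have := singular_finrank_le_minus m hζ (U.map (e.symm : _ →ₗ[F] _)) (by
    rintro _ ⟨u, hu, rfl⟩
    rw [← he, LinearEquiv.coe_coe, LinearEquiv.apply_symm_apply]; exact hU u hu)
  rw [LinearEquiv.finrank_map_eq, hUd] at this
  omega

/-- Forms of the same type are isometric. -/
theorem exists_iso {m : ℕ} (Q₁ Q₂ : QuadraticForm F (Fin (m + 1) ⊕ Fin (m + 1) → F)) (h₁ : Pol Q₁) (h₂ : Pol Q₂)
    (hh : HalfQ Q₁ ↔ HalfQ Q₂) : ∃ g : GL (Fin (m + 1) ⊕ Fin (m + 1)) F, g ∈ spGL (m + 1) F ∧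
      ∀ v, Q₂ ((g : Matrix _ _ F) *ᵥ v) = Q₁ v := by
  obtain ⟨e, he⟩ : ∃ e : (Fin (m + 1) ⊕ Fin (m + 1) → F) ≃ₗ[F] (Fin (m + 1) ⊕ Fin (m + 1) → F), ∀ v, Q₂ (e v) = Q₁ v := by
    rcases std_form Q₁ (pol_nondeg h₁) with ⟨e₁, he₁⟩ | ⟨ζ, hζ, e₁, he₁⟩ <;>
      rcases std_form Q₂ (pol_nondeg h₂) with ⟨e₂, he₂⟩ | ⟨ζ', hζ', e₂, he₂⟩
    · exact ⟨e₁.symm.trans e₂, fun v => by rw [LinearEquiv.trans_apply, he₂, ← he₁, LinearEquiv.apply_symm_apply]⟩
    · exact absurd (hh.1 (half_of_plus Q₁ e₁ he₁)) (not_half_of_minus Q₂ hζ' e₂ he₂)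
    · exact absurd (hh.2 (half_of_plus Q₂ e₂ he₂)) (not_half_of_minus Q₁ hζ e₁ he₁)
    · obtain ⟨T, hT⟩ := OrthAut.minus_unique (qfMinus m F 1 ζ) (qfMinus m F 1 ζ') (nondegenerate_qfMinus m hζ)
        (nondegenerate_qfMinus m hζ') (OrthAut.not_half_qfMinus hζ) (OrthAut.not_half_qfMinus hζ')
      refine ⟨e₁.symm.trans ((Matrix.GeneralLinearGroup.toLin T).toLinearEquiv.trans e₂), fun v => ?_⟩
      rw [LinearEquiv.trans_apply, LinearEquiv.trans_apply, he₂]
      show qfMinus m F 1 ζ' ((T : Matrix _ _ F) *ᵥ (e₁.symm v)) = _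
      rw [hT, ← he₁, LinearEquiv.apply_symm_apply]
  obtain ⟨g, hg⟩ := OrthAut.exists_gl_of_linearEquiv e
  have hiso : ∀ v, Q₂ ((g : Matrix _ _ F) *ᵥ v) = Q₁ v := fun v => by rw [hg, he]
  refine ⟨g, fun x y => ?_, hiso⟩
  show sympForm (m + 1) F ((g : Matrix _ _ F) *ᵥ x) ((g : Matrix _ _ F) *ᵥ y) = sympForm (m + 1) F x y
  rw [← h₂, ← h₁, QuadraticMap.polar, QuadraticMap.polar, ← Matrix.mulVec_add, hiso, hiso, hiso]

/-- An invariant form. -/
theorem exists_invariant {A : GL (Fin d ⊕ Fin d) F} (hA : A ∈ spGL d F) :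
    ∃ Q : QuadraticForm F (Fin d ⊕ Fin d → F), Pol Q ∧ ∀ v, Q ((A : Matrix (Fin d ⊕ Fin d) (Fin d ⊕ Fin d) F) *ᵥ v) = Q v := by
  let U : Matrix (Fin d ⊕ Fin d) (Fin d ⊕ Fin d) F := fromBlocks 0 1 0 0
  have hUU : U + Uᵀ = Matrix.J (Fin d) F := by
    simp only [U, Matrix.J, fromBlocks_transpose, fromBlocks_add, transpose_zero, transpose_one]
    congr 1 <;> ext i j <;> simp [CharTwo.neg_eq]
  have hA' : (A : Matrix (Fin d ⊕ Fin d) (Fin d ⊕ Fin d) F)ᵀ * (U + Uᵀ) * (A : Matrix (Fin d ⊕ Fin d) (Fin d ⊕ Fin d) F) = U + Uᵀ := by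
    rw [hUU]
    ext i j
    have h : sympForm d F ((A : Matrix (Fin d ⊕ Fin d) (Fin d ⊕ Fin d) F) *ᵥ Pi.single i 1)
        ((A : Matrix (Fin d ⊕ Fin d) (Fin d ⊕ Fin d) F) *ᵥ Pi.single j 1) =
        sympForm d F (Pi.single i 1) (Pi.single j 1) := hA _ _
    rw [← sympB_apply, ← sympB_apply, sympB, Matrix.toBilin'_apply', Matrix.toBilin'_apply', mulVec_mulVec,
      dotProduct_comm, ← dotProduct_transpose_mulVec, mulVec_mulVec, ← mul_assoc] at h
    simpa using h
  obtain ⟨U', hU', hinv⟩ := UnipotentRealisation.exists_quad U (A : Matrix (Fin d ⊕ Fin d) (Fin d ⊕ Fin d) F) hA'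
  refine ⟨LinearMap.BilinMap.toQuadraticMap (Matrix.toBilin' U'), fun u v => ?_, fun v => ?_⟩
  · rw [LinearMap.BilinMap.polar_toQuadraticMap, Matrix.toBilin'_apply', Matrix.toBilin'_apply', ← sympB_apply, sympB,
      Matrix.toBilin'_apply', ← hUU, ← hU', add_mulVec, dotProduct_add]
    congr 1
    rw [dotProduct_transpose_mulVec]
  · rw [LinearMap.BilinMap.toQuadraticMap_apply, LinearMap.BilinMap.toQuadraticMap_apply, Matrix.toBilin'_apply',
      Matrix.toBilin'_apply', hinv]

/-- The order of the symplectic group as a subgroup of `GL`. -/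
theorem card_spGL : Nat.card (spGL d F) = Nat.card (Matrix.symplecticGroup (Fin d) F) := by
  refine Nat.card_congr ⟨fun g => ⟨((g : GL (Fin d ⊕ Fin d) F) : Matrix _ _ F),
      mem_symplecticGroup_iff_form.2 fun u v => g.2 u v⟩,
    fun A => ⟨((Matrix.isUnit_iff_isUnit_det _).2 (SymplecticGroup.symplectic_det A.2)).unit,
      fun u v => mem_symplecticGroup_iff_form.1 A.2 u v⟩,
    fun g => Subtype.ext (Units.ext rfl), fun A => rfl⟩

/-- The intersection is the isometry group. -/
theorem inter_eq {Q : QuadraticForm F (Fin d ⊕ Fin d → F)} (h : Pol Q) (hd : 1 ≤ d) {g : GL (Fin d ⊕ Fin d) F} :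
    g ∈ Geo.quadSimilarityGroup ⇑Q ⊓ spGL d F ↔ ∀ v, Q ((g : Matrix _ _ F) *ᵥ v) = Q v := by
  constructor
  · rintro ⟨⟨c, hc⟩, hg⟩ v
    have hc1 : (c : F) = 1 := by
      obtain ⟨u, hu0⟩ : ∃ u : Fin d ⊕ Fin d → F, u ≠ 0 :=
        ⟨Pi.single (Sum.inl (⟨0, hd⟩ : Fin d)) 1, by simp⟩
      obtain ⟨w, hw⟩ := exists_sympForm_eq_one hu0
      have h1 : sympForm d F ((g : Matrix (Fin d ⊕ Fin d) (Fin d ⊕ Fin d) F) *ᵥ u) ((g : Matrix (Fin d ⊕ Fin d) (Fin d ⊕ Fin d) F) *ᵥ w) =
          sympForm d F u w := hg u w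
      rw [← h, ← h, QuadraticMap.polar, ← mulVec_add, hc, hc, hc] at h1
      have h2 := h u w
      rw [QuadraticMap.polar] at h2 h1
      linear_combination h1 + (1 - (c : F)) * h2 + (1 - (c : F)) * hw
    rw [hc, hc1, one_mul]
  · intro hiso
    refine ⟨⟨1, fun v => by rw [Units.val_one, one_mul]; exact hiso v⟩, fun u v => ?_⟩
    show sympForm d F ((g : Matrix _ _ F) *ᵥ u) ((g : Matrix _ _ F) *ᵥ v) = sympForm d F u v
    rw [← h, ← h, QuadraticMap.polar, QuadraticMap.polar, ← mulVec_add, hiso, hiso, hiso]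

/-- The prime divides one factor. -/
theorem index_prime {m : ℕ} {Q : QuadraticForm F (Fin (m + 1) ⊕ Fin (m + 1) → F)} (h : Pol Q) {r : ℕ} (hr : r.Prime)
    (hr2 : r ≠ 2) (hΩ : r ∣ (Geo.quadSimilarityGroup ⇑Q).relIndex (spGL (m + 1) F)) :
    (HalfQ Q → r ∣ Fintype.card F ^ (m + 1) + 1) ∧ (¬ HalfQ Q → r ∣ Fintype.card F ^ (m + 1) - 1) := by
  set K := spGL (m + 1) F
  have hcard : (Geo.quadSimilarityGroup ⇑Q).relIndex K * isoCard Q = Nat.card K := by
    rw [← natCard_isometryGroup, ← Subgroup.index_mul_card ((Geo.quadSimilarityGroup ⇑Q).subgroupOf K)]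
    congr 1
    refine Nat.card_congr
      { toFun := fun g => ⟨⟨g.1, ((inter_eq h (by omega)).2 fun v => mem_isometryGroup.1 g.2 v).2⟩,
          ((inter_eq h (by omega)).2 fun v => mem_isometryGroup.1 g.2 v).1⟩
        invFun := fun g => ⟨g.1.1, mem_isometryGroup.2 ((inter_eq h (by omega)).1 ⟨g.2, g.1.2⟩)⟩
        left_inv := fun g => rfl
        right_inv := fun g => rfl }
  rw [card_spGL, natCard_symplecticGroup, Nat.card_eq_fintype_card] at hcard
  set N := (Geo.quadSimilarityGroup ⇑Q).relIndex K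
  have hc := congrArg (Nat.cast : ℕ → ℤ) hcard
  rw [Nat.cast_mul, Nat.cast_mul, cast_prod_sub_one, Nat.cast_pow, Finset.prod_range_succ] at hc
  obtain ⟨q, hqdef⟩ : ∃ q : ℤ, (Fintype.card F : ℤ) = q := ⟨_, rfl⟩
  simp only [hqdef] at hc
  have hq2 : (2 : ℤ) ≤ q := hqdef ▸ (by exact_mod_cast (Fintype.one_lt_card : 1 < Fintype.card F))
  have hq0 : q ^ (m * (m + 1)) ≠ 0 := pow_ne_zero _ (by omega)
  have hP0 : (∏ i ∈ Finset.range m, (q ^ (2 * (i + 1)) - 1)) ≠ 0 := Finset.prod_ne_zero_iff.2 fun i _ => by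
    have h2 : (2 : ℤ) ≤ q ^ (2 * (i + 1)) := by
      exact hq2.trans (le_self_pow₀ (by omega) (by omega))
    omega
  rw [show (m + 1) ^ 2 = m * (m + 1) + (m + 1) by ring, pow_add, show 2 * (m + 1) = (m + 1) + (m + 1) by ring, pow_add] at hc
  have hpos : (1 : ℤ) ≤ q ^ (m + 1) := one_le_pow₀ (by omega)
  have hnz : ∀ e : ℕ, Fintype.card F ^ e ≠ 0 := fun e => pow_ne_zero _ Fintype.card_ne_zero
  have hrq : ¬ r ∣ Fintype.card F ^ (m + 1) := fun hd => by
    obtain ⟨e, hp, hF⟩ := FiniteField.card F 2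
    have h' := hr.dvd_of_dvd_pow hd
    rw [hF] at h'
    exact hr2 ((Nat.prime_dvd_prime_iff_eq hr Nat.prime_two).1 (hr.dvd_of_dvd_pow h'))
  have hrN : (r : ℤ) ∣ (N : ℤ) := Int.natCast_dvd_natCast.2 hΩ
  have hP1 : q ^ (m + 1) - 1 ≠ 0 := by
    have h1 : 2 ≤ Fintype.card F ^ (m + 1) := le_trans Fintype.one_lt_card (Nat.le_self_pow (by omega) _)
    have h2 : (2 : ℤ) ≤ q ^ (m + 1) := by rw [← hqdef]; exact_mod_cast h1
    omega
  rcases std_form Q (pol_nondeg h) with ⟨e, he⟩ | ⟨ζ, hζ, e, he⟩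
  · refine ⟨fun _ => ?_, fun hn => absurd (half_of_plus Q e he) hn⟩
    rw [← isoCard_congr e he, order_qfPlus] at hc
    simp only [hqdef] at hc
    have h1 : 2 * (N : ℤ) = q ^ (m + 1) * (q ^ (m + 1) + 1) :=
      mul_right_cancel₀ (mul_ne_zero (mul_ne_zero hq0 hP0) hP1) (by linear_combination hc)
    have h2 : 2 * N = Fintype.card F ^ (m + 1) * (Fintype.card F ^ (m + 1) + 1) := by rw [← hqdef] at h1; exact_mod_cast h1
    exact (hr.dvd_mul.1 (h2 ▸ dvd_mul_of_dvd_right hΩ 2)).resolve_left hrq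
  · refine ⟨fun hh => absurd hh (not_half_of_minus Q hζ e he), fun _ => ?_⟩
    rw [← isoCard_congr e he, order_qfMinus m hζ] at hc
    simp only [hqdef] at hc
    have hP1' : q ^ (m + 1) + 1 ≠ 0 := by omega
    have h1 : 2 * (N : ℤ) = q ^ (m + 1) * (q ^ (m + 1) - 1) :=
      mul_right_cancel₀ (mul_ne_zero (mul_ne_zero hq0 hP0) hP1') (by linear_combination hc)
    have hge : 1 ≤ Fintype.card F ^ (m + 1) := Nat.one_le_pow _ _ Fintype.card_pos
    have h2 : 2 * N = Fintype.card F ^ (m + 1) * (Fintype.card F ^ (m + 1) - 1) := by zify [hge]; rw [hqdef]; exact h1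
    exact (hr.dvd_mul.1 (h2 ▸ dvd_mul_of_dvd_right hΩ 2)).resolve_left hrq


/-- Elements of prime order of PSp_n(q), q even, and the subgroups of orthogonal type. Here `T = Sp_{2d}(F)` for a field `F` of characteristic 2 with `q` elements (`d ≥ 2`, `(d, q) ≠ (2, 2)`), realised as the invertible matrices preserving the standard alternating form; `Q` is a non-degenerate quadratic form on `F^{2d}` whose polar form is that alternating form, and `H` is the subgroup of `T` preserving `Q` up to a scalar (equivalently preserving `Q`) — a subgroup of type O^±_{2d}(q) (maximality is not assumed); `Q` is of plus type when `F^{2d}` contains a `d`-dimensional subspace on which `Q` vanishes, of minus type otherwise. Ω is the set of cosets of `H` in `T`, so an element of `T` of prime order `r` (`x ∈ T` with `x^r` scalar, `x` not scalar) fixes a point of Ω exactly when some `T`-conjugate of `x` preserves `Q`. Let `r` be a prime dividing the index of `H`. Then every element of `T`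 of order `r` fixes a point of Ω if and only if `r = 2` and either `Q` is of plus type or `d` is odd. -/
theorem result {F : Type*} [Field F] [Fintype F] {p : ℕ} [Fact p.Prime] [CharP F p] {q : ℕ} (hq : Fintype.card F = q)
    (hp : p = 2) (d : ℕ) (hd : 2 ≤ d) (hT : (d, q) ≠ (2, 2)) (Q : (Fin d ⊕ Fin d → F) → F) (hQ : Cfsg.Geo.IsNondegenerateQuadraticForm Q)
    (hQf : ∀ u v, QuadraticMap.polar Q u v = Cfsg.sympForm d F u v)
    (r : ℕ) [Fact r.Prime]
    (hΩ : r ∣ (Cfsg.Geo.quadSimilarityGroup Q).relIndex (Cfsg.spGL d F)) :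
    (∀ x ∈ Cfsg.spGL d F, (∃ z : F, ((x ^ r : GL (Fin d ⊕ Fin d) F) : Matrix (Fin d ⊕ Fin d) (Fin d ⊕ Fin d) F) = z • (1 : Matrix (Fin d ⊕ Fin d) (Fin d ⊕ Fin d) F)) →
      (∀ z : F, (x : Matrix (Fin d ⊕ Fin d) (Fin d ⊕ Fin d) F) ≠ z • (1 : Matrix (Fin d ⊕ Fin d) (Fin d ⊕ Fin d) F)) →
      ∃ g ∈ Cfsg.spGL d F, g⁻¹ * x * g ∈ Cfsg.Geo.quadSimilarityGroup Q) ↔
    (r = 2 ∧ (Cfsg.Geo.IsPlusTypeOn Q ⊤ ∨ Odd d)) := by

  classical
  subst hq
  subst hp
  obtain ⟨Q, rfl, -⟩ := AschEven.exists_qf hQ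
  obtain ⟨m, rfl⟩ : ∃ m, d = m + 1 := ⟨d - 1, by omega⟩
  have hPol : Pol Q := hQf
  have hplus : Geo.IsPlusTypeOn ⇑Q ⊤ ↔ HalfQ Q := by
    constructor
    · rintro ⟨U, -, hU, hd'⟩
      rw [finrank_top, Module.finrank_fintype_fun_eq_card, Fintype.card_sum, Fintype.card_fin] at hd'
      exact ⟨U, hU, by omega⟩
    · rintro ⟨U, hU, hd'⟩
      refine ⟨U, le_top, hU, ?_⟩
      rw [finrank_top, Module.finrank_fintype_fun_eq_card, Fintype.card_sum, Fintype.card_fin, hd']; ring
  rw [hplus]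
  obtain ⟨v₀, hv₀⟩ : ∃ v, Q v ≠ 0 := by
    by_contra hno
    push Not at hno
    have h0 := hPol (Pi.single (Sum.inl 0) 1) (Pi.single (Sum.inr 0) 1)
    rw [QuadraticMap.polar, hno, hno, hno, ← sympB_apply, sympB, Matrix.toBilin'_single] at h0
    simp [Matrix.J] at h0
  have hscal : ∀ {z : F} (x : GL (Fin (m + 1) ⊕ Fin (m + 1)) F), x ∈ spGL (m + 1) F →
      (x : Matrix (Fin (m + 1) ⊕ Fin (m + 1)) (Fin (m + 1) ⊕ Fin (m + 1)) F) = z • 1 → z * z = 1 := by
    intro z x hx hz
    obtain ⟨u, hu0⟩ : ∃ u : Fin (m + 1) ⊕ Fin (m + 1) → F, u ≠ 0 :=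
      ⟨Pi.single (Sum.inl (0 : Fin (m + 1))) 1, by simp⟩
    obtain ⟨w, hw⟩ := exists_sympForm_eq_one hu0
    have h1 : sympForm (m + 1) F ((x : Matrix (Fin (m + 1) ⊕ Fin (m + 1)) (Fin (m + 1) ⊕ Fin (m + 1)) F) *ᵥ u)
        ((x : Matrix (Fin (m + 1) ⊕ Fin (m + 1)) (Fin (m + 1) ⊕ Fin (m + 1)) F) *ᵥ w) = sympForm (m + 1) F u w := hx u w
    rw [hz, smul_mulVec, smul_mulVec, one_mulVec, one_mulVec, sympForm_smul_left, sympForm_smul_right, hw, mul_one] at h1
    exact h1
  -- a conjugate inside gives an invariant form of the same type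
  have hback : ∀ x g : GL (Fin (m + 1) ⊕ Fin (m + 1)) F, x ∈ spGL (m + 1) F → g ∈ spGL (m + 1) F →
      g⁻¹ * x * g ∈ Geo.quadSimilarityGroup ⇑Q → ∃ Q' : QuadraticForm F (Fin (m + 1) ⊕ Fin (m + 1) → F),
        Pol Q' ∧ (HalfQ Q' ↔ HalfQ Q) ∧ ∀ v, Q' ((x : Matrix _ _ F) *ᵥ v) = Q' v := by
    intro x g hx hg hmem
    have hy := (inter_eq hPol (by omega)).1 ⟨hmem, (spGL (m + 1) F).mul_mem ((spGL (m + 1) F).mul_mem ((spGL (m + 1) F).inv_mem hg) hx) hg⟩
    let e : (Fin (m + 1) ⊕ Fin (m + 1) → F) ≃ₗ[F] (Fin (m + 1) ⊕ Fin (m + 1) → F) :=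
      (Matrix.GeneralLinearGroup.toLin g⁻¹).toLinearEquiv
    have he : ∀ v, e v = ((g⁻¹ : GL (Fin (m + 1) ⊕ Fin (m + 1)) F) : Matrix _ _ F) *ᵥ v := fun v => rfl
    refine ⟨Q.comp (e : _ →ₗ[F] _), fun u v => ?_, ?_, fun v => ?_⟩
    · show QuadraticMap.polar (fun w => Q (e w)) u v = _
      rw [QuadraticMap.polar, map_add]
      refine (hPol (e u) (e v)).trans ?_
      rw [he, he]
      exact (spGL (m + 1) F).inv_mem hg u v
    · constructor
      · rintro ⟨U, hU, hd'⟩
        exact ⟨U.map (e : _ →ₗ[F] _), by rintro _ ⟨u, hu, rfl⟩; exact hU u hu, by rw [LinearEquiv.finrank_map_eq, hd']⟩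
      · rintro ⟨U, hU, hd'⟩
        refine ⟨U.map (e.symm : _ →ₗ[F] _), ?_, by rw [LinearEquiv.finrank_map_eq, hd']⟩
        rintro _ ⟨u, hu, rfl⟩
        show Q (e (e.symm u)) = 0
        rw [LinearEquiv.apply_symm_apply]; exact hU u hu
    · show Q (e _) = Q (e v)
      rw [he, he, mulVec_mulVec, ← hy (((g⁻¹ : GL (Fin (m + 1) ⊕ Fin (m + 1)) F) : Matrix _ _ F) *ᵥ v), mulVec_mulVec,
        ← Units.val_mul, ← Units.val_mul, show g⁻¹ * x * g * g⁻¹ = g⁻¹ * x by group]
  constructor
  · intro H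
    by_cases hr : r = 2
    · refine ⟨hr, ?_⟩
      by_contra hcon
      push Not at hcon
      obtain ⟨hnh, hev⟩ := hcon
      subst hr
      obtain ⟨k, hk⟩ := Nat.not_odd_iff_even.1 hev
      let e : Fin (m + 1) ≃ Fin k ⊕ Fin k := (finCongr hk).trans finSumFinEquiv.symm
      let A : Matrix (Fin (m + 1)) (Fin (m + 1)) F :=
        (fromBlocks 0 1 1 0 : Matrix (Fin k ⊕ Fin k) (Fin k ⊕ Fin k) F).submatrix e e
      have hA2 : A * A = 1 := by
        rw [submatrix_mul_equiv, fromBlocks_multiply]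
        simp [fromBlocks_one, submatrix_one_equiv]
      have hA : ∀ v, v ⬝ᵥ (A *ᵥ v) = 0 := fun v => by
        rw [submatrix_mulVec_equiv, ← comp_equiv_symm_dotProduct]
        generalize v ∘ ⇑e.symm = w
        rw [← Sum.elim_comp_inl_inr w, fromBlocks_mulVec, sumElim_dotProduct_sumElim]
        simp [dotProduct_comm (w ∘ Sum.inr) (w ∘ Sum.inl), CharTwo.add_self_eq_zero]
      have hX2 : (fromBlocks 1 A 0 1 : Matrix (Fin (m + 1) ⊕ Fin (m + 1)) (Fin (m + 1) ⊕ Fin (m + 1)) F) *
          fromBlocks 1 A 0 1 = 1 := by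
        rw [fromBlocks_multiply, ← fromBlocks_one]
        have hneg : A + A = 0 := by ext i j; simp [CharTwo.add_self_eq_zero]
        simp [hneg]
      let x : GL (Fin (m + 1) ⊕ Fin (m + 1)) F := ⟨fromBlocks 1 A 0 1, fromBlocks 1 A 0 1, hX2, hX2⟩
      have hPlusPol : Pol (qfPlus (m + 1) F) := fun u v => by
        rw [polar_qfPlus, sympForm_eq_sum]
        exact Finset.sum_congr rfl fun i _ => by
          linear_combination (u (Sum.inl i) * v (Sum.inr i)) * two0 (F := F)
      have hx : x ∈ spGL (m + 1) F := ((inter_eq hPlusPol (by omega)).2 fun v => by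
        rw [coe_qfPlus]; exact S5985.quad_upper A hA v).2
      have hns : ∀ z : F, (x : Matrix (Fin (m + 1) ⊕ Fin (m + 1)) (Fin (m + 1) ⊕ Fin (m + 1)) F) ≠ z • 1 := fun z hz => by
        rw [show z • (1 : Matrix (Fin (m + 1) ⊕ Fin (m + 1)) (Fin (m + 1) ⊕ Fin (m + 1)) F) =
          fromBlocks (z • 1) 0 0 (z • 1) by rw [← fromBlocks_one, fromBlocks_smul]; simp] at hz
        have h0 : A = 0 := (fromBlocks_inj.1 hz).2.1
        rw [h0, mul_zero] at hA2
        exact zero_ne_one (congrFun (congrFun hA2 0) 0)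
      obtain ⟨g, hg, hmem⟩ := H x hx ⟨1, by rw [Units.val_pow_eq_pow_val, pow_two, one_smul]; exact hX2⟩ hns
      obtain ⟨Q', hP', hh', hinv⟩ := hback x g hx hg hmem
      refine hnh (hh'.1 ?_)
      let L : (Fin (m + 1) → F) →ₗ[F] (Fin (m + 1) ⊕ Fin (m + 1) → F) :=
        { toFun := fun w => Sum.elim w 0
          map_add' := fun a b => by funext i; rcases i with i | i <;> simp
          map_smul' := fun c a => by funext i; rcases i with i | i <;> simp }
      refine ⟨LinearMap.range L, ?_, ?_⟩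
      · rintro _ ⟨w, rfl⟩
        set u : Fin (m + 1) ⊕ Fin (m + 1) → F := Sum.elim 0 (A *ᵥ w)
        have hxu : (x : Matrix (Fin (m + 1) ⊕ Fin (m + 1)) (Fin (m + 1) ⊕ Fin (m + 1)) F) *ᵥ u = u + L w := by
          show fromBlocks 1 A 0 1 *ᵥ u = _
          rw [fromBlocks_mulVec]
          funext i
          rcases i with i | i
          · simp [u, L, mulVec_mulVec, hA2]
          · simp [u, L]
        have h1 := hinv u
        rw [hxu, QuadraticMap.map_add ⇑Q' u (L w), hP'] at h1
        have h0 : sympForm (m + 1) F u (L w) = 0 := by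
          rw [sympForm_eq_sum]
          have e1 := hA w
          simp only [dotProduct] at e1
          rw [← e1]
          refine Finset.sum_congr rfl fun i _ => ?_
          simp [u, L, mul_comm]
        rw [h0] at h1
        linear_combination h1
      · rw [LinearMap.finrank_range_of_inj, Module.finrank_fin_fun]
        exact fun a b h => funext fun i => congrFun h (Sum.inl i)
    · exfalso
      have hrp : r.Prime := Fact.out
      obtain ⟨hidxp, hidxm⟩ := index_prime hPol hrp hr hΩ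
      by_cases hh : HalfQ Q
      · obtain ⟨y, hy⟩ := exists_irred (F := F)
        have hab : OrthAut.Aniso F 1 y := fun a b h => by
          by_cases hb : b = 0
          · subst hb; exact ⟨by simpa using h, rfl⟩
          · exfalso; refine hy (a / b) ?_
            field_simp
            linear_combination h - (y * b * b) * two0 (F := F)
        obtain ⟨A, hAiso, hAr, hAfix⟩ := NonsingularPointDerange.exists_fpf_minus m hab hr (hidxp hh)
        obtain ⟨L, hL⟩ := exists_symp_coords (QuadraticMap.polarBilin (qfMinus m F 1 y)) (fun v => by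
            rw [QuadraticMap.polarBilin_apply_apply, QuadraticMap.polar_self, nsmul_eq_mul, Nat.cast_ofNat, two0, zero_mul])
          (fun v hv => (nondegenerate_qfMinus m hab).1 v hv) (e := m + 1)
          (by rw [Module.finrank_fintype_fun_eq_card, Fintype.card_sum, Fintype.card_sum, Fintype.card_fin, Fintype.card_fin]; omega)
        obtain ⟨x, hx⟩ := OrthAut.exists_gl_of_linearEquiv
          ((L.trans (Matrix.GeneralLinearGroup.toLin A).toLinearEquiv).trans L.symm)
        have hxv : ∀ v, (x : Matrix _ _ F) *ᵥ v = L.symm ((A : Matrix _ _ F) *ᵥ L v) := fun v => hx v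
        have hxs : x ∈ spGL (m + 1) F := fun u v => by
          show sympForm (m + 1) F ((x : Matrix _ _ F) *ᵥ u) ((x : Matrix _ _ F) *ᵥ v) = sympForm (m + 1) F u v
          rw [hxv, hxv, ← hL, ← hL, LinearEquiv.apply_symm_apply, LinearEquiv.apply_symm_apply,
            QuadraticMap.polarBilin_apply_apply, QuadraticMap.polarBilin_apply_apply, QuadraticMap.polar, QuadraticMap.polar,
            ← mulVec_add, hAiso, hAiso, hAiso]
        have hxpow : ∀ (k : ℕ) v, ((x : Matrix (Fin (m + 1) ⊕ Fin (m + 1)) (Fin (m + 1) ⊕ Fin (m + 1)) F) ^ k) *ᵥ v =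
            L.symm (((A : Matrix ((Fin m ⊕ Fin m) ⊕ Fin 2) ((Fin m ⊕ Fin m) ⊕ Fin 2) F) ^ k) *ᵥ L v) := fun k => by
          induction k with
          | zero => intro v; simp
          | succ k ih => intro v; rw [pow_succ', ← mulVec_mulVec, ih, hxv, LinearEquiv.apply_symm_apply, mulVec_mulVec, ← pow_succ']
        have hxr : (x : Matrix (Fin (m + 1) ⊕ Fin (m + 1)) (Fin (m + 1) ⊕ Fin (m + 1)) F) ^ r = 1 :=
          Matrix.ext_of_mulVec_single fun i => by
            rw [hxpow, ← Units.val_pow_eq_pow_val, hAr, Units.val_one, one_mulVec, LinearEquiv.symm_apply_apply, one_mulVec]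
        have hxfix : ∀ v, (x : Matrix (Fin (m + 1) ⊕ Fin (m + 1)) (Fin (m + 1) ⊕ Fin (m + 1)) F) *ᵥ v = v → v = 0 := fun v hv => by
          rw [hxv, LinearEquiv.symm_apply_eq] at hv
          exact L.map_eq_zero_iff.1 (hAfix _ hv)
        have hns : ∀ z : F, (x : Matrix (Fin (m + 1) ⊕ Fin (m + 1)) (Fin (m + 1) ⊕ Fin (m + 1)) F) ≠ z • 1 := fun z hz => by
          have hz1 := NonsingularPointDerange.eq_one_of_sq (hscal x hxs hz)
          have h0 := hxfix (Pi.single (Sum.inl 0) 1) (by rw [hz, hz1, one_smul, one_mulVec])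
          simp at h0
        obtain ⟨g, hg, hmem⟩ := H x hxs ⟨1, by rw [Units.val_pow_eq_pow_val, hxr, one_smul]⟩ hns
        obtain ⟨Q', hP', hh', hinv⟩ := hback x g hxs hg hmem
        have hQ'h := hh'.2 hh
        rcases std_form Q' (pol_nondeg hP') with ⟨e', he'⟩ | ⟨ζ, hζ, e', he'⟩
        swap
        · exact not_half_of_minus Q' hζ e' he' hQ'h
        set Z := {v // Q' v = 0}
        have hZ : Nat.card Z = Nat.card {v // qfPlus (m + 1) F v = 0} :=
          (Nat.card_congr (e'.toEquiv.subtypeEquiv fun v => by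
            show qfPlus (m + 1) F v = 0 ↔ Q' (e' v) = 0
            rw [he'])).symm
        haveI := Fintype.ofFinite Z
        let π : Equiv.Perm (Fin (m + 1) ⊕ Fin (m + 1) → F) := (Matrix.GeneralLinearGroup.toLin x).toLinearEquiv.toEquiv
        have hπ : ∀ v, π v = (x : Matrix _ _ F) *ᵥ v := fun v => rfl
        let σ : Equiv.Perm Z := π.subtypeEquiv fun v => by
          show Q' v = 0 ↔ Q' (π v) = 0
          rw [hπ, hinv]
        have hσ : ∀ (k : ℕ) (z : Z), (((σ ^ k) z : Z) : Fin (m + 1) ⊕ Fin (m + 1) → F) =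
            ((x : Matrix (Fin (m + 1) ⊕ Fin (m + 1)) (Fin (m + 1) ⊕ Fin (m + 1)) F) ^ k) *ᵥ (z : Fin (m + 1) ⊕ Fin (m + 1) → F) := fun k => by
          induction k with
          | zero => intro z; simp
          | succ k ih => intro z; rw [pow_succ', Equiv.Perm.mul_apply, pow_succ', ← mulVec_mulVec, ← ih z]; rfl
        have hmod := Equiv.Perm.card_compl_support_modEq (p := r) (n := 1) (σ := σ)
          (Equiv.ext fun z => Subtype.ext (by rw [pow_one, hσ, hxr, one_mulVec]; rfl))
        have hsupp : σ.supportᶜ = {⟨0, QuadraticMap.map_zero _⟩} := by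
          ext z
          rw [Finset.mem_compl, Equiv.Perm.notMem_support, Finset.mem_singleton, Subtype.ext_iff, Subtype.ext_iff]
          show (x : Matrix (Fin (m + 1) ⊕ Fin (m + 1)) (Fin (m + 1) ⊕ Fin (m + 1)) F) *ᵥ (z : Fin (m + 1) ⊕ Fin (m + 1) → F) = z ↔ (z : Fin (m + 1) ⊕ Fin (m + 1) → F) = 0
          exact ⟨hxfix _, fun h => by rw [h, mulVec_zero]⟩
        rw [hsupp, Finset.card_singleton, ← Nat.card_eq_fintype_card, hZ, ← ZMod.natCast_eq_natCast_iff] at hmod
        have hz := congrArg (Int.cast : ℤ → ZMod r) (zeros_qfPlus (F := F) (m + 1))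
        push_cast at hz
        set q := Fintype.card F
        rw [← hmod, Nat.cast_one, one_mul] at hz
        have hqn : (q : ZMod r) ^ (m + 1) = -1 := by
          rw [eq_neg_iff_add_eq_zero, ← Nat.cast_pow, ← Nat.cast_one (R := ZMod r), ← Nat.cast_add]
          exact (ZMod.natCast_eq_zero_iff _ _).2 (hidxp hh)
        rw [two_mul, pow_add, pow_succ (q : ZMod r) (m + 1), hqn] at hz
        have h2q : ((2 : ℕ) : ZMod r) * ((q : ZMod r) - 1) = 0 := by push_cast; linear_combination hz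
        rcases mul_eq_zero.1 h2q with h | h
        · exact hr ((Nat.prime_dvd_prime_iff_eq hrp Nat.prime_two).1 ((ZMod.natCast_eq_zero_iff _ _).1 h))
        · rw [sub_eq_zero.1 h, one_pow] at hqn
          exact hr ((Nat.prime_dvd_prime_iff_eq hrp Nat.prime_two).1
            ((ZMod.natCast_eq_zero_iff _ _).1 (by push_cast; linear_combination hqn)))
      · obtain ⟨M, Mi, hMM, hMr, hMir, hM1, hMi1⟩ :=
          NonsingularPointDerange.exists_fpf_mat (F := F) 2 (m + 1) (by omega) (hidxm hh)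
        have hpow : ∀ n : ℕ, fromBlocks M 0 0 Miᵀ ^ n = fromBlocks (M ^ n) 0 0 (Mi ^ n)ᵀ := fun n => by
          induction n with
          | zero => simp [fromBlocks_one]
          | succ n ih =>
            rw [pow_succ, ih, fromBlocks_multiply, pow_succ, pow_succ', transpose_mul]
            simp
        have hXr : fromBlocks M 0 0 Miᵀ ^ r = (1 : Matrix (Fin (m + 1) ⊕ Fin (m + 1)) (Fin (m + 1) ⊕ Fin (m + 1)) F) := by
          rw [hpow, hMr, hMir, transpose_one, fromBlocks_one]
        let x : GL (Fin (m + 1) ⊕ Fin (m + 1)) F := Units.ofPowEqOne _ r hXr hrp.ne_zero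
        have hxval : (x : Matrix (Fin (m + 1) ⊕ Fin (m + 1)) (Fin (m + 1) ⊕ Fin (m + 1)) F) = fromBlocks M 0 0 Miᵀ := rfl
        have hPlusPol : Pol (qfPlus (m + 1) F) := fun u v => by
          rw [polar_qfPlus, sympForm_eq_sum]
          exact Finset.sum_congr rfl fun i _ => by
            linear_combination (u (Sum.inl i) * v (Sum.inr i)) * two0 (F := F)
        have hxs : x ∈ spGL (m + 1) F := ((inter_eq hPlusPol (by omega)).2 fun v => by
          rw [coe_qfPlus, hxval]; exact S5985.quad_diag M Mi (mul_eq_one_comm.1 hMM) v).2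
        have hns : ∀ z : F, (x : Matrix (Fin (m + 1) ⊕ Fin (m + 1)) (Fin (m + 1) ⊕ Fin (m + 1)) F) ≠ z • 1 := fun z hz => by
          have hz1 := NonsingularPointDerange.eq_one_of_sq (hscal x hxs hz)
          rw [hxval, hz1, one_smul, ← fromBlocks_one] at hz
          have h0 := (fromBlocks_inj.1 hz).1
          rw [h0, sub_self] at hM1
          exact not_isUnit_zero hM1
        obtain ⟨g, hg, hmem⟩ := H x hxs ⟨1, by rw [Units.pow_ofPowEqOne, Units.val_one, one_smul]⟩ hns
        obtain ⟨Q', hP', hh', hinv⟩ := hback x g hxs hg hmem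
        refine hh (hh'.1 ?_)
        let L : (Fin (m + 1) → F) →ₗ[F] (Fin (m + 1) ⊕ Fin (m + 1) → F) :=
          { toFun := fun w => Sum.elim w 0
            map_add' := fun a b => by funext i; rcases i with i | i <;> simp
            map_smul' := fun c a => by funext i; rcases i with i | i <;> simp }
        refine ⟨LinearMap.range L, ?_, ?_⟩
        · rintro _ ⟨w, rfl⟩
          obtain ⟨U', hU'⟩ := hM1
          set w₀ : Fin (m + 1) → F := ((U'⁻¹ : GL (Fin (m + 1)) F) : Matrix (Fin (m + 1)) (Fin (m + 1)) F) *ᵥ w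
          have hw₀ : M *ᵥ w₀ = w₀ + w := by
            have h1 : (M - 1) *ᵥ w₀ = w := by
              rw [← hU', mulVec_mulVec, Units.mul_inv, one_mulVec]
            rw [sub_mulVec, one_mulVec, sub_eq_iff_eq_add] at h1
            exact h1.trans (add_comm _ _)
          have h1 := hinv (L w₀)
          have hxl : (x : Matrix _ _ F) *ᵥ L w₀ = L w₀ + L w := by
            rw [hxval, ← map_add, ← hw₀]
            show fromBlocks M 0 0 Miᵀ *ᵥ Sum.elim w₀ 0 = Sum.elim (M *ᵥ w₀) 0
            rw [fromBlocks_mulVec]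
            simp
          rw [hxl, QuadraticMap.map_add ⇑Q' (L w₀) (L w), hP'] at h1
          have h0 : sympForm (m + 1) F (L w₀) (L w) = 0 := by
            rw [sympForm_eq_sum]
            refine Finset.sum_eq_zero fun i _ => ?_
            simp [L]
          rw [h0] at h1
          linear_combination h1
        · rw [LinearMap.finrank_range_of_inj, Module.finrank_fin_fun]
          exact fun a b h => funext fun i => congrFun h (Sum.inl i)
  · rintro ⟨rfl, hcase⟩ x hx ⟨z, hz⟩ -
    have hxx : (x : Matrix (Fin (m + 1) ⊕ Fin (m + 1)) (Fin (m + 1) ⊕ Fin (m + 1)) F) * (x : Matrix (Fin (m + 1) ⊕ Fin (m + 1)) (Fin (m + 1) ⊕ Fin (m + 1)) F) = z • 1 := by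
      rw [← hz, Units.val_pow_eq_pow_val, pow_two]
    have hz1 : z = 1 := NonsingularPointDerange.eq_one_of_sq (hscal (x ^ 2) ((spGL (m + 1) F).pow_mem hx 2) hz)
    rw [hz1, one_smul] at hxx
    obtain ⟨Q', hP', hinv⟩ := exists_invariant hx
    suffices hgoal : ∃ Q'' : QuadraticForm F (Fin (m + 1) ⊕ Fin (m + 1) → F), Pol Q'' ∧ (HalfQ Q'' ↔ HalfQ Q) ∧
        ∀ v, Q'' ((x : Matrix _ _ F) *ᵥ v) = Q'' v by
      obtain ⟨Q'', hP'', hh'', hinv''⟩ := hgoal
      obtain ⟨g, hg, hgQ⟩ := exists_iso Q Q'' hPol hP'' hh''.symm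
      refine ⟨g, hg, ⟨1, fun v => ?_⟩⟩
      rw [Units.val_one, one_mul, ← hgQ, mulVec_mulVec, ← Units.val_mul, show g * (g⁻¹ * x * g) = x * g by group,
        Units.val_mul, ← mulVec_mulVec, hinv'', hgQ]
    by_cases hfix : ∃ c, (x : Matrix _ _ F) *ᵥ c = c ∧ Q' c ≠ 0
    · obtain ⟨c, hxc, hc⟩ := hfix
      have hadd : ∀ a : F, ∀ v, addSq Q' (a • c) ((x : Matrix _ _ F) *ᵥ v) = addSq Q' (a • c) v := fun a v => by
        have e : sympForm (m + 1) F c ((x : Matrix _ _ F) *ᵥ v) = sympForm (m + 1) F c v := by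
          conv_lhs => rw [← hxc]
          exact hx c v
        rw [addSq_apply, addSq_apply, hinv, sympForm_smul_left, sympForm_smul_left, e]
      by_cases hsame : HalfQ Q' ↔ HalfQ Q
      · exact ⟨Q', hP', hsame, hinv⟩
      by_cases hh : HalfQ Q
      · obtain ⟨a, ha⟩ := to_plus hP' (by omega) hc
        exact ⟨_, pol_addSq hP' _, iff_of_true ha hh, hadd a⟩
      · have hh' : HalfQ Q' := by
          by_contra hn
          exact hsame (iff_of_false hn hh)
        obtain ⟨a, ha⟩ := to_minus hP' (by omega) hh' hc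
        exact ⟨_, pol_addSq hP' _, iff_of_false ha hh, hadd a⟩
    · push Not at hfix
      have hι : Fintype.card (Fin (m + 1) ⊕ Fin (m + 1)) = 2 * (m + 1) := by simp; omega
      obtain ⟨hev, C, hC, hCd⟩ := NonsingularPointDerange.half_of_no_fixed Q' (pol_nondeg hP') hι (fun C hC => by
        have hle : C ≤ LinearMap.BilinForm.orthogonal (sympB (m + 1) F) C := fun v hv =>
          mem_orth.2 fun u hu => pol_zero hP' hC u hu v hv
        have h1 := Submodule.finrank_mono hle
        rw [finrank_orth] at h1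
        omega) _ hinv hxx hfix
      have hh : HalfQ Q := hcase.resolve_right fun ho => Nat.not_even_iff_odd.2 ho hev
      exact ⟨Q', hP', iff_of_true ⟨C, hC, hCd⟩ hh, hinv⟩

end Cfsg.Agent.S5983
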