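import Cfsg.Statements.S5986
import Cfsg.Agent.Lib.Classical.NonsingularPointDerange
-- import your own Cfsg.Agent.* helpers here

set_option autoImplicit false
open scoped MatrixGroups
open Cfsg Cfsg.Agent

namespace Cfsg.Agent.S5986
open Matrix Cfsg.Agent.Classical NonsingularPointDerange

theorem core {F : Type*} [Field F] [Fintype F] [CharP F 2] (m : ℕ) (hd : 3 ≤ m) (a b : F)
    (hab : ∀ x y : F, x ^ 2 + a * x * y + b * y ^ 2 = 0 → x = 0 ∧ y = 0) (r : ℕ) [Fact r.Prime]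
    (hrΩ : r ∣ Nat.card {W : Submodule F ((Fin m ⊕ Fin m) ⊕ Fin 2 → F) // Module.finrank F W = 1 ∧ ∃ v ∈ W, quadFormMinus m F a b v ≠ 0}) :
    (∀ x : GL ((Fin m ⊕ Fin m) ⊕ Fin 2) F, x ∈ Geo.omegaGL (quadFormMinus m F a b) →
      (∃ z : F, ((x ^ r : GL ((Fin m ⊕ Fin m) ⊕ Fin 2) F) : Matrix ((Fin m ⊕ Fin m) ⊕ Fin 2) ((Fin m ⊕ Fin m) ⊕ Fin 2) F) = z • (1 : Matrix ((Fin m ⊕ Fin m) ⊕ Fin 2) ((Fin m ⊕ Fin m) ⊕ Fin 2) F)) →
      (∀ z : F, (x : Matrix ((Fin m ⊕ Fin m) ⊕ Fin 2) ((Fin m ⊕ Fin m) ⊕ Fin 2) F) ≠ z • (1 : Matrix ((Fin m ⊕ Fin m) ⊕ Fin 2) ((Fin m ⊕ Fin m) ⊕ Fin 2) F)) →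
      ∃ W : Submodule F ((Fin m ⊕ Fin m) ⊕ Fin 2 → F), (Module.finrank F W = 1 ∧ ∃ v ∈ W, quadFormMinus m F a b v ≠ 0) ∧
        W.map (Matrix.toLin' (x : Matrix ((Fin m ⊕ Fin m) ⊕ Fin 2) ((Fin m ⊕ Fin m) ⊕ Fin 2) F)) ≤ W) ↔ r = 2 := by
  classical
  set Q := qfMinus m F a b with hQdef
  have hQc : quadFormMinus m F a b = ⇑Q := (coe_qfMinus m a b).symm
  have hnd : (QuadraticMap.polarBilin Q).Nondegenerate := nondegenerate_qfMinus m hab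
  have hι : Fintype.card ((Fin m ⊕ Fin m) ⊕ Fin 2) = 2 * (m + 1) := by simp; omega
  have hG : OrthAut.GenQ F ((Fin m ⊕ Fin m) ⊕ Fin 2) := Or.inr (by omega)
  obtain ⟨v₀, hv₀⟩ : ∃ v, Q v ≠ 0 := by
    refine ⟨Pi.single (Sum.inr 0) 1, ?_⟩
    simp [hQdef, qfMinus_apply, quadFormMinus]
  rw [hQc] at hrΩ ⊢
  constructor
  · intro H
    by_contra hr
    set P := Nat.card {W : Submodule F ((Fin m ⊕ Fin m) ⊕ Fin 2 → F) // Module.finrank F W = 1 ∧ ∃ v ∈ W, Q v ≠ 0} with hPdef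
    have hc := congrArg (Nat.cast : ℕ → ℤ) (card_points_mul Q)
    rw [hι, ← hPdef] at hc
    push_cast [Nat.cast_sub (Fintype.card_pos : 0 < Fintype.card F)] at hc
    have hz := zeros_qfMinus (F := F) m hab
    rw [← hQdef] at hz
    have hq1 : (Fintype.card F : ℤ) - 1 ≠ 0 := by have := Fintype.one_lt_card (α := F); omega
    have h1 : (P : ℤ) = (Fintype.card F : ℤ) ^ m * ((Fintype.card F : ℤ) ^ (m + 1) + 1) := by
      refine mul_right_cancel₀ hq1 ?_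
      linear_combination hc - hz
    have h2 : P = Fintype.card F ^ m * (Fintype.card F ^ (m + 1) + 1) := by exact_mod_cast h1
    have hrd : r ∣ Fintype.card F ^ m * (Fintype.card F ^ (m + 1) + 1) := h2 ▸ hrΩ
    have hrq : r ∣ Fintype.card F ^ (m + 1) + 1 := by
      refine ((Fact.out : r.Prime).dvd_mul.1 hrd).resolve_left fun h => hr ?_
      obtain ⟨n, hp', hFn⟩ := FiniteField.card F 2
      have h' := (Fact.out : r.Prime).dvd_of_dvd_pow h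
      rw [hFn] at h'
      exact (Nat.prime_dvd_prime_iff_eq Fact.out Nat.prime_two).1 ((Fact.out : r.Prime).dvd_of_dvd_pow h')
    obtain ⟨x, hiso, hxr, hfix⟩ := exists_fpf_minus m hab hr hrq
    rw [← hQdef] at hiso
    have hns : ∀ z : F, (x : Matrix ((Fin m ⊕ Fin m) ⊕ Fin 2) ((Fin m ⊕ Fin m) ⊕ Fin 2) F) ≠
        z • (1 : Matrix ((Fin m ⊕ Fin m) ⊕ Fin 2) ((Fin m ⊕ Fin m) ⊕ Fin 2) F) := fun z hz' => by
      have h := hiso v₀
      rw [hz', smul_mulVec, one_mulVec, QuadraticMap.map_smul, smul_eq_mul] at h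
      have hz1 : z = 1 := eq_one_of_sq (mul_right_cancel₀ hv₀ (by rw [h, one_mul]))
      exact hv₀ (by rw [hfix v₀ (by rw [hz', hz1, one_smul, one_mulVec]), QuadraticMap.map_zero])
    obtain ⟨W, hW, hle⟩ := H x (mem_omegaGL_gen Q hnd hG x (mem_isometryGroup.2 hiso) ((Fact.out : r.Prime).odd_of_ne_two hr) hxr)
      ⟨1, by rw [hxr, Units.val_one, one_smul]⟩ hns
    obtain ⟨v, hv, hxv⟩ := fixed_of_map_le Q _ hiso W hW hle
    exact hv (by rw [hfix v hxv, QuadraticMap.map_zero])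
  · rintro rfl x hx ⟨z, hz⟩ -
    have hiso : ∀ v, Q ((x : Matrix _ _ F) *ᵥ v) = Q v := by
      obtain ⟨a', -, rfl⟩ := hx; exact mem_isometryGroup.1 a'.2
    have hxx : (x : Matrix ((Fin m ⊕ Fin m) ⊕ Fin 2) ((Fin m ⊕ Fin m) ⊕ Fin 2) F) *
        (x : Matrix ((Fin m ⊕ Fin m) ⊕ Fin 2) ((Fin m ⊕ Fin m) ⊕ Fin 2) F) = z • 1 := by
      rw [← hz, Units.val_pow_eq_pow_val, pow_two]
    have hz1 : z = 1 := by
      have h := (hiso ((x : Matrix ((Fin m ⊕ Fin m) ⊕ Fin 2) ((Fin m ⊕ Fin m) ⊕ Fin 2) F) *ᵥ v₀)).trans (hiso v₀)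
      rw [mulVec_mulVec, hxx, smul_mulVec, one_mulVec, QuadraticMap.map_smul, smul_eq_mul] at h
      exact eq_one_of_sq (mul_right_cancel₀ hv₀ (by rw [h, one_mul]))
    rw [hz1, one_smul] at hxx
    by_contra hno
    obtain ⟨-, C, hC, hCd⟩ := half_of_no_fixed Q hnd hι
      (fun C hC => (singular_finrank_le_minus m hab C hC).trans (Nat.le_succ m)) _ hiso hxx fun v hv => by
      by_contra h
      exact hno (point_of_fixed Q _ h hv)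
    have := singular_finrank_le_minus m hab C hC
    omega


/-- Elements of prime order of Ω⁻_n(q), q even, with no fixed nonsingular 1-space. Here `T = PΩ⁻_n(F)`, `n = 2d ≥ 8`, realised through `Ω⁻_n(q)`, the commutator subgroup of the isometry group of `Q = Σ_{i<d−1} xᵢyᵢ + z₁² + a z₁z₂ + b z₂²` with `z₁² + a z₁z₂ + b z₂²` anisotropic, over the field `F` with `q` elements; an element of `T` of prime order `r` is an element `x` of `Ω⁻_n(q)` with `x^r` scalar and `x` not scalar; `q` is even (so the centre is trivial). Let Ω be the set of 1-dimensional subspaces spanned by a vector `v` with `Q(v) ≠ 0`, and let `r` be a prime dividing their number. Then every element of `T` of order `r` fixes some nonsingular 1-space if and only if `r = 2`. -/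
theorem result {F : Type*} [Field F] [Fintype F] {p : ℕ} [Fact p.Prime] [CharP F p] {q : ℕ} (hq : Fintype.card F = q)
    (hp : p = 2) (d : ℕ) (hd : 4 ≤ d) (a b : F) (hab : ∀ x y : F, x ^ 2 + a * x * y + b * y ^ 2 = 0 → x = 0 ∧ y = 0) (r : ℕ) [Fact r.Prime]
    (hrΩ : r ∣ Nat.card {W : Submodule F ((Fin (d - 1) ⊕ Fin (d - 1)) ⊕ Fin 2 → F) // Module.finrank F ↥W = 1 ∧ ∃ v ∈ W, Cfsg.quadFormMinus (d - 1) F a b v ≠ 0}) :
    (∀ x : GL ((Fin (d - 1) ⊕ Fin (d - 1)) ⊕ Fin 2) F, x ∈ Cfsg.Geo.omegaGL (Cfsg.quadFormMinus (d - 1) F a b) →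
      (∃ z : F, ((x ^ r : GL ((Fin (d - 1) ⊕ Fin (d - 1)) ⊕ Fin 2) F) : Matrix ((Fin (d - 1) ⊕ Fin (d - 1)) ⊕ Fin 2) ((Fin (d - 1) ⊕ Fin (d - 1)) ⊕ Fin 2) F) = z • (1 : Matrix ((Fin (d - 1) ⊕ Fin (d - 1)) ⊕ Fin 2) ((Fin (d - 1) ⊕ Fin (d - 1)) ⊕ Fin 2) F)) →
      (∀ z : F, (x : Matrix ((Fin (d - 1) ⊕ Fin (d - 1)) ⊕ Fin 2) ((Fin (d - 1) ⊕ Fin (d - 1)) ⊕ Fin 2) F) ≠ z • (1 : Matrix ((Fin (d - 1) ⊕ Fin (d - 1)) ⊕ Fin 2) ((Fin (d - 1) ⊕ Fin (d - 1)) ⊕ Fin 2) F)) →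
      ∃ W : Submodule F ((Fin (d - 1) ⊕ Fin (d - 1)) ⊕ Fin 2 → F), (Module.finrank F ↥W = 1 ∧ ∃ v ∈ W, Cfsg.quadFormMinus (d - 1) F a b v ≠ 0) ∧ W.map (Matrix.toLin' (x : Matrix ((Fin (d - 1) ⊕ Fin (d - 1)) ⊕ Fin 2) ((Fin (d - 1) ⊕ Fin (d - 1)) ⊕ Fin 2) F)) ≤ W) ↔ r = 2 := by

  subst hp
  obtain ⟨m, rfl⟩ : ∃ m, d = m + 1 := ⟨d - 1, by omega⟩
  exact core m (by omega) a b hab r hrΩ

end Cfsg.Agent.S5986
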