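import Cfsg.Statements.S5987
import Cfsg.Agent.Lib.Classical.OrthEvenTSMain

set_option autoImplicit false
open scoped MatrixGroups
open Cfsg

namespace Cfsg.Agent.S5987

/-- Elements of prime order of PΩ⁻_n(q) with no fixed totally singular `m`-space. Here `T = PΩ⁻_n(F)`, `n = 2d ≥ 8`, realised through `Ω⁻_n(q)`, the commutator subgroup of the isometry group of `Q = Σ_{i<d−1} xᵢyᵢ + z₁² + a z₁z₂ + b z₂²` with `z₁² + a z₁z₂ + b z₂²` anisotropic, over the field `F` with `q` elements; an element of `T` of prime order `r` is an element `x` of `Ω⁻_n(q)` with `x^r` scalar and `x` not scalar. Let `1 ≤ m ≤ d − 1` and let `r` be a prime dividing the number of totally singular `m`-spaces (subspaces of dimension `m` on which `Q` vanishes); for `r ≠ p` let `i` be the multiplicative order of `q` modulo `r`, `c = i` for `i` even and `c = 2i` for `i` odd, and write `k = n mod c`,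 `ℓ = m mod i`, `n' = ⌊n/i⌋`, `m' = ⌊m/i⌋`, `t = (r−1)/i`. Then every element of `T` of order `r` fixes some totally singular `m`-space if and only if one of: (i) `r = 2 ≠ p` and (`n ≡ 0 (mod 4)`, or `m` is even, or `q ≢ 7 (mod 8)`); (ii) `r ≠ p` odd, `i` odd, `i ≤ m` and (`k = 0` or `k > 2ℓ`); (iii) `r ≠ p` odd, `i` even, `i ≤ m`, `n' − 2m' ≥ t`, and one of: (a) `i ≥ 2ℓ`, `k = 0`, `n/i` even and `n' − 2m' > t` (all four); (b) `k ≥ 2ℓ` and `n'` odd; (c) `k > 2ℓ` and `n'` even. -/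
theorem result {F : Type*} [Field F] [Fintype F] {p : ℕ} [Fact p.Prime] [CharP F p] {q : ℕ} (hq : Fintype.card F = q)
    (d m : ℕ) (hd : 4 ≤ d) (hm : 1 ≤ m) (hmd : m + 1 ≤ d) (a b : F) (hab : ∀ x y : F, x ^ 2 + a * x * y + b * y ^ 2 = 0 → x = 0 ∧ y = 0)
    (r : ℕ) [Fact r.Prime]
    (hrΩ : r ∣ Nat.card {W : Submodule F ((Fin (d - 1) ⊕ Fin (d - 1)) ⊕ Fin 2 → F) // Module.finrank F ↥W = m ∧ Cfsg.Geo.IsTotallySingularQuad (Cfsg.quadFormMinus (d - 1) F a b) W})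
    (i c : ℕ) (hi : i = orderOf (q : ZMod r)) (hc : c = if Even i then i else 2 * i) :
    (∀ x : GL ((Fin (d - 1) ⊕ Fin (d - 1)) ⊕ Fin 2) F, x ∈ Cfsg.Geo.omegaGL (Cfsg.quadFormMinus (d - 1) F a b) →
      (∃ z : F, ((x ^ r : GL ((Fin (d - 1) ⊕ Fin (d - 1)) ⊕ Fin 2) F) : Matrix ((Fin (d - 1) ⊕ Fin (d - 1)) ⊕ Fin 2) ((Fin (d - 1) ⊕ Fin (d - 1)) ⊕ Fin 2) F) = z • (1 : Matrix ((Fin (d - 1) ⊕ Fin (d - 1)) ⊕ Fin 2) ((Fin (d - 1) ⊕ Fin (d - 1)) ⊕ Fin 2) F)) →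
      (∀ z : F, (x : Matrix ((Fin (d - 1) ⊕ Fin (d - 1)) ⊕ Fin 2) ((Fin (d - 1) ⊕ Fin (d - 1)) ⊕ Fin 2) F) ≠ z • (1 : Matrix ((Fin (d - 1) ⊕ Fin (d - 1)) ⊕ Fin 2) ((Fin (d - 1) ⊕ Fin (d - 1)) ⊕ Fin 2) F)) →
      ∃ W : Submodule F ((Fin (d - 1) ⊕ Fin (d - 1)) ⊕ Fin 2 → F), (Module.finrank F ↥W = m ∧ Cfsg.Geo.IsTotallySingularQuad (Cfsg.quadFormMinus (d - 1) F a b) W) ∧ W.map (Matrix.toLin' (x : Matrix ((Fin (d - 1) ⊕ Fin (d - 1)) ⊕ Fin 2) ((Fin (d - 1) ⊕ Fin (d - 1)) ⊕ Fin 2) F)) ≤ W) ↔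
    ((r = 2 ∧ p ≠ 2 ∧ (Even d ∨ Even m ∨ q % 8 ≠ 7)) ∨
     (r ≠ p ∧ 2 < r ∧ Odd i ∧ i ≤ m ∧ ((2 * d) % c = 0 ∨ 2 * (m % i) < (2 * d) % c)) ∨
     (r ≠ p ∧ 2 < r ∧ Even i ∧ i ≤ m ∧ (r - 1) / i + 2 * (m / i) ≤ (2 * d) / i ∧
       ((2 * (m % i) ≤ i ∧ (2 * d) % c = 0 ∧ Even ((2 * d) / i) ∧ (r - 1) / i + 2 * (m / i) < (2 * d) / i) ∨
        (2 * (m % i) ≤ (2 * d) % c ∧ Odd ((2 * d) / i)) ∨
        (2 * (m % i) < (2 * d) % c ∧ Even ((2 * d) / i))))) := by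
  simp only [← Classical.coe_qfMinus] at hrΩ ⊢
  let ι₀ := (Fin (d - 1) ⊕ Fin (d - 1)) ⊕ Fin 2
  set Q₀ := Classical.qfMinus (d - 1) F a b
  have hQ : (QuadraticMap.polarBilin Q₀).Nondegenerate := Classical.nondegenerate_qfMinus (d - 1) hab
  have hι : Fintype.card ι₀ = 2 * d := by simp only [ι₀, Fintype.card_sum, Fintype.card_fin]; omega
  have hε : Classical.EvenType.Plus Q₀ ↔ False := by
    refine iff_false_intro ?_
    rintro ⟨U, hU, hd'⟩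
    have := Classical.singular_finrank_le_minus (d - 1) hab U hU
    rw [Module.finrank_pi, hι] at hd'
    omega
  have hmd' : m < d := by omega
  simp only [Geo.IsTotallySingularQuad] at hrΩ ⊢
  simp only [and_assoc] at ⊢
  have hpos : 0 < Fintype.card ι₀ := by omega
  have hG : Classical.OrthAut.GenQ F ι₀ := Or.inr (by omega)
  have hrp : r ≠ p := OrthEvenTSMain.ne_char hQ hι False hε hq hmd' Fact.out hrΩ
  show OrthEvenTSMain.Fixes Q₀ r m ↔ _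
  rcases eq_or_ne r 2 with rfl | hr2
  · have hp2 : p ≠ 2 := fun e => hrp e.symm
    have h2 : (2 : F) ≠ 0 := fun e => hp2 (by
      have h' : ((2 : ℕ) : F) = 0 := by exact_mod_cast e
      exact ((Nat.prime_dvd_prime_iff_eq (Fact.out : p.Prime) Nat.prime_two).1 ((CharP.cast_eq_zero_iff F p 2).1 h')))
    obtain ⟨hodd, hs1, hs2⟩ := OrthEvenTSMain.isSquare_facts h2 hq
    rw [OrthEvenTSMain.two_iff hQ hι False hε h2 hmd' hm, hs1, hs2]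
    simp only [Nat.even_iff, not_false_iff, true_or, true_and, false_iff]
    refine ⟨fun H => Or.inl ⟨hp2, by omega⟩, fun H => ?_⟩
    · rcases H with ⟨-, H⟩ | ⟨-, H, -⟩ | ⟨-, H, -⟩ <;> omega
  have hr3 : 2 < r := lt_of_le_of_ne (Fact.out : r.Prime).two_le (Ne.symm hr2)
  obtain ⟨h, -⟩ := OrthNondegCrit.ctx (p := p) hq hrp hr2 hi
  rw [OrthEvenTSMain.Fixes, OrthEvenTSCriterion.criterion Q₀ hQ hG hι hmd' False hε h hrΩ,
    OrthEvenTSMain.crit_iff False (SelfReciprocalFactors.i_pos h) hc]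
  simp [hr2, hrp, hr3, SplitArith.G, ne_eq]

end Cfsg.Agent.S5987
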