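import Cfsg.Statements.S5988
import Cfsg.Agent.Lib.Classical.OrthEvenNondegMain
-- import your own Cfsg.Agent.* helpers here

set_option autoImplicit false
open scoped MatrixGroups
open Cfsg

namespace Cfsg.Agent.S5988

/-- Elements of prime order of PΩ⁺_n(q) with no fixed elliptic `m`-space. Here `T = PΩ⁺_n(F)`, `n = 2d ≥ 8`, realised through `Ω⁺_n(q)`, the commutator subgroup of the isometry group of `Q = Σ xᵢyᵢ` over the field `F` with `q` elements; an element of `T` of prime order `r` is an element `x` of `Ω⁺_n(q)` with `x^r` scalar and `x` not scalar; a nondegenerate `m`-space (even `m`) is a subspace on which the polar form of `Q` is nondegenerate; it is hyperbolic if it contains an `m/2`-dimensional subspace on which `Q` vanishes, elliptic otherwise. Let `m` be even with `2 ≤ m < n/2` and let `r` be a prime dividing the number of elliptic `m`-spaces; for `r ≠ p` let `i` be the multiplicative order of `q` modulo `r`, `c = i` for `i` even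 and `c = 2i` for `i` odd, and write `k = n mod c`, `ℓ = m mod i`, `ℓ' = m mod c`, `n' = ⌊n/i⌋`, `m' = ⌊m/i⌋`, `t = (r−1)/i`. Then every element of `T` of order `r` fixes some elliptic `m`-space if and only if one of: (i) `r = 2 ≠ p` and either `n ≡ 0 (mod 4)`, `q ≡ 3 (mod 4)` and `m ≡ 2 (mod 4)`, or `n ≡ 2 (mod 4)` and `q ≢ 1 (mod 8)`; (ii) `r ≠ p` odd, `i` odd, `c ≤ m` and `k > ℓ' > 0`; (iii) `r ≠ p` odd, `i` even, and either `k = 0` and (`n/i` odd, or `ℓ' = 0` and `m/i` odd), or `i ≤ m` and (`k > ℓ' > 0`, or `k = ℓ' > 0` and `(n + m − 2k)/i` odd, or `k > ℓ' = 0` and `m/i` odd). (For `r = p` there is always an element of order `p` fixing no elliptic `m`-space.) -/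
theorem result {F : Type*} [Field F] [Fintype F] {p : ℕ} [Fact p.Prime] [CharP F p] {q : ℕ} (hq : Fintype.card F = q)
    (d m : ℕ) (hd : 4 ≤ d) (hm : 2 ≤ m) (hme : Even m) (hmd : m < d)
    (r : ℕ) [Fact r.Prime]
    (hrΩ : r ∣ Nat.card {W : Submodule F (Fin d ⊕ Fin d → F) // Module.finrank F ↥W = m ∧ Cfsg.Geo.IsNondegenerateOn (QuadraticMap.polar (Cfsg.quadFormPlus d F)) W ∧ ¬ Cfsg.Geo.IsPlusTypeOn (Cfsg.quadFormPlus d F) W})
    (i c : ℕ) (hi : i = orderOf (q : ZMod r)) (hc : c = if Even i then i else 2 * i) :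
    (∀ x : GL (Fin d ⊕ Fin d) F, x ∈ Cfsg.Geo.omegaGL (Cfsg.quadFormPlus d F) →
      (∃ z : F, ((x ^ r : GL (Fin d ⊕ Fin d) F) : Matrix (Fin d ⊕ Fin d) (Fin d ⊕ Fin d) F) = z • (1 : Matrix (Fin d ⊕ Fin d) (Fin d ⊕ Fin d) F)) →
      (∀ z : F, (x : Matrix (Fin d ⊕ Fin d) (Fin d ⊕ Fin d) F) ≠ z • (1 : Matrix (Fin d ⊕ Fin d) (Fin d ⊕ Fin d) F)) →
      ∃ W : Submodule F (Fin d ⊕ Fin d → F), (Module.finrank F ↥W = m ∧ Cfsg.Geo.IsNondegenerateOn (QuadraticMap.polar (Cfsg.quadFormPlus d F)) W ∧ ¬ Cfsg.Geo.IsPlusTypeOn (Cfsg.quadFormPlus d F) W) ∧ W.map (Matrix.toLin' (x : Matrix (Fin d ⊕ Fin d) (Fin d ⊕ Fin d) F)) ≤ W) ↔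
    ((r = 2 ∧ p ≠ 2 ∧ ((Even d ∧ q % 4 = 3 ∧ m % 4 = 2) ∨ (Odd d ∧ q % 8 ≠ 1))) ∨
     (r ≠ p ∧ 2 < r ∧ Odd i ∧ c ≤ m ∧ 0 < m % c ∧ m % c < (2 * d) % c) ∨
     (r ≠ p ∧ 2 < r ∧ Even i ∧
       (((2 * d) % c = 0 ∧ (Odd ((2 * d) / i) ∨ (m % c = 0 ∧ Odd (m / i)))) ∨
        (i ≤ m ∧ ((0 < m % c ∧ m % c < (2 * d) % c) ∨
                  (0 < m % c ∧ m % c = (2 * d) % c ∧ Odd ((2 * d + m - 2 * ((2 * d) % c)) / i)) ∨
                  (m % c = 0 ∧ 0 < (2 * d) % c ∧ Odd (m / i))))))) := by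
  simp only [← Classical.coe_qfPlus] at hrΩ ⊢
  obtain ⟨M, rfl⟩ : ∃ M, m = 2 * M := ⟨m / 2, by obtain ⟨k, hk⟩ := hme; omega⟩
  have hQ := Classical.nondegenerate_qfPlus (F := F) d
  have hι : Fintype.card (Fin d ⊕ Fin d) = 2 * d := by simp only [Fintype.card_sum, Fintype.card_fin]; omega
  have hε : Classical.EvenType.Plus (Classical.qfPlus d F) ↔ True :=
    iff_true_intro (by
      obtain ⟨U, hU, hUd⟩ := Classical.exists_singular_plus (F := F) d
      exact ⟨U, hU, by rw [hUd, Module.finrank_pi, hι]⟩)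
  simp only [← OrthEvenNondegMain.good_false (Q := Classical.qfPlus d F) (M := M) rfl] at hrΩ ⊢
  show OrthEvenNondegTwo.Fixes _ r M False ↔ _
  rcases eq_or_ne r p with rfl | hrp
  · refine iff_of_false ?_ fun h => by rcases h with ⟨h, h', -⟩ | ⟨h', -⟩ | ⟨h', -⟩ <;> exact absurd (by omega) h'
    obtain ⟨N, hN, hr⟩ := OrthEvenNondegUnipotent.exists_sq (F := F) d
    refine OrthEvenNondegMain.bad hQ hι hd (by omega) (by omega) False False (hε.trans (by simp)) hN
      (fun e => ?_) fun s₁ s₂ hs h1 h3 h4 h5 h6 h7 => ?_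
    · rw [e, LinearMap.range_zero, finrank_bot] at hr; omega
    · have : s₁ ≠ M := fun e => h6 e
      have : s₂ + M ≠ d := fun e => h7 e
      omega
  have hεb : True ↔ (False ↔ False) := by simp
  rcases eq_or_ne r 2 with rfl | hr2
  · have hp2 : p ≠ 2 := Ne.symm hrp
    have h2 : (2 : F) ≠ 0 := fun e => hp2 (by
      have h' : ((2 : ℕ) : F) = 0 := by exact_mod_cast e
      exact ((Nat.prime_dvd_prime_iff_eq (Fact.out : p.Prime) Nat.prime_two).1 ((CharP.cast_eq_zero_iff F p 2).1 h')))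
    rw [OrthEvenNondegTwo.two_iff h2 hQ hι (by omega) (by omega) (by omega) False True hε,
      (OrthEvenNondegMain.isSquare_pow_facts h2 hq d).1.2, (OrthEvenNondegMain.isSquare_pow_facts h2 hq d).2,
      (OrthEvenNondegMain.isSquare_pow_facts h2 hq M).2]
    have := (OrthEvenNondegMain.isSquare_pow_facts h2 hq d).1.1
    simp only [Nat.even_iff, Nat.odd_iff, true_iff, false_iff, hrp, hp2, ne_eq, not_false_iff, true_and,
      lt_irrefl, false_and, and_false, or_false]
    omega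
  have hr3 : 2 < r := lt_of_le_of_ne (Fact.out : r.Prime).two_le (Ne.symm hr2)
  obtain ⟨C, hC, hsm, hC'⟩ := OrthEvenNondegMain.main hQ hι hd (m := 2 * M) rfl (by omega) (by omega) True False False
    hε hεb hq hrp hr2 hrΩ hi hc
  rw [hC]
  simp only [hrp, hr2, hr3, ne_eq, not_false_iff, true_and, false_and, false_or]
  simp only [OrthEvenNondegMain.Ty, Nat.even_iff, Nat.odd_iff, iff_true, iff_false, and_true, and_false, or_false] at hC' hsm ⊢
  rcases Nat.mod_two_eq_zero_or_one i with e | e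
  · rw [if_pos (Nat.even_iff.2 e)] at hc
    simp only [e, true_and, false_and, or_false, false_or, not_true, zero_ne_one] at hC' ⊢
    rw [hc] at hC' hsm ⊢
    generalize 2 * d % i = k at *
    generalize 2 * M % i = l at *
    refine ⟨fun h => ?_, fun h => hC'.2 ?_⟩
    · have := hsm h; have := hC'.1 h; omega
    · omega
  · rw [if_neg (Nat.not_even_iff.2 e)] at hc
    simp only [e, one_ne_zero, true_and, false_and, or_false, false_or, not_true, not_false_iff, and_false, and_true] at hC' ⊢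
    refine ⟨fun h => ?_, fun h => hC'.2 ?_⟩
    · have := hsm h; have := hC'.1 h; omega
    · omega

end Cfsg.Agent.S5988
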