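import Cfsg.Statements.S5990
import Cfsg.Agent.Lib.Classical.OrthEvenNondegMain
-- import your own Cfsg.Agent.* helpers here

set_option autoImplicit false
open scoped MatrixGroups
open Cfsg

namespace Cfsg.Agent.S5990

/-- Elements of prime order of PΩ⁻_n(q) with no fixed elliptic `m`-space. Here `T = PΩ⁻_n(F)`, `n = 2d ≥ 8`, realised through `Ω⁻_n(q)`, the commutator subgroup of the isometry group of `Q = Σ_{i<d−1} xᵢyᵢ + z₁² + a z₁z₂ + b z₂²` with `z₁² + a z₁z₂ + b z₂²` anisotropic, over the field `F` with `q` elements; an element of `T` of prime order `r` is an element `x` of `Ω⁻_n(q)` with `x^r` scalar and `x` not scalar; a nondegenerate `m`-space (even `m`) is a subspace on which the polar form of `Q` is nondegenerate; it is hyperbolic if it contains an `m/2`-dimensional subspace on which `Q` vanishes, elliptic otherwise. Let `m` be even with `2 ≤ m ≤ n − 2` (no restriction `m < n/2`: fixing an elliptic `m`-space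 is the same as fixing its hyperbolic orthogonal complement) and let `r` be a prime dividing the number of elliptic `m`-spaces, with `r = 2` or `r ≠ p`; for `r ≠ p` let `i` be the multiplicative order of `q` modulo `r`, `c = i` for `i` even and `c = 2i` for `i` odd, and write `k = n mod c`, `ℓ = m mod i`, `ℓ' = m mod c`, `n' = ⌊n/i⌋`, `m' = ⌊m/i⌋`, `t = (r−1)/i`. Then every element of `T` of order `r` fixes some elliptic `m`-space if and only if one of: (i) `r = p = 2` and (`n ≡ 0 (mod 4)` or `m ≡ 2 (mod 4)`); (ii) `r = 2 ≠ p` and (`n ≡ 0 (mod 4)`, or `q ≢ 7 (mod 8)`, or `m ≡ 2 (mod 4)`); (iii) `r ≠ p` odd, `i` odd, and `k = 0` or (`c ≤ m` and `k ≥ ℓ' > 0`); (iv) `r ≠ p` odd, `i` even, and either `k = 0` and (`n/i` even, or `ℓ' = 0` and `m/i` odd), or `k > 0`, `i ≤ m` and (`k > ℓ' > 0`, or `ℓ' = 0` and `m/i` odd, or `k = ℓ'` and `(n + m − 2k)/i` even). (Odd `r = p` is not covered by this statement.) -/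
theorem result {F : Type*} [Field F] [Fintype F] {p : ℕ} [Fact p.Prime] [CharP F p] {q : ℕ} (hq : Fintype.card F = q)
    (d m : ℕ) (hd : 4 ≤ d) (hm : 2 ≤ m) (hme : Even m) (hmn : m + 2 ≤ 2 * d) (a b : F) (hab : ∀ x y : F, x ^ 2 + a * x * y + b * y ^ 2 = 0 → x = 0 ∧ y = 0)
    (r : ℕ) [Fact r.Prime] (hr : r = 2 ∨ r ≠ p)
    (hrΩ : r ∣ Nat.card {W : Submodule F ((Fin (d - 1) ⊕ Fin (d - 1)) ⊕ Fin 2 → F) // Module.finrank F ↥W = m ∧ Cfsg.Geo.IsNondegenerateOn (QuadraticMap.polar (Cfsg.quadFormMinus (d - 1) F a b)) W ∧ ¬ Cfsg.Geo.IsPlusTypeOn (Cfsg.quadFormMinus (d - 1) F a b) W})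
    (i c : ℕ) (hi : i = orderOf (q : ZMod r)) (hc : c = if Even i then i else 2 * i) :
    (∀ x : GL ((Fin (d - 1) ⊕ Fin (d - 1)) ⊕ Fin 2) F, x ∈ Cfsg.Geo.omegaGL (Cfsg.quadFormMinus (d - 1) F a b) →
      (∃ z : F, ((x ^ r : GL ((Fin (d - 1) ⊕ Fin (d - 1)) ⊕ Fin 2) F) : Matrix ((Fin (d - 1) ⊕ Fin (d - 1)) ⊕ Fin 2) ((Fin (d - 1) ⊕ Fin (d - 1)) ⊕ Fin 2) F) = z • (1 : Matrix ((Fin (d - 1) ⊕ Fin (d - 1)) ⊕ Fin 2) ((Fin (d - 1) ⊕ Fin (d - 1)) ⊕ Fin 2) F)) →
      (∀ z : F, (x : Matrix ((Fin (d - 1) ⊕ Fin (d - 1)) ⊕ Fin 2) ((Fin (d - 1) ⊕ Fin (d - 1)) ⊕ Fin 2) F) ≠ z • (1 : Matrix ((Fin (d - 1) ⊕ Fin (d - 1)) ⊕ Fin 2) ((Fin (d - 1) ⊕ Fin (d - 1)) ⊕ Fin 2) F)) →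
      ∃ W : Submodule F ((Fin (d - 1) ⊕ Fin (d - 1)) ⊕ Fin 2 → F), (Module.finrank F ↥W = m ∧ Cfsg.Geo.IsNondegenerateOn (QuadraticMap.polar (Cfsg.quadFormMinus (d - 1) F a b)) W ∧ ¬ Cfsg.Geo.IsPlusTypeOn (Cfsg.quadFormMinus (d - 1) F a b) W) ∧ W.map (Matrix.toLin' (x : Matrix ((Fin (d - 1) ⊕ Fin (d - 1)) ⊕ Fin 2) ((Fin (d - 1) ⊕ Fin (d - 1)) ⊕ Fin 2) F)) ≤ W) ↔
    ((r = 2 ∧ p = 2 ∧ (Even d ∨ m % 4 = 2)) ∨
     (r = 2 ∧ p ≠ 2 ∧ (Even d ∨ q % 8 ≠ 7 ∨ m % 4 = 2)) ∨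
     (r ≠ p ∧ 2 < r ∧ Odd i ∧ ((2 * d) % c = 0 ∨ (c ≤ m ∧ 0 < m % c ∧ m % c ≤ (2 * d) % c))) ∨
     (r ≠ p ∧ 2 < r ∧ Even i ∧
       (((2 * d) % c = 0 ∧ (Even ((2 * d) / i) ∨ (m % c = 0 ∧ Odd (m / i)))) ∨
        (0 < (2 * d) % c ∧ i ≤ m ∧ ((0 < m % c ∧ m % c < (2 * d) % c) ∨ (m % c = 0 ∧ Odd (m / i)) ∨
                                    (m % c = (2 * d) % c ∧ Even ((2 * d + m - 2 * ((2 * d) % c)) / i))))))) := by
  simp only [← Classical.coe_qfMinus] at hrΩ ⊢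
  obtain ⟨M, rfl⟩ : ∃ M, m = 2 * M := ⟨m / 2, by obtain ⟨k, hk⟩ := hme; omega⟩
  have hQ := Classical.nondegenerate_qfMinus (d - 1) hab
  have hι : Fintype.card ((Fin (d - 1) ⊕ Fin (d - 1)) ⊕ Fin 2) = 2 * d := by
    simp only [Fintype.card_sum, Fintype.card_fin]; omega
  have hε : Classical.EvenType.Plus (Classical.qfMinus (d - 1) F a b) ↔ False := by
    refine iff_false_intro ?_
    rintro ⟨U, hU, hd'⟩
    have := Classical.singular_finrank_le_minus (d - 1) hab U hU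
    rw [Module.finrank_pi, hι] at hd'
    omega
  simp only [← OrthEvenNondegMain.good_false (Q := Classical.qfMinus (d - 1) F a b) (M := M) rfl] at hrΩ ⊢
  show OrthEvenNondegTwo.Fixes _ r M False ↔ _
  have hεb : False ↔ (False ↔ True) := by simp
  rcases eq_or_ne r p with rfl | hrp
  · obtain rfl : r = 2 := hr.resolve_right fun h => h rfl
    simp only [ne_eq, not_true, true_and, false_and, or_false]
    refine ⟨fun H => ?_, fun h => OrthEvenNondegCharTwo.fixes_two hQ hι (by omega) (by omega) False False hε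
      (Or.inr (Or.inr ⟨id, id, by rw [Nat.even_iff] at h; omega⟩))⟩
    by_contra hne
    rw [Nat.even_iff] at hne
    obtain ⟨g, hg, hrk, halt, -⟩ := Cfsg.Agent.Classical.SympEven.minus_facts (k := d - 1) hab (Sum.inr ⟨(d - 1) / 2 - 1, by omega⟩)
    simp only [Sum.elim_inr] at hrk
    refine OrthEvenNondegMain.bad hQ hι hd (by omega) (by omega) False True (hε.trans hεb)
      (OrthEvenNondegMain.sq_of_qnil (Cfsg.Agent.Classical.SympEven.qnil_of_sq hQ hg) (halt.2 rfl)) (fun e => ?_)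
      (fun s₁ s₂ hs h1 h3 h4 h5 h6 _ => ?_) H
    · rw [e, LinearMap.range_zero, finrank_bot] at hrk; omega
    · have : s₁ ≠ M := fun e => h6 e
      rw [Nat.even_iff] at h1 h3
      omega
  rcases eq_or_ne r 2 with rfl | hr2
  · have hp2 : p ≠ 2 := Ne.symm hrp
    have h2 : (2 : F) ≠ 0 := fun e => hp2 (by
      have h' : ((2 : ℕ) : F) = 0 := by exact_mod_cast e
      exact ((Nat.prime_dvd_prime_iff_eq (Fact.out : p.Prime) Nat.prime_two).1 ((CharP.cast_eq_zero_iff F p 2).1 h')))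
    rw [OrthEvenNondegTwo.two_iff h2 hQ hι (by omega) (by omega) (by omega) False False hε,
      (OrthEvenNondegMain.isSquare_pow_facts h2 hq d).1.2, (OrthEvenNondegMain.isSquare_pow_facts h2 hq d).2,
      (OrthEvenNondegMain.isSquare_pow_facts h2 hq M).2]
    have := (OrthEvenNondegMain.isSquare_pow_facts h2 hq d).1.1
    simp only [Nat.even_iff, Nat.odd_iff, true_iff, false_iff, hrp, hp2, ne_eq, not_false_iff, true_and,
      lt_irrefl, false_and, and_false, or_false, false_or]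
    omega
  have hr3 : 2 < r := lt_of_le_of_ne (Fact.out : r.Prime).two_le (Ne.symm hr2)
  obtain ⟨C, hC, hsm, hC'⟩ := OrthEvenNondegMain.main hQ hι hd (m := 2 * M) rfl (by omega) (by omega) False False True
    hε hεb hq hrp hr2 hrΩ hi hc
  rw [hC]
  simp only [hrp, hr2, hr3, ne_eq, not_false_iff, true_and, false_and, false_or]
  simp only [OrthEvenNondegMain.Ty, Nat.even_iff, Nat.odd_iff, iff_true, iff_false, and_true, and_false, or_false] at hC' hsm ⊢
  rcases Nat.mod_two_eq_zero_or_one i with e | e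
  · rw [if_pos (Nat.even_iff.2 e)] at hc
    simp only [e, true_and, false_and, or_false, false_or, not_true, zero_ne_one] at hC' ⊢
    rw [hc] at hC' hsm ⊢
    generalize 2 * d % i = k at *
    generalize 2 * M % i = l at *
    refine ⟨fun h => ?_, fun h => hC'.2 ?_⟩
    · have := hsm h; have := hC'.1 h; omega
    · omega
  · rw [if_neg (Nat.not_even_iff.2 e)] at hc
    simp only [e, one_ne_zero, true_and, false_and, or_false, false_or, not_true, not_false_iff, and_false, and_true] at hC' ⊢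
    refine ⟨fun h => ?_, fun h => hC'.2 ?_⟩
    · have := hsm h; have := hC'.1 h; omega
    · omega

end Cfsg.Agent.S5990
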