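import Cfsg.Statements.S5992
import Cfsg.Agent.Lib.Classical.OrthNondegCrit

set_option autoImplicit false
open scoped MatrixGroups
open Cfsg

namespace Cfsg.Agent.S5992

/-- Elements of prime order r ≠ p of Ω_n(q), nq odd, with no fixed hyperbolic `m`-space. Here `T = Ω_n(F)`, `n = 2d+1 ≥ 7`, `q` odd, realised as the commutator subgroup of the isometry group of `Q = x₀² + Σ xᵢyᵢ` over the field `F` with `q` elements (trivial centre, so its elements of prime order `r` are used directly); a nondegenerate `m`-space (even `m`) is a subspace on which the polar form of `Q` is nondegenerate; it is hyperbolic if it contains an `m/2`-dimensional subspace on which `Q` vanishes, elliptic otherwise. Let `m` be even with `2 ≤ m ≤ n − 1` (no restriction `m < n/2`) and let `r ≠ p` be a prime dividing the number of hyperbolic `m`-spaces; for `r ≠ p` let `i` be the multiplicative order of `q` modulo `r`, `c = i` for `i` even and `c = 2i` for `i` odd, and write `k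 = n mod c`, `ℓ' = m mod c`. Then every element of `T` of order `r` fixes some hyperbolic `m`-space if and only if `r = 2`, or `r` is odd and one of: (i) `i` odd, `c ≤ m` and either `k > ℓ' > 0` or `ℓ' = 0`; (ii) `i` even, `i ≤ m`, `k > ℓ'`, and `m/i` even whenever `ℓ' = 0`. (`r = p` is not covered by this statement.) -/
theorem result {F : Type*} [Field F] [Fintype F] {p : ℕ} [Fact p.Prime] [CharP F p] {q : ℕ} (hq : Fintype.card F = q) (hqodd : Odd q)
    (d m : ℕ) (hd : 3 ≤ d) (hm : 2 ≤ m) (hme : Even m) (hmn : m ≤ 2 * d)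
    (r : ℕ) [Fact r.Prime] (hrp : r ≠ p)
    (hrΩ : r ∣ Nat.card {W : Submodule F (Unit ⊕ (Fin d ⊕ Fin d) → F) // Module.finrank F ↥W = m ∧ Cfsg.Geo.IsNondegenerateOn (QuadraticMap.polar (Cfsg.quadFormOdd d F)) W ∧ Cfsg.Geo.IsPlusTypeOn (Cfsg.quadFormOdd d F) W})
    (i c : ℕ) (hi : i = orderOf (q : ZMod r)) (hc : c = if Even i then i else 2 * i) :
    (∀ x : GL (Unit ⊕ (Fin d ⊕ Fin d)) F, x ∈ Cfsg.Geo.omegaGL (Cfsg.quadFormOdd d F) → orderOf x = r →
      ∃ W : Submodule F (Unit ⊕ (Fin d ⊕ Fin d) → F), (Module.finrank F ↥W = m ∧ Cfsg.Geo.IsNondegenerateOn (QuadraticMap.polar (Cfsg.quadFormOdd d F)) W ∧ Cfsg.Geo.IsPlusTypeOn (Cfsg.quadFormOdd d F) W) ∧ W.map (Matrix.toLin' (x : Matrix (Unit ⊕ (Fin d ⊕ Fin d)) (Unit ⊕ (Fin d ⊕ Fin d)) F)) ≤ W) ↔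
    (r = 2 ∨
     (2 < r ∧ Odd i ∧ c ≤ m ∧ (m % c = 0 ∨ (0 < m % c ∧ m % c < (2 * d + 1) % c))) ∨
     (2 < r ∧ Even i ∧ i ≤ m ∧ m % c < (2 * d + 1) % c ∧ (0 < m % c ∨ Even (m / i)))) := by
  obtain ⟨M, rfl⟩ := hme
  rw [← two_mul] at hrΩ hm hmn ⊢
  have hM1 : 1 ≤ M := by omega
  have hMd : M ≤ d := by omega
  have h2 : (2 : F) ≠ 0 := by
    intro h
    haveI : CharP F 2 := CharTwo.of_one_ne_zero_of_two_eq_zero one_ne_zero h
    have h' := FiniteField.even_card_of_char_two (F := F) (ringChar.eq F 2)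
    rw [hq] at h'
    obtain ⟨k, hk⟩ := hqodd
    omega
  have hι : Fintype.card (Unit ⊕ (Fin d ⊕ Fin d)) = 2 * d + 1 := by
    simp only [Fintype.card_sum, Fintype.card_unit, Fintype.card_fin]; omega
  simp only [← Classical.coe_qfOdd] at hrΩ ⊢
  have hQ := Classical.nondegenerate_qfOdd (F := F) d h2
  have hG : ∀ W : Submodule F (Unit ⊕ (Fin d ⊕ Fin d) → F), (Module.finrank F ↥W = 2 * M ∧ Geo.IsNondegenerateOn (QuadraticMap.polar ⇑(Classical.qfOdd d F)) W ∧
      Geo.IsPlusTypeOn (⇑(Classical.qfOdd d F)) W) ↔ OrthNondegDerange.Good (Classical.qfOdd d F) M True W :=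
    fun W => by simp [OrthNondegDerange.Good]
  simp only [hG] at hrΩ ⊢
  rcases eq_or_ne r 2 with rfl | hr2
  · exact iff_of_true (fun x hx ho => OrthNondegCrit.fixes_two _ hQ h2 hι hM1 hMd True x hx ho) (Or.inl rfl)
  have hr3 : 2 < r := lt_of_le_of_ne (Fact.out : r.Prime).two_le (Ne.symm hr2)
  obtain ⟨h, hrq⟩ := OrthNondegCrit.ctx (p := p) hq hrp hr2 hi
  obtain ⟨hsm, -⟩ := OrthNondegDerange.small _ hQ h2 hι hM1 hMd True h hrq hrΩ
  have hh := OrthNondegDerange.half_pos h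
  rw [OrthNondegDerange.criterion _ hQ h2 hι hM1 hMd True h hrq hrΩ]
  obtain ⟨hch, e1, e2, e3⟩ := OrthNondegCrit.mods (d := d) (M := M) hc
  rw [e1, e2 hh]
  constructor
  · intro hC
    have hle := OrthNondegCrit.half_le hsm hC
    simp only [OrthNondegDerange.Crit, if_true] at hC
    rcases Nat.even_or_odd i with he | ho
    · refine Or.inr (Or.inr ⟨hr3, he, ?_⟩)
      rw [e3 he]
      have : i = 2 * OrthNondegDerange.half i := by rw [← hch, hc, if_pos he]
      refine ⟨by omega, ?_⟩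
      rcases hC with ⟨h4, h5⟩ | ⟨h4, h5⟩
      · exact ⟨by omega, Or.inl (by omega)⟩
      · exact ⟨by omega, Or.inr ((((OrthNondegCrit.pow_one_iff h h4).1.1 h5)).resolve_left
          (Nat.not_odd_iff_even.2 he))⟩
    · exact Or.inr (Or.inl ⟨hr3, ho, by omega, by omega⟩)
  · intro H
    simp only [OrthNondegDerange.Crit, if_true]
    rcases H with H | ⟨-, ho, -, H⟩ | ⟨-, he, -, h4, H⟩
    · exact absurd H hr2
    · rcases H with H | H
      · exact Or.inr ⟨by omega, (OrthNondegCrit.pow_one_iff h (by omega)).1.2 (Or.inl ho)⟩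
      · exact Or.inl ⟨by omega, by omega⟩
    · rw [e3 he] at H
      rcases Nat.eq_zero_or_pos (M % OrthNondegDerange.half i) with h5 | h5
      · exact Or.inr ⟨h5, (OrthNondegCrit.pow_one_iff h h5).1.2 (Or.inr (H.resolve_left (by omega)))⟩
      · exact Or.inl ⟨h5, by omega⟩

end Cfsg.Agent.S5992
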