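import Cfsg.Statements.S5994
import Cfsg.Agent.Lib.Classical.OrthJordanTypes
-- import your own Cfsg.Agent.* helpers here

set_option autoImplicit false
open scoped MatrixGroups
open Cfsg Cfsg.Agent

namespace Cfsg.Agent.S5994

/-- A necessary condition for every element of order p of PΩ⁻_n(q), q odd, to fix an elliptic `m`-space. Here `T = PΩ⁻_n(F)`, `n = 2d ≥ 8`, realised through `Ω⁻_n(q)`, the commutator subgroup of the isometry group of `Q = Σ_{i<d−1} xᵢyᵢ + z₁² + a z₁z₂ + b z₂²` with `z₁² + a z₁z₂ + b z₂²` anisotropic, over the field `F` with `q` elements; an element of `T` of prime order `r` is an element `x` of `Ω⁻_n(q)` with `x^r` scalar and `x` not scalar; `q` is odd; a nondegenerate `m`-space (even `m`) is a subspace on which the polar form of `Q` is nondegenerate; it is hyperbolic if it contains an `m/2`-dimensional subspace on which `Q` vanishes, elliptic otherwise. Let `m` be even with `2 ≤ m ≤ n − 2` and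 suppose `p` divides the number of elliptic `m`-spaces. If every element of `T` of order `p` fixes some elliptic `m`-space, then `n ≡ m (mod 4)` and every partition of `n` into parts of size at most `p` in which every even part has even multiplicity contains (as a sub-multiset) a partition of `m` in which every even part has even multiplicity. -/
theorem result {F : Type*} [Field F] [Fintype F] {p : ℕ} [Fact p.Prime] [CharP F p] {q : ℕ} (hq : Fintype.card F = q) (hqodd : Odd q)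
    (d m : ℕ) (hd : 4 ≤ d) (hm : 2 ≤ m) (hme : Even m) (hmn : m + 2 ≤ 2 * d) (a b : F) (hab : ∀ x y : F, x ^ 2 + a * x * y + b * y ^ 2 = 0 → x = 0 ∧ y = 0)
    (hpΩ : p ∣ Nat.card {W : Submodule F ((Fin (d - 1) ⊕ Fin (d - 1)) ⊕ Fin 2 → F) // Module.finrank F ↥W = m ∧ Cfsg.Geo.IsNondegenerateOn (QuadraticMap.polar (Cfsg.quadFormMinus (d - 1) F a b)) W ∧ ¬ Cfsg.Geo.IsPlusTypeOn (Cfsg.quadFormMinus (d - 1) F a b) W}) :
    (∀ x : GL ((Fin (d - 1) ⊕ Fin (d - 1)) ⊕ Fin 2) F, x ∈ Cfsg.Geo.omegaGL (Cfsg.quadFormMinus (d - 1) F a b) →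
      (∃ z : F, ((x ^ p : GL ((Fin (d - 1) ⊕ Fin (d - 1)) ⊕ Fin 2) F) : Matrix ((Fin (d - 1) ⊕ Fin (d - 1)) ⊕ Fin 2) ((Fin (d - 1) ⊕ Fin (d - 1)) ⊕ Fin 2) F) = z • (1 : Matrix ((Fin (d - 1) ⊕ Fin (d - 1)) ⊕ Fin 2) ((Fin (d - 1) ⊕ Fin (d - 1)) ⊕ Fin 2) F)) →
      (∀ z : F, (x : Matrix ((Fin (d - 1) ⊕ Fin (d - 1)) ⊕ Fin 2) ((Fin (d - 1) ⊕ Fin (d - 1)) ⊕ Fin 2) F) ≠ z • (1 : Matrix ((Fin (d - 1) ⊕ Fin (d - 1)) ⊕ Fin 2) ((Fin (d - 1) ⊕ Fin (d - 1)) ⊕ Fin 2) F)) →
      ∃ W : Submodule F ((Fin (d - 1) ⊕ Fin (d - 1)) ⊕ Fin 2 → F), (Module.finrank F ↥W = m ∧ Cfsg.Geo.IsNondegenerateOn (QuadraticMap.polar (Cfsg.quadFormMinus (d - 1) F a b)) W ∧ ¬ Cfsg.Geo.IsPlusTypeOn (Cfsg.quadFormMinus (d - 1) F a b) W) ∧ W.map (Matrix.toLin' (x : Matrix ((Fin (d - 1) ⊕ Fin (d - 1)) ⊕ Fin 2) ((Fin (d - 1) ⊕ Fin (d - 1)) ⊕ Fin 2) F)) ≤ W) →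
    ((2 * d) % 4 = m % 4 ∧ (∀ μ : Multiset ℕ, (∀ e ∈ μ, 0 < e ∧ e ≤ p) → (∀ e : ℕ, Even e → Even (μ.count e)) → μ.sum = 2 * d →
        ∃ ν : Multiset ℕ, ν ≤ μ ∧ ν.sum = m ∧ ∀ e : ℕ, Even e → Even (ν.count e))) := by
  obtain ⟨f, hpp, hFp⟩ := FiniteField.card F p
  have hp : Odd p := by
    rw [← hq, hFp, Nat.odd_pow_iff f.pos.ne'] at hqodd
    exact hqodd
  have hp3 : 3 ≤ p := by
    have := hpp.two_le
    obtain ⟨l, hl⟩ := hp
    omega
  have h2 : (2 : F) ≠ 0 := fun h => by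
    have hdvd : p ∣ 2 := (CharP.cast_eq_zero_iff F p 2).1 (by exact_mod_cast h)
    have := Nat.le_of_dvd (by norm_num) hdvd
    omega
  intro hfix
  have hpow : ∀ {ι : Type} [Fintype ι] [DecidableEq ι] (A : GL ι F), orderOf A = p →
      ∃ z : F, ((A ^ p : GL ι F) : Matrix ι ι F) = z • (1 : Matrix ι ι F) := fun A h => ⟨1, by
    rw [← h, pow_orderOf_eq_one, Units.val_one, one_smul]⟩
  have hQ := Classical.nondegenerate_qfMinus (d - 1) (a := a) (b := b) hab
  have hcard : Fintype.card ((Fin (d - 1) ⊕ Fin (d - 1)) ⊕ Fin 2) = 2 * d := by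
    simp only [Fintype.card_sum, Fintype.card_fin]; omega
  have key := OrthJordanTypes.partitions_of_fixes p h2 (Classical.qfMinus (d - 1) F a b) hQ (m := m)
    (fun W => Module.finrank F ↥W = m ∧ Geo.IsNondegenerateOn (QuadraticMap.polar (quadFormMinus (d - 1) F a b)) W ∧
      ¬ Geo.IsPlusTypeOn (quadFormMinus (d - 1) F a b) W)
    (fun W hW => ⟨hW.1, by rw [Classical.coe_qfMinus]; exact hW.2.1⟩)
    (fun A hA ho hs => hfix A (by rwa [Classical.coe_qfMinus] at hA) (hpow A ho) hs)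
  rw [hcard] at key
  refine ⟨?_, fun μ h1 h3 hs => OrthJordanTypes.all_partitions hp hme (by omega) (fun μ hμ hs' ho hn => ?_) μ h1 h3 hs⟩
  swap
  · obtain ⟨ν, hν, hνs, hνe, -⟩ := key μ hμ hs' ho hn
    exact ⟨ν, hν, hνs, hνe⟩
  have main : ∀ (k : ℕ) (R : Multiset ℕ), Even k → 2 ∉ R → (∀ e ∈ R, Odd e ∧ e ≤ p) → (∃ e ∈ R, Odd e) →
      2 * k + R.sum = 2 * d → 0 < k →
      ∃ (R' : Multiset ℕ) (j : ℕ), R' ≤ R ∧ Even j ∧ 2 * j + R'.sum = m ∧ R' ≠ 0 := by
    intro k R hk hR2 hRo ho hs hk0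
    obtain ⟨ν, hν, hνs, hνe, W, hW, hplus⟩ := key (Multiset.replicate k 2 + R)
      ⟨fun e he => by
        rcases Multiset.mem_add.1 he with he | he
        · rw [Multiset.eq_of_mem_replicate he]; omega
        · exact ⟨(hRo e he).1.pos, (hRo e he).2⟩,
       fun e he => by
        rw [Multiset.count_add, Multiset.count_replicate,
          Multiset.count_eq_zero.2 (fun h => Nat.not_odd_iff_even.2 he (hRo e h).1), add_zero]
        split_ifs
        · exact hk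
        · exact Even.zero⟩
      (by rw [Multiset.sum_add, Multiset.sum_replicate, smul_eq_mul]; omega)
      (by obtain ⟨e, he, heo⟩ := ho; exact ⟨e, Multiset.mem_add.2 (Or.inr he), heo⟩)
      ⟨2, Multiset.mem_add.2 (Or.inl (Multiset.mem_replicate.2 ⟨hk0.ne', rfl⟩)), by omega⟩
    obtain ⟨R', hR', hνR⟩ := OrthJordanTypes.sub_twos hν hR2
    refine ⟨R', ν.count 2, hR', hνe 2 even_two, ?_, fun h => ?_⟩
    · rw [← hνs]
      conv_rhs => rw [hνR]
      rw [Multiset.sum_add, Multiset.sum_replicate, smul_eq_mul, mul_comm]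
    · refine hW.2.2 ?_
      rw [← Classical.coe_qfMinus]
      refine hplus fun e he => ?_
      rw [hνR, h, add_zero] at he
      rw [Multiset.eq_of_mem_replicate he]; exact even_two
  rcases Nat.even_or_odd d with hd2 | hd2
  · obtain ⟨k, rfl⟩ := hd2
    obtain ⟨R', j, hR', ⟨i, hi⟩, hsum, -⟩ := main (2 * k - 2) ({3, 1} : Multiset ℕ) ⟨k - 1, by omega⟩ (by simp)
      (by intro e he; simp at he; rcases he with rfl | rfl <;> exact ⟨by decide, by omega⟩)
      ⟨1, by simp, odd_one⟩ (by simp; omega) (by omega)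
    have hR'm : R' ∈ ({3, 1} : Multiset ℕ).powerset := Multiset.mem_powerset.2 hR'
    simp [Multiset.powerset_cons, Multiset.insert_eq_cons] at hR'm
    obtain ⟨r, hr⟩ := hme
    casesm* _ ∨ _ <;> (subst R'; simp at hsum; omega)
  · obtain ⟨k, rfl⟩ := hd2
    obtain ⟨R', j, hR', ⟨i, hi⟩, hsum, hne⟩ := main (2 * k) ({1, 1} : Multiset ℕ) ⟨k, by omega⟩ (by simp)
      (by intro e he; simp at he; subst he; exact ⟨odd_one, by omega⟩)
      ⟨1, by simp, odd_one⟩ (by simp; omega) (by omega)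
    have hR'm : R' ∈ ({1, 1} : Multiset ℕ).powerset := Multiset.mem_powerset.2 hR'
    simp [Multiset.powerset_cons, Multiset.insert_eq_cons, hne] at hR'm
    obtain ⟨r, hr⟩ := hme
    casesm* _ ∨ _ <;> (subst R'; simp at hsum; omega)

end Cfsg.Agent.S5994
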