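import Cfsg.Statements.S5995
import Cfsg.Agent.Lib.Classical.OrthJordanTypes
import Cfsg.Agent.Lib.Classical.OrthCount
-- import your own Cfsg.Agent.* helpers here

set_option autoImplicit false
open scoped MatrixGroups
open Cfsg Cfsg.Agent

namespace Cfsg.Agent.S5995

/-- A necessary condition for every element of order p of Ω_n(q), nq odd, to fix a hyperbolic `m`-space. Here `T = Ω_n(F)`, `n = 2d+1 ≥ 7`, `q` odd, realised as the commutator subgroup of the isometry group of `Q = x₀² + Σ xᵢyᵢ` over the field `F` with `q` elements (trivial centre, so its elements of prime order `r` are used directly); a nondegenerate `m`-space (even `m`) is a subspace on which the polar form of `Q` is nondegenerate; it is hyperbolic if it contains an `m/2`-dimensional subspace on which `Q` vanishes, elliptic otherwise. Let `m` be even with `2 ≤ m ≤ n − 1` and suppose `p` divides the number of hyperbolic `m`-spaces. If every element of `T` of order `p` fixes some hyperbolic `m`-space,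 then `m ≡ 0 (mod 4)` and every partition of `n` into parts of size at most `p` in which every even part has even multiplicity contains (as a sub-multiset) a partition of `m` in which every even part has even multiplicity. -/
theorem result {F : Type*} [Field F] [Fintype F] {p : ℕ} [Fact p.Prime] [CharP F p] {q : ℕ} (hq : Fintype.card F = q) (hqodd : Odd q)
    (d m : ℕ) (hd : 3 ≤ d) (hm : 2 ≤ m) (hme : Even m) (hmn : m ≤ 2 * d)
    (hpΩ : p ∣ Nat.card {W : Submodule F (Unit ⊕ (Fin d ⊕ Fin d) → F) // Module.finrank F ↥W = m ∧ Cfsg.Geo.IsNondegenerateOn (QuadraticMap.polar (Cfsg.quadFormOdd d F)) W ∧ Cfsg.Geo.IsPlusTypeOn (Cfsg.quadFormOdd d F) W}) :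
    (∀ x : GL (Unit ⊕ (Fin d ⊕ Fin d)) F, x ∈ Cfsg.Geo.omegaGL (Cfsg.quadFormOdd d F) → orderOf x = p →
      ∃ W : Submodule F (Unit ⊕ (Fin d ⊕ Fin d) → F), (Module.finrank F ↥W = m ∧ Cfsg.Geo.IsNondegenerateOn (QuadraticMap.polar (Cfsg.quadFormOdd d F)) W ∧ Cfsg.Geo.IsPlusTypeOn (Cfsg.quadFormOdd d F) W) ∧ W.map (Matrix.toLin' (x : Matrix (Unit ⊕ (Fin d ⊕ Fin d)) (Unit ⊕ (Fin d ⊕ Fin d)) F)) ≤ W) →
    (m % 4 = 0 ∧ (∀ μ : Multiset ℕ, (∀ e ∈ μ, 0 < e ∧ e ≤ p) → (∀ e : ℕ, Even e → Even (μ.count e)) → μ.sum = 2 * d + 1 →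
        ∃ ν : Multiset ℕ, ν ≤ μ ∧ ν.sum = m ∧ ∀ e : ℕ, Even e → Even (ν.count e))) := by
  obtain ⟨f, hpp, hFp⟩ := FiniteField.card F p
  have hp : Odd p := by
    rw [← hq, hFp, Nat.odd_pow_iff f.pos.ne'] at hqodd
    exact hqodd
  have hp3 : 3 ≤ p := by
    have := hpp.two_le
    obtain ⟨l, hl⟩ := hp
    omega
  have h2 : (2 : F) ≠ 0 := fun h => by
    have hdvd : p ∣ 2 := (CharP.cast_eq_zero_iff F p 2).1 (by exact_mod_cast h)
    have := Nat.le_of_dvd (by norm_num) hdvd
    omega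
  intro hfix
  have hpow : ∀ {ι : Type} [Fintype ι] [DecidableEq ι] (A : GL ι F), orderOf A = p →
      ∃ z : F, ((A ^ p : GL ι F) : Matrix ι ι F) = z • (1 : Matrix ι ι F) := fun A h => ⟨1, by
    rw [← h, pow_orderOf_eq_one, Units.val_one, one_smul]⟩
  have hQ := Classical.nondegenerate_qfOdd (F := F) d h2
  have hcard : Fintype.card (Unit ⊕ (Fin d ⊕ Fin d)) = 2 * d + 1 := by
    simp only [Fintype.card_sum, Fintype.card_fin, Fintype.card_unit]; omega
  have key := OrthJordanTypes.partitions_of_fixes p h2 (Classical.qfOdd d F) hQ (m := m)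
    (fun W => Module.finrank F ↥W = m ∧ Geo.IsNondegenerateOn (QuadraticMap.polar (quadFormOdd d F)) W ∧
      Geo.IsPlusTypeOn (quadFormOdd d F) W)
    (fun W hW => ⟨hW.1, by rw [Classical.coe_qfOdd]; exact hW.2.1⟩)
    (fun A hA ho _ => hfix A (by rwa [Classical.coe_qfOdd] at hA) ho)
  rw [hcard] at key
  refine ⟨?_, fun μ h1 h3 hs => OrthJordanTypes.all_partitions hp hme (by omega) (fun μ hμ hs' ho hn => ?_) μ h1 h3 hs⟩
  swap
  · obtain ⟨ν, hν, hνs, hνe, -⟩ := key μ hμ hs' ho hn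
    exact ⟨ν, hν, hνs, hνe⟩
  obtain ⟨k, a, hk, hk0, hao, ha3, hka⟩ : ∃ k a : ℕ, Even k ∧ 0 < k ∧ Odd a ∧ a ≤ 3 ∧ 2 * k + a = 2 * d + 1 := by
    rcases Nat.even_or_odd d with ⟨l, hl⟩ | ⟨l, hl⟩
    · exact ⟨d, 1, ⟨l, hl⟩, by omega, odd_one, by omega, by omega⟩
    · exact ⟨d - 1, 3, ⟨l, by omega⟩, by omega, by decide, le_rfl, by omega⟩
  have ha2 : a ≠ 2 := fun h => by rw [h] at hao; exact absurd hao (by decide)
  obtain ⟨ν, hν, hνs, hνe, -⟩ := key (Multiset.replicate k 2 + {a})
    ⟨fun e he => by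
      rcases Multiset.mem_add.1 he with he | he
      · rw [Multiset.eq_of_mem_replicate he]; omega
      · rw [Multiset.mem_singleton.1 he]; exact ⟨hao.pos, by omega⟩,
     fun e he => by
      rw [Multiset.count_add, Multiset.count_replicate, Multiset.count_eq_zero.2
        (fun h => Nat.not_odd_iff_even.2 he (by rw [Multiset.mem_singleton.1 h]; exact hao)), add_zero]
      split_ifs
      · exact hk
      · exact Even.zero⟩
    (by rw [Multiset.sum_add, Multiset.sum_replicate, smul_eq_mul, Multiset.sum_singleton]; omega)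
    ⟨a, by simp, hao⟩ ⟨2, Multiset.mem_add.2 (Or.inl (Multiset.mem_replicate.2 ⟨hk0.ne', rfl⟩)), by omega⟩
  obtain ⟨R', hR', hνR⟩ := OrthJordanTypes.sub_twos hν (by simpa using ha2.symm)
  obtain ⟨i, hi⟩ := hνe 2 even_two
  have hsum : m = 2 * ν.count 2 + R'.sum := by
    rw [← hνs]
    conv_lhs => rw [hνR]
    rw [Multiset.sum_add, Multiset.sum_replicate, smul_eq_mul, mul_comm]
  obtain ⟨r, hr⟩ := hme
  obtain ⟨l, hl⟩ := hao
  rcases Multiset.le_singleton.1 hR' with rfl | rfl <;> simp at hsum <;> omega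

end Cfsg.Agent.S5995
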