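import Cfsg.Statements.S5996
import Cfsg.Agent.Lib.Classical.OrthJordanTypes
-- import your own Cfsg.Agent.* helpers here

set_option autoImplicit false
open scoped MatrixGroups
open Cfsg Cfsg.Agent

namespace Cfsg.Agent.S5996

/-- A necessary condition for every element of order p of PΩ⁺_n(q), q odd, to fix a hyperbolic `m`-space. Here `T = PΩ⁺_n(F)`, `n = 2d ≥ 8`, realised through `Ω⁺_n(q)`, the commutator subgroup of the isometry group of `Q = Σ xᵢyᵢ` over the field `F` with `q` elements; an element of `T` of prime order `r` is an element `x` of `Ω⁺_n(q)` with `x^r` scalar and `x` not scalar; `q` is odd; a nondegenerate `m`-space (even `m`) is a subspace on which the polar form of `Q` is nondegenerate; it is hyperbolic if it contains an `m/2`-dimensional subspace on which `Q` vanishes, elliptic otherwise. Let `m` be even with `2 ≤ m < n/2` and suppose `p` divides the number of hyperbolic `m`-spaces. If every element of `T` of order `p` fixes some hyperbolic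 `m`-space, then every partition of `n` into parts of size at most `p` in which every even part has even multiplicity contains (as a sub-multiset) a partition of `m` in which every even part has even multiplicity. -/
theorem result {F : Type*} [Field F] [Fintype F] {p : ℕ} [Fact p.Prime] [CharP F p] {q : ℕ} (hq : Fintype.card F = q) (hqodd : Odd q)
    (d m : ℕ) (hd : 4 ≤ d) (hm : 2 ≤ m) (hme : Even m) (hmd : m < d)
    (hpΩ : p ∣ Nat.card {W : Submodule F (Fin d ⊕ Fin d → F) // Module.finrank F ↥W = m ∧ Cfsg.Geo.IsNondegenerateOn (QuadraticMap.polar (Cfsg.quadFormPlus d F)) W ∧ Cfsg.Geo.IsPlusTypeOn (Cfsg.quadFormPlus d F) W}) :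
    (∀ x : GL (Fin d ⊕ Fin d) F, x ∈ Cfsg.Geo.omegaGL (Cfsg.quadFormPlus d F) →
      (∃ z : F, ((x ^ p : GL (Fin d ⊕ Fin d) F) : Matrix (Fin d ⊕ Fin d) (Fin d ⊕ Fin d) F) = z • (1 : Matrix (Fin d ⊕ Fin d) (Fin d ⊕ Fin d) F)) →
      (∀ z : F, (x : Matrix (Fin d ⊕ Fin d) (Fin d ⊕ Fin d) F) ≠ z • (1 : Matrix (Fin d ⊕ Fin d) (Fin d ⊕ Fin d) F)) →
      ∃ W : Submodule F (Fin d ⊕ Fin d → F), (Module.finrank F ↥W = m ∧ Cfsg.Geo.IsNondegenerateOn (QuadraticMap.polar (Cfsg.quadFormPlus d F)) W ∧ Cfsg.Geo.IsPlusTypeOn (Cfsg.quadFormPlus d F) W) ∧ W.map (Matrix.toLin' (x : Matrix (Fin d ⊕ Fin d) (Fin d ⊕ Fin d) F)) ≤ W) →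
    (∀ μ : Multiset ℕ, (∀ e ∈ μ, 0 < e ∧ e ≤ p) → (∀ e : ℕ, Even e → Even (μ.count e)) → μ.sum = 2 * d →
        ∃ ν : Multiset ℕ, ν ≤ μ ∧ ν.sum = m ∧ ∀ e : ℕ, Even e → Even (ν.count e)) := by
  obtain ⟨f, hpp, hFp⟩ := FiniteField.card F p
  have hp : Odd p := by
    rw [← hq, hFp, Nat.odd_pow_iff f.pos.ne'] at hqodd
    exact hqodd
  have hp3 : 3 ≤ p := by
    have := hpp.two_le
    obtain ⟨l, hl⟩ := hp
    omega
  have h2 : (2 : F) ≠ 0 := fun h => by
    have hdvd : p ∣ 2 := (CharP.cast_eq_zero_iff F p 2).1 (by exact_mod_cast h)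
    have := Nat.le_of_dvd (by norm_num) hdvd
    omega
  intro hfix
  have hpow : ∀ {ι : Type} [Fintype ι] [DecidableEq ι] (A : GL ι F), orderOf A = p →
      ∃ z : F, ((A ^ p : GL ι F) : Matrix ι ι F) = z • (1 : Matrix ι ι F) := fun A h => ⟨1, by
    rw [← h, pow_orderOf_eq_one, Units.val_one, one_smul]⟩
  have hQ := Classical.nondegenerate_qfPlus (F := F) d
  have hcard : Fintype.card (Fin d ⊕ Fin d) = 2 * d := by
    simp only [Fintype.card_sum, Fintype.card_fin]; omega
  have key := OrthJordanTypes.partitions_of_fixes p h2 (Classical.qfPlus d F) hQ (m := m)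
    (fun W => Module.finrank F ↥W = m ∧ Geo.IsNondegenerateOn (QuadraticMap.polar (quadFormPlus d F)) W ∧
      Geo.IsPlusTypeOn (quadFormPlus d F) W)
    (fun W hW => ⟨hW.1, by rw [Classical.coe_qfPlus]; exact hW.2.1⟩)
    (fun A hA ho hs => hfix A (by rwa [Classical.coe_qfPlus] at hA) (hpow A ho) hs)
  rw [hcard] at key
  refine fun μ h1 h3 hs => OrthJordanTypes.all_partitions hp hme (by omega) (fun μ hμ hs' ho hn => ?_) μ h1 h3 hs
  obtain ⟨ν, hν, hνs, hνe, -⟩ := key μ hμ hs' ho hn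
  exact ⟨ν, hν, hνs, hνe⟩

end Cfsg.Agent.S5996
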