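import Cfsg.Statements.S5997
import Cfsg.Agent.Lib.Classical.DicksonQuaternion
-- import your own Cfsg.Agent.* helpers here

set_option autoImplicit false
open scoped MatrixGroups
open Cfsg

namespace Cfsg.Agent.S5997
open Cfsg.Agent.Dickson Cfsg.Agent.PSL2Spec Cfsg.Agent.Grp.SL2

/-- Elements of prime order of PSL_2(p) and the normalizer of a quaternion subgroup. Here `T = PSL_2(F)` for the field `F` with `p` elements, `p ≥ 5` prime; `R` is a subgroup of GL_2(F) isomorphic to the quaternion group of order 8 (an absolutely irreducible 2-group of symplectic type), and `H` is the subgroup of matrices of determinant 1 normalizing `R` — a subgroup of type 2^{1+2}.O₂⁻(2), isomorphic modulo scalars to A₄ or S₄ (maximality is not assumed). Ω is the set of cosets of `H` in `T`, so an element of `T` of prime order `r` (a matrix `x` of determinant 1 with `x^r` scalar, `x` not scalar) fixes a point of Ω exactly when some conjugate of `x` by a matrix of determinant 1 normalizes `R`. Let `r` be a prime dividing the index of `H`. Then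 every element of `T` of order `r` fixes a point of Ω if and only if `r = 2` or `r = 3`. -/
theorem result {F : Type*} [Field F] [Fintype F] {p : ℕ} [Fact p.Prime] [CharP F p] (hF : Fintype.card F = p) (hp : 5 ≤ p)
    (R : Subgroup (GL (Fin 2) F)) (hR : Nonempty (↥R ≃* QuaternionGroup 2))
    (r : ℕ) [Fact r.Prime]
    (hΩ : r ∣ (Cfsg.Geo.subgroupNormalizer R).relIndex (Cfsg.Geo.specialLinear (Fin 2) F)) :
    (∀ x ∈ Cfsg.Geo.specialLinear (Fin 2) F, (∃ z : F, ((x ^ r : GL (Fin 2) F) : Matrix (Fin 2) (Fin 2) F) = z • (1 : Matrix (Fin 2) (Fin 2) F)) →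
      (∀ z : F, (x : Matrix (Fin 2) (Fin 2) F) ≠ z • (1 : Matrix (Fin 2) (Fin 2) F)) →
      ∃ g ∈ Cfsg.Geo.specialLinear (Fin 2) F, g⁻¹ * x * g ∈ Cfsg.Geo.subgroupNormalizer R) ↔ (r = 2 ∨ r = 3) := by
  classical
  have hodd : Odd (Fintype.card F) := odd_of_p p (by omega)
  have h2 := two_ne_zero_of_odd_card hodd
  obtain ⟨e⟩ := hR
  obtain ⟨x₀, y₀, hq, hReq⟩ := quaternion_eq h2 R e
  set G := Matrix.ProjectiveSpecialLinearGroup (Fin 2) F
  set N := Subgroup.normalizer (hq.klein : Set G) with hNdef
  -- membership in the normaliser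
  have hmem : ∀ s : Matrix.SpecialLinearGroup (Fin 2) F,
      Matrix.SpecialLinearGroup.toGL s ∈ Geo.subgroupNormalizer R ↔ proj s ∈ N := by
    intro s
    have hinj := Matrix.SpecialLinearGroup.toGL_injective (n := Fin 2) (R := F)
    have hk : ∀ w, Matrix.SpecialLinearGroup.toGL w ∈ R ↔ proj w ∈ hq.klein := by
      intro w
      rw [hReq, Subgroup.mem_map_iff_mem hinj, Subgroup.mem_comap]
    constructor
    · intro hs
      refine mem_normalizer_of_forall fun u hu => ?_
      obtain ⟨w, rfl⟩ := proj_surjective u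
      have h1 := (Subgroup.mem_normalizer_iff.mp hs _).mp ((hk w).mpr hu)
      rw [← map_inv, ← map_mul, ← map_mul, hk] at h1
      simpa using h1
    · intro hs
      refine mem_normalizer_of_forall fun u hu => ?_
      obtain ⟨w, hw, rfl⟩ := hReq ▸ hu
      rw [← map_inv, ← map_mul, ← map_mul, hk, map_mul, map_mul, map_inv]
      exact (Subgroup.mem_normalizer_iff.mp hs _).mp hw
  have hrange : Geo.specialLinear (Fin 2) F = (Matrix.SpecialLinearGroup.toGL (n := Fin 2) (R := F)).range :=
    Classical.GL_ker_det_eq_range_toGL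
  have hidx : (Geo.subgroupNormalizer R).relIndex (Geo.specialLinear (Fin 2) F) = N.index := by
    rw [hrange, ← Subgroup.index_comap,
      show (Geo.subgroupNormalizer R).comap Matrix.SpecialLinearGroup.toGL = N.comap proj from
        Subgroup.ext fun s => hmem s,
      Subgroup.index_comap_of_surjective _ proj_surjective]
  rw [hidx] at hΩ
  have hrp : r.Prime := Fact.out
  have hsub : ∀ x ∈ Geo.specialLinear (Fin 2) F, ∃ s : Matrix.SpecialLinearGroup (Fin 2) F,
      Matrix.SpecialLinearGroup.toGL s = x := fun x hx => by rw [hrange] at hx; exact hx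
  have hscal : ∀ s : Matrix.SpecialLinearGroup (Fin 2) F,
      IsScalar s ↔ ∃ z : F, (s : Matrix (Fin 2) (Fin 2) F) = z • 1 := by
    intro s
    constructor
    · rintro (h | h)
      · exact ⟨1, by rw [h, one_smul]; rfl⟩
      · exact ⟨-1, by rw [h, Matrix.SpecialLinearGroup.coe_neg, neg_smul, one_smul]; rfl⟩
    · rintro ⟨z, hz⟩
      have hd := s.2
      rw [hz, Matrix.det_smul, Matrix.det_one, mul_one, Fintype.card_fin, pow_two] at hd
      rcases mul_self_eq_one_iff.mp hd with h | h
      · exact Or.inl (Subtype.ext (by rw [hz, h, one_smul]; rfl))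
      · exact Or.inr (Subtype.ext (by rw [hz, h, Matrix.SpecialLinearGroup.coe_neg, neg_smul, one_smul]; rfl))
  obtain ⟨t, A, ht3, htA, -, hAN, hA12, -, -⟩ := exists_alt4 hodd hq
  have htN : t ∈ N := hAN htA
  constructor
  · intro h
    by_contra hr
    push Not at hr
    have hdvd : r ∣ Nat.card G := hΩ.trans (Subgroup.index_dvd_card N)
    obtain ⟨g, hg⟩ := exists_prime_orderOf_dvd_card' r hdvd
    obtain ⟨s, rfl⟩ := proj_surjective g
    have hns : ¬ IsScalar s := fun h' => by
      rw [proj_one_iff.mpr h', orderOf_one] at hg; exact hrp.ne_one hg.symm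
    obtain ⟨c, hc, hcN⟩ := h (Matrix.SpecialLinearGroup.toGL s) (by rw [hrange]; exact ⟨s, rfl⟩)
      (by
        have hsc : IsScalar (s ^ r) := proj_one_iff.mp (by rw [map_pow, ← hg, pow_orderOf_eq_one])
        obtain ⟨z, hz⟩ := (hscal _).mp hsc
        exact ⟨z, by rw [← map_pow]; exact hz⟩)
      (fun z hz => hns ((hscal s).mpr ⟨z, hz⟩))
    obtain ⟨c', rfl⟩ := hsub c hc
    rw [← map_inv, ← map_mul, ← map_mul, hmem] at hcN
    have hd := Subgroup.orderOf_dvd_natCard N hcN
    have ho : orderOf (proj (c'⁻¹ * s * c') : G) = r := by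
      rw [← hg, map_mul, map_mul, map_inv]
      conv_lhs => rw [show (proj c' : G)⁻¹ * proj s * proj c' = MulAut.conj (proj c')⁻¹ (proj s) by simp]
      exact MulEquiv.orderOf_eq _ _
    rw [ho] at hd
    have h24 : r ∣ 24 := by
      rcases card_normalizer_dvd hodd hq with e' | e' <;> rw [e'] at hd
      · exact hd.trans (by norm_num)
      · exact hd
    rw [show (24 : ℕ) = 2 ^ 3 * 3 by norm_num] at h24
    rcases hrp.dvd_mul.mp h24 with e' | e'
    · exact hr.1 ((Nat.prime_dvd_prime_iff_eq hrp Nat.prime_two).mp (hrp.dvd_of_dvd_pow e'))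
    · exact hr.2 ((Nat.prime_dvd_prime_iff_eq hrp Nat.prime_three).mp e')
  · intro hr x hx hxr hxns
    obtain ⟨s, rfl⟩ := hsub x hx
    set g : G := proj s with hgdef
    have hg1 : g ≠ 1 := fun e' => by
      obtain ⟨z, hz⟩ := (hscal s).mp (proj_one_iff.mp e')
      exact hxns z hz
    have hgr : g ^ r = 1 := by
      obtain ⟨z, hz⟩ := hxr
      rw [hgdef, ← map_pow, proj_one_iff]
      rw [← map_pow] at hz
      exact (hscal _).mpr ⟨z, hz⟩
    have ho : orderOf g = r := orderOf_eq_prime hgr hg1
    suffices h : ∃ c : G, c⁻¹ * g * c ∈ N by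
      obtain ⟨c, hc⟩ := h
      obtain ⟨c', rfl⟩ := proj_surjective c
      refine ⟨Matrix.SpecialLinearGroup.toGL c', by rw [hrange]; exact ⟨c', rfl⟩, ?_⟩
      rw [← map_inv, ← map_mul, ← map_mul, hmem, map_mul, map_mul, map_inv]
      exact hc
    rcases hr with rfl | rfl
    · -- involutions: take a quaternion pair through the element
      have hk : (proj x₀ : G) ∈ N := Subgroup.le_normalizer (Or.inr (Or.inl rfl))
      have hA' : s * s = -1 := by
        have h1 : IsScalar (s * s) := proj_one_iff.mp (by rw [map_mul, ← pow_two]; exact hgr)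
        exact h1.resolve_left fun e' => hg1 (proj_one_iff.mpr (mul_self_eq_one h2 e'))
      have hsns : ¬ IsScalar s := fun e' => hg1 (proj_one_iff.mpr e')
      have hxns₀ : ¬ IsScalar x₀ := fun e' => Quat.proj_ne_one h2 hq.xx (proj_one_iff.mpr e')
      have hconj : ∀ w : Matrix.SpecialLinearGroup (Fin 2) F, w * w = -1 → ¬ IsScalar w →
          IsConj (Fus.PSLTwo.stdJ (F := F)) w := by
        intro w hw hws
        refine Fus.PSLTwo.isConj_stdJ (Nat.odd_iff.mp hodd) ?_
        have := (mul_self_eq_neg_one hws).mp hw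
        unfold tr at this
        linear_combination this
      obtain ⟨c, hc⟩ := isConj_iff.mp ((hconj x₀ hq.xx hxns₀).symm.trans (hconj s hA' hsns))
      refine ⟨proj c, ?_⟩
      rw [hgdef, ← hc, map_mul, map_mul, map_inv]
      simpa [mul_assoc] using hk
    · -- elements of order three: Sylow subgroups are cyclic
      haveI : Fact (Nat.Prime 3) := ⟨Nat.prime_three⟩
      have hp3 : ∀ u : G, orderOf u = 3 → u ≠ 1 ∧ u ^ p ≠ 1 ∧ u * u ≠ 1 := by
        intro u hu
        have hu1 : u ≠ 1 := fun e' => by rw [e', orderOf_one] at hu; omega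
        refine ⟨hu1, fun e' => ?_, fun e' => ?_⟩
        · have := orderOf_eq_prime e' hu1; omega
        · have := orderOf_eq_prime ((pow_two u).trans e') hu1; omega
      -- some conjugates lie in a common Sylow subgroup
      obtain ⟨P, hP⟩ := (IsPGroup.of_card (p := 3) (G := Subgroup.zpowers g) (n := 1)
        (by rw [Nat.card_zpowers, ho, pow_one])).exists_le_sylow
      obtain ⟨Q, hQ⟩ := (IsPGroup.of_card (p := 3) (G := Subgroup.zpowers t) (n := 1)
        (by rw [Nat.card_zpowers, ht3, pow_one])).exists_le_sylow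
      obtain ⟨c, hc⟩ := MulAction.exists_smul_eq G Q P
      set t' := c * t * c⁻¹
      have ht'P : t' ∈ (P : Subgroup G) := by
        rw [← hc]
        exact Subgroup.smul_mem_pointwise_smul t (MulAut.conj c) (Q : Subgroup G) (hQ (Subgroup.mem_zpowers t))
      have ht' : orderOf t' = 3 := (MulEquiv.orderOf_eq (MulAut.conj c) t).trans ht3
      haveI : Nontrivial (P : Subgroup G) :=
        ⟨⟨g, hP (Subgroup.mem_zpowers g)⟩, 1, fun e' => hg1 (congrArg Subtype.val e')⟩
      haveI := P.isPGroup'.center_nontrivial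
      obtain ⟨z, hzne⟩ := exists_ne (1 : Subgroup.center (P : Subgroup G))
      obtain ⟨k, hk⟩ := IsPGroup.iff_orderOf.mp P.isPGroup' (z : (P : Subgroup G))
      have hk0 : k ≠ 0 := fun e' => hzne (Subtype.ext (orderOf_eq_one_iff.mp (by rw [hk, e', pow_zero])))
      set z' : G := ((z : (P : Subgroup G)) : G) ^ 3 ^ (k - 1) with hz'
      have hz'o : orderOf z' = 3 := by
        rw [hz', orderOf_pow_of_dvd (by positivity) (by rw [Subgroup.orderOf_coe, hk]; exact pow_dvd_pow 3 (by omega)),
          Subgroup.orderOf_coe, hk, Nat.pow_div (by omega) (by norm_num),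
          show k - (k - 1) = 1 by omega, pow_one]
      have hcomm : ∀ u ∈ (P : Subgroup G), u ∈ Subgroup.centralizer ({z'} : Set G) := by
        intro u hu
        rw [Subgroup.mem_centralizer_singleton_iff]
        have := congrArg Subtype.val (Subgroup.mem_center_iff.mp z.2 ⟨u, hu⟩)
        exact (Commute.pow_right (this : Commute u ((z : (P : Subgroup G)) : G)) _).eq
      obtain ⟨hz1, hzp, hz2⟩ := hp3 z' hz'o
      rw [centralizer_eq_tor p hz1 (Or.inr hz2)] at hcomm
      haveI : IsCyclic (tor z') := (pslData (F := F) p).semi_cyclic hz1 hzp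
      have hsame : Subgroup.zpowers (⟨g, hcomm g (hP (Subgroup.mem_zpowers g))⟩ : tor z') =
          Subgroup.zpowers (⟨t', hcomm t' ht'P⟩ : tor z') :=
        (by
          have key : ∀ u : tor z', orderOf u = 3 → ((Subgroup.zpowers u : Subgroup (tor z')) : Set (tor z')) =
              {w | w ^ 3 = 1} := by
            intro u hu
            refine Set.eq_of_subset_of_ncard_le (fun w hw => ?_) ?_ (Set.toFinite _)
            · obtain ⟨n, rfl⟩ := Subgroup.mem_zpowers_iff.mp hw
              show (u ^ n) ^ 3 = 1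
              rw [← zpow_natCast, ← zpow_mul, mul_comm n, zpow_mul, zpow_natCast, ← hu, pow_orderOf_eq_one]
              exact _root_.one_zpow n
            · haveI : Fintype (tor z') := Fintype.ofFinite _
              rw [← Nat.card_coe_set_eq ((Subgroup.zpowers u : Subgroup (tor z')) : Set (tor z')),
                SetLike.coe_sort_coe, Nat.card_zpowers, hu, Set.ncard_eq_toFinset_card', Set.toFinset_setOf]
              exact IsCyclic.card_pow_eq_one_le (α := tor z') (n := 3) (by norm_num)
          exact SetLike.coe_injective ((key _ (by rw [← Subgroup.orderOf_coe]; exact ho)).trans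
            (key _ (by rw [← Subgroup.orderOf_coe]; exact ht')).symm))
      obtain ⟨i, hi⟩ := Subgroup.mem_zpowers_iff.mp (hsame ▸ Subgroup.mem_zpowers
        (⟨g, hcomm g (hP (Subgroup.mem_zpowers g))⟩ : tor z'))
      refine ⟨c, ?_⟩
      have hgi : g = t' ^ i := by simpa using (congrArg Subtype.val hi).symm
      rw [hgi, show c⁻¹ * t' ^ i * c = t ^ i by rw [conj_zpow]; group]
      exact Subgroup.zpow_mem _ htN i

end Cfsg.Agent.S5997
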