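import Cfsg.Statements.S5998
import Cfsg.Agent.Lib.Classical.HeisenbergThree
import Cfsg.Agent.Lib.Classical.SLGroup
import Cfsg.Agent.Lib.Classical.SLNormal
-- import your own Cfsg.Agent.* helpers here

set_option autoImplicit false
open scoped MatrixGroups
open Cfsg

namespace Cfsg.Agent.S5998
open Cfsg.Agent.Classical.HeisenbergThree Cfsg.Agent.Classical

theorem specialLinear_eq_range {F : Type*} [Field F] :
    Cfsg.Geo.specialLinear (Fin 3) F = (Matrix.SpecialLinearGroup.toGL (n := Fin 3) (R := F)).range :=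
  Classical.GL_ker_det_eq_range_toGL


/-- Elements of prime order of PSL_3(p), p ≡ 1 (mod 3), and the normalizer of an extraspecial subgroup of order 27. Here `T = PSL_3(F)` for the field `F` with `p` elements, `p` a prime with `p ≡ 1 (mod 3)`; `R` is a non-abelian subgroup of GL_3(F) of order 27 and exponent 3 (an extraspecial group 3^{1+2}, acting absolutely irreducibly), and `H` is the subgroup of matrices of determinant 1 normalizing `R` — a subgroup of type 3^{1+2}.Sp₂(3) (maximality is not assumed). Ω is the set of cosets of `H` in `T`, so an element of `T` of prime order `r` (a matrix `x` of determinant 1 with `x^r` scalar, `x` not scalar) fixes a point of Ω exactly when some conjugate of `x` by a matrix of determinant 1 normalizes `R`. Let `r` be a prime dividing the index of `H`. Then every element of `T` of order `r` fixes a point of Ω if and only if `r = 2`, or `r = 3` and `p ≡ 1 (mod 9)`. -/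
theorem result {F : Type*} [Field F] [Fintype F] {p : ℕ} [Fact p.Prime] [CharP F p] (hF : Fintype.card F = p) (hp3 : p % 3 = 1)
    (R : Subgroup (GL (Fin 3) F)) (hR : Nat.card R = 27) (hRe : Monoid.exponent R = 3) (hRna : ¬ IsMulCommutative R)
    (r : ℕ) [Fact r.Prime]
    (hΩ : r ∣ (Cfsg.Geo.subgroupNormalizer R).relIndex (Cfsg.Geo.specialLinear (Fin 3) F)) :
    (∀ x ∈ Cfsg.Geo.specialLinear (Fin 3) F, (∃ z : F, ((x ^ r : GL (Fin 3) F) : Matrix (Fin 3) (Fin 3) F) = z • (1 : Matrix (Fin 3) (Fin 3) F)) →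
      (∀ z : F, (x : Matrix (Fin 3) (Fin 3) F) ≠ z • (1 : Matrix (Fin 3) (Fin 3) F)) →
      ∃ g ∈ Cfsg.Geo.specialLinear (Fin 3) F, g⁻¹ * x * g ∈ Cfsg.Geo.subgroupNormalizer R) ↔ (r = 2 ∨ (r = 3 ∧ p % 9 = 1)) := by
  classical
  haveI : Fact (Nat.Prime 3) := ⟨Nat.prime_three⟩
  have hp : p.Prime := Fact.out
  have hcu : Nat.card Fˣ = p - 1 := by rw [Nat.card_units, Nat.card_eq_fintype_card, hF]
  have hne3 : p ≠ 3 := fun h => by rw [h] at hp3; norm_num at hp3
  have h3 : (3 : F) ≠ 0 := fun h => hne3 <| by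
    have := (CharP.cast_eq_zero_iff F p 3).1 (by simpa using h)
    exact (Nat.prime_dvd_prime_iff_eq hp Nat.prime_three).1 this
  have hex : ∃ w : Fˣ, w ^ 3 = 1 ∧ w ≠ 1 := by
    obtain ⟨w, hw⟩ := exists_prime_orderOf_dvd_card' (G := Fˣ) 3 (by rw [hcu]; omega)
    exact ⟨w, hw ▸ pow_orderOf_eq_one w, fun h => by rw [h, orderOf_one] at hw; norm_num at hw⟩
  obtain ⟨P, w, hw, hw1, hRP⟩ := exists_frame h3 hex R hR hRe hRna
  set SLs := Geo.specialLinear (Fin 3) F
  set N := Geo.subgroupNormalizer R with hN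
  have hcSL : Nat.card SLs = Nat.card (Matrix.SpecialLinearGroup (Fin 3) F) := by
    rw [show SLs = (Matrix.SpecialLinearGroup.toGL (n := Fin 3) (R := F)).range from
      _root_.Cfsg.Agent.S5998.specialLinear_eq_range]
    exact (Nat.card_congr (MonoidHom.ofInjective Matrix.SpecialLinearGroup.toGL_injective).toEquiv).symm
  have hcard : Nat.card SLs = (p ^ 3 - 1) * (p ^ 3 - p) * p ^ 2 := by
    have h := natCard_GL_eq_SL_mul (F := F) 3 (by norm_num)
    rw [Matrix.card_GL_field, hF, hcu, Fin.prod_univ_three] at h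
    simp only [Fin.val_zero, Fin.val_one, Fin.val_two, pow_zero, pow_one] at h
    rw [show p ^ 3 - p ^ 2 = (p - 1) * p ^ 2 by rw [Nat.sub_mul, one_mul, ← pow_succ']] at h
    rw [hcSL]
    refine Nat.eq_of_mul_eq_mul_left (show 0 < p - 1 by have := hp.two_le; omega) ?_
    rw [← h]; ring
  have hconj : ∀ {g : GL (Fin 3) F}, g ∈ Subgroup.normalizer (std w : Set (GL (Fin 3) F)) →
      P * g * P⁻¹ ∈ N := fun {g} hg => by
    rw [hN, Geo.subgroupNormalizer, Subgroup.mem_normalizer_iff]
    intro t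
    rw [Subgroup.mem_normalizer_iff] at hg
    rw [hRP]
    constructor
    · rintro ⟨s, hs, rfl⟩
      refine ⟨g * s * g⁻¹, (hg s).1 hs, ?_⟩
      simp only [MulEquiv.coe_toMonoidHom, MulAut.conj_apply]
      group
    · rintro ⟨s, hs, he⟩
      simp only [MulEquiv.coe_toMonoidHom, MulAut.conj_apply] at he
      refine ⟨g⁻¹ * s * g, (hg _).2 (by rw [show g * (g⁻¹ * s * g) * g⁻¹ = s by group]; exact hs), ?_⟩
      simp only [MulEquiv.coe_toMonoidHom, MulAut.conj_apply]
      calc P * (g⁻¹ * s * g) * P⁻¹ = (P * g * P⁻¹)⁻¹ * (P * s * P⁻¹) * (P * g * P⁻¹) := by group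
        _ = t := by rw [he]; group
  have hdet : ∀ {g : GL (Fin 3) F}, g ∈ SLs ↔ (g : Matrix (Fin 3) (Fin 3) F).det = 1 := fun {g} =>
    ⟨fun h => congrArg Units.val (MonoidHom.mem_ker.1 h), fun h => MonoidHom.mem_ker.2 (Units.ext h)⟩
  -- conjugacy inside the special linear group
  have hfin : ∀ {x y : GL (Fin 3) F}, y ∈ Subgroup.normalizer (std w : Set (GL (Fin 3) F)) → IsConj y x →
      (∀ δ : Fˣ, dia ![δ, 1, 1] * y = y * dia ![δ, 1, 1]) → ∃ g ∈ SLs, g⁻¹ * x * g ∈ N := by
    intro x y hy hxy hcom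
    obtain ⟨h, hh⟩ := isConj_iff.1 hxy
    set δ : Fˣ := Matrix.GeneralLinearGroup.det (h * P⁻¹)
    refine ⟨h * dia ![δ⁻¹, 1, 1] * P⁻¹, MonoidHom.mem_ker.2 ?_, ?_⟩
    · have hdd : Matrix.GeneralLinearGroup.det (dia ![δ⁻¹, 1, 1]) = δ⁻¹ := Units.ext (by
        simp [coe_dia, Fin.prod_univ_three])
      rw [map_mul, map_mul, hdd, mul_right_comm, ← map_mul]
      exact mul_inv_cancel δ
    · convert hconj hy using 1
      rw [← hh]
      calc (h * dia ![δ⁻¹, 1, 1] * P⁻¹)⁻¹ * (h * y * h⁻¹) * (h * dia ![δ⁻¹, 1, 1] * P⁻¹)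
          = P * ((dia ![δ⁻¹, 1, 1])⁻¹ * (y * dia ![δ⁻¹, 1, 1])) * P⁻¹ := by group
        _ = _ := by rw [← hcom]; group
  constructor
  · intro h
    by_contra hr
    push Not at hr
    have hrp : r.Prime := Fact.out
    have hdvd : r ∣ Nat.card SLs := hΩ.trans (Subgroup.index_dvd_card _)
    by_cases hr3 : r = 3
    · subst hr3
      have hRle : R ≤ N ⊓ SLs := by
        refine le_inf (fun g hg => Subgroup.le_normalizer hg) fun g hg => ?_
        rw [hRP] at hg
        obtain ⟨s, hs, rfl⟩ := hg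
        refine MonoidHom.mem_ker.2 ?_
        simp only [MulEquiv.coe_toMonoidHom, MulAut.conj_apply, map_mul, map_inv]
        rw [mul_right_comm, mul_inv_cancel, one_mul]
        refine (Subgroup.closure_le (MonoidHom.ker Matrix.GeneralLinearGroup.det)).2 ?_ hs
        rintro t (rfl | rfl) <;> refine MonoidHom.mem_ker.2 (Units.ext ?_)
        · simp [coe_dia, Fin.prod_univ_three, A, ← pow_succ', ← Units.val_pow_eq_pow_val, ← Units.val_mul, hw]
        · simp [coe_cyc, Matrix.det_fin_three]
      have h81 : 81 ∣ Nat.card SLs := by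
        have e1 := Subgroup.card_dvd_of_le hRle
        rw [hR] at e1
        have e2 : N.relIndex SLs * Nat.card ↥(N ⊓ SLs) = Nat.card SLs := by
          rw [← Subgroup.inf_relIndex_right, mul_comm, Subgroup.relIndex, ← Subgroup.card_mul_index ((N ⊓ SLs).subgroupOf SLs)]
          congr 1
          exact (Nat.card_congr (Subgroup.subgroupOfEquivOfLe inf_le_right).toEquiv).symm
        rw [← e2]
        exact Nat.mul_dvd_mul hΩ e1
      rw [hcard] at h81
      have hp9 : p % 9 = 4 ∨ p % 9 = 7 := by have := hr.2 rfl; omega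
      have key : ∀ x : ZMod 81, (x.val % 9 = 4 ∨ x.val % 9 = 7) → (x ^ 3 - 1) * (x ^ 3 - x) * x ^ 2 ≠ 0 := by decide
      refine key (p : ZMod 81) (by rw [ZMod.val_natCast]; omega) ?_
      have e := (ZMod.natCast_eq_zero_iff _ 81).2 h81
      rw [Nat.cast_mul, Nat.cast_mul, Nat.cast_sub (Nat.one_le_pow _ _ hp.pos),
        Nat.cast_sub (Nat.le_self_pow (by norm_num) _)] at e
      simpa using e
    · have hr5 : 5 ≤ r := by
        have := hrp.two_le
        rcases Nat.lt_or_ge r 5 with h | h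
        · interval_cases r <;> first | omega | norm_num at hrp
        · exact h
      obtain ⟨⟨x, hxS⟩, hx⟩ := exists_prime_orderOf_dvd_card' (G := SLs) r hdvd
      have hxr : x ^ r = 1 := by
        have := congrArg Subtype.val (pow_orderOf_eq_one (⟨x, hxS⟩ : SLs))
        rw [hx] at this
        exact this
      have hns : ¬ Sc x := fun ⟨z, hz⟩ => by
        have hz3 : z ^ 3 = 1 := by
          have := hdet.1 hxS
          rwa [hz, Matrix.det_smul, Matrix.det_one, mul_one, Fintype.card_fin] at this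
        have hx3 : (⟨x, hxS⟩ : SLs) ^ 3 = 1 := Subtype.ext (Units.ext (by
          simp [hz, smul_pow, hz3]))
        have := orderOf_dvd_of_pow_eq_one hx3
        rw [hx] at this
        have := Nat.le_of_dvd (by norm_num) this
        omega
      obtain ⟨g, -, hg⟩ := h x hxS ⟨1, by rw [hxr]; simp⟩ (fun z hz => hns ⟨z, hz⟩)
      have hs := sc_of_mem_normalizer hw hw1 hRP hR hg hr5 ⟨1, by
        rw [show g⁻¹ * x * g = g⁻¹ * x * g⁻¹⁻¹ by rw [inv_inv], conj_pow, hxr]; simp⟩
      obtain ⟨z, hz⟩ := hs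
      refine hns ⟨z, ?_⟩
      rw [show x = g * (g⁻¹ * x * g) * g⁻¹ by group, Units.val_mul, Units.val_mul, hz]
      simp
  · intro hr x hxS ⟨z, hz⟩ hxns
    have hxd := hdet.1 hxS
    rcases hr with rfl | ⟨rfl, hp9⟩
    · have hne2 : p ≠ 2 := fun h => by rw [h] at hp3; norm_num at hp3
      have h2 : (2 : F) ≠ 0 := fun h => hne2 <| by
        have := (CharP.cast_eq_zero_iff F p 2).1 (by simpa using h)
        exact (Nat.prime_dvd_prime_iff_eq hp Nat.prime_two).1 this
      have hzd : z ^ 3 = 1 := by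
        have := congrArg Matrix.det hz
        rw [Units.val_pow_eq_pow_val, Matrix.det_pow, hxd, one_pow, Matrix.det_smul, Matrix.det_one, mul_one, Fintype.card_fin] at this
        exact this.symm
      have hz0 : z ≠ 0 := fun h => by simp [h] at hzd
      set s : GL (Fin 3) F := dia fun _ => Units.mk0 z hz0 with hsdef
      have hs : (s : Matrix (Fin 3) (Fin 3) F) = z • 1 := by rw [hsdef, coe_dia, Matrix.smul_one_eq_diagonal]; rfl
      have hsc : ∀ g : GL (Fin 3) F, s * g = g * s := fun g => Units.ext (by simp [hs])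
      have hsN : s⁻¹ ∈ N := inv_mem (by
        have h := hconj (dia_mem_normalizer hw hw1 (e := fun _ => Units.mk0 z hz0) (z := Units.mk0 z hz0 ^ 3) fun _ => rfl)
        rwa [← hsdef, ← hsc, mul_inv_cancel_right] at h)
      have hxx : (s * x) * (s * x) = 1 := Units.ext (by
        rw [Units.val_mul, Units.val_mul, hs, Matrix.smul_mul, Matrix.one_mul, Matrix.mul_smul, Matrix.smul_mul, ← pow_two,
          ← Units.val_pow_eq_pow_val, hz, smul_smul, smul_smul, show z * z * z = z ^ 3 by ring,
          hzd, one_smul, Units.val_one])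
      obtain ⟨g, hg, hgN⟩ := hfin (negSwap_mem_normalizer hw) (isConj_negSwap h2 hxx
        (by rw [Units.val_mul, Matrix.det_mul, hxd, hs, Matrix.det_smul, Matrix.det_one, mul_one, mul_one, Fintype.card_fin, hzd])
        (fun ⟨t, ht⟩ => hxns (z⁻¹ * t) (by
          rw [Units.val_mul, hs, Matrix.smul_mul, Matrix.one_mul] at ht
          rw [mul_smul, ← ht, smul_smul, inv_mul_cancel₀ hz0, one_smul])))
        (fun δ => Units.ext (by
          ext i j
          fin_cases i <;> fin_cases j <;> simp [negSwap, coe_dia, Matrix.mul_apply, Fin.sum_univ_three]))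
      refine ⟨g, hg, ?_⟩
      have := mul_mem hsN hgN
      convert this using 1
      rw [show g⁻¹ * (s * x) * g = s * (g⁻¹ * x * g) by rw [← mul_assoc g⁻¹ s, ← hsc]; group, inv_mul_cancel_left]
    · have hzd : z ^ 3 = 1 := by
        have := congrArg Matrix.det hz
        rw [Units.val_pow_eq_pow_val, Matrix.det_pow, hxd, one_pow, Matrix.det_smul, Matrix.det_one, mul_one, Fintype.card_fin] at this
        exact this.symm
      have hz0 : z ≠ 0 := fun h => by simp [h] at hzd
      obtain ⟨l, hl⟩ : ∃ l : Fˣ, l ^ 3 = Units.mk0 z hz0 := by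
        obtain ⟨γ, hγ⟩ := IsCyclic.exists_generator (α := Fˣ)
        obtain ⟨k, hk⟩ := (mem_powers_iff_mem_zpowers.2 (hγ (Units.mk0 z hz0)))
        have ho : orderOf γ = p - 1 := by rw [← hcu]; exact orderOf_eq_card_of_forall_mem_zpowers hγ
        have h1 : (γ ^ k) ^ 3 = 1 := by
          rw [show γ ^ k = Units.mk0 z hz0 from hk]; exact Units.ext (by simpa using hzd)
        rw [← pow_mul, ← orderOf_dvd_iff_pow_eq_one, ho] at h1
        have h9 : 9 ∣ k * 3 := (show 9 ∣ p - 1 by omega).trans h1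
        exact ⟨γ ^ (k / 3), by rw [← pow_mul, Nat.div_mul_cancel (by omega)]; exact hk⟩
      set s : GL (Fin 3) F := dia fun _ => l⁻¹ with hsdef
      have hs : (s : Matrix (Fin 3) (Fin 3) F) = ((l⁻¹ : Fˣ) : F) • 1 := by
        rw [hsdef, coe_dia, Matrix.smul_one_eq_diagonal]
      have hsc : ∀ g : GL (Fin 3) F, s * g = g * s := fun g => Units.ext (by simp [hs])
      have hy : (s * x) ^ 3 = 1 := by
        rw [(show Commute s x from hsc x).mul_pow]
        refine Units.ext ?_
        rw [Units.val_mul, Units.val_pow_eq_pow_val, hs, smul_pow, one_pow, hz, Matrix.smul_mul, Matrix.one_mul,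
          smul_smul, ← Units.val_pow_eq_pow_val, inv_pow, hl, Units.val_inv_eq_inv_val, Units.val_mk0,
          inv_mul_cancel₀ hz0, one_smul, Units.val_one]
      obtain ⟨e, he, hex'⟩ := exists_diag_conj h3 hw hw1 hy
      have hcx : IsConj (dia ((fun _ => l) * e)) x := by
        obtain ⟨c, hc⟩ := isConj_iff.1 hex'
        refine isConj_iff.2 ⟨c, ?_⟩
        have hl' : dia (fun _ => l) = s⁻¹ := by
          rw [hsdef, ← map_inv, show (fun _ : Fin 3 => l⁻¹)⁻¹ = fun _ => l from funext fun _ => inv_inv l]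
        rw [map_mul, hl', ← mul_assoc c, ← (show Commute s⁻¹ c from (show Commute s c from hsc c).inv_left).eq, mul_assoc s⁻¹, mul_assoc s⁻¹, hc,
          inv_mul_cancel_left]
      exact hfin (dia_mem_normalizer hw hw1 (e := (fun _ => l) * e) (z := l ^ 3) fun i => by
        rw [Pi.mul_apply, mul_pow, he, mul_one]) hcx fun δ => by rw [← map_mul, ← map_mul, mul_comm]

end Cfsg.Agent.S5998
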