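import Cfsg.Statements.S5999
import Cfsg.Agent.Lib.Classical.HeisenbergThree
import Cfsg.Agent.Lib.Classical.UnitaryConjugacy
-- import your own Cfsg.Agent.* helpers here

set_option autoImplicit false
open scoped MatrixGroups
open Cfsg

namespace Cfsg.Agent.S5999
open Cfsg.Agent.Classical.HeisenbergThree Cfsg.Agent.Classical


/-- Elements of prime order of PSU_3(p), p ≡ 2 (mod 3), and the normalizer of an extraspecial subgroup of order 27. Here `T = PSU_3(p)` for a prime `p ≥ 5` with `p ≡ 2 (mod 3)`, realised through `SU_3(p)`, the matrices of determinant 1 over the field `F` with `p²` elements preserving the hermitian form `Σ uᵢvᵢ^p`; `R` is a non-abelian subgroup of order 27 and exponent 3 of the full unitary group of that form (an extraspecial group 3^{1+2}, acting absolutely irreducibly), and `H` is the subgroup of `SU_3(p)` normalizing `R` — a subgroup of type 3^{1+2}.Sp₂(3) (maximality is not assumed). Ω is the set of cosets of `H`,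 so an element of `T` of prime order `r` (`x ∈ SU_3(p)` with `x^r` scalar, `x` not scalar) fixes a point of Ω exactly when some `SU_3(p)`-conjugate of `x` normalizes `R`. Let `r` be a prime dividing the index of `H`. Then every element of `T` of order `r` fixes a point of Ω if and only if `r = 2`, or `r = 3` and `p ≡ 8 (mod 9)`. -/
theorem result {F : Type*} [Field F] [Fintype F] {p : ℕ} [Fact p.Prime] [CharP F p] (hF : Fintype.card F = p ^ 2) (hp : 5 ≤ p) (hp3 : p % 3 = 2)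
    (R : Subgroup (GL (Fin 3) F)) (hRU : R ≤ Cfsg.GU 3 F p) (hR : Nat.card R = 27) (hRe : Monoid.exponent R = 3) (hRna : ¬ IsMulCommutative R)
    (r : ℕ) [Fact r.Prime]
    (hΩ : r ∣ (Cfsg.Geo.subgroupNormalizer R).relIndex (Cfsg.GU 3 F p ⊓ Cfsg.Geo.specialLinear (Fin 3) F)) :
    (∀ x ∈ Cfsg.GU 3 F p ⊓ Cfsg.Geo.specialLinear (Fin 3) F, (∃ z : F, ((x ^ r : GL (Fin 3) F) : Matrix (Fin 3) (Fin 3) F) = z • (1 : Matrix (Fin 3) (Fin 3) F)) →
      (∀ z : F, (x : Matrix (Fin 3) (Fin 3) F) ≠ z • (1 : Matrix (Fin 3) (Fin 3) F)) →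
      ∃ g ∈ Cfsg.GU 3 F p ⊓ Cfsg.Geo.specialLinear (Fin 3) F, g⁻¹ * x * g ∈ Cfsg.Geo.subgroupNormalizer R) ↔ (r = 2 ∨ (r = 3 ∧ p % 9 = 8)) := by
  classical
  haveI : Fact (Nat.Prime 3) := ⟨Nat.prime_three⟩
  have hpp : p.Prime := Fact.out
  have hcu : Nat.card Fˣ = p ^ 2 - 1 := by rw [Nat.card_units, Nat.card_eq_fintype_card, hF]
  have h3 : (3 : F) ≠ 0 := fun h => (show p ≠ 3 by omega) <| by
    have := (CharP.cast_eq_zero_iff F p 3).1 (by simpa using h)
    exact (Nat.prime_dvd_prime_iff_eq hpp Nat.prime_three).1 this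
  have h31 : 3 ∣ p + 1 := by omega
  have hex : ∃ w : Fˣ, w ^ 3 = 1 ∧ w ≠ 1 := by
    obtain ⟨w, hw⟩ := exists_prime_orderOf_dvd_card' (G := Fˣ) 3 (by
      rw [hcu]; exact h31.trans ⟨p - 1, by rw [← Nat.sq_sub_sq, one_pow]⟩)
    exact ⟨w, hw ▸ pow_orderOf_eq_one w, fun h => by rw [h, orderOf_one] at hw; norm_num at hw⟩
  obtain ⟨P, w, hw, hw1, hRP⟩ := exists_frame h3 hex R hR hRe hRna
  have hwq : w ^ (p + 1) = 1 := by
    obtain ⟨k, hk⟩ := h31; rw [hk, pow_mul, hw, one_pow]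
  -- adjoints
  let S' := @UnitaryConjugacy.st F _ _ 3 p hF
  have hst : ∀ e : Fin 3 → Fˣ, (∀ i, e i ^ (p + 1) = 1) →
      S' ((dia e : GL (Fin 3) F) : Matrix (Fin 3) (Fin 3) F) * ((dia e : GL (Fin 3) F) : Matrix (Fin 3) (Fin 3) F) = 1 := by
    intro e he
    simp only [S', UnitaryConjugacy.st, coe_dia, Matrix.diagonal_map (map_zero _), Matrix.diagonal_transpose,
      Matrix.diagonal_mul_diagonal, qFrob_apply, Function.comp_apply]
    rw [← Matrix.diagonal_one]
    congr 1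
    funext i
    rw [← pow_succ, ← Units.val_pow_eq_pow_val, he, Units.val_one]
  have hodd : p % 2 = 1 := hpp.eq_two_or_odd.resolve_left (by omega)
  have hcyc : S' ((cyc : GL (Fin 3) F) : Matrix (Fin 3) (Fin 3) F) * ((cyc : GL (Fin 3) F) : Matrix (Fin 3) (Fin 3) F) = 1 := by
    ext i j
    fin_cases i <;> fin_cases j <;>
      simp [S', UnitaryConjugacy.st, coe_cyc, Matrix.mul_apply, Fin.sum_univ_three, qFrob_apply, hpp.ne_zero]
  have hneg : S' ((negSwap : GL (Fin 3) F) : Matrix (Fin 3) (Fin 3) F) * ((negSwap : GL (Fin 3) F) : Matrix (Fin 3) (Fin 3) F) = 1 := by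
    have hm : ((-1 : F)) ^ p = -1 := (Nat.odd_iff.2 hodd).neg_one_pow
    ext i j
    fin_cases i <;> fin_cases j <;>
      simp [S', negSwap, UnitaryConjugacy.st, Matrix.mul_apply, Fin.sum_univ_three, qFrob_apply, hpp.ne_zero, hm]
  set Pm := (P : Matrix (Fin 3) (Fin 3) F) with hPm
  have hgen : ∀ g ∈ std w, S' (g : Matrix (Fin 3) (Fin 3) F) * (S' Pm * Pm) * (g : Matrix (Fin 3) (Fin 3) F) = S' Pm * Pm := by
    intro g hg
    have hU := (UnitaryConjugacy.mem_GU_iff hF (P * g * P⁻¹)).1 (hRU (hRP ▸ ⟨g, hg, rfl⟩))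
    have hU' : S' ((P⁻¹ : GL (Fin 3) F) : Matrix (Fin 3) (Fin 3) F) * (S' (g : Matrix (Fin 3) (Fin 3) F) * S' Pm) *
        (Pm * (g : Matrix (Fin 3) (Fin 3) F) * ((P⁻¹ : GL (Fin 3) F) : Matrix (Fin 3) (Fin 3) F)) = 1 := by
      simpa only [Units.val_mul, S', UnitaryConjugacy.st_mul, hPm] using hU
    have hPP : ((P⁻¹ : GL (Fin 3) F) : Matrix (Fin 3) (Fin 3) F) * Pm = 1 := P.inv_mul
    have hPP' : S' Pm * S' ((P⁻¹ : GL (Fin 3) F) : Matrix (Fin 3) (Fin 3) F) = 1 :=
      (UnitaryConjugacy.st_mul hF _ _).symm.trans ((congrArg _ hPP).trans (UnitaryConjugacy.st_one hF))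
    calc S' (g : Matrix (Fin 3) (Fin 3) F) * (S' Pm * Pm) * (g : Matrix (Fin 3) (Fin 3) F)
        = (S' Pm * S' ((P⁻¹ : GL (Fin 3) F) : Matrix (Fin 3) (Fin 3) F)) *
            (S' (g : Matrix (Fin 3) (Fin 3) F) * S' Pm * (Pm * (g : Matrix (Fin 3) (Fin 3) F))) *
            (((P⁻¹ : GL (Fin 3) F) : Matrix (Fin 3) (Fin 3) F) * Pm) := by
          rw [hPP, hPP', one_mul, mul_one]; simp only [mul_assoc]
      _ = S' Pm * (S' ((P⁻¹ : GL (Fin 3) F) : Matrix (Fin 3) (Fin 3) F) * (S' (g : Matrix (Fin 3) (Fin 3) F) * S' Pm) *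
            (Pm * (g : Matrix (Fin 3) (Fin 3) F) * ((P⁻¹ : GL (Fin 3) F) : Matrix (Fin 3) (Fin 3) F))) * Pm := by
          simp only [mul_assoc]
      _ = S' Pm * Pm := by rw [hU', mul_one]
  obtain ⟨Su, hSu⟩ := (UnitaryConjugacy.st_unit hF P.isUnit).mul P.isUnit
  obtain ⟨s, hs⟩ : ∃ s : F, S' Pm * Pm = s • (1 : Matrix (Fin 3) (Fin 3) F) := by
    have key : ∀ g ∈ std w, S' (g : Matrix (Fin 3) (Fin 3) F) * (g : Matrix (Fin 3) (Fin 3) F) = 1 → Su * g = g * Su := by
      intro g hg h1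
      refine Units.ext ?_
      rw [Units.val_mul, Units.val_mul, show (Su : Matrix (Fin 3) (Fin 3) F) = S' Pm * Pm from hSu]
      conv_rhs => rw [← hgen g hg]
      rw [← mul_assoc (g : Matrix (Fin 3) (Fin 3) F), ← mul_assoc (g : Matrix (Fin 3) (Fin 3) F), mul_eq_one_comm.1 h1, one_mul]
    obtain ⟨s, hs⟩ := sc_of_commute (x := Su) hw hw1
      (key _ (dia_A_mem w) (hst _ fun i => by rw [A, ← pow_mul, mul_comm, pow_mul, hwq, one_pow]))
      (key _ (cyc_mem w) hcyc)
    exact ⟨s, by rw [← hs]; exact hSu.symm⟩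
  have hgu : ∀ {g : GL (Fin 3) F}, S' (g : Matrix (Fin 3) (Fin 3) F) * (g : Matrix (Fin 3) (Fin 3) F) = 1 →
      P * g * P⁻¹ ∈ GU 3 F p := by
    intro g hg
    rw [UnitaryConjugacy.mem_GU_iff hF]
    show S' _ * _ = 1
    simp only [Units.val_mul, S', UnitaryConjugacy.st_mul]
    calc S' ((P⁻¹ : GL (Fin 3) F) : Matrix (Fin 3) (Fin 3) F) * (S' (g : Matrix (Fin 3) (Fin 3) F) * S' Pm) *
          (Pm * (g : Matrix (Fin 3) (Fin 3) F) * ((P⁻¹ : GL (Fin 3) F) : Matrix (Fin 3) (Fin 3) F))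
        = S' ((P⁻¹ : GL (Fin 3) F) : Matrix (Fin 3) (Fin 3) F) * S' (g : Matrix (Fin 3) (Fin 3) F) * (S' Pm * Pm) *
          (g : Matrix (Fin 3) (Fin 3) F) * ((P⁻¹ : GL (Fin 3) F) : Matrix (Fin 3) (Fin 3) F) := by simp only [mul_assoc]
      _ = S' ((P⁻¹ : GL (Fin 3) F) : Matrix (Fin 3) (Fin 3) F) * (S' Pm * Pm) * ((P⁻¹ : GL (Fin 3) F) : Matrix (Fin 3) (Fin 3) F) := by
          rw [hs]
          simp only [Matrix.mul_smul, Matrix.smul_mul, mul_one, mul_assoc _ _ (g : Matrix (Fin 3) (Fin 3) F), hg]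
      _ = 1 := by
          rw [← mul_assoc, mul_assoc _ Pm, hPm, P.mul_inv, mul_one]
          show UnitaryConjugacy.st hF _ * UnitaryConjugacy.st hF _ = 1
          rw [← UnitaryConjugacy.st_mul, P.mul_inv, UnitaryConjugacy.st_one]
  set G := GU 3 F p ⊓ Geo.specialLinear (Fin 3) F
  set N := Geo.subgroupNormalizer R with hN
  have hcard : Nat.card G = p ^ 3 * (p ^ 2 - 1) * (p ^ 3 + 1) := by
    have e : Nat.card G = Nat.card (SU 3 F p) := Nat.card_congr
      { toFun := fun g => ⟨⟨((g.1 : GL (Fin 3) F) : Matrix (Fin 3) (Fin 3) F),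
            congrArg Units.val (MonoidHom.mem_ker.1 g.2.2)⟩, fun u v => g.2.1 u v⟩
        invFun := fun t => ⟨Matrix.SpecialLinearGroup.toGL t.1, fun u v => t.2 u v,
          MonoidHom.mem_ker.2 (Units.ext t.1.2)⟩
        left_inv := fun g => Subtype.ext (Units.ext rfl)
        right_inv := fun t => rfl }
    have h := order_GU hF 3
    rw [natCard_GU_eq_SU hF (by norm_num), ← e] at h
    simp only [Finset.prod_range_succ, Finset.prod_range_zero] at h
    have h1 : 1 ≤ p ^ 2 := Nat.one_le_pow _ _ hpp.pos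
    have hz : ((Nat.card G : ℕ) : ℤ) = ((p ^ 3 * (p ^ 2 - 1) * (p ^ 3 + 1) : ℕ) : ℤ) := by
      refine mul_left_cancel₀ (a := (p : ℤ) + 1) (by omega) ?_
      rw [show 3 * (3 - 1) / 2 = 3 from rfl] at h
      push_cast [Nat.cast_sub h1] at h ⊢
      linear_combination h
    exact_mod_cast hz
  have hconj : ∀ {g : GL (Fin 3) F}, g ∈ Subgroup.normalizer (std w : Set (GL (Fin 3) F)) →
      P * g * P⁻¹ ∈ N := fun {g} hg => by
    rw [hN, Geo.subgroupNormalizer, Subgroup.mem_normalizer_iff]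
    intro t
    rw [Subgroup.mem_normalizer_iff] at hg
    rw [hRP]
    constructor
    · rintro ⟨s', hs', rfl⟩
      refine ⟨g * s' * g⁻¹, (hg s').1 hs', ?_⟩
      simp only [MulEquiv.coe_toMonoidHom, MulAut.conj_apply]
      group
    · rintro ⟨s', hs', he⟩
      simp only [MulEquiv.coe_toMonoidHom, MulAut.conj_apply] at he
      refine ⟨g⁻¹ * s' * g, (hg _).2 (by rw [show g * (g⁻¹ * s' * g) * g⁻¹ = s' by group]; exact hs'), ?_⟩
      simp only [MulEquiv.coe_toMonoidHom, MulAut.conj_apply]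
      calc P * (g⁻¹ * s' * g) * P⁻¹ = (P * g * P⁻¹)⁻¹ * (P * s' * P⁻¹) * (P * g * P⁻¹) := by group
        _ = t := by rw [he]; group
  -- conjugacy inside the special unitary group
  have hfin : ∀ {x y : GL (Fin 3) F}, y ∈ Subgroup.normalizer (std w : Set (GL (Fin 3) F)) →
      S' (y : Matrix (Fin 3) (Fin 3) F) * (y : Matrix (Fin 3) (Fin 3) F) = 1 → x ∈ GU 3 F p → IsConj y x →
      (∀ δ : Fˣ, dia ![δ, 1, 1] * y = y * dia ![δ, 1, 1]) → ∃ g ∈ G, g⁻¹ * x * g ∈ N := by
    intro x y hy hyU hxU hxy hcom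
    have hxy' : IsConj (P * y * P⁻¹) x := (isConj_iff.2 ⟨P, rfl⟩ : IsConj y (P * y * P⁻¹)).symm.trans hxy
    obtain ⟨⟨h, hhU⟩, hh⟩ := isConj_iff.1 (UnitaryConjugacy.isConj_of_isConj hF ⟨_, hgu hyU⟩ ⟨x, hxU⟩ hxy')
    have hh' : h * (P * y * P⁻¹) * h⁻¹ = x := congrArg Subtype.val hh
    set δ : Fˣ := Matrix.GeneralLinearGroup.det h
    have hδ : δ ^ (p + 1) = 1 := Units.ext (by
      rw [Units.val_pow_eq_pow_val, pow_succ']
      exact det_unitary hF hhU)
    have hd : S' ((dia ![δ⁻¹, 1, 1] : GL (Fin 3) F) : Matrix (Fin 3) (Fin 3) F) *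
        ((dia ![δ⁻¹, 1, 1] : GL (Fin 3) F) : Matrix (Fin 3) (Fin 3) F) = 1 := hst _ fun i => by
      fin_cases i <;> simp [inv_pow, hδ]
    refine ⟨h * (P * dia ![δ⁻¹, 1, 1] * P⁻¹), ⟨mul_mem hhU (hgu hd), MonoidHom.mem_ker.2 ?_⟩, ?_⟩
    · have hdd : Matrix.GeneralLinearGroup.det (dia ![δ⁻¹, 1, 1]) = δ⁻¹ := Units.ext (by
        simp [coe_dia, Fin.prod_univ_three])
      rw [map_mul, map_mul, map_mul, map_inv, hdd, mul_right_comm, mul_inv_cancel, one_mul]
      exact mul_inv_cancel δ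
    · convert hconj hy using 1
      rw [← hh']
      calc (h * (P * dia ![δ⁻¹, 1, 1] * P⁻¹))⁻¹ * (h * (P * y * P⁻¹) * h⁻¹) * (h * (P * dia ![δ⁻¹, 1, 1] * P⁻¹))
          = P * ((dia ![δ⁻¹, 1, 1])⁻¹ * (y * dia ![δ⁻¹, 1, 1])) * P⁻¹ := by group
        _ = _ := by rw [← hcom]; group
  constructor
  · intro h
    by_contra hr
    push Not at hr
    have hrp : r.Prime := Fact.out
    have hdvd : r ∣ Nat.card G := hΩ.trans (Subgroup.index_dvd_card _)
    by_cases hr3 : r = 3
    · subst hr3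
      have hRle : R ≤ N ⊓ G := by
        refine le_inf (fun g hg => Subgroup.le_normalizer hg) fun g hg => ⟨hRU hg, ?_⟩
        rw [hRP] at hg
        obtain ⟨s', hs', rfl⟩ := hg
        refine MonoidHom.mem_ker.2 ?_
        simp only [MulEquiv.coe_toMonoidHom, MulAut.conj_apply, map_mul, map_inv]
        rw [mul_right_comm, mul_inv_cancel, one_mul]
        refine (Subgroup.closure_le (MonoidHom.ker Matrix.GeneralLinearGroup.det)).2 ?_ hs'
        rintro t (rfl | rfl) <;> refine MonoidHom.mem_ker.2 (Units.ext ?_)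
        · simp [coe_dia, Fin.prod_univ_three, A, ← pow_succ', ← Units.val_pow_eq_pow_val, ← Units.val_mul, hw]
        · simp [coe_cyc, Matrix.det_fin_three]
      have h81 : 81 ∣ Nat.card G := by
        have e1 := Subgroup.card_dvd_of_le hRle
        rw [hR] at e1
        have e2 : N.relIndex G * Nat.card ↥(N ⊓ G) = Nat.card G := by
          rw [← Subgroup.inf_relIndex_right, mul_comm, Subgroup.relIndex, ← Subgroup.card_mul_index ((N ⊓ G).subgroupOf G)]
          congr 1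
          exact (Nat.card_congr (Subgroup.subgroupOfEquivOfLe inf_le_right).toEquiv).symm
        rw [← e2]
        exact Nat.mul_dvd_mul hΩ e1
      rw [hcard] at h81
      have hp9 : p % 9 = 2 ∨ p % 9 = 5 := by have := hr.2 rfl; omega
      have key : ∀ x : ZMod 81, (x.val % 9 = 2 ∨ x.val % 9 = 5) → x ^ 3 * (x ^ 2 - 1) * (x ^ 3 + 1) ≠ 0 := by decide
      refine key (p : ZMod 81) (by rw [ZMod.val_natCast]; omega) ?_
      have e := (ZMod.natCast_eq_zero_iff _ 81).2 h81
      rw [Nat.cast_mul, Nat.cast_mul, Nat.cast_sub (Nat.one_le_pow _ _ hpp.pos)] at e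
      simpa using e
    · have hr5 : 5 ≤ r := by
        have := hrp.two_le
        rcases Nat.lt_or_ge r 5 with h | h
        · interval_cases r <;> first | omega | norm_num at hrp
        · exact h
      obtain ⟨⟨x, hxS⟩, hx⟩ := exists_prime_orderOf_dvd_card' (G := G) r hdvd
      have hxr : x ^ r = 1 := by
        have := congrArg Subtype.val (pow_orderOf_eq_one (⟨x, hxS⟩ : G))
        rw [hx] at this
        exact this
      have hns : ¬ Sc x := fun ⟨z, hz⟩ => by
        have hz3 : z ^ 3 = 1 := by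
          have : (x : Matrix (Fin 3) (Fin 3) F).det = 1 := congrArg Units.val (MonoidHom.mem_ker.1 hxS.2)
          rwa [hz, Matrix.det_smul, Matrix.det_one, mul_one, Fintype.card_fin] at this
        have hx3 : (⟨x, hxS⟩ : G) ^ 3 = 1 := Subtype.ext (Units.ext (by
          simp [hz, smul_pow, hz3]))
        have := orderOf_dvd_of_pow_eq_one hx3
        rw [hx] at this
        have := Nat.le_of_dvd (by norm_num) this
        omega
      obtain ⟨g, -, hg⟩ := h x hxS ⟨1, by rw [hxr]; simp⟩ (fun z hz => hns ⟨z, hz⟩)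
      have hs := sc_of_mem_normalizer hw hw1 hRP hR hg hr5 ⟨1, by
        rw [show g⁻¹ * x * g = g⁻¹ * x * g⁻¹⁻¹ by rw [inv_inv], conj_pow, hxr]; simp⟩
      obtain ⟨z, hz⟩ := hs
      refine hns ⟨z, ?_⟩
      rw [show x = g * (g⁻¹ * x * g) * g⁻¹ by group, Units.val_mul, Units.val_mul, hz]
      simp
  · intro hr x hxG ⟨z, hz⟩ hxns
    have hxd : (x : Matrix (Fin 3) (Fin 3) F).det = 1 := congrArg Units.val (MonoidHom.mem_ker.1 hxG.2)
    have hzd : z ^ 3 = 1 := by
      have := congrArg Matrix.det hz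
      rw [Units.val_pow_eq_pow_val, Matrix.det_pow, hxd, one_pow, Matrix.det_smul, Matrix.det_one, mul_one, Fintype.card_fin] at this
      exact this.symm
    have hz0 : z ≠ 0 := fun h => by simp [h] at hzd
    set zu := Units.mk0 z hz0
    have hzu : zu ^ 3 = 1 := Units.ext (by simpa [zu] using hzd)
    -- scalar elements
    have hscal : ∀ l : Fˣ, l ^ (p + 1) = 1 → ((dia fun _ => l : GL (Fin 3) F) ∈ GU 3 F p) ∧
        (dia fun _ => l : GL (Fin 3) F) ∈ N ∧ ∀ g : GL (Fin 3) F, (dia fun _ => l) * g = g * dia fun _ => l := by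
      intro l hl
      have hc : ∀ g : GL (Fin 3) F, (dia fun _ => l) * g = g * dia fun _ => l := fun g => Units.ext (by
        simp [coe_dia, ← Matrix.smul_one_eq_diagonal])
      refine ⟨(UnitaryConjugacy.mem_GU_iff hF _).2 (hst _ fun _ => hl), ?_, hc⟩
      have h := hconj (dia_mem_normalizer hw hw1 (e := fun _ => l) (z := l ^ 3) fun _ => rfl)
      rwa [← hc, mul_inv_cancel_right] at h
    rcases hr with rfl | ⟨rfl, hp9⟩
    · have h2 : (2 : F) ≠ 0 := fun h => (show p ≠ 2 by omega) <| by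
        have := (CharP.cast_eq_zero_iff F p 2).1 (by simpa using h)
        exact (Nat.prime_dvd_prime_iff_eq hpp Nat.prime_two).1 this
      obtain ⟨hsU, hsN, hsc⟩ := hscal zu (by obtain ⟨k, hk⟩ := h31; rw [hk, pow_mul, hzu, one_pow])
      set s' : GL (Fin 3) F := dia fun _ => zu with hsdef
      have hs' : (s' : Matrix (Fin 3) (Fin 3) F) = z • 1 := by rw [hsdef, coe_dia, Matrix.smul_one_eq_diagonal]; rfl
      have hxx : (s' * x) * (s' * x) = 1 := Units.ext (by
        rw [Units.val_mul, Units.val_mul, hs', Matrix.smul_mul, Matrix.one_mul, Matrix.mul_smul, Matrix.smul_mul, ← pow_two,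
          ← Units.val_pow_eq_pow_val, hz, smul_smul, smul_smul, show z * z * z = z ^ 3 by ring,
          hzd, one_smul, Units.val_one])
      obtain ⟨g, hg, hgN⟩ := hfin (negSwap_mem_normalizer hw) hneg (mul_mem hsU hxG.1) (isConj_negSwap h2 hxx
        (by rw [Units.val_mul, Matrix.det_mul, hxd, hs', Matrix.det_smul, Matrix.det_one, mul_one, mul_one, Fintype.card_fin, hzd])
        (fun ⟨t, ht⟩ => hxns (z⁻¹ * t) (by
          rw [Units.val_mul, hs', Matrix.smul_mul, Matrix.one_mul] at ht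
          rw [mul_smul, ← ht, smul_smul, inv_mul_cancel₀ hz0, one_smul])))
        (fun δ => Units.ext (by
          ext i j
          fin_cases i <;> fin_cases j <;> simp [negSwap, coe_dia, Matrix.mul_apply, Fin.sum_univ_three]))
      refine ⟨g, hg, ?_⟩
      have := mul_mem (inv_mem hsN) hgN
      convert this using 1
      rw [show g⁻¹ * (s' * x) * g = s' * (g⁻¹ * x * g) by rw [← mul_assoc g⁻¹ s', ← hsc]; group, inv_mul_cancel_left]
    · obtain ⟨l, hl⟩ : ∃ l : Fˣ, l ^ 3 = zu := by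
        obtain ⟨γ, hγ⟩ := IsCyclic.exists_generator (α := Fˣ)
        obtain ⟨k, hk⟩ := (mem_powers_iff_mem_zpowers.2 (hγ zu))
        have ho : orderOf γ = p ^ 2 - 1 := by rw [← hcu]; exact orderOf_eq_card_of_forall_mem_zpowers hγ
        have h1 : (γ ^ k) ^ 3 = 1 := by rw [show γ ^ k = zu from hk, hzu]
        rw [← pow_mul, ← orderOf_dvd_iff_pow_eq_one, ho] at h1
        have h9 : 9 ∣ k * 3 := ((show 9 ∣ p + 1 by omega).trans ⟨p - 1, by rw [← Nat.sq_sub_sq, one_pow]⟩).trans h1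
        exact ⟨γ ^ (k / 3), by rw [← pow_mul, Nat.div_mul_cancel (by omega)]; exact hk⟩
      have hlq : l ^ (p + 1) = 1 := by
        obtain ⟨k, hk⟩ : 9 ∣ p + 1 := by omega
        rw [hk, pow_mul, show (9 : ℕ) = 3 * 3 from rfl, pow_mul, hl, hzu, one_pow]
      obtain ⟨hsU, hsN, hsc⟩ := hscal l⁻¹ (by rw [inv_pow, hlq, inv_one])
      set s' : GL (Fin 3) F := dia fun _ => l⁻¹ with hsdef
      have hy : (s' * x) ^ 3 = 1 := by
        rw [(show Commute s' x from hsc x).mul_pow]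
        refine Units.ext ?_
        rw [Units.val_mul, Units.val_pow_eq_pow_val, hsdef, coe_dia, ← Matrix.smul_one_eq_diagonal, smul_pow, one_pow, hz,
          Matrix.smul_mul, Matrix.one_mul, smul_smul, ← Units.val_pow_eq_pow_val, inv_pow, hl,
          Units.val_inv_eq_inv_val, Units.val_mk0, inv_mul_cancel₀ hz0, one_smul, Units.val_one]
      obtain ⟨e, he, hex'⟩ := exists_diag_conj h3 hw hw1 hy
      have hl' : dia (fun _ => l) = s'⁻¹ := by
        rw [hsdef, ← map_inv, show (fun _ : Fin 3 => l⁻¹)⁻¹ = fun _ => l from funext fun _ => inv_inv l]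
      have hcx : IsConj (dia ((fun _ => l) * e)) x := by
        obtain ⟨c, hc⟩ := isConj_iff.1 hex'
        refine isConj_iff.2 ⟨c, ?_⟩
        rw [map_mul, hl', ← mul_assoc c, ← (show Commute s'⁻¹ c from (show Commute s' c from hsc c).inv_left).eq, mul_assoc s'⁻¹, mul_assoc s'⁻¹, hc,
          inv_mul_cancel_left]
      exact hfin (dia_mem_normalizer hw hw1 (e := (fun _ => l) * e) (z := l ^ 3) fun i => by
          rw [Pi.mul_apply, mul_pow, he, mul_one])
        (hst _ fun i => by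
          obtain ⟨k, hk⟩ := h31
          rw [Pi.mul_apply, mul_pow, hlq, one_mul, hk, pow_mul, he, one_pow])
        hxG.1 hcx fun δ => by rw [← map_mul, ← map_mul, mul_comm]

end Cfsg.Agent.S5999
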