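import Cfsg.Statements.S6000
import Cfsg.Agent.Lib.Classical.CliffordFourReps
import Cfsg.Agent.Lib.Classical.GLSemisimpleClasses
import Cfsg.Agent.Lib.Fus.CentralizerDet
-- import your own Cfsg.Agent.* helpers here

set_option autoImplicit false
open scoped MatrixGroups
open Cfsg

namespace Cfsg.Agent.S6000

open Matrix Cfsg.Agent.Classical.CliffordFour

variable {F : Type*} [Field F]

theorem mem_iff {g : GL (Fin 4) F} :
    g ∈ Cfsg.Geo.specialLinear (Fin 4) F ↔ (g : Matrix (Fin 4) (Fin 4) F).det = 1 :=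
  ⟨fun h => congrArg Units.val (MonoidHom.mem_ker.1 h), fun h => MonoidHom.mem_ker.2 (Units.ext h)⟩

theorem isConj_of_charpoly [Fintype F] {p : ℕ} [Fact p.Prime] [CharP F p] {M : ℕ} (hM : ¬ p ∣ M) {x y : GL (Fin 4) F}
    (hxm : x ^ M = 1) (hym : y ^ M = 1)
    (hc : (x : Matrix (Fin 4) (Fin 4) F).charpoly = (y : Matrix (Fin 4) (Fin 4) F).charpoly) :
    ∃ g ∈ Cfsg.Geo.specialLinear (Fin 4) F, g⁻¹ * x * g = y := by
  have hcop : ∀ A : GL (Fin 4) F, A ^ M = 1 → (orderOf A).Coprime p := fun A hA =>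
    Nat.Coprime.coprime_dvd_left (orderOf_dvd_of_pow_eq_one hA)
      ((Fact.out : p.Prime).coprime_iff_not_dvd.2 hM).symm
  have hne : ∀ A : GL (Fin 4) F, A ^ M = 1 → ((orderOf A : ℕ) : F) ≠ 0 := fun A hA =>
    SympSemisimpleClasses.cast_order_ne_zero (hcop A hA)
  obtain ⟨c, hc'⟩ := isConj_iff.1 (GLSemisimpleClasses.isConj_of_charpoly_eq (hne y hym) (hne x hxm) hc.symm)
  obtain ⟨h, hd, hh⟩ := Fus.CentralizerDet.main y c (hcop y hym)
  refine ⟨h, mem_iff.2 hd, ?_⟩
  rw [← hc', ← hh]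
  group

/-- Elements of prime order of PSL_4(p), p ≡ 1 (mod 4), and the normalizer of a 2-group of symplectic type of order 2⁶. Here `T = PSL_4(F)` for the field `F` with `p` elements, `p` a prime with `p ≡ 1 (mod 4)`; `R` is an absolutely irreducible subgroup of GL_4(F) of order 2⁶ that is a 2-group of symplectic type of exponent 4 with centre of order 4 (the central product of the scalars of order 4 with an extraspecial group 2^{1+4}), and `H` is the subgroup of matrices of determinant 1 normalizing `R` — a subgroup of type 2⁴.Sp₄(2) (maximality is not assumed). Ω is the set of cosets of `H` in `T`, so an element of `T` of prime order `r` (a matrix `x` of determinant 1 with `x^r` scalar, `x` not scalar) fixes a point of Ω exactly when some conjugate of `x` by a matrix of determinant 1 normalizes `R`. Let `r` be a prime dividing the index of `H`. Then every element of `T` of order `r` fixes a point of Ω if and only if `r = 2`, or `r = 3` and `p ≡ 2 (mod 3)`, or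 `r = 5` and `p ≡ ±2 (mod 5)` (`p` has multiplicative order 4 modulo 5). -/
theorem result {F : Type*} [Field F] [Fintype F] {p : ℕ} [Fact p.Prime] [CharP F p] (hF : Fintype.card F = p) (hp4 : p % 4 = 1)
    (R : Subgroup (GL (Fin 4) F)) (hR : Cfsg.Geo.IsLinearSymplecticTypeData 2 R) (hR6 : Nat.card R = 2 ^ 6)
    (r : ℕ) [Fact r.Prime]
    (hΩ : r ∣ (Cfsg.Geo.subgroupNormalizer R).relIndex (Cfsg.Geo.specialLinear (Fin 4) F)) :
    (∀ x ∈ Cfsg.Geo.specialLinear (Fin 4) F, (∃ z : F, ((x ^ r : GL (Fin 4) F) : Matrix (Fin 4) (Fin 4) F) = z • (1 : Matrix (Fin 4) (Fin 4) F)) →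
      (∀ z : F, (x : Matrix (Fin 4) (Fin 4) F) ≠ z • (1 : Matrix (Fin 4) (Fin 4) F)) →
      ∃ g ∈ Cfsg.Geo.specialLinear (Fin 4) F, g⁻¹ * x * g ∈ Cfsg.Geo.subgroupNormalizer R) ↔ (r = 2 ∨ (r = 3 ∧ p % 3 = 2) ∨ (r = 5 ∧ orderOf (p : ZMod 5) = 4)) := by
  classical
  have hp : p.Prime := Fact.out
  have hr : r.Prime := Fact.out
  have hp2 : p ≠ 2 := fun h => by rw [h] at hp4; norm_num at hp4
  have hp5' : 5 ≤ p := by have := hp.two_le; omega
  have hnd : ∀ k, ¬ p ∣ 2 ^ k := fun k h => hp2 ((Nat.prime_dvd_prime_iff_eq hp Nat.prime_two).1 (hp.dvd_of_dvd_pow h))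
  have hn3 : ¬ p ∣ 3 := fun h => by have := Nat.le_of_dvd (by norm_num) h; omega
  have h2 : (2 : F) ≠ 0 := fun h => hnd 1 ((CharP.cast_eq_zero_iff F p _).1 (by simpa using h))
  have h3 : (3 : F) ≠ 0 := fun h => hn3 ((CharP.cast_eq_zero_iff F p _).1 (by simpa using h))
  have hd : Fintype.card (Fin 4) = 4 := Fintype.card_fin 4
  have hZ : Nat.card (Subgroup.center R) = 4 := by
    obtain ⟨q, e, -, -, ⟨h, -⟩ | ⟨-, -, h, -⟩ | ⟨-, -, h, -⟩⟩ := hR.field
    · exact absurd h (by decide)
    · exact h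
    · rw [hd] at h; norm_num at h
  have hS : Sym R := Sym.of h2 hd hR.symplecticType hR.absIrred inferInstance (by rw [hR6, hZ]; norm_num)
  obtain ⟨E⟩ := exists_frame hS (hasFix_of_card_center hS hZ)
  set N := Cfsg.Geo.subgroupNormalizer R with hN
  have hscal : ∀ s : Fˣ, (scal s : GL (Fin 4) F) ∈ N := fun s => sc_mem_normalizer (scal_sc s)
  have hpow : ∀ u : F, u ^ p = u := fun u => by rw [← hF]; exact FiniteField.pow_card u
  have hmem : ∀ {x y : GL (Fin 4) F} {M : ℕ}, ¬ p ∣ M → y ∈ N → x ^ M = 1 → y ^ M = 1 →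
      (x : Matrix (Fin 4) (Fin 4) F).charpoly = (y : Matrix (Fin 4) (Fin 4) F).charpoly →
      ∃ g ∈ Cfsg.Geo.specialLinear (Fin 4) F, g⁻¹ * x * g ∈ N :=
    fun hM hyN hxm hym hc => by
      obtain ⟨g, hg, e⟩ := isConj_of_charpoly (p := p) hM hxm hym hc
      exact ⟨g, hg, e ▸ hyN⟩
  constructor
  · intro h
    by_contra hneg
    push Not at hneg
    have hexp : ∀ x ∈ Cfsg.Geo.specialLinear (Fin 4) F, x ^ r = 1 → ¬ Sc x → ∃ g, g⁻¹ * x * g ∈ N :=
      fun x hx hxr hxs => by
        obtain ⟨g, -, hg⟩ := h x hx ⟨1, by rw [hxr]; simp⟩ (fun z hz => hxs ⟨z, hz⟩)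
        exact ⟨g, hg⟩
    rcases cases_prime hr with rfl | rfl | rfl | h7
    · exact hneg.1 rfl
    · have hp3 : p % 3 = 1 := by
        have h1 := hneg.2.1 rfl
        have h3' : p % 3 ≠ 0 := fun e => hn3 (by rw [(Nat.prime_dvd_prime_iff_eq Nat.prime_three hp).1 (Nat.dvd_of_mod_eq_zero e)])
        omega
      obtain ⟨w, hw⟩ := exists_prime_orderOf_dvd_card' (G := Fˣ) 3
        (by rw [Nat.card_units, Nat.card_eq_fintype_card, hF]; omega)
      have hw3 : (w : F) ^ 3 = 1 := by rw [← Units.val_pow_eq_pow_val, ← hw, pow_orderOf_eq_one, Units.val_one]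
      have hw1 : (w : F) ≠ 1 := fun e => by
        rw [show w = 1 from Units.ext e, orderOf_one] at hw; norm_num at hw
      have hsum : 1 + (w : F) + (w : F) ^ 2 = 0 :=
        (mul_eq_zero.1 (show ((w : F) - 1) * (1 + (w : F) + (w : F) ^ 2) = 0 by linear_combination hw3)).resolve_left
          (sub_ne_zero.2 hw1)
      let x : GL (Fin 4) F :=
        ⟨Matrix.diagonal ![(w : F), (w : F), (w : F), 1], Matrix.diagonal ![(w : F) ^ 2, (w : F) ^ 2, (w : F) ^ 2, 1],
          by rw [Matrix.diagonal_mul_diagonal, ← Matrix.diagonal_one]; congr 1; funext i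
             fin_cases i <;> simp <;> linear_combination hw3,
          by rw [Matrix.diagonal_mul_diagonal, ← Matrix.diagonal_one]; congr 1; funext i
             fin_cases i <;> simp <;> linear_combination hw3⟩
      have hx : x ∈ Cfsg.Geo.specialLinear (Fin 4) F := mem_iff.2 (by
        simp [x, Matrix.det_diagonal, Fin.prod_univ_four]; linear_combination hw3)
      have hx3 : x ^ 3 = 1 := Units.ext (by
        rw [Units.val_pow_eq_pow_val, Units.val_one]
        show Matrix.diagonal _ ^ 3 = 1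
        rw [Matrix.diagonal_pow, ← Matrix.diagonal_one]; congr 1; funext i
        fin_cases i <;> simp [hw3])
      have hxs : ¬ Sc x := by
        rintro ⟨t, ht⟩
        have e0 := congrFun (congrFun ht 0) 0
        have e3 := congrFun (congrFun ht 3) 3
        simp [x] at e0 e3
        exact hw1 (e0.trans e3.symm)
      obtain ⟨g, hg⟩ := hexp x hx hx3 hxs
      refine not_mem_three hS hx3 hxs (Or.inr ?_) hg
      have e : (x : Matrix (Fin 4) (Fin 4) F).trace * ((x⁻¹ : GL (Fin 4) F) : Matrix (Fin 4) (Fin 4) F).trace = 7 := by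
        show (Matrix.diagonal _).trace * (Matrix.diagonal _).trace = 7
        simp [Matrix.trace_diagonal, Fin.sum_univ_four]
        linear_combination (3 : F) * hsum + 9 * hw3
      rw [e]
      refine ⟨fun e1 => h2 ?_, fun e1 => h3 (by linear_combination e1)⟩
      exact (mul_eq_zero.1 (show (2 : F) * 3 = 0 by linear_combination e1)).resolve_right h3
    · have h5 : p % 5 = 0 ∨ p % 5 = 1 ∨ p % 5 = 4 := by
        by_contra hcon
        exact hneg.2.2 rfl (orderOf_four_iff.2 (by omega))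
      obtain ⟨t, ht, -⟩ := exists_golden (F := F) hp2 h5
      have hdA : (!![0, -1; 1, t] : Matrix (Fin 2) (Fin 2) F).det = 1 := by simp [Matrix.det_fin_two]
      set x : GL (Fin 4) F := embGL (finSumFinEquiv (m := 2) (n := 2)).symm _ hdA
      have hxs : ¬ Sc x := embGL_not_sc _ _ (fun z e => by simpa using congrFun (congrFun e 1) 0)
      have hx5 : x ^ 5 = 1 := embGL_pow _ _ (five_of_trace hdA (t := t) (by simp [Matrix.trace_fin_two]) ht)
      obtain ⟨g, hg⟩ := hexp x (mem_iff.2 (embGL_det _ _)) hx5 hxs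
      refine not_mem_five hS hx5 hxs ?_ hg
      by_cases hp5 : (5 : F) = 0
      · refine Or.inl (embGL_axial _ hdA (u := ![-1, 1]) (w := ![1, 1]) ?_)
        have e2 : t = 2 := sub_eq_zero.1 ((pow_eq_zero_iff two_ne_zero).1
          (show (t - 2) ^ 2 = 0 by linear_combination ht + (1 - t) * hp5))
        ext i j; fin_cases i <;> fin_cases j <;> simp [Matrix.vecMulVec, e2]; norm_num
      · refine Or.inr ?_
        rw [embGL_trace, embGL_inv_trace, Matrix.trace_fin_two]
        simpa using golden_ne ht hp5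
    · obtain ⟨x, hx, hxr, hxs⟩ := exists_big hd (G := Cfsg.Geo.specialLinear (Fin 4) F) (fun u hu => mem_iff.1 hu) h7
        (hΩ.trans (Subgroup.index_dvd_card _))
      obtain ⟨g, hg⟩ := hexp x hx hxr hxs
      exact not_mem_big hS h7 hxr hxs hg
  · rintro hr' x hx ⟨z, hz⟩ hxns
    have hxs : ¬ Sc x := fun ⟨w, hw⟩ => hxns w hw
    have hxd := mem_iff.1 hx
    rcases hr' with rfl | ⟨rfl, hp3⟩ | ⟨rfl, h5⟩
    · have hxx : (x : Matrix (Fin 4) (Fin 4) F) * x = z • 1 := by rw [← Units.val_mul, ← pow_two]; exact hz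
      have hz4 : z ^ 4 = 1 := by
        have := congrArg Matrix.det hxx
        rw [Matrix.det_mul, hxd, one_mul, Matrix.det_smul, Matrix.det_one, mul_one, hd] at this
        exact this.symm
      by_cases hsq : IsSquare z
      · obtain ⟨s, hs⟩ := hsq
        have hs0 : s ≠ 0 := fun h => by simp [hs, h] at hz4
        set x' := scal (Units.mk0 s hs0)⁻¹ * x with hx'
        have hxx' : x' * x' = 1 := scal_inv_mul_sq (s := Units.mk0 s hs0) (by rw [hxx, hs]; rfl)
        obtain ⟨σ, y, -, hyN, hyy, hσ, hc, -⟩ := rep_two hS E hZ hxx' (not_sc_scal_mul hxs _)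
        obtain ⟨g, hg, hgN⟩ := hmem (M := 2 ^ 1) (hnd 1) hyN (by rw [pow_one, pow_two, hσ]) (by rw [pow_one, pow_two, hyy]) hc
        exact ⟨g, hg, mem_of_scal_conj hscal (mem_of_scal_conj hscal hgN)⟩
      · have e := det_of_nonsquare h2 hd hz4 hxx hsq
        rw [hxd] at e
        exfalso
        rcases mul_self_eq_one_iff.1 e.symm with rfl | rfl
        · exact hsq IsSquare.one
        · exact hsq (FiniteField.isSquare_neg_one_iff.2 (by rw [hF, hp4]; norm_num))
    · obtain ⟨hz4, s, hs, hsx⟩ := exists_reduce hd (r := 3) hz hxd (k := 1) (by norm_num)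
      have hns' := not_sc_scal_mul hxs s
      have htr : ∀ u : GL (Fin 4) F, u ^ 3 = 1 →
          ((u⁻¹ : GL (Fin 4) F) : Matrix (Fin 4) (Fin 4) F).trace = (u : Matrix (Fin 4) (Fin 4) F).trace :=
        fun u hu => ((trace_pow_three (p := p) h3 hu).2 hp3).symm.trans (hpow _)
      obtain ⟨hcase, hcls⟩ := charpoly_three hd hp5' hsx (htr _ hsx) hns'
      obtain ⟨y, hyN, hy3, -, hyt, hys, -⟩ := rep_three hS E hZ h3 hcase
      obtain ⟨g, hg, hgN⟩ := hmem hn3 hyN hsx hy3 (hcls hy3 (htr _ hy3) hys hyt.symm)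
      exact ⟨g, hg, mem_of_scal_conj hscal hgN⟩
    · rw [orderOf_four_iff] at h5
      have hn5 : ¬ p ∣ 5 := fun h => by have := (Nat.prime_dvd_prime_iff_eq hp (by norm_num)).1 h; omega
      obtain ⟨hz4, s, hs, hsx⟩ := exists_reduce hd (r := 5) hz hxd (k := 3) (by norm_num)
      obtain ⟨y, hyN, hys, hy5, -, -⟩ := exists_five hS E
      have hfix : ∀ u : F, u ^ p ^ 2 = u := fun u => by rw [pow_two, pow_mul, hpow, hpow]
      obtain ⟨g, hg, hgN⟩ := hmem hn5 hyN hsx hy5 (charpoly_five hd h5 hp2 hfix hsx hy5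
        (Or.inl (hpow _)) (Or.inl (hpow _)) (not_sc_scal_mul hxs s) hys)
      exact ⟨g, hg, mem_of_scal_conj hscal hgN⟩

end Cfsg.Agent.S6000
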