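import Cfsg.Statements.S6001
import Cfsg.Agent.Lib.Classical.CliffordFourReps
import Cfsg.Agent.Lib.Classical.GLSemisimpleClasses
import Cfsg.Agent.Lib.Classical.UnitaryDetCentralizer
-- import your own Cfsg.Agent.* helpers here

set_option autoImplicit false
open scoped MatrixGroups
open Cfsg

namespace Cfsg.Agent.S6001

open Matrix Cfsg.Agent.Classical Cfsg.Agent.Classical.CliffordFour Cfsg.Agent.UnitaryConjugacy

variable {F : Type*} [Field F] [Fintype F] {p : ℕ}

/-- The adjoint for the Hermitian form. -/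
def adj (hK : Fintype.card F = p ^ 2) : Adj F (Fin 4) where
  σ := qFrob hK
  τ := st hK
  add := st_add hK
  mul := st_mul hK
  smul s M := by
    rw [st, st, Matrix.map_smul' _ _ _ (map_mul (qFrob hK)), Matrix.transpose_smul]
  one := st_one hK
  det M := by rw [st, Matrix.det_transpose]; exact ((qFrob hK).map_det M).symm

theorem iso_iff (hK : Fintype.card F = p ^ 2) {g : GL (Fin 4) F} : (adj hK).Iso g ↔ g ∈ Cfsg.GU 4 F p :=
  (mem_GU_iff hK g).symm

theorem trace_inv (hK : Fintype.card F = p ^ 2) {g : GL (Fin 4) F} (hg : g ∈ Cfsg.GU 4 F p) :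
    ((g⁻¹ : GL (Fin 4) F) : Matrix (Fin 4) (Fin 4) F).trace = (g : Matrix (Fin 4) (Fin 4) F).trace ^ p := by
  rw [← (adj hK).τ_eq_inv ((iso_iff hK).2 hg), ← qFrob_apply hK]
  show ((g : Matrix (Fin 4) (Fin 4) F).map (qFrob hK))ᵀ.trace = _
  rw [Matrix.trace_transpose]
  exact (AddMonoidHom.map_trace (qFrob hK).toAddMonoidHom _).symm

theorem mem_iff {g : GL (Fin 4) F} :
    g ∈ Cfsg.GU 4 F p ⊓ Cfsg.Geo.specialLinear (Fin 4) F ↔
      g ∈ Cfsg.GU 4 F p ∧ (g : Matrix (Fin 4) (Fin 4) F).det = 1 :=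
  ⟨fun h => ⟨h.1, congrArg Units.val (MonoidHom.mem_ker.1 h.2)⟩, fun h => ⟨h.1, MonoidHom.mem_ker.2 (Units.ext h.2)⟩⟩

theorem scal_mem (hK : Fintype.card F = p ^ 2) (s : Fˣ) (hs : qFrob hK (s : F) * (s : F) = 1) :
    (scal s : GL (Fin 4) F) ∈ Cfsg.GU 4 F p := by
  rw [← iso_iff hK, Adj.Iso, coe_scal, (adj hK).smul, (adj hK).one, Matrix.smul_mul, one_mul, smul_smul]
  show (qFrob hK (s : F) * (s : F)) • _ = _
  rw [hs, one_smul]

theorem norm_of_scalar (hK : Fintype.card F = p ^ 2) {g : GL (Fin 4) F} (hg : g ∈ Cfsg.GU 4 F p) {z : F}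
    (hz : (g : Matrix (Fin 4) (Fin 4) F) = z • 1) : qFrob hK z * z = 1 := by
  have h := (iso_iff hK).2 hg
  rw [Adj.Iso, hz, (adj hK).smul, (adj hK).one, Matrix.smul_mul, one_mul, smul_smul] at h
  simpa [adj] using congrFun (congrFun h 0) 0

theorem isConj_of_charpoly [Fact p.Prime] [CharP F p] (hK : Fintype.card F = p ^ 2) {M : ℕ} (hM : ¬ p ∣ M)
    {x y : GL (Fin 4) F} (hx : x ∈ Cfsg.GU 4 F p) (hy : y ∈ Cfsg.GU 4 F p)
    (hxm : x ^ M = 1) (hym : y ^ M = 1)
    (hc : (x : Matrix (Fin 4) (Fin 4) F).charpoly = (y : Matrix (Fin 4) (Fin 4) F).charpoly) :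
    ∃ g ∈ Cfsg.GU 4 F p ⊓ Cfsg.Geo.specialLinear (Fin 4) F, g⁻¹ * x * g = y := by
  have hcop : ∀ A : GL (Fin 4) F, A ^ M = 1 → (orderOf A).Coprime p := fun A hA =>
    Nat.Coprime.coprime_dvd_left (orderOf_dvd_of_pow_eq_one hA)
      ((Fact.out : p.Prime).coprime_iff_not_dvd.2 hM).symm
  have hne : ∀ A : GL (Fin 4) F, A ^ M = 1 → ((orderOf A : ℕ) : F) ≠ 0 := fun A hA =>
    SympSemisimpleClasses.cast_order_ne_zero (hcop A hA)
  have hconj := GLSemisimpleClasses.isConj_of_charpoly_eq (hne y hym) (hne x hxm) hc.symm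
  obtain ⟨c, hc'⟩ := isConj_iff.1 (UnitaryConjugacy.isConj_of_isConj hK ⟨y, hy⟩ ⟨x, hx⟩ hconj)
  have hnorm : qFrob hK ((c : GL (Fin 4) F) : Matrix (Fin 4) (Fin 4) F).det *
      ((c : GL (Fin 4) F) : Matrix (Fin 4) (Fin 4) F).det = 1 := by
    have h := congrArg Matrix.det ((iso_iff hK).2 c.2)
    rwa [Matrix.det_mul, (adj hK).det, Matrix.det_one] at h
  obtain ⟨c', hcc, hcd⟩ := UnitaryDetCentralizer.exists_commute_det (p := p) hK (by norm_num) (⟨y, hy⟩ : Cfsg.GU 4 F p)
    (by rw [← Subgroup.orderOf_coe]; exact hcop y hym)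
    (d := (((c : GL (Fin 4) F) : Matrix (Fin 4) (Fin 4) F).det)⁻¹) (by
      rw [map_inv₀, ← mul_inv, mul_comm, hnorm, inv_one])
  refine ⟨(c * c' : Cfsg.GU 4 F p), mem_iff.2 ⟨(c * c').2, ?_⟩, ?_⟩
  · rw [Subgroup.coe_mul, Units.val_mul, Matrix.det_mul, hcd, mul_inv_cancel₀]
    exact (c : GL (Fin 4) F).det_ne_zero
  · have e : (c * c' : Cfsg.GU 4 F p)⁻¹ * ⟨x, hx⟩ * (c * c') = ⟨y, hy⟩ := by
      rw [← hc', _root_.mul_inv_rev, show c'⁻¹ * c⁻¹ * (c * ⟨y, hy⟩ * c⁻¹) * (c * c') = c'⁻¹ * (⟨y, hy⟩ * c') by group,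
        ← hcc, inv_mul_cancel_left]
    exact congrArg Subtype.val e

/-- An element of the special unitary group of a two-space with given trace, and the identity. -/
theorem exists_block [Fact p.Prime] [CharP F p] (hK : Fintype.card F = p ^ 2) (h2 : (2 : F) ≠ 0) {t : F}
    (ht : t ^ p = t) :
    ∃ (A : Matrix (Fin 2) (Fin 2) F) (hA : A.det = 1), A.trace = t ∧
      embGL (finSumFinEquiv (m := 2) (n := 2)).symm A hA ∈ Cfsg.GU 4 F p ∧ (∀ z : F, A ≠ z • 1) ∧
      (t = 2 → ∃ u w, A - 1 = Matrix.vecMulVec u w) := by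
  classical
  set σ := qFrob hK with hσ
  have htf : σ t = t := ht
  obtain ⟨θ₀, hθ₀⟩ := exists_ne_qFrob hK
  set θ := θ₀ - σ θ₀ with hθ
  have hθ0 : θ ≠ 0 := sub_ne_zero.2 (Ne.symm hθ₀)
  have hθn : σ θ = -θ := by rw [hθ, map_sub, hσ, qFrob_qFrob, neg_sub]
  set a := t / 2 + θ with ha
  have hsa : σ a = t / 2 - θ := by rw [ha, map_add, map_div₀, htf, map_ofNat, hθn, sub_eq_add_neg]
  set s := 1 - a * σ a with hs
  have hsf : σ s = s := by rw [hs, map_sub, map_one, map_mul, hσ, qFrob_qFrob, mul_comm]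
  obtain ⟨β, hβ⟩ : ∃ β, β * σ β = s := by
    by_cases h : s = 0
    · exact ⟨0, by rw [zero_mul, h]⟩
    · obtain ⟨k, -, hk⟩ := exists_norm σ (qFrob_qFrob hK) (θ := θ₀) (IsUnit.mk0 _ hθ0) hsf (IsUnit.mk0 _ h)
      exact ⟨k, hk⟩
  set A : Matrix (Fin 2) (Fin 2) F := !![a, -σ β; β, σ a] with hAdef
  have hA : A.det = 1 := by rw [hAdef, Matrix.det_fin_two_of]; linear_combination hβ + hs
  refine ⟨A, hA, ?_, ?_, ?_, ?_⟩
  · rw [hAdef, Matrix.trace_fin_two_of, hsa, ha]; ring_nf; field_simp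
  · rw [mem_GU_iff hK, coe_embGL]
    show st hK (UnitaryDetCentralizer.blk A 1) * UnitaryDetCentralizer.blk A 1 = 1
    rw [UnitaryDetCentralizer.blk_st, UnitaryDetCentralizer.blk_mul, st_one, one_mul]
    have e : st hK A * A = 1 := by
      rw [hAdef]
      ext i j
      fin_cases i <;> fin_cases j <;>
        simp [st, Matrix.mul_apply, Fin.sum_univ_two, ← hσ, show σ (σ a) = a from qFrob_qFrob hK a,
          show σ (σ β) = β from qFrob_qFrob hK β] <;>
        first | linear_combination hβ + hs | ring1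
    rw [e, UnitaryDetCentralizer.blk_one]
  · intro z hz
    have e0 := congrFun (congrFun hz 0) 0
    have e1 := congrFun (congrFun hz 1) 1
    simp [hAdef] at e0 e1
    have : a = σ a := e0.trans e1.symm
    rw [hsa, ha] at this
    exact hθ0 ((mul_eq_zero.1 (show (2 : F) * θ = 0 by linear_combination this)).resolve_left h2)
  · intro ht2
    have hb : β * σ β = θ * θ := by rw [hβ, hs, hsa, ha, ht2, div_self h2]; ring
    have hb0 : β ≠ 0 := fun h => hθ0 (mul_self_eq_zero.1 (by rw [← hb, h, zero_mul]))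
    refine ⟨![θ, β], ![1, -θ / β], ?_⟩
    ext i j
    fin_cases i <;> fin_cases j <;> simp [hAdef, Matrix.vecMulVec]
    · rw [ha, ht2, div_self h2]; ring
    · field_simp; linear_combination -hb
    · rw [hsa, ht2, div_self h2]; field_simp; ring

/-- Elements of prime order of PSU_4(p), p ≡ 3 (mod 4), and the normalizer of a 2-group of symplectic type of order 2⁶. Here `T = PSU_4(p)` for a prime `p ≡ 3 (mod 4)`, realised through `SU_4(p)`, the matrices of determinant 1 over the field `F` with `p²` elements preserving the hermitian form `f = Σ uᵢvᵢ^p`; `R` is an absolutely irreducible subgroup of the full unitary group of `f` of order 2⁶ that is a 2-group of symplectic type of exponent 4 with centre of order 4, and `H` is the subgroup of `SU_4(p)` normalizing `R` — a subgroup of type 2⁴.Sp₄(2) (maximality is not assumed). Ω is the set of cosets of `H`, so an element of `T` of prime order `r` (`x ∈ SU_4(p)` with `x^r` scalar, `x` not scalar) fixes a point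 of Ω exactly when some `SU_4(p)`-conjugate of `x` normalizes `R`. Let `r` be a prime dividing the index of `H`. Then every element of `T` of order `r` fixes a point of Ω if and only if `r = 2`, or `r = 3` and `p ≡ 1 (mod 3)`, or `r = 5` and `p ≡ ±2 (mod 5)` (`p` has multiplicative order 4 modulo 5). -/
theorem result {F : Type*} [Field F] [Fintype F] {p : ℕ} [Fact p.Prime] [CharP F p] (hF : Fintype.card F = p ^ 2) (hp4 : p % 4 = 3)
    (R : Subgroup (GL (Fin 4) F)) (hRs : Cfsg.Geo.IsSymplecticTypeGroup 2 R) (hRi : Cfsg.Geo.ActsAbsolutelyIrreducibly (Cfsg.Geo.matrixSet R))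
    (hRU : R ≤ Cfsg.GU 4 F p) (hR6 : Nat.card R = 2 ^ 6) (hRZ : Nat.card (Subgroup.center R) = 4)
    (r : ℕ) [Fact r.Prime]
    (hΩ : r ∣ (Cfsg.Geo.subgroupNormalizer R).relIndex (Cfsg.GU 4 F p ⊓ Cfsg.Geo.specialLinear (Fin 4) F)) :
    (∀ x ∈ Cfsg.GU 4 F p ⊓ Cfsg.Geo.specialLinear (Fin 4) F, (∃ z : F, ((x ^ r : GL (Fin 4) F) : Matrix (Fin 4) (Fin 4) F) = z • (1 : Matrix (Fin 4) (Fin 4) F)) →
      (∀ z : F, (x : Matrix (Fin 4) (Fin 4) F) ≠ z • (1 : Matrix (Fin 4) (Fin 4) F)) →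
      ∃ g ∈ Cfsg.GU 4 F p ⊓ Cfsg.Geo.specialLinear (Fin 4) F, g⁻¹ * x * g ∈ Cfsg.Geo.subgroupNormalizer R) ↔ (r = 2 ∨ (r = 3 ∧ p % 3 = 1) ∨ (r = 5 ∧ orderOf (p : ZMod 5) = 4)) := by
  classical
  have hp : p.Prime := Fact.out
  have hr : r.Prime := Fact.out
  have hp2 : p ≠ 2 := fun h => by rw [h] at hp4; norm_num at hp4
  have hnd : ∀ k, ¬ p ∣ 2 ^ k := fun k h => hp2 ((Nat.prime_dvd_prime_iff_eq hp Nat.prime_two).1 (hp.dvd_of_dvd_pow h))
  have hn5 : ¬ p ∣ 5 := fun h => by rw [(Nat.prime_dvd_prime_iff_eq hp (by norm_num)).1 h] at hp4; norm_num at hp4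
  have h2 : (2 : F) ≠ 0 := fun h => hnd 1 ((CharP.cast_eq_zero_iff F p _).1 (by simpa using h))
  have h5F : (5 : F) ≠ 0 := fun h => hn5 ((CharP.cast_eq_zero_iff F p _).1 (by simpa using h))
  have hd : Fintype.card (Fin 4) = 4 := Fintype.card_fin 4
  have hS : Sym R := Sym.of h2 hd hRs hRi inferInstance (by rw [hR6, hRZ]; norm_num)
  obtain ⟨E⟩ := exists_frame hS (hasFix_of_card_center hS hRZ)
  have hRA : ∀ g ∈ R, (adj hF).Iso g := fun g hg => (iso_iff hF).2 (hRU hg)
  set N := Cfsg.Geo.subgroupNormalizer R with hN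
  set G := Cfsg.GU 4 F p ⊓ Cfsg.Geo.specialLinear (Fin 4) F with hG
  have hscal : ∀ s : Fˣ, (scal s : GL (Fin 4) F) ∈ N := fun s => sc_mem_normalizer (scal_sc s)
  have hfix : ∀ u : F, u ^ p ^ 2 = u := fun u => by rw [← hF]; exact FiniteField.pow_card u
  have hpp : ∀ u : F, (u ^ p) ^ p = u := fun u => by rw [← pow_mul, ← pow_two]; exact hfix u
  have hmem : ∀ {x y : GL (Fin 4) F} {M : ℕ}, ¬ p ∣ M → x ∈ Cfsg.GU 4 F p → y ∈ Cfsg.GU 4 F p → y ∈ N → x ^ M = 1 →
      y ^ M = 1 → (x : Matrix (Fin 4) (Fin 4) F).charpoly = (y : Matrix (Fin 4) (Fin 4) F).charpoly →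
      ∃ g ∈ G, g⁻¹ * x * g ∈ N :=
    fun hM hx hy hyN hxm hym hc => by
      obtain ⟨g, hg, e⟩ := isConj_of_charpoly hF hM hx hy hxm hym hc
      exact ⟨g, hg, e ▸ hyN⟩
  have h8 : 8 ∣ p ^ 2 - 1 := by
    obtain ⟨m, rfl⟩ : ∃ m, p = 4 * m + 3 := ⟨p / 4, by omega⟩
    refine ⟨2 * m * m + 3 * m + 1, ?_⟩
    rw [show (4 * m + 3) ^ 2 = 8 * (2 * m * m + 3 * m + 1) + 1 by ring]
    omega
  constructor
  · intro h
    by_contra hneg
    push Not at hneg
    have hexp : ∀ x ∈ G, x ^ r = 1 → ¬ Sc x → ∃ g, g⁻¹ * x * g ∈ N :=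
      fun x hx hxr hxs => by
        obtain ⟨g, -, hg⟩ := h x hx ⟨1, by rw [hxr]; simp⟩ (fun z hz => hxs ⟨z, hz⟩)
        exact ⟨g, hg⟩
    rcases cases_prime hr with rfl | rfl | rfl | h7
    · exact hneg.1 rfl
    · by_cases hp3 : p = 3
      · have h30 : (3 : F) = 0 := by
          have := CharP.cast_eq_zero F p
          rw [hp3] at this; simpa using this
        have ht2 : (2 : F) ^ p = 2 := by rw [hp3]; linear_combination (2 : F) * h30
        obtain ⟨A, hA, hAt, hAU, hAs, hAx⟩ := exists_block hF h2 ht2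
        obtain ⟨u, w, huw⟩ := hAx rfl
        have hxs := embGL_not_sc (finSumFinEquiv (m := 2) (n := 2)).symm hA hAs
        have hx3 := embGL_pow (finSumFinEquiv (m := 2) (n := 2)).symm hA
          (cube_of_trace hA (hAt.trans (by linear_combination h30)))
        obtain ⟨g, hg⟩ := hexp _ (mem_iff.2 ⟨hAU, embGL_det _ hA⟩) hx3 hxs
        exact not_mem_three hS hx3 hxs (Or.inl (embGL_axial _ hA huw)) hg
      · have hn3 : ¬ p ∣ 3 := fun h => hp3 ((Nat.prime_dvd_prime_iff_eq hp Nat.prime_three).1 h)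
        have h3 : (3 : F) ≠ 0 := fun h => hn3 ((CharP.cast_eq_zero_iff F p _).1 (by simpa using h))
        have hp32 : p % 3 = 2 := by
          have h1 := hneg.2.1 rfl
          have h3' : p % 3 ≠ 0 := fun e => hp3 ((Nat.prime_dvd_prime_iff_eq Nat.prime_three hp).1 (Nat.dvd_of_mod_eq_zero e)).symm
          omega
        obtain ⟨w, hw⟩ := exists_prime_orderOf_dvd_card' (G := Fˣ) 3
          (by
            rw [Nat.card_units, Nat.card_eq_fintype_card, hF]
            refine (Nat.modEq_iff_dvd' (Nat.one_le_pow _ _ hp.pos)).1 ?_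
            show 1 % 3 = p ^ 2 % 3
            rw [Nat.pow_mod, hp32])
        have hw3 : (w : F) ^ 3 = 1 := by rw [← Units.val_pow_eq_pow_val, ← hw, pow_orderOf_eq_one, Units.val_one]
        have hw1 : (w : F) ≠ 1 := fun e => by
          rw [show w = 1 from Units.ext e, orderOf_one] at hw; norm_num at hw
        have hsum : 1 + (w : F) + (w : F) ^ 2 = 0 :=
          (mul_eq_zero.1 (show ((w : F) - 1) * (1 + (w : F) + (w : F) ^ 2) = 0 by linear_combination hw3)).resolve_left
            (sub_ne_zero.2 hw1)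
        have hwq : qFrob hF (w : F) = (w : F) ^ 2 := by
          rw [qFrob_apply]
          conv_lhs => rw [← Nat.div_add_mod p 3, pow_add, pow_mul, hw3, one_pow, one_mul, hp32]
        let x : GL (Fin 4) F :=
          ⟨Matrix.diagonal ![(w : F), (w : F), (w : F), 1], Matrix.diagonal ![(w : F) ^ 2, (w : F) ^ 2, (w : F) ^ 2, 1],
            by rw [Matrix.diagonal_mul_diagonal, ← Matrix.diagonal_one]; congr 1; funext i
               fin_cases i <;> simp <;> linear_combination hw3,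
            by rw [Matrix.diagonal_mul_diagonal, ← Matrix.diagonal_one]; congr 1; funext i
               fin_cases i <;> simp <;> linear_combination hw3⟩
        have hxG : x ∈ G := mem_iff.2 ⟨by
            rw [mem_GU_iff hF]
            show st hF (Matrix.diagonal _) * Matrix.diagonal _ = 1
            rw [st, Matrix.diagonal_map (map_zero _), Matrix.diagonal_transpose, Matrix.diagonal_mul_diagonal,
              ← Matrix.diagonal_one]
            congr 1; funext i
            fin_cases i <;> simp [hwq] <;> linear_combination hw3,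
          by simp [x, Matrix.det_diagonal, Fin.prod_univ_four]; linear_combination hw3⟩
        have hx3 : x ^ 3 = 1 := Units.ext (by
          rw [Units.val_pow_eq_pow_val, Units.val_one]
          show Matrix.diagonal _ ^ 3 = 1
          rw [Matrix.diagonal_pow, ← Matrix.diagonal_one]; congr 1; funext i
          fin_cases i <;> simp [hw3])
        have hxs : ¬ Sc x := by
          rintro ⟨t, ht⟩
          have e0 := congrFun (congrFun ht 0) 0
          have e3 := congrFun (congrFun ht 3) 3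
          simp [x] at e0 e3
          exact hw1 (e0.trans e3.symm)
        obtain ⟨g, hg⟩ := hexp x hxG hx3 hxs
        refine not_mem_three hS hx3 hxs (Or.inr ?_) hg
        have e : (x : Matrix (Fin 4) (Fin 4) F).trace * ((x⁻¹ : GL (Fin 4) F) : Matrix (Fin 4) (Fin 4) F).trace = 7 := by
          show (Matrix.diagonal _).trace * (Matrix.diagonal _).trace = 7
          simp [Matrix.trace_diagonal, Fin.sum_univ_four]
          linear_combination (3 : F) * hsum + 9 * hw3
        rw [e]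
        refine ⟨fun e1 => h2 ?_, fun e1 => h3 (by linear_combination e1)⟩
        exact (mul_eq_zero.1 (show (2 : F) * 3 = 0 by linear_combination e1)).resolve_right h3
    · have h5 : p % 5 = 0 ∨ p % 5 = 1 ∨ p % 5 = 4 := by
        by_contra hcon
        exact hneg.2.2 rfl (orderOf_four_iff.2 (by omega))
      obtain ⟨t, ht, htp⟩ := exists_golden (F := F) hp2 h5
      obtain ⟨A, hA, hAt, hAU, hAs, -⟩ := exists_block hF h2 htp
      have hxs := embGL_not_sc (finSumFinEquiv (m := 2) (n := 2)).symm hA hAs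
      have hx5 := embGL_pow (finSumFinEquiv (m := 2) (n := 2)).symm hA (five_of_trace hA hAt ht)
      obtain ⟨g, hg⟩ := hexp _ (mem_iff.2 ⟨hAU, embGL_det _ hA⟩) hx5 hxs
      refine not_mem_five hS hx5 hxs (Or.inr ?_) hg
      rw [embGL_trace, embGL_inv_trace, hAt]
      exact golden_ne ht h5F
    · obtain ⟨x, hx, hxr, hxs⟩ := exists_big hd (G := G) (fun u hu => (mem_iff.1 hu).2) h7
        (hΩ.trans (Subgroup.index_dvd_card _))
      obtain ⟨g, hg⟩ := hexp x hx hxr hxs
      exact not_mem_big hS h7 hxr hxs hg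
  · rintro hr' x hx ⟨z, hz⟩ hxns
    have hxs : ¬ Sc x := fun ⟨w, hw⟩ => hxns w hw
    obtain ⟨hxU, hxd⟩ := mem_iff.1 hx
    have hNz := norm_of_scalar hF (pow_mem hxU r) hz
    have hscU : ∀ (k : ℕ) (s : Fˣ), (s : F) = z ^ k → (scal s : GL (Fin 4) F) ∈ Cfsg.GU 4 F p := fun k s hs =>
      scal_mem hF s (by rw [hs, map_pow, ← mul_pow, hNz, one_pow])
    rcases hr' with rfl | ⟨rfl, hp3⟩ | ⟨rfl, h5⟩
    · have hxx : (x : Matrix (Fin 4) (Fin 4) F) * x = z • 1 := by rw [← Units.val_mul, ← pow_two]; exact hz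
      have hz4 : z ^ 4 = 1 := by
        have := congrArg Matrix.det hxx
        rw [Matrix.det_mul, hxd, one_mul, Matrix.det_smul, Matrix.det_one, mul_one, hd] at this
        exact this.symm
      have hz0 : z ≠ 0 := fun h => by simp [h] at hz4
      obtain ⟨s, hs⟩ : IsSquare z := by
        rw [FiniteField.isSquare_iff (fun h => hp2 (by rw [← ringChar.eq F p]; exact h)) hz0, hF]
        obtain ⟨k, hk⟩ := h8
        rw [show p ^ 2 / 2 = 4 * k by have := Nat.one_le_pow 2 p hp.pos; omega, pow_mul, hz4, one_pow]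
      have hs0 : s ≠ 0 := fun h => hz0 (by rw [hs, h, zero_mul])
      have hss : qFrob hF s * s = 1 ∨ qFrob hF s * s = -1 := mul_self_eq_one_iff.1 (by
        rw [mul_mul_mul_comm, ← map_mul, ← hs, hNz])
      set x' := scal (Units.mk0 s hs0)⁻¹ * x with hx'
      have hxx' : x' * x' = 1 := scal_inv_mul_sq (s := Units.mk0 s hs0) (by rw [hxx, hs]; rfl)
      have hxs' : ¬ Sc x' := not_sc_scal_mul hxs _
      rcases hss with hN1 | hN1
      · have hsU : (scal (Units.mk0 s hs0) : GL (Fin 4) F) ∈ Cfsg.GU 4 F p := scal_mem hF _ hN1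
        have hx'U : x' ∈ Cfsg.GU 4 F p := by
          refine mul_mem ?_ hxU
          rw [scal, map_inv]; exact inv_mem hsU
        obtain ⟨σ, y, hσ1, hyN, hyy, hσ, hc, hyi⟩ := rep_two hS E hRZ hxx' hxs'
        have hσU : (scal σ : GL (Fin 4) F) ∈ Cfsg.GU 4 F p := scal_mem hF _ (by
          rcases hσ1 with rfl | rfl <;> simp)
        obtain ⟨g, hg, hgN⟩ := hmem (M := 2 ^ 1) (hnd 1) (mul_mem hσU hx'U) ((iso_iff hF).1 (hyi _ hRA)) hyN
          (by rw [pow_one, pow_two, hσ]) (by rw [pow_one, pow_two, hyy]) hc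
        exact ⟨g, hg, mem_of_scal_conj hscal (mem_of_scal_conj hscal hgN)⟩
      · exfalso
        have hinv : ((x'⁻¹ : GL (Fin 4) F) : Matrix (Fin 4) (Fin 4) F) = (x' : Matrix (Fin 4) (Fin 4) F) :=
          congrArg Units.val (inv_eq_of_mul_eq_one_right hxx')
        have hτ : (adj hF).τ (x' : Matrix (Fin 4) (Fin 4) F) * (x' : Matrix (Fin 4) (Fin 4) F) = -1 := by
          rw [hx', Units.val_mul, coe_scal, Matrix.smul_mul, one_mul, (adj hF).smul, Matrix.smul_mul, Matrix.mul_smul,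
            (iso_iff hF).2 hxU, smul_smul, Units.val_inv_eq_inv_val, Units.val_mk0, map_inv₀]
          show ((qFrob hF s)⁻¹ * s⁻¹) • _ = _
          rw [← mul_inv, hN1, inv_neg, inv_one, neg_one_smul]
        have hτx : (adj hF).τ (x' : Matrix (Fin 4) (Fin 4) F) = -(x' : Matrix (Fin 4) (Fin 4) F) := by
          calc _ = (adj hF).τ (x' : Matrix (Fin 4) (Fin 4) F) * ((x' : Matrix (Fin 4) (Fin 4) F) * x') := by
                rw [← Units.val_mul, hxx', Units.val_one, mul_one]
            _ = _ := by rw [← mul_assoc, hτ, neg_one_mul]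
        have htr : qFrob hF (x' : Matrix (Fin 4) (Fin 4) F).trace = -(x' : Matrix (Fin 4) (Fin 4) F).trace := by
          rw [← Matrix.trace_neg, ← hτx]
          show _ = ((x' : Matrix (Fin 4) (Fin 4) F).map (qFrob hF))ᵀ.trace
          rw [Matrix.trace_transpose]
          exact AddMonoidHom.map_trace (qFrob hF).toAddMonoidHom _
        rcases invol_trace h2 hd (one_sq hxx') hxs' with ⟨hdd, -⟩ | ⟨-, ht⟩
        · rw [hx', scal_mul_det hd, hxd, mul_one, Units.val_inv_eq_inv_val, Units.val_mk0, inv_pow, inv_eq_one,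
            show s ^ 4 = (s * s) * (s * s) by ring, ← hs] at hdd
          rcases mul_self_eq_one_iff.1 hdd with rfl | rfl
          · rcases mul_self_eq_one_iff.1 hs.symm with rfl | rfl
            · rw [map_one, one_mul] at hN1; exact h2 (by linear_combination hN1)
            · rw [map_neg, map_one] at hN1; exact h2 (by linear_combination hN1)
          · have e : qFrob hF s * s = (s * s) ^ ((p + 1) / 2) := by
              rw [qFrob_apply, ← pow_succ, ← pow_two s, ← pow_mul, show 2 * ((p + 1) / 2) = p + 1 by omega]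
            rw [e, ← hs, Even.neg_one_pow (by rw [Nat.even_iff]; omega)] at hN1
            exact h2 (by linear_combination hN1)
        · rcases ht with ht | ht <;> rw [ht] at htr <;> simp [map_ofNat] at htr
          · exact h2 ((mul_eq_zero.1 (show (2 : F) * 2 = 0 by linear_combination htr)).elim id id)
          · exact h2 ((mul_eq_zero.1 (show (2 : F) * 2 = 0 by linear_combination -htr)).elim id id)
    · have hn3 : ¬ p ∣ 3 := fun h => by rw [(Nat.prime_dvd_prime_iff_eq hp Nat.prime_three).1 h] at hp3; norm_num at hp3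
      have h3 : (3 : F) ≠ 0 := fun h => hn3 ((CharP.cast_eq_zero_iff F p _).1 (by simpa using h))
      have hp5' : 5 ≤ p := by have := hp.two_le; omega
      obtain ⟨hz4, s, hs, hsx⟩ := exists_reduce hd (r := 3) hz hxd (k := 1) (by norm_num)
      have hsU := mul_mem (hscU 1 s hs) hxU
      have htr : ∀ u : GL (Fin 4) F, u ∈ Cfsg.GU 4 F p → u ^ 3 = 1 →
          ((u⁻¹ : GL (Fin 4) F) : Matrix (Fin 4) (Fin 4) F).trace = (u : Matrix (Fin 4) (Fin 4) F).trace :=
        fun u hu hu3 => (trace_inv hF hu).trans ((trace_pow_three (p := p) h3 hu3).1 hp3)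
      obtain ⟨hcase, hcls⟩ := charpoly_three hd hp5' hsx (htr _ hsU hsx) (not_sc_scal_mul hxs s)
      obtain ⟨y, hyN, hy3, -, hyt, hys, hyi⟩ := rep_three hS E hRZ h3 hcase
      have hyU := (iso_iff hF).1 (hyi _ hRA)
      obtain ⟨g, hg, hgN⟩ := hmem hn3 hsU hyU hyN hsx hy3 (hcls hy3 (htr _ hyU hy3) hys hyt.symm)
      exact ⟨g, hg, mem_of_scal_conj hscal hgN⟩
    · rw [orderOf_four_iff] at h5
      obtain ⟨hz4, s, hs, hsx⟩ := exists_reduce hd (r := 5) hz hxd (k := 3) (by norm_num)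
      have hsU := mul_mem (hscU 3 s hs) hxU
      obtain ⟨y, hyN, hys, hy5, -, hyi⟩ := exists_five hS E
      have hyU := (iso_iff hF).1 (hyi _ hRA)
      obtain ⟨g, hg, hgN⟩ := hmem hn5 hsU hyU hyN hsx hy5 (charpoly_five hd h5 hp2 hfix hsx hy5
        (Or.inr (trace_inv hF hsU).symm) (Or.inr (trace_inv hF hyU).symm) (not_sc_scal_mul hxs s) hys)
      exact ⟨g, hg, mem_of_scal_conj hscal hgN⟩

end Cfsg.Agent.S6001
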