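import Cfsg.Statements.S6002
import Cfsg.Agent.Lib.Classical.CliffordFourElusive
-- import your own Cfsg.Agent.* helpers here

set_option autoImplicit false
open scoped MatrixGroups
open Cfsg

namespace Cfsg.Agent.S6002

open Matrix Cfsg.Agent.Classical.CliffordFour

local notation "I4" => Fin 2 ⊕ Fin 2

variable {F : Type*} [Field F]

/-- The adjoint for the symplectic form. -/
def adj : Adj F I4 where
  σ := RingHom.id F
  τ M := -(Matrix.J (Fin 2) F * Mᵀ * Matrix.J (Fin 2) F)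
  add M M' := by rw [Matrix.transpose_add, mul_add, add_mul, neg_add]
  mul M M' := by
    rw [Matrix.transpose_mul, neg_mul_neg]
    calc -(Matrix.J (Fin 2) F * (M'ᵀ * Mᵀ) * Matrix.J (Fin 2) F)
        = Matrix.J (Fin 2) F * M'ᵀ * (Matrix.J (Fin 2) F * Matrix.J (Fin 2) F) * Mᵀ * Matrix.J (Fin 2) F := by
          rw [Matrix.J_squared]; simp [mul_assoc]
      _ = _ := by simp only [mul_assoc]
  smul s M := by rw [Matrix.transpose_smul, Matrix.mul_smul, Matrix.smul_mul, RingHom.id_apply, smul_neg]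
  one := by rw [Matrix.transpose_one, mul_one, Matrix.J_squared, neg_neg]
  det M := by
    rw [Matrix.det_neg, Matrix.det_mul, Matrix.det_mul, Matrix.det_transpose, RingHom.id_apply,
      SymplecticGroup.det_eq_one (SymplecticGroup.J_mem (Fin 2) F)]
    simp [show ((-1 : F)) ^ 4 = 1 by ring]

theorem mem_iff {g : GL I4 F} : g ∈ Cfsg.spGL 2 F ↔ (g : Matrix I4 I4 F) ∈ Matrix.symplecticGroup (Fin 2) F :=
  Classical.mem_symplecticGroup_iff_form.symm

theorem iso_of_mem {g : GL I4 F} (hg : g ∈ Cfsg.spGL 2 F) : adj.Iso g := by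
  show -(Matrix.J (Fin 2) F * (g : Matrix I4 I4 F)ᵀ * Matrix.J (Fin 2) F) * (g : Matrix I4 I4 F) = 1
  rw [neg_mul, mul_assoc, mul_assoc, ← mul_assoc (g : Matrix I4 I4 F)ᵀ, SymplecticGroup.mem_iff'.1 (mem_iff.1 hg),
    Matrix.J_squared, neg_neg]

theorem mem_of_iso {g : GL I4 F} (hg : adj.Iso g) : g ∈ Cfsg.spGL 2 F := by
  change -(Matrix.J (Fin 2) F * (g : Matrix I4 I4 F)ᵀ * Matrix.J (Fin 2) F) * (g : Matrix I4 I4 F) = 1 at hg
  rw [mem_iff, SymplecticGroup.mem_iff']
  calc (g : Matrix I4 I4 F)ᵀ * Matrix.J (Fin 2) F * g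
      = Matrix.J (Fin 2) F * (-(Matrix.J (Fin 2) F * (g : Matrix I4 I4 F)ᵀ * Matrix.J (Fin 2) F) * g) := by
        rw [mul_assoc (Matrix.J (Fin 2) F), neg_mul, mul_neg, mul_assoc (Matrix.J (Fin 2) F), ← mul_assoc (Matrix.J (Fin 2) F) (Matrix.J (Fin 2) F),
          Matrix.J_squared, neg_one_mul, neg_neg]
    _ = _ := by rw [hg, mul_one]

theorem trace_inv {g : GL I4 F} (hg : g ∈ Cfsg.spGL 2 F) :
    ((g⁻¹ : GL I4 F) : Matrix I4 I4 F).trace = (g : Matrix I4 I4 F).trace := by
  rw [← adj.τ_eq_inv (iso_of_mem hg)]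
  show (-(Matrix.J (Fin 2) F * (g : Matrix I4 I4 F)ᵀ * Matrix.J (Fin 2) F)).trace = _
  rw [Matrix.trace_neg, Matrix.trace_mul_cycle, Matrix.J_squared, neg_one_mul, Matrix.trace_neg, neg_neg,
    Matrix.trace_transpose]

theorem det_one {g : GL I4 F} (hg : g ∈ Cfsg.spGL 2 F) : (g : Matrix I4 I4 F).det = 1 :=
  SymplecticGroup.det_eq_one (mem_iff.1 hg)

/-- The coordinates of a hyperbolic plane and its complement. -/
def swapMid : I4 ≃ Fin 2 ⊕ Fin 2 where
  toFun := Sum.elim ![Sum.inl 0, Sum.inr 0] ![Sum.inl 1, Sum.inr 1]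
  invFun := Sum.elim ![Sum.inl 0, Sum.inr 0] ![Sum.inl 1, Sum.inr 1]
  left_inv := by decide
  right_inv := by decide

theorem embGL_mem {A : Matrix (Fin 2) (Fin 2) F} (hA : A.det = 1) : embGL swapMid A hA ∈ Cfsg.spGL 2 F := by
  have hd : A 0 0 * A 1 1 - A 0 1 * A 1 0 = 1 := by rw [← Matrix.det_fin_two]; exact hA
  rw [mem_iff, SymplecticGroup.mem_iff', coe_embGL]
  ext i j
  rcases i with i | i <;> rcases j with j | j <;> fin_cases i <;> fin_cases j <;>
    simp [emb, swapMid, Matrix.J, Matrix.mul_apply, Fintype.sum_sum_type, Fin.sum_univ_two, Matrix.fromBlocks] <;>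
    first | linear_combination hd | linear_combination -hd | ring1

theorem isConj_of_charpoly [Fintype F] {p : ℕ} [Fact p.Prime] [CharP F p] {M : ℕ} (hM : ¬ p ∣ M) {x y : GL I4 F}
    (hx : x ∈ Cfsg.spGL 2 F) (hy : y ∈ Cfsg.spGL 2 F) (hxm : x ^ M = 1) (hym : y ^ M = 1)
    (hc : (x : Matrix I4 I4 F).charpoly = (y : Matrix I4 I4 F).charpoly) : ∃ g ∈ Cfsg.spGL 2 F, g⁻¹ * x * g = y := by
  have hcop : ∀ A : Matrix.symplecticGroup (Fin 2) F, A ^ M = 1 → (orderOf A).Coprime p := fun A hA =>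
    Nat.Coprime.coprime_dvd_left (orderOf_dvd_of_pow_eq_one hA)
      ((Fact.out : p.Prime).coprime_iff_not_dvd.2 hM).symm
  let A : Matrix.symplecticGroup (Fin 2) F := ⟨_, mem_iff.1 hx⟩
  let B : Matrix.symplecticGroup (Fin 2) F := ⟨_, mem_iff.1 hy⟩
  obtain ⟨c, hc'⟩ := isConj_iff.1 (SympSemisimpleClasses.symp_isConj_of_charpoly B A
    (hcop B (Subtype.ext ((SubmonoidClass.coe_pow B M).trans ((Units.val_pow_eq_pow_val y M).symm.trans (congrArg Units.val hym)))))
    (hcop A (Subtype.ext ((SubmonoidClass.coe_pow A M).trans ((Units.val_pow_eq_pow_val x M).symm.trans (congrArg Units.val hxm))))) hc.symm)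
  let g : GL I4 F := ⟨(c : Matrix I4 I4 F), ((c⁻¹ : Matrix.symplecticGroup (Fin 2) F) : Matrix I4 I4 F),
    by rw [← Submonoid.coe_mul, mul_inv_cancel]; rfl, by rw [← Submonoid.coe_mul, inv_mul_cancel]; rfl⟩
  refine ⟨g, mem_iff.2 c.2, ?_⟩
  have e : g * y = x * g := Units.ext (by
    have h := congrArg Subtype.val (mul_inv_eq_iff_eq_mul.1 hc')
    exact h)
  rw [mul_assoc, ← e, inv_mul_cancel_left]

/-- Elements of prime order of PSp_4(p), p odd, and the normalizer of an extraspecial 2-group of order 2⁵ of minus type. Here `T = PSp_4(F)` for the field `F` with `p` elements, `p` an odd prime, realised through the matrices preserving the standard alternating form `f`; `R` is an absolutely irreducible subgroup of `T` (it preserves `f`) that is a 2-group of symplectic type of exponent 4, order 2⁵ and centre of order 2, of minus type (no elementary abelian subgroup of order 2³), and `H` is the subgroup of `T` normalizing `R` — a subgroup of type 2^{1+4}.O₄⁻(2)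 (maximality is not assumed). Ω is the set of cosets of `H` in `T`, so an element of `T` of prime order `r` (`x ∈ T` with `x^r` scalar, `x` not scalar) fixes a point of Ω exactly when some `T`-conjugate of `x` normalizes `R`. Let `r` be a prime dividing the index of `H`. Then every element of `T` of order `r` fixes a point of Ω if and only if `r = 2`, or `r = 5` and `p` has multiplicative order 4 modulo 5. -/
theorem result {F : Type*} [Field F] [Fintype F] {p : ℕ} [Fact p.Prime] [CharP F p] (hF : Fintype.card F = p) (hodd : Odd p)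
    (R : Subgroup (GL (Fin 2 ⊕ Fin 2) F)) (hRs : Cfsg.Geo.IsSymplecticTypeGroup 2 R) (hRi : Cfsg.Geo.ActsAbsolutelyIrreducibly (Cfsg.Geo.matrixSet R))
    (hRf : R ≤ Cfsg.spGL 2 F) (hR5 : Nat.card R = 2 ^ 5) (hRZ : Nat.card (Subgroup.center R) = 2) (hRm : Cfsg.Geo.IsOfMinusType 2 R)
    (r : ℕ) [Fact r.Prime]
    (hΩ : r ∣ (Cfsg.Geo.subgroupNormalizer R).relIndex (Cfsg.spGL 2 F)) :
    (∀ x ∈ Cfsg.spGL 2 F, (∃ z : F, ((x ^ r : GL (Fin 2 ⊕ Fin 2) F) : Matrix (Fin 2 ⊕ Fin 2) (Fin 2 ⊕ Fin 2) F) = z • (1 : Matrix (Fin 2 ⊕ Fin 2) (Fin 2 ⊕ Fin 2) F)) →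
      (∀ z : F, (x : Matrix (Fin 2 ⊕ Fin 2) (Fin 2 ⊕ Fin 2) F) ≠ z • (1 : Matrix (Fin 2 ⊕ Fin 2) (Fin 2 ⊕ Fin 2) F)) →
      ∃ g ∈ Cfsg.spGL 2 F, g⁻¹ * x * g ∈ Cfsg.Geo.subgroupNormalizer R) ↔ (r = 2 ∨ (r = 5 ∧ orderOf (p : ZMod 5) = 4)) := by
  classical
  have hp : p.Prime := Fact.out
  have hr : r.Prime := Fact.out
  have hp2 : p ≠ 2 := fun h => by rw [h] at hodd; exact absurd hodd (by decide)
  have hnd : ∀ k, ¬ p ∣ 2 ^ k := fun k h => hp2 ((Nat.prime_dvd_prime_iff_eq hp Nat.prime_two).1 (hp.dvd_of_dvd_pow h))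
  have h2 : (2 : F) ≠ 0 := fun h => hnd 1 ((CharP.cast_eq_zero_iff F p _).1 (by simpa using h))
  have hd : Fintype.card I4 = 4 := by simp
  have hS : Sym R := Sym.of h2 hd hRs hRi inferInstance (by rw [hR5, hRZ]; norm_num)
  obtain ⟨E⟩ := exists_frame hS (hasFix_of_minus hS hRm)
  set N := Cfsg.Geo.subgroupNormalizer R with hN
  have hscal : ∀ s : Fˣ, (scal s : GL I4 F) ∈ N := fun s => sc_mem_normalizer (scal_sc s)
  have hmem : ∀ {x y : GL I4 F} {M : ℕ}, ¬ p ∣ M → x ∈ Cfsg.spGL 2 F → y ∈ Cfsg.spGL 2 F → y ∈ N → x ^ M = 1 → y ^ M = 1 →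
      (x : Matrix I4 I4 F).charpoly = (y : Matrix I4 I4 F).charpoly → ∃ g ∈ Cfsg.spGL 2 F, g⁻¹ * x * g ∈ N :=
    fun hM hx hy hyN hxm hym hc => by
      obtain ⟨g, hg, e⟩ := isConj_of_charpoly (p := p) hM hx hy hxm hym hc
      exact ⟨g, hg, e ▸ hyN⟩
  have hpow : ∀ u : F, u ^ p = u := fun u => by rw [← hF]; exact FiniteField.pow_card u
  constructor
  · intro h
    by_contra hneg
    push Not at hneg
    have hexp : ∀ x ∈ Cfsg.spGL 2 F, x ^ r = 1 → ¬ Sc x → ∃ g, g⁻¹ * x * g ∈ N := fun x hx hxr hxs => by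
      obtain ⟨g, -, hg⟩ := h x hx ⟨1, by rw [hxr]; simp⟩ (fun z hz => hxs ⟨z, hz⟩)
      exact ⟨g, hg⟩
    have hnsA : ∀ (t : F) (z : F), (!![0, -1; 1, t] : Matrix (Fin 2) (Fin 2) F) ≠ z • 1 := fun t z e => by
      simpa using congrFun (congrFun e 1) 0
    have hdA : ∀ t : F, (!![0, -1; 1, t] : Matrix (Fin 2) (Fin 2) F).det = 1 := fun t => by simp [Matrix.det_fin_two]
    have hax : ∀ t : F, t = 2 → Axial (embGL swapMid _ (hdA t) : GL I4 F) := fun t ht =>
      embGL_axial swapMid (hdA t) (u := ![-1, 1]) (w := ![1, 1]) (by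
        ext i j; fin_cases i <;> fin_cases j <;> simp [Matrix.vecMulVec, ht]; norm_num)
    rcases cases_prime hr with rfl | rfl | rfl | h7
    · exact hneg.1 rfl
    · -- order three
      set x : GL I4 F := embGL swapMid _ (hdA (-1))
      have hxt : (x : Matrix I4 I4 F).trace = 1 ∧ ((x⁻¹ : GL I4 F) : Matrix I4 I4 F).trace = 1 := by
        rw [embGL_trace, embGL_inv_trace, Matrix.trace_fin_two]
        norm_num
      have hxs : ¬ Sc x := embGL_not_sc _ _ (hnsA _)
      have hx3 : x ^ 3 = 1 := embGL_pow _ _ (cube_of_trace (hdA _) (by simp [Matrix.trace_fin_two]))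
      obtain ⟨g, hg⟩ := hexp x (embGL_mem _) hx3 hxs
      refine not_mem_three_minus hS E hRZ hx3 hxs ?_ hg
      by_cases hp3 : (3 : F) = 0
      · exact Or.inl (hax _ (by linear_combination -hp3))
      · exact Or.inr (by rw [hxt.1, hxt.2]; exact fun e => hp3 (by linear_combination -e))
    · -- order five
      have h5 : p % 5 = 0 ∨ p % 5 = 1 ∨ p % 5 = 4 := by
        by_contra hcon
        exact hneg.2 rfl (orderOf_four_iff.2 (by omega))
      obtain ⟨t, ht, -⟩ := exists_golden (F := F) hp2 h5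
      set x : GL I4 F := embGL swapMid _ (hdA t)
      have hxs : ¬ Sc x := embGL_not_sc _ _ (hnsA _)
      have hx5 : x ^ 5 = 1 := embGL_pow _ _ (five_of_trace (hdA _) (t := t) (by simp [Matrix.trace_fin_two]) ht)
      obtain ⟨g, hg⟩ := hexp x (embGL_mem _) hx5 hxs
      refine not_mem_five hS hx5 hxs ?_ hg
      by_cases hp5 : (5 : F) = 0
      · refine Or.inl (hax _ ?_)
        exact sub_eq_zero.1 ((pow_eq_zero_iff two_ne_zero).1
          (show (t - 2) ^ 2 = 0 by linear_combination ht + (1 - t) * hp5))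
      · refine Or.inr ?_
        rw [embGL_trace, embGL_inv_trace, Matrix.trace_fin_two]
        simpa using golden_ne ht hp5
    · obtain ⟨x, hx, hxr, hxs⟩ := exists_big hd (G := Cfsg.spGL 2 F) (fun u hu => det_one hu) h7
        (hΩ.trans (Subgroup.index_dvd_card _))
      obtain ⟨g, hg⟩ := hexp x hx hxr hxs
      exact not_mem_big hS h7 hxr hxs hg
  · rintro hr' x hx ⟨z, hz⟩ hxns
    have hxs : ¬ Sc x := fun ⟨w, hw⟩ => hxns w hw
    rcases hr' with rfl | ⟨rfl, h5⟩
    · have hxx : (x : Matrix I4 I4 F) * x = z • 1 := by rw [← Units.val_mul, ← pow_two]; exact hz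
      have hz2 : z * z = 1 := by
        have h1 := iso_of_mem (pow_mem hx 2)
        rw [Adj.Iso, hz, adj.smul, adj.one, Matrix.smul_mul, one_mul, smul_smul] at h1
        simpa [adj] using congrFun (congrFun h1 (Sum.inl 0)) (Sum.inl 0)
      have hz4 : z ^ 4 = 1 := by linear_combination (z * z + 1) * hz2
      rcases mul_self_eq_one_iff.1 hz2 with rfl | rfl
      · rcases invol_trace h2 hd hxx hxs with ⟨-, ht⟩ | ⟨hdd, -⟩
        · have haa : (E.a : Matrix I4 I4 F) * E.a = (1 : F) • 1 := by rw [← Units.val_mul, E.aa]; simp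
          refine hmem (M := 2 ^ 1) (hnd 1) hx (hRf E.ha) (Subgroup.le_normalizer E.ha)
            (by rw [pow_one, pow_two]; exact Units.ext (by simpa using hxx))
            (by rw [pow_one, pow_two, E.aa]) (charpoly_two h2 hd (one_pow 4) hxx haa ?_ ?_)
          · rw [ht, hS.trace_zero' E.ha (hS.not_sc_of_anti E.ab)]
          · rw [det_one hx, det_one (hRf E.ha)]
        · rw [det_one hx] at hdd
          exact absurd hdd fun e => h2 (by linear_combination e)
      · have hcc : (E.c : Matrix I4 I4 F) * E.c = (-1 : F) • 1 := by rw [← Units.val_mul, E.cc]; simp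
        have hxq : x * x = -1 := Units.ext (by simpa using hxx)
        refine hmem (M := 2 ^ 2) (hnd 2) hx (hRf E.hc) (Subgroup.le_normalizer E.hc)
          (by rw [show x ^ (2 ^ 2) = x * x * (x * x) by rw [show (2 : ℕ) ^ 2 = 2 * 2 from rfl, pow_mul, pow_two, pow_two], hxq]; simp)
          (by rw [show E.c ^ (2 ^ 2) = E.c * E.c * (E.c * E.c) by rw [show (2 : ℕ) ^ 2 = 2 * 2 from rfl, pow_mul, pow_two, pow_two], E.cc]; simp)
          (charpoly_two h2 hd (by norm_num) hxx hcc ?_ ?_)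
        · rw [hS.trace_zero' E.hc (hS.not_sc_of_anti E.cd)]
          have e := trace_inv hx
          rw [inv_eq_of_mul_eq_one_right (show x * -x = 1 by rw [mul_neg, hxq, neg_neg]), Units.val_neg,
            Matrix.trace_neg] at e
          exact (mul_eq_zero.1 (show (2 : F) * (x : Matrix I4 I4 F).trace = 0 by linear_combination -e)).resolve_left h2
        · rw [det_one hx, det_one (hRf E.hc)]
    · rw [orderOf_four_iff] at h5
      have hn5 : ¬ p ∣ 5 := fun h => by have := (Nat.prime_dvd_prime_iff_eq hp (by norm_num)).1 h; omega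
      obtain ⟨hz4, s, hs, hsx⟩ := exists_reduce hd (r := 5) hz (det_one hx) (k := 3) (by norm_num)
      obtain ⟨y, hyN, hys, hy5, -, hyi⟩ := exists_five hS E
      have hy : y ∈ Cfsg.spGL 2 F := mem_of_iso (hyi adj fun g hg => iso_of_mem (hRf hg))
      have hsm : (scal s * x) ∈ Cfsg.spGL 2 F := by
        refine mul_mem (mem_of_iso ?_) hx
        rw [Adj.Iso, coe_scal, adj.smul, adj.one, Matrix.smul_mul, one_mul, smul_smul]
        have hz2 : z * z = 1 := by
          have h1 := iso_of_mem (pow_mem hx 5)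
          rw [Adj.Iso, hz, adj.smul, adj.one, Matrix.smul_mul, one_mul, smul_smul] at h1
          simpa [adj] using congrFun (congrFun h1 (Sum.inl 0)) (Sum.inl 0)
        show ((s : F) * (s : F)) • _ = _
        rw [hs, show z ^ 3 * z ^ 3 = (1 : F) by linear_combination ((z * z) ^ 2 + z * z + 1) * hz2, one_smul]
      have hfix : ∀ u : F, u ^ p ^ 2 = u := fun u => by rw [pow_two, pow_mul, hpow, hpow]
      have hns' := not_sc_scal_mul hxs s
      obtain ⟨g, hg, hgN⟩ := hmem hn5 hsm hy hyN hsx hy5 (charpoly_five hd h5 hp2 hfix hsx hy5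
        (Or.inl (hpow _)) (Or.inl (hpow _)) hns' hys)
      exact ⟨g, hg, mem_of_scal_conj hscal hgN⟩

end Cfsg.Agent.S6002
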